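import Mathlib
import Cfsg.Prelude.Def_LocalEven
import Cfsg.Prelude.Def_Local
import Cfsg.Agent.Lib.Helper7.PMinimalStructure
import Cfsg.Agent.Lib.Helper7.ParabolicChar2
import Cfsg.Agent.Lib.Helper7.StrEmb6
import Cfsg.Agent.H2.QuasisimplePRes
import Cfsg.Agent.H2.Layer
import Cfsg.Agent.H2.Components
import Cfsg.Agent.H2.Equivariant
import Cfsg.Agent.S0023
import Cfsg.Agent.Lib.Helper7.ZStarMinimal

set_option autoImplicit false

namespace Cfsg.Agent.Lib.Helper7

open Cfsg Cfsg.Agent.Lib.Lead.Conj Cfsg.Agent.H2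
open scoped Pointwise commutatorElement

section pmincomp

variable {P : Type*} [Group P] [Finite P] {p : ℕ} [Fact p.Prime]
  (S : Sylow p P) (M : Subgroup P) (hSM : PMinAt (S : Subgroup P) M) (hOp : pCore p P = ⊥)

include hSM hOp in
theorem PMinAt.normalCore_coprime : (Nat.card ↥M.normalCore).Coprime p := by
  have hp : p.Prime := Fact.out
  haveI hFn : M.normalCore.Normal := Subgroup.normalCore_normal M
  have hQ : IsSylowIn p ((S : Subgroup P) ⊓ M.normalCore) M.normalCore :=
    (IsSylowIn.of_sylow_top S).inf_normal M.normalCore le_top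
      (by rw [Subgroup.normalizer_eq_top_iff.mpr hFn])
  have hbot : (S : Subgroup P) ⊓ M.normalCore = ⊥ := by
    rw [← le_bot_iff, ← hOp, inf_comm]; exact hSM.normalCore_inf_le_pCore S M
  have h2 := hQ.2
  rw [hbot, Subgroup.card_bot] at h2
  have h3 : (Nat.card ↥M.normalCore).factorization p = 0 := by
    by_contra hne
    have : 1 < p ^ (Nat.card ↥M.normalCore).factorization p := Nat.one_lt_pow hne hp.one_lt
    omega
  rcases (Nat.factorization_eq_zero_iff _ _).mp h3 with h | h | h
  · exact absurd hp h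
  · exact ((Nat.Prime.coprime_iff_not_dvd hp).mpr h).symm
  · exact absurd h Nat.card_pos.ne'

include hSM hOp in
theorem PMinAt.normalCore_isNilpotent : Group.IsNilpotent ↥M.normalCore := by
  haveI hFn : M.normalCore.Normal := Subgroup.normalCore_normal M
  have hcop := hSM.normalCore_coprime S M hOp
  apply ((Group.isNilpotent_of_finite_tfae (G := ↥M.normalCore)).out 0 3).mpr
  intro r hr R
  haveI := hr
  obtain ⟨R₀, hR₀⟩ := Cfsg.Agent.S0023.result (S : Subgroup P) M.normalCore
    (by rw [Subgroup.normalizer_eq_top_iff.mpr hFn]; exact le_top)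
    (by
      obtain ⟨k, hk⟩ := S.2.exists_card_eq
      rw [hk]; exact Nat.Coprime.pow_left k hcop.symm)
    (Or.inl (by haveI := S.2.isNilpotent; infer_instance)) r
  have hfr := Sylow.normalizer_sup_eq_top R₀
  have hNtop : Subgroup.normalizer
      (((R₀ : Subgroup ↥M.normalCore).map M.normalCore.subtype : Subgroup P) : Set P) = ⊤ := by
    by_contra hne
    have h1 := hSM.2.2 _ hR₀ hne
    apply hSM.1
    rw [eq_top_iff, ← hfr]
    exact sup_le h1 (Subgroup.normalCore_le M)
  have hR₀n : (R₀ : Subgroup ↥M.normalCore).Normal := by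
    have h1 : ((R₀ : Subgroup ↥M.normalCore).map M.normalCore.subtype).Normal :=
      Subgroup.normalizer_eq_top_iff.mp hNtop
    have h2 : (R₀ : Subgroup ↥M.normalCore) =
        ((R₀ : Subgroup ↥M.normalCore).map M.normalCore.subtype).subgroupOf M.normalCore :=
      (Subgroup.comap_map_eq_self_of_injective M.normalCore.subtype_injective _).symm
    rw [h2]
    exact h1.subgroupOf _
  obtain ⟨g, rfl⟩ := MulAction.exists_smul_eq ↥M.normalCore R₀ R
  rw [Sylow.smul_eq_of_normal]; exact hR₀n

include hSM hOp in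
theorem PMinAt.not_le_normalCore_of_not_isSolvable (K : Subgroup P) (hK : ¬ Group.IsSolvable ↥K) :
    ¬ K ≤ M.normalCore := by
  intro hle
  haveI := hSM.normalCore_isNilpotent S M hOp
  have h1 : Group.IsNilpotent ↥(K.subgroupOf M.normalCore) := inferInstance
  have h2 : Group.IsNilpotent ↥K := Group.nilpotent_of_mulEquiv (Subgroup.subgroupOfEquivOfLe hle)
  exact hK inferInstance

include hSM hOp in
theorem PMinAt.component_not_le_normalCore (K : Subgroup P) (hK : IsComponent K) :
    ¬ K ≤ M.normalCore :=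
  hSM.not_le_normalCore_of_not_isSolvable S M hOp K (quasisimple_not_isSolvable hK.2)

include hSM hOp in
theorem PMinAt.pResidual_eq_layer (K : Subgroup P) (hK : IsComponent K) :
    pResidual p P = layer P := by
  haveI : (layer P).Normal := layer_normal
  apply le_antisymm
  · rcases hSM.pResidual_le_or_le S M (Subgroup.normalClosure (K : Set P))
      Subgroup.normalClosure_normal with h | h
    · exact h.trans (Subgroup.normalClosure_le_normal (component_le_layer hK))
    · exact absurd (Subgroup.le_normalClosure.trans h)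
        (hSM.component_not_le_normalCore S M hOp K hK)
  · exact layer_le_iff.mpr
      (fun L hL => QsPRes.perfect_le_pResidual L (quasisimple_commutator_eq hL.2))

include hSM hOp in
theorem PMinAt.fittingSubgroup_le_pResidual (K : Subgroup P) (hK : IsComponent K) :
    fittingSubgroup P ≤ pResidual p P := by
  apply sSup_le
  rintro N ⟨hNn, hNnil⟩
  rcases hSM.pResidual_le_or_le S M N hNn with h | h
  · exfalso
    have hKN : K ≤ N := (component_le_layer hK).trans
      ((hSM.pResidual_eq_layer S M hOp K hK).symm.le.trans h)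
    have h1 : Group.IsNilpotent ↥(K.subgroupOf N) := inferInstance
    have h2 : Group.IsNilpotent ↥K := Group.nilpotent_of_mulEquiv (Subgroup.subgroupOfEquivOfLe hKN)
    exact quasisimple_not_isSolvable hK.2 inferInstance
  · apply QsPRes.le_pResidual_of_card_coprime
    exact Nat.Coprime.coprime_dvd_left (Subgroup.card_dvd_of_le h) (hSM.normalCore_coprime S M hOp)

include hSM hOp in
theorem PMinAt.layer_eq_conjClosure (K : Subgroup P) (hK : IsComponent K) :
    layer P = conjClosure K (S : Subgroup P) := by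
  apply le_antisymm
  · have hXsub : (conjClosure K (S : Subgroup P)).IsSubnormal := by
      rw [conjClosure, ← sSup_range]
      apply Cfsg.Agent.Lib.Lead.Subnormal.sSup_isSubnormal
      rintro U ⟨s, rfl⟩
      exact hK.1.map (f := (MulAut.conj (s : P)).toMonoidHom) (MulAut.conj (s : P)).surjective
    have hSX := le_normalizer_conjClosure K (S : Subgroup P)
    have hLX : layer P ≤ Subgroup.normalizer (conjClosure K (S : Subgroup P) : Set P) :=
      layer_le_normalizer_of_isSubnormal hXsub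
    have hXn : (conjClosure K (S : Subgroup P)).Normal := by
      apply Subgroup.normalizer_eq_top_iff.mp
      rw [eq_top_iff, ← Cfsg.Agent.Lib.Lead.PResidual.sup_eq_top (S : Subgroup P) S.not_dvd_index,
        hSM.pResidual_eq_layer S M hOp K hK]
      exact sup_le hSX hLX
    rcases hSM.pResidual_le_or_le S M _ hXn with h | h
    · rw [← hSM.pResidual_eq_layer S M hOp K hK]; exact h
    · exact absurd ((le_conjClosure K (S : Subgroup P)).trans h)
        (hSM.component_not_le_normalCore S M hOp K hK)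
  · apply iSup_le
    intro s
    exact component_le_layer (component_conj hK s)


omit [Finite P] [Fact p.Prime] in
theorem commutatorElement_mul_left_of_commute (a b c : P) (h : Commute c b) : ⁅a * c, b⁆ = ⁅a, b⁆ := by
  rw [commutatorElement_def, commutatorElement_def, mul_inv_rev]
  have : a * c * b * (c⁻¹ * a⁻¹) * b⁻¹ = a * (c * b) * c⁻¹ * a⁻¹ * b⁻¹ := by group
  rw [this, h.eq]; group

omit [Finite P] [Fact p.Prime] in
theorem commutatorElement_mul_right_of_commute (a b c : P) (h : Commute c a) : ⁅a, b * c⁆ = ⁅a, b⁆ := by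
  rw [commutatorElement_def, commutatorElement_def, mul_inv_rev]
  have : a * (b * c) * a⁻¹ * (c⁻¹ * b⁻¹) = a * b * (c * a⁻¹) * c⁻¹ * b⁻¹ := by group
  rw [this, (h.inv_right).eq]; group

include hSM hOp in
theorem PMinAt.component_not_le (K : Subgroup P) (hK : IsComponent K) : ¬ K ≤ M := by
  intro hKM
  apply hSM.pResidual_not_le S M
  rw [hSM.pResidual_eq_layer S M hOp K hK, hSM.layer_eq_conjClosure S M hOp K hK]
  exact conjClosure_le hKM (hSM.2.1.trans Subgroup.le_normalizer)

include hSM hOp in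
/-- a proper `N_S(K)`-invariant subgroup of a component `K` lies in `M` -/
theorem PMinAt.invariant_le (K : Subgroup P) (hK : IsComponent K) (Y : Subgroup P) (hYK : Y ≤ K)
    (hYne : Y ≠ K)
    (hSY : (S : Subgroup P) ⊓ Subgroup.normalizer (K : Set P) ≤ Subgroup.normalizer (Y : Set P)) :
    Y ≤ M := by
  by_contra hYM
  have hŶM : ¬ conjClosure Y (S : Subgroup P) ≤ M := fun h => hYM ((le_conjClosure Y _).trans h)
  have hSŶ := le_normalizer_conjClosure Y (S : Subgroup P)
  have htop : conjClosure Y (S : Subgroup P) ⊔ (S : Subgroup P) = ⊤ := by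
    by_contra hne
    exact hŶM (le_sup_left.trans (hSM.2.2 _ le_sup_right hne))
  have hŶn : (conjClosure Y (S : Subgroup P)).Normal := by
    apply Subgroup.normalizer_eq_top_iff.mp
    rw [eq_top_iff, ← htop]
    exact sup_le Subgroup.le_normalizer hSŶ
  have hOŶ : pResidual p P ≤ conjClosure Y (S : Subgroup P) := by
    rcases hSM.pResidual_le_or_le S M _ hŶn with h | h
    · exact h
    · exact absurd (h.trans (Subgroup.normalCore_le M)) hŶM
  have hKŶ : K ≤ conjClosure Y (S : Subgroup P) :=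
    (component_le_layer hK).trans ((hSM.pResidual_eq_layer S M hOp K hK).symm.le.trans hOŶ)
  have hŶle : conjClosure Y (S : Subgroup P) ≤ Y ⊔ Subgroup.centralizer (K : Set P) := by
    apply iSup_le
    rintro ⟨s, hs⟩
    by_cases hsK : s ∈ Subgroup.normalizer (K : Set P)
    · have hsY : s ∈ Subgroup.normalizer (Y : Set P) := hSY ⟨hs, hsK⟩
      refine le_trans ?_ le_sup_left
      rintro _ ⟨y, hy, rfl⟩
      exact (Subgroup.mem_normalizer_iff.mp hsY y).mp hy
    · refine le_trans ?_ le_sup_right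
      have hne : K.map (MulAut.conj s).toMonoidHom ≠ K := by
        intro heq
        apply hsK
        apply mem_normalizer_of_conj_mem
        intro r hr
        rw [← heq]; exact Cfsg.Agent.Lib.Lead.Conj.conj_mem_map_conj K s hr
      have hcomm := components_commute (component_conj hK s) hK hne
      rw [Subgroup.commutator_eq_bot_iff_le_centralizer] at hcomm
      exact (Subgroup.map_mono hYK).trans hcomm
  apply hYne
  apply le_antisymm hYK
  have hdecomp : ∀ k ∈ K, ∃ y ∈ Y, ∃ c ∈ Subgroup.centralizer (K : Set P), k = y * c := by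
    intro k hk
    have h1 := hŶle (hKŶ hk)
    have hCN : Subgroup.centralizer (K : Set P) ≤ Subgroup.normalizer (Y : Set P) :=
      (Subgroup.centralizer_le hYK).trans (Subgroup.centralizer_le_normalizer _)
    rw [← SetLike.mem_coe, Subgroup.coe_mul_of_right_le_normalizer_left Y _ hCN, Set.mem_mul] at h1
    obtain ⟨y, hy, c, hc, rfl⟩ := h1
    exact ⟨y, hy, c, hc, rfl⟩
  have hcomm : ⁅K, K⁆ ≤ Y := by
    rw [Subgroup.commutator_le]
    intro k₁ hk₁ k₂ hk₂
    obtain ⟨y₁, hy₁, c₁, hc₁, rfl⟩ := hdecomp k₁ hk₁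
    obtain ⟨y₂, hy₂, c₂, hc₂, rfl⟩ := hdecomp k₂ hk₂
    have e1 : Commute c₁ (y₂ * c₂) := (Subgroup.mem_centralizer_iff.mp hc₁ _ hk₂).symm
    have e2 : Commute c₂ y₁ := (Subgroup.mem_centralizer_iff.mp hc₂ _ (hYK hy₁)).symm
    rw [commutatorElement_mul_left_of_commute _ _ _ e1, commutatorElement_mul_right_of_commute _ _ _ e2,
      commutatorElement_def]
    exact Y.mul_mem (Y.mul_mem (Y.mul_mem hy₁ hy₂) (Y.inv_mem hy₁)) (Y.inv_mem hy₂)
  rw [quasisimple_commutator_eq hK.2] at hcomm
  exact hcomm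


omit [Fact p.Prime] in
theorem pMinAt_subgroupOf_iff (T P₁ : Subgroup P) (hTP : T ≤ P₁) :
    (∃ M' : Subgroup ↥P₁, PMinAt (T.subgroupOf P₁) M') ↔ ∃ M : Subgroup P, PMinIn T P₁ M := by
  constructor
  · rintro ⟨M', hM'top, hSM', hM'⟩
    refine ⟨M'.map P₁.subtype, Subgroup.map_subtype_le _, ?_, ?_, ?_⟩
    · intro h
      exact hM'top ((map_subtype_eq_self_iff P₁ M').mp h)
    · intro s hs
      exact ⟨⟨s, hTP hs⟩, hSM' (Subgroup.mem_subgroupOf.mpr hs), rfl⟩
    · intro X hSX hXP hX
      have h1 : X.subgroupOf P₁ ≤ M' := by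
        apply hM'
        · exact Subgroup.subgroupOf_mono _ hSX
        · intro htop
          rw [Subgroup.subgroupOf_eq_top] at htop
          exact hX (le_antisymm hXP htop)
      rw [← Subgroup.map_subgroupOf_eq_of_le hXP]
      exact Subgroup.map_mono h1
  · rintro ⟨M, hMP, hMne, hSM, hM⟩
    refine ⟨M.subgroupOf P₁, ?_, Subgroup.subgroupOf_mono _ hSM, ?_⟩
    · intro htop
      rw [Subgroup.subgroupOf_eq_top] at htop
      exact hMne (le_antisymm hMP htop)
    · intro X hSX hX
      have h1 : X.map P₁.subtype ≤ M := by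
        apply hM
        · intro s hs
          exact ⟨⟨s, hTP hs⟩, hSX (Subgroup.mem_subgroupOf.mpr hs), rfl⟩
        · exact Subgroup.map_subtype_le _
        · intro h
          exact hX ((map_subtype_eq_self_iff P₁ X).mp h)
      intro x hx
      rw [Subgroup.mem_subgroupOf]
      exact h1 ⟨x, hx, rfl⟩

theorem isPMinimal_subgroup_iff' {T P₁ : Subgroup P} (hT : IsSylowIn p T P₁) :
    IsPMinimal p ↥P₁ ↔ ¬ (P₁ ≤ Subgroup.normalizer (T : Set P)) ∧
      ∃ M : Subgroup P, PMinIn T P₁ M := by
  obtain ⟨R, hR⟩ := hT.exists_sylow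
  rw [isPMinimal_iff R, hR, Subgroup.normal_subgroupOf_iff_le_normalizer hT.1,
    pMinAt_subgroupOf_iff T P₁ hT.1]

theorem isSylowIn_sup_inf_normalizer (K : Subgroup P) (hK : K.IsSubnormal) :
    IsSylowIn p ((S : Subgroup P) ⊓ Subgroup.normalizer (K : Set P))
      (K ⊔ ((S : Subgroup P) ⊓ Subgroup.normalizer (K : Set P))) := by
  obtain ⟨SK, hSK⟩ : ∃ SK : Subgroup P, SK = (S : Subgroup P) ⊓ Subgroup.normalizer (K : Set P) :=
    ⟨_, rfl⟩
  rw [← hSK]
  have hSKS : SK ≤ (S : Subgroup P) := by rw [hSK]; exact inf_le_left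
  have hSKN : SK ≤ Subgroup.normalizer (K : Set P) := by rw [hSK]; exact inf_le_right
  have hSKp : IsPGroup p ↥SK := S.2.to_le hSKS
  obtain ⟨T₁, hT₁, hle⟩ := exists_isSylowIn_ge hSKp (le_sup_right : SK ≤ K ⊔ SK)
  have hKS : IsSylowIn p ((S : Subgroup P) ⊓ K) K := (IsSylowIn.of_sylow_top S).inf_subnormal hK
  have hT₁K : T₁ ⊓ K = (S : Subgroup P) ⊓ K := by
    apply hKS.eq_of_le ?_ inf_le_right (hT₁.isPGroup.to_inf_left)
    refine le_inf (le_trans ?_ hle) inf_le_right
    rw [hSK]
    exact inf_le_inf_left _ Subgroup.le_normalizer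
  have hT₁le : T₁ ≤ SK := by
    intro t ht
    have htP := hT₁.1 ht
    rw [← SetLike.mem_coe, Subgroup.coe_mul_of_right_le_normalizer_left K SK hSKN, Set.mem_mul] at htP
    obtain ⟨k, hk, s, hs, rfl⟩ := htP
    have hkT : k ∈ T₁ := by
      have : k = (k * s) * s⁻¹ := by group
      rw [this]; exact T₁.mul_mem ht (T₁.inv_mem (hle hs))
    have hkS : k ∈ (S : Subgroup P) := by
      have : k ∈ T₁ ⊓ K := ⟨hkT, hk⟩
      rw [hT₁K] at this; exact this.1
    rw [hSK]
    exact ⟨Subgroup.mul_mem _ hkS (hSKS hs),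
      Subgroup.mul_mem _ (Subgroup.le_normalizer hk) (hSKN hs)⟩
  have : T₁ = SK := le_antisymm hT₁le hle
  rw [this] at hT₁; exact hT₁

include hSM hOp in
theorem PMinAt.pMinIn_component_sup (K : Subgroup P) (hK : IsComponent K) :
    PMinIn ((S : Subgroup P) ⊓ Subgroup.normalizer (K : Set P))
      (K ⊔ ((S : Subgroup P) ⊓ Subgroup.normalizer (K : Set P)))
      (M ⊓ (K ⊔ ((S : Subgroup P) ⊓ Subgroup.normalizer (K : Set P)))) := by
  have hinv := hSM.invariant_le S M hOp K hK
  obtain ⟨SK, hSK⟩ : ∃ SK : Subgroup P, SK = (S : Subgroup P) ⊓ Subgroup.normalizer (K : Set P) :=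
    ⟨_, rfl⟩
  rw [← hSK] at hinv ⊢
  have hSKS : SK ≤ (S : Subgroup P) := by rw [hSK]; exact inf_le_left
  have hSKN : SK ≤ Subgroup.normalizer (K : Set P) := by rw [hSK]; exact inf_le_right
  refine ⟨inf_le_right, ?_, le_inf (hSKS.trans hSM.2.1) le_sup_right, ?_⟩
  · intro heq
    apply hSM.component_not_le S M hOp K hK
    exact le_sup_left.trans (inf_eq_right.mp heq)
  · intro X hSX hXP hXne
    refine le_inf ?_ hXP
    have hY : X ⊓ K ≤ M := by
      apply hinv (X ⊓ K) inf_le_right
      · intro heq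
        apply hXne
        apply le_antisymm hXP
        exact sup_le (inf_eq_right.mp heq) hSX
      · intro s hs
        apply mem_normalizer_of_conj_mem
        rintro r ⟨hrX, hrK⟩
        exact ⟨X.mul_mem (X.mul_mem (hSX hs) hrX) (X.inv_mem (hSX hs)),
          (Subgroup.mem_normalizer_iff.mp (hSKN hs) r).mp hrK⟩
    intro x hx
    have hxP := hXP hx
    rw [← SetLike.mem_coe, Subgroup.coe_mul_of_right_le_normalizer_left K SK hSKN, Set.mem_mul] at hxP
    obtain ⟨k, hk, s, hs, rfl⟩ := hxP
    have hkX : k ∈ X := by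
      have : k = (k * s) * s⁻¹ := by group
      rw [this]; exact X.mul_mem hx (X.inv_mem (hSX hs))
    exact M.mul_mem (hY ⟨hkX, hk⟩) (hSM.2.1 (hSKS hs))

include hSM hOp in
theorem PMinAt.not_le_normalizer_component_sup (K : Subgroup P) (hK : IsComponent K) :
    ¬ (K ⊔ ((S : Subgroup P) ⊓ Subgroup.normalizer (K : Set P)) ≤
      Subgroup.normalizer (((S : Subgroup P) ⊓ Subgroup.normalizer (K : Set P) : Subgroup P) : Set P)) := by
  have hinv := hSM.invariant_le S M hOp K hK
  obtain ⟨SK, hSK⟩ : ∃ SK : Subgroup P, SK = (S : Subgroup P) ⊓ Subgroup.normalizer (K : Set P) :=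
    ⟨_, rfl⟩
  rw [← hSK] at hinv ⊢
  have hSKS : SK ≤ (S : Subgroup P) := by rw [hSK]; exact inf_le_left
  have hSKN : SK ≤ Subgroup.normalizer (K : Set P) := by rw [hSK]; exact inf_le_right
  intro hle
  have hKN : K ≤ Subgroup.normalizer (SK : Set P) := le_sup_left.trans hle
  apply hSM.component_not_le S M hOp K hK
  intro k hk
  have hQ'n : ((K ⊓ SK).subgroupOf K).Normal := by
    apply (Subgroup.normal_subgroupOf_iff_le_normalizer inf_le_left).mpr
    intro k' hk'
    apply mem_normalizer_of_conj_mem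
    rintro r ⟨hrK, hrS⟩
    exact ⟨K.mul_mem (K.mul_mem hk' hrK) (K.inv_mem hk'),
      (Subgroup.mem_normalizer_iff.mp (hKN hk') r).mp hrS⟩
  have hYeq : ((K ⊓ SK).subgroupOf K ⊔ Subgroup.zpowers (⟨k, hk⟩ : ↥K)).map K.subtype =
      (K ⊓ SK) ⊔ Subgroup.zpowers k := by
    rw [Subgroup.map_sup, Subgroup.map_subgroupOf_eq_of_le inf_le_left, MonoidHom.map_zpowers]
    rfl
  have hYK : (K ⊓ SK) ⊔ Subgroup.zpowers k ≤ K := sup_le inf_le_left (Subgroup.zpowers_le.mpr hk)
  have hYne : (K ⊓ SK) ⊔ Subgroup.zpowers k ≠ K := by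
    intro heq
    rw [← hYeq] at heq
    have h1 := (map_subtype_eq_self_iff K _).mp heq
    have h2 := commutator_le_of_sup_zpowers_eq_top ((K ⊓ SK).subgroupOf K) ⟨k, hk⟩ h1
    haveI := hK.2.1
    rw [Group.IsPerfect.commutator_eq_top, top_le_iff, Subgroup.subgroupOf_eq_top] at h2
    have hKp : IsPGroup p ↥K := S.2.to_le ((h2.trans inf_le_right).trans hSKS)
    haveI := hKp.isNilpotent
    exact quasisimple_not_isSolvable hK.2 inferInstance
  have hSY : SK ≤ Subgroup.normalizer (((K ⊓ SK) ⊔ Subgroup.zpowers k : Subgroup P) : Set P) := by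
    intro s hs
    apply mem_normalizer_of_conj_mem
    have hle' : (K ⊓ SK) ⊔ Subgroup.zpowers k ≤
        ((K ⊓ SK) ⊔ Subgroup.zpowers k).comap (MulAut.conj s).toMonoidHom := by
      apply sup_le
      · rintro r ⟨hrK, hrS⟩
        refine Subgroup.mem_sup_left ?_
        exact ⟨(Subgroup.mem_normalizer_iff.mp (hSKN hs) r).mp hrK,
          SK.mul_mem (SK.mul_mem hs hrS) (SK.inv_mem hs)⟩
      · rw [Subgroup.zpowers_le]
        show s * k * s⁻¹ ∈ (K ⊓ SK) ⊔ Subgroup.zpowers k
        have h1 : s * k * s⁻¹ = (s * k * s⁻¹ * k⁻¹) * k := by group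
        rw [h1]
        refine Subgroup.mul_mem _ (Subgroup.mem_sup_left ⟨?_, ?_⟩)
          (Subgroup.mem_sup_right (Subgroup.mem_zpowers k))
        · exact K.mul_mem ((Subgroup.mem_normalizer_iff.mp (hSKN hs) k).mp hk) (K.inv_mem hk)
        · have h2 : s * k * s⁻¹ * k⁻¹ = s * (k * s⁻¹ * k⁻¹) := by group
          rw [h2]
          exact SK.mul_mem hs ((Subgroup.mem_normalizer_iff.mp (hKN hk) s⁻¹).mp (SK.inv_mem hs))
    intro r hr
    exact hle' hr
  exact hinv _ hYK hYne hSY (Subgroup.mem_sup_right (Subgroup.mem_zpowers k))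

theorem pMinimal_component_structure (hP : IsPMinimal p P) (hOp : pCore p P = ⊥) (S : Sylow p P)
    (K : Subgroup P) (hK : IsComponent K) :
    pResidual p P = generalizedFittingSubgroup P ∧ generalizedFittingSubgroup P = layer P ∧
    layer P = ⨆ s : ↥(S : Subgroup P), K.map (MulAut.conj (s : P)).toMonoidHom ∧
    IsPMinimal p ↥(K ⊔ ((S : Subgroup P) ⊓ Subgroup.normalizer (K : Set P))) := by
  obtain ⟨-, M, hSM⟩ := (isPMinimal_iff S).mp hP
  have h1 := hSM.pResidual_eq_layer S M hOp K hK
  have h2 : generalizedFittingSubgroup P = layer P := by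
    rw [generalizedFittingSubgroup, sup_eq_left, ← h1]
    exact hSM.fittingSubgroup_le_pResidual S M hOp K hK
  refine ⟨h1.trans h2.symm, h2, hSM.layer_eq_conjClosure S M hOp K hK, ?_⟩
  rw [isPMinimal_subgroup_iff' (isSylowIn_sup_inf_normalizer S K hK.1)]
  exact ⟨hSM.not_le_normalizer_component_sup S M hOp K hK, _,
    hSM.pMinIn_component_sup S M hOp K hK⟩

end pmincomp

end Cfsg.Agent.Lib.Helper7
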