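import Mathlib
import Cfsg.Prelude.Def_FusionSystem
import Cfsg.Prelude.Def_FusionComponents
import Cfsg.Prelude.Def_FusionReduction
import Cfsg.Agent.Lib.Helper7.PPowResA

/-!
# Residual limits, part B: uniqueness of the residual limit; normal subsystems of `p`-power index
-/

set_option autoImplicit false
set_option linter.unusedSectionVars false
set_option linter.unusedVariables false
set_option linter.style.haveILetI false

namespace Cfsg.Agent.Lib.Helper7.PPowRes

open Cfsg Cfsg.FusionSystem Cfsg.Agent.Lib.Helper7 Cfsg.Agent.Lib.Helper7.PPowNormal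

universe u

variable {Ω : Type u} [Group Ω]

/-- the `p`-residual subsystem of a subsystem of `p`-power index has `p`-power index -/
theorem pPowerIndex_trans {S : Subgroup Ω} [Finite S] (p : ℕ) [Fact p.Prime] (hS : IsPGroup p S)
    (F : FusionSystem S) {T : Subgroup Ω} (E : FusionSystem T) (hE : E.HasPPowerIndexIn F p)
    {U : Subgroup Ω} (D : FusionSystem U) (hD : D.HasPPowerIndexIn E p) : D.HasPPowerIndexIn F p := by
  have hTS : T ≤ S := (F.le_of_mem (hE.1 T (fs_subtype_mem E le_rfl))).1
  have hUT : U ≤ T := (E.le_of_mem (hD.1 U (fs_subtype_mem D le_rfl))).1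
  refine ⟨fun P φ h => hE.1 P (hD.1 P h), ?_, fun P hPU => ?_⟩
  · rw [← hyperfocal_eq_of_pPowerIndex p hS F E hE]
    exact hD.2.1
  · have hPT : P ≤ T := hPU.trans hUT
    haveI : Finite P := finite_of_le (hPT.trans hTS)
    refine le_trans ?_ (hD.2.2 P hPU)
    -- `O^p(Aut_F(P)) ≤ O^p(Aut_E(P))`
    rintro _ ⟨β, hβ, rfl⟩
    have hle : (pResidual p (F.autGroup P)).map (F.autGroup P).subtype ≤ E.autGroup P := hE.2.2 P hPT
    -- generated by `p'`-elements
    unfold pResidual at hβ
    induction hβ using Subgroup.closure_induction with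
    | mem b hb =>
      have hbE : (b : MulAut P) ∈ E.autGroup P :=
        hle ⟨b, Subgroup.subset_closure hb, rfl⟩
      refine ⟨⟨b, hbE⟩, ?_, rfl⟩
      apply mem_pResidual_of_coprime
      rw [Subgroup.orderOf_mk, Subgroup.orderOf_coe]
      exact hb
    | one => exact Subgroup.one_mem _
    | mul a b _ _ iha ihb => exact Subgroup.mul_mem _ iha ihb
    | inv a _ iha => exact Subgroup.inv_mem _ iha

theorem pPowerIndex_self {S : Subgroup Ω} (F : FusionSystem S) (p : ℕ) (hle : F.hyperfocalSubgroup p ≤ S) :
    F.HasPPowerIndexIn F p :=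
  ⟨fun _ _ h => h, hle, fun P _ => Subgroup.map_subtype_le _⟩

/-! ### congruence and uniqueness for the residuals -/

theorem pPrimeResidual_unique {S : Subgroup Ω} (F : FusionSystem S) (p : ℕ) (E₁ E₂ : FusionSystem S)
    (h₁ : F.IsPPrimeResidual p E₁) (h₂ : F.IsPPrimeResidual p E₂) : SameSys E₁ E₂ :=
  ⟨rfl, fun P => Set.Subset.antisymm (h₁.2.2 E₂ h₂.1 h₂.2.1 P) (h₂.2.2 E₁ h₁.1 h₁.2.1 P)⟩

/-- `p'`-residuals of `SameSys` systems are `SameSys` -/
theorem pPrimeResidual_congr {S S' : Subgroup Ω} {F : FusionSystem S} {F' : FusionSystem S'}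
    (h : SameSys F F') (p : ℕ) (E : FusionSystem S) (E' : FusionSystem S')
    (hE : F.IsPPrimeResidual p E) (hE' : F'.IsPPrimeResidual p E') : SameSys E E' := by
  revert E'
  refine h.elim (motive := fun S' F' => ∀ E' : FusionSystem S', F'.IsPPrimeResidual p E' → SameSys E E') ?_
  intro E' hE'
  exact pPrimeResidual_unique F p E E' hE hE'

theorem pResidual_unique {S : Subgroup Ω} [Finite S] (p : ℕ) [Fact p.Prime] (hS : IsPGroup p S)
    (F : FusionSystem S) (D₁ D₂ : FusionSystem (F.hyperfocalSubgroup p))
    (h₁ : F.IsPResidual p D₁) (h₂ : F.IsPResidual p D₂) : SameSys D₁ D₂ :=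
  sameSys_of_pPowerIndex p hS F rfl D₁ D₂ h₁.1 h₂.1 h₁.2 h₂.2

/-- transport of "residual limit of" along `SameSys` -/
theorem residualLimit_congr {S S' : Subgroup Ω} {F : FusionSystem S} {F' : FusionSystem S'}
    (h : SameSys F F') (p : ℕ) {U : Subgroup Ω} (X : FusionSystem U)
    (hX : X.IsResidualLimitOf F p) : X.IsResidualLimitOf F' p :=
  h.elim (motive := fun S' F' => X.IsResidualLimitOf F' p) hX

/-- a stable system: equal to its `p`-residual and its `p'`-residual -/
def Stable {S : Subgroup Ω} (F : FusionSystem S) (p : ℕ) : Prop :=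
  F.hyperfocalSubgroup p = S ∧ F.IsPPrimeResidual p F

theorem Stable.congr {S S' : Subgroup Ω} {F : FusionSystem S} {F' : FusionSystem S'}
    (h : SameSys F F') (p : ℕ) (hF : Stable F p) : Stable F' p :=
  h.elim (motive := fun S' F' => Stable F' p) hF

/-- the `p`-residual of a stable system is the system -/
theorem Stable.sameSys_pResidual {S : Subgroup Ω} [Finite S] (p : ℕ) [Fact p.Prime]
    (hS : IsPGroup p S) {F : FusionSystem S} (hF : Stable F p)
    (D : FusionSystem (F.hyperfocalSubgroup p)) (hD : F.IsPResidual p D) : SameSys D F :=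
  sameSys_of_pPowerIndex p hS F hF.1 D F hD.1 hF.2.1 hD.2 (pPowerIndex_self F p hF.1.le)

theorem finite_of_sameSys {S S' : Subgroup Ω} (h : S = S') [Finite S] : Finite S' := by
  subst h; infer_instance

/-- the residual limit of a stable system is the system -/
theorem residualLimit_of_stable' :
    ∀ {V : Subgroup Ω} {Y : FusionSystem V} {S : Subgroup Ω} {F : FusionSystem S} {p : ℕ},
      Y.IsResidualLimitOf F p → p.Prime → Finite S → IsPGroup p S → Stable F p → SameSys Y F := by
  intro V Y S F p h
  induction h with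
  | stable F p _ _ => intro _ _ _ _; exact SameSys.refl F
  | step F p D D' hD hD' hlim ih =>
    intro hp hfin hS hF
    haveI := hfin
    haveI : Fact p.Prime := ⟨hp⟩
    have h1 : SameSys D F := hF.sameSys_pResidual p hS D hD
    have h2 : SameSys D' F := pPrimeResidual_congr h1 p D' F hD' hF.2
    have h3 : Stable D' p := Stable.congr h2.symm p hF
    have hfin' : Finite ↥(F.hyperfocalSubgroup p) := finite_of_sameSys h1.1.symm
    have hS' : IsPGroup p ↥(F.hyperfocalSubgroup p) := by
      rw [hF.1]; exact hS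
    exact (ih hp hfin' hS' h3).trans h2

theorem residualLimit_of_stable (p : ℕ) [Fact p.Prime] {V : Subgroup Ω} {Y : FusionSystem V}
    {S : Subgroup Ω} [Finite S] {F : FusionSystem S} (h : Y.IsResidualLimitOf F p)
    (hS : IsPGroup p S) (hF : Stable F p) : SameSys Y F :=
  residualLimit_of_stable' h Fact.out inferInstance hS hF

/-- **Uniqueness of the residual limit.** -/
theorem residualLimit_unique' :
    ∀ {U : Subgroup Ω} {X : FusionSystem U} {S : Subgroup Ω} {F : FusionSystem S} {p : ℕ},
      X.IsResidualLimitOf F p → p.Prime → Finite S → IsPGroup p S →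
      ∀ {V : Subgroup Ω} {Y : FusionSystem V}, Y.IsResidualLimitOf F p → SameSys X Y := by
  intro U X S F p h
  induction h with
  | stable F p h1 h2 =>
    intro hp hfin hS V Y hY
    exact (residualLimit_of_stable' hY hp hfin hS ⟨h1, h2⟩).symm
  | step F p D D' hD hD' hlim ih =>
    intro hp hfin hS V Y hY
    haveI := hfin
    haveI : Fact p.Prime := ⟨hp⟩
    cases hY with
    | stable _ _ h1 h2 =>
      exact residualLimit_of_stable' (IsResidualLimitOf.step F p D D' hD hD' hlim) hp hfin hS ⟨h1, h2⟩
    | step _ _ D₂ D₂' hD₂ hD₂' hlim₂ =>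
      have h1 : SameSys D D₂ := pResidual_unique p hS F D D₂ hD hD₂
      have h2 : SameSys D' D₂' := pPrimeResidual_congr h1 p D' D₂' hD' hD₂'
      have hle := (F.le_of_mem (hD.2.1 _ (fs_subtype_mem D le_rfl))).1
      have hfin' : Finite ↥(F.hyperfocalSubgroup p) := finite_of_le hle
      have hS' : IsPGroup p ↥(F.hyperfocalSubgroup p) := hS.to_le hle
      exact ih hp hfin' hS' (residualLimit_congr h2.symm p Y hlim₂)

theorem residualLimit_unique (p : ℕ) [Fact p.Prime] {U : Subgroup Ω} {X : FusionSystem U}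
    {S : Subgroup Ω} [Finite S] {F : FusionSystem S} (h : X.IsResidualLimitOf F p)
    (hS : IsPGroup p S) {V : Subgroup Ω} {Y : FusionSystem V} (hY : Y.IsResidualLimitOf F p) :
    SameSys X Y :=
  residualLimit_unique' h Fact.out inferInstance hS hY

/-- **A saturated subsystem of `p`-power index has the same residual limit.** -/
theorem residualLimit_eq_of_pPowerIndex {S : Subgroup Ω} [Finite S] (p : ℕ) [Fact p.Prime]
    (hS : IsPGroup p S) (F : FusionSystem S) {T : Subgroup Ω} (E : FusionSystem T)
    (hEs : E.IsSaturated p) (hTS : T ≤ S) (hidx : E.HasPPowerIndexIn F p)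
    {U V : Subgroup Ω} (Finf : FusionSystem U) (hFinf : Finf.IsResidualLimitOf F p)
    (Einf : FusionSystem V) (hEinf : Einf.IsResidualLimitOf E p) :
    ∀ P : Subgroup Ω, Finf.Hom P = Einf.Hom P := by
  haveI : Finite T := finite_of_le hTS
  cases hFinf with
  | stable _ _ h1 h2 =>
    have hT : T = S := le_antisymm hTS (h1 ▸ hidx.2.1)
    have hs : SameSys E F :=
      sameSys_of_pPowerIndex p hS F hT E F hEs h2.1 hidx (pPowerIndex_self F p h1.le)
    have hE' : Einf.IsResidualLimitOf F p := residualLimit_congr hs p Einf hEinf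
    have := residualLimit_of_stable p hE' hS ⟨h1, h2⟩
    exact fun P => (this.2 P).symm
  | step _ _ D D' hD hD' hlim =>
    have hhyp : E.hyperfocalSubgroup p = F.hyperfocalSubgroup p :=
      hyperfocal_eq_of_pPowerIndex p hS F E hidx
    have hle := (F.le_of_mem (hD.2.1 _ (fs_subtype_mem D le_rfl))).1
    haveI : Finite ↥(F.hyperfocalSubgroup p) := finite_of_le hle
    cases hEinf with
    | stable _ _ g1 g2 =>
      have hT : T = F.hyperfocalSubgroup p := g1.symm.trans hhyp
      have hs : SameSys E D := sameSys_of_pPowerIndex p hS F hT E D hEs hD.1 hidx hD.2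
      have hs' : SameSys E D' := pPrimeResidual_congr hs p E D' g2 hD'
      have hF' : Finf.IsResidualLimitOf E p := residualLimit_congr hs'.symm p Finf hlim
      exact (residualLimit_of_stable p hF' (hS.to_le hTS) ⟨g1, g2⟩).2
    | step _ _ DE DE' hDE hDE' hlimE =>
      have hDEF : DE.HasPPowerIndexIn F p := pPowerIndex_trans p hS F E hidx DE hDE.2
      have hs : SameSys DE D := sameSys_of_pPowerIndex p hS F hhyp DE D hDE.1 hD.1 hDEF hD.2
      have hs' : SameSys DE' D' := pPrimeResidual_congr hs p DE' D' hDE' hD'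
      have hE' : Einf.IsResidualLimitOf D' p := residualLimit_congr hs' p Einf hlimE
      exact (residualLimit_unique p hlim (hS.to_le hle) hE').2

end Cfsg.Agent.Lib.Helper7.PPowRes
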