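import Mathlib
import Cfsg.Prelude.Def_LocalStructure
import Cfsg.Prelude.Def_LocalEven
import Cfsg.Prelude.Def_Amalgam
import Cfsg.Agent.Lib.Helper7.PReduced3
import Cfsg.Agent.Lib.Lead.PResidual

set_option autoImplicit false

namespace Cfsg.Agent.Lib.Helper7

open Cfsg
open scoped commutatorElement

section averaging
variable {G : Type*} [Group G] [Finite G]

/-- Averaging: if `V` is an abelian normal subgroup, `z ∈ V` is centralized by `S`, then `z ^ |G:S|` is
congruent to a central element of `V` modulo `[V, G]`. -/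
theorem exists_central_of_centralized (V : Subgroup G) [hV : V.Normal]
    (hVab : ∀ a ∈ V, ∀ b ∈ V, a * b = b * a) (S : Subgroup G) {z : G} (hz : z ∈ V)
    (hzS : ∀ s ∈ S, s * z = z * s) :
    ∃ u ∈ V, (∀ g : G, g * u = u * g) ∧ ∃ w ∈ ⁅V, (⊤ : Subgroup G)⁆, u = z ^ S.index * w := by
  classical
  letI : Fintype (G ⧸ S) := Fintype.ofFinite _
  letI : CommGroup ↥V :=
    { (inferInstance : Group ↥V) with
      mul_comm := fun a b => Subtype.ext (hVab a a.2 b b.2) }
  -- the conjugate of z by a coset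
  let f₀ : G → ↥V := fun g => ⟨g * z * g⁻¹, hV.conj_mem z hz g⟩
  have hf₀ : ∀ a b : G, QuotientGroup.leftRel S a b → f₀ a = f₀ b := by
    intro a b hab
    rw [QuotientGroup.leftRel_apply] at hab
    apply Subtype.ext
    show a * z * a⁻¹ = b * z * b⁻¹
    have h1 := hzS _ hab
    have : b = a * (a⁻¹ * b) := by group
    rw [this]
    have e : a * (a⁻¹ * b) * z * (a * (a⁻¹ * b))⁻¹ = a * ((a⁻¹ * b) * z) * (a⁻¹ * b)⁻¹ * a⁻¹ := by
      group
    rw [e, h1]; group
  let f : G ⧸ S → ↥V := Quotient.lift f₀ hf₀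
  have hf : ∀ g : G, f (QuotientGroup.mk g) = f₀ g := fun g => rfl
  let u : ↥V := ∏ q : G ⧸ S, f q
  -- conjugation on V
  let c : G → (↥V →* ↥V) := fun h =>
    { toFun := fun v => ⟨h * v * h⁻¹, hV.conj_mem v v.2 h⟩
      map_one' := by apply Subtype.ext; simp
      map_mul' := by intro a b; apply Subtype.ext; simp }
  have hc : ∀ h : G, ∀ q : G ⧸ S, c h (f q) = f (h • q) := by
    intro h q
    obtain ⟨g, rfl⟩ := QuotientGroup.mk_surjective q
    apply Subtype.ext
    show h * (g * z * g⁻¹) * h⁻¹ = (h * g) * z * (h * g)⁻¹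
    group
  have hu : ∀ h : G, c h u = u := by
    intro h
    show c h (∏ q : G ⧸ S, f q) = ∏ q : G ⧸ S, f q
    rw [map_prod]
    simp only [hc]
    exact Fintype.prod_equiv (MulAction.toPerm h) _ _ (fun q => rfl)
  refine ⟨u, u.2, ?_, ?_⟩
  · intro h
    have := congrArg (fun v : ↥V => (v : G)) (hu h)
    have e : h * (u : G) * h⁻¹ = u := this
    calc h * (u : G) = (h * u * h⁻¹) * h := by group
      _ = u * h := by rw [e]
  · -- each f q ∈ z * [V, G]
    let W : Subgroup ↥V := (⁅V, (⊤ : Subgroup G)⁆).subgroupOf V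
    have hW : ∀ q : G ⧸ S, (⟨z, hz⟩ : ↥V)⁻¹ * f q ∈ W := by
      intro q
      obtain ⟨g, rfl⟩ := QuotientGroup.mk_surjective q
      rw [Subgroup.mem_subgroupOf]
      show z⁻¹ * (g * z * g⁻¹) ∈ ⁅V, (⊤ : Subgroup G)⁆
      have h1 : ⁅z⁻¹, g⁆ ∈ ⁅V, (⊤ : Subgroup G)⁆ :=
        Subgroup.commutator_mem_commutator (Subgroup.inv_mem _ hz) (Subgroup.mem_top g)
      have e : z⁻¹ * (g * z * g⁻¹) = ⁅z⁻¹, g⁆ := by rw [commutatorElement_def]; group
      rw [e]; exact h1
    have hprod : u = (⟨z, hz⟩ : ↥V) ^ S.index * ∏ q : G ⧸ S, ((⟨z, hz⟩ : ↥V)⁻¹ * f q) := by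
      rw [Finset.prod_mul_distrib, Finset.prod_const, Finset.card_univ]
      have hcard : Fintype.card (G ⧸ S) = S.index := by
        rw [Subgroup.index, Nat.card_eq_fintype_card]
      rw [hcard]
      simp
      rfl
    have hmem : ∏ q : G ⧸ S, ((⟨z, hz⟩ : ↥V)⁻¹ * f q) ∈ W := Subgroup.prod_mem _ (fun q _ => hW q)
    refine ⟨((∏ q : G ⧸ S, ((⟨z, hz⟩ : ↥V)⁻¹ * f q) : ↥V) : G), Subgroup.mem_subgroupOf.mp hmem, ?_⟩
    have := congrArg (fun v : ↥V => (v : G)) hprod
    simpa using this

end averaging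

section main
variable {G : Type*} [Group G] [Finite G] {p : ℕ} [Fact p.Prime]

theorem zClosure_commutator_top :
    ⁅zClosure p G, (⊤ : Subgroup G)⁆ = ⁅zClosure p G, pResidual p G⁆ := by
  haveI hVn : (zClosure p G).Normal := zClosure_normal
  haveI hRn : (pResidual p G).Normal := Cfsg.Agent.Lib.Lead.PResidual.normal p G
  apply le_antisymm _ (Subgroup.commutator_mono le_rfl le_top)
  set W := ⁅zClosure p G, pResidual p G⁆ with hW
  haveI hWn : W.Normal := Subgroup.commutator_normal _ _
  -- the subgroup of elements acting trivially modulo W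
  let K : Subgroup G :=
    { carrier := {v | ∀ g : G, ⁅v, g⁆ ∈ W}
      one_mem' := by intro g; rw [commutatorElement_one_left]; exact Subgroup.one_mem _
      mul_mem' := by
        intro a b ha hb g
        have e : ⁅a * b, g⁆ = a * ⁅b, g⁆ * a⁻¹ * ⁅a, g⁆ := by
          simp only [commutatorElement_def]; group
        rw [e]
        exact Subgroup.mul_mem _ (hWn.conj_mem _ (hb g) a) (ha g)
      inv_mem' := by
        intro a ha g
        have e : ⁅a⁻¹, g⁆ = a⁻¹ * ⁅a, g⁆⁻¹ * a⁻¹⁻¹ := by
          simp only [commutatorElement_def]; group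
        rw [e]
        exact hWn.conj_mem _ (Subgroup.inv_mem _ (ha g)) a⁻¹ }
  have hVK : zClosure p G ≤ K := by
    unfold zClosure
    apply iSup_le
    intro S
    unfold omegaOne
    rw [Subgroup.closure_le]
    rintro z ⟨⟨hzS, hzC⟩, hzp⟩
    have hzV : z ∈ zClosure p G := by
      have : omegaOne p ((S : Subgroup G) ⊓ Subgroup.centralizer ((S : Subgroup G) : Set G)) ≤
          zClosure p G :=
        le_iSup (fun S : Sylow p G =>
          omegaOne p ((S : Subgroup G) ⊓ Subgroup.centralizer ((S : Subgroup G) : Set G))) S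
      exact this (Subgroup.subset_closure ⟨⟨hzS, hzC⟩, hzp⟩)
    intro g
    obtain ⟨s, hs, m, hm, rfl⟩ := Cfsg.Agent.Lib.Lead.PResidual.exists_mul (p := p)
      (S : Subgroup G) S.not_dvd_index g
    have hcomm : s * z = z * s := Subgroup.mem_centralizer_iff.mp hzC s hs
    have e : ⁅z, s * m⁆ = s * ⁅z, m⁆ * s⁻¹ := by
      simp only [commutatorElement_def]
      have : z * (s * m) * z⁻¹ * (s * m)⁻¹ = (z * s) * m * z⁻¹ * m⁻¹ * s⁻¹ := by group
      rw [this, ← hcomm]; group
    rw [e]
    exact hWn.conj_mem _ (Subgroup.commutator_mem_commutator hzV hm) s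
  rw [Subgroup.commutator_le]
  intro v hv g _
  exact hVK hv g

theorem zClosure_eq_sup (hchar : Subgroup.centralizer (pCore p G : Set G) ≤ pCore p G) :
    zClosure p G =
      omegaOne p ((⊤ : Subgroup G) ⊓ Subgroup.centralizer (((⊤ : Subgroup G) : Subgroup G) : Set G)) ⊔
        ⁅zClosure p G, pResidual p G⁆ := by
  haveI hVn : (zClosure p G).Normal := zClosure_normal
  have hVle := zClosure_le_omegaCenterPCore hchar
  have hp : p.Prime := Fact.out
  apply le_antisymm
  · unfold zClosure
    apply iSup_le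
    intro S
    conv_lhs => unfold omegaOne
    rw [Subgroup.closure_le]
    rintro z ⟨⟨hzS, hzC⟩, hzp⟩
    have hzV : z ∈ zClosure p G := by
      have : omegaOne p ((S : Subgroup G) ⊓ Subgroup.centralizer ((S : Subgroup G) : Set G)) ≤
          zClosure p G :=
        le_iSup (fun S : Sylow p G =>
          omegaOne p ((S : Subgroup G) ⊓ Subgroup.centralizer ((S : Subgroup G) : Set G))) S
      exact this (Subgroup.subset_closure ⟨⟨hzS, hzC⟩, hzp⟩)
    have hVab : ∀ a ∈ zClosure p G, ∀ b ∈ zClosure p G, a * b = b * a := fun a ha b hb =>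
      Subgroup.mem_centralizer_iff.mp (hVle hb).1.2 a (hVle ha).1.1
    obtain ⟨u, huV, hucen, w, hw, huw⟩ := exists_central_of_centralized (zClosure p G) hVab
      (S : Subgroup G) hzV (fun s hs => Subgroup.mem_centralizer_iff.mp hzC s hs)
    rw [zClosure_commutator_top] at hw
    show z ∈ omegaOne p ((⊤ : Subgroup G) ⊓
      Subgroup.centralizer (((⊤ : Subgroup G) : Subgroup G) : Set G)) ⊔
        ⁅zClosure p G, pResidual p G⁆
    set U := omegaOne p ((⊤ : Subgroup G) ⊓
      Subgroup.centralizer (((⊤ : Subgroup G) : Subgroup G) : Set G)) ⊔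
        ⁅zClosure p G, pResidual p G⁆ with hU
    have huU : u ∈ U := by
      apply Subgroup.mem_sup_left
      apply Subgroup.subset_closure
      refine ⟨⟨Subgroup.mem_top _, ?_⟩, (hVle huV).2⟩
      show u ∈ Subgroup.centralizer (((⊤ : Subgroup G) : Subgroup G) : Set G)
      rw [Subgroup.mem_centralizer_iff]
      intro g _
      exact hucen g
    have hzn : z ^ (S : Subgroup G).index ∈ U := by
      have : z ^ (S : Subgroup G).index = u * w⁻¹ := by rw [huw]; group
      rw [this]
      exact Subgroup.mul_mem _ huU (Subgroup.inv_mem _ (Subgroup.mem_sup_right hw))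
    have hcop : Nat.Coprime (S : Subgroup G).index p :=
      (Nat.Coprime.symm ((Nat.Prime.coprime_iff_not_dvd hp).mpr S.not_dvd_index))
    obtain ⟨m, -, hm⟩ := Nat.exists_mul_mod_eq_one_of_coprime hcop hp.one_lt
    have hz1 : z = (z ^ (S : Subgroup G).index) ^ m := by
      rw [← pow_mul, ← Nat.div_add_mod ((S : Subgroup G).index * m) p, hm, pow_add, pow_mul, hzp,
        one_pow, one_mul, pow_one]
    rw [hz1]
    exact Subgroup.pow_mem _ hzn m
  · apply sup_le
    · unfold omegaOne
      rw [Subgroup.closure_le]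
      rintro z ⟨⟨-, hzC⟩, hzp⟩
      have hzcen : ∀ g : G, g * z = z * g := fun g =>
        Subgroup.mem_centralizer_iff.mp hzC g (Subgroup.mem_top g)
      obtain ⟨S⟩ : Nonempty (Sylow p G) := inferInstance
      have hN : (Subgroup.zpowers z).Normal := by
        constructor
        intro n hn g
        obtain ⟨k, rfl⟩ := Subgroup.mem_zpowers_iff.mp hn
        have hc : Commute g z := hzcen g
        have : g * z ^ k * g⁻¹ = z ^ k := by
          rw [(hc.zpow_right k).eq]; group
        rw [this]; exact hn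
      have hpg : IsPGroup p ↥(Subgroup.zpowers z) := by
        rintro ⟨n, hn⟩
        obtain ⟨k, rfl⟩ := Subgroup.mem_zpowers_iff.mp hn
        refine ⟨1, ?_⟩
        apply Subtype.ext
        simp only [pow_one, Subgroup.coe_pow, Subgroup.coe_one]
        rw [← zpow_natCast, ← zpow_mul, mul_comm, zpow_mul, zpow_natCast, hzp, one_zpow]
      have hzO : z ∈ pCore p G := Cfsg.Agent.H1.le_pCore hN hpg (Subgroup.mem_zpowers z)
      have hzS : z ∈ (S : Subgroup G) := Cfsg.Agent.H1.pCore_le_sylow S hzO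
      have hzCS : z ∈ Subgroup.centralizer ((S : Subgroup G) : Set G) := by
        rw [Subgroup.mem_centralizer_iff]
        intro s _
        exact hzcen s
      have : omegaOne p ((S : Subgroup G) ⊓ Subgroup.centralizer ((S : Subgroup G) : Set G)) ≤
          zClosure p G :=
        le_iSup (fun S : Sylow p G =>
          omegaOne p ((S : Subgroup G) ⊓ Subgroup.centralizer ((S : Subgroup G) : Set G))) S
      exact this (Subgroup.subset_closure ⟨⟨hzS, hzCS⟩, hzp⟩)
    · exact Subgroup.commutator_le_left _ _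

end main

theorem sylowCenterClosure_decomp {H : Type*} [Group H] [Finite H] {p : ℕ} [Fact p.Prime]
    (L : Subgroup H) (hL : Subgroup.centralizer (pCore p ↥L : Set ↥L) ≤ pCore p ↥L) :
    sylowCenterClosure p L =
      (omegaOne p (L ⊓ Subgroup.centralizer ((L : Subgroup H) : Set H))) ⊔
        ⁅sylowCenterClosure p L, (pResidual p ↥L).map L.subtype⁆ ∧
    ⁅sylowCenterClosure p L, L⁆ = ⁅sylowCenterClosure p L, (pResidual p ↥L).map L.subtype⁆ := by
  have htop : (⊤ : Subgroup ↥L).map L.subtype = L := by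
    rw [← MonoidHom.range_eq_map, Subgroup.range_subtype]
  have e1 : sylowCenterClosure p L = (zClosure p ↥L).map L.subtype := sylowCenterClosure_eq_map L
  have e2 : omegaOne p (L ⊓ Subgroup.centralizer ((L : Subgroup H) : Set H)) =
      (omegaOne p ((⊤ : Subgroup ↥L) ⊓
        Subgroup.centralizer (((⊤ : Subgroup ↥L) : Subgroup ↥L) : Set ↥L))).map L.subtype := by
    rw [← omegaOne_center_map L.subtype L.subtype_injective, htop]
  have e3 : ⁅(zClosure p ↥L).map L.subtype, (pResidual p ↥L).map L.subtype⁆ =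
      (⁅zClosure p ↥L, pResidual p ↥L⁆).map L.subtype := (Subgroup.map_commutator _ _ _).symm
  have e4 : ⁅(zClosure p ↥L).map L.subtype, L⁆ =
      (⁅zClosure p ↥L, (⊤ : Subgroup ↥L)⁆).map L.subtype := by
    rw [Subgroup.map_commutator, htop]
  constructor
  · rw [e1, e2, e3, ← Subgroup.map_sup]
    exact congrArg (Subgroup.map L.subtype) (zClosure_eq_sup hL)
  · rw [e1, e3, e4, zClosure_commutator_top]

end Cfsg.Agent.Lib.Helper7
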