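import Mathlib
import Cfsg.Prelude.Def_FusionSystem
import Cfsg.Prelude.Def_Local
import Cfsg.Agent.Lib.Helper7.ModelUqC
import Cfsg.Agent.Lib.Helper7.FusionSat

/-!
# The automizer of a subgroup in a realized fusion system as an image of its normalizer
-/

set_option autoImplicit false

namespace Cfsg.Agent.Lib.Helper7.PSolvReal

open Cfsg Cfsg.FusionSystem Cfsg.Agent.Lib.Helper7 Cfsg.Agent.Lib.Helper7.ModelUq

universe u v

variable {Ω : Type u} [Group Ω] {S : Subgroup Ω} {G : Type v} [Group G]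

/-- the homomorphism from `N_G(ι R)` to `Aut(R)` induced by conjugation -/
theorem exists_autHom (F : FusionSystem S) (ι : S →* G) (hreal : F.IsRealizedBy ι)
    {R : Subgroup Ω} (hRS : R ≤ S) :
    ∃ c : ↥(Subgroup.normalizer ((imQ ι R : Subgroup G) : Set G)) →* MulAut R,
      c.range = F.autGroup R ∧
      ∀ g, c g = 1 ↔ (g : G) ∈ Subgroup.centralizer ((imQ ι R : Subgroup G) : Set G) := by
  obtain ⟨hinj, hr⟩ := hreal
  obtain ⟨U, hUdef⟩ : ∃ U : Subgroup G, U = imQ ι R := ⟨_, rfl⟩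
  rw [← hUdef]
  have hmemU : ∀ x : G, x ∈ U ↔ ∃ q : ↥R, x = ι ⟨q, hRS q.2⟩ := by
    intro x
    rw [hUdef]
    exact mem_imQ_iff ι hRS x
  obtain ⟨N, hNdef⟩ : ∃ N : Subgroup G, N = Subgroup.normalizer (U : Set G) := ⟨_, rfl⟩
  rw [← hNdef]
  have hUN : U ≤ N := hNdef ▸ Subgroup.le_normalizer
  have hnorm : (U.subgroupOf N).Normal := by
    rw [hNdef]
    exact Subgroup.normal_in_normalizer
  -- the isomorphism `R ≃ U`
  have hmem1 : ∀ x : R, ι ⟨x, hRS x.2⟩ ∈ U := fun x => (hmemU _).mpr ⟨x, rfl⟩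
  obtain ⟨f, hf⟩ : ∃ f : R →* ↥(U.subgroupOf N), ∀ x : R, ((f x : ↥N) : G) = ι ⟨x, hRS x.2⟩ := by
    refine ⟨(((ι.comp (Subgroup.inclusion hRS)).codRestrict N
      (fun x => hUN (hmem1 x))).codRestrict (U.subgroupOf N) (fun x => ?_)), fun x => rfl⟩
    exact Subgroup.mem_subgroupOf.mpr (hmem1 x)
  have hfbij : Function.Bijective f := by
    constructor
    · intro a b hab
      have h1 : ι ⟨a, hRS a.2⟩ = ι ⟨b, hRS b.2⟩ := by rw [← hf a, ← hf b, hab]
      exact Subtype.ext (congrArg (fun t : ↥S => (t : Ω)) (hinj h1))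
    · intro u
      have hu : ((u : ↥N) : G) ∈ U := Subgroup.mem_subgroupOf.mp u.2
      obtain ⟨q, hq⟩ := (hmemU _).mp hu
      refine ⟨q, ?_⟩
      apply Subtype.ext
      apply Subtype.ext
      rw [hf q, hq]
  obtain ⟨e, he⟩ : ∃ e : R ≃* ↥(U.subgroupOf N), ∀ x : R, ((e x : ↥N) : G) = ι ⟨x, hRS x.2⟩ :=
    ⟨MulEquiv.ofBijective f hfbij, fun x => hf x⟩
  obtain ⟨c, hcdef⟩ : ∃ c : ↥N →* MulAut R,
      c = (MulAut.congr e.symm).toMonoidHom.comp (MulAut.conjNormal (H := U.subgroupOf N)) :=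
    ⟨_, rfl⟩
  have hspec : ∀ (g : ↥N) (x : R),
      ι ⟨((c g x : R) : Ω), hRS (c g x).2⟩ = (g : G) * ι ⟨x, hRS x.2⟩ * (g : G)⁻¹ := by
    intro g x
    have h1 : c g x = e.symm (MulAut.conjNormal g (e x)) := by
      rw [hcdef]
      rfl
    have h2 : e (c g x) = MulAut.conjNormal g (e x) := by
      rw [h1, e.apply_symm_apply]
    have h3 : ((e (c g x) : ↥N) : G) = ((MulAut.conjNormal g (e x) : ↥(U.subgroupOf N)) : ↥N) :=
      congrArg (fun t : ↥(U.subgroupOf N) => ((t : ↥N) : G)) h2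
    rw [he] at h3
    rw [h3, MulAut.conjNormal_apply, Subgroup.coe_mul, Subgroup.coe_mul, Subgroup.coe_inv, he]
  refine ⟨c, ?_, ?_⟩
  · ext α
    constructor
    · rintro ⟨g, rfl⟩
      rw [mem_autGroup_iff F hRS]
      rw [hr R hRS _ (fun x => hRS (c g x).2)]
      exact ⟨(g : G), fun x => hspec g x⟩
    · intro hα
      have h1 := (mem_autGroup_iff F hRS α).mp hα
      obtain ⟨g, hg⟩ := (hr R hRS _ (fun x => hRS (α x).2)).mp h1
      have hg' : ∀ x : R, ι ⟨((α x : R) : Ω), hRS (α x).2⟩ = g * ι ⟨x, hRS x.2⟩ * g⁻¹ := hg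
      have hgN : g ∈ N := by
        rw [hNdef, Subgroup.mem_normalizer_iff]
        intro h
        constructor
        · intro hh
          obtain ⟨q, rfl⟩ := (hmemU h).mp hh
          rw [← hg' q]
          exact hmem1 _
        · intro hh
          obtain ⟨y, hy⟩ := (hmemU _).mp hh
          have h2 := hg' (α.symm y)
          rw [MulEquiv.apply_symm_apply] at h2
          rw [h2] at hy
          have h3 : h = ι ⟨(α.symm y : R), hRS (α.symm y).2⟩ := by
            have : g⁻¹ * (g * h * g⁻¹) * g = g⁻¹ * (g * ι ⟨(α.symm y : R), hRS (α.symm y).2⟩ * g⁻¹) * g :=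
              congrArg (fun t => g⁻¹ * t * g) hy
            rw [show g⁻¹ * (g * h * g⁻¹) * g = h by group] at this
            rw [this]
            group
          rw [h3]
          exact hmem1 _
      refine ⟨⟨g, hgN⟩, ?_⟩
      ext x
      have h2 := hspec ⟨g, hgN⟩ x
      rw [← hg' x] at h2
      exact congrArg (fun t : ↥S => (t : Ω)) (hinj h2)
  · intro g
    constructor
    · intro hg1
      rw [Subgroup.mem_centralizer_iff]
      intro h hh
      obtain ⟨q, rfl⟩ := (hmemU h).mp hh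
      have h2 := hspec g q
      rw [hg1] at h2
      have h3 : ι ⟨q, hRS q.2⟩ = (g : G) * ι ⟨q, hRS q.2⟩ * (g : G)⁻¹ := h2
      calc ι ⟨q, hRS q.2⟩ * (g : G) = ((g : G) * ι ⟨q, hRS q.2⟩ * (g : G)⁻¹) * (g : G) := by
            rw [← h3]
        _ = (g : G) * ι ⟨q, hRS q.2⟩ := by group
    · intro hgC
      ext x
      have h2 := hspec g x
      have h3 := (Subgroup.mem_centralizer_iff.mp hgC) _ (hmem1 x)
      have h4 : (g : G) * ι ⟨x, hRS x.2⟩ * (g : G)⁻¹ = ι ⟨x, hRS x.2⟩ := by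
        rw [← h3]
        group
      rw [h4] at h2
      exact congrArg (fun t : ↥S => (t : Ω)) (hinj h2)

end Cfsg.Agent.Lib.Helper7.PSolvReal
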