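import Mathlib
import Cfsg.Prelude.Def_FusionSystem
import Cfsg.Agent.Lib.Helper7.GroupNormalSubsystem
set_option autoImplicit false

namespace Cfsg.Agent.Lib.Helper7

open Cfsg Cfsg.FusionSystem

variable {Ω : Type*} [Group Ω] {S : Subgroup Ω} {G : Type*} [Group G]

/-- Conjugation by `g : G` pulled back to `Ω` along an injective `ι : S →* G`, on a subgroup `A ≤ S`
whose `ι`-image is conjugated by `g` into `ι(S)`. -/
noncomputable def pullConj (ι : S →* G) (hinj : Function.Injective ι) (g : G) (A : Subgroup Ω)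
    (hA : A ≤ S) (h : ∀ x : A, g * ι ⟨x, hA x.2⟩ * g⁻¹ ∈ ι.range) : A →* Ω :=
  S.subtype.comp ((MonoidHom.ofInjective hinj).symm.toMonoidHom.comp
    ((((MulAut.conj g).toMonoidHom.comp ι).comp (Subgroup.inclusion hA)).codRestrict ι.range h))

theorem pullConj_mem (ι : S →* G) (hinj : Function.Injective ι) (g : G) (A : Subgroup Ω)
    (hA : A ≤ S) (h : ∀ x : A, g * ι ⟨x, hA x.2⟩ * g⁻¹ ∈ ι.range) (x : A) :
    pullConj ι hinj g A hA h x ∈ S :=
  ((MonoidHom.ofInjective hinj).symm _).2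

theorem pullConj_spec (ι : S →* G) (hinj : Function.Injective ι) (g : G) (A : Subgroup Ω)
    (hA : A ≤ S) (h : ∀ x : A, g * ι ⟨x, hA x.2⟩ * g⁻¹ ∈ ι.range) (x : A) :
    ι ⟨pullConj ι hinj g A hA h x, pullConj_mem ι hinj g A hA h x⟩ = g * ι ⟨x, hA x.2⟩ * g⁻¹ := by
  set y : ι.range := ⟨g * ι ⟨x, hA x.2⟩ * g⁻¹, h x⟩ with hy
  have h1 : (MonoidHom.ofInjective hinj) ((MonoidHom.ofInjective hinj).symm y) = y :=
    MulEquiv.apply_symm_apply _ _
  have h2 := congrArg Subtype.val h1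
  rw [MonoidHom.ofInjective_apply] at h2
  exact h2

/-- `S ∩ ι⁻¹(N)` as a subgroup of `Ω`. -/
def realSub (ι : S →* G) (N : Subgroup G) : Subgroup Ω := (N.comap ι).map S.subtype

theorem mem_realSub (ι : S →* G) (N : Subgroup G) (x : Ω) :
    x ∈ realSub ι N ↔ ∃ h : x ∈ S, ι ⟨x, h⟩ ∈ N := by
  constructor
  · rintro ⟨s, hs, rfl⟩
    exact ⟨s.2, hs⟩
  · rintro ⟨h, hx⟩
    exact ⟨⟨x, h⟩, hx, rfl⟩

theorem realSub_le (ι : S →* G) (N : Subgroup G) : realSub ι N ≤ S := by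
  intro x hx
  exact ((mem_realSub ι N x).mp hx).1

theorem realSub_mem_N (ι : S →* G) (N : Subgroup G) {x : Ω} (hx : x ∈ realSub ι N) :
    ι ⟨x, realSub_le ι N hx⟩ ∈ N :=
  ((mem_realSub ι N x).mp hx).2

/-- the subsystem of maps realized by conjugation with elements of `N` -/
noncomputable def realSubSystem (ι : S →* G) (hinj : Function.Injective ι) (N : Subgroup G) :
    FusionSystem (realSub ι N) where
  Hom P := {φ | ∃ (hP : P ≤ realSub ι N) (hφ : ∀ x : P, φ x ∈ realSub ι N), ∃ n ∈ N, ∀ x : P,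
      ι ⟨φ x, realSub_le ι N (hφ x)⟩ = n * ι ⟨x, realSub_le ι N (hP x.2)⟩ * n⁻¹}
  le_of_mem := by
    rintro P φ ⟨hP, hφ, -⟩
    exact ⟨hP, hφ⟩
  injective_of_mem := by
    rintro P φ ⟨hP, hφ, n, -, hn⟩ a b hab
    have h1 : ι ⟨φ a, realSub_le ι N (hφ a)⟩ = ι ⟨φ b, realSub_le ι N (hφ b)⟩ := by
      congr 1; exact Subtype.ext hab
    rw [hn a, hn b] at h1
    have h2 := hinj (mul_left_cancel (mul_right_cancel h1))
    exact Subtype.ext (congrArg (fun s : S => (s : Ω)) h2)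
  conj_mem := by
    intro P g hP hg
    have hval : ∀ x : P, conjHom P g x ∈ realSub ι N := fun x =>
      (realSub ι N).mul_mem ((realSub ι N).mul_mem hg (hP x.2)) ((realSub ι N).inv_mem hg)
    refine ⟨hP, hval, ι ⟨g, realSub_le ι N hg⟩, realSub_mem_N ι N hg, fun x => ?_⟩
    rw [← map_inv, ← map_mul, ← map_mul]
    congr 1
  comp_mem := by
    rintro P Q φ ψ ⟨hP, hφ, n, hn, hne⟩ ⟨hQ, hψ, m, hm, hme⟩ h
    refine ⟨hP, fun x => hψ _, m * n, N.mul_mem hm hn, fun x => ?_⟩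
    show ι ⟨ψ ⟨φ x, h x⟩, _⟩ = _
    rw [hme ⟨φ x, h x⟩]
    show m * ι ⟨φ x, _⟩ * m⁻¹ = _
    rw [hne x]
    group
  inv_mem := by
    rintro P φ ⟨hP, hφ, n, hn, hne⟩
    have hφinj : Function.Injective φ := by
      intro a b hab
      have h1 : ι ⟨φ a, realSub_le ι N (hφ a)⟩ = ι ⟨φ b, realSub_le ι N (hφ b)⟩ := by
        congr 1; exact Subtype.ext hab
      rw [hne a, hne b] at h1
      have h2 := hinj (mul_left_cancel (mul_right_cancel h1))
      exact Subtype.ext (congrArg (fun s : S => (s : Ω)) h2)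
    set e := MonoidHom.ofInjective hφinj with he
    have hsymm : ∀ x : P, e.symm ⟨φ x, ⟨x, rfl⟩⟩ = x := by
      intro x
      apply e.injective
      rw [MulEquiv.apply_symm_apply]
      exact Subtype.ext rfl
    have hrange : φ.range ≤ realSub ι N := by
      rintro _ ⟨x, rfl⟩; exact hφ x
    refine ⟨P.subtype.comp e.symm.toMonoidHom, ⟨hrange, fun y => hP (e.symm y).2, n⁻¹,
      N.inv_mem hn, ?_⟩, fun x => ?_⟩
    · rintro ⟨_, x, rfl⟩
      show ι ⟨((e.symm ⟨φ x, ⟨x, rfl⟩⟩ : P) : Ω), _⟩ = n⁻¹ * ι ⟨φ x, _⟩ * n⁻¹⁻¹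
      have h3 := hne x
      have h4 : ι ⟨((e.symm ⟨φ x, ⟨x, rfl⟩⟩ : P) : Ω), realSub_le ι N (hP (e.symm ⟨φ x, ⟨x, rfl⟩⟩).2)⟩ =
          ι ⟨x, realSub_le ι N (hP x.2)⟩ := by
        congr 1
        exact Subtype.ext (congrArg (fun s : P => (s : Ω)) (hsymm x))
      rw [h4]
      have h5 : ι ⟨φ x, realSub_le ι N (hrange ⟨x, rfl⟩)⟩ = ι ⟨φ x, realSub_le ι N (hφ x)⟩ := rfl
      rw [h5, h3]
      group
    · show ((e.symm ⟨φ x, ⟨x, rfl⟩⟩ : P) : Ω) = x
      rw [hsymm x]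


theorem realSubSystem_isSubsystemOf (F : FusionSystem S) (ι : S →* G) (hreal : F.IsRealizedBy ι)
    (N : Subgroup G) : (realSubSystem ι hreal.1 N).IsSubsystemOf F := by
  rintro P φ ⟨hP, hφ, n, -, hne⟩
  exact (hreal.2 P (hP.trans (realSub_le ι N)) φ (fun x => realSub_le ι N (hφ x))).mpr ⟨n, hne⟩

theorem realSubSystem_isSaturated [Finite G] (p : ℕ) [Fact p.Prime] (ι : S →* G)
    (hinj : Function.Injective ι) (R : Sylow p G) (hR : (R : Subgroup G) = ι.range)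
    (N : Subgroup G) [N.Normal] : (realSubSystem ι hinj N).IsSaturated p := by
  set ιN : realSub ι N →* N := ((ι.comp (Subgroup.inclusion (realSub_le ι N))).codRestrict N
    (fun x => realSub_mem_N ι N x.2)) with hιN
  have hιNinj : Function.Injective ιN := by
    intro a b hab
    have h1 : ι (Subgroup.inclusion (realSub_le ι N) a) = ι (Subgroup.inclusion (realSub_le ι N) b) :=
      congrArg Subtype.val hab
    exact Subgroup.inclusion_injective _ (hinj h1)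
  obtain ⟨R', hR'⟩ := (isSylowIn_inf_normal p R N).exists_sylow
  apply isSaturated_of_isRealizedBy_sylow p _ ιN _ R'
  · rw [hR']
    ext y
    rw [Subgroup.mem_subgroupOf]
    constructor
    · rintro ⟨hyR, -⟩
      rw [hR] at hyR
      obtain ⟨s, hs⟩ := hyR
      have hsT : (s : Ω) ∈ realSub ι N := (mem_realSub ι N _).mpr ⟨s.2, by
        show ι s ∈ N
        rw [hs]; exact y.2⟩
      exact ⟨⟨s, hsT⟩, Subtype.ext hs⟩
    · rintro ⟨t, rfl⟩
      refine ⟨?_, (ιN t).2⟩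
      rw [hR]
      exact ⟨_, rfl⟩
  · refine ⟨hιNinj, fun P hP φ hφ => ⟨?_, ?_⟩⟩
    · rintro ⟨_, _, n, hn, hne⟩
      exact ⟨⟨n, hn⟩, fun x => Subtype.ext (hne x)⟩
    · rintro ⟨g, hg⟩
      exact ⟨hP, hφ, g, g.2, fun x => congrArg Subtype.val (hg x)⟩

/-- `ι` extended by `1` outside `S`, to avoid dependent membership proofs. -/
noncomputable def extι (ι : S →* G) (x : Ω) : G := by
  classical exact if h : x ∈ S then ι ⟨x, h⟩ else 1

theorem extι_eq (ι : S →* G) {x : Ω} (h : x ∈ S) : extι ι x = ι ⟨x, h⟩ := by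
  unfold extι
  exact dif_pos h

theorem extι_mul (ι : S →* G) {x y : Ω} (hx : x ∈ S) (hy : y ∈ S) :
    extι ι (x * y) = extι ι x * extι ι y := by
  rw [extι_eq ι hx, extι_eq ι hy, extι_eq ι (S.mul_mem hx hy), ← map_mul]
  rfl

theorem extι_inv (ι : S →* G) {x : Ω} (hx : x ∈ S) : extι ι x⁻¹ = (extι ι x)⁻¹ := by
  rw [extι_eq ι hx, extι_eq ι (S.inv_mem hx), ← map_inv]
  rfl

theorem extι_inj (ι : S →* G) (hinj : Function.Injective ι) {x y : Ω} (hx : x ∈ S) (hy : y ∈ S)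
    (h : extι ι x = extι ι y) : x = y := by
  rw [extι_eq ι hx, extι_eq ι hy] at h
  exact congrArg (fun s : S => (s : Ω)) (hinj h)

theorem extι_mem_range (ι : S →* G) {x : Ω} (hx : x ∈ S) : extι ι x ∈ ι.range := by
  rw [extι_eq ι hx]; exact ⟨_, rfl⟩

theorem exists_extι_eq (ι : S →* G) {y : G} (hy : y ∈ ι.range) : ∃ x ∈ S, extι ι x = y := by
  obtain ⟨s, rfl⟩ := hy
  exact ⟨s, s.2, extι_eq ι s.2⟩

theorem mem_realSub' (ι : S →* G) (N : Subgroup G) (x : Ω) :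
    x ∈ realSub ι N ↔ x ∈ S ∧ extι ι x ∈ N := by
  rw [mem_realSub]
  constructor
  · rintro ⟨h, hx⟩
    exact ⟨h, by rw [extι_eq ι h]; exact hx⟩
  · rintro ⟨h, hx⟩
    exact ⟨h, by rw [extι_eq ι h] at hx; exact hx⟩

theorem mem_realSubSystem_iff (ι : S →* G) (hinj : Function.Injective ι) (N : Subgroup G)
    (P : Subgroup Ω) (φ : P →* Ω) :
    φ ∈ (realSubSystem ι hinj N).Hom P ↔ P ≤ realSub ι N ∧ (∀ x : P, φ x ∈ realSub ι N) ∧
      ∃ n ∈ N, ∀ x : P, extι ι (φ x) = n * extι ι x * n⁻¹ := by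
  constructor
  · rintro ⟨hP, hφ, n, hn, hne⟩
    refine ⟨hP, hφ, n, hn, fun x => ?_⟩
    rw [extι_eq ι (realSub_le ι N (hφ x)), extι_eq ι (realSub_le ι N (hP x.2))]
    exact hne x
  · rintro ⟨hP, hφ, n, hn, hne⟩
    refine ⟨hP, hφ, n, hn, fun x => ?_⟩
    have := hne x
    rw [extι_eq ι (realSub_le ι N (hφ x)), extι_eq ι (realSub_le ι N (hP x.2))] at this
    exact this

theorem mem_hom_iff_of_isRealizedBy (F : FusionSystem S) (ι : S →* G) (hreal : F.IsRealizedBy ι)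
    {P : Subgroup Ω} (hP : P ≤ S) (φ : P →* Ω) (hφ : ∀ x : P, φ x ∈ S) :
    φ ∈ F.Hom P ↔ ∃ g : G, ∀ x : P, extι ι (φ x) = g * extι ι x * g⁻¹ := by
  rw [hreal.2 P hP φ hφ]
  constructor
  · rintro ⟨g, hg⟩
    refine ⟨g, fun x => ?_⟩
    rw [extι_eq ι (hφ x), extι_eq ι (hP x.2)]
    exact hg x
  · rintro ⟨g, hg⟩
    refine ⟨g, fun x => ?_⟩
    have := hg x
    rw [extι_eq ι (hφ x), extι_eq ι (hP x.2)] at this
    exact this

theorem pullConj_spec' (ι : S →* G) (hinj : Function.Injective ι) (g : G) (A : Subgroup Ω)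
    (hA : A ≤ S) (h : ∀ x : A, g * ι ⟨x, hA x.2⟩ * g⁻¹ ∈ ι.range) (x : A) :
    extι ι (pullConj ι hinj g A hA h x) = g * extι ι x * g⁻¹ := by
  rw [extι_eq ι (pullConj_mem ι hinj g A hA h x), extι_eq ι (hA x.2)]
  exact pullConj_spec ι hinj g A hA h x

/-- elements of `Aut_F(A)` are realized by conjugation -/
theorem autGroup_conj_of_isRealizedBy (F : FusionSystem S) (ι : S →* G) (hreal : F.IsRealizedBy ι)
    {A : Subgroup Ω} (hA : A ≤ S) (α : MulAut A) (hα : α ∈ F.autGroup A) :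
    ∃ g : G, ∀ x : A, extι ι ((α x : A) : Ω) = g * extι ι x * g⁻¹ := by
  have h1 := (mem_autGroup_iff F hA α).mp hα
  exact (mem_hom_iff_of_isRealizedBy F ι hreal hA _ (fun x => hA (α x).2)).mp h1

theorem exists_frattini_decomp [Finite G] (p : ℕ) [Fact p.Prime] (R : Sylow p G) (N : Subgroup G)
    [hNn : N.Normal] (g : G) :
    ∃ m ∈ Subgroup.normalizer ((((R : Subgroup G) ⊓ N : Subgroup G)) : Set G), ∃ h ∈ N, m * h = g := by
  set T' : Subgroup G := (R : Subgroup G) ⊓ N with hT'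
  have hT'N : T' ≤ N := inf_le_right
  obtain ⟨R', hR'⟩ := (isSylowIn_inf_normal p R N).exists_sylow
  have hfr := Sylow.normalizer_sup_eq_top R'
  rw [hR'] at hfr
  have hmap : ((T'.subgroupOf N).map N.subtype) = T' := by
    rw [Subgroup.map_subgroupOf_eq_of_le hT'N]
  rw [hmap] at hfr
  have hgmem : g ∈ Subgroup.normalizer (T' : Set G) ⊔ N := by rw [hfr]; trivial
  rw [← SetLike.mem_coe, Subgroup.mul_normal] at hgmem
  obtain ⟨m, hm, h, hh, e⟩ := hgmem
  exact ⟨m, hm, h, hh, e⟩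

theorem extι_mem_inf_of_mem_realSub (ι : S →* G) (N : Subgroup G) (R : Subgroup G) (hR : R = ι.range)
    {x : Ω} (hx : x ∈ realSub ι N) : extι ι x ∈ R ⊓ N := by
  obtain ⟨h1, h2⟩ := (mem_realSub' ι N x).mp hx
  exact ⟨by rw [hR]; exact extι_mem_range ι h1, h2⟩

theorem realSubSystem_isInvariantIn [Finite G] (p : ℕ) [Fact p.Prime] (F : FusionSystem S)
    (ι : S →* G) (hreal : F.IsRealizedBy ι) (R : Sylow p G) (hR : (R : Subgroup G) = ι.range)
    (N : Subgroup G) [hNn : N.Normal] :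
    (realSubSystem ι hreal.1 N).IsInvariantIn F := by
  have hinj := hreal.1
  set T : Subgroup Ω := realSub ι N with hTdef
  have hTS : T ≤ S := realSub_le ι N
  have hsc : F.StronglyClosed T := by
    refine ⟨hTS, fun P hP φ hφ x => ?_⟩
    have hφS := (F.le_of_mem hφ).2
    obtain ⟨g, hg⟩ := (mem_hom_iff_of_isRealizedBy F ι hreal (hP.trans hTS) φ hφS).mp hφ
    refine (mem_realSub' ι N _).mpr ⟨hφS x, ?_⟩
    rw [hg x]
    exact hNn.conj_mem _ ((mem_realSub' ι N _).mp (hP x.2)).2 g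
  refine ⟨realSubSystem_isSubsystemOf F ι hreal N, hsc, ?_, ?_⟩
  · -- invariance under Aut_F(T)
    intro P hPT φ hφ α hα
    obtain ⟨-, hφT, n, hn, hne⟩ := (mem_realSubSystem_iff ι hinj N P φ).mp hφ
    obtain ⟨g, hg⟩ := autGroup_conj_of_isRealizedBy F ι hreal hTS α hα
    set P' := (P.subgroupOf T).map (T.subtype.comp α.toMonoidHom) with hP'
    have hP'T : P' ≤ T := by
      rintro _ ⟨x, -, rfl⟩
      exact (α x).2
    have hαinj : Function.Injective (T.subtype.comp α.toMonoidHom) := by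
      intro a b hab
      exact α.injective (Subtype.ext hab)
    set e := (P.subgroupOf T).equivMapOfInjective (T.subtype.comp α.toMonoidHom) hαinj with he
    set f : ↥(P.subgroupOf T) →* Ω := (T.subtype.comp α.toMonoidHom).comp
      ((φ.comp (Subgroup.subgroupOfEquivOfLe hPT).toMonoidHom).codRestrict T (fun x => hφT _)) with hf
    have hfval : ∀ x, f x ∈ T := fun x => (α _).2
    refine ⟨f.comp e.symm.toMonoidHom, ?_, fun x hφx hαx => ?_⟩
    · rw [mem_realSubSystem_iff]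
      refine ⟨hP'T, fun y => hfval _, g * n * g⁻¹, hNn.conj_mem n hn g, fun y => ?_⟩
      set x' := e.symm y with hx'
      have hy : y = e x' := (e.apply_symm_apply y).symm
      have hyv : (y : Ω) = ((α (x' : T) : T) : Ω) := by
        rw [hy]; rfl
      show extι ι (f x') = _
      have h1 : extι ι (f x') = g * extι ι (φ (Subgroup.subgroupOfEquivOfLe hPT x')) * g⁻¹ :=
        hg ⟨φ (Subgroup.subgroupOfEquivOfLe hPT x'), hφT _⟩
      rw [h1, hne, hyv, hg]
      have h2 : ((Subgroup.subgroupOfEquivOfLe hPT x' : P) : Ω) = ((x' : T) : Ω) := rfl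
      rw [h2]
      group
    · set x' : ↥(P.subgroupOf T) := ⟨⟨x, hPT x.2⟩, Subgroup.mem_subgroupOf.mpr x.2⟩ with hx'
      have h1 : (⟨((α ⟨x, hPT x.2⟩ : T) : Ω), hαx⟩ : P') = e x' := Subtype.ext rfl
      rw [h1]
      show f (e.symm (e x')) = _
      rw [MulEquiv.symm_apply_apply]
      rfl
  · -- Frattini condition
    intro P hPT φ hφ
    have hPS : P ≤ S := hPT.trans hTS
    have hφS := (F.le_of_mem hφ).2
    have hφT : ∀ x : P, φ x ∈ T := fun x => hsc.2 P hPT φ hφ x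
    obtain ⟨g, hg⟩ := (mem_hom_iff_of_isRealizedBy F ι hreal hPS φ hφS).mp hφ
    obtain ⟨m, hm, h, hhN, rfl⟩ := exists_frattini_decomp p R N g
    have hT' : ∀ {x : Ω}, x ∈ T → extι ι x ∈ (R : Subgroup G) ⊓ N := fun hx =>
      extι_mem_inf_of_mem_realSub ι N (R : Subgroup G) hR hx
    have hmT' : ∀ y ∈ (R : Subgroup G) ⊓ N, m * y * m⁻¹ ∈ (R : Subgroup G) ⊓ N := fun y hy =>
      (Subgroup.mem_normalizer_iff.mp hm y).mp hy
    have hmT'inv : ∀ y ∈ (R : Subgroup G) ⊓ N, m⁻¹ * y * m⁻¹⁻¹ ∈ (R : Subgroup G) ⊓ N := fun y hy =>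
      (Subgroup.mem_normalizer_iff.mp (Subgroup.inv_mem _ hm) y).mp hy
    -- the automorphism α of T induced by m
    have ha : ∀ x : T, m * ι ⟨x, hTS x.2⟩ * m⁻¹ ∈ ι.range := by
      intro x
      rw [← hR, ← extι_eq ι (hTS x.2)]
      exact (hmT' _ (hT' x.2)).1
    set a : T →* Ω := pullConj ι hinj m T hTS ha with hadef
    have haspec : ∀ x : T, extι ι (a x) = m * extι ι x * m⁻¹ := pullConj_spec' ι hinj m T hTS ha
    have haS : ∀ x : T, a x ∈ S := pullConj_mem ι hinj m T hTS ha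
    have haT : ∀ x : T, a x ∈ T := by
      intro x
      refine (mem_realSub' ι N _).mpr ⟨haS x, ?_⟩
      rw [haspec]
      exact (hmT' _ (hT' x.2)).2
    set a' : T →* T := a.codRestrict T haT with ha'
    have ha'inj : Function.Injective a' := by
      intro x y hxy
      have h1 : a x = a y := congrArg (fun t : T => (t : Ω)) hxy
      have h2 : extι ι (a x) = extι ι (a y) := by rw [h1]
      rw [haspec, haspec] at h2
      have h3 := mul_left_cancel (mul_right_cancel h2)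
      exact Subtype.ext (extι_inj ι hinj (hTS x.2) (hTS y.2) h3)
    haveI : Finite S := Finite.of_injective ι hinj
    haveI : Finite T := finite_of_le hTS
    have ha'bij : Function.Bijective a' := Finite.injective_iff_bijective.mp ha'inj
    set α : MulAut T := MulEquiv.ofBijective a' ha'bij with hα
    have hαa : ∀ x : T, ((α x : T) : Ω) = a x := fun x => rfl
    have hαF : α ∈ F.autGroup T := by
      rw [mem_autGroup_iff F hTS]
      exact (mem_hom_iff_of_isRealizedBy F ι hreal hTS _ (fun x => hTS (α x).2)).mpr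
        ⟨m, fun x => haspec x⟩
    -- the map φ₀ induced by h
    have hh : ∀ x : P, h * ι ⟨x, hPS x.2⟩ * h⁻¹ ∈ ι.range := by
      intro x
      rw [← hR, ← extι_eq ι (hPS x.2)]
      have h1 := hmT'inv _ (hT' (hφT x))
      rw [hg x] at h1
      have e : m⁻¹ * (m * h * extι ι (x : Ω) * (m * h)⁻¹) * m⁻¹⁻¹ = h * extι ι (x : Ω) * h⁻¹ := by group
      rw [e] at h1
      exact h1.1
    set φ₀ : P →* Ω := pullConj ι hinj h P hPS hh with hφ₀
    have hφ₀spec : ∀ x : P, extι ι (φ₀ x) = h * extι ι x * h⁻¹ := pullConj_spec' ι hinj h P hPS hh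
    have hφ₀S : ∀ x : P, φ₀ x ∈ S := pullConj_mem ι hinj h P hPS hh
    have hφ₀T : ∀ x : P, φ₀ x ∈ T := by
      intro x
      refine (mem_realSub' ι N _).mpr ⟨hφ₀S x, ?_⟩
      rw [hφ₀spec]
      exact N.mul_mem (N.mul_mem hhN (hT' (hPT x.2)).2) (N.inv_mem hhN)
    refine ⟨α, hαF, φ₀, ?_, fun x hx => ?_⟩
    · rw [mem_realSubSystem_iff]
      exact ⟨hPT, hφ₀T, h, hhN, hφ₀spec⟩
    · apply extι_inj ι hinj (hφS x) (hTS (α ⟨φ₀ x, hx⟩).2)
      rw [hg x, hαa, haspec]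
      show _ = m * extι ι (φ₀ x) * m⁻¹
      rw [hφ₀spec]
      group

theorem exists_mem_realSub_of_mem_inf (ι : S →* G) (N : Subgroup G) (R : Subgroup G) (hR : R = ι.range)
    {y : G} (hy : y ∈ R ⊓ N) : ∃ t ∈ realSub ι N, extι ι t = y := by
  obtain ⟨hyR, hyN⟩ := hy
  rw [hR] at hyR
  obtain ⟨x, hxS, rfl⟩ := exists_extι_eq ι hyR
  exact ⟨x, (mem_realSub' ι N x).mpr ⟨hxS, hyN⟩, rfl⟩

theorem extι_mem_centralizerIn (ι : S →* G) (N : Subgroup G) (R : Subgroup G) (hR : R = ι.range)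
    {c : Ω} (hc : c ∈ centralizerIn S (realSub ι N)) : extι ι c ∈ centralizerIn R (R ⊓ N) := by
  obtain ⟨hcS, hcC⟩ := hc
  refine ⟨by rw [hR]; exact extι_mem_range ι hcS, ?_⟩
  show _ ∈ Subgroup.centralizer ((R ⊓ N : Subgroup G) : Set G)
  rw [Subgroup.mem_centralizer_iff]
  intro y hy
  obtain ⟨t, ht, rfl⟩ := exists_mem_realSub_of_mem_inf ι N R hR hy
  have htS := realSub_le ι N ht
  rw [← extι_mul ι htS hcS, ← extι_mul ι hcS htS]
  congr 1
  exact (Subgroup.mem_centralizer_iff.mp hcC) t ht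

theorem mem_centralizerIn_of_extι (ι : S →* G) (hinj : Function.Injective ι) (N : Subgroup G)
    (R : Subgroup G) (hR : R = ι.range) {s : Ω} (hs : s ∈ S)
    (h : extι ι s ∈ Subgroup.centralizer ((R ⊓ N : Subgroup G) : Set G)) :
    s ∈ centralizerIn S (realSub ι N) := by
  refine ⟨hs, ?_⟩
  show s ∈ Subgroup.centralizer ((realSub ι N : Subgroup Ω) : Set Ω)
  rw [Subgroup.mem_centralizer_iff]
  intro t ht
  have htS := realSub_le ι N ht
  apply extι_inj ι hinj (S.mul_mem htS hs) (S.mul_mem hs htS)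
  rw [extι_mul ι htS hs, extι_mul ι hs htS]
  exact (Subgroup.mem_centralizer_iff.mp h) _ (extι_mem_inf_of_mem_realSub ι N R hR ht)

theorem realSubSystem_isNormalIn [Finite G] (p : ℕ) [Fact p.Prime] (F : FusionSystem S)
    (hF : F.IsSaturated p)
    (ι : S →* G) (hreal : F.IsRealizedBy ι) (R : Sylow p G) (hR : (R : Subgroup G) = ι.range)
    (N : Subgroup G) [hNn : N.Normal] :
    (realSubSystem ι hreal.1 N).IsNormalIn F p := by
  have hinj := hreal.1
  refine ⟨⟨realSubSystem_isSaturated p ι hinj R hR N, hF,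
    realSubSystem_isInvariantIn p F ι hreal R hR N⟩, ?_⟩
  set T : Subgroup Ω := realSub ι N with hTdef
  have hTS : T ≤ S := realSub_le ι N
  haveI : Finite S := Finite.of_injective ι hinj
  set T' : Subgroup G := (R : Subgroup G) ⊓ N with hT'def
  have hT' : ∀ {x : Ω}, x ∈ T → extι ι x ∈ T' := fun hx =>
    extι_mem_inf_of_mem_realSub ι N (R : Subgroup G) hR hx
  intro α hα
  have hαE := (mem_autGroup_iff (realSubSystem ι hinj N) le_rfl α).mp hα
  obtain ⟨-, -, h, hhN, hh⟩ := (mem_realSubSystem_iff ι hinj N T _).mp hαE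
  have hh' : ∀ x : T, extι ι ((α x : T) : Ω) = h * extι ι x * h⁻¹ := hh
  -- h normalizes T'
  have hhT' : h ∈ Subgroup.normalizer (T' : Set G) := by
    apply Subgroup.mem_normalizer_fintype
    intro y hy
    obtain ⟨t, ht, rfl⟩ := exists_mem_realSub_of_mem_inf ι N (R : Subgroup G) hR hy
    rw [← hh' ⟨t, ht⟩]
    exact hT' (α ⟨t, ht⟩).2
  obtain ⟨h', hh'N, hh'T, hh'C⟩ := exists_adjust_normalizing p R N h hhN hhT'
  set C : Subgroup Ω := centralizerIn S T with hCdef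
  have hCS : C ≤ S := inf_le_left
  set D : Subgroup Ω := T ⊔ C with hDdef
  have hDS : D ≤ S := sup_le hTS hCS
  -- conjugation by h' maps ι(D) into ι(D)
  have hK : D ≤ (((D.subgroupOf S).map ι).comap ((MulAut.conj h').toMonoidHom.comp ι)).map S.subtype := by
    apply sup_le
    · intro t ht
      refine ⟨⟨t, hTS ht⟩, ?_, rfl⟩
      show h' * ι ⟨t, hTS ht⟩ * h'⁻¹ ∈ (D.subgroupOf S).map ι
      refine ⟨⟨(α ⟨t, ht⟩ : T), hTS (α ⟨t, ht⟩).2⟩, Subgroup.mem_subgroupOf.mpr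
        (Subgroup.mem_sup_left (α ⟨t, ht⟩).2), ?_⟩
      rw [← extι_eq ι (hTS ht), ← extι_eq ι (hTS (α ⟨t, ht⟩).2), hh' ⟨t, ht⟩, hh'T _ (hT' ht)]
    · intro c hc
      refine ⟨⟨c, hCS hc⟩, ?_, rfl⟩
      show h' * ι ⟨c, hCS hc⟩ * h'⁻¹ ∈ (D.subgroupOf S).map ι
      have h1 := hh'C _ (extι_mem_centralizerIn ι N (R : Subgroup G) hR hc)
      have h2 : h' * extι ι c * h'⁻¹ ∈ ι.range := by rw [← hR]; exact h1.1
      obtain ⟨c₂, hc₂S, hc₂⟩ := exists_extι_eq ι h2
      have hc₂C : c₂ ∈ C := mem_centralizerIn_of_extι ι hinj N (R : Subgroup G) hR hc₂S (by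
        rw [hc₂]; exact h1.2)
      refine ⟨⟨c₂, hc₂S⟩, Subgroup.mem_subgroupOf.mpr (Subgroup.mem_sup_right hc₂C), ?_⟩
      rw [← extι_eq ι hc₂S, hc₂, extι_eq ι (hCS hc)]
  have hKspec : ∀ x : D, ∃ d ∈ D, extι ι d = h' * extι ι (x : Ω) * h'⁻¹ := by
    intro x
    obtain ⟨s, hs, hsx⟩ := hK x.2
    obtain ⟨d, hd, hde⟩ := hs
    refine ⟨d, Subgroup.mem_subgroupOf.mp hd, ?_⟩
    rw [extι_eq ι d.2, extι_eq ι (hDS x.2)]
    rw [hde]
    show h' * ι s * h'⁻¹ = _
    congr 2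
    exact congrArg ι (Subtype.ext hsx)
  have hb : ∀ x : D, h' * ι ⟨x, hDS x.2⟩ * h'⁻¹ ∈ ι.range := by
    intro x
    obtain ⟨d, hd, hde⟩ := hKspec x
    rw [← extι_eq ι (hDS x.2), ← hde]
    exact extι_mem_range ι (hDS hd)
  set b : D →* Ω := pullConj ι hinj h' D hDS hb with hbdef
  have hbspec : ∀ x : D, extι ι (b x) = h' * extι ι x * h'⁻¹ := pullConj_spec' ι hinj h' D hDS hb
  have hbS : ∀ x : D, b x ∈ S := pullConj_mem ι hinj h' D hDS hb
  have hbD : ∀ x : D, b x ∈ D := by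
    intro x
    obtain ⟨d, hd, hde⟩ := hKspec x
    have : b x = d := extι_inj ι hinj (hbS x) (hDS hd) (by rw [hbspec, hde])
    rw [this]; exact hd
  set b' : D →* D := b.codRestrict D hbD with hb'
  have hb'inj : Function.Injective b' := by
    intro x y hxy
    have h1 : b x = b y := congrArg (fun t : D => (t : Ω)) hxy
    have h2 : extι ι (b x) = extι ι (b y) := by rw [h1]
    rw [hbspec, hbspec] at h2
    have h3 := mul_left_cancel (mul_right_cancel h2)
    exact Subtype.ext (extι_inj ι hinj (hDS x.2) (hDS y.2) h3)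
  haveI : Finite D := finite_of_le hDS
  have hb'bij : Function.Bijective b' := Finite.injective_iff_bijective.mp hb'inj
  set β : MulAut D := MulEquiv.ofBijective b' hb'bij with hβ
  have hβb : ∀ x : D, ((β x : D) : Ω) = b x := fun x => rfl
  refine ⟨β, ?_, fun x => ?_, fun c hc => ?_⟩
  · rw [mem_autGroup_iff F hDS]
    exact (mem_hom_iff_of_isRealizedBy F ι hreal hDS _ (fun x => hDS (β x).2)).mpr
      ⟨h', fun x => hbspec x⟩
  · apply extι_inj ι hinj (hDS (β _).2) (hTS (α x).2)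
    rw [hβb, hbspec, hh' x]
    exact hh'T _ (hT' x.2)
  · have hcS : (c : Ω) ∈ S := hDS c.2
    have hβcS : ((β c : D) : Ω) ∈ S := hDS (β c).2
    have h1 := hh'C _ (extι_mem_centralizerIn ι N (R : Subgroup G) hR hc)
    have hβcC : ((β c : D) : Ω) ∈ C := by
      apply mem_centralizerIn_of_extι ι hinj N (R : Subgroup G) hR hβcS
      rw [hβb, hbspec]
      exact h1.2
    refine ⟨?_, Subgroup.mul_mem _ (Subgroup.inv_mem _ hc.2) hβcC.2⟩
    refine (mem_realSub' ι N _).mpr ⟨S.mul_mem (S.inv_mem hcS) hβcS, ?_⟩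
    rw [extι_mul ι (S.inv_mem hcS) hβcS, extι_inv ι hcS, hβb, hbspec]
    have e : (extι ι (c : Ω))⁻¹ * (h' * extι ι (c : Ω) * h'⁻¹) =
        ((extι ι (c : Ω))⁻¹ * h' * (extι ι (c : Ω))⁻¹⁻¹) * h'⁻¹ := by group
    rw [e]
    exact N.mul_mem (hNn.conj_mem _ hh'N _) (N.inv_mem hh'N)

end Cfsg.Agent.Lib.Helper7
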