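import Mathlib
import Cfsg.Prelude.Def_FusionSystem
import Cfsg.Agent.Lib.Helper7.RealizedNormal

set_option autoImplicit false

namespace Cfsg.Agent.Lib.Helper7

open Cfsg Cfsg.FusionSystem
open scoped Pointwise

universe u

variable {Ω : Type u} [Group Ω] {S : Subgroup Ω}

/-- quotient by a normal subgroup meeting the Sylow subgroup trivially still realizes the system -/
theorem isRealizedBy_quotient {G : Type u} [Group G] [Finite G] (p : ℕ) [Fact p.Prime]
    (F : FusionSystem S) (ι : S →* G) (hreal : F.IsRealizedBy ι) (R : Sylow p G)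
    (hR : (R : Subgroup G) = ι.range) (K : Subgroup G) [hKn : K.Normal]
    (hRK : (R : Subgroup G) ⊓ K = ⊥) :
    F.IsRealizedBy ((QuotientGroup.mk' K).comp ι) ∧
      ∃ T : Sylow p (G ⧸ K), (T : Subgroup (G ⧸ K)) = ((QuotientGroup.mk' K).comp ι).range := by
  have hinj := hreal.1
  have hπ1 : ∀ y : G, y ∈ (R : Subgroup G) → QuotientGroup.mk' K y = 1 → y = 1 := by
    intro y hyR hy
    rw [QuotientGroup.mk'_apply, QuotientGroup.eq_one_iff] at hy
    have : y ∈ (R : Subgroup G) ⊓ K := ⟨hyR, hy⟩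
    rw [hRK] at this
    exact Subgroup.mem_bot.mp this
  have hιR : ∀ s : S, ι s ∈ (R : Subgroup G) := fun s => by rw [hR]; exact ⟨s, rfl⟩
  refine ⟨⟨?_, fun P hP φ hφ => ⟨?_, ?_⟩⟩, ?_⟩
  · intro a b hab
    apply hinj
    have h1 : QuotientGroup.mk' K (ι a * (ι b)⁻¹) = 1 := by
      rw [map_mul, map_inv]
      show (QuotientGroup.mk' K).comp ι a * ((QuotientGroup.mk' K).comp ι b)⁻¹ = 1
      rw [hab, mul_inv_cancel]
    have h2 := hπ1 _ ((R : Subgroup G).mul_mem (hιR a) ((R : Subgroup G).inv_mem (hιR b))) h1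
    exact mul_inv_eq_one.mp h2
  · intro h
    obtain ⟨g, hg⟩ := (hreal.2 P hP φ hφ).mp h
    refine ⟨QuotientGroup.mk' K g, fun x => ?_⟩
    show QuotientGroup.mk' K (ι ⟨φ x, hφ x⟩) = _
    rw [hg x, map_mul, map_mul, map_inv]
    rfl
  · rintro ⟨g₀, hg₀⟩
    obtain ⟨g, rfl⟩ := QuotientGroup.mk'_surjective K g₀
    have hg' : ∀ x : P, QuotientGroup.mk' K (ι ⟨φ x, hφ x⟩) =
        QuotientGroup.mk' K (g * ι ⟨x, hP x.2⟩ * g⁻¹) := by
      intro x
      rw [map_mul, map_mul, map_inv]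
      exact hg₀ x
    -- A := g ι(P) g⁻¹ is a p-subgroup of R ⊔ K
    set A : Subgroup G := ((P.subgroupOf S).map ι).map (MulAut.conj g).toMonoidHom with hA
    have hAp : IsPGroup p A := by
      apply IsPGroup.map
      apply IsPGroup.map
      have : IsPGroup p S := by
        have := R.isPGroup'
        rw [hR] at this
        exact IsPGroup.of_injective this (ι.rangeRestrict) (by
          intro a b hab
          exact hinj (congrArg Subtype.val hab))
      exact this.to_subgroup _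
    have hAmem : ∀ x : P, g * ι ⟨x, hP x.2⟩ * g⁻¹ ∈ A := fun x =>
      ⟨ι ⟨x, hP x.2⟩, ⟨⟨x, hP x.2⟩, Subgroup.mem_subgroupOf.mpr x.2, rfl⟩, rfl⟩
    have hAle : A ≤ (R : Subgroup G) ⊔ K := by
      rintro _ ⟨_, ⟨s, hs, rfl⟩, rfl⟩
      have hsP : (s : Ω) ∈ P := Subgroup.mem_subgroupOf.mp hs
      have h1 := hg' ⟨s, hsP⟩
      show g * ι s * g⁻¹ ∈ (R : Subgroup G) ⊔ K
      have h2 : (ι ⟨φ ⟨s, hsP⟩, hφ _⟩)⁻¹ * (g * ι s * g⁻¹) ∈ K := by
        rw [← QuotientGroup.eq_one_iff, ← QuotientGroup.mk'_apply, map_mul, map_inv, h1]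
        exact inv_mul_cancel _
      have e : g * ι s * g⁻¹ = ι ⟨φ ⟨s, hsP⟩, hφ _⟩ * ((ι ⟨φ ⟨s, hsP⟩, hφ _⟩)⁻¹ * (g * ι s * g⁻¹)) := by
        group
      rw [e]
      exact Subgroup.mul_mem _ (Subgroup.mem_sup_left (hιR _)) (Subgroup.mem_sup_right h2)
    have hRsyl : IsSylowIn p (R : Subgroup G) ((R : Subgroup G) ⊔ K) :=
      (IsSylowIn.of_sylow_top R).of_le_mid le_sup_left le_top
    obtain ⟨y, hy, hyA⟩ := hRsyl.exists_conj_le hAp hAle
    have hcoe := Subgroup.mul_normal (R : Subgroup G) K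
    have hy' : y ∈ (((R : Subgroup G) : Set G) * (K : Set G)) := by rw [← hcoe]; exact hy
    obtain ⟨r, hr, k, hk, rfl⟩ := hy'
    have hkA : ∀ a ∈ A, k * a * k⁻¹ ∈ (R : Subgroup G) := by
      intro a ha
      have h1 := hyA a ha
      have e : k * a * k⁻¹ = r⁻¹ * (r * k * a * (r * k)⁻¹) * r := by group
      rw [e]
      exact (R : Subgroup G).mul_mem ((R : Subgroup G).mul_mem ((R : Subgroup G).inv_mem hr) h1) hr
    apply (hreal.2 P hP φ hφ).mpr
    refine ⟨k * g, fun x => ?_⟩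
    have hu := hkA _ (hAmem x)
    have hv := hιR ⟨φ x, hφ x⟩
    have h1 : QuotientGroup.mk' K ((ι ⟨φ x, hφ x⟩)⁻¹ * (k * (g * ι ⟨x, hP x.2⟩ * g⁻¹) * k⁻¹)) = 1 := by
      have hk1 : QuotientGroup.mk' K k = 1 := by
        rw [QuotientGroup.mk'_apply, QuotientGroup.eq_one_iff]; exact hk
      rw [map_mul, map_inv, map_mul, map_mul, map_inv, hk1, one_mul, inv_one, mul_one, ← hg' x]
      exact inv_mul_cancel _
    have h2 := hπ1 _ ((R : Subgroup G).mul_mem ((R : Subgroup G).inv_mem hv) hu) h1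
    have h3 := inv_mul_eq_one.mp h2
    rw [h3]
    group
  · refine ⟨R.mapSurjective (QuotientGroup.mk'_surjective K), ?_⟩
    rw [Sylow.coe_mapSurjective, MonoidHom.range_comp, hR]

/-- if the subsystem of `N` is the whole system then `N` realizes the system -/
theorem isRealizedBy_subgroup {G : Type u} [Group G] [Finite G] (p : ℕ) [Fact p.Prime]
    (F : FusionSystem S) (ι : S →* G) (hreal : F.IsRealizedBy ι) (R : Sylow p G)
    (hR : (R : Subgroup G) = ι.range) (N : Subgroup G)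
    (hT : realSub ι N = S) (hE : ∀ P, (realSubSystem ι hreal.1 N).Hom P = F.Hom P) :
    ∃ ιN : S →* N, F.IsRealizedBy ιN ∧ ∃ T : Sylow p N, (T : Subgroup N) = ιN.range := by
  have hinj := hreal.1
  have hιN : ∀ s : S, ι s ∈ N := by
    intro s
    have hs : (s : Ω) ∈ realSub ι N := by rw [hT]; exact s.2
    exact realSub_mem_N ι N hs
  refine ⟨ι.codRestrict N hιN, ⟨?_, fun P hP φ hφ => ?_⟩, ?_⟩
  · intro a b hab
    exact hinj (congrArg Subtype.val hab)
  · rw [← hE P]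
    constructor
    · rintro ⟨_, _, n, hn, hne⟩
      exact ⟨⟨n, hn⟩, fun x => Subtype.ext (hne x)⟩
    · rintro ⟨g, hg⟩
      exact ⟨hP.trans hT.ge, fun x => hT.ge (hφ x), g, g.2, fun x => congrArg Subtype.val (hg x)⟩
  · have hRN : (R : Subgroup G) ≤ N := by
      rw [hR]; rintro _ ⟨s, rfl⟩; exact hιN s
    obtain ⟨R'', hR''⟩ := (IsSylowIn.of_sylow_le R hRN).exists_sylow
    refine ⟨R'', ?_⟩
    rw [hR'']
    ext y
    rw [Subgroup.mem_subgroupOf, hR]
    constructor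
    · rintro ⟨s, hs⟩
      exact ⟨s, Subtype.ext hs⟩
    · rintro ⟨s, rfl⟩
      exact ⟨s, rfl⟩

theorem exists_simple_realization [Finite S] (p : ℕ) [Fact p.Prime]
    (F : FusionSystem S) (hsimple : F.IsSimple p) (hreal : F.IsRealizable p) :
    ∃ (G : Type u) (_ : Group G) (_ : Finite G) (_ : IsSimpleGroup G) (ι : ↥S →* G),
      F.IsRealizedBy ι ∧ ∃ T : Sylow p G, (T : Subgroup G) = ι.range := by
  classical
  let Pr : ℕ → Prop := fun n => ∃ (G : Type u) (_ : Group G) (_ : Finite G) (ι : S →* G),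
    F.IsRealizedBy ι ∧ (∃ T : Sylow p G, (T : Subgroup G) = ι.range) ∧ Nat.card G = n
  have hex : ∃ n, Pr n := by
    obtain ⟨G, i1, i2, ι, h1, h2⟩ := hreal
    exact ⟨Nat.card G, G, i1, i2, ι, h1, h2, rfl⟩
  obtain ⟨G, iG, iF, ι, hι, ⟨R, hR⟩, hcard⟩ := Nat.find_spec hex
  have hmin : ∀ m, m < Nat.card G → ¬ Pr m := fun m hm => Nat.find_min hex (by rw [← hcard]; exact hm)
  obtain ⟨hFsat, hSne, hall⟩ := hsimple
  have hinj := hι.1
  refine ⟨G, iG, iF, ?_, ι, hι, R, hR⟩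
  haveI : Nontrivial G := by
    by_contra hnt
    rw [not_nontrivial_iff_subsingleton] at hnt
    apply hSne
    rw [eq_bot_iff]
    intro x hx
    have : (⟨x, hx⟩ : S) = 1 := hinj (Subsingleton.elim _ _)
    exact Subgroup.mem_bot.mpr (congrArg Subtype.val this)
  refine ⟨fun N hN => ?_⟩
  haveI := hN
  rcases hall _ _ (realSubSystem_isNormalIn p F hFsat ι hι R hR N) with h0 | ⟨h1, h2⟩
  · left
    by_contra hNbot
    have hRN : (R : Subgroup G) ⊓ N = ⊥ := by
      rw [eq_bot_iff]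
      intro y hy
      obtain ⟨t, ht, rfl⟩ := exists_mem_realSub_of_mem_inf ι N (R : Subgroup G) hR hy
      rw [h0] at ht
      have : t = 1 := Subgroup.mem_bot.mp ht
      subst this
      rw [extι_eq ι S.one_mem]
      exact Subgroup.mem_bot.mpr (map_one ι)
    obtain ⟨hq1, hq2⟩ := isRealizedBy_quotient p F ι hι R hR N hRN
    apply hmin (Nat.card (G ⧸ N)) _ ⟨G ⧸ N, inferInstance, inferInstance, _, hq1, hq2, rfl⟩
    rw [Subgroup.card_eq_card_quotient_mul_card_subgroup N]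
    have h1 : 1 < Nat.card N := (Subgroup.one_lt_card_iff_ne_bot (H := N)).mpr hNbot
    have h2 : 0 < Nat.card (G ⧸ N) := Nat.card_pos
    nlinarith
  · right
    by_contra hNtop
    obtain ⟨ιN, hn1, hn2⟩ := isRealizedBy_subgroup p F ι hι R hR N h1 h2
    apply hmin (Nat.card N) _ ⟨N, inferInstance, inferInstance, ιN, hn1, hn2, rfl⟩
    apply lt_of_le_of_ne (Subgroup.card_le_card_group N)
    intro h
    exact hNtop (Subgroup.eq_top_of_card_eq N h)

end Cfsg.Agent.Lib.Helper7
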