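import Mathlib
import Cfsg.Prelude.Def_FusionSystem
import Cfsg.Prelude.Def_FusionComponents
import Cfsg.Prelude.Def_Local
import Cfsg.Agent.Lib.Helper7.PSolvRealA
import Cfsg.Agent.Lib.Helper7.ModelExI
import Cfsg.Agent.Lib.Helper7.ModelConstrained
import Cfsg.Agent.Lib.Helper7.SimpleRealization
import Cfsg.Agent.Lib.Helper7.FusionCore
import Cfsg.Agent.Lib.Lead.PSolvable
import Cfsg.Agent.Lib.Helper4.SolvPSolv
import Cfsg.Agent.H2.PPrimeCore

/-!
# Fusion systems of `p`-solvable groups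
-/

set_option autoImplicit false

namespace Cfsg.Agent.Lib.Helper7.PSolvReal

open Cfsg Cfsg.FusionSystem Cfsg.Agent.Lib.Helper7 Cfsg.Agent.Lib.Helper7.ModelUq
  Cfsg.Agent.Lib.Lead.PSolvable

universe u v

variable {Ω : Type u} [Group Ω] {S : Subgroup Ω}

/-- automizers in the fusion system of a `p`-solvable group are `p`-solvable -/
theorem isPSolvable_autGroup {G : Type v} [Group G] (p : ℕ) [Fact p.Prime] (F : FusionSystem S)
    (ι : S →* G) (hreal : F.IsRealizedBy ι) (hsol : IsPSolvable p G) {R : Subgroup Ω} (hRS : R ≤ S) :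
    IsPSolvable p ↥(F.autGroup R) := by
  obtain ⟨c, hrange, -⟩ := exists_autHom F ι hreal hRS
  have h1 : IsPSolvable p ↥(Subgroup.normalizer ((imQ ι R : Subgroup G) : Set G)) :=
    IsPSolvable.subgroup _ hsol
  have hmem : ∀ g, c g ∈ F.autGroup R := fun g => hrange ▸ ⟨g, rfl⟩
  refine IsPSolvable.of_surjective (c.codRestrict (F.autGroup R) hmem) ?_ h1
  rintro ⟨α, hα⟩
  have hα' : α ∈ c.range := hrange ▸ hα
  obtain ⟨g, rfl⟩ := hα'
  exact ⟨g, rfl⟩

/-- a group realizing `F` in which the image of `R` is normal and contains its centralizer is `p`-solvable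
when `Aut_F(R)` is -/
theorem isPSolvable_of_autGroup {G : Type v} [Group G] [Finite G] (p : ℕ) [Fact p.Prime]
    (hS : IsPGroup p S) (F : FusionSystem S)
    (ι : S →* G) (hreal : F.IsRealizedBy ι) {R : Subgroup Ω} (hRS : R ≤ S)
    (hRn : (imQ ι R).Normal)
    (hcen : Subgroup.centralizer ((imQ ι R : Subgroup G) : Set G) ≤ imQ ι R)
    (hsol : IsPSolvable p ↥(F.autGroup R)) : IsPSolvable p G := by
  obtain ⟨c, hrange, hker⟩ := exists_autHom F ι hreal hRS
  have hN : Subgroup.normalizer ((imQ ι R : Subgroup G) : Set G) = ⊤ :=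
    Subgroup.normalizer_eq_top_iff.mpr hRn
  -- the kernel of `c` is a `p`-group
  have hUp : IsPGroup p ↥(imQ ι R) := imQ_isPGroup p hS ι R
  have hkp : IsPGroup p ↥c.ker := by
    intro g
    have hg : ((g : ↥(Subgroup.normalizer ((imQ ι R : Subgroup G) : Set G))) : G) ∈ imQ ι R :=
      hcen ((hker _).mp (MonoidHom.mem_ker.mp g.2))
    obtain ⟨k, hk⟩ := hUp ⟨_, hg⟩
    refine ⟨k, ?_⟩
    have h1 := congrArg (fun t : ↥(imQ ι R) => (t : G)) hk
    apply Subtype.ext
    apply Subtype.ext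
    simpa using h1
  obtain ⟨m, hm⟩ := IsPGroup.iff_card.mp hkp
  have hquot : IsPSolvable p (↥(Subgroup.normalizer ((imQ ι R : Subgroup G) : Set G)) ⧸ c.ker) := by
    have h1 : IsPSolvable p ↥c.range := by
      rw [hrange]
      exact hsol
    exact IsPSolvable.of_mulEquiv (QuotientGroup.quotientKerEquivRange c).symm h1
  have h2 : IsPSolvable p ↥(Subgroup.normalizer ((imQ ι R : Subgroup G) : Set G)) :=
    Cfsg.Agent.Lib.Helper4.SolvPSolv.isPSolvable_of_quotient c.ker (Or.inl ⟨m, hm⟩) hquot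
  rw [hN] at h2
  exact IsPSolvable.of_mulEquiv Subgroup.topEquiv h2

/-- **Fusion systems of `p`-solvable groups**: a saturated fusion system is realized by a finite `p`-solvable
group iff it is constrained and `Aut_F(O_p(F))` is `p`-solvable -/
theorem realized_pSolvable_iff [Finite S] (p : ℕ) [Fact p.Prime] (hS : IsPGroup p S)
    (F : FusionSystem S) :
    (∃ (G : Type u) (_ : Group G) (_ : Finite G) (ι : S →* G), Cfsg.IsPSolvable p G ∧ F.IsRealizedBy ι ∧
        ∃ T : Sylow p G, (T : Subgroup G) = ι.range) ↔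
      (F.IsConstrained p ∧ Cfsg.IsPSolvable p ↥(F.autGroup F.core)) := by
  have hRn : F.IsNormal F.core := isNormal_core F
  have hRS : F.core ≤ S := hRn.1
  constructor
  · rintro ⟨G, instG, finG, ι, hsol, hreal, T, hT⟩
    refine ⟨?_, isPSolvable_autGroup p F ι hreal hsol hRS⟩
    -- pass to `G / O_{p'}(G)`
    have hTK : (T : Subgroup G) ⊓ pPrimeCore p G = ⊥ := by
      apply Disjoint.eq_bot
      apply Subgroup.disjoint_of_coprime_natCard
      obtain ⟨k, hk⟩ := IsPGroup.iff_card.mp T.2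
      rw [hk]
      exact Nat.Coprime.pow_left k (Cfsg.Agent.H1.pPrimeCore_coprime p).symm
    obtain ⟨hreal₁, T₁, hT₁⟩ := isRealizedBy_quotient p F ι hreal T hT (pPrimeCore p G) hTK
    have hsol₁ : IsPSolvable p (G ⧸ pPrimeCore p G) := IsPSolvable.quotient _ hsol
    have hbot : pPrimeCore p (G ⧸ pPrimeCore p G) = ⊥ := Cfsg.Agent.H2.pPrimeCore_quotient_eq_bot p
    have hHH := centralizer_pCore_le hsol₁ hbot
    exact isConstrained_of_isModel p F _ ⟨inferInstance, hreal₁, ⟨T₁, hT₁⟩, hHH⟩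
  · rintro ⟨hFc, hsol⟩
    obtain ⟨L, instL, ι, hM⟩ := ModelEx.exists_model p hS F hFc
    have hcen : centralizerIn S F.core ≤ F.core := by
      obtain ⟨-, Q, hQ, hQc⟩ := hFc
      have hQR : Q ≤ F.core := le_sSup hQ
      have h1 : centralizerIn S Q ≤ Q := hQc.2 Q (isConj_refl F hQ.1)
      intro x hx
      apply hQR
      apply h1
      exact ⟨hx.1, Subgroup.centralizer_le (SetLike.coe_subset_coe.mpr hQR) hx.2⟩
    have hUn := imQ_normal p F ι hM hRn
    have hUc := model_centralizer_le p hS F ι hM hRn hcen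
    obtain ⟨hfin, hreal, hT, -⟩ := hM
    exact ⟨L, instL, hfin, ι, isPSolvable_of_autGroup p hS F ι hreal hRS hUn hUc hsol, hreal, hT⟩

end Cfsg.Agent.Lib.Helper7.PSolvReal
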