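import Mathlib
import Cfsg.Prelude.Def_FusionSystem
import Cfsg.Prelude.Def_LocalEven
import Cfsg.Agent.Lib.Helper7.PStableFusion
import Cfsg.Agent.Lib.Helper7.GroupFusion3

set_option autoImplicit false

namespace Cfsg.Agent.Lib.Helper7

open Cfsg Cfsg.FusionSystem
open scoped commutatorElement Pointwise

variable {G : Type*} [Group G]

/-- Membership of the image of `g ∈ N_G(Q)` in `O_p(N_G(Q)/C_G(Q))`, read in `Aut(Q)`. -/
theorem mk_mem_pCore_quotient_iff {p : ℕ} (Q : Subgroup G) (g : G)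
    (hg : g ∈ Subgroup.normalizer (Q : Set G)) :
    (QuotientGroup.mk (s := (Subgroup.centralizer (Q : Set G)).subgroupOf (Subgroup.normalizer (Q : Set G)))
        (⟨g, hg⟩ : ↥(Subgroup.normalizer (Q : Set G)))) ∈
      pCore p (↥(Subgroup.normalizer (Q : Set G)) ⧸
        (Subgroup.centralizer (Q : Set G)).subgroupOf (Subgroup.normalizer (Q : Set G))) ↔
    Q.normalizerMonoidHom ⟨g, hg⟩ ∈ pCoreOf p (Q.normalizerMonoidHom.range) := by
  set Φ : (↥(Subgroup.normalizer (Q : Set G)) ⧸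
        (Subgroup.centralizer (Q : Set G)).subgroupOf (Subgroup.normalizer (Q : Set G))) ≃*
      ↥(Q.normalizerMonoidHom.range) :=
    (QuotientGroup.quotientMulEquivOfEq (Subgroup.normalizerMonoidHom_ker Q).symm).trans
      (QuotientGroup.quotientKerEquivRange Q.normalizerMonoidHom) with hΦ
  have hΦmk : ∀ x : ↥(Subgroup.normalizer (Q : Set G)),
      ((Φ (QuotientGroup.mk x) : ↥(Q.normalizerMonoidHom.range)) : MulAut Q) =
        Q.normalizerMonoidHom x := fun x => rfl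
  have hmap := pCore_map_equiv (p := p) Φ
  constructor
  · intro h
    refine ⟨Φ (QuotientGroup.mk ⟨g, hg⟩), ?_, hΦmk _⟩
    rw [← hmap]
    exact ⟨_, h, rfl⟩
  · rintro ⟨y, hy, hyg⟩
    rw [← hmap] at hy
    obtain ⟨z, hz, rfl⟩ := hy
    have : z = QuotientGroup.mk ⟨g, hg⟩ := by
      apply Φ.injective
      apply Subtype.ext
      rw [hΦmk]
      exact hyg
    rw [← this]
    exact hz


theorem mem_centralizer_zpowers_iff (g x : G) :
    x ∈ Subgroup.centralizer (Subgroup.zpowers g : Set G) ↔ g * x = x * g := by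
  constructor
  · intro h
    exact Subgroup.mem_centralizer_iff.mp h g (Subgroup.mem_zpowers g)
  · intro h
    rw [Subgroup.mem_centralizer_iff]
    intro y hy
    obtain ⟨k, rfl⟩ := Subgroup.mem_zpowers_iff.mp hy
    have hc : Commute g x := h
    exact (hc.zpow_left k).eq

/-- The quadratic identity for conjugation by `g` on `Q`, read as `[Q, g, g] = 1`. -/
theorem quadratic_iff_commutator_eq_bot [Finite G] (Q : Subgroup G) (g : G)
    (hg : g ∈ Subgroup.normalizer (Q : Set G)) :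
    ⁅⁅Q, Subgroup.zpowers g⁆, Subgroup.zpowers g⁆ = ⊥ ↔
      ∀ a : Q, (Q.normalizerMonoidHom ⟨g, hg⟩ a⁻¹) * a * (Q.normalizerMonoidHom ⟨g, hg⟩ a⁻¹) *
        (Q.normalizerMonoidHom ⟨g, hg⟩ (Q.normalizerMonoidHom ⟨g, hg⟩ a)) = 1 := by
  have hE : ∀ a : Q, ((Q.normalizerMonoidHom ⟨g, hg⟩ a⁻¹) * a * (Q.normalizerMonoidHom ⟨g, hg⟩ a⁻¹) *
        (Q.normalizerMonoidHom ⟨g, hg⟩ (Q.normalizerMonoidHom ⟨g, hg⟩ a)) = 1) ↔
      g * ⁅(a : G)⁻¹, g⁆ = ⁅(a : G)⁻¹, g⁆ * g := by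
    intro a
    rw [← Subtype.coe_inj]
    have e1 : (((Q.normalizerMonoidHom ⟨g, hg⟩ a⁻¹) * a * (Q.normalizerMonoidHom ⟨g, hg⟩ a⁻¹) *
        (Q.normalizerMonoidHom ⟨g, hg⟩ (Q.normalizerMonoidHom ⟨g, hg⟩ a)) : Q) : G) =
        ⁅(a : G)⁻¹, g⁆⁻¹ * g * ⁅(a : G)⁻¹, g⁆ * g⁻¹ := by
      show (g * ((a : G))⁻¹ * g⁻¹) * a * (g * ((a : G))⁻¹ * g⁻¹) * (g * (g * a * g⁻¹) * g⁻¹) = _
      rw [commutatorElement_def]
      group
    rw [e1]
    constructor
    · intro h
      have : ⁅(a : G)⁻¹, g⁆⁻¹ * g * ⁅(a : G)⁻¹, g⁆ = g := by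
        have := mul_inv_eq_one.mp h
        exact this
      calc g * ⁅(a : G)⁻¹, g⁆ = (⁅(a : G)⁻¹, g⁆ * (⁅(a : G)⁻¹, g⁆⁻¹ * g * ⁅(a : G)⁻¹, g⁆)) := by group
        _ = ⁅(a : G)⁻¹, g⁆ * g := by rw [this]
    · intro h
      show ⁅(a : G)⁻¹, g⁆⁻¹ * g * ⁅(a : G)⁻¹, g⁆ * g⁻¹ = 1
      rw [mul_assoc ⁅(a : G)⁻¹, g⁆⁻¹, h]
      group
  constructor
  · intro h a
    rw [hE]
    have h1 : ⁅(a : G)⁻¹, g⁆ ∈ ⁅Q, Subgroup.zpowers g⁆ :=
      Subgroup.commutator_mem_commutator (Q.inv_mem a.2) (Subgroup.mem_zpowers g)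
    have h2 : ⁅⁅(a : G)⁻¹, g⁆, g⁆ ∈ ⁅⁅Q, Subgroup.zpowers g⁆, Subgroup.zpowers g⁆ :=
      Subgroup.commutator_mem_commutator h1 (Subgroup.mem_zpowers g)
    rw [h, Subgroup.mem_bot, commutatorElement_eq_one_iff_commute] at h2
    exact h2.eq.symm
  · intro h
    have hI : ∀ a ∈ Q, ⁅a, g⁆ ∈ Subgroup.centralizer (Subgroup.zpowers g : Set G) := by
      intro a ha
      rw [mem_centralizer_zpowers_iff]
      have := (hE ⟨a⁻¹, Q.inv_mem ha⟩).mp (h _)
      simpa using this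
    rw [Subgroup.commutator_eq_bot_iff_le_centralizer, Subgroup.commutator_le]
    intro a ha y hy
    rw [← mem_powers_iff_mem_zpowers] at hy
    obtain ⟨k, rfl⟩ := hy
    induction k with
    | zero => simp
    | succ k ih =>
      have e2 : ⁅a, g ^ (k + 1)⁆ = ⁅a, g⁆ * (g * ⁅a, g ^ k⁆ * g⁻¹) := by
        rw [pow_succ', commutatorElement_def, commutatorElement_def, commutatorElement_def]
        group
      rw [e2]
      have h3 := (mem_centralizer_zpowers_iff g _).mp ih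
      rw [h3, mul_inv_cancel_right]
      exact Subgroup.mul_mem _ (hI a ha) ih


theorem normalizerMonoidHom_range_eq (Q : Subgroup G) :
    Q.normalizerMonoidHom.range = autInducedBy ⊤ Q := by
  rw [autInducedBy_eq_map, top_inf_eq, Subgroup.subgroupOf_self, MonoidHom.range_eq_map]

/-- Transport of `Aut_G(Q₀)` along conjugation by `x`. -/
theorem autInducedBy_top_map_congr (Q₀ : Subgroup G) (x : G) :
    (autInducedBy ⊤ Q₀).map (MulAut.congr
        (Q₀.equivMapOfInjective (MulAut.conj x).toMonoidHom (MulAut.conj x).injective)).toMonoidHom =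
      autInducedBy ⊤ (Q₀.map (MulAut.conj x).toMonoidHom) := by
  set e := Q₀.equivMapOfInjective (MulAut.conj x).toMonoidHom (MulAut.conj x).injective with he
  have hecoe : ∀ a : Q₀, ((e a : Q₀.map (MulAut.conj x).toMonoidHom) : G) = x * a * x⁻¹ :=
    fun a => rfl
  ext β
  constructor
  · rintro ⟨α, hα, rfl⟩
    obtain ⟨h, -, hh⟩ := (mem_autInducedBy_iff _ _ α).mp hα
    rw [mem_autInducedBy_iff]
    refine ⟨x * h * x⁻¹, Subgroup.mem_top _, fun y => ?_⟩
    obtain ⟨a, rfl⟩ := e.surjective y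
    have : (MulAut.congr e).toMonoidHom α (e a) = e (α a) := by
      show e (α (e.symm (e a))) = e (α a)
      rw [MulEquiv.symm_apply_apply]
    rw [this, hecoe, hecoe, hh]
    group
  · intro hβ
    obtain ⟨k, -, hk⟩ := (mem_autInducedBy_iff _ _ β).mp hβ
    refine ⟨(MulAut.congr e).symm β, ?_, MulEquiv.apply_symm_apply _ β⟩
    apply (mem_autInducedBy_iff _ _ _).mpr
    refine ⟨x⁻¹ * k * x, Subgroup.mem_top _, fun a => ?_⟩
    have h1 : e ((MulAut.congr e).symm β a) = β (e a) := by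
      show e (e.symm (β (e.symm.symm a))) = β (e a)
      rw [MulEquiv.apply_symm_apply]
      rfl
    have h2 := congrArg (fun z : Q₀.map (MulAut.conj x).toMonoidHom => (z : G)) h1
    simp only [hecoe, hk] at h2
    have h3 : ((((MulAut.congr e).symm β) a : Q₀) : G) =
        x⁻¹ * (x * (((MulAut.congr e).symm β) a : Q₀) * x⁻¹) * x := by group
    rw [h3, h2]
    group

/-- S5246: `G` is `p`-stable in the normalizer form iff its fusion system on a Sylow `p`-subgroup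
is `p`-stable. -/
theorem isNormalizerPStable_iff_fusPStable [Finite G] {p : ℕ} [Fact p.Prime] (P : Sylow p G) :
    IsNormalizerPStable p G ↔ FusPStable p (groupFusionSystem (P : Subgroup G)) := by
  constructor
  · intro h Q hQfn χ hχ hq
    have hQP : Q ≤ P := hQfn.1
    rw [gfs_autGroup_eq _ _ hQP] at hχ ⊢
    rw [← normalizerMonoidHom_range_eq] at hχ ⊢
    obtain ⟨⟨g, hg⟩, rfl⟩ := hχ
    have hcomm := (quadratic_iff_commutator_eq_bot Q g hg).mpr hq
    have := h Q (P.2.to_le hQP) g hg hcomm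
    exact (mk_mem_pCore_quotient_iff Q g hg).mp this
  · intro h Q₀ hQ₀p g hg hcomm
    rw [mk_mem_pCore_quotient_iff]
    obtain ⟨x, hx⟩ : ∃ x : G, Q₀.map (MulAut.conj x).toMonoidHom ≤ P := by
      obtain ⟨P', hP'⟩ := hQ₀p.exists_le_sylow
      obtain ⟨x, hx⟩ := MulAction.exists_smul_eq G P' P
      refine ⟨x, ?_⟩
      rintro _ ⟨r, hr, rfl⟩
      have h1 : MulAut.conj x • r ∈ MulAut.conj x • (P' : Subgroup G) :=
        Subgroup.smul_mem_pointwise_smul _ _ _ (hP' hr)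
      rw [← Sylow.coe_subgroup_smul, hx] at h1
      exact h1
    set e := Q₀.equivMapOfInjective (MulAut.conj x).toMonoidHom (MulAut.conj x).injective with he
    have hq := (quadratic_iff_commutator_eq_bot Q₀ g hg).mp hcomm
    set χ₀ := Q₀.normalizerMonoidHom ⟨g, hg⟩ with hχ₀
    have hχ₀mem : χ₀ ∈ autInducedBy ⊤ Q₀ := by
      rw [← normalizerMonoidHom_range_eq]; exact ⟨_, rfl⟩
    have hmap := autInducedBy_top_map_congr Q₀ x
    rw [← he] at hmap
    have hχ' : MulAut.congr e χ₀ ∈ (groupFusionSystem (P : Subgroup G)).autGroup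
        (Q₀.map (MulAut.conj x).toMonoidHom) := by
      rw [gfs_autGroup_eq _ _ hx, ← hmap]
      exact ⟨χ₀, hχ₀mem, rfl⟩
    have hq' : ∀ a' : Q₀.map (MulAut.conj x).toMonoidHom,
        (MulAut.congr e χ₀ a'⁻¹) * a' * (MulAut.congr e χ₀ a'⁻¹) *
          (MulAut.congr e χ₀ (MulAut.congr e χ₀ a')) = 1 := by
      intro a'
      obtain ⟨a, rfl⟩ := e.surjective a'
      have h1 : ∀ b : Q₀, MulAut.congr e χ₀ (e b) = e (χ₀ b) := by
        intro b
        show e (χ₀ (e.symm (e b))) = e (χ₀ b)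
        rw [MulEquiv.symm_apply_apply]
      rw [← map_inv, h1, h1, h1, ← map_mul, ← map_mul, ← map_mul, hq a, map_one]
    have h2 := mem_pCoreOf_autGroup_of_fusPStable p _ h hx hχ' hq'
    rw [gfs_autGroup_eq _ _ hx, ← hmap, ← pCoreOf_map_mulEquiv] at h2
    obtain ⟨χ₁, hχ₁, he1⟩ := h2
    have := (MulAut.congr e).injective he1
    rw [normalizerMonoidHom_range_eq, ← this]
    exact hχ₁

end Cfsg.Agent.Lib.Helper7
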