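import Mathlib
import Cfsg.Prelude.Def_PLocal
import Cfsg.Agent.S0649
import Cfsg.Agent.S0650
import Cfsg.Agent.Lib.Lead.Replacement

/-!
# The abelian subgroups of largest order centralize a normal abelian subgroup `B` on which no element
acts "quadratically modulo `C(B)`" without centralizing `℧¹(B)`.
-/

set_option autoImplicit false
set_option linter.unusedSectionVars false
set_option linter.style.haveILetI false

open scoped commutatorElement

namespace Cfsg.Agent.Lib.Helper7.TFR

open Cfsg

variable {P : Type*} [Group P]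

theorem card_lt_of_lt' [Finite P] {H K : Subgroup P} (h : H < K) : Nat.card H < Nat.card K := by
  by_contra hcon
  push Not at hcon
  exact h.ne (Subgroup.eq_of_le_of_card_ge h.le hcon)

theorem isMulCommutative_of_forall {H : Subgroup P} (h : ∀ a ∈ H, ∀ b ∈ H, a * b = b * a) :
    IsMulCommutative H :=
  ⟨⟨fun x y => Subtype.ext (h x x.2 y y.2)⟩⟩

theorem comm_of_isMulCommutative {H : Subgroup P} (hH : IsMulCommutative H) {a b : P} (ha : a ∈ H)
    (hb : b ∈ H) : a * b = b * a :=
  congrArg Subtype.val (hH.is_comm.comm ⟨a, ha⟩ ⟨b, hb⟩)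

/-- a maximal abelian subgroup centralizing the abelian subgroup `B` contains it -/
theorem le_of_le_centralizer [Finite P] {A B : Subgroup P} (hA : A ∈ maxAbelianSubgroups P)
    (hB : IsMulCommutative B) (hAB : A ≤ Subgroup.centralizer (B : Set P)) : B ≤ A := by
  have hAab := hA.1
  have hcomm : ∀ a ∈ A ⊔ B, ∀ b ∈ A ⊔ B, a * b = b * a := by
    have h1 : A ⊔ B ≤ Subgroup.centralizer ((A ⊔ B : Subgroup P) : Set P) := by
      rw [Cfsg.Agent.Lib.Lead.Replacement.centralizer_sup]
      apply sup_le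
      · apply le_inf
        · intro a ha
          rw [Subgroup.mem_centralizer_iff]
          intro b hb
          exact comm_of_isMulCommutative hAab hb ha
        · exact hAB
      · apply le_inf
        · intro b hb
          rw [Subgroup.mem_centralizer_iff]
          intro a ha
          exact (Subgroup.mem_centralizer_iff.mp (hAB ha) b hb).symm
        · intro a ha
          rw [Subgroup.mem_centralizer_iff]
          intro b hb
          exact comm_of_isMulCommutative hB hb ha
    intro a ha b hb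
    exact (Subgroup.mem_centralizer_iff.mp (h1 hb) a ha)
  have hcard := hA.2 (A ⊔ B) (isMulCommutative_of_forall hcomm)
  have heq : A = A ⊔ B := Subgroup.eq_of_le_of_card_ge le_sup_left hcard
  rw [heq]
  exact le_sup_right

/-- the replacement loop for an abelian normal subgroup `B`, all primes -/
theorem replacement_iter_ab [Finite P] {p : ℕ} [Fact p.Prime] (hP : IsPGroup p P) (B : Subgroup P)
    [B.Normal] (hBab : IsMulCommutative B)
    (hU : ∃ U ∈ maxAbelianSubgroups P, ¬ B ≤ U) :
    ∃ A ∈ maxAbelianSubgroups P, ¬ B ≤ A ∧ B ≤ Subgroup.normalizer (A : Set P) := by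
  have hBB : ⁅B, B⁆ = ⊥ := by
    rw [Subgroup.commutator_eq_bot_iff_le_centralizer]
    intro a ha
    rw [Subgroup.mem_centralizer_iff]
    intro b hb
    exact comm_of_isMulCommutative hBab hb ha
  have key : ∀ n : ℕ, ∀ A ∈ maxAbelianSubgroups P, ¬ B ≤ A → Nat.card B - Nat.card ↥(A ⊓ B) = n →
      ∃ A ∈ maxAbelianSubgroups P, ¬ B ≤ A ∧ B ≤ Subgroup.normalizer (A : Set P) := by
    intro n
    induction n using Nat.strong_induction_on with
    | _ n ih =>
      intro A hAF hnB hn
      by_cases hnorm : B ≤ Subgroup.normalizer (A : Set P)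
      · exact ⟨A, hAF, hnB, hnorm⟩
      · have hAab := hAF.1
        have hB2 : p = 2 → IsMulCommutative B := fun _ => hBab
        have hBA : ⁅B, B⁆ ≤ A := by rw [hBB]; exact bot_le
        obtain ⟨b, hb, hbN, hbA⟩ := Cfsg.Agent.S0649.result hP B hB2 A hAab hBA hnorm
        have hres := Cfsg.Agent.S0650.result hP B hB2 A hAab hBA hnorm b hb hbN hbA
        obtain ⟨T, hT⟩ : ∃ T, T = (A ⊓ A.map (MulAut.conj (b⁻¹)).toMonoidHom) ⊔
            Subgroup.closure {g : P | ∃ a ∈ A, g = a * b⁻¹ * a⁻¹ * b} := ⟨_, rfl⟩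
        rw [← hT] at hres
        obtain ⟨h1, h2, -, h4, h5, -, -, -, -, -⟩ := hres
        have hTF : T ∈ maxAbelianSubgroups P := by
          refine ⟨h2, fun B' hB' => ?_⟩
          rw [h1]
          exact hAF.2 B' hB'
        have hnT : ¬ B ≤ T := by
          intro h
          have h6 : B ≤ T ⊓ B := le_inf h le_rfl
          exact lt_irrefl _ (lt_of_lt_of_le h5 h6)
        have hlt : Nat.card ↥(A ⊓ B) < Nat.card ↥(T ⊓ B) := card_lt_of_lt' h4
        have hlt2 : Nat.card ↥(T ⊓ B) < Nat.card B := card_lt_of_lt' h5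
        exact ih (Nat.card B - Nat.card ↥(T ⊓ B)) (by omega) T hTF hnT rfl
  obtain ⟨U, hUF, hnU⟩ := hU
  exact key _ U hUF hnU rfl

/-- the quadratic computation -/
theorem conj_pow_eq {A B : Subgroup P} (hAab : IsMulCommutative A) (hBab : IsMulCommutative B)
    [hBn : B.Normal] (hBN : B ≤ Subgroup.normalizer (A : Set P)) {a w : P} (ha : a ∈ A) (hw : w ∈ B)
    (p : ℕ) (hap : a ^ p * w = w * a ^ p) : a * w ^ p = w ^ p * a := by
  set c := a * w * a⁻¹ * w⁻¹ with hc
  have hcB : c ∈ B := B.mul_mem (hBn.conj_mem w hw a) (B.inv_mem hw)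
  have hcA : c ∈ A := by
    have h1 : w * a⁻¹ * w⁻¹ ∈ A :=
      (Subgroup.mem_normalizer_iff.mp (hBN hw) a⁻¹).mp (A.inv_mem ha)
    have e : c = a * (w * a⁻¹ * w⁻¹) := by rw [hc]; group
    rw [e]
    exact A.mul_mem ha h1
  have hca : c * a = a * c := comm_of_isMulCommutative hAab hcA ha
  have hcw : c * w = w * c := comm_of_isMulCommutative hBab hcB hw
  have haw : a * w = c * w * a := by rw [hc]; group
  have hpow : ∀ k : ℕ, a ^ k * w = c ^ k * w * a ^ k := by
    intro k
    induction k with
    | zero => simp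
    | succ k ih =>
      have hcak : a * c ^ k = c ^ k * a := ((Commute.pow_right (show Commute a c from hca.symm) k)).eq
      calc a ^ (k + 1) * w = a * (a ^ k * w) := by rw [pow_succ']; group
        _ = a * (c ^ k * w * a ^ k) := by rw [ih]
        _ = (a * c ^ k) * w * a ^ k := by group
        _ = c ^ k * (a * w) * a ^ k := by rw [hcak]; group
        _ = c ^ k * (c * w * a) * a ^ k := by rw [haw]
        _ = c ^ (k + 1) * w * a ^ (k + 1) := by rw [pow_succ, pow_succ']; group
  have hcp : c ^ p = 1 := by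
    have h1 := hpow p
    rw [hap] at h1
    have h2 : w * a ^ p = (c ^ p * w) * a ^ p := by rw [h1]
    have h3 : w = c ^ p * w := mul_right_cancel h2
    have h4 : 1 * w = c ^ p * w := by rw [one_mul]; exact h3
    exact (mul_right_cancel h4).symm
  have hconj : a * w * a⁻¹ = c * w := by rw [hc]; group
  have h5 : a * w ^ p * a⁻¹ = w ^ p := by
    have h6 : a * w ^ p * a⁻¹ = (a * w * a⁻¹) ^ p := by
      rw [conj_pow]
    rw [h6, hconj, (show Commute c w from hcw).mul_pow, hcp, one_mul]
  calc a * w ^ p = (a * w ^ p * a⁻¹) * a := by group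
    _ = w ^ p * a := by rw [h5]

/-- **Key lemma.** -/
theorem thompsonA_le_centralizer [Finite P] {p : ℕ} [Fact p.Prime] (hP : IsPGroup p P)
    (B : Subgroup P) [B.Normal] (hB : IsMulCommutative B)
    (h : ∀ x : P, (∀ b ∈ B, x * b ^ p = b ^ p * x) → ∀ b ∈ B, x * b = b * x) :
    Cfsg.thompsonSubgroupA P ≤ Subgroup.centralizer (B : Set P) := by
  unfold Cfsg.thompsonSubgroupA
  apply sSup_le
  intro U hU
  by_contra hUc
  have hnU : ¬ B ≤ U := by
    intro hBU
    apply hUc
    intro u hu
    rw [Subgroup.mem_centralizer_iff]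
    intro b hb
    exact comm_of_isMulCommutative hU.1 (hBU hb) hu
  obtain ⟨A, hA, hnA, hBN⟩ := replacement_iter_ab hP B hB ⟨U, hU, hnU⟩
  have hAc : ¬ A ≤ Subgroup.centralizer (B : Set P) := fun hc => hnA (le_of_le_centralizer hA hB hc)
  obtain ⟨a₀, ha₀, ha₀c⟩ := SetLike.not_le_iff_exists.mp hAc
  -- a power of `a₀` of the right kind
  have hex : ∃ i : ℕ, a₀ ^ (p ^ i) ∈ Subgroup.centralizer (B : Set P) := by
    obtain ⟨n, hn⟩ := hP a₀
    exact ⟨n, by rw [hn]; exact Subgroup.one_mem _⟩
  classical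
  have hi₀ : Nat.find hex ≠ 0 := by
    intro h0
    have := Nat.find_spec hex
    rw [h0, pow_zero, pow_one] at this
    exact ha₀c this
  obtain ⟨j, hj⟩ := Nat.exists_eq_succ_of_ne_zero hi₀
  have haj : a₀ ^ (p ^ j) ∉ Subgroup.centralizer (B : Set P) :=
    Nat.find_min hex (by rw [hj]; exact Nat.lt_succ_self j)
  have hajp : (a₀ ^ (p ^ j)) ^ p ∈ Subgroup.centralizer (B : Set P) := by
    have := Nat.find_spec hex
    rw [hj, Nat.succ_eq_add_one, pow_succ, pow_mul] at this
    exact this
  have hajA : a₀ ^ (p ^ j) ∈ A := A.pow_mem ha₀ _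
  apply haj
  rw [Subgroup.mem_centralizer_iff]
  intro b hb
  have := h (a₀ ^ (p ^ j)) (fun w hw => conj_pow_eq hA.1 hB hBN hajA hw p
    ((Subgroup.mem_centralizer_iff.mp hajp w hw).symm)) b hb
  exact this.symm

end Cfsg.Agent.Lib.Helper7.TFR
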