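import Cfsg.Agent.Lib.Helper7.TFg
import Cfsg.Agent.Lib.Helper7.TFr

/-!
# Control of fusion by `C_F(℧¹(Z(S)))` and `N_F(J(S))`, part H: the theorem
-/

set_option autoImplicit false
set_option linter.unusedSectionVars false
set_option linter.style.haveILetI false

namespace Cfsg.Agent.Lib.Helper7.TF

open Cfsg Cfsg.FusionSystem Cfsg.Agent.Lib.Helper7 Cfsg.Agent.Lib.Helper7.QdF
  Cfsg.Agent.Lib.Helper7.WCtl Cfsg.Agent.Lib.Helper7.GTF Cfsg.Agent.Lib.Helper7.ZJK
  Cfsg.Agent.Lib.Helper7.ThA Cfsg.Agent.Lib.Helper4.ZJ Cfsg.Agent.Lib.Helper7.TNP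
  Cfsg.Agent.Lib.Helper7.PowZ

universe u

/-- the replacement lemma in ambient form -/
theorem replLemma {Ω : Type u} [Group Ω] (S : Subgroup Ω) [Finite S] {p : ℕ} [Fact p.Prime]
    (hS : IsPGroup p S) : ReplLemma p S := by
  intro B hBS hSB hBab h
  haveI hn : (B.subgroupOf S).Normal :=
    (Subgroup.normal_subgroupOf_iff_le_normalizer hBS).mpr hSB
  have hB' : IsMulCommutative ↥(B.subgroupOf S) := by
    refine ⟨⟨fun x y => Subtype.ext (Subtype.ext ?_)⟩⟩
    exact hBab _ (Subgroup.mem_subgroupOf.mp x.2) _ (Subgroup.mem_subgroupOf.mp y.2)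
  have key := Cfsg.Agent.Lib.Helper7.TFR.thompsonA_le_centralizer hS (B.subgroupOf S) hB' ?_
  · rintro _ ⟨y, hy, rfl⟩
    rw [Subgroup.mem_centralizer_iff]
    intro b hb
    have h1 := Subgroup.mem_centralizer_iff.mp (key hy) ⟨b, hBS hb⟩ (Subgroup.mem_subgroupOf.mpr hb)
    exact congrArg Subtype.val h1
  · intro x hx b hb
    have hbB : (b : Ω) ∈ B := Subgroup.mem_subgroupOf.mp hb
    have h1 := h x x.2 (fun b' hb' => by
      have := hx ⟨b', hBS hb'⟩ (Subgroup.mem_subgroupOf.mpr hb')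
      exact congrArg Subtype.val this) b hbB
    exact Subtype.ext h1

variable {p : ℕ} [Fact p.Prime]

/-- the theorem, by induction on `|S|` and the number of maps -/
theorem ctl_aux : ∀ n m : ℕ, ∀ (Ω : Type u) [Group Ω] (S : Subgroup Ω) [Finite S]
    (F : FusionSystem S), Nat.card S = n → mu F = m → IsPGroup p S → Ctl p F := by
  intro n
  induction n using Nat.strong_induction_on with
  | _ n ihn =>
  intro m
  induction m using Nat.strong_induction_on with
  | _ m ihm =>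
  intro Ω _ S _ F hn hm hS hF E hCE hNE
  have ih1 : ∀ (T : Subgroup Ω) [Finite T] (N : FusionSystem T),
      Nat.card T < Nat.card S → IsPGroup p T → Ctl p N :=
    fun T _ N hlt hT => ihn (Nat.card T) (hn ▸ hlt) (mu N) Ω T N rfl rfl hT
  have ih2 : ∀ (T : Subgroup Ω) [Finite T] (N : FusionSystem T),
      Nat.card T = Nat.card S → mu N < mu F → IsPGroup p T → Ctl p N :=
    fun T _ N hc hmu hT => ihm (mu N) (hm ▸ hmu) Ω T N (hc.trans hn) rfl hT
  by_cases hc : centralizerIn S F.core ≤ F.core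
  · exact ctl_of_centric hS F hF E hCE hNE ih1 ih2 hc (replLemma S hS)
  · exact ctl_of_not_centric hS F hF E hCE hNE ih1 ih2 hc

/-- **Control of fusion**: a saturated fusion system over `S` is generated by `C_F(℧¹(Z(S)))` and `N_F(J(S))`. -/
theorem control {Ω : Type u} [Group Ω] {S : Subgroup Ω} [Finite S] (hS : IsPGroup p S)
    (F : FusionSystem S) (hF : F.IsSaturated p) (E : FusionSystem S)
    (hCE : ∀ (A : Subgroup Ω) (φ : A →* Ω), φ ∈ F.centralizerHom (VZ p S) A → φ ∈ E.Hom A)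
    (hNE : ∀ (A : Subgroup Ω) (φ : A →* Ω),
      φ ∈ F.normalizerHom (Cfsg.thompsonSubgroupAOf S) A → φ ∈ E.Hom A) :
    ∀ (A : Subgroup Ω) (φ : A →* Ω), φ ∈ F.Hom A → φ ∈ E.Hom A :=
  ctl_aux _ _ Ω S F rfl rfl hS hF E hCE hNE

end Cfsg.Agent.Lib.Helper7.TF
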