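import Mathlib
import Cfsg.Agent.Lib.Helper7.TFh
import Cfsg.Agent.Lib.Helper7.TFr

/-!
# Group-theoretic control: `G = ⟨C_G(℧¹(Z(S))), N_G(J(S))⟩` for `C_G(O_p(G)) ≤ O_p(G)`
(relative version inside an ambient group), and the "unique maximal subgroup" consequences.
-/

set_option autoImplicit false
set_option linter.unusedSectionVars false
set_option linter.style.haveILetI false

namespace Cfsg.Agent.Lib.Helper7.PU

open Cfsg Cfsg.Agent.Lib.Helper7 Cfsg.Agent.Lib.Helper7.ThA Cfsg.Agent.Lib.Helper7.TF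
  Cfsg.Agent.Lib.Helper7.PowZ Cfsg.Agent.Lib.Helper4.ZJ

variable {G : Type*} [Group G]

/-- `Z(S) ≤ A` for every abelian subgroup of largest order -/
theorem center_le_of_mem_famA {S A : Subgroup G} [Finite S] (hA : A ∈ famA S) :
    S ⊓ Subgroup.centralizer (S : Set G) ≤ A := by
  obtain ⟨hAS, hAab, hmax⟩ := mem_fam.mp hA
  intro z hz
  have hzS : z ∈ S := hz.1
  have hzc : ∀ a ∈ A, z * a = a * z := by
    intro a ha
    exact ((Subgroup.mem_centralizer_iff.mp hz.2) a (hAS ha)).symm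
  have hab := isMulCommutative_sup_zpowers hAab hzc
  have hle : A ⊔ Subgroup.zpowers z ≤ S :=
    sup_le hAS (by rw [Subgroup.zpowers_le]; exact hzS)
  have hcard := hmax _ hle hab
  haveI : Finite ↥(A ⊔ Subgroup.zpowers z) := Finite.of_injective (Subgroup.inclusion hle)
    (Subgroup.inclusion_injective hle)
  have heq : A = A ⊔ Subgroup.zpowers z :=
    Subgroup.eq_of_le_of_card_ge le_sup_left hcard
  rw [heq]
  exact le_sup_right (a := A) (Subgroup.mem_zpowers z)

theorem center_le_JA (S : Subgroup G) [Finite S] :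
    S ⊓ Subgroup.centralizer (S : Set G) ≤ Cfsg.thompsonSubgroupAOf S := by
  obtain ⟨A, hA⟩ := exists_mem_famA S
  exact (center_le_of_mem_famA hA).trans (le_JA hA)

theorem center_le_ZJ (S : Subgroup G) [Finite S] :
    S ⊓ Subgroup.centralizer (S : Set G) ≤ Cfsg.centerThompsonAOf S := by
  unfold Cfsg.centerThompsonAOf
  apply le_inf (center_le_JA S)
  intro z hz
  rw [Subgroup.mem_centralizer_iff]
  intro x hx
  exact (Subgroup.mem_centralizer_iff.mp hz.2) x (JA_le S hx)


theorem mem_normalizer_inf {A B : Subgroup G} {h : G} (hA : h ∈ Subgroup.normalizer (A : Set G))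
    (hB : h ∈ Subgroup.normalizer (B : Set G)) : h ∈ Subgroup.normalizer ((A ⊓ B : Subgroup G) : Set G) := by
  rw [Subgroup.mem_normalizer_iff] at hA hB ⊢
  intro x
  rw [Subgroup.mem_inf, Subgroup.mem_inf, hA x, hB x]

section ctl
variable [Finite G] {p : ℕ} [Fact p.Prime]

/-- **Control, relative group version.** If `S` is a Sylow `p`-subgroup of `H` and some normal
`p`-subgroup `Q` of `H` has `C_H(Q) ≤ Q`, then `H ≤ ⟨C(℧¹(Z(S))), N(J(S))⟩`. -/
theorem control_rel (S : Subgroup G) :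
    ∀ n : ℕ, ∀ H : Subgroup G, Nat.card H = n → IsSylowIn p S H →
      (∃ Q : Subgroup G, Q ≤ S ∧ H ≤ Subgroup.normalizer (Q : Set G) ∧
        H ⊓ Subgroup.centralizer (Q : Set G) ≤ Q) →
      H ≤ Subgroup.centralizer
            ((Cfsg.powerClosure p 1 (S ⊓ Subgroup.centralizer (S : Set G)) : Subgroup G) : Set G) ⊔
          Subgroup.normalizer ((Cfsg.thompsonSubgroupAOf S : Subgroup G) : Set G) := by
  intro n
  induction n using Nat.strong_induction_on with
  | _ n ih =>
  intro H hn hSyl hex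
  obtain ⟨Q₀, hQ₀⟩ := hex
  obtain ⟨Q, hQmem, hQmax⟩ := Set.exists_max_image
    {Q : Subgroup G | Q ≤ S ∧ H ≤ Subgroup.normalizer (Q : Set G) ∧
        H ⊓ Subgroup.centralizer (Q : Set G) ≤ Q} (fun Q => Nat.card Q) (Set.toFinite _) ⟨Q₀, hQ₀⟩
  obtain ⟨hQS, hHQ, hCQ⟩ := hQmem
  have hSH : S ≤ H := hSyl.1
  have hSp : IsPGroup p S := hSyl.isPGroup
  -- B = Z(Q), B₁ = ℧¹(B)
  obtain ⟨B, hBdef⟩ : ∃ B : Subgroup G, B = Q ⊓ Subgroup.centralizer (Q : Set G) := ⟨_, rfl⟩
  obtain ⟨B₁, hB₁def⟩ : ∃ B₁ : Subgroup G, B₁ = Cfsg.powerClosure p 1 B := ⟨_, rfl⟩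
  have hBQ : B ≤ Q := hBdef ▸ inf_le_left
  have hBcQ : B ≤ Subgroup.centralizer (Q : Set G) := hBdef ▸ inf_le_right
  have hB₁B : B₁ ≤ B := hB₁def ▸ powerClosure_le p 1 B
  have hZB : S ⊓ Subgroup.centralizer (S : Set G) ≤ B := by
    intro z hz
    have hzcQ : z ∈ Subgroup.centralizer (Q : Set G) := Subgroup.centralizer_le hQS hz.2
    rw [hBdef]
    exact ⟨hCQ ⟨hSH hz.1, hzcQ⟩, hzcQ⟩
  have hWB₁ : Cfsg.powerClosure p 1 (S ⊓ Subgroup.centralizer (S : Set G)) ≤ B₁ :=
    hB₁def ▸ powerClosure_mono p 1 hZB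
  have hHB : H ≤ Subgroup.normalizer (B : Set G) := by
    intro h hh
    rw [hBdef]
    exact mem_normalizer_inf (hHQ hh) (normalizer_le_normalizer_centralizer' Q (hHQ hh))
  have hHB₁ : H ≤ Subgroup.normalizer (B₁ : Set G) :=
    hB₁def ▸ hHB.trans (normalizer_le_normalizer_powerClosure p 1 B)
  -- D = C_H(B₁)
  obtain ⟨D, hDdef⟩ : ∃ D : Subgroup G, D = H ⊓ Subgroup.centralizer (B₁ : Set G) := ⟨_, rfl⟩
  have hDH : D ≤ H := hDdef ▸ inf_le_left
  have hHD : H ≤ Subgroup.normalizer (D : Set G) := by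
    intro h hh
    rw [hDdef]
    exact mem_normalizer_inf (Subgroup.le_normalizer hh)
      (normalizer_le_normalizer_centralizer' B₁ (hHB₁ hh))
  have hDW : D ≤ Subgroup.centralizer
      ((Cfsg.powerClosure p 1 (S ⊓ Subgroup.centralizer (S : Set G)) : Subgroup G) : Set G) := by
    rw [hDdef]
    exact inf_le_right.trans (Subgroup.centralizer_le hWB₁)
  have hTsyl : IsSylowIn p (S ⊓ D) D := hSyl.inf_normal D hDH hHD
  have frat := frattini_amb hTsyl hDH hHD
  have hST : S ≤ Subgroup.normalizer ((S ⊓ D : Subgroup G) : Set G) := by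
    intro s hs
    exact mem_normalizer_inf (Subgroup.le_normalizer hs) (hHD (hSH hs))
  have hQcB₁ : Q ≤ Subgroup.centralizer (B₁ : Set G) := by
    intro q hq
    rw [Subgroup.mem_centralizer_iff]
    intro b hb
    exact ((Subgroup.mem_centralizer_iff.mp (hBcQ (hB₁B hb))) q hq).symm
  have hQT : Q ≤ S ⊓ D := by
    apply le_inf hQS
    rw [hDdef]
    exact le_inf (hQS.trans hSH) hQcB₁
  have hCT : H ⊓ Subgroup.centralizer ((S ⊓ D : Subgroup G) : Set G) ≤ S ⊓ D := by
    intro x hx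
    exact hQT (hCQ ⟨hx.1, Subgroup.centralizer_le hQT hx.2⟩)
  by_cases hlt : Nat.card ↥(H ⊓ Subgroup.normalizer ((S ⊓ D : Subgroup G) : Set G)) < Nat.card H
  · have hSH' : S ≤ H ⊓ Subgroup.normalizer ((S ⊓ D : Subgroup G) : Set G) := le_inf hSH hST
    have h1 := ih _ (hn ▸ hlt) (H ⊓ Subgroup.normalizer ((S ⊓ D : Subgroup G) : Set G)) rfl
      (hSyl.of_le_mid hSH' inf_le_left)
      ⟨S ⊓ D, inf_le_left, inf_le_right, (inf_le_inf_right _ inf_le_left).trans hCT⟩
    exact frat.trans (sup_le h1 (hDW.trans le_sup_left))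
  · have hEq : H ⊓ Subgroup.normalizer ((S ⊓ D : Subgroup G) : Set G) = H :=
      Subgroup.eq_of_le_of_card_ge inf_le_left (not_lt.mp hlt)
    have hHT : H ≤ Subgroup.normalizer ((S ⊓ D : Subgroup G) : Set G) := by
      rw [← hEq]; exact inf_le_right
    have hcard := hQmax (S ⊓ D) ⟨inf_le_left, hHT, hCT⟩
    have hQeq : Q = S ⊓ D := Subgroup.eq_of_le_of_card_ge hQT hcard
    have hSC : S ⊓ Subgroup.centralizer (B₁ : Set G) ≤ Q := by
      intro x hx
      rw [hQeq, hDdef]
      exact ⟨hx.1, hSH hx.1, hx.2⟩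
    -- the replacement lemma
    have hBS : B ≤ S := hBQ.trans hQS
    haveI : (B.subgroupOf S).Normal :=
      (Subgroup.normal_subgroupOf_iff_le_normalizer hBS).mpr (hSH.trans hHB)
    have hBab : IsMulCommutative ↥(B.subgroupOf S) := by
      refine ⟨⟨fun x y => Subtype.ext (Subtype.ext ?_)⟩⟩
      have hx : (x.1 : G) ∈ B := Subgroup.mem_subgroupOf.mp x.2
      have hy : (y.1 : G) ∈ B := Subgroup.mem_subgroupOf.mp y.2
      exact (Subgroup.mem_centralizer_iff.mp (hBcQ hy)) _ (hBQ hx)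
    haveI : Finite ↥S := inferInstance
    have key := Cfsg.Agent.Lib.Helper7.TFR.thompsonA_le_centralizer (P := ↥S) hSp
      (B.subgroupOf S) hBab (by
        intro x hx b hb
        have hxC : (x : G) ∈ Subgroup.centralizer (B₁ : Set G) := by
          rw [hB₁def]
          unfold Cfsg.powerClosure
          rw [Subgroup.centralizer_closure, Subgroup.mem_centralizer_iff]
          rintro _ ⟨c, hc, rfl⟩
          have := hx ⟨c, hBS hc⟩ (Subgroup.mem_subgroupOf.mpr hc)
          have h2 := congrArg (Subtype.val) this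
          simp only [Subgroup.coe_mul, Subgroup.coe_pow, pow_one] at h2 ⊢
          exact h2.symm
        have hxQ : (x : G) ∈ Q := hSC ⟨x.2, hxC⟩
        have hbB : (b : G) ∈ B := Subgroup.mem_subgroupOf.mp hb
        apply Subtype.ext
        show (x : G) * (b : G) = (b : G) * (x : G)
        exact ((Subgroup.mem_centralizer_iff.mp (hBcQ hbB)) _ hxQ))
    have hJQ : Cfsg.thompsonSubgroupAOf S ≤ Q := by
      intro j hj
      obtain ⟨j', hj', rfl⟩ := hj
      apply hSC
      refine ⟨j'.2, ?_⟩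
      have h1 := key hj'
      show (j' : G) ∈ Subgroup.centralizer (B₁ : Set G)
      rw [Subgroup.mem_centralizer_iff]
      intro b hb
      have h2 := (Subgroup.mem_centralizer_iff.mp h1) ⟨b, hBS (hB₁B hb)⟩
        (Subgroup.mem_subgroupOf.mpr (hB₁B hb))
      exact congrArg Subtype.val h2
    have hJeq := JA_eq_of_le' hJQ hQS
    have h3 : H ≤ Subgroup.normalizer ((Cfsg.thompsonSubgroupAOf S : Subgroup G) : Set G) := by
      rw [← hJeq]
      exact hHQ.trans (normalizer_le_normalizer_JA Q)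
    exact h3.trans le_sup_right

end ctl

end Cfsg.Agent.Lib.Helper7.PU
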