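import Mathlib
import Cfsg.Agent.Lib.Helper7.PU1

/-!
# Sylow subgroup in a unique maximal subgroup: `℧¹(Z(S)) ⊴ G` or `C_S(ZJ(S)) ⊴ G`
-/

set_option autoImplicit false
set_option linter.unusedSectionVars false
set_option linter.style.haveILetI false

namespace Cfsg.Agent.Lib.Helper7.PU

open Cfsg Cfsg.Agent.Lib.Helper7 Cfsg.Agent.Lib.Helper7.ThA Cfsg.Agent.Lib.Helper7.TF
  Cfsg.Agent.Lib.Helper7.PowZ Cfsg.Agent.Lib.Helper4.ZJ

variable {G : Type*} [Group G] [Finite G] {p : ℕ} [Fact p.Prime]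

/-- a proper subgroup containing `S` lies in the unique maximal subgroup containing `S` -/
theorem le_of_unique_max {S M : Subgroup G} (hM : IsCoatom M ∧ S ≤ M)
    (huniq : ∀ M' : Subgroup G, IsCoatom M' ∧ S ≤ M' → M' = M) {H : Subgroup G} (hSH : S ≤ H)
    (hH : H ≠ ⊤) : H ≤ M := by
  rcases IsCoatomic.eq_top_or_exists_le_coatom H with h | ⟨M', hM', hHM'⟩
  · exact absurd h hH
  · rw [← huniq M' ⟨hM', hSH.trans hHM'⟩]
    exact hHM'

/-- Frattini with a unique maximal subgroup: a normal subgroup inside `M` meets `S` in a normal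
subgroup of `G` -/
theorem inf_normal_of_le_max (S : Sylow p G) {M : Subgroup G} (hM : IsCoatom M ∧ (S : Subgroup G) ≤ M)
    (huniq : ∀ M' : Subgroup G, IsCoatom M' ∧ (S : Subgroup G) ≤ M' → M' = M)
    (C : Subgroup G) [hC : C.Normal] (hCM : C ≤ M) : ((S : Subgroup G) ⊓ C).Normal := by
  have hCn : (⊤ : Subgroup G) ≤ Subgroup.normalizer (C : Set G) := by
    rw [Subgroup.normalizer_eq_top_iff.mpr hC]
  have hsyl : IsSylowIn p ((S : Subgroup G) ⊓ C) C :=
    (IsSylowIn.of_sylow_top S).inf_normal C le_top hCn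
  have frat := frattini_amb hsyl le_top hCn
  rw [← Subgroup.normalizer_eq_top_iff]
  by_contra hne
  have hSN : (S : Subgroup G) ≤ Subgroup.normalizer (((S : Subgroup G) ⊓ C : Subgroup G) : Set G) := by
    intro s hs
    exact mem_normalizer_inf (Subgroup.le_normalizer hs) (hCn (Subgroup.mem_top s))
  have h1 := le_of_unique_max hM huniq hSN hne
  have h2 : (⊤ : Subgroup G) ≤ M := frat.trans (sup_le (inf_le_right.trans h1) hCM)
  exact hM.1.1 (top_le_iff.mp h2)

theorem s2770_core (S : Sylow p G)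
    (hE₁ : Subgroup.centralizer (Cfsg.pCore p G : Set G) ≤ Cfsg.pCore p G)
    (hE₂ : ∃! M : Subgroup G, IsCoatom M ∧ (S : Subgroup G) ≤ M) :
    (Cfsg.powerClosure p 1 ((S : Subgroup G) ⊓ Subgroup.centralizer ((S : Subgroup G) : Set G))).Normal ∨
      (((S : Subgroup G) ⊓
        Subgroup.centralizer (Cfsg.centerThompsonAOf (S : Subgroup G) : Set G))).Normal := by
  obtain ⟨M, hM, huniq⟩ := hE₂
  have hMtop : M ≠ ⊤ := hM.1.1
  have hctl := control_rel (p := p) (S : Subgroup G) _ ⊤ rfl (IsSylowIn.of_sylow_top S)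
    ⟨Cfsg.pCore p G, pCore_le_sylow S, by
      rw [Subgroup.normalizer_eq_top_iff.mpr (pCore_normal p G)], inf_le_right.trans hE₁⟩
  obtain ⟨W, hWdef⟩ : ∃ W : Subgroup G, W =
    Cfsg.powerClosure p 1 ((S : Subgroup G) ⊓ Subgroup.centralizer ((S : Subgroup G) : Set G)) := ⟨_, rfl⟩
  rw [← hWdef] at hctl ⊢
  have hWZ : W ≤ (S : Subgroup G) ⊓ Subgroup.centralizer ((S : Subgroup G) : Set G) :=
    hWdef ▸ powerClosure_le p 1 _
  have hSW : (S : Subgroup G) ≤ Subgroup.centralizer (W : Set G) := by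
    intro s hs
    rw [Subgroup.mem_centralizer_iff]
    intro w hw
    exact ((Subgroup.mem_centralizer_iff.mp (hWZ hw).2) s hs).symm
  have hSJ : (S : Subgroup G) ≤
      Subgroup.normalizer ((Cfsg.thompsonSubgroupAOf (S : Subgroup G) : Subgroup G) : Set G) :=
    Subgroup.le_normalizer.trans (normalizer_le_normalizer_JA _)
  by_cases hCW : Subgroup.centralizer (W : Set G) = ⊤
  · left
    refine ⟨fun w hw g => ?_⟩
    have hg : g ∈ Subgroup.centralizer (W : Set G) := hCW ▸ Subgroup.mem_top g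
    have := (Subgroup.mem_centralizer_iff.mp hg) w hw
    rw [← this, mul_inv_cancel_right]
    exact hw
  · right
    have hCWM := le_of_unique_max hM huniq hSW hCW
    have hNJ : Subgroup.normalizer ((Cfsg.thompsonSubgroupAOf (S : Subgroup G) : Subgroup G) : Set G) = ⊤ := by
      by_contra hne
      have h1 := le_of_unique_max hM huniq hSJ hne
      exact hMtop (top_le_iff.mp (hctl.trans (sup_le hCWM h1)))
    have hNZ : Subgroup.normalizer ((Cfsg.centerThompsonAOf (S : Subgroup G) : Subgroup G) : Set G) = ⊤ := by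
      rw [eq_top_iff]
      intro g _
      have hg : g ∈ Subgroup.normalizer ((Cfsg.thompsonSubgroupAOf (S : Subgroup G) : Subgroup G) : Set G) :=
        hNJ ▸ Subgroup.mem_top g
      unfold Cfsg.centerThompsonAOf
      exact mem_normalizer_inf hg (normalizer_le_normalizer_centralizer' _ hg)
    have hNC : Subgroup.normalizer ((Subgroup.centralizer
        (Cfsg.centerThompsonAOf (S : Subgroup G) : Set G) : Subgroup G) : Set G) = ⊤ := by
      rw [eq_top_iff]
      intro g _
      exact normalizer_le_normalizer_centralizer' _ (hNZ ▸ Subgroup.mem_top g)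
    haveI : (Subgroup.centralizer (Cfsg.centerThompsonAOf (S : Subgroup G) : Set G)).Normal :=
      Subgroup.normalizer_eq_top_iff.mp hNC
    apply inf_normal_of_le_max S hM huniq
    refine le_trans ?_ hCWM
    apply Subgroup.centralizer_le
    exact hWZ.trans (center_le_ZJ _)

end Cfsg.Agent.Lib.Helper7.PU
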