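import Mathlib
import Cfsg.Agent.H9.AutPSL2Sylow

/-!
# Rank-one structure of `PSL₂(F)` in the defining characteristic

`RankOne p X`: the Sylow `p`-subgroups of `X` are abelian TI-subgroups, not normal, and the normalizer
of a Sylow `p`-subgroup acts irreducibly on it.  We prove it for `PSL₂(F)`, `char F = p`.
-/

set_option autoImplicit false
set_option linter.unusedSectionVars false
set_option linter.style.haveILetI false

namespace Cfsg.Agent.Lib.Helper7.PU

/-- conjugate of a subgroup -/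
abbrev cj {X : Type*} [Group X] (w : X) (H : Subgroup X) : Subgroup X :=
  H.map (MulAut.conj w).toMonoidHom

theorem mem_cj {X : Type*} [Group X] {w x : X} {H : Subgroup X} :
    x ∈ cj w H ↔ w⁻¹ * x * w ∈ H := by
  constructor
  · rintro ⟨y, hy, rfl⟩
    simp only [MulEquiv.coe_toMonoidHom, MulAut.conj_apply]
    have : w⁻¹ * (w * y * w⁻¹) * w = y := by group
    rw [this]; exact hy
  · intro h
    refine ⟨w⁻¹ * x * w, h, ?_⟩
    simp only [MulEquiv.coe_toMonoidHom, MulAut.conj_apply]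
    group

theorem cj_cj {X : Type*} [Group X] (a b : X) (H : Subgroup X) : cj a (cj b H) = cj (a * b) H := by
  ext x
  rw [mem_cj, mem_cj, mem_cj]
  have : b⁻¹ * (a⁻¹ * x * a) * b = (a * b)⁻¹ * x * (a * b) := by group
  rw [this]

theorem cj_one {X : Type*} [Group X] (H : Subgroup X) : cj 1 H = H := by
  ext x
  rw [mem_cj]
  simp

theorem cj_inf {X : Type*} [Group X] (a : X) (H K : Subgroup X) : cj a (H ⊓ K) = cj a H ⊓ cj a K := by
  ext x
  simp only [mem_cj, Subgroup.mem_inf]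

theorem cj_bot {X : Type*} [Group X] (a : X) : cj a (⊥ : Subgroup X) = ⊥ := Subgroup.map_bot _

theorem cj_eq_bot_iff {X : Type*} [Group X] (a : X) (H : Subgroup X) : cj a H = ⊥ ↔ H = ⊥ :=
  Subgroup.map_eq_bot_iff_of_injective H (MulAut.conj a).injective

theorem cj_mono {X : Type*} [Group X] (a : X) {H K : Subgroup X} (h : H ≤ K) : cj a H ≤ cj a K :=
  Subgroup.map_mono h

theorem cj_le_iff {X : Type*} [Group X] (a : X) {H K : Subgroup X} : cj a H ≤ cj a K ↔ H ≤ K := by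
  constructor
  · intro h
    have := cj_mono a⁻¹ h
    rwa [cj_cj, cj_cj, inv_mul_cancel, cj_one, cj_one] at this
  · exact cj_mono a

theorem cj_normalizer {X : Type*} [Group X] (a : X) (H : Subgroup X) :
    cj a (Subgroup.normalizer (H : Set X)) = Subgroup.normalizer ((cj a H : Subgroup X) : Set X) := by
  ext x
  rw [mem_cj, Subgroup.mem_normalizer_iff, Subgroup.mem_normalizer_iff]
  constructor
  · intro h y
    rw [mem_cj, mem_cj, h (a⁻¹ * y * a)]
    have : a⁻¹ * x * a * (a⁻¹ * y * a) * (a⁻¹ * x * a)⁻¹ = a⁻¹ * (x * y * x⁻¹) * a := by group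
    rw [this]
  · intro h y
    have h1 := h (a * y * a⁻¹)
    rw [mem_cj, mem_cj] at h1
    have e1 : a⁻¹ * (a * y * a⁻¹) * a = y := by group
    have e2 : a⁻¹ * (x * (a * y * a⁻¹) * x⁻¹) * a = a⁻¹ * x * a * y * (a⁻¹ * x * a)⁻¹ := by group
    rw [e1, e2] at h1
    exact h1

theorem card_cj {X : Type*} [Group X] (a : X) (H : Subgroup X) : Nat.card (cj a H) = Nat.card H :=
  Subgroup.card_map_of_injective (MulAut.conj a).injective

/-- the rank-one structure -/
structure RankOne (p : ℕ) (X : Type*) [Group X] : Prop where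
  ti : ∀ P : Sylow p X, ∀ w : X, (P : Subgroup X) ⊓ cj w (P : Subgroup X) ≠ ⊥ →
    cj w (P : Subgroup X) = P
  ab : ∀ P : Sylow p X, ∀ a ∈ (P : Subgroup X), ∀ b ∈ (P : Subgroup X), a * b = b * a
  irr : ∀ P : Sylow p X, ∀ R : Subgroup X, R ≤ P →
    Subgroup.normalizer ((P : Subgroup X) : Set X) ≤ Subgroup.normalizer (R : Set X) →
      R = ⊥ ∨ R = P
  nn : ∀ P : Sylow p X, ¬ (P : Subgroup X).Normal

theorem sylow_eq_cj {p : ℕ} [Fact p.Prime] {X : Type*} [Group X] [Finite X] (P₀ P : Sylow p X) :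
    ∃ g : X, (P : Subgroup X) = cj g (P₀ : Subgroup X) := by
  obtain ⟨g, hg⟩ := MulAction.exists_smul_eq X P₀ P
  refine ⟨g, ?_⟩
  rw [← hg, Sylow.coe_subgroup_smul]
  rfl

theorem rankOne_of_sylow {p : ℕ} [Fact p.Prime] {X : Type*} [Group X] [Finite X] (P₀ : Sylow p X)
    (ti₀ : ∀ w : X, (P₀ : Subgroup X) ⊓ cj w (P₀ : Subgroup X) ≠ ⊥ → cj w (P₀ : Subgroup X) = P₀)
    (ab₀ : ∀ a ∈ (P₀ : Subgroup X), ∀ b ∈ (P₀ : Subgroup X), a * b = b * a)
    (irr₀ : ∀ R : Subgroup X, R ≤ P₀ →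
      Subgroup.normalizer ((P₀ : Subgroup X) : Set X) ≤ Subgroup.normalizer (R : Set X) →
        R = ⊥ ∨ R = P₀)
    (nn₀ : ¬ (P₀ : Subgroup X).Normal) : RankOne p X := by
  refine ⟨?_, ?_, ?_, ?_⟩
  · intro P w hne
    obtain ⟨g, hg⟩ := sylow_eq_cj P₀ P
    rw [hg] at hne ⊢
    have e1 : cj w (cj g (P₀ : Subgroup X)) = cj g (cj (g⁻¹ * w * g) (P₀ : Subgroup X)) := by
      rw [cj_cj, cj_cj]; congr 1; group
    rw [e1, ← cj_inf] at hne
    have h1 : (P₀ : Subgroup X) ⊓ cj (g⁻¹ * w * g) (P₀ : Subgroup X) ≠ ⊥ := by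
      intro hc; apply hne; rw [hc, cj_bot]
    rw [e1, ti₀ _ h1]
  · intro P a ha b hb
    obtain ⟨g, hg⟩ := sylow_eq_cj P₀ P
    rw [hg, mem_cj] at ha hb
    have := ab₀ _ ha _ hb
    have e : a * b = g * ((g⁻¹ * a * g) * (g⁻¹ * b * g)) * g⁻¹ := by group
    rw [e, this]; group
  · intro P R hRP hN
    obtain ⟨g, hg⟩ := sylow_eq_cj P₀ P
    rw [hg] at hRP hN ⊢
    have hR : R = cj g (cj g⁻¹ R) := by rw [cj_cj, mul_inv_cancel, cj_one]
    rw [hR] at hRP hN
    rw [cj_le_iff] at hRP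
    rw [← cj_normalizer, ← cj_normalizer, cj_le_iff] at hN
    rcases irr₀ _ hRP hN with h | h
    · left; rw [hR, h, cj_bot]
    · right; rw [hR, h]
  · intro P hn
    obtain ⟨g, hg⟩ := sylow_eq_cj P₀ P
    apply nn₀
    refine ⟨fun x hx y => ?_⟩
    have hx' : g * x * g⁻¹ ∈ (P : Subgroup X) := by
      rw [hg, mem_cj]
      have : g⁻¹ * (g * x * g⁻¹) * g = x := by group
      rw [this]; exact hx
    have := hn.conj_mem _ hx' (g * y * g⁻¹)
    rw [hg, mem_cj] at this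
    have e : g⁻¹ * (g * y * g⁻¹ * (g * x * g⁻¹) * (g * y * g⁻¹)⁻¹) * g = y * x * y⁻¹ := by group
    rwa [e] at this


theorem mem_normalizer_of_cj_le {X : Type*} [Group X] [Finite X] {g : X} {H : Subgroup X}
    (h : cj g H ≤ H) : g ∈ Subgroup.normalizer (H : Set X) := by
  have heq : cj g H = H := Subgroup.eq_of_le_of_card_ge h (by rw [card_cj])
  rw [Subgroup.mem_normalizer_iff]
  intro x
  constructor
  · intro hx
    rw [← heq, mem_cj]
    have : g⁻¹ * (g * x * g⁻¹) * g = x := by group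
    rw [this]; exact hx
  · intro hx
    rw [← heq, mem_cj] at hx
    have : g⁻¹ * (g * x * g⁻¹) * g = x := by group
    rwa [this] at hx

section psl

open Cfsg.Agent.H9.AutPSL2

variable {F : Type*} [Field F] [Fintype F]

local notation "SL2" => Matrix.SpecialLinearGroup (Fin 2) F
local notation "PSL2" => Matrix.ProjectiveSpecialLinearGroup (Fin 2) F

/-- the image of the upper unitriangular group -/
abbrev Ubar (F : Type*) [Field F] [Fintype F] :
    Subgroup (Matrix.ProjectiveSpecialLinearGroup (Fin 2) F) :=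
  (uHom : Multiplicative F →* Matrix.ProjectiveSpecialLinearGroup (Fin 2) F).range

theorem mem_Ubar (z : PSL2) : z ∈ Ubar F ↔ ∃ b : F, z = pr (u b) := mem_uHom_range z

theorem pr_u_mem (b : F) : (pr (u b) : PSL2) ∈ Ubar F := (mem_Ubar _).mpr ⟨b, rfl⟩

theorem pr_u_eq_one_iff (b : F) : (pr (u b) : PSL2) = 1 ↔ b = 0 := by
  constructor
  · intro h
    have h1 : (pr (u b) : PSL2) = pr (u 0) := by rw [h, u_zero, map_one]
    exact pr_u_injective h1
  · rintro rfl
    rw [u_zero, map_one]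

/-- the `(1,0)` entry of `u s * l x * (u s)⁻¹` -/
theorem ulu_10 (s x : F) : (u s * l x * (u s)⁻¹).1 1 0 = x := by
  rw [u_inv]
  simp only [mul_10, mul_11, u_00, u_10, u_11, l_00, l_01, l_10, l_11]
  ring

theorem conj_pr_u_upper (g : SL2) (hc : g.1 1 0 = 0) (t : F) :
    (pr g * pr (u t) * (pr g)⁻¹ : PSL2) = pr (u ((g.1 0 0) ^ 2 * t)) := by
  rw [← map_mul, conj_u_of_eq g hc t, map_mul, mul_inv_cancel_right]

theorem conj_pr_u_lower (g : SL2) (hc : g.1 1 0 ≠ 0) (t : F) :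
    (pr g * pr (u t) * (pr g)⁻¹ : PSL2) =
      pr (u (g.1 0 0 / g.1 1 0) * l (-(g.1 1 0) ^ 2 * t) * (u (g.1 0 0 / g.1 1 0))⁻¹) := by
  rw [← map_mul, conj_u_of_ne g hc t, map_mul, mul_inv_cancel_right]

theorem ti_Ubar (w : PSL2) (hne : Ubar F ⊓ cj w (Ubar F) ≠ ⊥) : cj w (Ubar F) = Ubar F := by
  obtain ⟨g, rfl⟩ := pr_surjective w
  by_cases hc : g.1 1 0 = 0
  · apply Subgroup.eq_of_le_of_card_ge
    · rintro _ ⟨z, hz, rfl⟩
      obtain ⟨t, rfl⟩ := (mem_Ubar z).mp hz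
      simp only [MulEquiv.coe_toMonoidHom, MulAut.conj_apply]
      rw [conj_pr_u_upper g hc t]
      exact pr_u_mem _
    · rw [card_cj]
  · exfalso
    apply hne
    rw [eq_bot_iff]
    intro z hz
    obtain ⟨hz1, hz2⟩ := hz
    obtain ⟨b, rfl⟩ := (mem_Ubar z).mp hz1
    obtain ⟨z', hz', hzz'⟩ := hz2
    obtain ⟨t, rfl⟩ := (mem_Ubar z').mp hz'
    simp only [MulEquiv.coe_toMonoidHom, MulAut.conj_apply] at hzz'
    have hzz0 := hzz'
    rw [conj_pr_u_lower g hc t, pr_eq_iff] at hzz'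
    have hx : -(g.1 1 0) ^ 2 * t = 0 := by
      rcases hzz' with h | h
      · have := congrArg (fun m : SL2 => m.1 1 0) h
        simp only [ulu_10, u_10] at this
        exact this
      · have := congrArg (fun m : SL2 => m.1 1 0) h
        simp only [ulu_10, neg_10, u_10, neg_zero] at this
        exact this
    have ht : t = 0 := by
      rcases mul_eq_zero.mp hx with h | h
      · exact absurd ((pow_eq_zero_iff (two_ne_zero)).mp (neg_eq_zero.mp h)) hc
      · exact h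
    rw [Subgroup.mem_bot, ← hzz0, ht, u_zero, map_one, mul_one, mul_inv_cancel]

theorem ab_Ubar : ∀ a ∈ Ubar F, ∀ b ∈ Ubar F, a * b = b * a := by
  intro a ha b hb
  obtain ⟨x, rfl⟩ := (mem_Ubar a).mp ha
  obtain ⟨y, rfl⟩ := (mem_Ubar b).mp hb
  rw [← map_mul, ← map_mul, ← u_add, ← u_add, add_comm]

theorem pr_h_mem_normalizer {t : F} (ht : t ≠ 0) :
    (pr (h t) : PSL2) ∈ Subgroup.normalizer ((Ubar F : Subgroup PSL2) : Set PSL2) := by
  apply mem_normalizer_of_cj_le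
  rintro _ ⟨z, hz, rfl⟩
  obtain ⟨a, rfl⟩ := (mem_Ubar z).mp hz
  simp only [MulEquiv.coe_toMonoidHom, MulAut.conj_apply]
  rw [← map_mul, h_mul_u ht a, map_mul, mul_inv_cancel_right]
  exact pr_u_mem _

theorem irr_Ubar (R : Subgroup PSL2) (hR : R ≤ Ubar F)
    (hN : Subgroup.normalizer ((Ubar F : Subgroup PSL2) : Set PSL2) ≤ Subgroup.normalizer (R : Set PSL2)) :
    R = ⊥ ∨ R = Ubar F := by
  by_cases hbot : R = ⊥
  · left; exact hbot
  right
  apply le_antisymm hR
  obtain ⟨z, hzR', hz1⟩ : ∃ z : PSL2, z ∈ R ∧ z ≠ 1 := by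
    by_contra hcon
    push Not at hcon
    exact hbot ((Subgroup.eq_bot_iff_forall R).mpr hcon)
  obtain ⟨a₀, ha₀⟩ := (mem_Ubar (z : PSL2)).mp (hR hzR')
  have ha₀ne : a₀ ≠ 0 := by
    intro h0
    apply hz1
    rw [ha₀, h0, u_zero, map_one]
  have key : ∀ t : F, (pr (u (t ^ 2 * a₀)) : PSL2) ∈ R := by
    intro t
    by_cases ht : t = 0
    · rw [ht]; simp only [ne_eq, OfNat.ofNat_ne_zero, not_false_eq_true, zero_pow, zero_mul]
      rw [u_zero, map_one]; exact R.one_mem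
    · have h1 := hN (pr_h_mem_normalizer ht)
      have h2 := (Subgroup.mem_normalizer_iff.mp h1 (z : PSL2)).mp hzR'
      rw [ha₀, ← map_mul, h_mul_u ht a₀, map_mul, mul_inv_cancel_right] at h2
      exact h2
  intro y hy
  obtain ⟨b, rfl⟩ := (mem_Ubar y).mp hy
  obtain ⟨c, d, hcd⟩ := exists_sq_add_sq (b / a₀)
  have hb : b = c ^ 2 * a₀ + d ^ 2 * a₀ := by
    field_simp at hcd
    linear_combination hcd
  rw [hb, u_add, map_mul]
  exact R.mul_mem (key c) (key d)

theorem nn_Ubar : ¬ (Ubar F).Normal := by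
  intro hn
  have h1 := hn.conj_mem _ (pr_u_mem (1 : F)) (pr (n 1))
  rw [← map_mul, n_mul_u one_ne_zero (1 : F), map_mul, mul_inv_cancel_right] at h1
  obtain ⟨b, hb⟩ := (mem_Ubar _).mp h1
  rw [pr_eq_iff] at hb
  rcases hb with h | h
  · have := congrArg (fun m : SL2 => m.1 1 0) h
    simp at this
  · have := congrArg (fun m : SL2 => m.1 1 0) h
    simp at this

theorem rankOne_PSL2 (p : ℕ) [Fact p.Prime] [CharP F p] : RankOne p PSL2 := by
  have hfac := factorization_card (F := F) p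
  have hU' : Nat.card (Ubar F) = p ^ (Nat.card PSL2).factorization p := by
    rw [card_uHom_range, ← hfac]
  exact rankOne_of_sylow (Sylow.ofCard (Ubar F) hU') ti_Ubar ab_Ubar irr_Ubar nn_Ubar

end psl

end Cfsg.Agent.Lib.Helper7.PU
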