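import Mathlib
import Cfsg.Agent.Lib.Helper7.PUa
import Cfsg.Agent.Lib.Helper7.PU2

/-!
# Rank-one pushing up: the basic consequences of the hypotheses
-/

set_option autoImplicit false
set_option linter.unusedSectionVars false
set_option linter.style.haveILetI false

namespace Cfsg.Agent.Lib.Helper7.PU

open Cfsg Cfsg.Agent.Lib.Helper7 Cfsg.Agent.Lib.Helper7.PowZ
open scoped commutatorElement Pointwise

variable {G : Type*} [Group G] [Finite G] {p : ℕ} [Fact p.Prime]
variable {Y : Type*} [Group Y]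

/-- the standing hypotheses -/
structure PUHyp (p : ℕ) [Fact p.Prime] (S : Sylow p G) (M : Subgroup G) (φ : G →* Y) : Prop where
  hE₁ : Subgroup.centralizer (Cfsg.pCore p G : Set G) ≤ Cfsg.pCore p G
  hM : IsCoatom M ∧ (S : Subgroup G) ≤ M
  huniq : ∀ M' : Subgroup G, IsCoatom M' ∧ (S : Subgroup G) ≤ M' → M' = M
  hφ : Function.Surjective φ
  hR : RankOne p Y

theorem isSylowIn_cj {P H : Subgroup G} (h : IsSylowIn p P H) (g : G) :
    IsSylowIn p (cj g P) (cj g H) :=
  ⟨cj_mono g h.1, by rw [card_cj, card_cj]; exact h.2⟩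

theorem cj_normal {N : Subgroup G} [hN : N.Normal] (g : G) : cj g N = N := by
  ext x
  rw [mem_cj]
  constructor
  · intro h
    have := hN.conj_mem _ h g
    have e : g * (g⁻¹ * x * g) * g⁻¹ = x := by group
    rwa [e] at this
  · intro h
    have := hN.conj_mem _ h g⁻¹
    rwa [inv_inv] at this

theorem cj_eq_self_of_mem {H : Subgroup G} {g : G} (hg : g ∈ H) : cj g H = H := by
  ext x
  rw [mem_cj]
  constructor
  · intro h
    have := H.mul_mem (H.mul_mem hg h) (H.inv_mem hg)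
    have e : g * (g⁻¹ * x * g) * g⁻¹ = x := by group
    rwa [e] at this
  · intro h
    exact H.mul_mem (H.mul_mem (H.inv_mem hg) h) hg

theorem mem_normalizer_of_cj_eq {H : Subgroup G} {g : G} (h : cj g H = H) :
    g ∈ Subgroup.normalizer (H : Set G) :=
  mem_normalizer_of_cj_le h.le

theorem cj_eq_of_mem_normalizer {H : Subgroup G} {g : G} (h : g ∈ Subgroup.normalizer (H : Set G)) :
    cj g H = H := by
  ext x
  rw [mem_cj]
  have h' := Subgroup.inv_mem _ h
  rw [Subgroup.mem_normalizer_iff] at h'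
  rw [h' x, inv_inv]

section facts

variable {S : Sylow p G} {M : Subgroup G} {φ : G →* Y} (h : PUHyp p S M φ)
include h

theorem M_ne_top : M ≠ ⊤ := h.hM.1.1

/-- a proper subgroup containing `S` lies in `M` -/
theorem le_M {H : Subgroup G} (hSH : (S : Subgroup G) ≤ H) (hH : H ≠ ⊤) : H ≤ M :=
  le_of_unique_max h.hM h.huniq hSH hH

/-- a proper subgroup containing `gSg⁻¹` lies in `gMg⁻¹` -/
theorem le_cj_M (g : G) {H : Subgroup G} (hSH : cj g (S : Subgroup G) ≤ H) (hH : H ≠ ⊤) :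
    H ≤ cj g M := by
  have h1 : (S : Subgroup G) ≤ cj g⁻¹ H := by
    have := cj_mono g⁻¹ hSH
    rwa [cj_cj, inv_mul_cancel, cj_one] at this
  have h2 : cj g⁻¹ H ≠ ⊤ := by
    intro hc
    apply hH
    have := congrArg (cj g) hc
    rw [cj_cj, mul_inv_cancel, cj_one] at this
    rw [this]
    exact (cj_normal (N := (⊤ : Subgroup G)) g)
  have h3 := cj_mono g (le_M h h1 h2)
  rwa [cj_cj, mul_inv_cancel, cj_one] at h3

theorem map_ne_top_aux : ¬ ((S : Subgroup G).map φ).Normal := by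
  have := h.hR.nn (S.mapSurjective h.hφ)
  rwa [Sylow.coe_mapSurjective] at this

theorem S_not_normal : ¬ (S : Subgroup G).Normal := by
  intro hn
  exact map_ne_top_aux h (hn.map φ h.hφ)

theorem normalizer_S_le : Subgroup.normalizer ((S : Subgroup G) : Set G) ≤ M := by
  apply le_M h Subgroup.le_normalizer
  intro hc
  exact S_not_normal h (Subgroup.normalizer_eq_top_iff.mp hc)

theorem ker_le_M : φ.ker ≤ M := by
  have h1 : (S : Subgroup G) ⊔ φ.ker ≠ ⊤ := by
    intro hc
    apply map_ne_top_aux h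
    have h2 : ((S : Subgroup G) ⊔ φ.ker).map φ = (S : Subgroup G).map φ := by
      rw [Subgroup.map_sup, (MonoidHom.ker φ).map_eq_bot_iff.mpr le_rfl, sup_bot_eq]
    rw [hc, ← MonoidHom.range_eq_map, MonoidHom.range_eq_top.mpr h.hφ] at h2
    rw [← h2]
    infer_instance
  exact le_sup_right.trans (le_M h le_sup_left h1)

theorem S_inf_ker_le : (S : Subgroup G) ⊓ φ.ker ≤ Cfsg.pCore p G := by
  haveI := inf_normal_of_le_max S h.hM h.huniq φ.ker (ker_le_M h)
  exact le_pCore inferInstance (S.2.to_le inf_le_left)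

/-- `S ∩ gSg⁻¹ ≤ K` for `g ∉ M` -/
theorem inf_cj_le_ker {g : G} (hg : g ∉ M) : (S : Subgroup G) ⊓ cj g (S : Subgroup G) ≤ φ.ker := by
  have hne : cj (φ g) ((S : Subgroup G).map φ) ≠ (S : Subgroup G).map φ := by
    intro hc
    apply hg
    have h1 : (S : Subgroup G) ≤ (Subgroup.normalizer (((S : Subgroup G).map φ : Subgroup Y) : Set Y)).comap φ := by
      intro s hs
      exact Subgroup.le_normalizer (Subgroup.mem_map_of_mem φ hs)
    have h2 : (Subgroup.normalizer (((S : Subgroup G).map φ : Subgroup Y) : Set Y)).comap φ ≠ ⊤ := by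
      intro hc2
      apply map_ne_top_aux h
      rw [← Subgroup.normalizer_eq_top_iff, eq_top_iff]
      intro y _
      obtain ⟨x, rfl⟩ := h.hφ y
      have : x ∈ (Subgroup.normalizer (((S : Subgroup G).map φ : Subgroup Y) : Set Y)).comap φ := by
        rw [hc2]; exact Subgroup.mem_top x
      exact this
    apply le_M h h1 h2
    show φ g ∈ Subgroup.normalizer (((S : Subgroup G).map φ : Subgroup Y) : Set Y)
    rw [Subgroup.mem_normalizer_iff]
    intro y
    constructor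
    · intro hy
      rw [← hc, mem_cj]
      have : (φ g)⁻¹ * (φ g * y * (φ g)⁻¹) * φ g = y := by group
      rw [this]; exact hy
    · intro hy
      rw [← hc, mem_cj] at hy
      have : (φ g)⁻¹ * (φ g * y * (φ g)⁻¹) * φ g = y := by group
      rwa [this] at hy
  have hti := h.hR.ti (S.mapSurjective h.hφ) (φ g)
  rw [Sylow.coe_mapSurjective] at hti
  have hbot : (S : Subgroup G).map φ ⊓ cj (φ g) ((S : Subgroup G).map φ) = ⊥ := by
    by_contra hc
    exact hne (hti hc)
  intro x hx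
  rw [MonoidHom.mem_ker, ← Subgroup.mem_bot, ← hbot]
  refine ⟨Subgroup.mem_map_of_mem φ hx.1, ?_⟩
  show φ x ∈ cj (φ g) ((S : Subgroup G).map φ)
  rw [mem_cj]
  have h2 := mem_cj.mp hx.2
  refine ⟨g⁻¹ * x * g, h2, ?_⟩
  simp only [map_mul, map_inv]

theorem exists_not_mem_M : ∃ g : G, g ∉ M := by
  by_contra hc
  push Not at hc
  exact M_ne_top h (eq_top_iff.mpr (fun x _ => hc x))

theorem pCore_le_ker : Cfsg.pCore p G ≤ φ.ker := by
  obtain ⟨g, hg⟩ := exists_not_mem_M h
  refine le_trans ?_ (inf_cj_le_ker h hg)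
  apply le_inf (pCore_le_sylow S)
  have := cj_mono g (pCore_le_sylow (p := p) S)
  rwa [cj_normal] at this

theorem S_inf_ker_eq : (S : Subgroup G) ⊓ φ.ker = Cfsg.pCore p G :=
  le_antisymm (S_inf_ker_le h) (le_inf (pCore_le_sylow S) (pCore_le_ker h))

/-- `S ∩ gMg⁻¹ ≤ O_p(G)` for `g ∉ M` -/
theorem inf_cj_M_le {g : G} (hg : g ∉ M) : (S : Subgroup G) ⊓ cj g M ≤ Cfsg.pCore p G := by
  intro s hs
  have hsyl : IsSylowIn p (cj g (S : Subgroup G)) (cj g M) :=
    isSylowIn_cj (IsSylowIn.of_sylow_le S h.hM.2) g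
  have hz : Subgroup.zpowers s ≤ cj g M := by rw [Subgroup.zpowers_le]; exact hs.2
  have hzp : IsPGroup p (Subgroup.zpowers s) :=
    S.2.to_le (by rw [Subgroup.zpowers_le]; exact hs.1)
  obtain ⟨P', hP', hzP'⟩ := exists_isSylowIn_ge hzp hz
  obtain ⟨m, hm, hPm⟩ := hsyl.conj hP'
  have hsP : s ∈ P' := hzP' (Subgroup.mem_zpowers s)
  have hPm' : P' = cj (m * g) (S : Subgroup G) := by rw [hPm, ← cj_cj]
  have hmg : m * g ∉ M := by
    intro hc
    obtain ⟨m₀, hm₀, rfl⟩ := hm
    simp only [MulEquiv.coe_toMonoidHom, MulAut.conj_apply] at hc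
    have e : g * m₀ * g⁻¹ * g = g * m₀ := by group
    rw [e] at hc
    apply hg
    have := M.mul_mem hc (M.inv_mem hm₀)
    rwa [mul_inv_cancel_right] at this
  apply S_inf_ker_le h
  refine ⟨hs.1, ?_⟩
  exact inf_cj_le_ker h hmg ⟨hs.1, hPm' ▸ hsP⟩

/-- any subgroup containing `gSg⁻¹` (`g ∉ M`) and an element of `S ∖ O_p(G)` is `G` -/
theorem eq_top_of_cj_le_of_mem {g : G} (hg : g ∉ M) {H : Subgroup G}
    (hH : cj g (S : Subgroup G) ≤ H) {s : G} (hsS : s ∈ (S : Subgroup G)) (hsQ : s ∉ Cfsg.pCore p G)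
    (hsH : s ∈ H) : H = ⊤ := by
  by_contra hne
  have := le_cj_M h g hH hne
  exact hsQ (inf_cj_M_le h hg ⟨hsS, this hsH⟩)

/-- `⟨S, gSg⁻¹⟩ = G` for `g ∉ M` -/
theorem sup_cj_eq_top {g : G} (hg : g ∉ M) : (S : Subgroup G) ⊔ cj g (S : Subgroup G) = ⊤ := by
  by_contra hne
  have h1 := le_M h le_sup_left hne
  have h2 : cj g (S : Subgroup G) ≤ M := le_sup_right.trans h1
  have hs1 : IsSylowIn p (S : Subgroup G) M := IsSylowIn.of_sylow_le S h.hM.2
  have hs2 : IsSylowIn p (cj g (S : Subgroup G)) M :=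
    ⟨h2, by rw [card_cj]; exact hs1.2⟩
  obtain ⟨m, hm, hmS⟩ := hs1.conj hs2
  have h3 : cj (m⁻¹ * g) (S : Subgroup G) = S := by
    rw [← cj_cj, hmS, cj_cj, inv_mul_cancel, cj_one]
  have h4 := normalizer_S_le h (mem_normalizer_of_cj_eq h3)
  apply hg
  have := M.mul_mem hm h4
  rwa [mul_inv_cancel_left] at this

/-- `S/O_p(G)` is abelian -/
theorem commutator_S_le : ⁅(S : Subgroup G), (S : Subgroup G)⁆ ≤ Cfsg.pCore p G := by
  rw [Subgroup.commutator_le]
  intro a ha b hb
  apply S_inf_ker_le h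
  refine ⟨(S : Subgroup G).mul_mem ((S : Subgroup G).mul_mem ((S : Subgroup G).mul_mem ha hb)
    ((S : Subgroup G).inv_mem ha)) ((S : Subgroup G).inv_mem hb), ?_⟩
  show ⁅a, b⁆ ∈ φ.ker
  rw [MonoidHom.mem_ker, commutatorElement_def]
  simp only [map_mul, map_inv]
  have hab := h.hR.ab (S.mapSurjective h.hφ) (φ a)
    (by rw [Sylow.coe_mapSurjective]; exact Subgroup.mem_map_of_mem φ ha) (φ b)
    (by rw [Sylow.coe_mapSurjective]; exact Subgroup.mem_map_of_mem φ hb)
  rw [hab]; group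

/-- `N_G(S)` acts irreducibly on `S/O_p(G)` -/
theorem irr_S {R : Subgroup G} (hQR : Cfsg.pCore p G ≤ R) (hRS : R ≤ (S : Subgroup G))
    (hN : Subgroup.normalizer ((S : Subgroup G) : Set G) ≤ Subgroup.normalizer (R : Set G)) :
    R = Cfsg.pCore p G ∨ R = S := by
  haveI : Finite Y := Finite.of_surjective φ h.hφ
  have hRmap : R.map φ ≤ (S : Subgroup G).map φ := Subgroup.map_mono hRS
  have hNmap : Subgroup.normalizer (((S : Subgroup G).map φ : Subgroup Y) : Set Y) ≤
      Subgroup.normalizer ((R.map φ : Subgroup Y) : Set Y) := by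
    intro y hy
    obtain ⟨x, rfl⟩ := h.hφ y
    have hH₁ : cj x (S : Subgroup G) ≤ (S : Subgroup G) ⊔ φ.ker := by
      rintro _ ⟨s, hs, rfl⟩
      simp only [MulEquiv.coe_toMonoidHom, MulAut.conj_apply]
      rw [← Subgroup.comap_map_eq, Subgroup.mem_comap]
      have := (Subgroup.mem_normalizer_iff.mp hy (φ s)).mp (Subgroup.mem_map_of_mem φ hs)
      simpa only [map_mul, map_inv] using this
    have hs1 : IsSylowIn p (S : Subgroup G) ((S : Subgroup G) ⊔ φ.ker) :=
      IsSylowIn.of_sylow_le S le_sup_left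
    have hs2 : IsSylowIn p (cj x (S : Subgroup G)) ((S : Subgroup G) ⊔ φ.ker) :=
      ⟨hH₁, by rw [card_cj]; exact hs1.2⟩
    obtain ⟨k, hk, hkS⟩ := hs1.conj hs2
    have hk' : (k : G) ∈ ((S : Subgroup G) : Set G) * (φ.ker : Set G) := by
      rw [← Subgroup.coe_mul_of_left_le_normalizer_right (S : Subgroup G) φ.ker
        (by rw [Subgroup.normalizer_eq_top_iff.mpr inferInstance]; exact le_top)]
      exact hk
    obtain ⟨s, hs, k₁, hk₁, hsk⟩ := hk'
    have hk₂ : s * k₁ * s⁻¹ ∈ φ.ker := (inferInstance : φ.ker.Normal).conj_mem _ hk₁ s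
    have hkeq : k = (s * k₁ * s⁻¹) * s := by rw [← hsk]; group
    have hkS' : cj x (S : Subgroup G) = cj k (S : Subgroup G) := hkS
    have h3 : cj ((s * k₁ * s⁻¹)⁻¹ * x) (S : Subgroup G) = S := by
      rw [← cj_cj, hkS', hkeq, ← cj_cj (s * k₁ * s⁻¹) s, cj_eq_self_of_mem hs, cj_cj,
        inv_mul_cancel, cj_one]
    have h4 := hN (mem_normalizer_of_cj_eq h3)
    have h5 : φ ((s * k₁ * s⁻¹)⁻¹ * x) = φ x := by
      rw [map_mul, map_inv, MonoidHom.mem_ker.mp hk₂, inv_one, one_mul]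
    rw [← h5]
    apply mem_normalizer_of_cj_le
    rintro _ ⟨z, hz, rfl⟩
    obtain ⟨r, hr, rfl⟩ := hz
    simp only [MulEquiv.coe_toMonoidHom, MulAut.conj_apply]
    have := (Subgroup.mem_normalizer_iff.mp h4 r).mp hr
    have h6 := Subgroup.mem_map_of_mem φ this
    simpa only [map_mul, map_inv] using h6
  have hirr := h.hR.irr (S.mapSurjective h.hφ) (R.map φ)
    (by rw [Sylow.coe_mapSurjective]; exact hRmap)
    (by rw [Sylow.coe_mapSurjective]; exact hNmap)
  rw [Sylow.coe_mapSurjective] at hirr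
  rcases hirr with h1 | h1
  · left
    apply le_antisymm _ hQR
    intro r hr
    apply S_inf_ker_le h
    refine ⟨hRS hr, ?_⟩
    show r ∈ φ.ker
    rw [MonoidHom.mem_ker, ← Subgroup.mem_bot, ← h1]
    exact Subgroup.mem_map_of_mem φ hr
  · right
    apply le_antisymm hRS
    intro s hs
    have h2 : s ∈ (R.map φ).comap φ := by
      rw [h1]; exact Subgroup.mem_map_of_mem φ hs
    rw [Subgroup.comap_map_eq] at h2
    have h3 : s ∈ ((R : Subgroup G) : Set G) * (φ.ker : Set G) := by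
      rw [← Subgroup.coe_mul_of_left_le_normalizer_right R φ.ker
        (by rw [Subgroup.normalizer_eq_top_iff.mpr inferInstance]; exact le_top)]
      exact h2
    obtain ⟨r, hr, k, hk, hrk⟩ := h3
    have hkS : k ∈ (S : Subgroup G) := by
      have : k = r⁻¹ * s := by rw [← hrk]; group
      rw [this]
      exact (S : Subgroup G).mul_mem ((S : Subgroup G).inv_mem (hRS hr)) hs
    have hkR : k ∈ R := hQR (S_inf_ker_le h ⟨hkS, hk⟩)
    rw [← hrk]
    exact R.mul_mem hr hkR

end facts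

end Cfsg.Agent.Lib.Helper7.PU
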