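import Mathlib
import Cfsg.Agent.Lib.Helper7.PUb
import Cfsg.Agent.Lib.Helper7.KNormalizerSat
import Cfsg.Agent.Lib.Lead.Replacement
import Cfsg.Agent.H1.PQ

/-!
# Rank-one pushing up: the module `V = Z(O_p(G))`, part 1
-/

set_option autoImplicit false
set_option linter.unusedSectionVars false
set_option linter.style.haveILetI false

namespace Cfsg.Agent.Lib.Helper7.PU

open Cfsg Cfsg.Agent.Lib.Helper7 Cfsg.Agent.Lib.Helper7.PowZ Cfsg.Agent.Lib.Lead.Replacement
open Cfsg.Agent.Lib.Helper7.ThA Cfsg.Agent.Lib.Helper4.ZJ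
open scoped commutatorElement Pointwise

variable {G : Type*} [Group G] [Finite G] {p : ℕ} [Fact p.Prime]
variable {Y : Type*} [Group Y]

/-- `Z(O_p(G))` -/
abbrev ZQ (p : ℕ) (G : Type*) [Group G] : Subgroup G :=
  Cfsg.pCore p G ⊓ Subgroup.centralizer (Cfsg.pCore p G : Set G)

instance ZQ_normal : (ZQ p G).Normal := by
  haveI := pCore_normal p G
  infer_instance

theorem ZQ_comm : ∀ x ∈ ZQ p G, ∀ y ∈ ZQ p G, x * y = y * x := by
  intro x hx y hy
  exact (Subgroup.mem_centralizer_iff.mp hy.2 x hx.1)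

theorem pCore_le_centralizer_ZQ : Cfsg.pCore p G ≤ Subgroup.centralizer ((ZQ p G : Subgroup G) : Set G) := by
  intro q hq
  rw [Subgroup.mem_centralizer_iff]
  intro v hv
  exact (Subgroup.mem_centralizer_iff.mp hv.2 q hq).symm

theorem cv_ZQ_pCore : cv (ZQ p G) (Cfsg.pCore p G) = ZQ p G := by
  unfold cv
  apply inf_eq_left.mpr
  exact inf_le_right

/-- `cv V` of a conjugate -/
theorem cv_cj {V : Subgroup G} [hV : V.Normal] (g : G) (X : Subgroup G) :
    cv V (cj g X) = cj g (cv V X) := by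
  ext x
  unfold cv
  rw [mem_cj, Subgroup.mem_inf, Subgroup.mem_inf, Subgroup.mem_centralizer_iff,
    Subgroup.mem_centralizer_iff]
  constructor
  · rintro ⟨h1, h2⟩
    refine ⟨?_, ?_⟩
    · have := hV.conj_mem _ h1 g⁻¹
      rwa [inv_inv] at this
    · intro y hy
      have := h2 (g * y * g⁻¹) (by
        show g * y * g⁻¹ ∈ cj g X
        rw [mem_cj]
        have e : g⁻¹ * (g * y * g⁻¹) * g = y := by group
        rw [e]; exact hy)
      have e1 : y * (g⁻¹ * x * g) = g⁻¹ * ((g * y * g⁻¹) * x) * g := by group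
      have e2 : g⁻¹ * x * g * y = g⁻¹ * (x * (g * y * g⁻¹)) * g := by group
      rw [e1, e2, this]
  · rintro ⟨h1, h2⟩
    refine ⟨?_, ?_⟩
    · have := hV.conj_mem _ h1 g
      have e : g * (g⁻¹ * x * g) * g⁻¹ = x := by group
      rwa [e] at this
    · intro y hy
      have hy' : g⁻¹ * y * g ∈ X := mem_cj.mp hy
      have := h2 _ hy'
      have e1 : y * x = g * ((g⁻¹ * y * g) * (g⁻¹ * x * g)) * g⁻¹ := by group
      have e2 : x * y = g * ((g⁻¹ * x * g) * (g⁻¹ * y * g)) * g⁻¹ := by group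
      rw [e1, e2, this]

theorem mm_cj {V : Subgroup G} [hV : V.Normal] (g : G) (X : Subgroup G) :
    mm V (cj g X) = mm V X := by
  unfold mm
  rw [cv_cj, card_cj, card_cj]

theorem cv_sup_pCore (X : Subgroup G) : cv (ZQ p G) (X ⊔ Cfsg.pCore p G) = cv (ZQ p G) X := by
  rw [cv_sup, cv_ZQ_pCore]
  exact inf_eq_left.mpr inf_le_left

theorem mm_le_mm_sup_pCore (X : Subgroup G) : mm (ZQ p G) X ≤ mm (ZQ p G) (X ⊔ Cfsg.pCore p G) := by
  unfold mm
  rw [cv_sup_pCore]
  exact Nat.mul_le_mul_right _ (Subgroup.card_le_of_le le_sup_left)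


theorem isMulCommutative_sup' {A B : Subgroup G} (hA : A ≤ Subgroup.centralizer (A : Set G))
    (hB : B ≤ Subgroup.centralizer (B : Set G)) (hAB : A ≤ Subgroup.centralizer (B : Set G)) :
    IsMulCommutative ↥(A ⊔ B) := by
  rw [isMulCommutative_iff_le_centralizer, Cfsg.Agent.Lib.Lead.Replacement.centralizer_sup]
  have hBA : B ≤ Subgroup.centralizer (A : Set G) := Subgroup.le_centralizer_iff.mp hAB
  exact sup_le (le_inf hA hAB) (le_inf hBA hB)

theorem le_centralizer_of_isMulCommutative {A : Subgroup G} (hA : IsMulCommutative ↥A) :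
    A ≤ Subgroup.centralizer (A : Set G) := (isMulCommutative_iff_le_centralizer A).mp hA

/-- a maximizer of `mm V` on the subgroups of `S'` containing all maximizers -/
theorem exists_best (V S' : Subgroup G) : ∃ X₀ : Subgroup G, X₀ ≤ S' ∧
    (∀ X : Subgroup G, X ≤ S' → mm V X ≤ mm V X₀) ∧
    (∀ X : Subgroup G, X ≤ S' → mm V X = mm V X₀ → X ≤ X₀) := by
  haveI : Nonempty {X : Subgroup G // X ≤ S'} := ⟨⟨⊥, bot_le⟩⟩
  obtain ⟨X₀, hX₀⟩ := Finite.exists_max
    (fun X : {X : Subgroup G // X ≤ S'} => mm V X.1 * (Nat.card G + 1) + Nat.card X.1)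
  have hcard : ∀ X : Subgroup G, Nat.card X < Nat.card G + 1 := fun X =>
    Nat.lt_succ_of_le (Subgroup.card_le_card_group X)
  have hmax : ∀ X : Subgroup G, X ≤ S' → mm V X ≤ mm V X₀.1 := by
    intro X hX
    by_contra hc
    push Not at hc
    have h1 := hX₀ ⟨X, hX⟩
    simp only at h1
    have h2 : (mm V X₀.1 + 1) * (Nat.card G + 1) ≤ mm V X * (Nat.card G + 1) :=
      Nat.mul_le_mul_right _ hc
    have h3 := hcard X₀.1
    nlinarith
  refine ⟨X₀.1, X₀.2, hmax, ?_⟩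
  intro X hX hXe
  have h1 := mm_mul_le V X X₀.1
  have h2 := hmax (X ⊓ X₀.1) (inf_le_left.trans hX)
  have h3 := hmax (X ⊔ X₀.1) (sup_le hX X₀.2)
  have hpos := mm_pos V X₀.1
  have h4 : mm V (X ⊔ X₀.1) = mm V X₀.1 := by
    apply le_antisymm h3
    rw [hXe] at h1
    have : mm V X₀.1 * mm V X₀.1 ≤ mm V X₀.1 * mm V (X ⊔ X₀.1) :=
      h1.trans (Nat.mul_le_mul_right _ h2)
    exact Nat.le_of_mul_le_mul_left this hpos
  have h5 := hX₀ ⟨X ⊔ X₀.1, sup_le hX X₀.2⟩
  simp only at h5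
  rw [h4] at h5
  have h6 : Nat.card ↥(X ⊔ X₀.1) ≤ Nat.card ↥X₀.1 := by omega
  have h7 : X₀.1 = X ⊔ X₀.1 := Subgroup.eq_of_le_of_card_ge le_sup_right h6
  rw [h7]
  exact le_sup_left

section fam

variable (S : Sylow p G)

theorem ZQ_le_sylow : ZQ p G ≤ (S : Subgroup G) := inf_le_left.trans (pCore_le_sylow S)

/-- `V(A ∩ Q)` is abelian -/
theorem isMulCommutative_ZQ_sup {A : Subgroup G} (hA : IsMulCommutative ↥A) :
    IsMulCommutative ↥(ZQ p G ⊔ (A ⊓ Cfsg.pCore p G)) := by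
  apply isMulCommutative_sup'
  · intro x hx
    rw [Subgroup.mem_centralizer_iff]
    intro y hy
    exact ZQ_comm y hy x hx
  · exact inf_le_left.trans ((le_centralizer_of_isMulCommutative hA).trans
      (Subgroup.centralizer_le inf_le_left))
  · exact inf_le_right.trans (Subgroup.centralizer_le inf_le_right)

theorem card_ZQ_sup_le {A : Subgroup G} (hA : A ∈ famA (S : Subgroup G)) :
    Nat.card ↥(ZQ p G ⊔ (A ⊓ Cfsg.pCore p G)) ≤ Nat.card A := by
  obtain ⟨hAS, hAc, hAmax⟩ := mem_fam.mp hA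
  apply hAmax _ _ (isMulCommutative_ZQ_sup hAc)
  exact sup_le (ZQ_le_sylow S) (inf_le_left.trans hAS)

/-- the basic inequality of the replacement argument -/
theorem key_ineq {A : Subgroup G} (hA : IsMulCommutative ↥A) :
    Nat.card (Cfsg.pCore p G) * Nat.card (ZQ p G) * Nat.card A ≤
      Nat.card ↥(A ⊔ Cfsg.pCore p G) * Nat.card ↥(cv (ZQ p G) A) *
        Nat.card ↥(ZQ p G ⊔ (A ⊓ Cfsg.pCore p G)) := by
  have h2 := card_mul_card_le (ZQ p G) (A ⊓ Cfsg.pCore p G)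
  have h3 : ZQ p G ⊓ (A ⊓ Cfsg.pCore p G) ≤ cv (ZQ p G) A := by
    intro v hv
    exact ⟨hv.1, le_centralizer_of_isMulCommutative hA hv.2.1⟩
  have h3' := Subgroup.card_le_of_le h3
  have h4 := card_mul_card_le A (Cfsg.pCore p G)
  have hpos : 0 < Nat.card ↥(A ⊓ Cfsg.pCore p G) := Nat.card_pos
  apply Nat.le_of_mul_le_mul_right _ hpos
  calc Nat.card (Cfsg.pCore p G) * Nat.card (ZQ p G) * Nat.card A * Nat.card ↥(A ⊓ Cfsg.pCore p G)
      = (Nat.card (ZQ p G) * Nat.card ↥(A ⊓ Cfsg.pCore p G)) *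
          (Nat.card A * Nat.card (Cfsg.pCore p G)) := by ring
    _ ≤ (Nat.card ↥(ZQ p G ⊓ (A ⊓ Cfsg.pCore p G)) * Nat.card ↥(ZQ p G ⊔ (A ⊓ Cfsg.pCore p G))) *
          (Nat.card ↥(A ⊓ Cfsg.pCore p G) * Nat.card ↥(A ⊔ Cfsg.pCore p G)) :=
        Nat.mul_le_mul h2 h4
    _ ≤ (Nat.card ↥(cv (ZQ p G) A) * Nat.card ↥(ZQ p G ⊔ (A ⊓ Cfsg.pCore p G))) *
          (Nat.card ↥(A ⊓ Cfsg.pCore p G) * Nat.card ↥(A ⊔ Cfsg.pCore p G)) :=
        Nat.mul_le_mul_right _ (Nat.mul_le_mul_right _ h3')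
    _ = _ := by ring

theorem mm_pCore_eq : mm (ZQ p G) (Cfsg.pCore p G) = Nat.card (Cfsg.pCore p G) * Nat.card (ZQ p G) := by
  unfold mm
  rw [cv_ZQ_pCore]

theorem mm_sup_pCore_eq (A : Subgroup G) : mm (ZQ p G) (A ⊔ Cfsg.pCore p G) =
    Nat.card ↥(A ⊔ Cfsg.pCore p G) * Nat.card ↥(cv (ZQ p G) A) := by
  unfold mm
  rw [cv_sup_pCore]

/-- (C2) -/
theorem mm_pCore_le_of_famA {A : Subgroup G} (hA : A ∈ famA (S : Subgroup G)) :
    mm (ZQ p G) (Cfsg.pCore p G) ≤ mm (ZQ p G) (A ⊔ Cfsg.pCore p G) := by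
  rw [mm_pCore_eq, mm_sup_pCore_eq]
  have h1 := key_ineq (p := p) (mem_fam.mp hA).2.1
  have h2 := card_ZQ_sup_le S hA
  have hpos : 0 < Nat.card A := Nat.card_pos
  apply Nat.le_of_mul_le_mul_right _ hpos
  exact h1.trans (Nat.mul_le_mul_left _ h2)

/-- equality case of (C2) -/
theorem card_ZQ_sup_eq {A : Subgroup G} (hA : A ∈ famA (S : Subgroup G))
    (he : mm (ZQ p G) (A ⊔ Cfsg.pCore p G) ≤ mm (ZQ p G) (Cfsg.pCore p G)) :
    Nat.card ↥(ZQ p G ⊔ (A ⊓ Cfsg.pCore p G)) = Nat.card A := by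
  apply le_antisymm (card_ZQ_sup_le S hA)
  rw [mm_pCore_eq, mm_sup_pCore_eq] at he
  have h1 := key_ineq (p := p) (mem_fam.mp hA).2.1
  have hpos : 0 < Nat.card (Cfsg.pCore p G) * Nat.card (ZQ p G) :=
    Nat.mul_pos Nat.card_pos Nat.card_pos
  apply Nat.le_of_mul_le_mul_left _ hpos
  exact h1.trans (Nat.mul_le_mul_right _ he)

end fam

section facts

variable {S : Sylow p G} {M : Subgroup G} {φ : G →* Y} (h : PUHyp p S M φ)
include h

/-- for `g ∉ M`, `s ∈ S ∖ O_p(G)`: `⟨gSg⁻¹, sgSg⁻¹s⁻¹⟩ = G` -/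
theorem eq_top_of_cj_le_of_cj_cj_le {g : G} (hg : g ∉ M) {s : G} (hsS : s ∈ (S : Subgroup G))
    (hsQ : s ∉ Cfsg.pCore p G) {H : Subgroup G} (h1 : cj g (S : Subgroup G) ≤ H)
    (h2 : cj s (cj g (S : Subgroup G)) ≤ H) : H = ⊤ := by
  by_contra hne
  have hHM := le_cj_M h g h1 hne
  have hsyl : IsSylowIn p (cj g (S : Subgroup G)) ⊤ := by
    have := isSylowIn_cj (IsSylowIn.of_sylow_top S) g
    rwa [cj_normal (N := (⊤ : Subgroup G))] at this
  have hs1 : IsSylowIn p (cj g (S : Subgroup G)) H := hsyl.of_le_mid h1 le_top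
  have hs2 : IsSylowIn p (cj s (cj g (S : Subgroup G))) H := ⟨h2, by rw [card_cj]; exact hs1.2⟩
  obtain ⟨k, hk, hkS⟩ := hs1.conj hs2
  have hkS' : cj s (cj g (S : Subgroup G)) = cj k (cj g (S : Subgroup G)) := hkS
  have h3 : cj (k⁻¹ * s) (cj g (S : Subgroup G)) = cj g (S : Subgroup G) := by
    rw [← cj_cj, hkS', cj_cj, inv_mul_cancel, cj_one]
  have h4 : k⁻¹ * s ∈ Subgroup.normalizer ((cj g (S : Subgroup G) : Subgroup G) : Set G) :=
    mem_normalizer_of_cj_eq h3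
  rw [← cj_normalizer] at h4
  have h5 : k⁻¹ * s ∈ cj g M := cj_mono g (normalizer_S_le h) h4
  have h6 : s ∈ cj g M := by
    have := (cj g M).mul_mem (hHM hk) h5
    rwa [mul_inv_cancel_left] at this
  exact hsQ (inf_cj_M_le h hg ⟨hsS, h6⟩)

/-- `Z(S) ≤ Z(O_p(G))` -/
theorem center_S_le_ZQ :
    (S : Subgroup G) ⊓ Subgroup.centralizer ((S : Subgroup G) : Set G) ≤ ZQ p G := by
  intro z hz
  have h1 : z ∈ Subgroup.centralizer (Cfsg.pCore p G : Set G) :=
    Subgroup.centralizer_le (pCore_le_sylow S) hz.2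
  exact ⟨h.hE₁ h1, h1⟩

/-- `C_S(V) = O_p(G)` provided `C_G(Z(S)) ≠ G` -/
theorem S_inf_centralizer_ZQ
    (hZ : Subgroup.centralizer ((((S : Subgroup G) ⊓
      Subgroup.centralizer ((S : Subgroup G) : Set G) : Subgroup G)) : Set G) ≠ ⊤) :
    (S : Subgroup G) ⊓ Subgroup.centralizer ((ZQ p G : Subgroup G) : Set G) = Cfsg.pCore p G := by
  apply le_antisymm
  · have h1 : Subgroup.centralizer ((ZQ p G : Subgroup G) : Set G) ≤ M := by
      refine le_trans (Subgroup.centralizer_le (center_S_le_ZQ h)) ?_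
      apply le_M h _ hZ
      intro s hs
      rw [Subgroup.mem_centralizer_iff]
      intro z hz
      exact (Subgroup.mem_centralizer_iff.mp hz.2 s hs).symm
    haveI := inf_normal_of_le_max S h.hM h.huniq
      (Subgroup.centralizer ((ZQ p G : Subgroup G) : Set G)) h1
    exact le_pCore inferInstance (S.2.to_le inf_le_left)
  · exact le_inf (pCore_le_sylow S) pCore_le_centralizer_ZQ


/-- (C3): `S` maximizes `mm V` on its subgroups -/
theorem S_best {A : Subgroup G} (hA : A ∈ famA (S : Subgroup G)) (hAQ : ¬ A ≤ Cfsg.pCore p G) :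
    ∀ X : Subgroup G, X ≤ (S : Subgroup G) → mm (ZQ p G) X ≤ mm (ZQ p G) (S : Subgroup G) := by
  obtain ⟨X₀, hX₀S, hmax, hbig⟩ := exists_best (ZQ p G) (S : Subgroup G)
  have hQS : Cfsg.pCore p G ≤ (S : Subgroup G) := pCore_le_sylow S
  have hQX : Cfsg.pCore p G ≤ X₀ := by
    have h1 : X₀ ⊔ Cfsg.pCore p G ≤ X₀ := by
      apply hbig _ (sup_le hX₀S hQS)
      exact le_antisymm (hmax _ (sup_le hX₀S hQS)) (mm_le_mm_sup_pCore X₀)
    exact le_sup_right.trans h1
  have hN : Subgroup.normalizer ((S : Subgroup G) : Set G) ≤ Subgroup.normalizer (X₀ : Set G) := by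
    intro n hn
    apply mem_normalizer_of_cj_le
    have h1 : cj n X₀ ≤ (S : Subgroup G) := by
      have := cj_mono n hX₀S
      rwa [cj_eq_of_mem_normalizer hn] at this
    exact hbig _ h1 (mm_cj n X₀)
  rcases irr_S h hQX hX₀S hN with h1 | h1
  · exfalso
    apply hAQ
    have hAS : A ≤ (S : Subgroup G) := (mem_fam.mp hA).1
    have h2 : A ⊔ Cfsg.pCore p G ≤ X₀ := by
      apply hbig _ (sup_le hAS hQS)
      apply le_antisymm (hmax _ (sup_le hAS hQS))
      rw [h1]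
      exact mm_pCore_le_of_famA S hA
    rw [h1] at h2
    exact le_sup_left.trans h2
  · intro X hX
    rw [← h1]
    exact hmax X hX

theorem S_le_normalizer_ZQ : (S : Subgroup G) ≤ Subgroup.normalizer ((ZQ p G : Subgroup G) : Set G) := by
  rw [Subgroup.normalizer_eq_top_iff.mpr inferInstance]
  exact le_top

theorem commutator_S_le_centralizer_ZQ :
    ⁅(S : Subgroup G), (S : Subgroup G)⁆ ≤ Subgroup.centralizer ((ZQ p G : Subgroup G) : Set G) :=
  (commutator_S_le h).trans pCore_le_centralizer_ZQ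

/-- (C4): the action of `S` on `V` is quadratic -/
theorem quadratic {A : Subgroup G} (hA : A ∈ famA (S : Subgroup G)) (hAQ : ¬ A ≤ Cfsg.pCore p G) :
    ∀ v ∈ ZQ p G, ∀ s ∈ (S : Subgroup G), ⁅v, s⁆ ∈ cv (ZQ p G) (S : Subgroup G) := by
  have hbest := S_best h hA hAQ
  obtain ⟨hmm, hcv⟩ := all_sets (V := ZQ p G) (A := (S : Subgroup G)) ZQ_comm (S_le_normalizer_ZQ h)
    (commutator_S_le_centralizer_ZQ h) hbest ((ZQ p G : Subgroup G) : Set G) le_rfl
  set Sstar := BB (S : Subgroup G) ((ZQ p G : Subgroup G) : Set G) with hSstar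
  have hgV : ∀ x ∈ gens (S : Subgroup G) ((ZQ p G : Subgroup G) : Set G), x ∈ ZQ p G := by
    rintro x ⟨v, hv, a, ha, rfl⟩
    exact comm_mem (S_le_normalizer_ZQ h) hv ha
  have hQS : Cfsg.pCore p G ≤ (S : Subgroup G) := pCore_le_sylow S
  have hQX : Cfsg.pCore p G ≤ Sstar := by
    intro q hq
    refine ⟨hQS hq, ?_⟩
    show q ∈ Subgroup.centralizer _
    rw [Subgroup.mem_centralizer_iff]
    intro x hx
    exact Subgroup.mem_centralizer_iff.mp (pCore_le_centralizer_ZQ hq) x (hgV x hx)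
  have hN : Subgroup.normalizer ((S : Subgroup G) : Set G) ≤ Subgroup.normalizer (Sstar : Set G) := by
    intro n hn
    apply mem_normalizer_of_cj_le
    rintro _ ⟨x, hx, rfl⟩
    simp only [MulEquiv.coe_toMonoidHom, MulAut.conj_apply]
    refine ⟨(Subgroup.mem_normalizer_iff.mp hn x).mp hx.1, ?_⟩
    show n * x * n⁻¹ ∈ Subgroup.centralizer _
    rw [Subgroup.mem_centralizer_iff]
    rintro _ ⟨v, hv, a, ha, rfl⟩
    have hv' : n⁻¹ * v * n ∈ ZQ p G := by
      have := (ZQ_normal (p := p) (G := G)).conj_mem v hv n⁻¹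
      rwa [inv_inv] at this
    have ha' : n⁻¹ * a * n ∈ (S : Subgroup G) := by
      have := (Subgroup.mem_normalizer_iff.mp (Subgroup.inv_mem _ hn) a).mp ha
      rwa [inv_inv] at this
    have hgen : ⁅n⁻¹ * v * n, n⁻¹ * a * n⁆ ∈ gens (S : Subgroup G) ((ZQ p G : Subgroup G) : Set G) :=
      ⟨_, hv', _, ha', rfl⟩
    have := Subgroup.mem_centralizer_iff.mp hx.2 _ hgen
    have e1 : ⁅v, a⁆ * (n * x * n⁻¹) = n * (⁅n⁻¹ * v * n, n⁻¹ * a * n⁆ * x) * n⁻¹ := by
      simp only [commutatorElement_def]; group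
    have e2 : n * x * n⁻¹ * ⁅v, a⁆ = n * (x * ⁅n⁻¹ * v * n, n⁻¹ * a * n⁆) * n⁻¹ := by
      simp only [commutatorElement_def]; group
    rw [e1, e2, this]
  intro v hv s hs
  have hgen : ⁅v, s⁆ ∈ gens (S : Subgroup G) ((ZQ p G : Subgroup G) : Set G) := ⟨v, hv, s, hs, rfl⟩
  refine ⟨hgV _ hgen, ?_⟩
  rcases irr_S h hQX (BB_le _ _) hN with h1 | h1
  · -- `S* = Q`: then `[V,S] = 1`
    rw [h1, cv_ZQ_pCore] at hcv
    set W := WW (S : Subgroup G) ((ZQ p G : Subgroup G) : Set G) with hW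
    have hWV : W ≤ ZQ p G := WW_le (S_le_normalizer_ZQ h) le_rfl
    have hWbot : W = ⊥ := by
      by_contra hne
      have hWp : IsPGroup p ↥W := (pCore_isPGroup p G).to_le (hWV.trans inf_le_left)
      have hSW : (S : Subgroup G) ≤ Subgroup.normalizer (W : Set G) := by
        intro n hn
        apply mem_normalizer_of_cj_le
        rw [hW, WW, cj, MonoidHom.map_closure, Subgroup.closure_le]
        rintro _ ⟨_, ⟨v', hv', a, ha, rfl⟩, rfl⟩
        simp only [MulEquiv.coe_toMonoidHom, MulAut.conj_apply]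
        apply Subgroup.subset_closure
        refine ⟨n * v' * n⁻¹, (ZQ_normal (p := p) (G := G)).conj_mem v' hv' n, n * a * n⁻¹,
          (S : Subgroup G).mul_mem ((S : Subgroup G).mul_mem hn ha) ((S : Subgroup G).inv_mem hn), ?_⟩
        simp only [commutatorElement_def]; group
      have hlt := Cfsg.Agent.H1.commutator_lt_of_pgroup W (S : Subgroup G) hWp S.2 hSW hne
      apply lt_irrefl W
      refine lt_of_le_of_lt ?_ hlt
      rw [hW, WW, Subgroup.closure_le]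
      rintro _ ⟨v', hv', a, ha, rfl⟩
      have hv'' : v' ∈ ((W ⊔ cv (ZQ p G) (S : Subgroup G) : Subgroup G) : Set G) := by
        rw [← hcv]; exact hv'
      rw [Subgroup.coe_mul_of_left_le_normalizer_right W (cv (ZQ p G) (S : Subgroup G))] at hv''
      · obtain ⟨w, hw, c, hc, rfl⟩ := hv''
        have hca : c * a = a * c := (Subgroup.mem_centralizer_iff.mp hc.2 a ha).symm
        have e : ⁅w * c, a⁆ = ⁅w, a⁆ := by
          simp only [commutatorElement_def]
          have : w * c * a * (w * c)⁻¹ * a⁻¹ = w * (c * a) * c⁻¹ * w⁻¹ * a⁻¹ := by group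
          rw [this, hca]; group
        show ⁅w * c, a⁆ ∈ ⁅W, (S : Subgroup G)⁆
        rw [e]
        exact Subgroup.commutator_mem_commutator hw ha
      · intro w hw
        apply Subgroup.centralizer_le_normalizer
        rw [Subgroup.mem_centralizer_iff]
        intro c hc
        exact ZQ_comm c hc.1 w (hWV hw)
    have : ⁅v, s⁆ ∈ W := Subgroup.subset_closure hgen
    rw [hWbot, Subgroup.mem_bot] at this
    rw [this]
    exact Subgroup.one_mem _
  · show ⁅v, s⁆ ∈ Subgroup.centralizer _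
    rw [Subgroup.mem_centralizer_iff]
    intro x hx
    have hx' : x ∈ Sstar := by rw [h1]; exact hx
    exact (Subgroup.mem_centralizer_iff.mp hx'.2 _ hgen).symm

end facts

end Cfsg.Agent.Lib.Helper7.PU
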