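import Mathlib
import Cfsg.Agent.Lib.Helper7.PUc

/-!
# Rank-one pushing up: the module `V = Z(O_p(G))`, part 2 (the order equalities)
-/

set_option autoImplicit false
set_option linter.unusedSectionVars false
set_option linter.unusedVariables false
set_option linter.style.haveILetI false

namespace Cfsg.Agent.Lib.Helper7.PU

open Cfsg Cfsg.Agent.Lib.Helper7 Cfsg.Agent.Lib.Helper7.PowZ Cfsg.Agent.Lib.Lead.Replacement
open Cfsg.Agent.Lib.Helper7.ThA Cfsg.Agent.Lib.Helper4.ZJ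
open scoped commutatorElement Pointwise

variable {G : Type*} [Group G] [Finite G] {p : ℕ} [Fact p.Prime]
variable {Y : Type*} [Group Y]

theorem cv_top_comm {V : Subgroup G} {c : G} (hc : c ∈ cv V ⊤) (x : G) : x * c = c * x :=
  (Subgroup.mem_centralizer_iff.mp hc.2 x (Subgroup.mem_top x))

theorem cv_top_le (V X : Subgroup G) : cv V ⊤ ≤ cv V X := cv_anti V le_top

/-- the stability group of `V ≥ V₀` for central `V₀` -/
def stabGroup (V : Subgroup G) : Subgroup G where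
  carrier := {x | ∀ v ∈ V, ⁅x, v⁆ ∈ cv V ⊤}
  one_mem' := by
    intro v hv
    rw [commutatorElement_one_left]
    exact Subgroup.one_mem _
  mul_mem' := by
    intro a b ha hb v hv
    have h1 := ha v hv
    have h2 := hb v hv
    have e : ⁅a * b, v⁆ = ⁅a, v⁆ * ⁅b, v⁆ := by
      have e1 : ⁅a * b, v⁆ = (a * ⁅b, v⁆) * a⁻¹ * ⁅a, v⁆ := by
        simp only [commutatorElement_def]; group
      rw [e1, cv_top_comm h2 a, mul_inv_cancel_right, (cv_top_comm h1 _).symm]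
    rw [e]
    exact Subgroup.mul_mem _ h1 h2
  inv_mem' := by
    intro a ha v hv
    have h1 := ha v hv
    have e : ⁅a⁻¹, v⁆ = (⁅a, v⁆)⁻¹ := by
      have e1 : ⁅a⁻¹, v⁆ = a⁻¹ * (⁅a, v⁆)⁻¹ * a := by
        simp only [commutatorElement_def]; group
      have h2 : (⁅a, v⁆)⁻¹ ∈ cv V ⊤ := Subgroup.inv_mem _ h1
      rw [e1, cv_top_comm h2 a⁻¹, inv_mul_cancel_right]
    rw [e]
    exact Subgroup.inv_mem _ h1

theorem mem_stabGroup {V : Subgroup G} {x : G} : x ∈ stabGroup V ↔ ∀ v ∈ V, ⁅x, v⁆ ∈ cv V ⊤ := Iff.rfl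

/-- if the stability group is everything, then `G/C_G(V)` is a `p`-group -/
theorem pow_mem_centralizer_of_stab {V : Subgroup G} (hV : ∀ x ∈ V, ∀ y ∈ V, x * y = y * x)
    {x : G} (hx : x ∈ stabGroup V) :
    x ^ Nat.card V ∈ Subgroup.centralizer (V : Set G) := by
  have key : ∀ n : ℕ, ∀ v ∈ V, x ^ n * v * (x ^ n)⁻¹ = ⁅x, v⁆ ^ n * v := by
    intro n
    induction n with
    | zero => intro v hv; simp
    | succ n ih =>
      intro v hv
      have h1 := hx v hv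
      have e : x ^ (n + 1) * v * (x ^ (n + 1))⁻¹ = x * (x ^ n * v * (x ^ n)⁻¹) * x⁻¹ := by
        rw [pow_succ']; group
      rw [e, ih v hv]
      have h2 : ⁅x, v⁆ ^ n ∈ cv V ⊤ := Subgroup.pow_mem _ h1 n
      have h3 : x * v * x⁻¹ = ⁅x, v⁆ * v := by simp only [commutatorElement_def]; group
      calc x * (⁅x, v⁆ ^ n * v) * x⁻¹ = (x * ⁅x, v⁆ ^ n) * v * x⁻¹ := by simp only [mul_assoc]
        _ = ⁅x, v⁆ ^ n * x * v * x⁻¹ := by rw [cv_top_comm h2 x]
        _ = ⁅x, v⁆ ^ n * (x * v * x⁻¹) := by simp only [mul_assoc]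
        _ = ⁅x, v⁆ ^ n * (⁅x, v⁆ * v) := by rw [h3]
        _ = ⁅x, v⁆ ^ (n + 1) * v := by rw [pow_succ, mul_assoc]
  rw [Subgroup.mem_centralizer_iff]
  intro v hv
  have h1 := key (Nat.card V) v hv
  have h2 : ⁅x, v⁆ ^ Nat.card V = 1 := by
    have hm : ⁅x, v⁆ ∈ V := (hx v hv).1
    have := pow_card_eq_one' (G := ↥V) (x := ⟨⁅x, v⁆, hm⟩)
    exact congrArg Subtype.val this
  rw [h2, one_mul] at h1
  have : x ^ Nat.card V * v = v * x ^ Nat.card V := by
    calc x ^ Nat.card V * v = (x ^ Nat.card V * v * (x ^ Nat.card V)⁻¹) * x ^ Nat.card V := by group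
      _ = v * x ^ Nat.card V := by rw [h1]
  exact this.symm

/-- a Sylow subgroup and a normal subgroup of `p`-power exponent quotient generate -/
theorem sylow_sup_eq_top_of_pow_mem (S : Sylow p G) (C : Subgroup G) [C.Normal] (k : ℕ)
    (hk : ∀ x : G, x ^ (p ^ k) ∈ C) : (S : Subgroup G) ⊔ C = ⊤ := by
  have hpq : IsPGroup p (G ⧸ C) := by
    intro y
    obtain ⟨x, rfl⟩ := QuotientGroup.mk_surjective y
    refine ⟨k, ?_⟩
    rw [← QuotientGroup.mk_pow]
    exact (QuotientGroup.eq_one_iff _).mpr (hk x)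
  obtain ⟨j, hj⟩ := IsPGroup.iff_card.mp hpq
  rw [← Subgroup.index_eq_card] at hj
  have h1 : ((S : Subgroup G) ⊔ C).index ∣ p ^ j := by
    rw [← hj]; exact Subgroup.index_dvd_of_le le_sup_right
  have h2 : ((S : Subgroup G) ⊔ C).index ∣ (S : Subgroup G).index :=
    Subgroup.index_dvd_of_le le_sup_left
  have hp : p.Prime := Fact.out
  obtain ⟨i, hi, hie⟩ := (Nat.dvd_prime_pow hp).mp h1
  have h3 : ¬ p ∣ (S : Subgroup G).index := S.not_dvd_index
  have hi0 : i = 0 := by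
    by_contra hne
    apply h3
    refine dvd_trans ?_ h2
    rw [hie]
    exact dvd_pow_self p hne
  rw [hi0, pow_zero] at hie
  exact Subgroup.index_eq_one.mp hie

section facts

variable {S : Sylow p G} {M : Subgroup G} {φ : G →* Y} (h : PUHyp p S M φ)
include h

theorem centralizer_ZQ_le_M
    (hZ : Subgroup.centralizer ((((S : Subgroup G) ⊓
      Subgroup.centralizer ((S : Subgroup G) : Set G) : Subgroup G)) : Set G) ≠ ⊤) :
    Subgroup.centralizer ((ZQ p G : Subgroup G) : Set G) ≤ M := by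
  refine le_trans (Subgroup.centralizer_le (center_S_le_ZQ h)) ?_
  apply le_M h _ hZ
  intro s hs
  rw [Subgroup.mem_centralizer_iff]
  intro z hz
  exact (Subgroup.mem_centralizer_iff.mp hz.2 s hs).symm

/-- `C_V(gSg⁻¹) ≰ C_V(G)` -/
theorem cv_cj_not_le {A : Subgroup G} (hA : A ∈ famA (S : Subgroup G)) (hAQ : ¬ A ≤ Cfsg.pCore p G)
    (hZ : Subgroup.centralizer ((((S : Subgroup G) ⊓
      Subgroup.centralizer ((S : Subgroup G) : Set G) : Subgroup G)) : Set G) ≠ ⊤)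
    {g : G} (hg : g ∉ M) :
    ¬ cv (ZQ p G) (cj g (S : Subgroup G)) ≤ cv (ZQ p G) ⊤ := by
  intro hle
  have hquad := quadratic h hA hAQ
  -- `C_V(S) ≤ C_V(G)`
  have hle' : cv (ZQ p G) (S : Subgroup G) ≤ cv (ZQ p G) ⊤ := by
    intro c hc
    have h1 : g * c * g⁻¹ ∈ cv (ZQ p G) (cj g (S : Subgroup G)) := by
      rw [cv_cj, mem_cj]
      have e : g⁻¹ * (g * c * g⁻¹) * g = c := by group
      rw [e]; exact hc
    have h2 := hle h1
    have h3 := cv_top_comm h2 g⁻¹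
    have e : c = g⁻¹ * (g * c * g⁻¹) * g := by group
    rw [e, h3, inv_mul_cancel_right]
    exact h2
  have hS : (S : Subgroup G) ≤ stabGroup (ZQ p G) := by
    intro s hs v hv
    have h1 := hle' (hquad v hv s hs)
    have e : ⁅s, v⁆ = (⁅v, s⁆)⁻¹ := (commutatorElement_inv v s).symm
    rw [e]
    exact Subgroup.inv_mem _ h1
  have hT : cj g (S : Subgroup G) ≤ stabGroup (ZQ p G) := by
    rintro _ ⟨s, hs, rfl⟩ v hv
    simp only [MulEquiv.coe_toMonoidHom, MulAut.conj_apply]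
    have hv' : g⁻¹ * v * g ∈ ZQ p G := by
      have := (ZQ_normal (p := p) (G := G)).conj_mem v hv g⁻¹
      rwa [inv_inv] at this
    have h1 := hS hs _ hv'
    have e : ⁅g * s * g⁻¹, v⁆ = g * ⁅s, g⁻¹ * v * g⁆ * g⁻¹ := by
      simp only [commutatorElement_def]; group
    rw [e, cv_top_comm h1 g, mul_inv_cancel_right]
    exact h1
  have htop : stabGroup (ZQ p G) = ⊤ := by
    rw [eq_top_iff, ← sup_cj_eq_top h hg]
    exact sup_le hS hT
  obtain ⟨k, hk⟩ := IsPGroup.iff_card.mp ((pCore_isPGroup p G).to_le (inf_le_left : ZQ p G ≤ _))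
  have hsup := sylow_sup_eq_top_of_pow_mem S (Subgroup.centralizer ((ZQ p G : Subgroup G) : Set G)) k
    (by
      intro x
      rw [← hk]
      exact pow_mem_centralizer_of_stab ZQ_comm (by rw [htop]; exact Subgroup.mem_top x))
  apply M_ne_top h
  rw [eq_top_iff, ← hsup]
  exact sup_le h.hM.2 (centralizer_ZQ_le_M h hZ)

/-- for `z ∈ C_V(gSg⁻¹) ∖ C_V(G)`: `C_S(z) = O_p(G)` -/
theorem mem_pCore_of_commute {g : G} (hg : g ∉ M) {z : G}
    (hz : z ∈ cv (ZQ p G) (cj g (S : Subgroup G))) (hz' : z ∉ cv (ZQ p G) ⊤)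
    {s : G} (hs : s ∈ (S : Subgroup G)) (hc : s * z = z * s) : s ∈ Cfsg.pCore p G := by
  by_contra hsQ
  apply hz'
  have h1 : cj g (S : Subgroup G) ≤ Subgroup.centralizer ({z} : Set G) := by
    intro t ht
    rw [Subgroup.mem_centralizer_iff]
    intro y hy
    rw [Set.mem_singleton_iff] at hy
    rw [hy]
    exact (Subgroup.mem_centralizer_iff.mp hz.2 t ht).symm
  have h2 : s ∈ Subgroup.centralizer ({z} : Set G) := by
    rw [Subgroup.mem_centralizer_iff]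
    intro y hy
    rw [Set.mem_singleton_iff] at hy
    rw [hy]; exact hc.symm
  have h3 := eq_top_of_cj_le_of_mem h hg h1 hs hsQ h2
  refine ⟨hz.1, ?_⟩
  show z ∈ Subgroup.centralizer _
  rw [Subgroup.mem_centralizer_iff]
  intro x _
  have : x ∈ Subgroup.centralizer ({z} : Set G) := by rw [h3]; exact Subgroup.mem_top x
  exact (Subgroup.mem_centralizer_iff.mp this z rfl).symm

/-- for `z ∈ C_V(gSg⁻¹) ∖ C_V(G)`: `[z, s] ∈ C_V(G)` only for `s ∈ O_p(G)` -/
theorem mem_pCore_of_comm_mem {g : G} (hg : g ∉ M) {z : G}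
    (hz : z ∈ cv (ZQ p G) (cj g (S : Subgroup G))) (hz' : z ∉ cv (ZQ p G) ⊤)
    {s : G} (hs : s ∈ (S : Subgroup G)) (hc : ⁅z, s⁆ ∈ cv (ZQ p G) ⊤) : s ∈ Cfsg.pCore p G := by
  by_contra hsQ
  apply hz'
  have h1 : cj g (S : Subgroup G) ≤ Subgroup.centralizer ({z} : Set G) := by
    intro t ht
    rw [Subgroup.mem_centralizer_iff]
    intro y hy
    rw [Set.mem_singleton_iff] at hy
    rw [hy]
    exact (Subgroup.mem_centralizer_iff.mp hz.2 t ht).symm
  have h2 : cj s (cj g (S : Subgroup G)) ≤ Subgroup.centralizer ({z} : Set G) := by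
    rintro _ ⟨t, ht, rfl⟩
    simp only [MulEquiv.coe_toMonoidHom, MulAut.conj_apply]
    rw [Subgroup.mem_centralizer_iff]
    intro y hy
    rw [Set.mem_singleton_iff] at hy
    rw [hy]
    have htz : z * t = t * z := (Subgroup.mem_centralizer_iff.mp hz.2 t ht).symm
    -- `s⁻¹ z s = c z` with `c` central
    have e1 : s⁻¹ * z * s = s⁻¹ * ⁅z, s⁆ * s * z := by
      simp only [commutatorElement_def]; group
    have e2 : s⁻¹ * z * s = ⁅z, s⁆ * z := by
      rw [e1, cv_top_comm hc s⁻¹, inv_mul_cancel_right]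
    have e3 : (s⁻¹ * z * s) * t = t * (s⁻¹ * z * s) := by
      rw [e2, mul_assoc, htz, ← mul_assoc, ← mul_assoc, cv_top_comm hc t]
    calc z * (s * t * s⁻¹) = s * ((s⁻¹ * z * s) * t) * s⁻¹ := by group
      _ = s * (t * (s⁻¹ * z * s)) * s⁻¹ := by rw [e3]
      _ = s * t * s⁻¹ * z := by group
  have h3 := eq_top_of_cj_le_of_cj_cj_le h hg hs hsQ h1 h2
  refine ⟨hz.1, ?_⟩
  show z ∈ Subgroup.centralizer _
  rw [Subgroup.mem_centralizer_iff]
  intro x _
  have : x ∈ Subgroup.centralizer ({z} : Set G) := by rw [h3]; exact Subgroup.mem_top x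
  exact (Subgroup.mem_centralizer_iff.mp this z rfl).symm


/-- (E1) -/
theorem ineqE1 {A : Subgroup G} (hA : A ∈ famA (S : Subgroup G)) (hAQ : ¬ A ≤ Cfsg.pCore p G) :
    Nat.card (Cfsg.pCore p G) * Nat.card (ZQ p G) ≤
      Nat.card (S : Subgroup G) * Nat.card ↥(cv (ZQ p G) (S : Subgroup G)) := by
  have := S_best h hA hAQ _ (pCore_le_sylow S)
  rw [mm_pCore_eq] at this
  exact this

/-- (E2) -/
theorem ineqE2 {g : G} (hg : g ∉ M) :
    Nat.card ↥(cv (ZQ p G) (S : Subgroup G)) * Nat.card ↥(cv (ZQ p G) (S : Subgroup G)) ≤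
      Nat.card ↥(cv (ZQ p G) ⊤) *
        Nat.card ↥(cv (ZQ p G) (S : Subgroup G) ⊔ cv (ZQ p G) (cj g (S : Subgroup G))) := by
  have h1 := card_mul_card_le (cv (ZQ p G) (S : Subgroup G)) (cv (ZQ p G) (cj g (S : Subgroup G)))
  rw [← cv_sup, sup_cj_eq_top h hg] at h1
  have h2 : Nat.card ↥(cv (ZQ p G) (cj g (S : Subgroup G))) =
      Nat.card ↥(cv (ZQ p G) (S : Subgroup G)) := by rw [cv_cj, card_cj]
  rw [h2] at h1
  exact h1

theorem cv_sup_cv_le (g : G) :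
    cv (ZQ p G) (S : Subgroup G) ⊔ cv (ZQ p G) (cj g (S : Subgroup G)) ≤ ZQ p G :=
  sup_le inf_le_left inf_le_left

/-- (E3) -/
theorem ineqE3 {A : Subgroup G} (hA : A ∈ famA (S : Subgroup G)) (hAQ : ¬ A ≤ Cfsg.pCore p G)
    (hZ : Subgroup.centralizer ((((S : Subgroup G) ⊓
      Subgroup.centralizer ((S : Subgroup G) : Set G) : Subgroup G)) : Set G) ≠ ⊤)
    {g : G} (hg : g ∉ M) :
    Nat.card (S : Subgroup G) * Nat.card ↥(cv (ZQ p G) ⊤) ≤
      Nat.card (Cfsg.pCore p G) * Nat.card ↥(cv (ZQ p G) (S : Subgroup G)) := by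
  have hquad := quadratic h hA hAQ
  have hnle := cv_cj_not_le h hA hAQ hZ hg
  obtain ⟨z, hz, hz'⟩ := SetLike.not_le_iff_exists.mp hnle
  have hzV : z ∈ ZQ p G := hz.1
  -- the homomorphism `s ↦ [z, s]`
  let ψ : ↥(S : Subgroup G) →* G := MonoidHom.mk' (fun s => ⁅z, (s : G)⁆) (by
    intro a b
    have h1 := hquad z hzV b b.2
    have h2 : (a : G) * ⁅z, (b : G)⁆ = ⁅z, (b : G)⁆ * a :=
      (Subgroup.mem_centralizer_iff.mp h1.2 a a.2)
    have e : ⁅z, ((a * b : ↥(S : Subgroup G)) : G)⁆ = ⁅z, (a : G)⁆ * ((a : G) * ⁅z, (b : G)⁆) * (a : G)⁻¹ := by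
      simp only [commutatorElement_def, Subgroup.coe_mul]; group
    show ⁅z, ((a * b : ↥(S : Subgroup G)) : G)⁆ = ⁅z, (a : G)⁆ * ⁅z, (b : G)⁆
    rw [e, h2, mul_assoc, mul_assoc, mul_inv_cancel, mul_one])
  have hψ : ∀ s : ↥(S : Subgroup G), ψ s = ⁅z, (s : G)⁆ := fun s => rfl
  have hker : ψ.ker = (Cfsg.pCore p G).subgroupOf (S : Subgroup G) := by
    ext s
    rw [MonoidHom.mem_ker, hψ, Subgroup.mem_subgroupOf]
    constructor
    · intro h1
      apply mem_pCore_of_commute h hg hz hz' s.2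
      rw [commutatorElement_eq_one_iff_mul_comm] at h1
      exact h1.symm
    · intro h1
      rw [commutatorElement_eq_one_iff_mul_comm]
      exact (Subgroup.mem_centralizer_iff.mp (pCore_le_centralizer_ZQ h1) z hzV)
  have hrange : ψ.range ≤ cv (ZQ p G) (S : Subgroup G) := by
    rintro _ ⟨s, rfl⟩
    exact hquad z hzV s s.2
  have hdisj : ψ.range ⊓ cv (ZQ p G) ⊤ = ⊥ := by
    rw [eq_bot_iff]
    rintro x ⟨⟨s, rfl⟩, hx2⟩
    rw [Subgroup.mem_bot, hψ]
    rw [SetLike.mem_coe, hψ] at hx2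
    have hsQ := mem_pCore_of_comm_mem h hg hz hz' s.2 hx2
    rw [commutatorElement_eq_one_iff_mul_comm]
    exact (Subgroup.mem_centralizer_iff.mp (pCore_le_centralizer_ZQ hsQ) z hzV)
  have hcard1 : Nat.card ψ.ker * Nat.card ψ.range = Nat.card (S : Subgroup G) := by
    rw [← Subgroup.index_ker]
    exact Subgroup.card_mul_index ψ.ker
  have hcard2 : Nat.card ψ.ker = Nat.card (Cfsg.pCore p G) := by
    rw [hker]
    exact card_subgroupOf_of_le (pCore_le_sylow S)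
  have hcard3 := card_mul_card_le ψ.range (cv (ZQ p G) ⊤)
  rw [hdisj, Subgroup.card_bot, one_mul] at hcard3
  have hcard4 : Nat.card ↥(ψ.range ⊔ cv (ZQ p G) ⊤) ≤ Nat.card ↥(cv (ZQ p G) (S : Subgroup G)) :=
    Subgroup.card_le_of_le (sup_le hrange (cv_top_le _ _))
  rw [← hcard1, hcard2, mul_assoc]
  exact Nat.mul_le_mul_left _ (hcard3.trans hcard4)

/-- the order equalities -/
theorem order_eqs {A : Subgroup G} (hA : A ∈ famA (S : Subgroup G)) (hAQ : ¬ A ≤ Cfsg.pCore p G)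
    (hZ : Subgroup.centralizer ((((S : Subgroup G) ⊓
      Subgroup.centralizer ((S : Subgroup G) : Set G) : Subgroup G)) : Set G) ≠ ⊤)
    {g : G} (hg : g ∉ M) :
    Nat.card (S : Subgroup G) * Nat.card ↥(cv (ZQ p G) (S : Subgroup G)) =
        Nat.card (Cfsg.pCore p G) * Nat.card (ZQ p G) ∧
      Nat.card ↥(cv (ZQ p G) (S : Subgroup G) ⊔ cv (ZQ p G) (cj g (S : Subgroup G))) =
        Nat.card (ZQ p G) := by
  have h1 := ineqE1 h hA hAQ
  have h2 := ineqE2 h hg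
  have h3 := ineqE3 h hA hAQ hZ hg
  have h4 : Nat.card ↥(cv (ZQ p G) (S : Subgroup G) ⊔ cv (ZQ p G) (cj g (S : Subgroup G))) ≤
      Nat.card (ZQ p G) := Subgroup.card_le_of_le (cv_sup_cv_le h g)
  set k := Nat.card (Cfsg.pCore p G) with hk
  set s := Nat.card (S : Subgroup G) with hs
  set nV := Nat.card (ZQ p G) with hnV
  set cS := Nat.card ↥(cv (ZQ p G) (S : Subgroup G)) with hcS
  set cG := Nat.card ↥(cv (ZQ p G) ⊤) with hcG
  set u := Nat.card ↥(cv (ZQ p G) (S : Subgroup G) ⊔ cv (ZQ p G) (cj g (S : Subgroup G))) with hu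
  have hkpos : 0 < k := Nat.card_pos
  have hspos : 0 < s := Nat.card_pos
  have hcSpos : 0 < cS := Nat.card_pos
  have hcGpos : 0 < cG := Nat.card_pos
  -- multiply: `k nV s cG ≤ s cS k cS ≤ s k cG u`
  have h5 : k * nV * (s * cG) ≤ s * cS * (k * cS) := Nat.mul_le_mul h1 h3
  have h6 : s * k * (cS * cS) ≤ s * k * (cG * u) := Nat.mul_le_mul_left _ h2
  have h7 : (s * k * cG) * nV ≤ (s * k * cG) * u := by nlinarith
  have h8 : nV ≤ u := Nat.le_of_mul_le_mul_left h7 (by positivity)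
  have hu_eq : u = nV := le_antisymm h4 h8
  refine ⟨?_, hu_eq⟩
  apply le_antisymm _ h1
  -- `s cS ≤ k nV`
  rw [hu_eq] at h2
  -- `cS * cS ≤ cG * nV`, `s cG ≤ k cS`: `s cS cS ≤ s cG nV ≤ k cS nV`
  have h9 : s * (cS * cS) ≤ s * (cG * nV) := Nat.mul_le_mul_left _ h2
  have h10 : (s * cG) * nV ≤ (k * cS) * nV := Nat.mul_le_mul_right _ h3
  have h11 : cS * (s * cS) ≤ cS * (k * nV) := by nlinarith
  exact Nat.le_of_mul_le_mul_left h11 hcSpos


/-- `V = C_V(S) C_V(gSg⁻¹)` -/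
theorem cv_sup_cv_eq {A : Subgroup G} (hA : A ∈ famA (S : Subgroup G)) (hAQ : ¬ A ≤ Cfsg.pCore p G)
    (hZ : Subgroup.centralizer ((((S : Subgroup G) ⊓
      Subgroup.centralizer ((S : Subgroup G) : Set G) : Subgroup G)) : Set G) ≠ ⊤)
    {g : G} (hg : g ∉ M) :
    cv (ZQ p G) (S : Subgroup G) ⊔ cv (ZQ p G) (cj g (S : Subgroup G)) = ZQ p G :=
  Subgroup.eq_of_le_of_card_ge (cv_sup_cv_le h g) (order_eqs h hA hAQ hZ hg).2.ge

theorem mm_S_eq_mm_pCore {A : Subgroup G} (hA : A ∈ famA (S : Subgroup G)) (hAQ : ¬ A ≤ Cfsg.pCore p G)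
    (hZ : Subgroup.centralizer ((((S : Subgroup G) ⊓
      Subgroup.centralizer ((S : Subgroup G) : Set G) : Subgroup G)) : Set G) ≠ ⊤) :
    mm (ZQ p G) (S : Subgroup G) = mm (ZQ p G) (Cfsg.pCore p G) := by
  obtain ⟨g, hg⟩ := exists_not_mem_M h
  rw [mm_pCore_eq]
  exact (order_eqs h hA hAQ hZ hg).1

/-- (C6) an element of `S ∖ O_p(G)` has the same fixed points on `V` as `S` -/
theorem mem_cv_of_commute {A : Subgroup G} (hA : A ∈ famA (S : Subgroup G)) (hAQ : ¬ A ≤ Cfsg.pCore p G)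
    (hZ : Subgroup.centralizer ((((S : Subgroup G) ⊓
      Subgroup.centralizer ((S : Subgroup G) : Set G) : Subgroup G)) : Set G) ≠ ⊤)
    {s : G} (hs : s ∈ (S : Subgroup G)) (hsQ : s ∉ Cfsg.pCore p G) {v : G} (hv : v ∈ ZQ p G)
    (hc : s * v = v * s) : v ∈ cv (ZQ p G) (S : Subgroup G) := by
  obtain ⟨g, hg⟩ := exists_not_mem_M h
  have hv' : v ∈ ((cv (ZQ p G) (S : Subgroup G) ⊔ cv (ZQ p G) (cj g (S : Subgroup G)) : Subgroup G) : Set G) := by
    rw [cv_sup_cv_eq h hA hAQ hZ hg]; exact hv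
  rw [Subgroup.coe_mul_of_left_le_normalizer_right] at hv'
  · obtain ⟨c, hc1, z, hz, rfl⟩ := hv'
    have hsc : s * c = c * s := (Subgroup.mem_centralizer_iff.mp hc1.2 s hs)
    have hsz : s * z = z * s := by
      have e1 : s * z = c⁻¹ * (s * (c * z)) := by
        rw [← mul_assoc s c z, hsc]; group
      rw [e1, hc]; group
    by_cases hz' : z ∈ cv (ZQ p G) ⊤
    · exact Subgroup.mul_mem _ hc1 (cv_top_le _ _ hz')
    · exact absurd (mem_pCore_of_commute h hg hz hz' hs hsz) hsQ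
  · intro w hw
    apply Subgroup.centralizer_le_normalizer
    rw [Subgroup.mem_centralizer_iff]
    intro c hc
    exact ZQ_comm c hc.1 w hw.1

theorem cv_eq_of_not_le {A : Subgroup G} (hA : A ∈ famA (S : Subgroup G)) (hAQ : ¬ A ≤ Cfsg.pCore p G)
    (hZ : Subgroup.centralizer ((((S : Subgroup G) ⊓
      Subgroup.centralizer ((S : Subgroup G) : Set G) : Subgroup G)) : Set G) ≠ ⊤)
    {X : Subgroup G} (hXS : X ≤ (S : Subgroup G)) (hXQ : ¬ X ≤ Cfsg.pCore p G) :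
    cv (ZQ p G) X = cv (ZQ p G) (S : Subgroup G) := by
  apply le_antisymm _ (cv_anti _ hXS)
  obtain ⟨x, hx, hxQ⟩ := SetLike.not_le_iff_exists.mp hXQ
  intro v hv
  exact mem_cv_of_commute h hA hAQ hZ (hXS hx) hxQ hv.1 (Subgroup.mem_centralizer_iff.mp hv.2 x hx)

theorem eq_S_of_mm_eq {A : Subgroup G} (hA : A ∈ famA (S : Subgroup G)) (hAQ : ¬ A ≤ Cfsg.pCore p G)
    (hZ : Subgroup.centralizer ((((S : Subgroup G) ⊓
      Subgroup.centralizer ((S : Subgroup G) : Set G) : Subgroup G)) : Set G) ≠ ⊤)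
    {X : Subgroup G} (hXS : X ≤ (S : Subgroup G)) (hXQ : ¬ X ≤ Cfsg.pCore p G)
    (hmm : mm (ZQ p G) (S : Subgroup G) ≤ mm (ZQ p G) X) : X = S := by
  unfold mm at hmm
  rw [cv_eq_of_not_le h hA hAQ hZ hXS hXQ] at hmm
  have := Nat.le_of_mul_le_mul_right hmm Nat.card_pos
  exact Subgroup.eq_of_le_of_card_ge hXS this

/-- `S = A O_p(G)` -/
theorem sup_pCore_eq_S {A : Subgroup G} (hA : A ∈ famA (S : Subgroup G)) (hAQ : ¬ A ≤ Cfsg.pCore p G)
    (hZ : Subgroup.centralizer ((((S : Subgroup G) ⊓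
      Subgroup.centralizer ((S : Subgroup G) : Set G) : Subgroup G)) : Set G) ≠ ⊤) :
    A ⊔ Cfsg.pCore p G = S := by
  apply eq_S_of_mm_eq h hA hAQ hZ (sup_le (mem_fam.mp hA).1 (pCore_le_sylow S))
  · intro hc
    exact hAQ (le_sup_left.trans hc)
  · rw [mm_S_eq_mm_pCore h hA hAQ hZ]
    exact mm_pCore_le_of_famA S hA

theorem cv_A_eq {A : Subgroup G} (hA : A ∈ famA (S : Subgroup G)) (hAQ : ¬ A ≤ Cfsg.pCore p G)
    (hZ : Subgroup.centralizer ((((S : Subgroup G) ⊓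
      Subgroup.centralizer ((S : Subgroup G) : Set G) : Subgroup G)) : Set G) ≠ ⊤) :
    cv (ZQ p G) A = cv (ZQ p G) (S : Subgroup G) :=
  cv_eq_of_not_le h hA hAQ hZ (mem_fam.mp hA).1 hAQ

/-- `V(A ∩ O_p(G))` is again of largest order -/
theorem card_ZQ_sup_eq_card {A : Subgroup G} (hA : A ∈ famA (S : Subgroup G))
    (hAQ : ¬ A ≤ Cfsg.pCore p G)
    (hZ : Subgroup.centralizer ((((S : Subgroup G) ⊓
      Subgroup.centralizer ((S : Subgroup G) : Set G) : Subgroup G)) : Set G) ≠ ⊤) :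
    Nat.card ↥(ZQ p G ⊔ (A ⊓ Cfsg.pCore p G)) = Nat.card A := by
  apply card_ZQ_sup_eq S hA
  rw [← mm_S_eq_mm_pCore h hA hAQ hZ]
  exact S_best h hA hAQ _ (sup_le (mem_fam.mp hA).1 (pCore_le_sylow S))

end facts

end Cfsg.Agent.Lib.Helper7.PU
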