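import Mathlib
import Cfsg.Agent.Lib.Helper7.PUd

/-!
# Rank-one pushing up: the subgroup `Y = Z(J(O_p(G)))`
-/

set_option autoImplicit false
set_option linter.unusedSectionVars false
set_option linter.unusedVariables false
set_option linter.style.haveILetI false

namespace Cfsg.Agent.Lib.Helper7.PU

open Cfsg Cfsg.Agent.Lib.Helper7 Cfsg.Agent.Lib.Helper7.PowZ Cfsg.Agent.Lib.Lead.Replacement
open Cfsg.Agent.Lib.Helper7.ThA Cfsg.Agent.Lib.Helper4.ZJ Cfsg.Agent.Lib.Helper7.TF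
open scoped commutatorElement Pointwise

variable {G : Type*} [Group G] [Finite G] {p : ℕ} [Fact p.Prime]
variable {Y : Type*} [Group Y]

/-- an element of `S` centralizing an abelian subgroup of largest order lies in it -/
theorem mem_of_mem_famA_of_commute {S A : Subgroup G} (hA : A ∈ famA S) {z : G} (hzS : z ∈ S)
    (hzc : ∀ a ∈ A, z * a = a * z) : z ∈ A := by
  obtain ⟨hAS, hAab, hmax⟩ := mem_fam.mp hA
  have hab := isMulCommutative_sup_zpowers hAab hzc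
  have hle : A ⊔ Subgroup.zpowers z ≤ S :=
    sup_le hAS (by rw [Subgroup.zpowers_le]; exact hzS)
  have hcard := hmax _ hle hab
  have heq : A = A ⊔ Subgroup.zpowers z :=
    Subgroup.eq_of_le_of_card_ge le_sup_left hcard
  rw [heq]
  exact le_sup_right (a := A) (Subgroup.mem_zpowers z)

/-- `Z(J(S)) ≤ A` for every abelian subgroup of largest order -/
theorem ZJ_le_of_mem_famA {S A : Subgroup G} (hA : A ∈ famA S) :
    Cfsg.centerThompsonAOf S ≤ A := by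
  intro b hb
  apply mem_of_mem_famA_of_commute hA (JA_le S hb.1)
  intro a ha
  exact (Subgroup.mem_centralizer_iff.mp hb.2 a (le_JA hA ha)).symm

theorem JA_normal (D : Subgroup G) [hD : D.Normal] : (Cfsg.thompsonSubgroupAOf D).Normal := by
  refine ⟨fun x hx g => ?_⟩
  have h1 : g * x * g⁻¹ ∈ cj g (Cfsg.thompsonSubgroupAOf D) := by
    rw [mem_cj]
    have e : g⁻¹ * (g * x * g⁻¹) * g = x := by group
    rw [e]; exact hx
  have h2 := JA_map_conj D g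
  have h3 : cj g D = D := cj_normal g
  change Cfsg.thompsonSubgroupAOf (cj g D) = cj g (Cfsg.thompsonSubgroupAOf D) at h2
  rw [h3] at h2
  rw [← h2] at h1
  exact h1

theorem ZJ_normal (D : Subgroup G) [hD : D.Normal] : (Cfsg.centerThompsonAOf D).Normal := by
  haveI := JA_normal D
  unfold Cfsg.centerThompsonAOf
  infer_instance

theorem ZJ_comm (D : Subgroup G) : ∀ x ∈ Cfsg.centerThompsonAOf D, ∀ y ∈ Cfsg.centerThompsonAOf D,
    x * y = y * x := by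
  intro x hx y hy
  exact (Subgroup.mem_centralizer_iff.mp hy.2 x hx.1)

/-- `Y = Z(J(O_p(G)))` -/
abbrev YY (p : ℕ) (G : Type*) [Group G] : Subgroup G := Cfsg.centerThompsonAOf (Cfsg.pCore p G)

instance YY_normal : (YY p G).Normal := by
  haveI := pCore_normal p G
  exact ZJ_normal _

section facts

variable {S : Sylow p G} {M : Subgroup G} {φ : G →* Y} (h : PUHyp p S M φ)
include h

section A
variable {A : Subgroup G} (hA : A ∈ famA (S : Subgroup G)) (hAQ : ¬ A ≤ Cfsg.pCore p G)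
    (hZ : Subgroup.centralizer ((((S : Subgroup G) ⊓
      Subgroup.centralizer ((S : Subgroup G) : Set G) : Subgroup G)) : Set G) ≠ ⊤)
include hA hAQ hZ

/-- `V(A ∩ Q)` is an abelian subgroup of `S` of largest order -/
theorem ZQ_sup_mem_famA : ZQ p G ⊔ (A ⊓ Cfsg.pCore p G) ∈ famA (S : Subgroup G) := by
  obtain ⟨hAS, hAc, hAmax⟩ := mem_fam.mp hA
  refine mem_fam.mpr ⟨sup_le (ZQ_le_sylow S) (inf_le_left.trans hAS), isMulCommutative_ZQ_sup hAc, ?_⟩
  intro B hB hBc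
  rw [card_ZQ_sup_eq_card h hA hAQ hZ]
  exact hAmax B hB hBc

theorem ZQ_sup_le_pCore : ZQ p G ⊔ (A ⊓ Cfsg.pCore p G) ≤ Cfsg.pCore p G :=
  sup_le inf_le_left inf_le_right

theorem ZQ_sup_mem_famA_pCore : ZQ p G ⊔ (A ⊓ Cfsg.pCore p G) ∈ famA (Cfsg.pCore p G) :=
  famA_of_le (pCore_le_sylow S) (ZQ_sup_mem_famA h hA hAQ hZ) (ZQ_sup_le_pCore h hA hAQ hZ)

/-- `𝒜(Q) ⊆ 𝒜(S)` -/
theorem famA_pCore_subset {A₂ : Subgroup G} (hA₂ : A₂ ∈ famA (Cfsg.pCore p G)) :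
    A₂ ∈ famA (S : Subgroup G) := by
  obtain ⟨hA₂Q, hA₂c, hA₂max⟩ := mem_fam.mp hA₂
  obtain ⟨hAS, hAc, hAmax⟩ := mem_fam.mp (ZQ_sup_mem_famA h hA hAQ hZ)
  refine mem_fam.mpr ⟨hA₂Q.trans (pCore_le_sylow S), hA₂c, ?_⟩
  intro B hB hBc
  exact (hAmax B hB hBc).trans (hA₂max _ (ZQ_sup_le_pCore h hA hAQ hZ) hAc)

theorem JA_pCore_le : Cfsg.thompsonSubgroupAOf (Cfsg.pCore p G) ≤
    Cfsg.thompsonSubgroupAOf (S : Subgroup G) :=
  JA_le_of (fun A₂ hA₂ => le_JA (famA_pCore_subset h hA hAQ hZ hA₂))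

/-- `Z(J(S)) ≤ Z(J(O_p(G)))` -/
theorem ZJ_le_YY : Cfsg.centerThompsonAOf (S : Subgroup G) ≤ YY p G := by
  intro b hb
  refine ⟨?_, ?_⟩
  · exact le_JA (ZQ_sup_mem_famA_pCore h hA hAQ hZ)
      (ZJ_le_of_mem_famA (ZQ_sup_mem_famA h hA hAQ hZ) hb)
  · exact Subgroup.centralizer_le (JA_pCore_le h hA hAQ hZ) hb.2

theorem ZQ_le_YY : ZQ p G ≤ YY p G := by
  intro v hv
  refine ⟨le_JA (ZQ_sup_mem_famA_pCore h hA hAQ hZ) (Subgroup.mem_sup_left hv), ?_⟩
  exact Subgroup.centralizer_le (JA_le _) hv.2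

theorem inf_pCore_le_centralizer_YY :
    A ⊓ Cfsg.pCore p G ≤ Subgroup.centralizer ((YY p G : Subgroup G) : Set G) := by
  intro x hx
  have h1 : x ∈ Cfsg.thompsonSubgroupAOf (Cfsg.pCore p G) :=
    le_JA (ZQ_sup_mem_famA_pCore h hA hAQ hZ) (Subgroup.mem_sup_right hx)
  rw [Subgroup.mem_centralizer_iff]
  intro y hy
  exact (Subgroup.mem_centralizer_iff.mp hy.2 x h1).symm

theorem YY_le_pCore : YY p G ≤ Cfsg.pCore p G := inf_le_left.trans (JA_le _)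

/-- `|Y| |Q| ≤ |C_Y(A)| |S|` -/
theorem card_YY_le :
    Nat.card (YY p G) * Nat.card (Cfsg.pCore p G) ≤
      Nat.card ↥(cv (YY p G) A) * Nat.card (S : Subgroup G) := by
  obtain ⟨hAS, hAc, hAmax⟩ := mem_fam.mp hA
  have hcomm : IsMulCommutative ↥(YY p G ⊔ (A ⊓ Cfsg.pCore p G)) := by
    apply isMulCommutative_sup'
    · intro x hx
      rw [Subgroup.mem_centralizer_iff]
      intro y hy
      exact ZJ_comm _ y hy x hx
    · exact inf_le_left.trans ((le_centralizer_of_isMulCommutative hAc).trans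
        (Subgroup.centralizer_le inf_le_left))
    · exact Subgroup.le_centralizer_iff.mp (inf_pCore_le_centralizer_YY h hA hAQ hZ)
  have h1 : Nat.card ↥(YY p G ⊔ (A ⊓ Cfsg.pCore p G)) ≤ Nat.card A :=
    hAmax _ (sup_le ((YY_le_pCore h hA hAQ hZ).trans (pCore_le_sylow S)) (inf_le_left.trans hAS)) hcomm
  have h2 := card_mul_card_le (YY p G) (A ⊓ Cfsg.pCore p G)
  have h3 : YY p G ⊓ (A ⊓ Cfsg.pCore p G) ≤ cv (YY p G) A := by
    intro v hv
    exact ⟨hv.1, le_centralizer_of_isMulCommutative hAc hv.2.1⟩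
  have h3' := Subgroup.card_le_of_le h3
  have h4 := card_mul_card_le A (Cfsg.pCore p G)
  rw [sup_pCore_eq_S h hA hAQ hZ] at h4
  have hpos : 0 < Nat.card A * Nat.card ↥(A ⊓ Cfsg.pCore p G) := Nat.mul_pos Nat.card_pos Nat.card_pos
  apply Nat.le_of_mul_le_mul_right _ hpos
  calc Nat.card (YY p G) * Nat.card (Cfsg.pCore p G) * (Nat.card A * Nat.card ↥(A ⊓ Cfsg.pCore p G))
      = (Nat.card (YY p G) * Nat.card ↥(A ⊓ Cfsg.pCore p G)) *
          (Nat.card A * Nat.card (Cfsg.pCore p G)) := by ring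
    _ ≤ (Nat.card ↥(YY p G ⊓ (A ⊓ Cfsg.pCore p G)) * Nat.card ↥(YY p G ⊔ (A ⊓ Cfsg.pCore p G))) *
          (Nat.card ↥(A ⊓ Cfsg.pCore p G) * Nat.card (S : Subgroup G)) := Nat.mul_le_mul h2 h4
    _ ≤ (Nat.card ↥(cv (YY p G) A) * Nat.card A) *
          (Nat.card ↥(A ⊓ Cfsg.pCore p G) * Nat.card (S : Subgroup G)) :=
        Nat.mul_le_mul_right _ (Nat.mul_le_mul h3' h1)
    _ = _ := by ring

theorem cv_YY_inf_ZQ : ZQ p G ⊓ cv (YY p G) A = cv (ZQ p G) (S : Subgroup G) := by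
  rw [← cv_A_eq h hA hAQ hZ]
  ext x
  unfold cv
  simp only [Subgroup.mem_inf]
  constructor
  · rintro ⟨h1, _, h3⟩
    exact ⟨h1, h3⟩
  · rintro ⟨h1, h3⟩
    exact ⟨h1, ZQ_le_YY h hA hAQ hZ h1, h3⟩

/-- `Y = V C_Y(A)` -/
theorem YY_eq_sup : ZQ p G ⊔ cv (YY p G) A = YY p G := by
  apply Subgroup.eq_of_le_of_card_ge (sup_le (ZQ_le_YY h hA hAQ hZ) inf_le_left)
  obtain ⟨g, hg⟩ := exists_not_mem_M h
  have h1 := (order_eqs h hA hAQ hZ hg).1
  have h2 := card_YY_le h hA hAQ hZ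
  have h3 := card_mul_card_le (ZQ p G) (cv (YY p G) A)
  rw [cv_YY_inf_ZQ h hA hAQ hZ] at h3
  set k := Nat.card (Cfsg.pCore p G) with hk
  set s := Nat.card (S : Subgroup G) with hs
  set nV := Nat.card (ZQ p G) with hnV
  set cS := Nat.card ↥(cv (ZQ p G) (S : Subgroup G)) with hcS
  set y := Nat.card (YY p G) with hy
  set cY := Nat.card ↥(cv (YY p G) A) with hcY
  set u := Nat.card ↥(ZQ p G ⊔ cv (YY p G) A) with hu
  have hkpos : 0 < k := Nat.card_pos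
  have hnVpos : 0 < nV := Nat.card_pos
  have hcSpos : 0 < cS := Nat.card_pos
  -- y k nV cS ≤ cY s nV cS = cY nV (k nV) ≤ cS u k nV
  have h4 : (k * nV * cS) * y ≤ (k * nV * cS) * u := by
    calc (k * nV * cS) * y = (y * k) * (nV * cS) := by ring
      _ ≤ (cY * s) * (nV * cS) := Nat.mul_le_mul_right _ h2
      _ = (nV * cY) * (s * cS) := by ring
      _ = (nV * cY) * (k * nV) := by rw [h1]
      _ ≤ (cS * u) * (k * nV) := Nat.mul_le_mul_right _ h3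
      _ = _ := by ring
  exact Nat.le_of_mul_le_mul_left h4 (by positivity)


/-- `Y = V C_Y(gAg⁻¹)` -/
theorem YY_eq_sup_cj (g : G) : ZQ p G ⊔ cv (YY p G) (cj g A) = YY p G := by
  have h1 := congrArg (cj g) (YY_eq_sup h hA hAQ hZ)
  rw [cj, Subgroup.map_sup] at h1
  change cj g (ZQ p G) ⊔ cj g (cv (YY p G) A) = cj g (YY p G) at h1
  rw [← cv_cj, cj_normal (N := ZQ p G) g, cj_normal (N := YY p G) g] at h1
  exact h1

theorem ZJ_le_cv : Cfsg.centerThompsonAOf (S : Subgroup G) ≤ cv (YY p G) A := by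
  intro b hb
  refine ⟨ZJ_le_YY h hA hAQ hZ hb, ?_⟩
  have hbA : b ∈ A := ZJ_le_of_mem_famA hA hb
  exact le_centralizer_of_isMulCommutative (mem_fam.mp hA).2.1 hbA

theorem cv_ZQ_le_cv_YY (X : Subgroup G) : cv (ZQ p G) X ≤ cv (YY p G) X := by
  intro v hv
  exact ⟨ZQ_le_YY h hA hAQ hZ hv.1, hv.2⟩

/-- every element of `C_Y(A)` is `v y` with `v ∈ C_V(S)` and `y ∈ C_Y(A) ∩ C_Y(gAg⁻¹)` -/
theorem exists_decomp {g : G} (hg : g ∉ M) {b : G} (hb : b ∈ cv (YY p G) A) :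
    ∃ v ∈ cv (ZQ p G) (S : Subgroup G), ∃ y ∈ cv (YY p G) A ⊓ cv (YY p G) (cj g A), b = v * y := by
  have hAS : A ≤ (S : Subgroup G) := (mem_fam.mp hA).1
  have hb' : b ∈ ((ZQ p G ⊔ cv (YY p G) (cj g A) : Subgroup G) : Set G) := by
    rw [YY_eq_sup_cj h hA hAQ hZ g]; exact hb.1
  rw [Subgroup.coe_mul_of_left_le_normalizer_right] at hb'
  · obtain ⟨w, hw, y₁, hy₁, rfl⟩ := hb'
    have hw' : w ∈ ((cv (ZQ p G) (S : Subgroup G) ⊔ cv (ZQ p G) (cj g (S : Subgroup G)) : Subgroup G) : Set G) := by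
      rw [cv_sup_cv_eq h hA hAQ hZ hg]; exact hw
    rw [Subgroup.coe_mul_of_left_le_normalizer_right] at hw'
    · obtain ⟨c, hc, z, hz, rfl⟩ := hw'
      have hz' : z ∈ cv (YY p G) (cj g A) :=
        cv_ZQ_le_cv_YY h hA hAQ hZ _ (cv_anti _ (cj_mono g hAS) hz)
      have hc' : c ∈ cv (YY p G) A := cv_ZQ_le_cv_YY h hA hAQ hZ _ (cv_anti _ hAS hc)
      refine ⟨c, hc, z * y₁, ⟨?_, Subgroup.mul_mem _ hz' hy₁⟩, mul_assoc c z y₁⟩
      have : z * y₁ = c⁻¹ * (c * z * y₁) := by group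
      rw [this]
      exact Subgroup.mul_mem _ (Subgroup.inv_mem _ hc') hb
    · intro w hw
      apply Subgroup.centralizer_le_normalizer
      rw [Subgroup.mem_centralizer_iff]
      intro c hc
      exact ZQ_comm c hc.1 w hw.1
  · intro w hw
    apply Subgroup.centralizer_le_normalizer
    rw [Subgroup.mem_centralizer_iff]
    intro c hc
    exact ZJ_comm _ c hc.1 w (ZQ_le_YY h hA hAQ hZ hw)

omit hZ in
/-- `⟨S, gAg⁻¹⟩ = G` -/
theorem S_sup_cj_A_eq_top {g : G} (hg : g ∉ M) : (S : Subgroup G) ⊔ cj g A = ⊤ := by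
  by_contra hne
  have h1 : cj g A ≤ M := le_sup_right.trans (le_M h le_sup_left hne)
  have hg' : g⁻¹ ∉ M := fun hc => hg (by have := M.inv_mem hc; rwa [inv_inv] at this)
  apply hAQ
  intro a ha
  apply inf_cj_M_le h hg'
  refine ⟨(mem_fam.mp hA).1 ha, ?_⟩
  show a ∈ cj g⁻¹ M
  rw [mem_cj, inv_inv]
  apply h1
  rw [mem_cj]
  have e : g⁻¹ * (g * a * g⁻¹) * g = a := by group
  rw [e]; exact ha

end A

end facts

end Cfsg.Agent.Lib.Helper7.PU
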