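import Mathlib
import Cfsg.Agent.Lib.Helper7.PUe

/-!
# Rank-one pushing up: the conclusions
-/

set_option autoImplicit false
set_option linter.unusedSectionVars false
set_option linter.unusedVariables false
set_option linter.style.haveILetI false

namespace Cfsg.Agent.Lib.Helper7.PU

open Cfsg Cfsg.Agent.Lib.Helper7 Cfsg.Agent.Lib.Helper7.PowZ Cfsg.Agent.Lib.Lead.Replacement
open Cfsg.Agent.Lib.Helper7.ThA Cfsg.Agent.Lib.Helper4.ZJ Cfsg.Agent.Lib.Helper7.TF
open scoped commutatorElement Pointwise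

variable {G : Type*} [Group G] [Finite G] {p : ℕ} [Fact p.Prime]
variable {Y : Type*} [Group Y]

theorem normal_of_central {X : Subgroup G} (hX : ∀ x ∈ X, ∀ g : G, g * x = x * g) : X.Normal := by
  refine ⟨fun x hx g => ?_⟩
  rw [hX x hx g, mul_inv_cancel_right]
  exact hx

theorem normalizer_le_normalizer_ZJ (D : Subgroup G) :
    Subgroup.normalizer (D : Set G) ≤
      Subgroup.normalizer ((Cfsg.centerThompsonAOf D : Subgroup G) : Set G) := by
  intro n hn
  have h1 := normalizer_le_normalizer_JA D hn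
  have h2 := normalizer_le_normalizer_centralizer' _ h1
  exact mem_normalizer_inf h1 h2

/-- the Sylow conclusion from a normal subgroup `P ≥ J` with `S ∩ P ≤ J` -/
theorem sylow_normalClosure (S : Sylow p G) {J P : Subgroup G} [hP : P.Normal]
    (hJS : J ≤ (S : Subgroup G)) (hJP : J ≤ P) (hSP : (S : Subgroup G) ⊓ P ≤ J) :
    ∃ R : Sylow p ↥(Subgroup.normalClosure (J : Set G)),
      (R : Subgroup ↥(Subgroup.normalClosure (J : Set G))) =
        J.subgroupOf (Subgroup.normalClosure (J : Set G)) := by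
  have hNP : Subgroup.normalClosure (J : Set G) ≤ P := Subgroup.normalClosure_le_normal hJP
  have heq : (S : Subgroup G) ⊓ Subgroup.normalClosure (J : Set G) = J := by
    apply le_antisymm
    · exact (inf_le_inf_left _ hNP).trans hSP
    · exact le_inf hJS Subgroup.le_normalClosure
  have hsyl : IsSylowIn p ((S : Subgroup G) ⊓ Subgroup.normalClosure (J : Set G))
      (Subgroup.normalClosure (J : Set G)) := by
    apply (IsSylowIn.of_sylow_top S).inf_normal _ le_top
    rw [Subgroup.normalizer_eq_top_iff.mpr inferInstance]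
  rw [heq] at hsyl
  exact hsyl.exists_sylow

theorem commute_of_comm_eq_one {a b : G} (h : ⁅a, b⁆ = 1) : a * b = b * a :=
  commutatorElement_eq_one_iff_mul_comm.mp h

/-- `C_{O_p(G)}(Z(J(S)))` -/
abbrev QB (S : Sylow p G) : Subgroup G :=
  Cfsg.pCore p G ⊓ Subgroup.centralizer (Cfsg.centerThompsonAOf (S : Subgroup G) : Set G)

/-- `⟨A, gAg⁻¹⟩ C_Q(B)` -/
abbrev PP (S : Sylow p G) (A : Subgroup G) (g : G) : Subgroup G := (A ⊔ cj g A) ⊔ QB S

section facts

variable {S : Sylow p G} {M : Subgroup G} {φ : G →* Y} (h : PUHyp p S M φ)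
include h

section A
variable {A : Subgroup G} (hA : A ∈ famA (S : Subgroup G)) (hAQ : ¬ A ≤ Cfsg.pCore p G)
    (hZ : Subgroup.centralizer ((((S : Subgroup G) ⊓
      Subgroup.centralizer ((S : Subgroup G) : Set G) : Subgroup G)) : Set G) ≠ ⊤)
include hA hAQ hZ

/-- `[vy, r] = [y, r]` -/
theorem comm_eq {v y r : G} (hv : v ∈ ZQ p G) (hy : y ∈ YY p G) (hr : r ∈ Cfsg.pCore p G) :
    ⁅v * y, r⁆ = ⁅y, r⁆ := by
  have h1 : ⁅v, r⁆ = 1 := by
    rw [commutatorElement_eq_one_iff_mul_comm]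
    exact (Subgroup.mem_centralizer_iff.mp hv.2 r hr).symm
  have h2 : ⁅y, r⁆ ∈ YY p G := by
    have h3 : r * y⁻¹ * r⁻¹ ∈ YY p G := (YY_normal (p := p) (G := G)).conj_mem _ (Subgroup.inv_mem _ hy) r
    have e : ⁅y, r⁆ = y * (r * y⁻¹ * r⁻¹) := by simp only [commutatorElement_def]; group
    rw [e]
    exact Subgroup.mul_mem _ hy h3
  have h4 : v * ⁅y, r⁆ = ⁅y, r⁆ * v := ZJ_comm _ v (ZQ_le_YY h hA hAQ hZ hv) _ h2
  have e : ⁅v * y, r⁆ = (v * ⁅y, r⁆) * v⁻¹ * ⁅v, r⁆ := by
    simp only [commutatorElement_def]; group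
  rw [e, h1, mul_one, h4, mul_inv_cancel_right]

/-- `[b, a'ra'⁻¹] = a'[b, r]a'⁻¹` for `b ∈ Z(J(S))`, `a' ∈ gAg⁻¹`, `r ∈ O_p(G)` -/
theorem comm_conj {g : G} (hg : g ∉ M) {b : G} (hb : b ∈ Cfsg.centerThompsonAOf (S : Subgroup G))
    {a' : G} (ha' : a' ∈ cj g A) {r : G} (hr : r ∈ Cfsg.pCore p G) :
    ⁅b, a' * r * a'⁻¹⁆ = a' * ⁅b, r⁆ * a'⁻¹ := by
  obtain ⟨v, hv, y, hy, rfl⟩ := exists_decomp h hA hAQ hZ hg (ZJ_le_cv h hA hAQ hZ hb)
  have hr' : a' * r * a'⁻¹ ∈ Cfsg.pCore p G := (pCore_normal p G).conj_mem r hr a'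
  rw [comm_eq h hA hAQ hZ hv.1 hy.1.1 hr', comm_eq h hA hAQ hZ hv.1 hy.1.1 hr]
  have hya : a' * y = y * a' := Subgroup.mem_centralizer_iff.mp hy.2.2 a' ha'
  have e : a' * ⁅y, r⁆ * a'⁻¹ = ⁅a' * y * a'⁻¹, a' * r * a'⁻¹⁆ := by
    simp only [commutatorElement_def]; group
  rw [e, hya, mul_inv_cancel_right]

/-- `S = A Q` elementwise -/
theorem exists_mul_of_mem_S {s : G} (hs : s ∈ (S : Subgroup G)) :
    ∃ a ∈ A, ∃ r ∈ Cfsg.pCore p G, s = a * r := by
  have hs' : s ∈ ((A ⊔ Cfsg.pCore p G : Subgroup G) : Set G) := by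
    rw [sup_pCore_eq_S h hA hAQ hZ]; exact hs
  rw [Subgroup.coe_mul_of_left_le_normalizer_right] at hs'
  · obtain ⟨a, ha, r, hr, rfl⟩ := hs'
    exact ⟨a, ha, r, hr, rfl⟩
  · rw [Subgroup.normalizer_eq_top_iff.mpr (pCore_normal p G)]
    exact le_top

/-- `[Z(J(S)), S] = [Z(J(S)), O_p(G)]` -/
theorem comm_BS_eq : ⁅Cfsg.centerThompsonAOf (S : Subgroup G), (S : Subgroup G)⁆ =
    ⁅Cfsg.centerThompsonAOf (S : Subgroup G), Cfsg.pCore p G⁆ := by
  apply le_antisymm _ (Subgroup.commutator_mono le_rfl (pCore_le_sylow S))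
  rw [Subgroup.commutator_le]
  intro b hb s hs
  obtain ⟨a, ha, r, hr, rfl⟩ := exists_mul_of_mem_S h hA hAQ hZ hs
  have hbA : b ∈ A := ZJ_le_of_mem_famA hA hb
  have hab : a * b = b * a := by
    have := (mem_fam.mp hA).2.1
    exact le_centralizer_of_isMulCommutative this hbA a ha
  have hr' : a * r * a⁻¹ ∈ Cfsg.pCore p G := (pCore_normal p G).conj_mem r hr a
  have e : ⁅b, a * r⁆ = ⁅b, a * r * a⁻¹⁆ := by
    have e1 : ⁅b, a * r⁆ = b * a * r * b⁻¹ * r⁻¹ * a⁻¹ := by
      simp only [commutatorElement_def]; group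
    have e2 : ⁅b, a * r * a⁻¹⁆ = b * a * r * (a⁻¹ * b⁻¹) * a * r⁻¹ * a⁻¹ := by
      simp only [commutatorElement_def]; group
    have hab' : a⁻¹ * b⁻¹ = b⁻¹ * a⁻¹ := by rw [← mul_inv_rev, ← mul_inv_rev, hab.symm]
    rw [e1, e2, hab']; group
  rw [e]
  exact Subgroup.commutator_mem_commutator hb hr'

theorem S_le_normalizer_ZJ : (S : Subgroup G) ≤
    Subgroup.normalizer ((Cfsg.centerThompsonAOf (S : Subgroup G) : Subgroup G) : Set G) :=
  Subgroup.le_normalizer.trans (normalizer_le_normalizer_ZJ _)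

/-- `[Z(J(S)), S]` is normal in `G` -/
theorem comm_BS_normal : (⁅Cfsg.centerThompsonAOf (S : Subgroup G), (S : Subgroup G)⁆).Normal := by
  obtain ⟨g, hg⟩ := exists_not_mem_M h
  rw [← Subgroup.normalizer_eq_top_iff, eq_top_iff, ← S_sup_cj_A_eq_top h hA hAQ hg]
  apply sup_le
  · intro s hs
    apply mem_normalizer_of_cj_le
    rw [cj, Subgroup.map_commutator]
    change ⁅cj s (Cfsg.centerThompsonAOf (S : Subgroup G)), cj s (S : Subgroup G)⁆ ≤ _
    rw [cj_eq_of_mem_normalizer (S_le_normalizer_ZJ h hA hAQ hZ hs), cj_eq_self_of_mem hs]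
  · intro a' ha'
    apply mem_normalizer_of_cj_le
    rw [comm_BS_eq h hA hAQ hZ, Subgroup.commutator_def, cj, MonoidHom.map_closure,
      Subgroup.closure_le]
    rintro _ ⟨_, ⟨b, hb, r, hr, rfl⟩, rfl⟩
    simp only [MulEquiv.coe_toMonoidHom, MulAut.conj_apply]
    rw [← comm_conj h hA hAQ hZ hg hb ha' hr]
    apply Subgroup.subset_closure
    exact ⟨b, hb, _, (pCore_normal p G).conj_mem r hr a', rfl⟩

omit hA hAQ hZ in
theorem JA_le_centralizer_comm : Cfsg.thompsonSubgroupAOf (S : Subgroup G) ≤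
    Subgroup.centralizer ((⁅Cfsg.centerThompsonAOf (S : Subgroup G), (S : Subgroup G)⁆ : Subgroup G) : Set G) := by
  have h1 : ⁅⁅(S : Subgroup G), Cfsg.thompsonSubgroupAOf (S : Subgroup G)⁆,
      Cfsg.centerThompsonAOf (S : Subgroup G)⁆ = ⊥ := by
    rw [Subgroup.commutator_eq_bot_iff_le_centralizer]
    have h2 : ⁅(S : Subgroup G), Cfsg.thompsonSubgroupAOf (S : Subgroup G)⁆ ≤
        Cfsg.thompsonSubgroupAOf (S : Subgroup G) := by
      rw [Subgroup.commutator_comm]
      apply Subgroup.le_normalizer_iff_commutator_le_left.mp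
      exact Subgroup.le_normalizer.trans (normalizer_le_normalizer_JA _)
    refine h2.trans ?_
    apply Subgroup.le_centralizer_iff.mp
    exact inf_le_right
  have h2 : ⁅⁅Cfsg.thompsonSubgroupAOf (S : Subgroup G), Cfsg.centerThompsonAOf (S : Subgroup G)⁆,
      (S : Subgroup G)⁆ = ⊥ := by
    have : ⁅Cfsg.thompsonSubgroupAOf (S : Subgroup G), Cfsg.centerThompsonAOf (S : Subgroup G)⁆ = ⊥ := by
      rw [Subgroup.commutator_eq_bot_iff_le_centralizer]
      apply Subgroup.le_centralizer_iff.mp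
      exact inf_le_right
    rw [this, Subgroup.commutator_bot_left]
  have h3 := Subgroup.commutator_commutator_eq_bot_of_rotate h1 h2
  rw [Subgroup.commutator_eq_bot_iff_le_centralizer] at h3
  exact Subgroup.le_centralizer_iff.mp h3

/-- S2769, the main case -/
theorem comm_inf_center_normal :
    (⁅Cfsg.centerThompsonAOf (S : Subgroup G), (S : Subgroup G)⁆ ⊓
      ((S : Subgroup G) ⊓ Subgroup.centralizer ((S : Subgroup G) : Set G))).Normal := by
  haveI := comm_BS_normal h hA hAQ hZ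
  set D := ⁅Cfsg.centerThompsonAOf (S : Subgroup G), (S : Subgroup G)⁆ with hD
  have hCD : ¬ Subgroup.centralizer (D : Set G) ≤ M := by
    intro hc
    haveI := inf_normal_of_le_max S h.hM h.huniq (Subgroup.centralizer (D : Set G)) hc
    have h1 : (S : Subgroup G) ⊓ Subgroup.centralizer (D : Set G) ≤ Cfsg.pCore p G :=
      le_pCore inferInstance (S.2.to_le inf_le_left)
    apply hAQ
    exact (le_inf (mem_fam.mp hA).1 ((le_JA hA).trans (JA_le_centralizer_comm h))).trans h1
  have htop : (S : Subgroup G) ⊔ Subgroup.centralizer (D : Set G) = ⊤ := by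
    by_contra hne
    exact hCD (le_sup_right.trans (le_M h le_sup_left hne))
  apply normal_of_central
  intro x hx g
  have hg : g ∈ (S : Subgroup G) ⊔ Subgroup.centralizer (D : Set G) := by
    rw [htop]; exact Subgroup.mem_top g
  have hle : (S : Subgroup G) ⊔ Subgroup.centralizer (D : Set G) ≤ Subgroup.centralizer ({x} : Set G) := by
    apply sup_le
    · intro s hs
      rw [Subgroup.mem_centralizer_iff]
      intro y hy
      rw [Set.mem_singleton_iff] at hy
      rw [hy]
      exact (Subgroup.mem_centralizer_iff.mp hx.2.2 s hs).symm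
    · intro c hc
      rw [Subgroup.mem_centralizer_iff]
      intro y hy
      rw [Set.mem_singleton_iff] at hy
      rw [hy]
      exact Subgroup.mem_centralizer_iff.mp hc x hx.1
  exact (Subgroup.mem_centralizer_iff.mp (hle hg) x rfl).symm


/-- `C_Q(Z(J(S)))` is normal in `G` -/
theorem QB_normal : (QB S).Normal := by
  obtain ⟨g, hg⟩ := exists_not_mem_M h
  rw [← Subgroup.normalizer_eq_top_iff, eq_top_iff, ← S_sup_cj_A_eq_top h hA hAQ hg]
  apply sup_le
  · intro s hs
    apply mem_normalizer_of_cj_le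
    rintro _ ⟨x, hx, rfl⟩
    simp only [MulEquiv.coe_toMonoidHom, MulAut.conj_apply]
    refine ⟨(pCore_normal p G).conj_mem x hx.1 s, ?_⟩
    have h1 := normalizer_le_normalizer_centralizer' _ (S_le_normalizer_ZJ h hA hAQ hZ hs)
    exact (Subgroup.mem_normalizer_iff.mp h1 x).mp hx.2
  · intro a' ha'
    apply mem_normalizer_of_cj_le
    rintro _ ⟨x, hx, rfl⟩
    simp only [MulEquiv.coe_toMonoidHom, MulAut.conj_apply]
    refine ⟨(pCore_normal p G).conj_mem x hx.1 a', ?_⟩
    show a' * x * a'⁻¹ ∈ Subgroup.centralizer _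
    rw [Subgroup.mem_centralizer_iff]
    intro b hb
    apply commute_of_comm_eq_one
    rw [comm_conj h hA hAQ hZ hg hb ha' hx.1]
    have : ⁅b, x⁆ = 1 := by
      rw [commutatorElement_eq_one_iff_mul_comm]
      exact Subgroup.mem_centralizer_iff.mp hx.2 b hb
    rw [this, mul_one, mul_inv_cancel]

omit hAQ hZ in
theorem comm_mem_QB {q : G} (hq : q ∈ Cfsg.pCore p G) {a : G} (ha : a ∈ A) : ⁅q, a⁆ ∈ QB S := by
  refine ⟨?_, ?_⟩
  · have h1 : a * q⁻¹ * a⁻¹ ∈ Cfsg.pCore p G :=
      (pCore_normal p G).conj_mem _ (Subgroup.inv_mem _ hq) a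
    have e : ⁅q, a⁆ = q * (a * q⁻¹ * a⁻¹) := by simp only [commutatorElement_def]; group
    rw [e]
    exact Subgroup.mul_mem _ hq h1
  · have hJ : (S : Subgroup G) ≤ Subgroup.normalizer
        ((Cfsg.thompsonSubgroupAOf (S : Subgroup G) : Subgroup G) : Set G) :=
      Subgroup.le_normalizer.trans (normalizer_le_normalizer_JA _)
    have haJ : a ∈ Cfsg.thompsonSubgroupAOf (S : Subgroup G) := le_JA hA ha
    have h1 : q * a * q⁻¹ ∈ Cfsg.thompsonSubgroupAOf (S : Subgroup G) :=
      (Subgroup.mem_normalizer_iff.mp (hJ (pCore_le_sylow S hq)) a).mp haJ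
    have h2 : ⁅q, a⁆ ∈ Cfsg.thompsonSubgroupAOf (S : Subgroup G) := by
      have e : ⁅q, a⁆ = (q * a * q⁻¹) * a⁻¹ := by simp only [commutatorElement_def]
      rw [e]
      exact Subgroup.mul_mem _ h1 (Subgroup.inv_mem _ haJ)
    show ⁅q, a⁆ ∈ Subgroup.centralizer _
    rw [Subgroup.mem_centralizer_iff]
    intro b hb
    exact (Subgroup.mem_centralizer_iff.mp hb.2 _ h2).symm

/-- `P = ⟨A, gAg⁻¹⟩ C_Q(B)` is normal in `G` -/
theorem PP_normal {g : G} (hg : g ∉ M) : (PP S A g).Normal := by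
  haveI := QB_normal h hA hAQ hZ
  have hQ : Cfsg.pCore p G ≤ Subgroup.normalizer ((PP S A g : Subgroup G) : Set G) := by
    intro q hq
    apply mem_normalizer_of_cj_le
    rw [cj, Subgroup.map_sup, Subgroup.map_sup]
    apply sup_le
    · apply sup_le
      · rintro _ ⟨a, ha, rfl⟩
        simp only [MulEquiv.coe_toMonoidHom, MulAut.conj_apply]
        have e : q * a * q⁻¹ = ⁅q, a⁆ * a := by simp only [commutatorElement_def]; group
        rw [e]
        exact Subgroup.mul_mem _ (Subgroup.mem_sup_right (comm_mem_QB h hA hq ha))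
          (Subgroup.mem_sup_left (Subgroup.mem_sup_left ha))
      · rintro _ ⟨a', ha', rfl⟩
        simp only [MulEquiv.coe_toMonoidHom, MulAut.conj_apply]
        have ha'' : g⁻¹ * a' * g ∈ A := mem_cj.mp ha'
        have hq' : g⁻¹ * q * g ∈ Cfsg.pCore p G := by
          have := (pCore_normal p G).conj_mem q hq g⁻¹
          rwa [inv_inv] at this
        have h1 := comm_mem_QB h hA hq' ha''
        have h2 : g * ⁅g⁻¹ * q * g, g⁻¹ * a' * g⁆ * g⁻¹ ∈ QB S :=
          (QB_normal h hA hAQ hZ).conj_mem _ h1 g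
        have e : q * a' * q⁻¹ = (g * ⁅g⁻¹ * q * g, g⁻¹ * a' * g⁆ * g⁻¹) * a' := by
          simp only [commutatorElement_def]; group
        rw [e]
        exact Subgroup.mul_mem _ (Subgroup.mem_sup_right h2)
          (Subgroup.mem_sup_left (Subgroup.mem_sup_right ha'))
    · have : cj q (QB S) = QB S := cj_normal q
      change cj q (QB S) ≤ _
      rw [this]
      exact le_sup_right
  rw [← Subgroup.normalizer_eq_top_iff, eq_top_iff, ← S_sup_cj_A_eq_top h hA hAQ hg,
    ← sup_pCore_eq_S h hA hAQ hZ]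
  apply sup_le
  · apply sup_le
    · exact (le_sup_left.trans le_sup_left).trans Subgroup.le_normalizer
    · exact hQ
  · exact (le_sup_right.trans le_sup_left).trans Subgroup.le_normalizer

theorem S_inf_PP_le {g : G} (hg : g ∉ M) :
    (S : Subgroup G) ⊓ PP S A g ≤
      (S : Subgroup G) ⊓ Subgroup.centralizer (Cfsg.centerThompsonAOf (S : Subgroup G) : Set G) := by
  intro x hx
  refine ⟨hx.1, ?_⟩
  show x ∈ Subgroup.centralizer _
  rw [Subgroup.mem_centralizer_iff]
  intro b hb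
  obtain ⟨v, hv, y, hy, rfl⟩ := exists_decomp h hA hAQ hZ hg (ZJ_le_cv h hA hAQ hZ hb)
  have hxv : v * x = x * v := (Subgroup.mem_centralizer_iff.mp hv.2 x hx.1).symm
  have hle : PP S A g ≤ Subgroup.centralizer ({y} : Set G) := by
    apply sup_le
    · apply sup_le
      · intro a ha
        rw [Subgroup.mem_centralizer_iff]
        intro w hw
        rw [Set.mem_singleton_iff] at hw
        rw [hw]
        exact (Subgroup.mem_centralizer_iff.mp hy.1.2 a ha).symm
      · intro a ha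
        rw [Subgroup.mem_centralizer_iff]
        intro w hw
        rw [Set.mem_singleton_iff] at hw
        rw [hw]
        exact (Subgroup.mem_centralizer_iff.mp hy.2.2 a ha).symm
    · intro r hr
      rw [Subgroup.mem_centralizer_iff]
      intro w hw
      rw [Set.mem_singleton_iff] at hw
      rw [hw]
      apply commute_of_comm_eq_one
      rw [← comm_eq h hA hAQ hZ hv.1 hy.1.1 hr.1, commutatorElement_eq_one_iff_mul_comm]
      exact Subgroup.mem_centralizer_iff.mp hr.2 _ hb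
  have hxy : y * x = x * y := Subgroup.mem_centralizer_iff.mp (hle hx.2) y rfl
  rw [mul_assoc, hxy, ← mul_assoc, hxv, mul_assoc]

theorem Jt_le_PP (g : G) :
    (S : Subgroup G) ⊓ Subgroup.centralizer (Cfsg.centerThompsonAOf (S : Subgroup G) : Set G) ≤
      PP S A g := by
  intro x hx
  obtain ⟨a, ha, r, hr, rfl⟩ := exists_mul_of_mem_S h hA hAQ hZ hx.1
  have haB : a ∈ Subgroup.centralizer (Cfsg.centerThompsonAOf (S : Subgroup G) : Set G) := by
    rw [Subgroup.mem_centralizer_iff]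
    intro b hb
    have hbA : b ∈ A := ZJ_le_of_mem_famA hA hb
    exact (le_centralizer_of_isMulCommutative (mem_fam.mp hA).2.1 hbA a ha).symm
  have hrB : r ∈ Subgroup.centralizer (Cfsg.centerThompsonAOf (S : Subgroup G) : Set G) := by
    have : r = a⁻¹ * (a * r) := by group
    rw [this]
    exact Subgroup.mul_mem _ (Subgroup.inv_mem _ haB) hx.2
  exact Subgroup.mul_mem _ (Subgroup.mem_sup_left (Subgroup.mem_sup_left ha))
    (Subgroup.mem_sup_right ⟨hr, hrB⟩)

/-- S2768, the main case -/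
theorem sylow_main :
    ∃ R : Sylow p ↥(Subgroup.normalClosure
        (((S : Subgroup G) ⊓ Subgroup.centralizer (Cfsg.centerThompsonAOf (S : Subgroup G) : Set G) :
          Subgroup G) : Set G)),
      (R : Subgroup ↥(Subgroup.normalClosure
        (((S : Subgroup G) ⊓ Subgroup.centralizer (Cfsg.centerThompsonAOf (S : Subgroup G) : Set G) :
          Subgroup G) : Set G))) =
        ((S : Subgroup G) ⊓ Subgroup.centralizer (Cfsg.centerThompsonAOf (S : Subgroup G) : Set G)).subgroupOf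
          (Subgroup.normalClosure
        (((S : Subgroup G) ⊓ Subgroup.centralizer (Cfsg.centerThompsonAOf (S : Subgroup G) : Set G) :
          Subgroup G) : Set G)) := by
  obtain ⟨g, hg⟩ := exists_not_mem_M h
  haveI := PP_normal h hA hAQ hZ hg
  exact sylow_normalClosure S inf_le_left (Jt_le_PP h hA hAQ hZ g) (S_inf_PP_le h hA hAQ hZ hg)

end A

end facts

end Cfsg.Agent.Lib.Helper7.PU
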