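import Mathlib
import Cfsg.Agent.Lib.Helper7.PUf

/-!
# Rank-one pushing up: assembling the cases
-/

set_option autoImplicit false
set_option linter.unusedSectionVars false
set_option linter.unusedVariables false
set_option linter.style.haveILetI false

namespace Cfsg.Agent.Lib.Helper7.PU

open Cfsg Cfsg.Agent.Lib.Helper7 Cfsg.Agent.Lib.Helper7.PowZ Cfsg.Agent.Lib.Lead.Replacement
open Cfsg.Agent.Lib.Helper7.ThA Cfsg.Agent.Lib.Helper4.ZJ Cfsg.Agent.Lib.Helper7.TF
open scoped commutatorElement Pointwise

variable {G : Type*} [Group G] [Finite G] {p : ℕ} [Fact p.Prime]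
variable {Y : Type*} [Group Y]

section facts

variable {S : Sylow p G} {M : Subgroup G} {φ : G →* Y} (h : PUHyp p S M φ)
include h

omit h in
/-- if `J(S) ≤ O_p(G)` then `Z(J(S))` is normal in `G` -/
theorem ZJ_eq_YY_of_le (hJ : Cfsg.thompsonSubgroupAOf (S : Subgroup G) ≤ Cfsg.pCore p G) :
    Cfsg.centerThompsonAOf (S : Subgroup G) = YY p G := by
  have h1 := JA_eq_of_le' hJ (pCore_le_sylow S)
  unfold YY Cfsg.centerThompsonAOf
  rw [h1]

omit h in
theorem center_central_of_top
    (hZ : Subgroup.centralizer ((((S : Subgroup G) ⊓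
      Subgroup.centralizer ((S : Subgroup G) : Set G) : Subgroup G)) : Set G) = ⊤) :
    ∀ x ∈ (S : Subgroup G) ⊓ Subgroup.centralizer ((S : Subgroup G) : Set G), ∀ g : G, g * x = x * g := by
  intro x hx g
  have hg : g ∈ Subgroup.centralizer ((((S : Subgroup G) ⊓
      Subgroup.centralizer ((S : Subgroup G) : Set G) : Subgroup G)) : Set G) := by
    rw [hZ]; exact Subgroup.mem_top g
  exact (Subgroup.mem_centralizer_iff.mp hg x hx).symm

omit h in
theorem exists_famA_not_le (hJ : ¬ Cfsg.thompsonSubgroupAOf (S : Subgroup G) ≤ Cfsg.pCore p G) :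
    ∃ A : Subgroup G, A ∈ famA (S : Subgroup G) ∧ ¬ A ≤ Cfsg.pCore p G := by
  by_contra hc
  push Not at hc
  exact hJ (JA_le_of hc)

/-- **S2768** under the abstract rank-one hypothesis -/
theorem s2768_core
    (hZn : ¬ ((S : Subgroup G) ⊓ Subgroup.centralizer ((S : Subgroup G) : Set G)).Normal) :
    ∃ R : Sylow p ↥(Subgroup.normalClosure
        (((S : Subgroup G) ⊓ Subgroup.centralizer (Cfsg.centerThompsonAOf (S : Subgroup G) : Set G) :
          Subgroup G) : Set G)),
      (R : Subgroup ↥(Subgroup.normalClosure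
        (((S : Subgroup G) ⊓ Subgroup.centralizer (Cfsg.centerThompsonAOf (S : Subgroup G) : Set G) :
          Subgroup G) : Set G))) =
        ((S : Subgroup G) ⊓ Subgroup.centralizer (Cfsg.centerThompsonAOf (S : Subgroup G) : Set G)).subgroupOf
          (Subgroup.normalClosure
        (((S : Subgroup G) ⊓ Subgroup.centralizer (Cfsg.centerThompsonAOf (S : Subgroup G) : Set G) :
          Subgroup G) : Set G)) := by
  by_cases hZ : Subgroup.centralizer ((((S : Subgroup G) ⊓
      Subgroup.centralizer ((S : Subgroup G) : Set G) : Subgroup G)) : Set G) = ⊤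
  · exact absurd (normal_of_central (center_central_of_top hZ)) hZn
  by_cases hJ : Cfsg.thompsonSubgroupAOf (S : Subgroup G) ≤ Cfsg.pCore p G
  · have hB := ZJ_eq_YY_of_le hJ
    haveI : (Cfsg.centerThompsonAOf (S : Subgroup G)).Normal := by rw [hB]; infer_instance
    exact sylow_normalClosure S
      (P := Subgroup.centralizer (Cfsg.centerThompsonAOf (S : Subgroup G) : Set G))
      inf_le_left inf_le_right le_rfl
  · obtain ⟨A, hA, hAQ⟩ := exists_famA_not_le hJ
    exact sylow_main h hA hAQ hZ

/-- **S2769** under the abstract rank-one hypothesis -/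
theorem s2769_core :
    (⁅Cfsg.centerThompsonAOf (S : Subgroup G), (S : Subgroup G)⁆ ⊓
      ((S : Subgroup G) ⊓ Subgroup.centralizer ((S : Subgroup G) : Set G))).Normal ∨
    ((S : Subgroup G) ⊓
      Subgroup.centralizer (Cfsg.centerThompsonAOf (S : Subgroup G) : Set G)).Normal := by
  by_cases hZ : Subgroup.centralizer ((((S : Subgroup G) ⊓
      Subgroup.centralizer ((S : Subgroup G) : Set G) : Subgroup G)) : Set G) = ⊤
  · left
    apply normal_of_central
    intro x hx g
    exact center_central_of_top hZ x hx.2 g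
  by_cases hJ : Cfsg.thompsonSubgroupAOf (S : Subgroup G) ≤ Cfsg.pCore p G
  · have hB := ZJ_eq_YY_of_le hJ
    haveI hBn : (Cfsg.centerThompsonAOf (S : Subgroup G)).Normal := by rw [hB]; infer_instance
    by_cases hC : Subgroup.centralizer (Cfsg.centerThompsonAOf (S : Subgroup G) : Set G) ≤ M
    · right
      exact inf_normal_of_le_max S h.hM h.huniq _ hC
    · left
      have htop : (S : Subgroup G) ⊔
          Subgroup.centralizer (Cfsg.centerThompsonAOf (S : Subgroup G) : Set G) = ⊤ := by
        by_contra hne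
        exact hC (le_sup_right.trans (le_M h le_sup_left hne))
      apply normal_of_central
      intro x hx g
      have hg : g ∈ (S : Subgroup G) ⊔
          Subgroup.centralizer (Cfsg.centerThompsonAOf (S : Subgroup G) : Set G) := by
        rw [htop]; exact Subgroup.mem_top g
      have hxB : x ∈ Cfsg.centerThompsonAOf (S : Subgroup G) := Subgroup.commutator_le_left _ _ hx.1
      have hle : (S : Subgroup G) ⊔
          Subgroup.centralizer (Cfsg.centerThompsonAOf (S : Subgroup G) : Set G) ≤
            Subgroup.centralizer ({x} : Set G) := by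
        apply sup_le
        · intro s hs
          rw [Subgroup.mem_centralizer_iff]
          intro y hy
          rw [Set.mem_singleton_iff] at hy
          rw [hy]
          exact (Subgroup.mem_centralizer_iff.mp hx.2.2 s hs).symm
        · intro c hc
          rw [Subgroup.mem_centralizer_iff]
          intro y hy
          rw [Set.mem_singleton_iff] at hy
          rw [hy]
          exact Subgroup.mem_centralizer_iff.mp hc x hxB
      exact (Subgroup.mem_centralizer_iff.mp (hle hg) x rfl).symm
  · obtain ⟨A, hA, hAQ⟩ := exists_famA_not_le hJ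
    left
    exact comm_inf_center_normal h hA hAQ hZ

end facts

/-- a quotient isomorphism gives a surjective homomorphism with the given kernel -/
theorem exists_hom_of_quot {X Z : Type*} [Group X] [Group Z] (N : Subgroup X) [N.Normal]
    (e : X ⧸ N ≃* Z) : ∃ φ : X →* Z, Function.Surjective φ ∧ φ.ker = N := by
  refine ⟨e.toMonoidHom.comp (QuotientGroup.mk' N),
    e.surjective.comp (QuotientGroup.mk'_surjective N), ?_⟩
  ext x
  rw [MonoidHom.mem_ker]
  show e (QuotientGroup.mk' N x) = 1 ↔ _
  rw [MulEquiv.map_eq_one_iff, QuotientGroup.mk'_apply, QuotientGroup.eq_one_iff]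

/-- a finite field of order `p ^ n`, `n ≥ 1`, has characteristic `p` -/
theorem charP_of_card {F : Type*} [Field F] [Fintype F] {n : ℕ} (hn : 1 ≤ n)
    (hF : Fintype.card F = p ^ n) : CharP F p := by
  obtain ⟨q, hq⟩ := CharP.exists F
  haveI := hq
  have hqp : q.Prime := CharP.char_is_prime F q
  haveI : Fact q.Prime := ⟨hqp⟩
  obtain ⟨m, hm⟩ := FiniteField.card F q
  have hp : p.Prime := Fact.out
  have h1 : q ∣ p ^ n := by
    rw [← hF, hm.2]
    exact dvd_pow_self q (PNat.ne_zero m)
  have h2 : q = p := (Nat.prime_dvd_prime_iff_eq hqp hp).mp (hqp.dvd_of_dvd_pow h1)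
  rw [← h2]
  exact hq

/-- the standing hypotheses from the hypotheses of the statements -/
theorem puHyp_of (S : Sylow p G)
    (hE₁ : Subgroup.centralizer (Cfsg.pCore p G : Set G) ≤ Cfsg.pCore p G)
    (hE₂ : ∃! M : Subgroup G, IsCoatom M ∧ (S : Subgroup G) ≤ M) (K : Subgroup G) [K.Normal]
    (F : Type) [Field F] [Fintype F] (n : ℕ) (hn : 1 ≤ n) (hF : Fintype.card F = p ^ n)
    (hE₃ : Nonempty (G ⧸ K ≃* Matrix.ProjectiveSpecialLinearGroup (Fin 2) F)) :
    ∃ (M : Subgroup G) (φ : G →* Matrix.ProjectiveSpecialLinearGroup (Fin 2) F), PUHyp p S M φ := by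
  obtain ⟨M, hM, huniq⟩ := hE₂
  obtain ⟨e⟩ := hE₃
  obtain ⟨φ, hφ, -⟩ := exists_hom_of_quot K e
  haveI := charP_of_card (p := p) hn hF
  exact ⟨M, φ, ⟨hE₁, hM, huniq, hφ, rankOne_PSL2 p⟩⟩

end Cfsg.Agent.Lib.Helper7.PU
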