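import Mathlib
import Cfsg.Prelude.Def_LocalStructure
import Cfsg.Prelude.Def_CaseTheorems
import Cfsg.Agent.Lib.Lead.PiCore
import Cfsg.Agent.Lib.Lead.StronglyEmbedded
import Cfsg.Agent.Lib.Helper4.InvAction
import Cfsg.Agent.Lib.Helper7.SylowLib
import Cfsg.Agent.Lib.Helper7.Core
import Cfsg.Agent.Lib.Helper7.Large

set_option autoImplicit false
open Cfsg

namespace Cfsg.Agent.Lib.Helper7

open Cfsg.Agent.Lib.Lead.Conj Cfsg.Agent.Lib.Lead.StronglyEmbedded
open scoped commutatorElement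

variable {G : Type*} [Group G] [Finite G]

/-- In a group of parabolic characteristic `p`, a `p`-subgroup `R ≠ 1` with parabolic normalizer
has no fixed points on `O_{p'}(G)`. -/
theorem pPrimeCore_inf_centralizer_eq_bot {p : ℕ} [Fact p.Prime]
    (hG : Cfsg.IsOfParabolicCharacteristic p G)
    (R : Subgroup G) (hR : IsPGroup p R) (hRne : R ≠ ⊥)
    (hpar : Cfsg.IsParabolic p (Subgroup.normalizer (R : Set G))) :
    Cfsg.pPrimeCore p G ⊓ Subgroup.centralizer (R : Set G) = ⊥ := by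
  have hp : p.Prime := Fact.out
  have hchar := hG R hR hRne hpar
  set N : Subgroup G := Subgroup.normalizer (R : Set G) with hN
  set X : Subgroup G := Cfsg.pPrimeCore p G with hX
  haveI : X.Normal := Cfsg.Agent.Lib.Lead.PiCore.pPrimeCore_normal p
  have hXcop : (Nat.card X).Coprime p := Cfsg.Agent.Lib.Lead.PiCore.pPrimeCore_coprime hp
  haveI : (Cfsg.pCore p ↥N).Normal := pCore_normal p ↥N
  have hQp : IsPGroup p ↥((Cfsg.pCore p ↥N).map N.subtype) := (pCore_isPGroup p ↥N).map _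
  have hNQ : N ≤ Subgroup.normalizer (((Cfsg.pCore p ↥N).map N.subtype : Subgroup G) : Set G) := by
    intro g hg
    have h1 : (⟨g, hg⟩ : ↥N) ∈ Subgroup.normalizer ((Cfsg.pCore p ↥N : Subgroup ↥N) : Set ↥N) := by
      rw [Subgroup.normalizer_eq_top]; trivial
    exact Subgroup.le_normalizer_map N.subtype ⟨⟨g, hg⟩, h1, rfl⟩
  have hQX : ((Cfsg.pCore p ↥N).map N.subtype) ⊓ X = ⊥ := by
    have hcop : (Nat.card ↥((Cfsg.pCore p ↥N).map N.subtype)).Coprime (Nat.card X) := by
      obtain ⟨n, hn⟩ := IsPGroup.iff_card.mp hQp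
      rw [hn]
      exact (Nat.Coprime.pow_right n hXcop).symm
    exact (Subgroup.disjoint_of_coprime_natCard hcop).eq_bot
  rw [eq_bot_iff]
  intro d hd
  obtain ⟨hdX, hdC⟩ := Subgroup.mem_inf.mp hd
  have hdN : d ∈ N := Subgroup.centralizer_le_normalizer _ hdC
  -- d centralizes Q
  have hdQ : ∀ q ∈ (Cfsg.pCore p ↥N).map N.subtype, q * d = d * q := by
    intro q hq
    have hqN : q ∈ N := (Subgroup.map_subtype_le _) hq
    have h1 : ⁅q, d⁆ ∈ (Cfsg.pCore p ↥N).map N.subtype := by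
      rw [commutatorElement_def]
      have h2 : d * q⁻¹ * d⁻¹ ∈ (Cfsg.pCore p ↥N).map N.subtype :=
        (Subgroup.mem_normalizer_iff.mp (hNQ hdN) _).mp (inv_mem hq)
      have := mul_mem hq h2
      have e : q * (d * q⁻¹ * d⁻¹) = q * d * q⁻¹ * d⁻¹ := by group
      rwa [e] at this
    have h2 : ⁅q, d⁆ ∈ X := by
      rw [commutatorElement_def]
      exact mul_mem (Subgroup.Normal.conj_mem inferInstance d hdX q) (inv_mem hdX)
    have h3 : ⁅q, d⁆ ∈ ((Cfsg.pCore p ↥N).map N.subtype) ⊓ X := Subgroup.mem_inf.mpr ⟨h1, h2⟩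
    rw [hQX, Subgroup.mem_bot] at h3
    exact commutatorElement_eq_one_iff_mul_comm.mp h3
  have hdcore : (⟨d, hdN⟩ : ↥N) ∈ Cfsg.pCore p ↥N := by
    apply hchar
    rw [Subgroup.mem_centralizer_iff]
    intro q hq
    apply Subtype.ext
    exact hdQ q ⟨q, hq, rfl⟩
  have hdQ' : d ∈ ((Cfsg.pCore p ↥N).map N.subtype) ⊓ X :=
    Subgroup.mem_inf.mpr ⟨⟨⟨d, hdN⟩, hdcore, rfl⟩, hdX⟩
  rw [hQX] at hdQ'
  exact hdQ'

theorem parabolic_char_two_oddCore_eq_bot (h2 : 2 ∣ Nat.card G)
    (hG : Cfsg.IsOfParabolicCharacteristic 2 G) [hN : (Cfsg.oddCore G).Normal]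
    (hZ : Subgroup.center (G ⧸ Cfsg.oddCore G) = ⊥) : Cfsg.oddCore G = ⊥ := by
  haveI : Fact (Nat.Prime 2) := ⟨Nat.prime_two⟩
  set X : Subgroup G := Cfsg.oddCore G with hX
  have hXcop : (Nat.card X).Coprime 2 := Cfsg.Agent.Lib.Lead.PiCore.pPrimeCore_coprime Nat.prime_two
  obtain ⟨S⟩ : Nonempty (Sylow 2 G) := inferInstance
  have hSne : (S : Subgroup G) ≠ ⊥ := by
    intro hb
    have h1 : Nat.card ↥(S : Subgroup G) = 1 := by rw [hb]; exact Subgroup.card_bot
    rw [S.card_eq_multiplicity] at h1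
    have hpos : 0 < (Nat.card G).factorization 2 :=
      Nat.prime_two.factorization_pos_of_dvd Nat.card_pos.ne' h2
    have : 1 < 2 ^ (Nat.card G).factorization 2 := Nat.one_lt_pow hpos.ne' (by norm_num)
    omega
  obtain ⟨z, hz, hoz⟩ := exists_orderOf_eq_of_ne_bot (S.isPGroup'.to_le inf_le_left)
    (inf_centralizer_ne_bot S.isPGroup' hSne)
  obtain ⟨hzS, hzC⟩ := Subgroup.mem_inf.mp hz
  have hz1 : z ≠ 1 := ne_one_of_orderOf hoz
  have hzz : z * z = 1 := by
    have := pow_orderOf_eq_one z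
    rwa [hoz, pow_two] at this
  have hzinv : z⁻¹ = z := inv_eq_of_mul_eq_one_left hzz
  -- z is fixed point free on X
  have hSz : (S : Subgroup G) ≤ Subgroup.centralizer ((Subgroup.zpowers z : Subgroup G) : Set G) := by
    rw [Subgroup.le_centralizer_iff, Subgroup.zpowers_le]
    exact hzC
  have hparz : Cfsg.IsParabolic 2 (Subgroup.normalizer ((Subgroup.zpowers z : Subgroup G) : Set G)) :=
    ⟨S, hSz.trans (Subgroup.centralizer_le_normalizer _)⟩
  have hzne : Subgroup.zpowers z ≠ ⊥ := by rw [Ne, Subgroup.zpowers_eq_bot]; exact hz1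
  have hfpf0 := pPrimeCore_inf_centralizer_eq_bot hG (Subgroup.zpowers z) (isPGroup_zpowers hoz)
    hzne hparz
  have hfpf : ∀ s ∈ X, z * s = s * z → s = 1 := by
    intro s hs hzs
    have : s ∈ X ⊓ Subgroup.centralizer ((Subgroup.zpowers z : Subgroup G) : Set G) := by
      refine Subgroup.mem_inf.mpr ⟨hs, ?_⟩
      rw [Subgroup.mem_centralizer_iff]
      intro y hy
      obtain ⟨n, rfl⟩ := Subgroup.mem_zpowers_iff.mp hy
      exact ((Commute.zpow_right (show Commute s z from hzs.symm) n).eq).symm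
    rw [hfpf0, Subgroup.mem_bot] at this
    exact this
  have hinv : ∀ s ∈ X, z * s * z⁻¹ = s⁻¹ :=
    Cfsg.Agent.Lib.Helper4.InvAction.inverts_of_fixedPointFree X z hzz
      (fun s hs => Subgroup.Normal.conj_mem hN s hs z) hfpf
  -- K = C_G(X)
  haveI hKn : (Subgroup.centralizer (X : Set G)).Normal := Subgroup.normal_centralizer
  by_cases hT : (S : Subgroup G) ⊓ Subgroup.centralizer (X : Set G) = ⊥
  · -- K has odd order, so K ≤ X
    exfalso
    have hsyl : IsSylowIn 2 ((S : Subgroup G) ⊓ Subgroup.centralizer (X : Set G))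
        (Subgroup.centralizer (X : Set G)) :=
      (IsSylowIn.of_sylow_top S).inf_normal _ le_top (by rw [Subgroup.normalizer_eq_top])
    have hKcop : (Nat.card ↥(Subgroup.centralizer (X : Set G))).Coprime 2 := by
      have h1 := hsyl.2
      rw [hT, Subgroup.card_bot] at h1
      rw [Nat.coprime_comm, Nat.Prime.coprime_iff_not_dvd Nat.prime_two]
      intro hdvd
      have hpos : 0 < (Nat.card ↥(Subgroup.centralizer (X : Set G))).factorization 2 :=
        Nat.prime_two.factorization_pos_of_dvd Nat.card_pos.ne' hdvd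
      have : 1 < 2 ^ (Nat.card ↥(Subgroup.centralizer (X : Set G))).factorization 2 :=
        Nat.one_lt_pow hpos.ne' (by norm_num)
      omega
    have hKX : Subgroup.centralizer (X : Set G) ≤ X :=
      Cfsg.Agent.Lib.Lead.PiCore.le_pPrimeCore hKn hKcop
    -- mk z is central in G ⧸ X
    have hcent : (QuotientGroup.mk z : G ⧸ X) ∈ Subgroup.center (G ⧸ X) := by
      rw [Subgroup.mem_center_iff]
      intro g'
      induction g' using QuotientGroup.induction_on with
      | _ g =>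
      rw [← QuotientGroup.mk_mul, ← QuotientGroup.mk_mul, QuotientGroup.eq]
      apply hKX
      rw [Subgroup.mem_centralizer_iff]
      intro s hs
      have hs1 : g * s * g⁻¹ ∈ X := Subgroup.Normal.conj_mem hN s hs g
      have key : ((g * z)⁻¹ * (z * g)) * s * ((g * z)⁻¹ * (z * g))⁻¹ = s := by
        calc ((g * z)⁻¹ * (z * g)) * s * ((g * z)⁻¹ * (z * g))⁻¹
            = z⁻¹ * (g⁻¹ * (z * (g * s * g⁻¹) * z⁻¹) * g) * z := by group
          _ = z⁻¹ * (g⁻¹ * (g * s * g⁻¹)⁻¹ * g) * z := by rw [hinv _ hs1]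
          _ = z⁻¹ * s⁻¹ * z := by group
          _ = z * s⁻¹ * z⁻¹ := by rw [hzinv]
          _ = s := by rw [hinv _ (inv_mem hs), inv_inv]
      exact (mul_inv_eq_iff_eq_mul.mp key).symm
    rw [hZ, Subgroup.mem_bot, QuotientGroup.eq_one_iff] at hcent
    have : z ∈ Subgroup.zpowers z ⊓ X := Subgroup.mem_inf.mpr ⟨Subgroup.mem_zpowers z, hcent⟩
    have hcop : (Nat.card ↥(Subgroup.zpowers z)).Coprime (Nat.card X) := by
      rw [Nat.card_zpowers, hoz]; exact hXcop.symm
    rw [(Subgroup.disjoint_of_coprime_natCard hcop).eq_bot, Subgroup.mem_bot] at this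
    exact hz1 this
  · -- T ≠ 1
    have hTp : IsPGroup 2 ↥((S : Subgroup G) ⊓ Subgroup.centralizer (X : Set G)) :=
      S.isPGroup'.to_le inf_le_left
    have hparT : Cfsg.IsParabolic 2 (Subgroup.normalizer
        (((S : Subgroup G) ⊓ Subgroup.centralizer (X : Set G) : Subgroup G) : Set G)) := by
      refine ⟨S, ?_⟩
      intro s hs
      apply mem_normalizer_of_conj_mem
      intro t ht
      obtain ⟨htS, htK⟩ := Subgroup.mem_inf.mp ht
      exact Subgroup.mem_inf.mpr ⟨mul_mem (mul_mem hs htS) (inv_mem hs),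
        Subgroup.Normal.conj_mem hKn t htK s⟩
    have h0 := pPrimeCore_inf_centralizer_eq_bot hG _ hTp hT hparT
    rw [eq_bot_iff, ← h0]
    refine le_inf le_rfl ?_
    rw [Subgroup.le_centralizer_iff]
    exact inf_le_right

end Cfsg.Agent.Lib.Helper7
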