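import Mathlib
import Cfsg.Prelude.Def_FusionSystem
import Cfsg.Agent.Lib.Helper7.ParkA2
import Cfsg.Agent.Lib.Helper7.MarksB2
import Cfsg.Agent.Lib.Helper7.MarksD

set_option autoImplicit false

universe u

namespace Cfsg.Agent.Lib.Helper7.Park

open Cfsg Cfsg.FusionSystem Cfsg.Agent.Lib.Helper7 Cfsg.Agent.Lib.Helper7.Marks MulAction

variable {Ω : Type u} [Group Ω] {S : Subgroup Ω}

theorem park_realize [Finite S] (F : FusionSystem S) :
    ∃ (G : Type u) (_ : Group G) (_ : Finite G) (ι : ↥S →* G), F.IsRealizedBy ι := by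
  classical
  let _ : Fintype (Subgroup (↥S × ↥S)) := Fintype.ofFinite _
  obtain ⟨c, M, hc, hMpos, hmarks⟩ := exists_uniform {E : Subgroup (↥S × ↥S) | IsTw F E}
    (fun D hD k => isTw_cj F hD k) (fun D hD D' hle => isTw_of_le F hD hle)
  -- stabilizers are twisted diagonals
  have hstab : ∀ x : XSet c, IsTw F (stabilizer (↥S × ↥S) x) := by
    intro x
    obtain ⟨D, k, hcD, hst⟩ := exists_stabilizer_XSet c x
    rw [hst]
    exact isTw_cj F (hc D hcD) k
  have hfixne : ∀ E : Subgroup (↥S × ↥S), IsTw F E → ∃ x : XSet c, ∀ e ∈ E, e • x = x := by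
    intro E hE
    have h1 := card_fixedPoints_XSet c E
    rw [hmarks E hE] at h1
    have h2 : 0 < Nat.card (fixedPoints E (XSet c)) := by rw [h1]; exact hMpos _
    obtain ⟨⟨x, hx⟩⟩ := (Nat.card_pos_iff.mp h2).1
    exact ⟨x, fun e he => hx ⟨e, he⟩⟩
  -- the group
  let R : ↥S → Equiv.Perm (XSet c) := fun t => MulAction.toPerm ((1, t) : ↥S × ↥S)
  let G : Subgroup (Equiv.Perm (XSet c)) := Subgroup.centralizer (Set.range R)
  have hGmem : ∀ g : Equiv.Perm (XSet c), g ∈ G ↔ ∀ (t : ↥S) (x : XSet c),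
      g (((1, t) : ↥S × ↥S) • x) = ((1, t) : ↥S × ↥S) • g x := by
    intro g
    constructor
    · intro hg t x
      have h1 := hg (R t) ⟨t, rfl⟩
      have h2 := congrArg (fun f : Equiv.Perm (XSet c) => f x) h1
      exact h2.symm
    · rintro hg _ ⟨t, rfl⟩
      ext x
      exact (hg t x).symm
  let ι₀ : ↥S →* Equiv.Perm (XSet c) := (MulAction.toPermHom (↥S × ↥S) (XSet c)).comp (MonoidHom.inl ↥S ↥S)
  have hι₀ : ∀ (s : ↥S) (x : XSet c), ι₀ s x = ((s, 1) : ↥S × ↥S) • x := fun s x => rfl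
  have hι₀G : ∀ s : ↥S, ι₀ s ∈ G := by
    intro s
    rw [hGmem]
    intro t x
    rw [hι₀, hι₀, smul_smul, smul_smul]
    congr 1
    show ((s * 1, 1 * t) : ↥S × ↥S) = (1 * s, t * 1)
    simp
  let ι : ↥S →* G := ι₀.codRestrict G hι₀G
  have hι : ∀ (s : ↥S) (x : XSet c), ((ι s : G) : Equiv.Perm (XSet c)) x = ((s, 1) : ↥S × ↥S) • x :=
    fun s x => rfl
  refine ⟨G, inferInstance, inferInstance, ι, ?_, ?_⟩
  · -- injectivity
    rw [injective_iff_map_eq_one]
    intro s hs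
    obtain ⟨x, -⟩ := hfixne ⊥ (isTw_of_le F (isTw_diag F) bot_le)
    have h1 : ((s, 1) : ↥S × ↥S) • x = x := by
      rw [← hι, hs]; rfl
    exact eq_one_of_isTw_left F (hstab x) (mem_stabilizer_iff.mpr h1)
  · intro P hP φ hφS
    constructor
    · intro hφ
      have : Finite ↥P := Finite.of_injective (Subgroup.inclusion hP) (Subgroup.inclusion_injective hP)
      -- Burnside
      have hfix : ∀ H' : Subgroup (↥P × ↥S),
          Nat.card (fixedPoints (H'.map (j₀ hP)) (XSet c)) =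
          Nat.card (fixedPoints (H'.map (jφ φ hφS)) (XSet c)) := by
        intro H'
        rw [card_fixedPoints_XSet, card_fixedPoints_XSet]
        by_cases h : IsTw F (H'.map (j₀ hP))
        · have h' := isTw_map_jφ_of_j₀ F hP φ hφS hφ H' h
          rw [hmarks _ h, hmarks _ h', Subgroup.card_map_of_injective (j₀_injective hP),
            Subgroup.card_map_of_injective (jφ_injective φ hφS (F.injective_of_mem hφ))]
        · have h' : ¬ IsTw F (H'.map (jφ φ hφS)) := fun h'' => h (isTw_map_j₀_of_jφ F hP φ hφS hφ H' h'')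
          rw [marks_eq_zero c {E : Subgroup (↥S × ↥S) | IsTw F E} (fun D hD k => isTw_cj F hD k) (fun D hD D' hle => isTw_of_le F hD hle) hc h,
            marks_eq_zero c {E : Subgroup (↥S × ↥S) | IsTw F E} (fun D hD k => isTw_cj F hD k) (fun D hD D' hle => isTw_of_le F hD hle) hc h']
      obtain ⟨e, he⟩ := exists_equiv_of_homs (XSet c) (j₀ hP) (jφ φ hφS) hfix
      have he' : ∀ (k' : ↥P × ↥S) (x : XSet c), e (j₀ hP k' • x) = jφ φ hφS k' • e x := he
      have heG : e ∈ G := by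
        rw [hGmem]
        intro t x
        have := he' (1, t) x
        rw [j₀_apply, jφ_apply] at this
        have e1 : Subgroup.inclusion hP (1 : ↥P) = 1 := map_one _
        have e2 : (⟨φ (1 : ↥P), hφS 1⟩ : ↥S) = 1 := Subtype.ext (map_one φ)
        rw [e1, e2] at this
        exact this
      refine ⟨⟨e, heG⟩, fun u => ?_⟩
      rw [eq_mul_inv_iff_mul_eq]
      apply Subtype.ext
      ext x
      show ((ι ⟨φ u, hφS u⟩ : G) : Equiv.Perm (XSet c)) (e x) = e (((ι ⟨u, hP u.2⟩ : G) : Equiv.Perm (XSet c)) x)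
      rw [hι, hι]
      have := he' (u, 1) x
      rw [j₀_apply, jφ_apply] at this
      exact this.symm
    · rintro ⟨g, hg⟩
      obtain ⟨x₀, hx₀⟩ := hfixne (diag S) (isTw_diag F)
      have hgG := (hGmem g.1).mp g.2
      have hconj : ∀ (u : ↥P) (x : XSet c),
          (((⟨φ u, hφS u⟩ : ↥S), (1 : ↥S)) : ↥S × ↥S) • (g : Equiv.Perm (XSet c)) x =
            (g : Equiv.Perm (XSet c)) ((((⟨u, hP u.2⟩ : ↥S), (1 : ↥S)) : ↥S × ↥S) • x) := by
        intro u x
        have h1 := hg u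
        rw [eq_mul_inv_iff_mul_eq] at h1
        have h2 := congrArg (fun f : G => (f : Equiv.Perm (XSet c)) x) h1
        exact h2
      have hmem : ∀ u : ↥P, (((⟨φ u, hφS u⟩ : ↥S), (⟨u, hP u.2⟩ : ↥S)) : ↥S × ↥S) ∈
          stabilizer (↥S × ↥S) ((g : Equiv.Perm (XSet c)) x₀) := by
        intro u
        rw [mem_stabilizer_iff]
        have e1 : (((⟨φ u, hφS u⟩ : ↥S), (⟨u, hP u.2⟩ : ↥S)) : ↥S × ↥S) =
            ((⟨φ u, hφS u⟩ : ↥S), (1 : ↥S)) * ((1 : ↥S), (⟨u, hP u.2⟩ : ↥S)) := by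
          show _ = ((⟨φ u, hφS u⟩ : ↥S) * 1, (1 : ↥S) * ⟨u, hP u.2⟩)
          rw [mul_one, one_mul]
        rw [e1, mul_smul, ← hgG, hconj, smul_smul]
        have e2 : (((⟨u, hP u.2⟩ : ↥S), (1 : ↥S)) : ↥S × ↥S) * ((1 : ↥S), (⟨u, hP u.2⟩ : ↥S)) =
            ((⟨u, hP u.2⟩ : ↥S), (⟨u, hP u.2⟩ : ↥S)) := by
          show ((⟨u, hP u.2⟩ : ↥S) * 1, (1 : ↥S) * ⟨u, hP u.2⟩) = _
          rw [mul_one, one_mul]
        rw [e2, hx₀ _ (mem_diag.mpr rfl)]
      obtain ⟨T', θ', hθ', hiff⟩ := hstab ((g : Equiv.Perm (XSet c)) x₀)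
      have hu : ∀ u : ↥P, ∃ h : φ u ∈ T', θ' ⟨φ u, h⟩ = (u : Ω) := fun u => (hiff _ _).mp (hmem u)
      have hle : φ.range ≤ T' := by
        rintro _ ⟨u, rfl⟩
        exact (hu u).1
      set θ'' : φ.range →* Ω := θ'.comp (Subgroup.inclusion hle) with hθ''
      have hθ''mem : θ'' ∈ F.Hom φ.range := fs_restrict_mem F hle hθ'
      have hval : ∀ u : ↥P, θ'' ⟨φ u, ⟨u, rfl⟩⟩ = (u : Ω) := by
        intro u
        obtain ⟨h, e⟩ := hu u
        exact e
      have hr : θ''.range = P := by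
        ext y
        constructor
        · rintro ⟨⟨_, u, rfl⟩, rfl⟩
          rw [hval]; exact u.2
        · intro hy
          exact ⟨⟨φ ⟨y, hy⟩, ⟨⟨y, hy⟩, rfl⟩⟩, hval ⟨y, hy⟩⟩
      have hsymm := fs_iso_symm_mem F hθ''mem hr
      convert hsymm using 1
      ext u
      show φ u = (((isoOfRange θ'' (F.injective_of_mem hθ''mem) hr).symm u : φ.range) : Ω)
      have h3 : (isoOfRange θ'' (F.injective_of_mem hθ''mem) hr).symm u = ⟨φ u, ⟨u, rfl⟩⟩ := by
        apply (isoOfRange θ'' (F.injective_of_mem hθ''mem) hr).injective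
        rw [MulEquiv.apply_symm_apply]
        apply Subtype.ext
        rw [isoOfRange_coe, hval]
      rw [h3]

end Cfsg.Agent.Lib.Helper7.Park
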