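import Mathlib

set_option autoImplicit false

namespace Cfsg.Agent.Lib.Helper7

open Nat

/-- existence of a least element in a nonempty multiset of naturals -/
theorem multiset_exists_min_h7 (s : Multiset ℕ) (hs : s ≠ 0) : ∃ a ∈ s, ∀ x ∈ s, a ≤ x := by
  have hne : s.toFinset.Nonempty := by
    obtain ⟨x, hx⟩ := Multiset.exists_mem_of_ne_zero hs
    exact ⟨x, Multiset.mem_toFinset.mpr hx⟩
  obtain ⟨a, ha, hmin⟩ := s.toFinset.exists_min_image id hne
  exact ⟨a, Multiset.mem_toFinset.mp ha, fun x hx => hmin x (Multiset.mem_toFinset.mpr hx)⟩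

/-- the multiset obtained by lowering the least part by one (dropping it if it was `1`). -/
noncomputable def lowerMin (s : Multiset ℕ) : Multiset ℕ × Bool :=
  if hs : s = 0 then (0, true) else
    let a := Classical.choose (multiset_exists_min_h7 s hs)
    if a = 1 then (s.erase 1, true) else (s.erase a + {a - 1}, false)

theorem lowerMin_spec (s : Multiset ℕ) (hs : s ≠ 0) :
    ∃ a ∈ s, (∀ x ∈ s, a ≤ x) ∧
      lowerMin s = if a = 1 then (s.erase 1, true) else (s.erase a + {a - 1}, false) := by
  have h := Classical.choose_spec (multiset_exists_min_h7 s hs)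
  refine ⟨Classical.choose (multiset_exists_min_h7 s hs), h.1, h.2, ?_⟩
  unfold lowerMin
  rw [dif_neg hs]

theorem lowerMin_injOn {s t : Multiset ℕ} (hs : s ≠ 0) (ht : t ≠ 0)
    (hs0 : ∀ x ∈ s, 0 < x) (ht0 : ∀ x ∈ t, 0 < x) (h : lowerMin s = lowerMin t) : s = t := by
  obtain ⟨a, has, hamin, ea⟩ := lowerMin_spec s hs
  obtain ⟨b, hbt, hbmin, eb⟩ := lowerMin_spec t ht
  rw [ea, eb] at h
  by_cases ha1 : a = 1
  · by_cases hb1 : b = 1
    · rw [if_pos ha1, if_pos hb1] at h
      have h1 : s.erase 1 = t.erase 1 := (Prod.mk.inj h).1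
      rw [ha1] at has
      rw [hb1] at hbt
      calc s = 1 ::ₘ s.erase 1 := (Multiset.cons_erase has).symm
        _ = 1 ::ₘ t.erase 1 := by rw [h1]
        _ = t := Multiset.cons_erase hbt
    · rw [if_pos ha1, if_neg hb1] at h
      exact absurd (Prod.mk.inj h).2 (by simp)
  · by_cases hb1 : b = 1
    · rw [if_neg ha1, if_pos hb1] at h
      exact absurd (Prod.mk.inj h).2 (by simp)
    · rw [if_neg ha1, if_neg hb1] at h
      have h1 : s.erase a + {a - 1} = t.erase b + {b - 1} := (Prod.mk.inj h).1
      have ha2 : 2 ≤ a := by have := hs0 a has; omega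
      have hb2 : 2 ≤ b := by have := ht0 b hbt; omega
      -- `a - 1` is a least element of the common multiset, and so is `b - 1`
      have hmem_a : a - 1 ∈ t.erase b + {b - 1} := by
        rw [← h1]; exact Multiset.mem_add.mpr (Or.inr (Multiset.mem_singleton_self _))
      have hmem_b : b - 1 ∈ s.erase a + {a - 1} := by
        rw [h1]; exact Multiset.mem_add.mpr (Or.inr (Multiset.mem_singleton_self _))
      have hle1 : b - 1 ≤ a - 1 := by
        rcases Multiset.mem_add.mp hmem_a with h2 | h2
        · have := hbmin _ (Multiset.mem_of_mem_erase h2); omega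
        · rw [Multiset.mem_singleton] at h2; omega
      have hle2 : a - 1 ≤ b - 1 := by
        rcases Multiset.mem_add.mp hmem_b with h2 | h2
        · have := hamin _ (Multiset.mem_of_mem_erase h2); omega
        · rw [Multiset.mem_singleton] at h2; omega
      have hab : a = b := by omega
      subst hab
      have h3 : s.erase a = t.erase a := add_right_cancel h1
      calc s = a ::ₘ s.erase a := (Multiset.cons_erase has).symm
        _ = a ::ₘ t.erase a := by rw [h3]
        _ = t := Multiset.cons_erase hbt

theorem lowerMin_sum {s : Multiset ℕ} (hs : s ≠ 0) (hs0 : ∀ x ∈ s, 0 < x) :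
    (lowerMin s).1.sum + 1 = s.sum ∧ ∀ x ∈ (lowerMin s).1, 0 < x := by
  obtain ⟨a, has, hamin, ea⟩ := lowerMin_spec s hs
  rw [ea]
  have hsum : s.sum = a + (s.erase a).sum := by
    conv_lhs => rw [← Multiset.cons_erase has]
    rw [Multiset.sum_cons]
  by_cases ha1 : a = 1
  · rw [if_pos ha1]
    subst ha1
    refine ⟨by simp only; omega, fun x hx => hs0 x (Multiset.mem_of_mem_erase hx)⟩
  · rw [if_neg ha1]
    have ha2 : 2 ≤ a := by have := hs0 a has; omega
    refine ⟨by simp only [Multiset.sum_add, Multiset.sum_singleton]; omega, fun x hx => ?_⟩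
    rcases Multiset.mem_add.mp hx with h2 | h2
    · exact hs0 x (Multiset.mem_of_mem_erase h2)
    · rw [Multiset.mem_singleton] at h2; omega

/-- `p(m+1) ≤ 2 p(m)`. -/
theorem card_partition_succ_le (m : ℕ) :
    Fintype.card (Nat.Partition (m + 1)) ≤ 2 * Fintype.card (Nat.Partition m) := by
  have hne : ∀ q : Nat.Partition (m + 1), q.parts ≠ 0 := by
    intro q h
    have := q.parts_sum
    rw [h] at this
    simp at this
  let f : Nat.Partition (m + 1) → Nat.Partition m × Bool := fun q =>
    (⟨(lowerMin q.parts).1, fun {i} hi => (lowerMin_sum (hne q) (fun x hx => q.parts_pos hx)).2 i hi, by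
      have := (lowerMin_sum (hne q) (fun x hx => q.parts_pos hx)).1
      rw [q.parts_sum] at this
      omega⟩, (lowerMin q.parts).2)
  have hf : Function.Injective f := by
    intro q r h
    have h1 : (lowerMin q.parts).1 = (lowerMin r.parts).1 := by
      have := congrArg (fun z => z.1.parts) h
      exact this
    have h2 : (lowerMin q.parts).2 = (lowerMin r.parts).2 := by
      have h2' : (f q).2 = (f r).2 := congrArg Prod.snd h
      exact h2'
    have h3 : lowerMin q.parts = lowerMin r.parts := Prod.ext h1 h2
    exact Nat.Partition.ext (lowerMin_injOn (hne q) (hne r) (fun x hx => q.parts_pos hx)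
      (fun x hx => r.parts_pos hx) h3)
  have := Fintype.card_le_of_injective f hf
  rw [Fintype.card_prod, Fintype.card_bool] at this
  omega


/-- `p(5) ≤ 7`. -/
theorem card_partition_five_le : Fintype.card (Nat.Partition 5) ≤ 7 := by
  let T : Finset (ℕ × ℕ × ℕ × ℕ) :=
    ((Finset.range 3) ×ˢ (Finset.range 2) ×ˢ (Finset.range 2) ×ˢ (Finset.range 2)).filter
      (fun x => 2 * x.1 + 3 * x.2.1 + 4 * x.2.2.1 + 5 * x.2.2.2 ≤ 5)
  have hT : T.card = 7 := by decide
  have hsum : ∀ q : Nat.Partition 5,
      q.parts.count 1 + 2 * q.parts.count 2 + 3 * q.parts.count 3 + 4 * q.parts.count 4 +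
        5 * q.parts.count 5 = 5 := by
    intro q
    have hsub : q.parts.toFinset ⊆ Finset.range 6 := by
      intro x hx
      rw [Multiset.mem_toFinset] at hx
      have := Multiset.le_sum_of_mem hx
      rw [q.parts_sum] at this
      exact Finset.mem_range.mpr (by omega)
    have h := Finset.sum_multiset_count_of_subset q.parts (Finset.range 6) hsub
    rw [q.parts_sum] at h
    simp only [Finset.sum_range_succ, Finset.sum_range_zero, smul_eq_mul] at h
    omega
  let f : Nat.Partition 5 → T := fun q =>
    ⟨(q.parts.count 2, q.parts.count 3, q.parts.count 4, q.parts.count 5), by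
      have := hsum q
      simp only [T, Finset.mem_filter, Finset.mem_product, Finset.mem_range]
      omega⟩
  have hf : Function.Injective f := by
    intro q r h
    have h' : (q.parts.count 2, q.parts.count 3, q.parts.count 4, q.parts.count 5) =
        (r.parts.count 2, r.parts.count 3, r.parts.count 4, r.parts.count 5) :=
      congrArg Subtype.val h
    simp only [Prod.mk.injEq] at h'
    obtain ⟨h2, h3, h4, h5⟩ := h'
    have hq := hsum q
    have hr := hsum r
    have h1 : q.parts.count 1 = r.parts.count 1 := by omega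
    apply Nat.Partition.ext
    ext a
    by_cases ha : a ∈ ({1, 2, 3, 4, 5} : Finset ℕ)
    · simp only [Finset.mem_insert, Finset.mem_singleton] at ha
      rcases ha with rfl | rfl | rfl | rfl | rfl <;> assumption
    · have hnot : ∀ s : Nat.Partition 5, a ∉ s.parts := by
        intro s hs
        have h1 := Multiset.le_sum_of_mem hs
        rw [s.parts_sum] at h1
        have h2 := s.parts_pos hs
        apply ha
        simp only [Finset.mem_insert, Finset.mem_singleton]
        omega
      rw [Multiset.count_eq_zero_of_notMem (hnot q), Multiset.count_eq_zero_of_notMem (hnot r)]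
  have := Fintype.card_le_of_injective f hf
  rwa [Fintype.card_coe, hT] at this

/-- `p(n) ≤ 2^(n-2)` for `n ≥ 5`. -/
theorem card_partition_le_two_pow (n : ℕ) (hn : 5 ≤ n) :
    Fintype.card (Nat.Partition n) ≤ 2 ^ (n - 2) := by
  induction n, hn using Nat.le_induction with
  | base => exact card_partition_five_le.trans (by norm_num)
  | succ m hm ih =>
    have h1 := card_partition_succ_le m
    have h2 : 2 ^ (m + 1 - 2) = 2 * 2 ^ (m - 2) := by
      have : m + 1 - 2 = (m - 2) + 1 := by omega
      rw [this, pow_succ]; ring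
    rw [h2]
    omega


theorem card_conjClasses_perm_le_partition (n : ℕ) :
    Nat.card (ConjClasses (Equiv.Perm (Fin n))) ≤ Fintype.card (Nat.Partition n) := by
  classical
  let f : ConjClasses (Equiv.Perm (Fin n)) → Nat.Partition (Fintype.card (Fin n)) := fun c =>
    (Classical.choose (ConjClasses.exists_rep c)).partition
  have hf : Function.Injective f := by
    intro c d h
    have h1 : IsConj (Classical.choose (ConjClasses.exists_rep c))
        (Classical.choose (ConjClasses.exists_rep d)) := Equiv.Perm.partition_eq_of_isConj.mpr h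
    rw [← ConjClasses.mk_eq_mk_iff_isConj, Classical.choose_spec (ConjClasses.exists_rep c),
      Classical.choose_spec (ConjClasses.exists_rep d)] at h1
    exact h1
  have h2 := Nat.card_le_card_of_injective f hf
  rw [Fintype.card_fin] at h2
  rwa [Nat.card_eq_fintype_card (α := Nat.Partition n)] at h2

theorem card_conjClasses_perm_le (n : ℕ) (hn : 5 ≤ n) :
    Nat.card (ConjClasses (Equiv.Perm (Fin n))) ≤ 2 ^ (n - 2) :=
  (card_conjClasses_perm_le_partition n).trans (card_partition_le_two_pow n hn)

end Cfsg.Agent.Lib.Helper7
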