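import Mathlib

/-!
# Bases of permutation groups

Let a finite group act faithfully or not through a homomorphism `φ` to a group of permutations.  If the orbits of
three points under the successive stabilisers have at least `n₁`, `n₂`, `n₃` elements, where the group has
`n₁ n₂ n₃` elements, then an element that fixes the three points is trivial.
-/

set_option autoImplicit false

namespace Cfsg.Agent.Lib.Helper7.PB

variable {G : Type*} [Group G] {X : Type*} (φ : G →* Equiv.Perm X)

/-- the elements of a subgroup that fix a point -/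
def fixS (S : Subgroup G) (b : X) : Subgroup G where
  carrier := {g | g ∈ S ∧ φ g b = b}
  one_mem' := ⟨S.one_mem, by rw [map_one]; rfl⟩
  mul_mem' := by
    rintro g h ⟨hg, hgb⟩ ⟨hh, hhb⟩
    refine ⟨S.mul_mem hg hh, ?_⟩
    rw [map_mul, Equiv.Perm.mul_apply, hhb, hgb]
  inv_mem' := by
    rintro g ⟨hg, hgb⟩
    refine ⟨S.inv_mem hg, ?_⟩
    rw [map_inv, Equiv.Perm.inv_eq_iff_eq]
    exact hgb.symm

theorem mem_fixS {S : Subgroup G} {b : X} {g : G} : g ∈ fixS φ S b ↔ g ∈ S ∧ φ g b = b := Iff.rfl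

/-- elements of a subgroup with different images of a point lie in different cosets of the stabiliser of the point -/
theorem card_fixS_le [Finite G] (S : Subgroup G) (b : X) (m : ℕ) (u : Fin m → G) (hu : ∀ i, u i ∈ S)
    (hinj : Function.Injective fun i => φ (u i) b) : m * Nat.card ↥(fixS φ S b) ≤ Nat.card ↥S := by
  have hI : Function.Injective
      (fun p : Fin m × ↥(fixS φ S b) => (⟨u p.1 * p.2.1, S.mul_mem (hu p.1) p.2.2.1⟩ : ↥S)) := by
    rintro ⟨i, s⟩ ⟨j, s'⟩ h
    have h1 : u i * s.1 = u j * s'.1 := congrArg Subtype.val h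
    have h2 : φ (u i) b = φ (u j) b := by
      have h3 := congrArg (fun g => φ g b) h1
      simp only [map_mul, Equiv.Perm.mul_apply] at h3
      rw [s.2.2, s'.2.2] at h3
      exact h3
    have hij : i = j := hinj h2
    subst hij
    have h4 : s.1 = s'.1 := mul_left_cancel h1
    exact Prod.ext rfl (Subtype.ext h4)
  have h := Nat.card_le_card_of_injective _ hI
  rwa [Nat.card_prod, Nat.card_fin] at h

/-- **an element that fixes the three points of a base is trivial** -/
theorem eq_one_of_fix3 [Finite G] (b1 b2 b3 : X) (n1 n2 n3 : ℕ) (hc : Nat.card G = n1 * n2 * n3)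
    (u1 : Fin n1 → G) (h1 : Function.Injective fun i => φ (u1 i) b1)
    (u2 : Fin n2 → G) (h2f : ∀ j, φ (u2 j) b1 = b1) (h2 : Function.Injective fun j => φ (u2 j) b2)
    (u3 : Fin n3 → G) (h3f : ∀ k, φ (u3 k) b1 = b1 ∧ φ (u3 k) b2 = b2)
    (h3 : Function.Injective fun k => φ (u3 k) b3)
    (g : G) (hg1 : φ g b1 = b1) (hg2 : φ g b2 = b2) (hg3 : φ g b3 = b3) : g = 1 := by
  set S1 := fixS φ ⊤ b1 with hS1
  set S2 := fixS φ S1 b2 with hS2
  set S3 := fixS φ S2 b3 with hS3
  have c1 : n1 * Nat.card ↥S1 ≤ Nat.card ↥(⊤ : Subgroup G) :=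
    card_fixS_le φ ⊤ b1 n1 u1 (fun _ => Subgroup.mem_top _) h1
  have c2 : n2 * Nat.card ↥S2 ≤ Nat.card ↥S1 :=
    card_fixS_le φ S1 b2 n2 u2 (fun j => ⟨Subgroup.mem_top _, h2f j⟩) h2
  have c3 : n3 * Nat.card ↥S3 ≤ Nat.card ↥S2 :=
    card_fixS_le φ S2 b3 n3 u3 (fun k => ⟨⟨Subgroup.mem_top _, (h3f k).1⟩, (h3f k).2⟩) h3
  rw [Subgroup.card_top, hc] at c1
  have hpos : 0 < n1 * n2 * n3 := by
    rw [← hc]
    exact Nat.card_pos
  have c4 : n1 * n2 * n3 * Nat.card ↥S3 ≤ n1 * n2 * n3 * 1 := by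
    calc n1 * n2 * n3 * Nat.card ↥S3 = n1 * (n2 * (n3 * Nat.card ↥S3)) := by ring
      _ ≤ n1 * (n2 * Nat.card ↥S2) := Nat.mul_le_mul_left _ (Nat.mul_le_mul_left _ c3)
      _ ≤ n1 * Nat.card ↥S1 := Nat.mul_le_mul_left _ c2
      _ ≤ n1 * n2 * n3 := c1
      _ = n1 * n2 * n3 * 1 := (Nat.mul_one _).symm
  have c5 : Nat.card ↥S3 ≤ 1 := Nat.le_of_mul_le_mul_left c4 hpos
  have hb : S3 = ⊥ := (Subgroup.card_le_one_iff_eq_bot S3).1 c5
  have hg : g ∈ S3 := ⟨⟨⟨Subgroup.mem_top _, hg1⟩, hg2⟩, hg3⟩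
  rw [hb, Subgroup.mem_bot] at hg
  exact hg

/-! ### lists of entries with increasing heads -/

/-- the heads of the entries increase strictly -/
def incH : List (List ℕ) → Bool
  | [] => true
  | [_] => true
  | a :: b :: r => Nat.blt a.headI b.headI && incH (b :: r)

theorem pairwise_of_incH : ∀ l : List (List ℕ), incH l = true → l.Pairwise fun a b => a.headI < b.headI
  | [], _ => List.Pairwise.nil
  | [_], _ => List.pairwise_singleton _ _
  | a :: b :: r, h => by
    rw [incH, Bool.and_eq_true] at h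
    have hab : a.headI < b.headI := by simpa [Nat.blt] using h.1
    have ih := pairwise_of_incH (b :: r) h.2
    have ih' := List.pairwise_cons.1 ih
    rw [List.pairwise_cons]
    refine ⟨?_, ih⟩
    intro x hx
    rcases List.mem_cons.1 hx with rfl | hx
    · exact hab
    · exact lt_trans hab (ih'.1 x hx)

theorem head_injective {l : List (List ℕ)} (h : incH l = true) :
    Function.Injective fun i : Fin l.length => (l.get i).headI := by
  have hp := pairwise_of_incH l h
  rw [List.pairwise_iff_get] at hp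
  intro i j hij
  rcases lt_trichotomy i j with hlt | heq | hgt
  · exact absurd hij (Nat.ne_of_lt (hp i j hlt))
  · exact heq
  · exact absurd hij.symm (Nat.ne_of_lt (hp j i hgt))

end Cfsg.Agent.Lib.Helper7.PB
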