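import Cfsg.Agent.Lib.Helper7.PermBase

/-!
# Bases of permutation groups: five points

If the orbits of five points under the successive stabilisers have at least `n₁`, …, `n₅` elements, where the
group has `n₁ n₂ n₃ n₄ n₅` elements, then an element that fixes the five points is trivial.
-/

set_option autoImplicit false

namespace Cfsg.Agent.Lib.Helper7.PB

variable {G : Type*} [Group G] {X : Type*} (φ : G →* Equiv.Perm X)

/-- **an element that fixes the five points of a base is trivial** -/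
theorem eq_one_of_fix5 [Finite G] (b1 b2 b3 b4 b5 : X) (n1 n2 n3 n4 n5 : ℕ)
    (hc : Nat.card G = n1 * n2 * n3 * n4 * n5)
    (u1 : Fin n1 → G) (h1 : Function.Injective fun i => φ (u1 i) b1)
    (u2 : Fin n2 → G) (h2f : ∀ j, φ (u2 j) b1 = b1) (h2 : Function.Injective fun j => φ (u2 j) b2)
    (u3 : Fin n3 → G) (h3f : ∀ k, φ (u3 k) b1 = b1 ∧ φ (u3 k) b2 = b2)
    (h3 : Function.Injective fun k => φ (u3 k) b3)
    (u4 : Fin n4 → G) (h4f : ∀ k, φ (u4 k) b1 = b1 ∧ φ (u4 k) b2 = b2 ∧ φ (u4 k) b3 = b3)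
    (h4 : Function.Injective fun k => φ (u4 k) b4)
    (u5 : Fin n5 → G)
    (h5f : ∀ k, φ (u5 k) b1 = b1 ∧ φ (u5 k) b2 = b2 ∧ φ (u5 k) b3 = b3 ∧ φ (u5 k) b4 = b4)
    (h5 : Function.Injective fun k => φ (u5 k) b5)
    (g : G) (hg1 : φ g b1 = b1) (hg2 : φ g b2 = b2) (hg3 : φ g b3 = b3) (hg4 : φ g b4 = b4)
    (hg5 : φ g b5 = b5) : g = 1 := by
  set S1 := fixS φ ⊤ b1 with hS1
  set S2 := fixS φ S1 b2 with hS2
  set S3 := fixS φ S2 b3 with hS3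
  set S4 := fixS φ S3 b4 with hS4
  set S5 := fixS φ S4 b5 with hS5
  have c1 : n1 * Nat.card ↥S1 ≤ Nat.card ↥(⊤ : Subgroup G) :=
    card_fixS_le φ ⊤ b1 n1 u1 (fun _ => Subgroup.mem_top _) h1
  have c2 : n2 * Nat.card ↥S2 ≤ Nat.card ↥S1 :=
    card_fixS_le φ S1 b2 n2 u2 (fun j => ⟨Subgroup.mem_top _, h2f j⟩) h2
  have c3 : n3 * Nat.card ↥S3 ≤ Nat.card ↥S2 :=
    card_fixS_le φ S2 b3 n3 u3 (fun k => ⟨⟨Subgroup.mem_top _, (h3f k).1⟩, (h3f k).2⟩) h3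
  have c4 : n4 * Nat.card ↥S4 ≤ Nat.card ↥S3 :=
    card_fixS_le φ S3 b4 n4 u4
      (fun k => ⟨⟨⟨Subgroup.mem_top _, (h4f k).1⟩, (h4f k).2.1⟩, (h4f k).2.2⟩) h4
  have c5 : n5 * Nat.card ↥S5 ≤ Nat.card ↥S4 :=
    card_fixS_le φ S4 b5 n5 u5
      (fun k => ⟨⟨⟨⟨Subgroup.mem_top _, (h5f k).1⟩, (h5f k).2.1⟩, (h5f k).2.2.1⟩, (h5f k).2.2.2⟩) h5
  rw [Subgroup.card_top, hc] at c1
  have hpos : 0 < n1 * n2 * n3 * n4 * n5 := by
    rw [← hc]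
    exact Nat.card_pos
  have c6 : n1 * n2 * n3 * n4 * n5 * Nat.card ↥S5 ≤ n1 * n2 * n3 * n4 * n5 * 1 := by
    calc n1 * n2 * n3 * n4 * n5 * Nat.card ↥S5 = n1 * (n2 * (n3 * (n4 * (n5 * Nat.card ↥S5)))) := by ring
      _ ≤ n1 * (n2 * (n3 * (n4 * Nat.card ↥S4))) :=
        Nat.mul_le_mul_left _ (Nat.mul_le_mul_left _ (Nat.mul_le_mul_left _ (Nat.mul_le_mul_left _ c5)))
      _ ≤ n1 * (n2 * (n3 * Nat.card ↥S3)) :=
        Nat.mul_le_mul_left _ (Nat.mul_le_mul_left _ (Nat.mul_le_mul_left _ c4))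
      _ ≤ n1 * (n2 * Nat.card ↥S2) := Nat.mul_le_mul_left _ (Nat.mul_le_mul_left _ c3)
      _ ≤ n1 * Nat.card ↥S1 := Nat.mul_le_mul_left _ c2
      _ ≤ n1 * n2 * n3 * n4 * n5 := c1
      _ = n1 * n2 * n3 * n4 * n5 * 1 := (Nat.mul_one _).symm
  have c7 : Nat.card ↥S5 ≤ 1 := Nat.le_of_mul_le_mul_left c6 hpos
  have hb : S5 = ⊥ := (Subgroup.card_le_one_iff_eq_bot S5).1 c7
  have hg : g ∈ S5 := ⟨⟨⟨⟨⟨Subgroup.mem_top _, hg1⟩, hg2⟩, hg3⟩, hg4⟩, hg5⟩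
  rw [hb, Subgroup.mem_bot] at hg
  exact hg

end Cfsg.Agent.Lib.Helper7.PB
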