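import Mathlib

/-!
# A power lemma for automorphisms of abelian `p`-groups of small nilpotency

If an endomorphism `σ` of a commutative group satisfies `σ^p z = z` and the commutator map
`a ↦ σ a / a` is nilpotent of degree `c ≤ n (p - 1) + 1`, then `σ` fixes `z ^ (p ^ n)`.
-/

set_option autoImplicit false

namespace Cfsg.Agent.Lib.Helper7.PowZ

open Polynomial

/-- `(1 + X)^p = 1 + X^p + p X (1 + X U)` in `ℤ[X]` -/
theorem exists_poly (p : ℕ) (hp : p.Prime) :
    ∃ U : ℤ[X], (1 + X : ℤ[X]) ^ p = 1 + X ^ p + (p : ℤ[X]) * X * (1 + X * U) := by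
  obtain ⟨r, hr⟩ := exists_add_pow_prime_eq hp (1 : ℤ[X]) X
  have h0 : r.coeff 0 = 1 := by
    have h := congrArg (fun f : ℤ[X] => f.coeff 1) hr
    simp only [one_pow, mul_one] at h
    rw [coeff_one_add_X_pow, Nat.choose_one_right] at h
    have e : ((p : ℤ[X]) * X * r) = (p : ℤ[X]) * (X * r) := by ring
    rw [coeff_add, coeff_add, e, coeff_natCast_mul] at h
    have e1 : (X * r : ℤ[X]).coeff 1 = r.coeff 0 := coeff_X_mul r 0
    rw [e1, coeff_X_pow, coeff_one] at h
    have hp1 : (1 : ℕ) ≠ p := hp.one_lt.ne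
    simp only [one_ne_zero, if_false, hp1, zero_add] at h
    have hp0 : (p : ℤ) ≠ 0 := by exact_mod_cast hp.ne_zero
    have : (p : ℤ) * 1 = (p : ℤ) * r.coeff 0 := by simpa using h
    exact (mul_left_cancel₀ hp0 this).symm
  refine ⟨r.divX, ?_⟩
  have e : r = 1 + X * r.divX := by
    conv_lhs => rw [← divX_mul_X_add r]
    rw [h0]; simp; ring
  rw [hr, ← e]; ring

/-- the ideal-theoretic induction -/
theorem pow_mul_pow_mem {R : Type*} [CommRing R] (p : ℕ) (hp : 2 ≤ p) (t U : R) (I : Ideal R) (c : ℕ)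
    (h1 : t ^ c ∈ I) (h2 : (1 + t) ^ p - 1 ∈ I)
    (hU : (1 + t) ^ p = 1 + t ^ p + (p : R) * t * (1 + t * U)) :
    ∀ d j i : ℕ, c ≤ j + d → 1 ≤ j → c ≤ i * (p - 1) + j → (p : R) ^ i * t ^ j ∈ I := by
  have base : ∀ j i : ℕ, c ≤ j → (p : R) ^ i * t ^ j ∈ I := by
    intro j i hj
    obtain ⟨k, rfl⟩ := Nat.exists_eq_add_of_le hj
    rw [pow_add]
    have : (p : R) ^ i * (t ^ c * t ^ k) = ((p : R) ^ i * t ^ k) * t ^ c := by ring
    rw [this]
    exact I.mul_mem_left _ h1
  intro d
  induction d with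
  | zero =>
    intro j i hj _ _
    exact base j i (by omega)
  | succ d ih =>
    intro j i hj h1j hw
    by_cases hcj : c ≤ j
    · exact base j i hcj
    · rw [not_le] at hcj
      obtain ⟨i', rfl⟩ : ∃ i', i = i' + 1 := by
        rcases i with _ | i'
        · exfalso; simp at hw; omega
        · exact ⟨i', rfl⟩
      obtain ⟨j', rfl⟩ : ∃ j', j = j' + 1 := ⟨j - 1, by omega⟩
      obtain ⟨q, rfl⟩ : ∃ q, p = q + 2 := ⟨p - 2, by omega⟩
      have hA := ih (j' + (q + 2)) i' (by omega) (by omega) (by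
        have : (i' + 1) * (q + 2 - 1) = i' * (q + 2 - 1) + (q + 1) := by
          have : q + 2 - 1 = q + 1 := by omega
          rw [this]; ring
        omega)
      have hB := ih (j' + 2) (i' + 1) (by omega) (by omega) (by omega)
      have hC : ((q + 2 : ℕ) : R) ^ i' * t ^ j' * ((1 + t) ^ (q + 2) - 1) ∈ I := I.mul_mem_left _ h2
      have key : ((q + 2 : ℕ) : R) ^ (i' + 1) * t ^ (j' + 1) =
          ((q + 2 : ℕ) : R) ^ i' * t ^ j' * ((1 + t) ^ (q + 2) - 1)
            - ((q + 2 : ℕ) : R) ^ i' * t ^ (j' + (q + 2))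
            - U * (((q + 2 : ℕ) : R) ^ (i' + 1) * t ^ (j' + 2)) := by
        linear_combination (-(((q + 2 : ℕ) : R) ^ i' * t ^ j')) * hU
      rw [key]
      exact I.sub_mem (I.sub_mem hC hA) (I.mul_mem_left _ hB)

section lin

variable {M : Type*} [AddCommGroup M]

/-- the ideal of polynomials killing `m` under the action of `t` -/
def annIdeal (t : Module.End ℤ M) (m : M) : Ideal ℤ[X] where
  carrier := {f | (aeval t f) m = 0}
  add_mem' := by
    intro a b ha hb
    show (aeval t (a + b)) m = 0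
    rw [map_add, LinearMap.add_apply, ha.out, hb.out, add_zero]
  zero_mem' := by
    show (aeval t (0 : ℤ[X])) m = 0
    rw [map_zero, LinearMap.zero_apply]
  smul_mem' := by
    intro a f hf
    show (aeval t (a * f)) m = 0
    rw [map_mul, Module.End.mul_apply, hf.out, map_zero]

theorem mem_annIdeal (t : Module.End ℤ M) (m : M) (f : ℤ[X]) :
    f ∈ annIdeal t m ↔ (aeval t f) m = 0 := Iff.rfl

/-- linear form of the power lemma -/
theorem pow_smul_eq_zero (p : ℕ) (hp : p.Prime) (n c : ℕ) (hc : c ≤ n * (p - 1) + 1)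
    (t : Module.End ℤ M) (m : M) (h1 : (t ^ c) m = 0) (h2 : ((1 + t) ^ p) m = m) :
    (p ^ n) • t m = 0 := by
  obtain ⟨U, hU⟩ := exists_poly p hp
  have hX : (X : ℤ[X]) ^ c ∈ annIdeal t m := by
    rw [mem_annIdeal, map_pow, aeval_X]; exact h1
  have h2' : (1 + X : ℤ[X]) ^ p - 1 ∈ annIdeal t m := by
    rw [mem_annIdeal, map_sub, map_pow, map_add, map_one, aeval_X, LinearMap.sub_apply, h2,
      Module.End.one_apply, sub_self]
  have h := pow_mul_pow_mem p hp.two_le X U (annIdeal t m) c hX h2' hU c 1 n (by omega) le_rfl hc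
  rw [mem_annIdeal, map_mul, map_pow, map_natCast, pow_one, aeval_X, Module.End.mul_apply,
    ← Nat.cast_pow, Module.End.natCast_apply] at h
  exact h

end lin


section mul

variable {Z : Type*} [CommGroup Z]

/-- the linear map on `Additive Z` attached to an endomorphism of `Z` -/
def linOf (σ : Z →* Z) : Module.End ℤ (Additive Z) := (MonoidHom.toAdditive σ).toIntLinearMap

theorem linOf_apply (σ : Z →* Z) (a : Z) : linOf σ (Additive.ofMul a) = Additive.ofMul (σ a) := rfl

theorem linOf_sub_one_pow (σ : Z →* Z) (k : ℕ) (a : Z) :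
    ((linOf σ - 1) ^ k) (Additive.ofMul a) = Additive.ofMul ((fun a => σ a / a)^[k] a) := by
  induction k generalizing a with
  | zero => simp
  | succ k ih =>
    rw [pow_succ, Module.End.mul_apply, Function.iterate_succ_apply]
    have : (linOf σ - 1) (Additive.ofMul a) = Additive.ofMul (σ a / a) := by
      rw [LinearMap.sub_apply, linOf_apply, Module.End.one_apply]; rfl
    rw [this, ih]

theorem linOf_pow (σ : Z →* Z) (k : ℕ) (a : Z) :
    ((linOf σ) ^ k) (Additive.ofMul a) = Additive.ofMul ((⇑σ)^[k] a) := by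
  induction k generalizing a with
  | zero => simp
  | succ k ih =>
    rw [pow_succ, Module.End.mul_apply, Function.iterate_succ_apply, linOf_apply, ih]

/-- **Power lemma**, commutative multiplicative form. -/
theorem map_pow_pow_eq (p : ℕ) (hp : p.Prime) (n c : ℕ) (hc : c ≤ n * (p - 1) + 1)
    (σ : Z →* Z) (z : Z) (h1 : ∀ a : Z, (fun a => σ a / a)^[c] a = 1) (h2 : (⇑σ)^[p] z = z) :
    σ (z ^ (p ^ n)) = z ^ (p ^ n) := by
  have h := pow_smul_eq_zero p hp n c hc (linOf σ - 1) (Additive.ofMul z)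
    (by rw [linOf_sub_one_pow, h1]; rfl)
    (by rw [add_sub_cancel, linOf_pow, h2])
  rw [LinearMap.sub_apply, linOf_apply, Module.End.one_apply] at h
  have h' : (σ z / z) ^ (p ^ n) = 1 := by
    have : Additive.ofMul ((σ z / z) ^ (p ^ n)) = 0 := by
      rw [ofMul_pow]; exact h
    exact this
  rw [div_pow, div_eq_one] at h'
  rw [map_pow, h']

end mul

section center

open scoped IsMulCommutative

variable {H : Type*} [Group H]

theorem mulAut_pow_apply (α : MulAut H) (k : ℕ) (x : H) : (α ^ k) x = (⇑α)^[k] x := by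
  induction k generalizing x with
  | zero => simp
  | succ k ih => rw [pow_succ, MulAut.mul_apply, Function.iterate_succ_apply, ih]

theorem mulAut_apply_mem_center (α : MulAut H) {a : H} (ha : a ∈ Subgroup.center H) :
    α a ∈ Subgroup.center H := by
  rw [Subgroup.mem_center_iff] at ha ⊢
  intro g
  have h := ha (α.symm g)
  have h' := congrArg α h
  simpa using h'

/-- **Power lemma**, for an automorphism of a group acting on its centre. -/
theorem mulAut_pow_pow_eq (p : ℕ) (hp : p.Prime) (n c : ℕ) (hc : c ≤ n * (p - 1) + 1)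
    (α : MulAut H) (z : H) (hz : z ∈ Subgroup.center H)
    (h1 : ∀ a : H, (fun a => α a * a⁻¹)^[c] a = 1) (h2 : (α ^ p) z = z) :
    α (z ^ (p ^ n)) = z ^ (p ^ n) := by
  let σ : Subgroup.center H →* Subgroup.center H :=
    (α.toMonoidHom.comp (Subgroup.center H).subtype).codRestrict (Subgroup.center H)
      (fun a => mulAut_apply_mem_center α a.2)
  have hσ : ∀ a : Subgroup.center H, ((σ a : Subgroup.center H) : H) = α a := fun a => rfl
  have hiter : ∀ (k : ℕ) (a : Subgroup.center H),
      (((fun a => σ a / a)^[k] a : Subgroup.center H) : H) = (fun a => α a * a⁻¹)^[k] (a : H) := by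
    intro k
    induction k with
    | zero => intro a; rfl
    | succ k ih =>
      intro a
      rw [Function.iterate_succ_apply', Function.iterate_succ_apply', ← ih]
      show ((σ _ / _ : Subgroup.center H) : H) = _
      rw [Subgroup.coe_div, div_eq_mul_inv]
      rfl
  have hiter2 : ∀ (k : ℕ) (a : Subgroup.center H),
      (((⇑σ)^[k] a : Subgroup.center H) : H) = (⇑α)^[k] (a : H) := by
    intro k
    induction k with
    | zero => intro a; rfl
    | succ k ih =>
      intro a
      rw [Function.iterate_succ_apply', Function.iterate_succ_apply', ← ih]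
      rfl
  have h := map_pow_pow_eq p hp n c hc σ ⟨z, hz⟩
    (fun a => Subtype.ext (by rw [hiter, h1]; rfl))
    (Subtype.ext (by rw [hiter2, ← mulAut_pow_apply, h2]))
  have h' := congrArg (fun a : Subgroup.center H => (a : H)) h
  simpa [hσ] using h'

end center

end Cfsg.Agent.Lib.Helper7.PowZ
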