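import Mathlib
import Cfsg.Prelude.Def_FusionSystem
import Cfsg.Prelude.Def_PLocal
import Cfsg.Agent.Lib.Helper7.PowZA
import Cfsg.Agent.Lib.Helper7.Alperin5
import Cfsg.Agent.Lib.Helper7.ExtSystem2
import Cfsg.Agent.Lib.Helper7.FusionSat4
import Cfsg.Agent.Lib.Helper7.KNormalizerSat
import Cfsg.Agent.Lib.Lead.Conj

/-!
# Glauberman: `℧ⁿ(Z(S))` is normal in every saturated fusion system on `S` of class `≤ n(p-1)+1`
-/

set_option autoImplicit false
set_option linter.unusedSectionVars false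
set_option linter.unusedVariables false
set_option linter.style.haveILetI false

namespace Cfsg.Agent.Lib.Helper7.PowZ

open Cfsg Cfsg.FusionSystem Cfsg.Agent.Lib.Helper7

variable {Ω : Type*} [Group Ω] {S : Subgroup Ω}

/-- iterated commutators with an element of `S` descend the lower central series -/
theorem iterate_comm_mem_lcs {P : Subgroup Ω} (hPS : P ≤ S) (β : MulAut P) (g : Ω) (hg : g ∈ S)
    (hβ : ∀ x : P, ((β x : P) : Ω) = g * x * g⁻¹) (k : ℕ) (a : P) :
    (((fun a : P => β a * a⁻¹)^[k] a : P) : Ω) ∈ Subgroup.lowerCentralSeries S k := by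
  induction k with
  | zero => exact hPS a.2
  | succ k ih =>
    rw [Subgroup.lowerCentralSeries_succ, Subgroup.commutator_comm]
    have h1 := Subgroup.commutator_mem_commutator hg ih
    convert h1 using 1
    rw [Function.iterate_succ_apply']
    show ((β _ : P) : Ω) * _ = _
    rw [hβ]
    rfl

/-- the commutator map of a conjugate automorphism -/
theorem iterate_conj {H : Type*} [Group H] (α g : MulAut H) (k : ℕ) (a : H) :
    (fun a => (g * α * g⁻¹) a * a⁻¹)^[k] a = g ((fun a => α a * a⁻¹)^[k] (g⁻¹ a)) := by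
  induction k with
  | zero => simp
  | succ k ih =>
    rw [Function.iterate_succ_apply', Function.iterate_succ_apply', ih]
    simp [MulAut.mul_apply]

theorem iterate_comm_eq_one {P : Subgroup Ω} (hPS : P ≤ S) (c : ℕ)
    (hcl : Subgroup.lowerCentralSeries S c = ⊥) (β : MulAut P) (hβ : β ∈ autInducedBy S P) (a : P) :
    (fun a : P => β a * a⁻¹)^[c] a = 1 := by
  obtain ⟨g, hg, hβe⟩ := (mem_autInducedBy_iff S P β).mp hβ
  have h := iterate_comm_mem_lcs hPS β g hg hβe c a
  rw [hcl, Subgroup.mem_bot] at h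
  exact Subtype.ext h

section claimE

variable [Finite S] (p : ℕ) [Fact p.Prime] (hS : IsPGroup p S) (F : FusionSystem S)
  {P : Subgroup Ω}

theorem isSylowIn_autInducedBy (hFA : F.IsFullyAutomized p P) :
    haveI : Finite ↥P := Finite.of_injective (Subgroup.inclusion hFA.1) (Subgroup.inclusion_injective hFA.1)
    IsSylowIn p (autInducedBy S P) (F.autGroup P) := by
  obtain ⟨hPS, R, hR⟩ := hFA
  haveI : Finite ↥P := Finite.of_injective (Subgroup.inclusion hPS) (Subgroup.inclusion_injective hPS)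
  exact (isSylowIn_iff_exists_sylow (autInducedBy_le_autGroup F hPS)).mpr ⟨R, hR⟩

/-- an element of `Aut_S(P)` fixes the central elements of `S` lying in `P` -/
theorem autInducedBy_fix {z : Ω} (hz : z ∈ S ⊓ Subgroup.centralizer (S : Set Ω)) (hzP : z ∈ P)
    (β : MulAut P) (hβ : β ∈ autInducedBy S P) : β ⟨z, hzP⟩ = ⟨z, hzP⟩ := by
  obtain ⟨g, hg, hβe⟩ := (mem_autInducedBy_iff S P β).mp hβ
  apply Subtype.ext
  rw [hβe]
  have := (Subgroup.mem_centralizer_iff.mp hz.2) g hg
  show g * z * g⁻¹ = z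
  rw [this, mul_inv_cancel_right]

/-- every `p`-element of `Aut_F(P)` has nilpotent commutator map of degree `c` -/
theorem pElt_iterate_eq_one (hFA : F.IsFullyAutomized p P) (c : ℕ)
    (hcl : Subgroup.lowerCentralSeries S c = ⊥) (x : MulAut P) (hx : x ∈ F.autGroup P)
    (m : ℕ) (hxm : x ^ (p ^ m) = 1) (a : P) : (fun a : P => x a * a⁻¹)^[c] a = 1 := by
  have hPS := hFA.1
  haveI : Finite ↥P := Finite.of_injective (Subgroup.inclusion hPS) (Subgroup.inclusion_injective hPS)
  have hT := isSylowIn_autInducedBy p F hFA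
  have hBp : IsPGroup p ↥(Subgroup.zpowers x) := by
    rintro ⟨y, hy⟩
    obtain ⟨j, rfl⟩ := Subgroup.mem_zpowers_iff.mp hy
    refine ⟨m, Subtype.ext ?_⟩
    show (x ^ j) ^ (p ^ m) = 1
    rw [← zpow_natCast, ← zpow_mul, mul_comm, zpow_mul, zpow_natCast, hxm, one_zpow]
  obtain ⟨e, he, hconj⟩ := hT.exists_conj_le hBp (by
    rw [Subgroup.zpowers_le]; exact hx)
  have hβ := hconj x (Subgroup.mem_zpowers x)
  have hx' : x = e⁻¹ * (e * x * e⁻¹) * e⁻¹⁻¹ := by group
  rw [hx', iterate_conj, iterate_comm_eq_one hPS c hcl _ hβ, map_one]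

/-- one step: a `p`-element whose `p`-th power fixes `b = z^(p^n)` fixes `b` -/
theorem pElt_fix_step (hFA : F.IsFullyAutomized p P) (n c : ℕ) (hc : c ≤ n * (p - 1) + 1)
    (hcl : Subgroup.lowerCentralSeries S c = ⊥)
    {z : Ω} (hz : z ∈ S ⊓ Subgroup.centralizer (S : Set Ω)) (hzP : z ∈ P)
    (y : MulAut P) (hy : y ∈ F.autGroup P) (m : ℕ) (hym : y ^ (p ^ m) = 1)
    (hyp : (y ^ p) ((⟨z, hzP⟩ : P) ^ (p ^ n)) = (⟨z, hzP⟩ : P) ^ (p ^ n)) :
    y ((⟨z, hzP⟩ : P) ^ (p ^ n)) = (⟨z, hzP⟩ : P) ^ (p ^ n) := by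
  have hp : p.Prime := Fact.out
  have hPS := hFA.1
  haveI : Finite ↥P := Finite.of_injective (Subgroup.inclusion hPS) (Subgroup.inclusion_injective hPS)
  have hT := isSylowIn_autInducedBy p F hFA
  set b : P := (⟨z, hzP⟩ : P) ^ (p ^ n) with hb
  set Gb : Subgroup (MulAut P) := F.autGroup P ⊓ MulAction.stabilizer (MulAut P) b with hGb
  have hTGb : autInducedBy S P ≤ Gb := by
    intro β hβ
    refine Subgroup.mem_inf.mpr ⟨autInducedBy_le_autGroup F hPS hβ, ?_⟩
    rw [MulAction.mem_stabilizer_iff, MulAut.smul_def, hb, map_pow, autInducedBy_fix hz hzP β hβ]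
  have hT' : IsSylowIn p (autInducedBy S P) Gb := hT.of_le_mid hTGb inf_le_left
  have hypA : y ^ p ∈ Gb := by
    refine Subgroup.mem_inf.mpr ⟨Subgroup.pow_mem _ hy p, ?_⟩
    rw [MulAction.mem_stabilizer_iff, MulAut.smul_def]; exact hyp
  have hBp : IsPGroup p ↥(Subgroup.zpowers (y ^ p)) := by
    rintro ⟨u, hu⟩
    obtain ⟨j, rfl⟩ := Subgroup.mem_zpowers_iff.mp hu
    refine ⟨m, Subtype.ext ?_⟩
    show ((y ^ p) ^ j) ^ (p ^ m) = 1
    rw [← zpow_natCast, ← zpow_mul, mul_comm, zpow_mul, zpow_natCast, ← pow_mul, mul_comm, pow_mul,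
      hym, one_pow, one_zpow]
  obtain ⟨h, hh, hconj⟩ := hT'.exists_conj_le hBp (by rw [Subgroup.zpowers_le]; exact hypA)
  have hxp : (h * y * h⁻¹) ^ p ∈ autInducedBy S P := by
    rw [conj_pow]; exact hconj _ (Subgroup.mem_zpowers _)
  have hx'A : h * y * h⁻¹ ∈ F.autGroup P :=
    Subgroup.mul_mem _ (Subgroup.mul_mem _ (Subgroup.mem_inf.mp hh).1 hy) (Subgroup.inv_mem _ (Subgroup.mem_inf.mp hh).1)
  have hx'm : (h * y * h⁻¹) ^ (p ^ m) = 1 := by rw [conj_pow, hym]; group
  have hzc : (⟨z, hzP⟩ : P) ∈ Subgroup.center ↥P := by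
    rw [Subgroup.mem_center_iff]
    intro g
    apply Subtype.ext
    exact (Subgroup.mem_centralizer_iff.mp hz.2) g (hPS g.2)
  have key := mulAut_pow_pow_eq p hp n c hc (h * y * h⁻¹) (⟨z, hzP⟩ : P) hzc
    (fun a => pElt_iterate_eq_one p F hFA c hcl _ hx'A m hx'm a)
    (autInducedBy_fix hz hzP _ hxp)
  have hhb : h b = b := by
    have := (Subgroup.mem_inf.mp hh).2
    rwa [MulAction.mem_stabilizer_iff, MulAut.smul_def] at this
  have hhb' : h⁻¹ b = b := by
    rw [MulAut.inv_apply, MulEquiv.symm_apply_eq, hhb]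
  have : y = h⁻¹ * (h * y * h⁻¹) * h := by group
  rw [this, MulAut.mul_apply, MulAut.mul_apply, hhb, key, hhb']

/-- every `p`-element of `Aut_F(P)` fixes `z^(p^n)` -/
theorem pElt_fix (hFA : F.IsFullyAutomized p P) (n c : ℕ) (hc : c ≤ n * (p - 1) + 1)
    (hcl : Subgroup.lowerCentralSeries S c = ⊥)
    {z : Ω} (hz : z ∈ S ⊓ Subgroup.centralizer (S : Set Ω)) (hzP : z ∈ P) :
    ∀ (m : ℕ) (y : MulAut P), y ∈ F.autGroup P → y ^ (p ^ m) = 1 →
      y ((⟨z, hzP⟩ : P) ^ (p ^ n)) = (⟨z, hzP⟩ : P) ^ (p ^ n) := by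
  intro m
  induction m with
  | zero =>
    intro y _ hy1
    rw [pow_zero, pow_one] at hy1
    rw [hy1]; rfl
  | succ m ih =>
    intro y hy hym
    have h1 : (y ^ p) ^ (p ^ m) = 1 := by rw [← pow_mul, ← pow_succ']; exact hym
    have h2 := ih (y ^ p) (Subgroup.pow_mem _ hy p) h1
    exact pElt_fix_step p F hFA n c hc hcl hz hzP y hy (m + 1) hym h2

end claimE


/-! ### stabilizers of a subgroup -/

/-- the automorphisms of `P` stabilizing `W ∩ P` -/
def stabW (P W : Subgroup Ω) : Subgroup (MulAut P) where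
  carrier := {α | ∀ w : P, ((α w : P) : Ω) ∈ W ↔ (w : Ω) ∈ W}
  mul_mem' := by
    intro a b ha hb w
    rw [MulAut.mul_apply, ha, hb]
  one_mem' := by intro w; rfl
  inv_mem' := by
    intro a ha w
    have := ha (a⁻¹ w)
    rw [← this]
    simp

theorem mem_stabW (P W : Subgroup Ω) (α : MulAut P) :
    α ∈ stabW P W ↔ ∀ w : P, ((α w : P) : Ω) ∈ W ↔ (w : Ω) ∈ W := Iff.rfl

/-- an automorphism fixing the generators of `W ≤ P` fixes `W` pointwise -/
theorem fix_closure {P : Subgroup Ω} (G0 : Set Ω) (hWP : Subgroup.closure G0 ≤ P) (α : MulAut P)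
    (h : ∀ y ∈ G0, ∀ hy : y ∈ P, α ⟨y, hy⟩ = ⟨y, hy⟩) :
    ∀ w ∈ Subgroup.closure G0, ∀ hw : w ∈ P, α ⟨w, hw⟩ = ⟨w, hw⟩ := by
  intro w hw
  induction hw using Subgroup.closure_induction with
  | mem y hy => exact h y hy
  | one =>
    intro hw
    exact map_one α
  | mul x y hx hy ihx ihy =>
    intro hw
    have hxP := hWP hx
    have hyP := hWP hy
    have e : (⟨x * y, hw⟩ : P) = ⟨x, hxP⟩ * ⟨y, hyP⟩ := rfl
    rw [e, map_mul, ihx hxP, ihy hyP]
  | inv x hx ihx =>
    intro hw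
    have hxP := hWP hx
    have e : (⟨x⁻¹, hw⟩ : P) = (⟨x, hxP⟩ : P)⁻¹ := rfl
    rw [e, map_inv, ihx hxP]

theorem mem_stabW_of_fix {P W : Subgroup Ω} (α : MulAut P)
    (h : ∀ w ∈ W, ∀ hw : w ∈ P, α ⟨w, hw⟩ = ⟨w, hw⟩) : α ∈ stabW P W := by
  intro w
  constructor
  · intro hw
    have h1 := h _ hw (α w).2
    have h2 : α (α w) = α w := h1
    have h3 := α.injective h2
    rw [← h3]; exact hw
  · intro hw
    have h1 := h _ hw w.2
    have : (⟨(w : Ω), w.2⟩ : P) = w := rfl
    rw [this] at h1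
    rw [h1]; exact hw

section frat
variable {G : Type*} [Group G] [Finite G] {p : ℕ} [Fact p.Prime]

/-- Frattini argument, ambient form. -/
theorem frattini_amb {P N K : Subgroup G} (hP : IsSylowIn p P N) (hNK : N ≤ K)
    (hN : K ≤ Subgroup.normalizer (N : Set G)) :
    K ≤ (K ⊓ Subgroup.normalizer (P : Set G)) ⊔ N := by
  intro k hk
  have hkN := hN hk
  have hPk : IsSylowIn p (P.map (MulAut.conj k).toMonoidHom) N := by
    refine ⟨?_, ?_⟩
    · rintro _ ⟨x, hx, rfl⟩
      exact (Subgroup.mem_normalizer_iff.mp hkN x).mp (hP.1 hx)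
    · rw [Cfsg.Agent.Lib.Lead.Conj.card_map_conj]; exact hP.2
  obtain ⟨n, hn, e⟩ := hP.conj hPk
  have hmem : n⁻¹ * k ∈ Subgroup.normalizer (P : Set G) := by
    apply Cfsg.Agent.Lib.Lead.Conj.mem_normalizer_of_conj_mem
    intro r hr
    have h1 : k * r * k⁻¹ ∈ P.map (MulAut.conj k).toMonoidHom :=
      Cfsg.Agent.Lib.Lead.Conj.conj_mem_map_conj P k hr
    rw [e, Cfsg.Agent.Lib.Lead.Conj.mem_map_conj] at h1
    convert h1 using 1
    group
  have e2 : k = (n⁻¹ * k) * ((n⁻¹ * k)⁻¹ * n * (n⁻¹ * k)) := by group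
  rw [e2]
  apply Subgroup.mul_mem_sup
  · exact Subgroup.mem_inf.mpr ⟨Subgroup.mul_mem _ (Subgroup.inv_mem _ (hNK hn)) hk, hmem⟩
  · have hnk : n⁻¹ * k ∈ Subgroup.normalizer (N : Set G) :=
      Subgroup.mul_mem _ (Subgroup.inv_mem _ (Subgroup.le_normalizer hn)) hkN
    have := (Subgroup.mem_normalizer_iff.mp (Subgroup.inv_mem _ hnk) n).mp hn
    rw [inv_inv] at this
    exact this

end frat

/-! ### the subgroup generated by the `p`-elements -/

/-- the subgroup of `A` generated by its `p`-elements -/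
def pGen {G : Type*} [Group G] (p : ℕ) (A : Subgroup G) : Subgroup G :=
  Subgroup.closure {α | α ∈ A ∧ ∃ m : ℕ, α ^ (p ^ m) = 1}

theorem pGen_le {G : Type*} [Group G] (p : ℕ) (A : Subgroup G) : pGen p A ≤ A :=
  (Subgroup.closure_le _).mpr fun _ h => h.1

theorem le_pGen {G : Type*} [Group G] (p : ℕ) {A T : Subgroup G} (hTA : T ≤ A) (hT : IsPGroup p T) :
    T ≤ pGen p A := by
  intro β hβ
  apply Subgroup.subset_closure
  refine ⟨hTA hβ, ?_⟩
  obtain ⟨k, hk⟩ := hT ⟨β, hβ⟩
  exact ⟨k, congrArg (fun t : T => (t : G)) hk⟩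

theorem le_normalizer_pGen {G : Type*} [Group G] [Finite G] (p : ℕ) (A : Subgroup G) :
    A ≤ Subgroup.normalizer (pGen p A : Set G) := by
  intro a ha
  apply Cfsg.Agent.Lib.Lead.Conj.mem_normalizer_of_conj_mem
  intro r hr
  induction hr using Subgroup.closure_induction with
  | mem y hy =>
    apply Subgroup.subset_closure
    refine ⟨Subgroup.mul_mem _ (Subgroup.mul_mem _ ha hy.1) (Subgroup.inv_mem _ ha), ?_⟩
    obtain ⟨m, hm⟩ := hy.2
    exact ⟨m, by rw [conj_pow, hm]; group⟩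
  | one => simp
  | mul x y _ _ ihx ihy =>
    have : a * (x * y) * a⁻¹ = (a * x * a⁻¹) * (a * y * a⁻¹) := by group
    rw [this]; exact Subgroup.mul_mem _ ihx ihy
  | inv x _ ihx =>
    have : a * x⁻¹ * a⁻¹ = (a * x * a⁻¹)⁻¹ := by group
    rw [this]; exact Subgroup.inv_mem _ ihx


section main

variable [Finite S] (p : ℕ) [Fact p.Prime] (F : FusionSystem S)

theorem powerClosure_center_le (n : ℕ) :
    powerClosure p n (S ⊓ Subgroup.centralizer (S : Set Ω)) ≤ S ⊓ Subgroup.centralizer (S : Set Ω) := by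
  unfold powerClosure
  rw [Subgroup.closure_le]
  rintro _ ⟨x, hx, rfl⟩
  exact Subgroup.pow_mem _ hx _

theorem le_normalizer_powerClosure_center (n : ℕ) :
    S ≤ Subgroup.normalizer (powerClosure p n (S ⊓ Subgroup.centralizer (S : Set Ω)) : Set Ω) := by
  intro g hg
  have hcomm : ∀ w ∈ powerClosure p n (S ⊓ Subgroup.centralizer (S : Set Ω)), g * w * g⁻¹ = w := by
    intro w hw
    have := (Subgroup.mem_centralizer_iff.mp (powerClosure_center_le p n hw).2) g hg
    rw [this, mul_inv_cancel_right]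
  rw [Subgroup.mem_normalizer_iff]
  intro w
  constructor
  · intro hw; rw [hcomm w hw]; exact hw
  · intro hw
    have h1 := hcomm _ hw
    have h2 : g * w * g⁻¹ = w := mul_left_cancel (mul_right_cancel h1)
    rw [← h2]; exact hw

/-- automorphisms of `S` preserve `℧ⁿ(Z(S))` -/
theorem mulAut_top_maps (n : ℕ) (α : MulAut S) :
    ∀ w ∈ powerClosure p n (S ⊓ Subgroup.centralizer (S : Set Ω)), ∀ hw : w ∈ S,
      ((α ⟨w, hw⟩ : S) : Ω) ∈ powerClosure p n (S ⊓ Subgroup.centralizer (S : Set Ω)) := by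
  intro w hw
  unfold powerClosure at hw
  induction hw using Subgroup.closure_induction with
  | mem y hy =>
    intro hyS
    obtain ⟨x, hx, rfl⟩ := hy
    have hxc : (⟨x, hx.1⟩ : S) ∈ Subgroup.center ↥S := by
      rw [Subgroup.mem_center_iff]
      intro g
      apply Subtype.ext
      exact (Subgroup.mem_centralizer_iff.mp hx.2) g g.2
    have h1 := mulAut_apply_mem_center α hxc
    have h2 : ((α ⟨x, hx.1⟩ : S) : Ω) ∈ S ⊓ Subgroup.centralizer (S : Set Ω) := by
      refine Subgroup.mem_inf.mpr ⟨(α ⟨x, hx.1⟩).2, ?_⟩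
      rw [Subgroup.mem_centralizer_iff]
      intro g hg
      have := (Subgroup.mem_center_iff.mp h1) ⟨g, hg⟩
      exact congrArg (fun s : S => (s : Ω)) this
    apply Subgroup.subset_closure
    refine ⟨_, h2, ?_⟩
    have e : (⟨x ^ (p ^ n), hyS⟩ : S) = (⟨x, hx.1⟩ : S) ^ (p ^ n) := rfl
    rw [e, map_pow]
    rfl
  | one =>
    intro _
    have : (⟨1, S.one_mem⟩ : S) = 1 := rfl
    rw [this, map_one]
    exact Subgroup.one_mem _
  | mul x y hx hy ihx ihy =>
    intro hw
    have hxS : x ∈ S := (powerClosure_center_le p n hx).1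
    have hyS : y ∈ S := (powerClosure_center_le p n hy).1
    have e : (⟨x * y, hw⟩ : S) = ⟨x, hxS⟩ * ⟨y, hyS⟩ := rfl
    rw [e, map_mul]
    exact Subgroup.mul_mem _ (ihx hxS) (ihy hyS)
  | inv x hx ihx =>
    intro hw
    have hxS : x ∈ S := (powerClosure_center_le p n hx).1
    have e : (⟨x⁻¹, hw⟩ : S) = (⟨x, hxS⟩ : S)⁻¹ := rfl
    rw [e, map_inv]
    exact Subgroup.inv_mem _ (ihx hxS)

/-- the essential case -/
theorem autGroup_le_stabW_of_essential (hS : IsPGroup p S) (hF : F.IsSaturated p) (n c : ℕ) (hc : c ≤ n * (p - 1) + 1)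
    (hcl : Subgroup.lowerCentralSeries S c = ⊥)
    {P : Subgroup Ω} (hcen : centralizerIn S P ≤ P) (hFN : F.IsFullyNormalized P) (hne : P ≠ S)
    (hWS : powerClosure p n (S ⊓ Subgroup.centralizer (S : Set Ω)) ≤ S)
    (hN : S ≤ Subgroup.normalizer (powerClosure p n (S ⊓ Subgroup.centralizer (S : Set Ω)) : Set Ω))
    (ih : ∀ (R : Subgroup Ω) (φ : R →* Ω), φ ∈ F.Hom R → Nat.card P < Nat.card R →
      φ ∈ (extSystem F (powerClosure p n (S ⊓ Subgroup.centralizer (S : Set Ω))) ⊤ hWS hN le_top).Hom R) :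
    F.autGroup P ≤ stabW P (powerClosure p n (S ⊓ Subgroup.centralizer (S : Set Ω))) := by
  have hPS := hFN.1
  haveI : Finite ↥P := finite_of_le hPS
  obtain ⟨R, hconj, hFA_R, hRec_R⟩ := hF P hPS
  obtain ⟨hFA, hRec⟩ := isFullyAutomized_isReceptive_of_isFullyNormalized p hS F hFN hFA_R hRec_R hconj
  have hT := isSylowIn_autInducedBy p F hFA
  have hZP : S ⊓ Subgroup.centralizer (S : Set Ω) ≤ P := by
    intro x hx
    apply hcen
    refine Subgroup.mem_inf.mpr ⟨hx.1, ?_⟩
    rw [Subgroup.mem_centralizer_iff]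
    intro g hg
    exact (Subgroup.mem_centralizer_iff.mp hx.2) g (hPS hg)
  have hWP : powerClosure p n (S ⊓ Subgroup.centralizer (S : Set Ω)) ≤ P :=
    (powerClosure_center_le p n).trans hZP
  have hTN : autInducedBy S P ≤ pGen p (F.autGroup P) :=
    le_pGen p (autInducedBy_le_autGroup F hPS) (isPGroup_autInducedBy S P hS)
  have hTsyl : IsSylowIn p (autInducedBy S P) (pGen p (F.autGroup P)) :=
    hT.of_le_mid hTN (pGen_le p _)
  have frat := frattini_amb hTsyl (pGen_le p _) (le_normalizer_pGen p (F.autGroup P))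
  refine frat.trans (sup_le ?_ ?_)
  · -- the normalizer part
    have maps : ∀ β ∈ F.autGroup P ⊓ Subgroup.normalizer (autInducedBy S P : Set (MulAut P)),
        ∀ w : P, (w : Ω) ∈ powerClosure p n (S ⊓ Subgroup.centralizer (S : Set Ω)) →
          ((β w : P) : Ω) ∈ powerClosure p n (S ⊓ Subgroup.centralizer (S : Set Ω)) := by
      intro β hβ w hw
      obtain ⟨hβA, hβN⟩ := Subgroup.mem_inf.mp hβ
      obtain ⟨β', hβ', hext⟩ := exists_extension_to_normalizer F hRec β hβA
        (fun γ hγ => (Subgroup.mem_normalizer_iff.mp hβN γ).mp hγ)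
      have hNS : normalizerIn S P ≤ S := inf_le_left
      have hφ := (mem_autGroup_iff F hNS β').mp hβ'
      have hlt := card_lt_card_normalizerIn hS hPS hne
      obtain ⟨-, ψ, hψ, hψext, k, -, hk⟩ := ih _ _ hφ hlt
      have hPN : P ≤ normalizerIn S P := le_inf hPS Subgroup.le_normalizer
      have h1 := hk ⟨w, hw⟩
      have h2 := hψext ⟨w, hPN w.2⟩
      have e : Subgroup.inclusion (le_sup_right : _ ≤ normalizerIn S P ⊔ _)
          (⟨(w : Ω), hw⟩ : powerClosure p n (S ⊓ Subgroup.centralizer (S : Set Ω))) =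
          Subgroup.inclusion le_sup_left (⟨(w : Ω), hPN w.2⟩ : normalizerIn S P) := Subtype.ext rfl
      rw [e, h2] at h1
      have h3 := hext w
      have e2 : Subgroup.inclusion (le_inf hRec.1 Subgroup.le_normalizer) w =
          (⟨(w : Ω), hPN w.2⟩ : normalizerIn S P) := Subtype.ext rfl
      rw [e2] at h3
      have h4 : ((β w : P) : Ω) = (normalizerIn S P).subtype.comp β'.toMonoidHom ⟨(w : Ω), hPN w.2⟩ := by
        show _ = ((β' ⟨(w : Ω), hPN w.2⟩ : normalizerIn S P) : Ω)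
        rw [h3]; rfl
      rw [h4, h1]
      exact (k _).2
    intro β hβ
    rw [mem_stabW]
    intro w
    constructor
    · intro hw
      have := maps β⁻¹ (Subgroup.inv_mem _ hβ) (β w) hw
      simpa using this
    · exact maps β hβ w
  · -- the part generated by `p`-elements
    unfold pGen
    rw [Subgroup.closure_le]
    rintro y ⟨hyA, m, hym⟩
    apply mem_stabW_of_fix
    have hWP' := hWP
    unfold powerClosure at hWP' ⊢
    apply fix_closure _ hWP' y
    rintro _ ⟨x, hx, rfl⟩ hy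
    have hxP : x ∈ P := hZP hx
    have := pElt_fix p F hFA n c hc hcl hx hxP m y hyA hym
    have e : (⟨x ^ (p ^ n), hy⟩ : P) = (⟨x, hxP⟩ : P) ^ (p ^ n) := rfl
    rw [e]; exact this

/-- **Glauberman / Díaz–Glesser–Mazza–Park**: if `S` has class at most `n(p-1)+1` then `℧ⁿ(Z(S))` is
normal in every saturated fusion system on `S`. -/
theorem powerClosure_center_isNormal (hS : IsPGroup p S) (hF : F.IsSaturated p) (n : ℕ)
    (hcl : Subgroup.lowerCentralSeries S (n * (p - 1) + 1) = ⊥) :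
    F.IsNormal (powerClosure p n (S ⊓ Subgroup.centralizer (S : Set Ω))) := by
  set W := powerClosure p n (S ⊓ Subgroup.centralizer (S : Set Ω)) with hW
  have hWS : W ≤ S := (powerClosure_center_le p n).trans inf_le_left
  have hN : S ≤ Subgroup.normalizer (W : Set Ω) := le_normalizer_powerClosure_center p n
  haveI : Finite ↥W := finite_of_le hWS
  have hle : F ≤ extSystem F W ⊤ hWS hN le_top := by
    apply alperin_goldschmidt_strong p hS F hF
    intro P hP ih
    have hPS : P ≤ S := by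
      rcases hP with rfl | hess
      · exact le_rfl
      · exact hess.1.1
    by_cases hPeq : P = S
    · subst hPeq
      refine autGroup_le_extSystem F W ⊤ hWS hN le_top le_rfl hWS (fun α hα => ?_)
      obtain ⟨k, hk⟩ := exists_restrict_mulAut hWS α (fun x => mulAut_top_maps p n α x x.2 (hWS x.2))
      exact ⟨k, Subgroup.mem_top _, hk⟩
    · have hess : F.IsEssential p P := by
        rcases hP with h | h
        · exact absurd h hPeq
        · exact h
      have hcen : centralizerIn S P ≤ P := hess.1.2 P (isConj_refl F hPS)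
      have hZP : S ⊓ Subgroup.centralizer (S : Set Ω) ≤ P := by
        intro x hx
        apply hcen
        refine Subgroup.mem_inf.mpr ⟨hx.1, ?_⟩
        rw [Subgroup.mem_centralizer_iff]
        intro g hg
        exact (Subgroup.mem_centralizer_iff.mp hx.2) g (hPS hg)
      have hWP : W ≤ P := (powerClosure_center_le p n).trans hZP
      have hst := autGroup_le_stabW_of_essential p F hS hF n _ le_rfl hcl hcen hess.2.1 hPeq hWS hN ih
      refine autGroup_le_extSystem F W ⊤ hWS hN le_top hPS hWP (fun α hα => ?_)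
      obtain ⟨k, hk⟩ := exists_restrict_mulAut hWP α (fun x =>
        ((mem_stabW P W α).mp (hst hα) (Subgroup.inclusion hWP x)).mpr x.2)
      exact ⟨k, Subgroup.mem_top _, hk⟩
  refine ⟨hWS, fun P φ hφ => ?_⟩
  obtain ⟨-, ψ, hψ, hext, k, -, hk⟩ := hle P hφ
  refine ⟨ψ, hψ, hext, ?_⟩
  ext y
  constructor
  · rintro ⟨x, hx, rfl⟩
    have hxQ : (x : Ω) ∈ W := Subgroup.mem_subgroupOf.mp hx
    have := hk ⟨x, hxQ⟩
    have e : Subgroup.inclusion le_sup_right (⟨x, hxQ⟩ : W) = x := Subtype.ext rfl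
    rw [e] at this
    rw [this]; exact (k _).2
  · intro hy
    refine ⟨Subgroup.inclusion le_sup_right (k⁻¹ ⟨y, hy⟩),
      Subgroup.mem_subgroupOf.mpr (k⁻¹ ⟨y, hy⟩).2, ?_⟩
    rw [hk]; simp

end main

end Cfsg.Agent.Lib.Helper7.PowZ
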