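import Mathlib
import Cfsg.Prelude.Def_FusionSystem
import Cfsg.Prelude.Def_PLocal
import Cfsg.Agent.Lib.Helper7.PowZB

/-!
# The exponent of `S` when `O_p(F) = 1` and `S` has small class
-/

set_option autoImplicit false
set_option linter.unusedSectionVars false
set_option linter.unusedVariables false

namespace Cfsg.Agent.Lib.Helper7.PowZ

open Cfsg Cfsg.FusionSystem Cfsg.Agent.Lib.Helper7
open scoped commutatorElement

section grp

variable {G : Type*} [Group G]

/-- powers and commutators when the commutator is central -/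
theorem commutatorElement_pow_left {x y : G} (hc : ∀ g : G, Commute ⁅x, y⁆ g) (m : ℕ) :
    ⁅x ^ m, y⁆ = ⁅x, y⁆ ^ m := by
  induction m with
  | zero => simp
  | succ m ih =>
    have h1 : ⁅x ^ (m + 1), y⁆ = x * ⁅x ^ m, y⁆ * x⁻¹ * ⁅x, y⁆ := by
      simp only [commutatorElement_def, pow_succ']
      group
    rw [h1, ih]
    have h2 : x * ⁅x, y⁆ ^ m * x⁻¹ = ⁅x, y⁆ ^ m := by
      have := ((hc x).pow_left m).eq
      rw [← this, mul_inv_cancel_right]
    rw [h2, pow_succ]

theorem pow_mem_upperCentralSeries (e : ℕ) (he : ∀ z ∈ Subgroup.center G, z ^ e = 1) :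
    ∀ (k : ℕ) (x : G), x ∈ Subgroup.upperCentralSeries G (k + 1) → x ^ e ∈ Subgroup.upperCentralSeries G k := by
  intro k
  induction k with
  | zero =>
    intro x hx
    rw [zero_add, Subgroup.upperCentralSeries_one] at hx
    rw [Subgroup.upperCentralSeries_zero, Subgroup.mem_bot]
    exact he x hx
  | succ k ih =>
    intro x hx
    rw [Subgroup.mem_upperCentralSeries_succ_iff]
    intro y
    have hu : ⁅x, y⁆ ∈ Subgroup.upperCentralSeries G (k + 1) := Subgroup.mem_upperCentralSeries_succ_iff.mp hx y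
    have hue := ih _ hu
    -- work in the quotient by `Z_k`
    have hcentral : ∀ g : G ⧸ Subgroup.upperCentralSeries G k,
        Commute ⁅(QuotientGroup.mk x : G ⧸ Subgroup.upperCentralSeries G k), (QuotientGroup.mk y : G ⧸ Subgroup.upperCentralSeries G k)⁆ g := by
      intro g
      obtain ⟨g, rfl⟩ := QuotientGroup.mk_surjective g
      have h1 : ⁅⁅x, y⁆, g⁆ ∈ Subgroup.upperCentralSeries G k := Subgroup.mem_upperCentralSeries_succ_iff.mp hu g
      have h2 : (QuotientGroup.mk ⁅⁅x, y⁆, g⁆ : G ⧸ Subgroup.upperCentralSeries G k) = 1 :=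
        (QuotientGroup.eq_one_iff _).mpr h1
      rw [commutatorElement_def] at h2
      simp only [QuotientGroup.mk_mul, QuotientGroup.mk_inv] at h2
      have h3 : (QuotientGroup.mk ⁅x, y⁆ : G ⧸ Subgroup.upperCentralSeries G k) * QuotientGroup.mk g =
          QuotientGroup.mk g * QuotientGroup.mk ⁅x, y⁆ := by
        have := congrArg (fun t => t * ((QuotientGroup.mk g : G ⧸ Subgroup.upperCentralSeries G k) *
          QuotientGroup.mk ⁅x, y⁆)) h2
        simpa [mul_assoc] using this
      have h4 : (QuotientGroup.mk ⁅x, y⁆ : G ⧸ Subgroup.upperCentralSeries G k) =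
          ⁅(QuotientGroup.mk x : G ⧸ Subgroup.upperCentralSeries G k), (QuotientGroup.mk y : G ⧸ Subgroup.upperCentralSeries G k)⁆ := by
        simp [commutatorElement_def]
      rw [← h4]
      exact h3
    have h5 := commutatorElement_pow_left hcentral e
    have h6 : (QuotientGroup.mk ⁅x ^ e, y⁆ : G ⧸ Subgroup.upperCentralSeries G k) = 1 := by
      have : (QuotientGroup.mk ⁅x ^ e, y⁆ : G ⧸ Subgroup.upperCentralSeries G k) =
          ⁅(QuotientGroup.mk x : G ⧸ Subgroup.upperCentralSeries G k) ^ e, (QuotientGroup.mk y : G ⧸ Subgroup.upperCentralSeries G k)⁆ := by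
        simp [commutatorElement_def]
      rw [this, h5]
      have : ⁅(QuotientGroup.mk x : G ⧸ Subgroup.upperCentralSeries G k), (QuotientGroup.mk y : G ⧸ Subgroup.upperCentralSeries G k)⁆ ^ e =
          QuotientGroup.mk (⁅x, y⁆ ^ e) := by
        simp [commutatorElement_def]
      rw [this]
      exact (QuotientGroup.eq_one_iff _).mpr hue
    exact (QuotientGroup.eq_one_iff _).mp h6

theorem pow_pow_eq_one_of_mem_upperCentralSeries (e : ℕ) (he : ∀ z ∈ Subgroup.center G, z ^ e = 1) :
    ∀ (k : ℕ) (x : G), x ∈ Subgroup.upperCentralSeries G k → x ^ (e ^ k) = 1 := by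
  intro k
  induction k with
  | zero =>
    intro x hx
    rw [Subgroup.upperCentralSeries_zero, Subgroup.mem_bot] at hx
    rw [hx, one_pow]
  | succ k ih =>
    intro x hx
    have := ih _ (pow_mem_upperCentralSeries e he k x hx)
    rw [pow_succ', pow_mul]; exact this

end grp

variable {Ω : Type*} [Group Ω] {S : Subgroup Ω}

/-- if `O_p(F) = 1` and `S` has class at most `n(p-1)+1` then `exp S ∣ p^(n²(p-1)+n)` -/
theorem exponent_dvd_of_core_eq_bot [Finite S] (p : ℕ) [Fact p.Prime] (F : FusionSystem S)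
    (hS : IsPGroup p S) (hF : F.IsSaturated p) (n : ℕ)
    (hcl : Subgroup.lowerCentralSeries S (n * (p - 1) + 1) = ⊥) (hcore : F.core = ⊥) :
    Monoid.exponent ↥S ∣ p ^ (n ^ 2 * (p - 1) + n) := by
  have hW := powerClosure_center_isNormal p F hS hF n hcl
  have hWbot : powerClosure p n (S ⊓ Subgroup.centralizer (S : Set Ω)) = ⊥ := by
    rw [eq_bot_iff, ← hcore]
    exact le_sSup hW
  have he : ∀ z ∈ Subgroup.center ↥S, z ^ (p ^ n) = 1 := by
    intro z hz
    have hzZ : (z : Ω) ∈ S ⊓ Subgroup.centralizer (S : Set Ω) := by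
      refine Subgroup.mem_inf.mpr ⟨z.2, ?_⟩
      rw [Subgroup.mem_centralizer_iff]
      intro g hg
      have := (Subgroup.mem_center_iff.mp hz) ⟨g, hg⟩
      exact congrArg (fun s : S => (s : Ω)) this
    have h1 : (z : Ω) ^ (p ^ n) ∈ powerClosure p n (S ⊓ Subgroup.centralizer (S : Set Ω)) :=
      Subgroup.subset_closure ⟨_, hzZ, rfl⟩
    rw [hWbot, Subgroup.mem_bot] at h1
    exact Subtype.ext h1
  have hupper : Subgroup.upperCentralSeries ↥S (n * (p - 1) + 1) = ⊤ := by
    rw [← Subgroup.lowerCentralSeries_eq_bot_iff_upperCentralSeries_eq_top]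
    have h1 := Subgroup.top_subtype_lowerCentralSeries S (n * (p - 1) + 1)
    rw [hcl] at h1
    exact (Subgroup.map_eq_bot_iff_of_injective _ S.subtype_injective).mp h1
  apply Monoid.exponent_dvd_of_forall_pow_eq_one
  intro x
  have := pow_pow_eq_one_of_mem_upperCentralSeries (p ^ n) he (n * (p - 1) + 1) x
    (by rw [hupper]; exact Subgroup.mem_top x)
  rw [← pow_mul] at this
  have e : n * (n * (p - 1) + 1) = n ^ 2 * (p - 1) + n := by ring
  rw [e] at this
  exact this

end Cfsg.Agent.Lib.Helper7.PowZ
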