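import Mathlib

set_option autoImplicit false
set_option linter.style.haveILetI false
set_option linter.unusedSectionVars false

/-!
# Counting in permutation groups: fixed points, swapped pairs (helper7, for S4706)
-/

namespace Cfsg.Agent.Lib.Helper7.PrD

open Classical

variable {G : Type*} [Group G] [Fintype G]

section general

variable {U : Type*} [MulAction G U]

/-- the set of elements sending `u` to `v` is no bigger than the stabilizer of `u` -/
theorem card_filter_smul_le (u v : U) :
    (Finset.univ.filter (fun g : G => g • u = v)).card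
      ≤ (Finset.univ.filter (fun g : G => g • u = u)).card := by
  by_cases h : ∃ g₀ : G, g₀ • u = v
  · obtain ⟨g₀, hg₀⟩ := h
    apply Finset.card_le_card_of_injOn (fun g => g₀⁻¹ * g)
    · intro g hg
      simp only [Finset.coe_filter, Finset.mem_univ, true_and, Set.mem_ofPred_eq] at hg ⊢
      rw [mul_smul, hg, ← hg₀, inv_smul_smul]
    · intro a _ b _ hab
      exact mul_left_cancel hab
  · push Not at h
    have : Finset.univ.filter (fun g : G => g • u = v) = ∅ := by
      apply Finset.filter_eq_empty_iff.mpr
      intro g _
      exact h g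
    rw [this]
    simp

theorem card_filter_smul_eq (u v : U) (h : ∃ g₀ : G, g₀ • u = v) :
    (Finset.univ.filter (fun g : G => g • u = v)).card
      = (Finset.univ.filter (fun g : G => g • u = u)).card := by
  apply le_antisymm (card_filter_smul_le u v)
  obtain ⟨g₀, hg₀⟩ := h
  apply Finset.card_le_card_of_injOn (fun g => g₀ * g)
  · intro g hg
    simp only [Finset.coe_filter, Finset.mem_univ, true_and, Set.mem_ofPred_eq] at hg ⊢
    rw [mul_smul, hg, hg₀]
  · intro a _ b _ hab
    exact mul_left_cancel hab

theorem sum_card_filter_comm (S : Finset U) (r : G → U → Prop) :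
    ∑ g : G, (S.filter (fun u => r g u)).card
      = ∑ u ∈ S, (Finset.univ.filter (fun g : G => r g u)).card := by
  simp_rw [Finset.card_filter]
  rw [Finset.sum_comm]

/-- the swap count is bounded by the fixed count -/
theorem sum_card_filter_smul_le (S : Finset U) (τ : U → U) :
    ∑ g : G, (S.filter (fun u => g • u = τ u)).card
      ≤ ∑ g : G, (S.filter (fun u => g • u = u)).card := by
  rw [sum_card_filter_comm S (fun g u => g • u = τ u),
    sum_card_filter_comm S (fun g u => g • u = u)]
  apply Finset.sum_le_sum
  intro u _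
  exact card_filter_smul_le u (τ u)

theorem sum_card_filter_smul_eq (S : Finset U) (τ : U → U)
    (h : ∀ u ∈ S, ∃ g₀ : G, g₀ • u = τ u) :
    ∑ g : G, (S.filter (fun u => g • u = τ u)).card
      = ∑ g : G, (S.filter (fun u => g • u = u)).card := by
  rw [sum_card_filter_comm S (fun g u => g • u = τ u),
    sum_card_filter_comm S (fun g u => g • u = u)]
  apply Finset.sum_congr rfl
  intro u hu
  exact card_filter_smul_eq u (τ u) (h u hu)

end general

section fix

variable (X : Type*) [Fintype X] [MulAction G X]

/-- number of fixed points -/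
noncomputable def fx (g : G) : ℕ := (Finset.univ.filter (fun x : X => g • x = x)).card

theorem fx_eq_natCard (g : G) : fx X g = Nat.card (MulAction.fixedBy X g) := by
  rw [fx, Nat.card_eq_fintype_card, ← Fintype.card_subtype]
  apply Fintype.card_congr
  exact Equiv.subtypeEquivRight (fun x => by rw [MulAction.mem_fixedBy])

theorem fx_le (g : G) : fx X g ≤ Fintype.card X := by
  rw [fx]
  exact Finset.card_le_univ _

theorem fx_one : fx X (1 : G) = Fintype.card X := by
  rw [fx]
  simp

/-- an element fixing every point -/
theorem smul_eq_of_fx_eq {g : G} (h : fx X g = Fintype.card X) (x : X) : g • x = x := by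
  rw [fx, ← Finset.card_univ] at h
  have h2 := Finset.eq_of_subset_of_card_le (Finset.filter_subset _ _) (le_of_eq h.symm)
  have h3 : x ∈ Finset.univ.filter (fun x : X => g • x = x) := by rw [h2]; exact Finset.mem_univ _
  exact (Finset.mem_filter.mp h3).2

/-- the number of injective `k`-tuples of fixed points -/
theorem card_inj_fixed (k : ℕ) (g : G) :
    (Finset.univ.filter (fun u : Fin k → X => Function.Injective u ∧ g • u = u)).card
      = (fx X g).descFactorial k := by
  rw [← Fintype.card_subtype]
  have e : {u : Fin k → X // Function.Injective u ∧ g • u = u} ≃ (Fin k ↪ {x : X // g • x = x}) :=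
    { toFun := fun u => ⟨fun i => ⟨u.1 i, congrFun u.2.2 i⟩, fun i j hij => u.2.1 (by
        have := congrArg Subtype.val hij
        exact this)⟩
      invFun := fun e => ⟨fun i => (e i).1, fun i j hij => e.injective (Subtype.ext hij),
        funext fun i => (e i).2⟩
      left_inv := fun u => rfl
      right_inv := fun e => rfl }
  rw [Fintype.card_congr e, Fintype.card_embedding_eq, Fintype.card_fin, Fintype.card_subtype]
  rfl

end fix

theorem inj_fin2 {X : Type*} (u : Fin 2 → X) : Function.Injective u ↔ u 0 ≠ u 1 := by
  constructor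
  · intro h e
    exact absurd (h e) (by decide)
  · intro h i j hij
    fin_cases i <;> fin_cases j <;> simp_all

theorem inj_fin3 {X : Type*} (u : Fin 3 → X) :
    Function.Injective u ↔ u 0 ≠ u 1 ∧ u 0 ≠ u 2 ∧ u 1 ≠ u 2 := by
  constructor
  · intro h
    refine ⟨fun e => absurd (h e) (by decide), fun e => absurd (h e) (by decide),
      fun e => absurd (h e) (by decide)⟩
  · rintro ⟨h1, h2, h3⟩ i j hij
    fin_cases i <;> fin_cases j <;> simp_all

theorem inj_fin4 {X : Type*} (u : Fin 4 → X) :
    Function.Injective u ↔ u 0 ≠ u 1 ∧ u 0 ≠ u 2 ∧ u 0 ≠ u 3 ∧ u 1 ≠ u 2 ∧ u 1 ≠ u 3 ∧ u 2 ≠ u 3 := by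
  constructor
  · intro h
    refine ⟨fun e => absurd (h e) (by decide), fun e => absurd (h e) (by decide),
      fun e => absurd (h e) (by decide), fun e => absurd (h e) (by decide),
      fun e => absurd (h e) (by decide), fun e => absurd (h e) (by decide)⟩
  · rintro ⟨h1, h2, h3, h4, h5, h6⟩ i j hij
    fin_cases i <;> fin_cases j <;> simp_all

section swap

variable (X : Type*) [Fintype X] [MulAction G X]

/-- the points lying in 2-cycles of `g` -/
noncomputable def tw (g : G) : Finset X :=
  Finset.univ.filter (fun x : X => g • x ≠ x ∧ g • g • x = x)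

theorem mem_tw {g : G} {x : X} : x ∈ tw X g ↔ g • x ≠ x ∧ g • g • x = x := by
  simp [tw]

noncomputable def bb (g : G) : ℕ := (tw X g).card

theorem fx_sq (g : G) : fx X (g * g) = fx X g + bb X g := by
  unfold fx bb tw
  rw [← Finset.card_union_of_disjoint]
  · congr 1
    ext x
    simp only [Finset.mem_filter, Finset.mem_univ, true_and, Finset.mem_union, mul_smul]
    constructor
    · intro h
      by_cases hx : g • x = x
      · left; exact hx
      · right; exact ⟨hx, h⟩
    · rintro (h | ⟨_, h⟩)
      · rw [h, h]
      · exact h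
  · rw [Finset.disjoint_filter]
    intro x _ h1 h2
    exact h2.1 h1

/-- count of injective tuples with `g • u = u ∘ t` -/
noncomputable def cnt (k : ℕ) (t : Fin k → Fin k) (g : G) : ℕ :=
  (Finset.univ.filter (fun u : Fin k → X => Function.Injective u ∧ g • u = u ∘ t)).card

theorem cnt_id (k : ℕ) (g : G) : cnt X k id g = (fx X g).descFactorial k := by
  rw [cnt, ← card_inj_fixed]
  rfl

theorem sum_cnt_le (k : ℕ) (t : Fin k → Fin k) :
    ∑ g : G, cnt X k t g ≤ ∑ g : G, (fx X g).descFactorial k := by
  have h := sum_card_filter_smul_le (G := G) (U := Fin k → X)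
    (Finset.univ.filter Function.Injective) (fun u => u ∘ t)
  simp_rw [Finset.filter_filter] at h
  simp_rw [← cnt_id]
  unfold cnt
  simp only [Function.comp_id]
  convert h

theorem sum_cnt_eq (k : ℕ) (t : Fin k → Fin k)
    (ht : ∀ u : Fin k → X, Function.Injective u → ∃ g₀ : G, g₀ • u = u ∘ t) :
    ∑ g : G, cnt X k t g = ∑ g : G, (fx X g).descFactorial k := by
  have h := sum_card_filter_smul_eq (G := G) (U := Fin k → X)
    (Finset.univ.filter Function.Injective) (fun u => u ∘ t)
    (fun u hu => ht u (Finset.mem_filter.mp hu).2)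
  simp_rw [Finset.filter_filter] at h
  simp_rw [← cnt_id]
  unfold cnt
  simp only [Function.comp_id]
  convert h

theorem bb_eq_cnt (g : G) : bb X g = cnt X 2 ![1, 0] g := by
  unfold bb cnt
  apply Finset.card_nbij' (fun x => ![x, g • x]) (fun u => u 0)
  · intro x hx
    rw [Finset.mem_coe, mem_tw] at hx
    simp only [Finset.coe_filter, Finset.mem_univ, true_and, Set.mem_ofPred_eq]
    refine ⟨(inj_fin2 _).mpr ?_, ?_⟩
    · simp only [Matrix.cons_val_zero, Matrix.cons_val_one]
      exact fun h => hx.1 h.symm
    · funext i
      fin_cases i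
      · simp
      · simp [hx.2]
  · intro u hu
    simp only [Finset.coe_filter, Finset.mem_univ, true_and, Set.mem_ofPred_eq] at hu
    rw [Finset.mem_coe, mem_tw]
    have h0 : g • u 0 = u 1 := by
      have := congrFun hu.2 0
      simpa using this
    have h1 : g • u 1 = u 0 := by
      have := congrFun hu.2 1
      simpa using this
    refine ⟨?_, ?_⟩
    · rw [h0]
      exact fun h => (inj_fin2 u).mp hu.1 h.symm
    · rw [h0, h1]
  · intro x _
    simp
  · intro u hu
    simp only [Finset.coe_filter, Finset.mem_univ, true_and, Set.mem_ofPred_eq] at hu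
    have h0 : g • u 0 = u 1 := by
      have := congrFun hu.2 0
      simpa using this
    funext i
    fin_cases i
    · simp
    · simp [h0]

theorem fx_eq_card_filter (g : G) :
    fx X g = (Finset.univ.filter (fun x : X => g • x = x)).card := rfl

theorem bb_mul_fx_le (g : G) : bb X g * fx X g ≤ cnt X 3 ![1, 0, 2] g := by
  unfold bb cnt
  rw [fx_eq_card_filter, ← Finset.card_product]
  apply Finset.card_le_card_of_injOn (fun q : X × X => ![q.1, g • q.1, q.2])
  · intro q hq
    rw [Finset.mem_coe, Finset.mem_product, mem_tw, Finset.mem_filter] at hq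
    obtain ⟨⟨hx1, hx2⟩, -, hz⟩ := hq
    simp only [Finset.coe_filter, Finset.mem_univ, true_and, Set.mem_ofPred_eq]
    refine ⟨(inj_fin3 _).mpr ⟨?_, ?_, ?_⟩, ?_⟩
    · simp only [Matrix.cons_val_zero, Matrix.cons_val_one]
      exact fun h => hx1 h.symm
    · simp only [Matrix.cons_val_zero, Matrix.cons_val_two, Matrix.tail_cons, Matrix.head_cons]
      intro h
      apply hx1
      rw [h]
      exact hz
    · simp only [Matrix.cons_val_one, Matrix.cons_val_two, Matrix.tail_cons, Matrix.head_cons,
        Matrix.cons_val_zero]
      intro h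
      apply hx1
      have h2 : g • g • q.1 = g • q.1 := by
        conv_lhs => rw [h, hz]
        exact h.symm
      rw [hx2] at h2
      exact h2.symm
    · funext i
      fin_cases i
      · simp
      · simp [hx2]
      · simp [hz]
  · intro q _ q' _ h
    have h0 := congrFun h 0
    have h2 := congrFun h 2
    simp only [Matrix.cons_val_zero, Matrix.cons_val_two, Matrix.tail_cons, Matrix.head_cons] at h0 h2
    exact Prod.ext h0 h2

theorem bb_sq_le (g : G) : bb X g ^ 2 ≤ 2 * bb X g + cnt X 4 ![1, 0, 3, 2] g := by
  have hprod : bb X g ^ 2 = (tw X g ×ˢ tw X g).card := by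
    rw [Finset.card_product, sq, bb]
  have h1 := Finset.card_filter_add_card_filter_not (s := tw X g ×ˢ tw X g)
    (fun q : X × X => q.2 = q.1)
  have h2 := Finset.card_filter_add_card_filter_not
    (s := (tw X g ×ˢ tw X g).filter (fun q : X × X => ¬ q.2 = q.1))
    (fun q : X × X => q.2 = g • q.1)
  have hA1 : ((tw X g ×ˢ tw X g).filter (fun q : X × X => q.2 = q.1)).card ≤ bb X g := by
    unfold bb
    apply Finset.card_le_card_of_injOn (fun q : X × X => q.1)
    · intro q hq
      rw [Finset.mem_coe, Finset.mem_filter, Finset.mem_product] at hq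
      exact hq.1.1
    · intro q hq q' hq' h
      rw [Finset.mem_coe, Finset.mem_filter] at hq hq'
      apply Prod.ext h
      rw [hq.2, hq'.2]
      exact h
  have hA2 : (((tw X g ×ˢ tw X g).filter (fun q : X × X => ¬ q.2 = q.1)).filter
      (fun q : X × X => q.2 = g • q.1)).card ≤ bb X g := by
    unfold bb
    apply Finset.card_le_card_of_injOn (fun q : X × X => q.1)
    · intro q hq
      rw [Finset.mem_coe, Finset.mem_filter, Finset.mem_filter, Finset.mem_product] at hq
      exact hq.1.1.1
    · intro q hq q' hq' h
      rw [Finset.mem_coe, Finset.mem_filter] at hq hq'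
      apply Prod.ext h
      rw [hq.2, hq'.2]
      exact congrArg (g • ·) h
  have hA3 : (((tw X g ×ˢ tw X g).filter (fun q : X × X => ¬ q.2 = q.1)).filter
      (fun q : X × X => ¬ q.2 = g • q.1)).card ≤ cnt X 4 ![1, 0, 3, 2] g := by
    unfold cnt
    apply Finset.card_le_card_of_injOn (fun q : X × X => ![q.1, g • q.1, q.2, g • q.2])
    · intro q hq
      rw [Finset.mem_coe, Finset.mem_filter, Finset.mem_filter, Finset.mem_product, mem_tw,
        mem_tw] at hq
      obtain ⟨⟨⟨⟨hx1, hx2⟩, hz1, hz2⟩, hzx⟩, hzgx⟩ := hq
      simp only [Finset.coe_filter, Finset.mem_univ, true_and, Set.mem_ofPred_eq]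
      refine ⟨(inj_fin4 _).mpr ⟨?_, ?_, ?_, ?_, ?_, ?_⟩, ?_⟩
      · exact fun h => hx1 h.symm
      · exact fun h => hzx h.symm
      · intro h
        apply hzgx
        have : g • g • q.2 = g • q.1 := by
          show g • (![q.1, g • q.1, q.2, g • q.2] 3) = _
          rw [← h]
          rfl
        rw [hz2] at this
        exact this
      · exact fun h => hzgx h.symm
      · intro h
        apply hzx
        have : g • q.1 = g • q.2 := h
        exact (MulAction.injective g this).symm
      · exact fun h => hz1 h.symm
      · funext i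
        fin_cases i
        · simp
        · simp [hx2]
        · simp
        · simp [hz2]
    · intro q _ q' _ h
      have h0 := congrFun h 0
      have h2 := congrFun h 2
      exact Prod.ext h0 h2
  rw [hprod]
  omega

end swap

theorem descFactorial_two_cast (n : ℕ) : ((n.descFactorial 2 : ℕ) : ℤ) = (n : ℤ) * (n - 1) := by
  rcases n with _ | n
  · simp
  · simp [Nat.descFactorial]
    ring

theorem descFactorial_three_cast (n : ℕ) :
    ((n.descFactorial 3 : ℕ) : ℤ) = (n : ℤ) * (n - 1) * (n - 2) := by
  rcases n with _ | _ | n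
  · simp
  · simp [Nat.descFactorial]
  · simp [Nat.descFactorial]
    ring

theorem descFactorial_four_cast (n : ℕ) :
    ((n.descFactorial 4 : ℕ) : ℤ) = (n : ℤ) * (n - 1) * (n - 2) * (n - 3) := by
  rcases n with _ | _ | _ | n
  · simp
  · simp [Nat.descFactorial]
  · simp [Nat.descFactorial]
  · simp [Nat.descFactorial]
    ring

end Cfsg.Agent.Lib.Helper7.PrD
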