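import Mathlib
import Cfsg.Agent.Lib.Helper7.PrD1

set_option autoImplicit false
set_option linter.style.haveILetI false
set_option linter.unusedSectionVars false

/-!
# Moments of the fixed point function and multiple transitivity (helper7, for S4706)
-/

namespace Cfsg.Agent.Lib.Helper7.PrD

open Classical

variable {G : Type*} [Group G] [Fintype G] (X : Type*) [Fintype X] [MulAction G X]

theorem card_fixedBy_emb (k : ℕ) (g : G) :
    Fintype.card (MulAction.fixedBy (Fin k ↪ X) g) = (fx X g).descFactorial k := by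
  have e : MulAction.fixedBy (Fin k ↪ X) g ≃ (Fin k ↪ {x : X // g • x = x}) :=
    { toFun := fun u => ⟨fun i => ⟨u.1 i, by
          have h := u.2
          rw [MulAction.mem_fixedBy] at h
          have h2 := DFunLike.congr_fun h i
          rwa [Function.Embedding.smul_apply] at h2⟩,
        fun i j hij => u.1.injective (congrArg Subtype.val hij)⟩
      invFun := fun e => ⟨⟨fun i => (e i).1, fun i j hij => e.injective (Subtype.ext hij)⟩, by
        rw [MulAction.mem_fixedBy]
        ext i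
        rw [Function.Embedding.smul_apply]
        exact (e i).2⟩
      left_inv := fun u => rfl
      right_inv := fun e => rfl }
  rw [Fintype.card_congr e, Fintype.card_embedding_eq, Fintype.card_fin, Fintype.card_subtype]
  rfl

/-- Burnside's lemma for injective tuples. -/
theorem sum_descFactorial (k : ℕ) :
    ∑ g : G, (fx X g).descFactorial k
      = Fintype.card (Quotient (MulAction.orbitRel G (Fin k ↪ X))) * Fintype.card G := by
  rw [← MulAction.sum_card_fixedBy_eq_card_orbits_mul_card_group G (Fin k ↪ X)]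
  apply Finset.sum_congr rfl
  intro g _
  rw [← card_fixedBy_emb]

theorem sum_descFactorial_of_pretransitive (k : ℕ) (hk : k ≤ Fintype.card X)
    (h : MulAction.IsMultiplyPretransitive G X k) :
    ∑ g : G, (fx X g).descFactorial k = Fintype.card G := by
  rw [sum_descFactorial]
  haveI : MulAction.IsPretransitive G (Fin k ↪ X) := h
  haveI : Nonempty (Fin k ↪ X) := by
    apply Function.Embedding.nonempty_of_card_le
    rw [Fintype.card_fin]
    exact hk
  have h1 : Fintype.card (Quotient (MulAction.orbitRel G (Fin k ↪ X))) = 1 := by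
    rw [Fintype.card_eq_one_iff_nonempty_unique]
    obtain ⟨u⟩ := ‹Nonempty (Fin k ↪ X)›
    haveI : Subsingleton (Quotient (MulAction.orbitRel G (Fin k ↪ X))) :=
      (MulAction.pretransitive_iff_subsingleton_quotient G (Fin k ↪ X)).mp inferInstance
    exact ⟨⟨⟨Quotient.mk _ u⟩, fun a => Subsingleton.elim _ _⟩⟩
  rw [h1, one_mul]

theorem pretransitive_of_sum_descFactorial_le (k : ℕ)
    (h : ∑ g : G, (fx X g).descFactorial k ≤ Fintype.card G) :
    MulAction.IsMultiplyPretransitive G X k := by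
  rw [sum_descFactorial] at h
  have h1 : Fintype.card (Quotient (MulAction.orbitRel G (Fin k ↪ X))) ≤ 1 := by
    have hpos : 0 < Fintype.card G := Fintype.card_pos
    by_contra hcon
    have hcon : 2 ≤ Fintype.card (Quotient (MulAction.orbitRel G (Fin k ↪ X))) := by omega
    have : 2 * Fintype.card G ≤
        Fintype.card (Quotient (MulAction.orbitRel G (Fin k ↪ X))) * Fintype.card G :=
      Nat.mul_le_mul_right _ hcon
    omega
  haveI : Subsingleton (Quotient (MulAction.orbitRel G (Fin k ↪ X))) :=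
    Fintype.card_le_one_iff_subsingleton.mp h1
  exact (MulAction.pretransitive_iff_subsingleton_quotient G (Fin k ↪ X)).mpr inferInstance

/-- the `k`-th factorial moment -/
noncomputable def mom (G : Type*) [Group G] [Fintype G] (X : Type*) [Fintype X] [MulAction G X]
    (k : ℕ) : ℤ := ∑ g : G, ((fx X g).descFactorial k : ℤ)

theorem sum_bb (h2 : MulAction.IsMultiplyPretransitive G X 2) :
    ∑ g : G, (bb X g : ℤ) = mom G X 2 := by
  unfold mom
  rw [← Nat.cast_sum, ← Nat.cast_sum]
  congr 1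
  simp_rw [bb_eq_cnt]
  apply sum_cnt_eq
  intro u hu
  rw [inj_fin2] at hu
  obtain ⟨g₀, hg1, hg2⟩ := MulAction.is_two_pretransitive_iff.mp h2 hu hu.symm
  refine ⟨g₀, ?_⟩
  funext i
  fin_cases i
  · simpa using hg1
  · simpa using hg2

theorem sum_bb_mul_fx_le : ∑ g : G, (bb X g : ℤ) * (fx X g : ℤ) ≤ mom G X 3 := by
  unfold mom
  have h1 : ∑ g : G, bb X g * fx X g ≤ ∑ g : G, (fx X g).descFactorial 3 :=
    (Finset.sum_le_sum (fun g _ => bb_mul_fx_le X g)).trans (sum_cnt_le X 3 _)
  have h2 : ((∑ g : G, bb X g * fx X g : ℕ) : ℤ) ≤ ((∑ g : G, (fx X g).descFactorial 3 : ℕ) : ℤ) :=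
    Nat.cast_le.mpr h1
  push_cast at h2
  exact h2

theorem sum_bb_sq_le (h2 : MulAction.IsMultiplyPretransitive G X 2) :
    ∑ g : G, (bb X g : ℤ) ^ 2 ≤ 2 * mom G X 2 + mom G X 4 := by
  have h1 : ∑ g : G, bb X g ^ 2 ≤ ∑ g : G, (2 * bb X g + cnt X 4 ![1, 0, 3, 2] g) :=
    Finset.sum_le_sum (fun g _ => bb_sq_le X g)
  rw [Finset.sum_add_distrib, ← Finset.mul_sum] at h1
  have h3 := sum_cnt_le (G := G) X 4 ![1, 0, 3, 2]
  have h4 : ((∑ g : G, bb X g ^ 2 : ℕ) : ℤ)
      ≤ ((2 * ∑ g : G, bb X g + ∑ g : G, (fx X g).descFactorial 4 : ℕ) : ℤ) :=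
    Nat.cast_le.mpr (h1.trans (Nat.add_le_add_left h3 _))
  push_cast at h4
  rw [sum_bb X h2] at h4
  exact h4

/-- the exterior square function `σ'(g) = π(g)² - π(g²)` -/
noncomputable def sg (G : Type*) [Group G] [Fintype G] (X : Type*) [Fintype X] [MulAction G X]
    (g : G) : ℤ := (fx X g : ℤ) ^ 2 - (fx X (g * g) : ℤ)

theorem sg_eq (g : G) : sg G X g = (fx X g : ℤ) * ((fx X g : ℤ) - 1) - (bb X g : ℤ) := by
  rw [sg, fx_sq]
  push_cast
  ring

theorem sum_sg (h2 : MulAction.IsMultiplyPretransitive G X 2) : ∑ g : G, sg G X g = 0 := by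
  simp_rw [sg_eq, Finset.sum_sub_distrib, sum_bb X h2, mom, descFactorial_two_cast]
  ring

theorem sum_sg_mul_fx :
    2 * mom G X 2 ≤ ∑ g : G, sg G X g * (fx X g : ℤ) := by
  have h1 : ∀ g : G, sg G X g * (fx X g : ℤ)
      = ((fx X g).descFactorial 3 : ℤ) + 2 * ((fx X g).descFactorial 2 : ℤ)
        - (bb X g : ℤ) * (fx X g : ℤ) := by
    intro g
    rw [sg_eq, descFactorial_three_cast, descFactorial_two_cast]
    ring
  simp_rw [h1, Finset.sum_sub_distrib, Finset.sum_add_distrib, ← Finset.mul_sum]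
  have h3 := sum_bb_mul_fx_le (G := G) X
  unfold mom at h3 ⊢
  linarith

theorem sum_sg_sq_le (h2 : MulAction.IsMultiplyPretransitive G X 2) :
    ∑ g : G, sg G X g ^ 2 ≤ 2 * mom G X 4 + 4 * mom G X 3 + 4 * mom G X 2 := by
  have h1 : ∀ g : G, sg G X g ^ 2
      ≤ ((fx X g).descFactorial 4 : ℤ) + 4 * ((fx X g).descFactorial 3 : ℤ)
        + 2 * ((fx X g).descFactorial 2 : ℤ) + (bb X g : ℤ) ^ 2 := by
    intro g
    rw [sg_eq, descFactorial_four_cast, descFactorial_three_cast, descFactorial_two_cast]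
    have hb : (0 : ℤ) ≤ (bb X g : ℤ) := Int.natCast_nonneg _
    have hA : (0 : ℤ) ≤ (fx X g : ℤ) * ((fx X g : ℤ) - 1) := by
      rcases Nat.eq_zero_or_pos (fx X g) with h | h
      · rw [h]; simp
      · apply mul_nonneg (Int.natCast_nonneg _)
        have : (1 : ℤ) ≤ (fx X g : ℤ) := by exact_mod_cast h
        linarith
    nlinarith [mul_nonneg hA hb]
  have h3 := sum_bb_sq_le (G := G) X h2
  have h4 := Finset.sum_le_sum (fun g (_ : g ∈ (Finset.univ : Finset G)) => h1 g)
  simp_rw [Finset.sum_add_distrib, ← Finset.mul_sum] at h4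
  unfold mom at h3 ⊢
  linarith

end Cfsg.Agent.Lib.Helper7.PrD
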