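import Mathlib
import Cfsg.Prelude.Def_Characters
import Cfsg.Agent.Lib.helper3.TwoTrans
import Cfsg.Agent.Lib.helper3.PConj
import Cfsg.Agent.Lib.helper3.Gallagher3
import Cfsg.Agent.Lib.Helper7.BrD8
import Cfsg.Agent.Lib.Helper5.DihN.Struct
import Cfsg.Agent.Lib.Helper7.PrD2

set_option autoImplicit false
set_option linter.style.haveILetI false
set_option linter.unusedSectionVars false

/-!
# Exceptional characters for a dihedral Sylow normalizer: the family and general lemmas
(helper7, for S4706)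
-/

namespace Cfsg.Agent.Lib.Helper7.PrD

open Cfsg Cfsg.Agent.Lib.helper3.Irr Cfsg.Agent.Lib.helper3.CharBasic
open Cfsg.Agent.Lib.helper3.IndFun Cfsg.Agent.Lib.helper3.CycTI Cfsg.Agent.Lib.Helper7.BrP
open scoped ComplexConjugate
open Classical

variable {G : Type*} [Group G] [Fintype G]

/-- inner product of integer valued functions -/
theorem classInner_intCast (A B : G → ℤ) :
    classInner (fun g => (A g : ℂ)) (fun g => (B g : ℂ))
      = ((∑ g : G, A g * B g : ℤ) : ℂ) / (Fintype.card G : ℂ) := by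
  rw [classInner_apply, Nat.card_eq_fintype_card]
  push_cast
  rw [div_eq_inv_mul]
  congr 1
  apply Finset.sum_congr rfl
  intro g _
  rw [map_intCast]

/-- Bessel's inequality for a family of irreducible characters with constant coefficient. -/
theorem bessel_const (f : G → ℂ) (hf : IsClassFunction G f) (T : Finset (IrrCharacter G)) (v : ℝ)
    (hv : ∀ ψ ∈ T, classInner f (ψ : G → ℂ) = (v : ℂ)) :
    (T.card : ℝ) * v ^ 2 ≤ (classInner f f).re := by
  rw [Cfsg.Agent.Lib.helper3.PConj.classInner_self_eq_sum f hf, Complex.re_sum]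
  have h1 : ∀ ψ : IrrCharacter G,
      0 ≤ (classInner f (ψ : G → ℂ) * conj (classInner f (ψ : G → ℂ))).re := by
    intro ψ
    rw [Complex.mul_conj, Complex.ofReal_re]
    exact Complex.normSq_nonneg _
  calc (T.card : ℝ) * v ^ 2 = ∑ _ψ ∈ T, v ^ 2 := by rw [Finset.sum_const, nsmul_eq_mul]
    _ = ∑ ψ ∈ T, (classInner f (ψ : G → ℂ) * conj (classInner f (ψ : G → ℂ))).re := by
        apply Finset.sum_congr rfl
        intro ψ hψ
        rw [hv ψ hψ, Complex.mul_conj, Complex.ofReal_re, Complex.normSq_ofReal, sq]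
    _ ≤ ∑ ψ : IrrCharacter G,
          (classInner f (ψ : G → ℂ) * conj (classInner f (ψ : G → ℂ))).re :=
        Finset.sum_le_univ_sum_of_nonneg h1

/-- value and degree of a decomposed character -/
theorem decomposition_apply (a : IrrCharacter G → ℕ) (g : G) :
    (∑ ψ : IrrCharacter G, (a ψ : ℂ) • (ψ : G → ℂ)) g
      = ∑ ψ : IrrCharacter G, (a ψ : ℂ) * (ψ : G → ℂ) g := by
  simp only [Finset.sum_apply, Pi.smul_apply, smul_eq_mul]

section dihedral

variable (P : Subgroup G) {p : ℕ} (hp : p.Prime) (hP : Nat.card P = p)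
  (hC : ∀ x ∈ P, x ≠ 1 → ∀ g : G, g * x = x * g → g ∈ P)
  (hN : Nat.card (Subgroup.normalizer (P : Set G)) = p * 2)

/-- pairing with `Ξ_ω` given its decomposition -/
theorem classInner_of_formula {ω : P →* ℂˣ} {Y l : G → ℂ} {m ε : ℤ}
    (h : ∀ g, Xi P ω g = 1 + (m : ℂ) * Y g - (ε : ℂ) * l g) (F : G → ℂ) :
    classInner (Xi P ω) F
      = classInner (fun _ => (1 : ℂ)) F + (m : ℂ) * classInner Y F - (ε : ℂ) * classInner l F := by
  have h1 : Xi P ω = (fun _ => (1 : ℂ)) + (m : ℂ) • Y - (ε : ℂ) • l := by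
    funext g
    rw [h g]
    simp
  rw [h1, classInner_sub_left, classInner_add_left, classInner_smul_left, classInner_smul_left]

include hp hP hC hN in
/-- the structure theorem together with a family of at least `(p - 1) / 2` distinct exceptional
characters -/
theorem exists_family (h5 : 5 ≤ p) :
    ∃ (Y : IrrCharacter G) (m ε : ℤ) (S : Finset (IrrCharacter G)),
      (m = 1 ∨ m = -1) ∧ (ε = 1 ∨ ε = -1) ∧ Y ≠ trivIrr G ∧ p - 1 ≤ 2 * S.card ∧
      (∀ ω : P →* ℂˣ, ω ≠ 1 → classInner (Xi P ω) (Y : G → ℂ) = m) ∧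
      ∀ l ∈ S, l ≠ trivIrr G ∧ l ≠ Y ∧ ∃ ω : P →* ℂˣ, ω ≠ 1 ∧
        ∀ g : G, Xi P ω g = 1 + (m : ℂ) * (Y : G → ℂ) g - (ε : ℂ) * (l : G → ℂ) g := by
  obtain ⟨Y, m, ε, hm, hε, hY, hstr⟩ :=
    Cfsg.Agent.Lib.Helper5.DihN.structure_thm P hp h5 hP hC hN
  letI : Fintype P := Fintype.ofFinite P
  haveI := finite_dual P hp hP
  letI : Fintype {ω : P →* ℂˣ // ω ≠ 1} := Fintype.ofFinite _
  choose lam hlam using (fun a : {ω : P →* ℂˣ // ω ≠ 1} => hstr a.1 a.2)
  refine ⟨Y, m, ε, Finset.univ.image lam, hm, hε, hY, ?_, ?_, ?_⟩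
  · have hcard := Finset.card_le_mul_card_image (f := lam) Finset.univ 2 (by
      intro l hl
      obtain ⟨a, -, rfl⟩ := Finset.mem_image.mp hl
      have h2 := card_orbit P hp hP hC 2 hN a
      rw [Nat.card_eq_fintype_card, Fintype.card_subtype] at h2
      rw [← h2]
      apply Finset.card_le_card
      intro b hb
      rw [Finset.mem_filter] at hb ⊢
      refine ⟨Finset.mem_univ _, ?_⟩
      by_contra hcon
      have hcon' : ∀ n : Subgroup.normalizer (P : Set G), b.1 ≠ cj P n a.1 :=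
        fun n hn => hcon ⟨n, hn⟩
      have e1 := (gram_eq P hp hP hC 2 hN b.2 a.2).2 hcon'
      have e2 := (gram_eq P hp hP hC 2 hN a.2 a.2).1 1 (cj_one_left P _).symm
      have hXi : Xi P b.1 = Xi P a.1 := by
        funext g
        rw [(hlam b).2.2.1 g, (hlam a).2.2.1 g, hb.2]
      unfold Xi at hXi
      rw [hXi, e2] at e1
      norm_num at e1)
    rw [Finset.card_univ, ← Nat.card_eq_fintype_card, card_dual_ne_one P hp hP] at hcard
    exact hcard
  · intro ω hω
    obtain ⟨l, -, -, -, -, h⟩ := hstr ω hω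
    exact h
  · intro l hl
    obtain ⟨a, -, rfl⟩ := Finset.mem_image.mp hl
    exact ⟨(hlam a).1, (hlam a).2.1, a.1, a.2, (hlam a).2.2.1⟩

end dihedral

end Cfsg.Agent.Lib.Helper7.PrD
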