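import Mathlib
import Cfsg.Prelude.Def_Characters
import Cfsg.Agent.Lib.Helper7.PrD3

set_option autoImplicit false
set_option linter.style.haveILetI false
set_option linter.unusedSectionVars false

/-!
# A group of prime degree with dihedral Sylow normalizer: pairing lemmas and the case `m = -1`
(helper7, for S4706)
-/

namespace Cfsg.Agent.Lib.Helper7.PrD

open Cfsg Cfsg.Agent.Lib.helper3.Irr Cfsg.Agent.Lib.helper3.CharBasic
open Cfsg.Agent.Lib.helper3.IndFun Cfsg.Agent.Lib.helper3.CycTI Cfsg.Agent.Lib.Helper7.BrP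
open Cfsg.Agent.Lib.helper3.PermChar
open scoped ComplexConjugate
open Classical

variable {G : Type*} [Group G] [Fintype G]

/-- the packaged structure theorem -/
structure Fam (P : Subgroup G) (p : ℕ) (Y : IrrCharacter G) (m ε : ℤ)
    (S : Finset (IrrCharacter G)) : Prop where
  hm : m = 1 ∨ m = -1
  hε : ε = 1 ∨ ε = -1
  hY : Y ≠ trivIrr G
  hcard : p - 1 ≤ 2 * S.card
  hYm : ∀ ω : P →* ℂˣ, ω ≠ 1 → classInner (Xi P ω) (Y : G → ℂ) = m
  hS : ∀ l ∈ S, l ≠ trivIrr G ∧ l ≠ Y ∧ ∃ ω : P →* ℂˣ, ω ≠ 1 ∧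
    ∀ g : G, Xi P ω g = 1 + (m : ℂ) * (Y : G → ℂ) g - (ε : ℂ) * (l : G → ℂ) g

section fam

variable {P : Subgroup G} {p : ℕ} {Y : IrrCharacter G} {m ε : ℤ} {S : Finset (IrrCharacter G)}

/-- pairing a class function that is constant on `P \ 1` with the formula -/
theorem Fam.pair (hF : Fam P p Y m ε S) (hp : p.Prime) (hP : Nat.card P = p)
    (F : G → ℂ) (hFc : IsClassFunction G F) (κ : ℂ) (hκ : conj κ = κ)
    (hFκ : ∀ x ∈ P, x ≠ 1 → F x = κ) {l : IrrCharacter G} (hl : l ∈ S) :
    κ = classInner (fun _ => (1 : ℂ)) F + (m : ℂ) * classInner (Y : G → ℂ) F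
      - (ε : ℂ) * classInner (l : G → ℂ) F := by
  letI : Fintype P := Fintype.ofFinite P
  obtain ⟨-, -, ω, hω, hform⟩ := hF.hS l hl
  rw [← classInner_of_formula P hform F]
  exact (Cfsg.Agent.Lib.Helper7.BrD.classInner_Xi_of_const P hp hP hω F hFc κ hκ hFκ).symm

/-- the degree relation -/
theorem Fam.degree (hF : Fam P p Y m ε S) {l : IrrCharacter G} (hl : l ∈ S) :
    (0 : ℂ) = 1 + (m : ℂ) * (Y : G → ℂ) 1 - (ε : ℂ) * (l : G → ℂ) 1 := by
  obtain ⟨-, -, ω, hω, hform⟩ := hF.hS l hl
  rw [← hform 1, Xi_apply_one]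

end fam

/-- multiplicities of a decomposed character, on either side -/
theorem classInner_decomp_right (a : IrrCharacter G → ℕ) (ψ : IrrCharacter G) :
    classInner (ψ : G → ℂ) (∑ φ : IrrCharacter G, (a φ : ℂ) • (φ : G → ℂ)) = a ψ := by
  rw [← classInner_conj_symm, classInner_decomposition_left, Complex.conj_natCast]

theorem classInner_one_eq_triv (F : G → ℂ) :
    classInner (fun _ => (1 : ℂ)) F = classInner ((trivIrr G : IrrCharacter G) : G → ℂ) F := rfl

/-- the degree of a decomposed character -/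
theorem decomposition_degree (a : IrrCharacter G → ℕ) (dg : IrrCharacter G → ℕ)
    (hdg : ∀ ψ : IrrCharacter G, (ψ : G → ℂ) 1 = dg ψ) :
    (∑ ψ : IrrCharacter G, (a ψ : ℂ) • (ψ : G → ℂ)) 1
      = ((∑ ψ : IrrCharacter G, a ψ * dg ψ : ℕ) : ℂ) := by
  rw [decomposition_apply]
  push_cast
  apply Finset.sum_congr rfl
  intro ψ _
  rw [hdg]

section perm

variable (X : Type*) [Fintype X] [MulAction G X]

/-- the permutation character -/
noncomputable def pc : G → ℂ := fun g => (fx X g : ℂ)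

theorem pc_eq : pc (G := G) X = fun g : G => (Nat.card (MulAction.fixedBy X g) : ℂ) := by
  funext g
  rw [pc, fx_eq_natCard]

theorem pc_isCharacter [MulAction.IsPretransitive G X] [Nonempty X] :
    IsCharacter G (pc (G := G) X) := by
  rw [pc_eq]
  exact isCharacter_permChar X

theorem classInner_pc_one [MulAction.IsPretransitive G X] [Nonempty X] :
    classInner (pc (G := G) X) (fun _ => 1) = 1 := by
  rw [pc_eq]
  exact classInner_permChar_one X

theorem fx_conj (g h : G) : fx X (h * g * h⁻¹) = fx X g := by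
  unfold fx
  apply Finset.card_nbij' (fun x => h⁻¹ • x) (fun x => h • x)
  · intro x hx
    simp only [Finset.coe_filter, Finset.mem_univ, true_and, Set.mem_ofPred_eq] at hx ⊢
    calc g • h⁻¹ • x = h⁻¹ • (h * g * h⁻¹) • x := by simp only [mul_smul, inv_smul_smul]
      _ = h⁻¹ • x := by rw [hx]
  · intro x hx
    simp only [Finset.coe_filter, Finset.mem_univ, true_and, Set.mem_ofPred_eq] at hx ⊢
    simp only [mul_smul, inv_smul_smul, hx]
  · intro x _
    simp
  · intro x _
    simp

end perm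

section main

variable (X : Type*) [Fintype X] [MulAction G X] [MulAction.IsPretransitive G X]
variable {P : Subgroup G} {p : ℕ} {Y : IrrCharacter G} {m ε : ℤ} {S : Finset (IrrCharacter G)}

/-- the relations between multiplicities in the permutation character and between degrees -/
theorem Fam.relations (hF : Fam P p Y m ε S) (hp : p.Prime) (hP : Nat.card P = p)
    (hX : Fintype.card X = p) (hreg : ∀ x ∈ P, x ≠ 1 → fx X x = 0)
    (a dg : IrrCharacter G → ℕ)
    (ha : pc (G := G) X = ∑ ψ : IrrCharacter G, (a ψ : ℂ) • (ψ : G → ℂ))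
    (hdg : ∀ ψ : IrrCharacter G, (ψ : G → ℂ) 1 = dg ψ) :
    a (trivIrr G) = 1 ∧ dg (trivIrr G) = 1 ∧ ∑ ψ : IrrCharacter G, a ψ * dg ψ = p ∧
    ∀ l ∈ S, (0 : ℤ) = 1 + m * (a Y : ℤ) - ε * (a l : ℤ) ∧
      (0 : ℤ) = 1 + m * (dg Y : ℤ) - ε * (dg l : ℤ) := by
  haveI : Nonempty X := by
    rw [← Fintype.card_pos_iff, hX]; exact hp.pos
  have hπ : IsCharacter G (pc (G := G) X) := pc_isCharacter X
  have hat : a (trivIrr G) = 1 := by
    have h1 := classInner_pc_one (G := G) X
    rw [ha] at h1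
    have h2 : classInner (∑ ψ : IrrCharacter G, (a ψ : ℂ) • (ψ : G → ℂ))
        ((trivIrr G : IrrCharacter G) : G → ℂ) = 1 := h1
    rw [classInner_decomposition_left] at h2
    exact_mod_cast h2
  have hdt : dg (trivIrr G) = 1 := by
    have h1 := hdg (trivIrr G)
    have h3 : ((trivIrr G : IrrCharacter G) : G → ℂ) 1 = 1 := rfl
    rw [h3] at h1
    exact_mod_cast h1.symm
  have hsum : ∑ ψ : IrrCharacter G, a ψ * dg ψ = p := by
    have h1 := congrFun ha 1
    rw [decomposition_degree a dg hdg, pc, fx_one, hX] at h1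
    exact_mod_cast h1.symm
  refine ⟨hat, hdt, hsum, ?_⟩
  intro l hl
  constructor
  · have h1 := hF.pair hp hP (pc (G := G) X) (isClassFunction_of_isCharacter hπ) 0 (map_zero _)
      (fun x hx hx1 => by rw [pc, hreg x hx hx1]; simp) hl
    rw [classInner_one_eq_triv, ha, classInner_decomp_right, classInner_decomp_right,
      classInner_decomp_right, hat] at h1
    have h2 : ((0 : ℤ) : ℂ) = ((1 + m * (a Y : ℤ) - ε * (a l : ℤ) : ℤ) : ℂ) := by
      push_cast
      rw [Nat.cast_one] at h1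
      exact h1
    exact Int.cast_injective h2
  · have h1 := hF.degree hl
    rw [hdg, hdg] at h1
    have h2 : ((0 : ℤ) : ℂ) = ((1 + m * (dg Y : ℤ) - ε * (dg l : ℤ) : ℤ) : ℂ) := by
      push_cast
      exact h1
    exact Int.cast_injective h2

end main

end Cfsg.Agent.Lib.Helper7.PrD
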