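import Mathlib
import Cfsg.Prelude.Def_Characters
import Cfsg.Agent.Lib.Helper7.PrD4

set_option autoImplicit false
set_option linter.style.haveILetI false
set_option linter.unusedSectionVars false

/-!
# The case `m = -1`: the group is doubly transitive and `Y = π - 1` (helper7, for S4706)
-/

namespace Cfsg.Agent.Lib.Helper7.PrD

open Cfsg Cfsg.Agent.Lib.helper3.Irr Cfsg.Agent.Lib.helper3.CharBasic
open Cfsg.Agent.Lib.helper3.IndFun Cfsg.Agent.Lib.helper3.CycTI Cfsg.Agent.Lib.Helper7.BrP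
open Cfsg.Agent.Lib.helper3.PermChar
open scoped ComplexConjugate
open Classical

variable {G : Type*} [Group G] [Fintype G]
variable (X : Type*) [Fintype X] [MulAction G X] [MulAction.IsPretransitive G X]
variable {P : Subgroup G} {p : ℕ} {Y : IrrCharacter G} {m ε : ℤ} {S : Finset (IrrCharacter G)}

theorem Fam.nonempty (hF : Fam P p Y m ε S) (h5 : 5 ≤ p) : S.Nonempty := by
  rw [← Finset.card_pos]
  have := hF.hcard
  omega

theorem case_neg (hF : Fam P p Y m ε S) (hp : p.Prime) (h5 : 5 ≤ p) (hP : Nat.card P = p)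
    (hX : Fintype.card X = p) (hreg : ∀ x ∈ P, x ≠ 1 → fx X x = 0) (hm : m = -1) :
    ε = -1 ∧ (∀ g : G, (Y : G → ℂ) g = (fx X g : ℂ) - 1) ∧
      (∀ l ∈ S, (l : G → ℂ) 1 = (p : ℂ) - 2) ∧ MulAction.IsMultiplyPretransitive G X 2 := by
  letI : Fintype P := Fintype.ofFinite P
  haveI : Nonempty X := by
    rw [← Fintype.card_pos_iff, hX]; exact hp.pos
  have hπ : IsCharacter G (pc (G := G) X) := pc_isCharacter X
  obtain ⟨a, ha⟩ := exists_decomposition_of_isCharacter hπ
  have hdegex : ∀ ψ : IrrCharacter G, ∃ n : ℕ, 0 < n ∧ (ψ : G → ℂ) 1 = n :=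
    fun ψ => exists_pos_nat_apply_one ψ.2
  choose dg hdgpos hdg using hdegex
  obtain ⟨hat, hdt, hsum, hrel⟩ := hF.relations X hp hP hX hreg a dg ha hdg
  obtain ⟨l₀, hl₀⟩ := hF.nonempty h5
  subst hm
  -- ε = -1
  have hε : ε = -1 := by
    rcases hF.hε with h | h
    · exfalso
      have h1 := (hrel l₀ hl₀).2
      rw [h] at h1
      have := hdgpos Y
      have := hdgpos l₀
      omega
    · exact h
  subst hε
  have hdl : ∀ l ∈ S, (dg l : ℤ) = (dg Y : ℤ) - 1 := by
    intro l hl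
    have h1 := (hrel l hl).2
    linarith
  have haY : 1 ≤ a Y := by
    have h1 := (hrel l₀ hl₀).1
    omega
  -- the pair {triv, Y}
  have hne : trivIrr G ≠ Y := fun h => hF.hY h.symm
  have hsplit := Finset.sum_add_sum_compl ({trivIrr G, Y} : Finset (IrrCharacter G))
    (fun ψ => a ψ * dg ψ)
  rw [Finset.sum_pair hne, hsum, hat, hdt] at hsplit
  -- the congruence
  have hcong : (p : ℤ) ∣ (dg Y : ℤ) - (-1 : ℤ) :=
    degree_congr P hp hP (Y : G → ℂ) (isCharacter_of_isIrrCharacter Y.2) (-1)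
      (fun ω hω => hF.hYm ω hω) (dg Y) (hdg Y)
  have hdY2 : 2 ≤ dg Y := by
    have h1 := hdl l₀ hl₀
    have := hdgpos l₀
    omega
  have hdYle : dg Y + 1 ≤ p := by
    have : a Y * dg Y ≥ dg Y := Nat.le_mul_of_pos_left _ haY
    omega
  have hdY : dg Y + 1 = p := by
    have h1 : (p : ℤ) ∣ ((dg Y + 1 : ℕ) : ℤ) := by
      push_cast
      have : (dg Y : ℤ) - (-1 : ℤ) = (dg Y : ℤ) + 1 := by ring
      rw [← this]
      exact hcong
    have h2 : p ∣ dg Y + 1 := Int.natCast_dvd_natCast.mp h1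
    have h3 := Nat.le_of_dvd (Nat.succ_pos _) h2
    omega
  have haY1 : a Y = 1 := by
    by_contra hcon
    have h2 : 2 ≤ a Y := by omega
    have : 2 * dg Y ≤ a Y * dg Y := Nat.mul_le_mul_right _ h2
    omega
  have hrest : ∑ ψ ∈ ({trivIrr G, Y} : Finset (IrrCharacter G))ᶜ, a ψ * dg ψ = 0 := by
    rw [haY1] at hsplit
    omega
  have hzero : ∀ ψ : IrrCharacter G, ψ ≠ trivIrr G → ψ ≠ Y → a ψ = 0 := by
    intro ψ h1 h2
    have h3 := (Finset.sum_eq_zero_iff.mp hrest) ψ (by
      rw [Finset.mem_compl, Finset.mem_insert, Finset.mem_singleton]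
      push Not
      exact ⟨h1, h2⟩)
    rcases Nat.mul_eq_zero.mp h3 with h | h
    · exact h
    · have := hdgpos ψ
      omega
  have hYform : ∀ g : G, (Y : G → ℂ) g = (fx X g : ℂ) - 1 := by
    intro g
    have h1 := congrFun ha g
    rw [decomposition_apply, ← Finset.sum_add_sum_compl ({trivIrr G, Y} : Finset (IrrCharacter G)),
      Finset.sum_pair hne, hat, haY1] at h1
    rw [Finset.sum_eq_zero (s := ({trivIrr G, Y} : Finset (IrrCharacter G))ᶜ)] at h1
    · have h3 : ((trivIrr G : IrrCharacter G) : G → ℂ) g = 1 := rfl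
      rw [h3] at h1
      have h4 : pc (G := G) X g = (fx X g : ℂ) := rfl
      rw [h4] at h1
      rw [h1]
      push_cast
      ring
    · intro ψ hψ
      rw [Finset.mem_compl, Finset.mem_insert, Finset.mem_singleton] at hψ
      push Not at hψ
      rw [hzero ψ hψ.1 hψ.2]
      simp
  refine ⟨rfl, hYform, ?_, ?_⟩
  · intro l hl
    rw [hdg l]
    have h1 := hdl l hl
    have h2 : ((dg l : ℤ) : ℂ) = (((dg Y : ℤ) - 1 : ℤ) : ℂ) := by rw [h1]
    push_cast at h2
    rw [h2]
    have h3 : ((dg Y : ℕ) : ℂ) = (p : ℂ) - 1 := by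
      rw [← hdY]
      push_cast
      ring
    rw [h3]
    ring
  · apply (isIrrCharacter_permChar_sub_one_iff X (by
      rw [Nat.card_eq_fintype_card, hX]; omega)).mp
    have : (fun g : G => (Nat.card (MulAction.fixedBy X g) : ℂ) - 1) = (Y : G → ℂ) := by
      funext g
      rw [hYform g, fx_eq_natCard]
    rw [this]
    exact Y.2

end Cfsg.Agent.Lib.Helper7.PrD
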