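import Mathlib
import Cfsg.Prelude.Def_Characters
import Cfsg.Agent.Lib.Helper7.PrD5

set_option autoImplicit false
set_option linter.style.haveILetI false
set_option linter.unusedSectionVars false

/-!
# Triple transitivity (helper7, for S4706)
-/

namespace Cfsg.Agent.Lib.Helper7.PrD

open Cfsg Cfsg.Agent.Lib.helper3.Irr Cfsg.Agent.Lib.helper3.CharBasic
open Cfsg.Agent.Lib.helper3.IndFun Cfsg.Agent.Lib.helper3.CycTI Cfsg.Agent.Lib.Helper7.BrP
open Cfsg.Agent.Lib.helper3.PermChar
open scoped ComplexConjugate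
open Classical

variable {G : Type*} [Group G] [Fintype G]
variable (X : Type*) [Fintype X] [MulAction G X] [MulAction.IsPretransitive G X]
variable {P : Subgroup G} {p : ℕ} {Y : IrrCharacter G} {S : Finset (IrrCharacter G)}

theorem mom_one (hX : 1 ≤ Fintype.card X) : mom G X 1 = Fintype.card G := by
  have h1 : MulAction.IsMultiplyPretransitive G X 1 :=
    MulAction.is_one_pretransitive_iff.mpr inferInstance
  have h2 := sum_descFactorial_of_pretransitive (G := G) X 1 hX h1
  unfold mom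
  rw [← Nat.cast_sum, h2]

theorem sum_fx (hX : 1 ≤ Fintype.card X) : ∑ g : G, (fx X g : ℤ) = Fintype.card G := by
  rw [← mom_one X hX]
  unfold mom
  simp_rw [Nat.descFactorial_one]

theorem mom_two (hX : 2 ≤ Fintype.card X) (h2 : MulAction.IsMultiplyPretransitive G X 2) :
    mom G X 2 = Fintype.card G := by
  have h := sum_descFactorial_of_pretransitive (G := G) X 2 hX h2
  unfold mom
  rw [← Nat.cast_sum, h]

theorem card_ne_zero' : (Fintype.card G : ℂ) ≠ 0 := by
  have : Fintype.card G ≠ 0 := Fintype.card_ne_zero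
  exact_mod_cast this

theorem three_trans (hF : Fam P p Y (-1) (-1) S) (hp : p.Prime) (h5 : 5 ≤ p)
    (hP : Nat.card P = p) (hX : Fintype.card X = p) (hreg : ∀ x ∈ P, x ≠ 1 → fx X x = 0)
    (hY : ∀ g : G, (Y : G → ℂ) g = (fx X g : ℂ) - 1)
    (hl : ∀ l ∈ S, (l : G → ℂ) 1 = (p : ℂ) - 2)
    (h2 : MulAction.IsMultiplyPretransitive G X 2) :
    MulAction.IsMultiplyPretransitive G X 3 := by
  have hG0 := card_ne_zero' (G := G)
  have hYc : IsCharacter G (Y : G → ℂ) := isCharacter_of_isIrrCharacter Y.2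
  obtain ⟨θ, hθdef⟩ : ∃ θ : G → ℂ, θ = (Y : G → ℂ) * (Y : G → ℂ) := ⟨_, rfl⟩
  have hθ : IsCharacter G θ := by rw [hθdef]; exact isCharacter_mul hYc hYc
  obtain ⟨c, hc⟩ := exists_decomposition_of_isCharacter hθ
  have hdegex : ∀ ψ : IrrCharacter G, ∃ n : ℕ, 0 < n ∧ (ψ : G → ℂ) 1 = n :=
    fun ψ => exists_pos_nat_apply_one ψ.2
  choose dg hdgpos hdg using hdegex
  -- integer forms
  obtain ⟨A, hA⟩ : ∃ A : G → ℤ, A = fun g => (fx X g : ℤ) - 1 := ⟨_, rfl⟩
  have hYA : (Y : G → ℂ) = fun g => (A g : ℂ) := by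
    funext g
    rw [hY g, hA]
    push_cast
    ring
  have hθA : θ = fun g => ((A g ^ 2 : ℤ) : ℂ) := by
    funext g
    rw [hθdef, Pi.mul_apply, hYA]
    push_cast
    ring
  have hm1 := sum_fx (G := G) X (by omega)
  have hm2 := mom_two (G := G) X (by omega) h2
  unfold mom at hm2
  simp_rw [descFactorial_two_cast] at hm2
  -- c triv = 1
  have hct : c (trivIrr G) = 1 := by
    have h1 : classInner θ ((trivIrr G : IrrCharacter G) : G → ℂ) = c (trivIrr G) := by
      rw [hc]; exact classInner_decomposition_left _ _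
    have h3 : ((trivIrr G : IrrCharacter G) : G → ℂ) = fun g => (((fun _ => 1 : G → ℤ) g : ℤ) : ℂ) := by
      funext g
      show (1 : ℂ) = _
      simp
    rw [hθA, h3, classInner_intCast] at h1
    have h4 : ∑ g : G, A g ^ 2 * (fun _ => 1 : G → ℤ) g = Fintype.card G := by
      simp only [mul_one]
      have : ∀ g : G, A g ^ 2 = (fx X g : ℤ) * ((fx X g : ℤ) - 1) - (fx X g : ℤ) + 1 := by
        intro g; rw [hA]; ring
      simp_rw [this, Finset.sum_add_distrib, Finset.sum_sub_distrib, hm2, hm1]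
      simp
    rw [h4] at h1
    push_cast at h1
    rw [div_self hG0] at h1
    exact_mod_cast h1.symm
  -- c Y * |G| = mom 3
  have hcY : (c Y : ℤ) * Fintype.card G = mom G X 3 := by
    have h1 : classInner θ (Y : G → ℂ) = c Y := by
      rw [hc]; exact classInner_decomposition_left _ _
    rw [hθA, hYA, classInner_intCast] at h1
    have h4 : ∑ g : G, A g ^ 2 * A g = mom G X 3 := by
      unfold mom
      have : ∀ g : G, A g ^ 2 * A g
          = ((fx X g).descFactorial 3 : ℤ) + (fx X g : ℤ) - 1 := by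
        intro g; rw [hA, descFactorial_three_cast]; ring
      simp_rw [this, Finset.sum_sub_distrib, Finset.sum_add_distrib, hm1]
      simp
    rw [h4, div_eq_iff hG0] at h1
    have h5' : ((mom G X 3 : ℤ) : ℂ) = (((c Y : ℤ) * Fintype.card G : ℤ) : ℂ) := by
      push_cast
      exact h1
    exact (Int.cast_injective h5').symm
  -- c l = c Y
  have hcl : ∀ l ∈ S, c l = c Y := by
    intro l hlS
    have h1 := hF.pair hp hP θ (isClassFunction_of_isCharacter hθ) 1 (map_one _)
      (fun x hx hx1 => by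
        rw [hθdef, Pi.mul_apply, hY x, hreg x hx hx1]
        simp) hlS
    rw [classInner_one_eq_triv, hc, classInner_decomp_right, classInner_decomp_right,
      classInner_decomp_right, hct] at h1
    have h3 : ((1 : ℤ) : ℂ) = ((1 + (-1) * (c Y : ℤ) - (-1) * (c l : ℤ) : ℤ) : ℂ) := by
      push_cast
      rw [Nat.cast_one] at h1
      push_cast at h1
      exact h1
    have h4 := Int.cast_injective h3
    omega
  -- degrees
  have hdt : dg (trivIrr G) = 1 := by
    have h1 := hdg (trivIrr G)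
    have h3 : ((trivIrr G : IrrCharacter G) : G → ℂ) 1 = 1 := rfl
    rw [h3] at h1
    exact_mod_cast h1.symm
  have hdY : dg Y + 1 = p := by
    have h1 := hdg Y
    rw [hY 1, fx_one, hX] at h1
    have h3 : ((dg Y + 1 : ℕ) : ℂ) = (p : ℂ) := by
      push_cast
      rw [← h1]
      ring
    exact_mod_cast h3
  have hdl : ∀ l ∈ S, dg l + 2 = p := by
    intro l hlS
    have h1 := hdg l
    rw [hl l hlS] at h1
    have h3 : ((dg l + 2 : ℕ) : ℂ) = (p : ℂ) := by
      push_cast
      rw [← h1]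
      ring
    exact_mod_cast h3
  -- total degree
  have hdeg : ∑ ψ : IrrCharacter G, c ψ * dg ψ = dg Y * dg Y := by
    have h1 := congrFun hc 1
    rw [decomposition_degree c dg hdg, hθdef, Pi.mul_apply, hdg Y] at h1
    exact_mod_cast h1.symm
  have hYS : Y ∉ S := fun h => (hF.hS Y h).2.1 rfl
  have htS : trivIrr G ∉ insert Y S := by
    rw [Finset.mem_insert]
    rintro (h | h)
    · exact hF.hY h.symm
    · exact (hF.hS _ h).1 rfl
  have hle : ∑ ψ ∈ insert (trivIrr G) (insert Y S), c ψ * dg ψ ≤ dg Y * dg Y := by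
    rw [← hdeg]
    exact Finset.sum_le_univ_sum_of_nonneg (fun ψ => Nat.zero_le _)
  rw [Finset.sum_insert htS, Finset.sum_insert hYS, hct, hdt] at hle
  have hSsum : ∑ l ∈ S, c l * dg l = S.card * (c Y * (dg Y - 1)) := by
    rw [Finset.sum_congr rfl (fun l hlS => by
      rw [hcl l hlS, show dg l = dg Y - 1 from by have := hdl l hlS; omega])]
    rw [Finset.sum_const, smul_eq_mul]
  rw [hSsum] at hle
  have hcard := hF.hcard
  have hcY1 : c Y ≤ 1 := by
    by_contra hcon
    have h2' : 2 ≤ c Y := by omega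
    have hd4 : 4 ≤ dg Y := by omega
    have e1 : 2 * dg Y ≤ c Y * dg Y := Nat.mul_le_mul_right _ h2'
    have e2 : 2 * (dg Y - 1) ≤ c Y * (dg Y - 1) := Nat.mul_le_mul_right _ h2'
    have e3 : S.card * (2 * (dg Y - 1)) ≤ S.card * (c Y * (dg Y - 1)) :=
      Nat.mul_le_mul_left _ e2
    have e4 : dg Y * (dg Y - 1) ≤ (2 * S.card) * (dg Y - 1) :=
      Nat.mul_le_mul_right _ (by omega)
    have e5 : dg Y * (dg Y - 1) + dg Y = dg Y * dg Y := by
      obtain ⟨k, hk⟩ : ∃ k, dg Y = k + 1 := ⟨dg Y - 1, by omega⟩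
      rw [hk]
      simp only [Nat.add_sub_cancel]
      ring
    have e6 : S.card * (2 * (dg Y - 1)) = (2 * S.card) * (dg Y - 1) := by ring
    omega
  apply pretransitive_of_sum_descFactorial_le X 3
  have h6 : ((∑ g : G, (fx X g).descFactorial 3 : ℕ) : ℤ) ≤ ((Fintype.card G : ℕ) : ℤ) := by
    push_cast
    have : mom G X 3 = ∑ g : G, ((fx X g).descFactorial 3 : ℤ) := rfl
    rw [← this, ← hcY]
    have h7 : (c Y : ℤ) ≤ 1 := by exact_mod_cast hcY1
    have h8 : (0 : ℤ) ≤ (Fintype.card G : ℤ) := Int.natCast_nonneg _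
    nlinarith
  exact_mod_cast h6

end Cfsg.Agent.Lib.Helper7.PrD
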