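import Mathlib
import Cfsg.Prelude.Def_Characters
import Cfsg.Agent.Lib.Helper7.PrD6

set_option autoImplicit false
set_option linter.style.haveILetI false
set_option linter.unusedSectionVars false

/-!
# Sharpness: only the identity fixes three points (helper7, for S4706)
-/

namespace Cfsg.Agent.Lib.Helper7.PrD

open Cfsg Cfsg.Agent.Lib.helper3.Irr Cfsg.Agent.Lib.helper3.CharBasic
open Cfsg.Agent.Lib.helper3.IndFun Cfsg.Agent.Lib.helper3.CycTI Cfsg.Agent.Lib.Helper7.BrP
open Cfsg.Agent.Lib.helper3.PermChar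
open scoped ComplexConjugate
open Classical

variable {G : Type*} [Group G] [Fintype G]
variable (X : Type*) [Fintype X] [MulAction G X] [MulAction.IsPretransitive G X]
variable {P : Subgroup G} {p : ℕ} {Y : IrrCharacter G} {S : Finset (IrrCharacter G)}

theorem sg_conj (g h : G) : sg G X (h * g * h⁻¹) = sg G X g := by
  unfold sg
  have : h * g * h⁻¹ * (h * g * h⁻¹) = h * (g * g) * h⁻¹ := by group
  rw [this, fx_conj, fx_conj]

theorem mom_three (hX : 3 ≤ Fintype.card X) (h3 : MulAction.IsMultiplyPretransitive G X 3) :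
    mom G X 3 = Fintype.card G := by
  have h := sum_descFactorial_of_pretransitive (G := G) X 3 hX h3
  unfold mom
  rw [← Nat.cast_sum, h]

/-- the moment inequality -/
theorem mom_four_ge (hF : Fam P p Y (-1) (-1) S) (hp : p.Prime) (h5 : 5 ≤ p)
    (hP : Nat.card P = p) (hX : Fintype.card X = p) (hreg : ∀ x ∈ P, x ≠ 1 → fx X x = 0)
    (hY : ∀ g : G, (Y : G → ℂ) g = (fx X g : ℂ) - 1)
    (h2 : MulAction.IsMultiplyPretransitive G X 2)
    (h3 : MulAction.IsMultiplyPretransitive G X 3) :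
    ((p : ℤ) - 3) * (Fintype.card G : ℤ) ≤ mom G X 4 := by
  have hG0 := card_ne_zero' (G := G)
  have hm2 := mom_two (G := G) X (by omega) h2
  have hm3 := mom_three (G := G) X (by omega) h3
  -- the class function σ
  obtain ⟨σ, hσdef⟩ : ∃ σ : G → ℂ, σ = fun g => (sg G X g : ℂ) := ⟨_, rfl⟩
  have hσc : IsClassFunction G σ := by
    intro g h
    rw [hσdef]
    show ((sg G X (h * g * h⁻¹) : ℤ) : ℂ) = _
    rw [sg_conj]
  have hσP : ∀ x ∈ P, x ≠ 1 → σ x = 0 := by
    intro x hx hx1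
    have hxx : x * x ≠ 1 := by
      intro h
      have h1 : orderOf x ∣ 2 := by
        apply orderOf_dvd_of_pow_eq_one
        rw [pow_two]; exact h
      have h2' : orderOf (⟨x, hx⟩ : P) ∣ p := by
        rw [← hP]; exact orderOf_dvd_natCard _
      rw [Subgroup.orderOf_mk] at h2'
      rcases (Nat.dvd_prime hp).mp h2' with h3' | h3'
      · exact hx1 (orderOf_eq_one_iff.mp h3')
      · rw [h3'] at h1
        have := Nat.le_of_dvd (by norm_num) h1
        omega
    rw [hσdef]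
    show ((sg G X x : ℤ) : ℂ) = 0
    unfold sg
    rw [hreg x hx hx1, hreg (x * x) (P.mul_mem hx hx) hxx]
    simp
  -- V and W
  obtain ⟨V, hV⟩ : ∃ V : ℤ, V = ∑ g : G, sg G X g * (fx X g : ℤ) := ⟨_, rfl⟩
  obtain ⟨W, hW⟩ : ∃ W : ℤ, W = ∑ g : G, sg G X g ^ 2 := ⟨_, rfl⟩
  have hVge : 2 * (Fintype.card G : ℤ) ≤ V := by
    rw [hV, ← hm2]; exact sum_sg_mul_fx X
  have hWle : W ≤ 2 * mom G X 4 + 8 * (Fintype.card G : ℤ) := by
    have := sum_sg_sq_le (G := G) X h2
    rw [hm2, hm3] at this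
    rw [hW]
    linarith
  have hsum0 := sum_sg (G := G) X h2
  -- inner products
  have h1σ : classInner (fun _ => (1 : ℂ)) σ = 0 := by
    have h3' : (fun _ => (1 : ℂ)) = fun g : G => (((fun _ => 1 : G → ℤ) g : ℤ) : ℂ) := by
      funext g; simp
    rw [hσdef, h3', classInner_intCast]
    simp only [one_mul]
    rw [hsum0]
    simp
  have hYσ : classInner (Y : G → ℂ) σ = (V : ℂ) / (Fintype.card G : ℂ) := by
    have hYA : (Y : G → ℂ) = fun g => (((fx X g : ℤ) - 1 : ℤ) : ℂ) := by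
      funext g
      rw [hY g]
      push_cast
      ring
    rw [hYA, hσdef, classInner_intCast]
    congr 2
    rw [hV]
    have : ∀ g : G, ((fx X g : ℤ) - 1) * sg G X g = sg G X g * (fx X g : ℤ) - sg G X g := by
      intro g; ring
    simp_rw [this, Finset.sum_sub_distrib, hsum0, sub_zero]
  have hlσ : ∀ l ∈ S, classInner (l : G → ℂ) σ = (V : ℂ) / (Fintype.card G : ℂ) := by
    intro l hlS
    have h1 := hF.pair hp hP σ hσc 0 (map_zero _) hσP hlS
    rw [h1σ, hYσ] at h1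
    push_cast at h1
    linear_combination -h1
  obtain ⟨v, hv⟩ : ∃ v : ℝ, v = (V : ℝ) / (Fintype.card G : ℝ) := ⟨_, rfl⟩
  have hvc : ((v : ℝ) : ℂ) = (V : ℂ) / (Fintype.card G : ℂ) := by
    rw [hv]; push_cast; rfl
  have hYS : Y ∉ S := fun h => (hF.hS Y h).2.1 rfl
  have hbes := bessel_const σ hσc (insert Y S) v (by
    intro ψ hψ
    rw [← classInner_conj_symm]
    rcases Finset.mem_insert.mp hψ with h | h
    · rw [h, hYσ, ← hvc, Complex.conj_ofReal]
    · rw [hlσ ψ h, ← hvc, Complex.conj_ofReal])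
  rw [Finset.card_insert_of_notMem hYS] at hbes
  have hσσ : (classInner σ σ).re = (W : ℝ) / (Fintype.card G : ℝ) := by
    rw [hσdef, classInner_intCast]
    have : ∑ g : G, sg G X g * sg G X g = W := by
      rw [hW]; apply Finset.sum_congr rfl; intro g _; ring
    rw [this]
    have h5' : ((W : ℂ) / (Fintype.card G : ℂ)) = (((W : ℝ) / (Fintype.card G : ℝ) : ℝ) : ℂ) := by
      push_cast; rfl
    rw [h5', Complex.ofReal_re]
  rw [hσσ] at hbes
  -- real arithmetic
  have hn : (0 : ℝ) < (Fintype.card G : ℝ) := by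
    have : 0 < Fintype.card G := Fintype.card_pos
    exact_mod_cast this
  have hVr : 2 * (Fintype.card G : ℝ) ≤ (V : ℝ) := by exact_mod_cast hVge
  have hWr : (W : ℝ) ≤ 2 * (mom G X 4 : ℝ) + 8 * (Fintype.card G : ℝ) := by exact_mod_cast hWle
  have hcard : ((p : ℝ) - 1) ≤ 2 * (S.card : ℝ) := by
    have h1 := hF.hcard
    have h2' : p ≤ 2 * S.card + 1 := by omega
    have h3' : (p : ℝ) ≤ 2 * (S.card : ℝ) + 1 := by exact_mod_cast h2'
    linarith
  have hv2 : 2 ≤ v := by
    rw [hv, le_div_iff₀ hn]; exact hVr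
  have hv4 : 4 ≤ v ^ 2 := by nlinarith
  have hs0 : (0 : ℝ) ≤ (S.card : ℝ) := Nat.cast_nonneg _
  have h6 : ((S.card : ℝ) + 1) * 4 ≤ (W : ℝ) / (Fintype.card G : ℝ) := by
    have : ((S.card : ℝ) + 1) * 4 ≤ ((S.card : ℝ) + 1) * v ^ 2 :=
      mul_le_mul_of_nonneg_left hv4 (by linarith)
    have h7 : ((S.card + 1 : ℕ) : ℝ) = (S.card : ℝ) + 1 := by push_cast; ring
    rw [h7] at hbes
    linarith
  rw [le_div_iff₀ hn] at h6
  have h8 : ((p : ℝ) - 1) * (Fintype.card G : ℝ) ≤ 2 * (S.card : ℝ) * (Fintype.card G : ℝ) :=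
    mul_le_mul_of_nonneg_right hcard hn.le
  have h9 : ((p : ℝ) - 3) * (Fintype.card G : ℝ) ≤ (mom G X 4 : ℝ) := by nlinarith
  exact_mod_cast h9

end Cfsg.Agent.Lib.Helper7.PrD
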