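import Mathlib
import Cfsg.Prelude.Def_Characters
import Cfsg.Agent.Lib.Helper7.PrD7

set_option autoImplicit false
set_option linter.style.haveILetI false
set_option linter.unusedSectionVars false

/-!
# Sharpness, and the case `m = 1` (normal Sylow subgroup) (helper7, for S4706)
-/

namespace Cfsg.Agent.Lib.Helper7.PrD

open Cfsg Cfsg.Agent.Lib.helper3.Irr Cfsg.Agent.Lib.helper3.CharBasic
open Cfsg.Agent.Lib.helper3.IndFun Cfsg.Agent.Lib.helper3.CycTI Cfsg.Agent.Lib.Helper7.BrP
open Cfsg.Agent.Lib.helper3.PermChar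
open scoped ComplexConjugate
open Classical

variable {G : Type*} [Group G] [Fintype G]
variable (X : Type*) [Fintype X] [MulAction G X] [MulAction.IsPretransitive G X]
variable {P : Subgroup G} {p : ℕ} {Y : IrrCharacter G} {S : Finset (IrrCharacter G)}

theorem eq_one_of_fx_eq [FaithfulSMul G X] {g : G} (h : fx X g = Fintype.card X) : g = 1 := by
  apply FaithfulSMul.eq_of_smul_eq_smul (α := X)
  intro x
  rw [one_smul]
  exact smul_eq_of_fx_eq X h x

/-- only the identity fixes three points -/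
theorem sharp [FaithfulSMul G X] (hF : Fam P p Y (-1) (-1) S) (hp : p.Prime) (h5 : 5 ≤ p)
    (hP : Nat.card P = p) (hX : Fintype.card X = p) (hreg : ∀ x ∈ P, x ≠ 1 → fx X x = 0)
    (hY : ∀ g : G, (Y : G → ℂ) g = (fx X g : ℂ) - 1)
    (h2 : MulAction.IsMultiplyPretransitive G X 2)
    (h3 : MulAction.IsMultiplyPretransitive G X 3) :
    ∀ g : G, 3 ≤ fx X g → g = 1 := by
  have hm4 := mom_four_ge X hF hp h5 hP hX hreg hY h2 h3
  have hm3 := mom_three (G := G) X (by omega) h3
  have hterm : ∀ g : G, (0 : ℤ) ≤ ((fx X g).descFactorial 3 : ℤ) * ((p : ℤ) - (fx X g : ℤ)) := by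
    intro g
    apply mul_nonneg (Int.natCast_nonneg _)
    have := fx_le X g
    rw [hX] at this
    have : (fx X g : ℤ) ≤ (p : ℤ) := by exact_mod_cast this
    linarith
  have hsum : ∑ g : G, ((fx X g).descFactorial 3 : ℤ) * ((p : ℤ) - (fx X g : ℤ))
      = ((p : ℤ) - 3) * mom G X 3 - mom G X 4 := by
    unfold mom
    rw [Finset.mul_sum, ← Finset.sum_sub_distrib]
    apply Finset.sum_congr rfl
    intro g _
    rw [descFactorial_three_cast, descFactorial_four_cast]
    ring
  have hle : ∑ g : G, ((fx X g).descFactorial 3 : ℤ) * ((p : ℤ) - (fx X g : ℤ)) ≤ 0 := by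
    rw [hsum, hm3]
    linarith
  have hzero : ∑ g : G, ((fx X g).descFactorial 3 : ℤ) * ((p : ℤ) - (fx X g : ℤ)) = 0 :=
    le_antisymm hle (Finset.sum_nonneg (fun g _ => hterm g))
  have hall := (Finset.sum_eq_zero_iff_of_nonneg (fun g _ => hterm g)).mp hzero
  intro g hg
  have h1 := hall g (Finset.mem_univ _)
  rcases mul_eq_zero.mp h1 with h | h
  · exfalso
    have h4 : (fx X g).descFactorial 3 = 0 := by exact_mod_cast h
    rw [Nat.descFactorial_eq_zero_iff_lt] at h4
    omega
  · apply eq_one_of_fx_eq X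
    rw [hX]
    have : (fx X g : ℤ) = (p : ℤ) := by linarith
    exact_mod_cast this

end Cfsg.Agent.Lib.Helper7.PrD
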