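import Mathlib
import Cfsg.Prelude.Def_Characters
import Cfsg.Agent.Lib.Helper7.PrD8

set_option autoImplicit false
set_option linter.style.haveILetI false
set_option linter.unusedSectionVars false

/-!
# The case `m = 1`: the Sylow subgroup is normal (helper7, for S4706)
-/

namespace Cfsg.Agent.Lib.Helper7.PrD

open Cfsg Cfsg.Agent.Lib.helper3.Irr Cfsg.Agent.Lib.helper3.CharBasic
open Cfsg.Agent.Lib.helper3.IndFun Cfsg.Agent.Lib.helper3.CycTI Cfsg.Agent.Lib.Helper7.BrP
open Cfsg.Agent.Lib.helper3.PermChar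
open scoped ComplexConjugate
open Classical

variable {G : Type*} [Group G] [Fintype G]
variable (X : Type*) [Fintype X] [MulAction G X] [MulAction.IsPretransitive G X]
variable {P : Subgroup G} {p : ℕ} {Y : IrrCharacter G} {m ε : ℤ} {S : Finset (IrrCharacter G)}

/-- a linear character `Y` with `⟨Ξ_ω, Y⟩ = 1` is trivial on `P` -/
theorem apply_eq_one_of_classInner_Xi (hY1 : (Y : G → ℂ) 1 = 1) {ω : P →* ℂˣ}
    (h : classInner (Xi P ω) (Y : G → ℂ) = 1) {x : G} (hx : x ∈ P) : (Y : G → ℂ) x = 1 := by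
  letI : Fintype P := Fintype.ofFinite P
  have hYc : IsCharacter G (Y : G → ℂ) := isCharacter_of_isIrrCharacter Y.2
  have hYP : IsIrrCharacter P (fun x : P => (Y : G → ℂ) x) :=
    isIrrCharacter_of_linear (isCharacter_restrict hYc P) hY1
  rw [classInner_Xi P ω _ (isClassFunction_of_isCharacter hYc),
    irr_classInner_eq (Cfsg.Agent.Lib.helper3.Pf4.isIrrCharacter_linFun 1) hYP,
    irr_classInner_eq (Cfsg.Agent.Lib.helper3.Pf4.isIrrCharacter_linFun ω) hYP] at h
  by_cases h1 : linFun (1 : P →* ℂˣ) = fun x : P => (Y : G → ℂ) x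
  · have := congrFun h1 ⟨x, hx⟩
    rw [linFun_one_eq] at this
    exact this.symm
  · exfalso
    rw [if_neg h1] at h
    split_ifs at h
    · norm_num at h
    · norm_num at h

theorem case_one [FaithfulSMul G X] (hF : Fam P p Y m ε S) (hp : p.Prime) (h5 : 5 ≤ p)
    (hP : Nat.card P = p) (hX : Fintype.card X = p) (hreg : ∀ x ∈ P, x ≠ 1 → fx X x = 0)
    (hmax : ∀ Q : Subgroup G, IsPGroup p Q → P ≤ Q → Q = P) (hm : m = 1) : P.Normal := by
  letI : Fintype P := Fintype.ofFinite P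
  haveI : Nonempty X := by
    rw [← Fintype.card_pos_iff, hX]; exact hp.pos
  have hπ : IsCharacter G (pc (G := G) X) := pc_isCharacter X
  obtain ⟨a, ha⟩ := exists_decomposition_of_isCharacter hπ
  have hdegex : ∀ ψ : IrrCharacter G, ∃ n : ℕ, 0 < n ∧ (ψ : G → ℂ) 1 = n :=
    fun ψ => exists_pos_nat_apply_one ψ.2
  choose dg hdgpos hdg using hdegex
  obtain ⟨hat, hdt, hsum, hrel⟩ := hF.relations X hp hP hX hreg a dg ha hdg
  obtain ⟨l₀, hl₀⟩ := hF.nonempty h5
  subst hm
  have hε : ε = 1 := by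
    rcases hF.hε with h | h
    · exact h
    · exfalso
      have h1 := (hrel l₀ hl₀).2
      rw [h] at h1
      have := hdgpos Y
      have := hdgpos l₀
      omega
  subst hε
  have hdl : ∀ l ∈ S, dg l = dg Y + 1 := by
    intro l hl
    have h1 := (hrel l hl).2
    omega
  have hal : ∀ l ∈ S, a l = a Y + 1 := by
    intro l hl
    have h1 := (hrel l hl).1
    omega
  have htS : trivIrr G ∉ S := fun h => (hF.hS _ h).1 rfl
  have hle : ∑ ψ ∈ insert (trivIrr G) S, a ψ * dg ψ ≤ p := by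
    rw [← hsum]
    exact Finset.sum_le_univ_sum_of_nonneg (fun ψ => Nat.zero_le _)
  have hSsum : ∑ l ∈ S, a l * dg l = S.card * ((a Y + 1) * (dg Y + 1)) := by
    rw [Finset.sum_congr rfl (fun l hlS => by rw [hal l hlS, hdl l hlS])]
    rw [Finset.sum_const, smul_eq_mul]
  have hTsum : ∑ ψ ∈ insert (trivIrr G) S, a ψ * dg ψ
      = 1 + S.card * ((a Y + 1) * (dg Y + 1)) := by
    rw [Finset.sum_insert htS, hat, hdt, hSsum]
  rw [hTsum] at hle
  have hcard := hF.hcard
  have hSpos : 2 ≤ S.card := by omega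
  have hdY1 : dg Y = 1 := by
    by_contra hcon
    have h2 : 2 ≤ dg Y := by have := hdgpos Y; omega
    have e1 : 1 * 3 ≤ (a Y + 1) * (dg Y + 1) := Nat.mul_le_mul (by omega) (by omega)
    have e2 : S.card * (1 * 3) ≤ S.card * ((a Y + 1) * (dg Y + 1)) := Nat.mul_le_mul_left _ e1
    omega
  have haY0 : a Y = 0 := by
    by_contra hcon
    have e1 : 2 * 2 ≤ (a Y + 1) * (dg Y + 1) := Nat.mul_le_mul (by omega) (by omega)
    have e2 : S.card * (2 * 2) ≤ S.card * ((a Y + 1) * (dg Y + 1)) := Nat.mul_le_mul_left _ e1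
    omega
  have hTp : ∑ ψ ∈ insert (trivIrr G) S, a ψ * dg ψ = p := by
    have e : (a Y + 1) * (dg Y + 1) = 2 := by rw [haY0, hdY1]
    rw [hTsum, e]
    rw [e] at hle
    omega
  have hrest : ∑ ψ ∈ (insert (trivIrr G) S)ᶜ, a ψ * dg ψ = 0 := by
    have := Finset.sum_add_sum_compl (insert (trivIrr G) S) (fun ψ => a ψ * dg ψ)
    rw [hsum, hTp] at this
    omega
  have hzero : ∀ ψ : IrrCharacter G, ψ ∉ insert (trivIrr G) S → a ψ = 0 := by
    intro ψ hψ
    have h3 := (Finset.sum_eq_zero_iff.mp hrest) ψ (Finset.mem_compl.mpr hψ)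
    rcases Nat.mul_eq_zero.mp h3 with h | h
    · exact h
    · have := hdgpos ψ
      omega
  have hY1 : (Y : G → ℂ) 1 = 1 := by rw [hdg Y, hdY1]; simp
  have hYc : IsCharacter G (Y : G → ℂ) := isCharacter_of_isIrrCharacter Y.2
  -- the key claim
  have hkey : ∀ g : G, (Y : G → ℂ) g = 1 → (∀ x : G, x⁻¹ * g * x ∈ P → x⁻¹ * g * x = 1) →
      g = 1 := by
    intro g hYg hconj
    apply eq_one_of_fx_eq X
    have hlg : ∀ l ∈ S, (l : G → ℂ) g = (l : G → ℂ) 1 := by
      intro l hl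
      obtain ⟨-, -, ω, hω, hform⟩ := hF.hS l hl
      have h1 := hform g
      rw [Cfsg.Agent.Lib.Helper5.DihN.Xi_apply_eq_zero P ω g hconj, hYg] at h1
      rw [hdg l, hdl l hl, hdY1]
      push_cast at h1 ⊢
      linear_combination h1
    have h1 := congrFun ha g
    have h2 := congrFun ha 1
    rw [decomposition_apply] at h1 h2
    have h3 : ∀ ψ : IrrCharacter G, (a ψ : ℂ) * (ψ : G → ℂ) g = (a ψ : ℂ) * (ψ : G → ℂ) 1 := by
      intro ψ
      by_cases hψ : ψ ∈ insert (trivIrr G) S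
      · rcases Finset.mem_insert.mp hψ with h | h
        · rw [h]; rfl
        · rw [hlg ψ h]
      · rw [hzero ψ hψ]; simp
    rw [Finset.sum_congr rfl (fun ψ _ => h3 ψ), ← h2] at h1
    have h4 : ((fx X g : ℕ) : ℂ) = ((fx X (1 : G) : ℕ) : ℂ) := h1
    have h5' : fx X g = fx X (1 : G) := by exact_mod_cast h4
    rw [h5', fx_one]
  -- the kernel
  obtain ⟨K, hK⟩ : ∃ K : Subgroup G, K = (Cfsg.Agent.Lib.helper3.Lin.toHom hYc hY1).ker := ⟨_, rfl⟩
  have hKn : K.Normal := by rw [hK]; exact MonoidHom.normal_ker _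
  have hmemK : ∀ g : G, g ∈ K ↔ (Y : G → ℂ) g = 1 := by
    intro g
    rw [hK, MonoidHom.mem_ker, Cfsg.Agent.Lib.helper3.Lin.toHom_apply]
  have hKp : IsPGroup p K := by
    intro k
    by_cases hk1 : (k : G) = 1
    · refine ⟨0, ?_⟩
      rw [pow_zero, pow_one]
      exact Subtype.ext hk1
    · refine ⟨1, ?_⟩
      rw [pow_one]
      have hYk := (hmemK k).mp k.2
      have hex : ∃ x : G, x⁻¹ * (k : G) * x ∈ P ∧ x⁻¹ * (k : G) * x ≠ 1 := by
        by_contra hcon
        push Not at hcon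
        exact hk1 (hkey k hYk hcon)
      obtain ⟨x, hxP, -⟩ := hex
      have h1 : (⟨x⁻¹ * (k : G) * x, hxP⟩ : P) ^ p = 1 := by
        rw [← hP]; exact pow_card_eq_one'
      have h2 : (x⁻¹ * (k : G) * x) ^ p = 1 := by
        have := congrArg Subtype.val h1
        simpa using this
      have h3 : (x⁻¹ * (k : G) * x) ^ p = x⁻¹ * (k : G) ^ p * x := by
        have := conj_pow (a := x⁻¹) (b := (k : G)) (i := p)
        rwa [inv_inv] at this
      rw [h3] at h2
      apply Subtype.ext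
      rw [Subgroup.coe_pow, Subgroup.coe_one]
      have h4 : (k : G) ^ p = x * (x⁻¹ * (k : G) ^ p * x) * x⁻¹ := by group
      rw [h4, h2]
      group
  have hPK : P ≤ K := by
    intro x hx
    rw [hmemK]
    obtain ⟨-, -, ω, hω, -⟩ := hF.hS l₀ hl₀
    have h1 := hF.hYm ω hω
    rw [Int.cast_one] at h1
    exact apply_eq_one_of_classInner_Xi hY1 h1 hx
  rw [← hmax K hKp hPK]
  exact hKn

end Cfsg.Agent.Lib.Helper7.PrD
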