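import Mathlib
import Cfsg.Prelude.Def_Characters
import Cfsg.Agent.Lib.Helper7.PrD9

set_option autoImplicit false
set_option linter.style.haveILetI false
set_option linter.unusedSectionVars false

/-!
# A faithful transitive group of prime degree `p ≥ 5` whose Sylow `p`-normalizer has order `2p`:
the Sylow subgroup is normal or the group is sharply triply transitive (helper7, for S4706)
-/

namespace Cfsg.Agent.Lib.Helper7.PrD

open Cfsg Cfsg.Agent.Lib.helper3.Irr Cfsg.Agent.Lib.helper3.CharBasic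
open Cfsg.Agent.Lib.helper3.IndFun Cfsg.Agent.Lib.helper3.CycTI Cfsg.Agent.Lib.Helper7.BrP
open scoped ComplexConjugate
open Classical

variable {G : Type*} [Group G] [Fintype G]
variable (X : Type*) [Fintype X] [MulAction G X] [MulAction.IsPretransitive G X]

theorem main_abstract [FaithfulSMul G X] (P : Subgroup G) {p : ℕ} (hp : p.Prime) (h5 : 5 ≤ p)
    (hP : Nat.card P = p)
    (hC : ∀ x ∈ P, x ≠ 1 → ∀ g : G, g * x = x * g → g ∈ P)
    (hN : Nat.card (Subgroup.normalizer (P : Set G)) = p * 2)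
    (hX : Fintype.card X = p) (hreg : ∀ x ∈ P, x ≠ 1 → fx X x = 0)
    (hmax : ∀ Q : Subgroup G, IsPGroup p Q → P ≤ Q → Q = P) :
    P.Normal ∨ (MulAction.IsMultiplyPretransitive G X 3 ∧ ∀ g : G, 3 ≤ fx X g → g = 1) := by
  obtain ⟨Y, m, ε, S, hm, hε, hY, hcard, hYm, hS⟩ := exists_family P hp hP hC hN h5
  have hF : Fam P p Y m ε S := ⟨hm, hε, hY, hcard, hYm, hS⟩
  rcases hm with hm | hm
  · left
    exact case_one X hF hp h5 hP hX hreg hmax hm
  · right
    obtain ⟨hε', hYf, hl, h2⟩ := case_neg X hF hp h5 hP hX hreg hm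
    subst hm
    subst hε'
    have h3 := three_trans X hF hp h5 hP hX hreg hYf hl h2
    exact ⟨h3, sharp X hF hp h5 hP hX hreg hYf h2 h3⟩

end Cfsg.Agent.Lib.Helper7.PrD
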