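import Mathlib
import Cfsg.Agent.Lib.Helper7.PrD1

set_option autoImplicit false
set_option linter.style.haveILetI false
set_option linter.unusedSectionVars false

/-!
# Permutation groups of prime degree: the Sylow subgroup (helper7, for S4706)
-/

namespace Cfsg.Agent.Lib.Helper7.PrD

open Classical

variable {α : Type*} [Fintype α] [DecidableEq α] {p : ℕ} [hpf : Fact p.Prime]

/-- an element of order `p` of a permutation group of degree `p` has no fixed point -/
theorem perm_fixed_eq_zero (hα : Fintype.card α = p) {σ : Equiv.Perm α} (hσ1 : σ ≠ 1)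
    (hσp : σ ^ p = 1) (a : α) : σ a ≠ a := by
  have h1 := Equiv.Perm.card_compl_support_modEq (p := p) (n := 1) (σ := σ) (by rwa [pow_one])
  rw [hα] at h1
  have h2 : σ.supportᶜ.card ≡ 0 [MOD p] := h1.trans (Nat.modEq_zero_iff_dvd.mpr dvd_rfl)
  have h3 : p ∣ σ.supportᶜ.card := Nat.modEq_zero_iff_dvd.mp h2
  have h4 : σ.supportᶜ.card ≤ p := by
    rw [← hα]; exact Finset.card_le_univ _
  have h5 : σ.supportᶜ.card = 0 := by
    by_contra hne
    have hpos : 0 < σ.supportᶜ.card := Nat.pos_of_ne_zero hne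
    have h6 := Nat.le_of_dvd hpos h3
    have h7 : σ.supportᶜ.card = Fintype.card α := by omega
    have h8 : σ.supportᶜ = Finset.univ := by
      rw [← Finset.card_eq_iff_eq_univ]; exact h7
    apply hσ1
    rw [← Equiv.Perm.support_eq_empty_iff]
    rw [← Finset.compl_eq_univ_iff]
    exact h8
  intro ha
  have : a ∈ σ.supportᶜ := by
    rw [Finset.mem_compl, Equiv.Perm.mem_support]
    exact fun h => h ha
  rw [Finset.card_eq_zero] at h5
  rw [h5] at this
  exact absurd this (Finset.notMem_empty _)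

/-- such an element is a cycle moving every point: it acts transitively -/
theorem perm_exists_zpow (hα : Fintype.card α = p) {σ : Equiv.Perm α} (hσ1 : σ ≠ 1)
    (hσp : σ ^ p = 1) (a b : α) : ∃ i : ℤ, (σ ^ i) a = b := by
  have hord : orderOf σ = p := by
    have h1 : orderOf σ ∣ p := orderOf_dvd_of_pow_eq_one hσp
    rcases (Nat.dvd_prime hpf.out).mp h1 with h | h
    · exact absurd (orderOf_eq_one_iff.mp h) hσ1
    · exact h
  have hcyc : σ.IsCycle := Equiv.Perm.isCycle_of_prime_order'' (by rw [hα]; exact hpf.out)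
    (by rw [hord, hα])
  exact hcyc.exists_zpow_eq (perm_fixed_eq_zero hα hσ1 hσp a) (perm_fixed_eq_zero hα hσ1 hσp b)

/-- the centralizer of such an element consists of its powers -/
theorem perm_commute_eq_zpow (hα : Fintype.card α = p) {σ τ : Equiv.Perm α} (hσ1 : σ ≠ 1)
    (hσp : σ ^ p = 1) (hcomm : τ * σ = σ * τ) : ∃ i : ℤ, τ = σ ^ i := by
  haveI : Nonempty α := by
    rw [← Fintype.card_pos_iff, hα]; exact hpf.out.pos
  obtain ⟨a₀⟩ := ‹Nonempty α›
  obtain ⟨i, hi⟩ := perm_exists_zpow hα hσ1 hσp a₀ (τ a₀)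
  refine ⟨i, ?_⟩
  ext b
  obtain ⟨j, hj⟩ := perm_exists_zpow hα hσ1 hσp a₀ b
  have hc : Commute τ σ := hcomm
  have hcj : Commute τ (σ ^ j) := hc.zpow_right j
  rw [← hj]
  have h1 : τ ((σ ^ j) a₀) = (σ ^ j) (τ a₀) := by
    have := congrArg (fun f : Equiv.Perm α => f a₀) hcj.eq
    simpa using this
  rw [h1, ← hi, ← Equiv.Perm.mul_apply, ← Equiv.Perm.mul_apply, ← zpow_add, ← zpow_add, add_comm]

end Cfsg.Agent.Lib.Helper7.PrD
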