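import Mathlib
import Cfsg.Prelude.Def_Characters
import Cfsg.Agent.Lib.Helper7.PrD10
import Cfsg.Agent.Lib.Helper7.PrD11

set_option autoImplicit false
set_option linter.style.haveILetI false
set_option linter.unusedSectionVars false

/-!
# Permutation groups of prime degree `p ≥ 5` with Sylow normalizer of order `2p` (helper7, S4706)
-/

namespace Cfsg.Agent.Lib.Helper7.PrD

open Classical

section aux

variable {G : Type*} [Group G] [Fintype G] (X : Type*) [Fintype X] [MulAction G X]

theorem fx_eq_zero_of {g : G} (h : ∀ a : X, g • a ≠ a) : fx X g = 0 := by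
  unfold fx
  rw [Finset.card_eq_zero, Finset.filter_eq_empty_iff]
  intro a _
  exact h a

theorem three_le_fx {g : G} {a b c : X} (hab : a ≠ b) (hac : a ≠ c) (hbc : b ≠ c)
    (ha : g • a = a) (hb : g • b = b) (hc : g • c = c) : 3 ≤ fx X g := by
  unfold fx
  have hsub : ({a, b, c} : Finset X) ⊆ Finset.univ.filter (fun x : X => g • x = x) := by
    intro x hx
    rw [Finset.mem_insert, Finset.mem_insert, Finset.mem_singleton] at hx
    rw [Finset.mem_filter]
    refine ⟨Finset.mem_univ _, ?_⟩
    rcases hx with rfl | rfl | rfl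
    · exact ha
    · exact hb
    · exact hc
  have h3' : ({a, b, c} : Finset X).card = 3 :=
    Finset.card_eq_three.mpr ⟨a, b, c, hab, hac, hbc, rfl⟩
  rw [← h3']
  exact Finset.card_le_card hsub

end aux

variable {α : Type*} [Fintype α] [DecidableEq α] {p : ℕ} [hpf : Fact p.Prime]

theorem card_sylow_eq (hα : Fintype.card α = p) (G : Subgroup (Equiv.Perm α)) (P : Sylow p G)
    (hdvd : p ∣ Nat.card G) : Nat.card (P : Subgroup G) = p := by
  have hp := hpf.out
  obtain ⟨k, hk⟩ := IsPGroup.exists_card_eq P.2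
  have h1 := P.dvd_card_of_dvd_card hdvd
  have hk1 : 1 ≤ k := by
    rcases Nat.eq_zero_or_pos k with h | h
    · rw [hk, h, pow_zero] at h1
      exact absurd (Nat.le_of_dvd one_pos h1) (by have := hp.two_le; omega)
    · exact h
  have hk2 : k ≤ 1 := by
    by_contra hcon
    have h2 : 2 ≤ k := by omega
    have h3 : p ^ 2 ∣ Nat.card (P : Subgroup G) := by
      rw [hk]; exact pow_dvd_pow p h2
    have h4 : Nat.card (P : Subgroup G) ∣ Nat.card G := Subgroup.card_subgroup_dvd_card _
    have h5 : Nat.card G ∣ Nat.card (Equiv.Perm α) := Subgroup.card_subgroup_dvd_card _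
    rw [Nat.card_eq_fintype_card (α := Equiv.Perm α), Fintype.card_perm, hα] at h5
    have h6 : p ^ 2 ∣ p.factorial := h3.trans (h4.trans h5)
    obtain ⟨q, hq⟩ : ∃ q, p = q + 1 := ⟨p - 1, by have := hp.pos; omega⟩
    rw [hq, Nat.factorial_succ, ← hq, sq] at h6
    have h7 : p ∣ q.factorial := Nat.dvd_of_mul_dvd_mul_left hp.pos h6
    have h8 := (Nat.Prime.dvd_factorial hp).mp h7
    omega
  have : k = 1 := by omega
  rw [hk, this, pow_one]

theorem perm_main (h5 : 5 ≤ p) (hα : Fintype.card α = p) (G : Subgroup (Equiv.Perm α))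
    (P : Sylow p G)
    (hN : Nat.card (Subgroup.normalizer ((P : Subgroup G) : Set G)) = 2 * p) :
    (P : Subgroup G).Normal ∨
      (MulAction.IsMultiplyPretransitive G α 3 ∧
        ∀ g : G, ∀ a b c : α, a ≠ b → a ≠ c → b ≠ c → g • a = a → g • b = b → g • c = c → g = 1) := by
  have hp := hpf.out
  letI : Fintype G := Fintype.ofFinite G
  have hdvd : p ∣ Nat.card G := by
    have h1 : Nat.card (Subgroup.normalizer ((P : Subgroup G) : Set G)) ∣ Nat.card G :=
      Subgroup.card_subgroup_dvd_card _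
    rw [hN] at h1
    exact (Dvd.intro_left 2 rfl).trans h1
  have hP : Nat.card (P : Subgroup G) = p := card_sylow_eq hα G P hdvd
  have hpow : ∀ x ∈ (P : Subgroup G), (x : Equiv.Perm α) ^ p = 1 := by
    intro x hx
    have h1 : (⟨x, hx⟩ : (P : Subgroup G)) ^ p = 1 := by
      have := pow_card_eq_one' (x := (⟨x, hx⟩ : (P : Subgroup G)))
      rwa [hP] at this
    have h2 := congrArg Subtype.val h1
    have h3 : x ^ p = 1 := by simpa using h2
    have h4 := congrArg Subtype.val h3
    simpa using h4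
  have hne : ∀ x : G, x ≠ 1 → (x : Equiv.Perm α) ≠ 1 := by
    intro x hx h
    apply hx
    exact Subtype.ext h
  have hreg : ∀ x ∈ (P : Subgroup G), x ≠ 1 → fx α x = 0 := by
    intro x hx hx1
    apply fx_eq_zero_of
    intro a
    exact perm_fixed_eq_zero hα (hne x hx1) (hpow x hx) a
  obtain ⟨x₀, hx₀P, hx₀1⟩ := Cfsg.Agent.Lib.Helper7.BrP.exists_ne_one_mem (P : Subgroup G) hp hP
  haveI : MulAction.IsPretransitive G α := by
    constructor
    intro a b
    obtain ⟨i, hi⟩ := perm_exists_zpow hα (hne x₀ hx₀1) (hpow x₀ hx₀P) a b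
    refine ⟨x₀ ^ i, ?_⟩
    show ((x₀ ^ i : G) : Equiv.Perm α) a = b
    rw [Subgroup.coe_zpow]
    exact hi
  have hC : ∀ x ∈ (P : Subgroup G), x ≠ 1 → ∀ g : G, g * x = x * g → g ∈ (P : Subgroup G) := by
    intro x hx hx1 g hg
    have h1 : (g : Equiv.Perm α) * (x : Equiv.Perm α) = (x : Equiv.Perm α) * (g : Equiv.Perm α) := by
      have := congrArg Subtype.val hg
      simpa using this
    obtain ⟨i, hi⟩ := perm_commute_eq_zpow hα (hne x hx1) (hpow x hx) h1
    have h2 : g = x ^ i := by
      apply Subtype.ext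
      rw [Subgroup.coe_zpow]
      exact hi
    rw [h2]
    exact (P : Subgroup G).zpow_mem hx i
  have hmax : ∀ Q : Subgroup G, IsPGroup p Q → (P : Subgroup G) ≤ Q → Q = (P : Subgroup G) :=
    fun Q hQ hPQ => P.is_maximal' hQ hPQ
  rcases main_abstract α (P : Subgroup G) hp h5 hP hC (by rw [hN, mul_comm]) hα hreg hmax with
    h | ⟨h3, hsharp⟩
  · left; exact h
  · right
    refine ⟨h3, ?_⟩
    intro g a b c hab hac hbc ha hb hc
    apply hsharp
    exact three_le_fx α hab hac hbc ha hb hc

end Cfsg.Agent.Lib.Helper7.PrD
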