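import Mathlib
import Cfsg.Prelude.Def_LieExceptional
import Cfsg.Agent.Lib.Helper7.PrD1
import Cfsg.Agent.S0338
import Cfsg.Agent.S0346
import Cfsg.Agent.S0727
import Cfsg.Agent.H9.PSL2MaxEven2

set_option autoImplicit false
set_option linter.style.haveILetI false
set_option linter.unusedSectionVars false

/-!
# A sharply triply transitive group of prime degree `p ≥ 5` without normal Sylow `p`-subgroup
is `SL₂(2^a)` (helper7, for S4706)
-/

namespace Cfsg.Agent.Lib.Helper7.PrD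

open Classical

variable {α : Type*} [Fintype α] [DecidableEq α] {p : ℕ} [hpf : Fact p.Prime]

theorem zassenhaus_of_sharp (h5 : 5 ≤ p) (hα : Fintype.card α = p) (G : Subgroup (Equiv.Perm α))
    (P : Sylow p G) (hP : Nat.card (P : Subgroup G) = p) (hPn : ¬ (P : Subgroup G).Normal)
    (h3 : MulAction.IsMultiplyPretransitive G α 3)
    (hsharp : ∀ g : G, ∀ a b c : α, a ≠ b → a ≠ c → b ≠ c → g • a = a → g • b = b → g • c = c →
      g = 1) : Cfsg.IsZassenhausGroup G α := by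
  have hp := hpf.out
  refine ⟨inferInstance, ?_, ?_, ?_, ?_⟩
  · exact MulAction.isMultiplyPretransitive_of_le (n := 3) (by norm_num)
      (by rw [Nat.card_eq_fintype_card, hα]; omega)
  · intro g a b c hab hbc hac ha hb hc
    exact hsharp g a b c hab hac hbc ha hb hc
  · obtain ⟨e⟩ : Nonempty (Fin 4 ↪ α) := Function.Embedding.nonempty_of_card_le (by
      rw [Fintype.card_fin, hα]; omega)
    have h01 : e 0 ≠ e 1 := fun h => absurd (e.injective h) (by decide)
    have h02 : e 0 ≠ e 2 := fun h => absurd (e.injective h) (by decide)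
    have h03 : e 0 ≠ e 3 := fun h => absurd (e.injective h) (by decide)
    have h12 : e 1 ≠ e 2 := fun h => absurd (e.injective h) (by decide)
    have h13 : e 1 ≠ e 3 := fun h => absurd (e.injective h) (by decide)
    have h23 : e 2 ≠ e 3 := fun h => absurd (e.injective h) (by decide)
    obtain ⟨x, hx⟩ : ∃ x : Fin 3 ↪ α, x 0 = e 0 ∧ x 1 = e 1 ∧ x 2 = e 2 :=
      ⟨⟨![e 0, e 1, e 2], (inj_fin3 _).mpr ⟨h01, h02, h12⟩⟩, rfl, rfl, rfl⟩
    obtain ⟨y, hy⟩ : ∃ y : Fin 3 ↪ α, y 0 = e 0 ∧ y 1 = e 1 ∧ y 2 = e 3 :=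
      ⟨⟨![e 0, e 1, e 3], (inj_fin3 _).mpr ⟨h01, h03, h13⟩⟩, rfl, rfl, rfl⟩
    haveI : MulAction.IsPretransitive G (Fin 3 ↪ α) := h3
    obtain ⟨g, hg⟩ := MulAction.exists_smul_eq G x y
    have hg0 := DFunLike.congr_fun hg 0
    have hg1 := DFunLike.congr_fun hg 1
    have hg2 := DFunLike.congr_fun hg 2
    rw [Function.Embedding.smul_apply] at hg0 hg1 hg2
    rw [hx.1, hy.1] at hg0
    rw [hx.2.1, hy.2.1] at hg1
    rw [hx.2.2, hy.2.2] at hg2
    refine ⟨g, ?_, e 0, e 1, h01, hg0, hg1⟩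
    intro h
    rw [h, one_smul] at hg2
    exact h23 hg2
  · intro N hNn hNt
    by_contra hcon
    push Not at hcon
    haveI := hNn
    haveI := hNt
    haveI : Nonempty α := by
      rw [← Fintype.card_pos_iff, hα]; exact hp.pos
    obtain ⟨a₀⟩ := ‹Nonempty α›
    have h1 := MulAction.index_stabilizer_of_transitive (G := N) (X := α) (x := a₀)
    rw [hcon a₀, Subgroup.index_bot, Nat.card_eq_fintype_card (α := α), hα] at h1
    have hNp : IsPGroup p N := IsPGroup.of_card (n := 1) (by rw [h1, pow_one])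
    have hle : N ≤ (P : Subgroup G) := hNp.le_sylow_of_normal P
    have heq : N = (P : Subgroup G) :=
      Subgroup.eq_of_le_of_card_ge hle (by rw [h1, hP])
    exact hPn (heq ▸ hNn)

theorem two_pow_of_isPrimePow {n : ℕ} (h : IsPrimePow n) (he : Even n) :
    ∃ a : ℕ, 1 ≤ a ∧ n = 2 ^ a := by
  obtain ⟨q, k, hq, hk, rfl⟩ := (isPrimePow_nat_iff n).mp h
  have h2 : 2 ∣ q ^ k := even_iff_two_dvd.mp he
  have h3 : 2 ∣ q := Nat.Prime.dvd_of_dvd_pow Nat.prime_two h2
  have h4 : 2 = q := (Nat.prime_dvd_prime_iff_eq Nat.prime_two hq).mp h3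
  exact ⟨k, hk, by rw [← h4]⟩

theorem perm_final (h5 : 5 ≤ p) (hα : Fintype.card α = p) (G : Subgroup (Equiv.Perm α))
    (P : Sylow p G) (hP : Nat.card (P : Subgroup G) = p) (hPn : ¬ (P : Subgroup G).Normal)
    (h3 : MulAction.IsMultiplyPretransitive G α 3)
    (hsharp : ∀ g : G, ∀ a b c : α, a ≠ b → a ≠ c → b ≠ c → g • a = a → g • b = b → g • c = c →
      g = 1) :
    ∃ (a : ℕ) (F : Type) (_ : Field F) (_ : Fintype F), p = 2 ^ a + 1 ∧ Fintype.card F = 2 ^ a ∧
      Nonempty (G ≃* Matrix.SpecialLinearGroup (Fin 2) F) := by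
  have hp := hpf.out
  have hZ := zassenhaus_of_sharp h5 hα G P hP hPn h3 hsharp
  have hodd : Odd p := hp.odd_of_ne_two (by omega)
  haveI : IsSimpleGroup G := Cfsg.Agent.S0338.result hZ (by rw [hα]; exact hodd)
  have hpp : IsPrimePow (Fintype.card α - 1) := Cfsg.Agent.S0346.result hZ
  rw [hα] at hpp
  have heven : Even (p - 1) := by
    obtain ⟨k, hk⟩ := hodd
    exact ⟨k, by omega⟩
  obtain ⟨a, ha1, ha⟩ := two_pow_of_isPrimePow hpp heven
  have hpa : p = 2 ^ a + 1 := by have := hp.pos; omega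
  have hs' : ∀ x : Fin 3 ↪ α, MulAction.stabilizer G x = ⊥ := by
    intro x
    rw [Subgroup.eq_bot_iff_forall]
    intro g hg
    rw [MulAction.mem_stabilizer_iff] at hg
    have hg0 : g • x 0 = x 0 := DFunLike.congr_fun hg 0
    have hg1 : g • x 1 = x 1 := DFunLike.congr_fun hg 1
    have hg2 : g • x 2 = x 2 := DFunLike.congr_fun hg 2
    exact hsharp g (x 0) (x 1) (x 2) (fun h => absurd (x.injective h) (by decide))
      (fun h => absurd (x.injective h) (by decide)) (fun h => absurd (x.injective h) (by decide))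
      hg0 hg1 hg2
  obtain ⟨F, hField, hFin, hcard, ⟨e⟩⟩ :=
    Cfsg.Agent.S0727.result ha1 (by rw [hα, hpa]) G h3 hs'
  have h2F : (2 : F) = 0 := by
    have h1 := Nat.cast_card_eq_zero F
    rw [hcard] at h1
    push_cast at h1
    exact pow_eq_zero_iff (by omega) |>.mp h1
  obtain ⟨e'⟩ := Cfsg.Agent.H9.PSL2MaxEven.pgl_equiv h2F
  exact ⟨a, F, hField, hFin, hpa, hcard,
    ⟨e.trans (e'.symm.trans (Cfsg.Agent.H9.PSL2MaxEven.slEquiv h2F).symm)⟩⟩

end Cfsg.Agent.Lib.Helper7.PrD
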