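import Mathlib
import Cfsg.Agent.Lib.Lead.PrimeDegC

set_option autoImplicit false
set_option linter.style.haveILetI false
set_option linter.unusedSectionVars false
set_option linter.unusedVariables false

/-!
# Primitive permutation groups of degree `2p` with Sylow normalizer of order `2p`:
the permutation-group side (helper7, for S4707)
-/

namespace Cfsg.Agent.Lib.Helper7.PrE

open MulAction Equiv

variable {α : Type*} [Fintype α] [DecidableEq α] {p : ℕ} [hpf : Fact p.Prime]

section basic

variable (hp : 3 < p) (hα : Fintype.card α = 2 * p) (G : Subgroup (Perm α))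
  (hprim : IsPreprimitive G α) (P : Sylow p G)
  (hN : Nat.card (Subgroup.normalizer ((P : Subgroup G) : Set G)) = 2 * p)

include hα hprim in
/-- every nontrivial normal subgroup is transitive, so has order divisible by `2p` -/
theorem two_p_dvd_card_of_normal (K : Subgroup G) [K.Normal] (hK : K ≠ ⊥) :
    2 * p ∣ Nat.card K := by
  have hpp : p.Prime := hpf.out
  have hfix : fixedPoints K α ≠ Set.univ := by
    intro h
    apply hK
    rw [eq_bot_iff]
    intro k hk
    rw [Subgroup.mem_bot]
    apply Subtype.ext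
    ext a
    have : a ∈ fixedPoints K α := by rw [h]; trivial
    exact this ⟨k, hk⟩
  have hKtr : IsPretransitive K α := IsQuasiPreprimitive.isPretransitive_of_normal hfix
  have : Nonempty α := by
    rw [← Fintype.card_pos_iff, hα]; have := hpp.pos; omega
  obtain ⟨a⟩ := this
  have h1 : (stabilizer K a).index = 2 * p := by
    rw [MulAction.index_stabilizer, MulAction.orbit_eq_univ, Set.ncard_univ,
      Nat.card_eq_fintype_card, hα]
  rw [← h1]
  exact Subgroup.index_dvd_card _

include hα hprim in
theorem two_p_dvd_card : 2 * p ∣ Nat.card G := by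
  have hpp : p.Prime := hpf.out
  have htr : IsPretransitive G α := hprim.toIsPretransitive
  have : Nonempty α := by
    rw [← Fintype.card_pos_iff, hα]; have := hpp.pos; omega
  obtain ⟨a⟩ := this
  have h1 : (stabilizer G a).index = 2 * p := by
    rw [MulAction.index_stabilizer, MulAction.orbit_eq_univ, Set.ncard_univ,
      Nat.card_eq_fintype_card, hα]
  rw [← h1]
  exact Subgroup.index_dvd_card _

include hp hα hprim hN in
/-- the Sylow subgroup has order `p` -/
theorem card_sylow : Nat.card (P : Subgroup G) = p := by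
  have hpp : p.Prime := hpf.out
  obtain ⟨k, hk⟩ := IsPGroup.exists_card_eq P.2
  have hdvd : p ∣ Nat.card G := (Dvd.intro_left 2 rfl).trans (two_p_dvd_card hα G hprim)
  have h1 := P.dvd_card_of_dvd_card hdvd
  have hk1 : 1 ≤ k := by
    rcases Nat.eq_zero_or_pos k with h | h
    · rw [hk, h, pow_zero] at h1
      exact absurd (Nat.le_of_dvd one_pos h1) (by have := hpp.two_le; omega)
    · exact h
  have hk2 : k ≤ 1 := by
    by_contra hcon
    have h2 : 2 ≤ k := by omega
    have h3 : Nat.card (P : Subgroup G) ∣ 2 * p := by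
      rw [← hN]
      exact Subgroup.card_dvd_of_le Subgroup.le_normalizer
    rw [hk] at h3
    have h4 : p ^ 2 ∣ 2 * p := (pow_dvd_pow p h2).trans h3
    rw [pow_two, mul_comm 2 p] at h4
    have h5 : p ∣ 2 := Nat.dvd_of_mul_dvd_mul_left hpp.pos h4
    have := Nat.le_of_dvd (by norm_num) h5
    omega
  have : k = 1 := by omega
  rw [hk, this, pow_one]

include hp hα hprim hN in
/-- elements of `P` have order dividing `p` as permutations -/
theorem perm_pow_eq_one (x : G) (hx : x ∈ (P : Subgroup G)) : (x : Perm α) ^ p = 1 := by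
  have hP := card_sylow hp hα G hprim P hN
  have h1 : (⟨x, hx⟩ : (P : Subgroup G)) ^ p = 1 := by
    have := pow_card_eq_one' (x := (⟨x, hx⟩ : (P : Subgroup G)))
    rwa [hP] at this
  have h2 := congrArg Subtype.val h1
  have h3 : x ^ p = 1 := by simpa using h2
  have h4 := congrArg Subtype.val h3
  simpa using h4

include hp hα hprim hN in
/-- **Jordan**: a nonidentity element of `P` with a fixed point would be a `p`-cycle, and then
`G` would be doubly transitive. -/
theorem no_fixed_point (hnot2 : ¬ IsMultiplyPretransitive G α 2) (x : G)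
    (hx : x ∈ (P : Subgroup G)) (hx1 : x ≠ 1) (a : α) : x • a ≠ a := by
  have hpp : p.Prime := hpf.out
  intro hfix
  apply hnot2
  have hσ1 : (x : Perm α) ≠ 1 := fun h => hx1 (Subtype.ext h)
  have hσp := perm_pow_eq_one hp hα G hprim P hN x hx
  have hord : orderOf (x : Perm α) = p := by
    have h1 : orderOf (x : Perm α) ∣ p := orderOf_dvd_of_pow_eq_one hσp
    rcases (Nat.dvd_prime hpp).mp h1 with h | h
    · exact absurd (orderOf_eq_one_iff.mp h) hσ1
    · exact h
  have hsupp : (x : Perm α).support.card < 2 * orderOf (x : Perm α) := by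
    rw [hord, ← hα]
    apply Finset.card_lt_univ_of_notMem (x := a)
    rw [Equiv.Perm.mem_support, not_not]
    exact hfix
  have hcyc : (x : Perm α).IsCycle :=
    Equiv.Perm.isCycle_of_prime_order (by rw [hord]; exact hpp) hsupp
  have hcard : (x : Perm α).support.card = p := by rw [← hcyc.orderOf, hord]
  have htr := Equiv.Perm.isPretransitive_of_isCycle_mem (G := G) hcyc x.2
  apply hprim.is_two_pretransitive (s := ((x : Perm α).support : Set α)ᶜ) (n := p - 1) ?_ ?_ htr
  · rw [← Finset.coe_compl, Set.ncard_coe_finset, Finset.card_compl, hα, hcard]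
    have := hpp.two_le
    omega
  · rw [Nat.card_eq_fintype_card, hα]
    omega

include hp hα hprim hN in
theorem sylow_le_of_normal (K : Subgroup G) [hKn : K.Normal] (hK : K ≠ ⊥) :
    (P : Subgroup G) ≤ K := by
  have hpp : p.Prime := hpf.out
  have hdvd : p ∣ Nat.card K :=
    (Dvd.intro_left 2 rfl).trans (two_p_dvd_card_of_normal hα G hprim K hK)
  obtain ⟨k, hk⟩ := exists_prime_orderOf_dvd_card' (G := K) p hdvd
  have hk' : orderOf (k : G) = p := by rw [Subgroup.orderOf_coe]; exact hk
  have hZp : IsPGroup p (Subgroup.zpowers (k : G)) :=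
    IsPGroup.of_card (n := 1) (by rw [Nat.card_zpowers, hk', pow_one])
  obtain ⟨R, hZR⟩ := hZp.exists_le_sylow
  have hRcard : Nat.card R = p := by
    rw [R.card_eq_multiplicity, ← P.card_eq_multiplicity]
    exact card_sylow hp hα G hprim P hN
  have hZR' : Subgroup.zpowers (k : G) = (R : Subgroup G) :=
    Subgroup.eq_of_le_of_card_ge hZR (by rw [Nat.card_zpowers, hk']; exact hRcard.le)
  have hRK : (R : Subgroup G) ≤ K := by
    rw [← hZR', Subgroup.zpowers_le]
    exact k.2
  obtain ⟨g, hg⟩ := MulAction.exists_smul_eq G P R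
  intro x hx
  have h1 : g * x * g⁻¹ ∈ (R : Subgroup G) := by
    rw [← hg, Sylow.coe_subgroup_smul]
    exact ⟨x, hx, rfl⟩
  have h2 := hKn.conj_mem _ (hRK h1) g⁻¹
  simpa [mul_assoc] using h2

include hp hα hprim hN in
/-- **the group is simple** (Frattini argument and Burnside's transfer theorem) -/
theorem simple_of_two_p : IsSimpleGroup G := by
  have hpp : p.Prime := hpf.out
  have hPcard : Nat.card (P : Subgroup G) = p := card_sylow hp hα G hprim P hN
  obtain ⟨x₀, hx₀, hx₀1⟩ :=
    Cfsg.Agent.Lib.Lead.PrimeDeg.exists_gen (p := p) (by omega) G P hN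
  have : Nontrivial G := ⟨⟨x₀, 1, hx₀1⟩⟩
  refine ⟨fun K hKn => ?_⟩
  by_cases hK : K = ⊥
  · exact Or.inl hK
  right
  have hPK : (P : Subgroup G) ≤ K := sylow_le_of_normal hp hα G hprim P hN K hK
  have hfr : Subgroup.normalizer ((P : Subgroup G) : Set G) ⊔ K = ⊤ :=
    Sylow.normalizer_sup_eq_top' P hPK
  by_cases hNK : Subgroup.normalizer ((P : Subgroup G) : Set G) ≤ K
  · rw [sup_eq_right.2 hNK] at hfr
    exact hfr
  exfalso
  -- `N ⊓ K = P`
  have hinf : Subgroup.normalizer ((P : Subgroup G) : Set G) ⊓ K = (P : Subgroup G) := by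
    have hle : (P : Subgroup G) ≤ Subgroup.normalizer ((P : Subgroup G) : Set G) ⊓ K :=
      le_inf Subgroup.le_normalizer hPK
    symm
    apply Subgroup.eq_of_le_of_card_ge hle
    have h1 : Nat.card (Subgroup.normalizer ((P : Subgroup G) : Set G) ⊓ K : Subgroup G) ∣ 2 * p := by
      have := Subgroup.card_dvd_of_le
        (inf_le_left : Subgroup.normalizer ((P : Subgroup G) : Set G) ⊓ K ≤
          Subgroup.normalizer ((P : Subgroup G) : Set G))
      rwa [hN] at this
    have h2 : p ∣ Nat.card (Subgroup.normalizer ((P : Subgroup G) : Set G) ⊓ K : Subgroup G) := by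
      have := Subgroup.card_dvd_of_le hle
      rwa [hPcard] at this
    have h3 : Nat.card (Subgroup.normalizer ((P : Subgroup G) : Set G) ⊓ K : Subgroup G) ≠ 2 * p := by
      intro h3
      apply hNK
      have : Subgroup.normalizer ((P : Subgroup G) : Set G) ⊓ K =
          Subgroup.normalizer ((P : Subgroup G) : Set G) :=
        Subgroup.eq_of_le_of_card_ge inf_le_left (by rw [h3, hN])
      rw [← this]; exact inf_le_right
    rw [hPcard]
    obtain ⟨c, hc⟩ := h2
    rw [hc] at h1 h3 ⊢
    have h4 : c ∣ 2 := by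
      rw [mul_comm 2 p] at h1
      exact Nat.dvd_of_mul_dvd_mul_left hpp.pos h1
    have h5 : c ≤ 2 := Nat.le_of_dvd (by norm_num) h4
    interval_cases c
    · simp at h4
    · simp
    · exact (h3 (mul_comm p 2)).elim
  -- the Sylow subgroup of `K`
  set P₁ : Sylow p K := P.subtype hPK with hP₁
  have hP₁mem : ∀ k : K, k ∈ (P₁ : Subgroup K) ↔ (k : G) ∈ (P : Subgroup G) := by
    intro k
    rw [hP₁, Sylow.coe_subtype, Subgroup.mem_subgroupOf]
  have hP₁card : Nat.card (P₁ : Subgroup K) = p := by
    have e1 : (P₁ : Subgroup K) = (P : Subgroup G).subgroupOf K := Sylow.coe_subtype P hPK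
    rw [e1]
    exact (Nat.card_congr (Subgroup.subgroupOfEquivOfLe hPK).toEquiv).trans hPcard
  have hQ : Subgroup.normalizer (P₁ : Set K) ≤ Subgroup.centralizer (P₁ : Set K) := by
    intro k hk
    have hkP : k ∈ (P₁ : Subgroup K) := by
      rw [hP₁mem, ← hinf]
      refine ⟨?_, k.2⟩
      apply Subgroup.mem_set_normalizer_iff.2
      intro y
      have hk' := Subgroup.mem_set_normalizer_iff.1 hk
      constructor
      · intro hy
        have := (hk' ⟨y, hPK hy⟩).1 ((hP₁mem _).2 hy)
        exact (hP₁mem _).1 this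
      · intro hy
        have hyK : y ∈ K := by
          have h1 : (k : G) * y * (k : G)⁻¹ ∈ K := hPK hy
          have h2 := K.mul_mem (K.mul_mem (K.inv_mem k.2) h1) k.2
          simpa [mul_assoc] using h2
        have := (hk' ⟨y, hyK⟩).2 ((hP₁mem _).2 hy)
        exact (hP₁mem _).1 this
    have hcyc : IsCyclic (P₁ : Subgroup K) := isCyclic_of_prime_card hP₁card
    rw [Subgroup.mem_centralizer_iff]
    intro y hy
    let _ := IsCyclic.commGroup (α := (P₁ : Subgroup K))
    have := mul_comm (⟨y, hy⟩ : (P₁ : Subgroup K)) ⟨k, hkP⟩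
    exact congrArg Subtype.val this
  -- the normal p-complement
  set M : Subgroup K := (MonoidHom.transferSylow P₁ hQ).ker with hM
  have hcompl : Subgroup.IsComplement' M (P₁ : Subgroup K) :=
    MonoidHom.ker_transferSylow_isComplement' P₁ hQ
  have hMidx : M.index = p := by rw [hcompl.symm.index_eq_card]; exact hP₁card
  have hMp : ¬ p ∣ Nat.card M := MonoidHom.not_dvd_card_ker_transferSylow P₁ hQ
  have hMn : (M.map K.subtype).Normal := by
    constructor
    rintro _ ⟨m, hm, rfl⟩ g
    have hmem : g * (m : G) * g⁻¹ ∈ K := hKn.conj_mem _ m.2 g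
    refine ⟨⟨g * (m : G) * g⁻¹, hmem⟩, ?_, rfl⟩
    apply Cfsg.Agent.Lib.Lead.PrimeDeg.mem_of_coprime_order M hMidx
    have ho : orderOf (⟨g * (m : G) * g⁻¹, hmem⟩ : K) = orderOf m := by
      rw [← Subgroup.orderOf_coe, ← Subgroup.orderOf_coe m]
      exact MulEquiv.orderOf_eq (MulAut.conj g) (m : G)
    rw [ho]
    have hdvd : orderOf (⟨m, hm⟩ : M) ∣ Nat.card M := orderOf_dvd_natCard _
    rw [← Subgroup.orderOf_coe] at hdvd
    exact Nat.Coprime.coprime_dvd_left hdvd ((Nat.Prime.coprime_iff_not_dvd hpp).2 hMp).symm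
  have hMbot : M.map K.subtype = ⊥ := by
    by_contra hne
    have := (Dvd.intro_left 2 rfl).trans
      (two_p_dvd_card_of_normal (p := p) hα G hprim (M.map K.subtype) hne)
    rw [Subgroup.card_map_of_injective K.subtype_injective] at this
    exact hMp this
  have hMcard : Nat.card M = 1 := by
    rw [← Subgroup.card_map_of_injective K.subtype_injective (K := M), hMbot, Subgroup.card_bot]
  have hKcard : Nat.card K = p := by
    have := M.card_mul_index
    rw [hMcard, hMidx, one_mul] at this
    exact this.symm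
  have h2p := two_p_dvd_card_of_normal (p := p) hα G hprim K hK
  rw [hKcard] at h2p
  have := Nat.le_of_dvd hpp.pos h2p
  omega

end basic

end Cfsg.Agent.Lib.Helper7.PrE
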