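import Mathlib
import Cfsg.Prelude.Def_Characters
import Cfsg.Agent.Lib.Helper4.FS

set_option autoImplicit false
set_option linter.style.haveILetI false
set_option linter.unusedSectionVars false

/-!
# The alternating square of a character is a character, up to a constant (helper7, for S4707)

For a character `χ`, the function `g ↦ (χ(g)² - χ(g²))/2 + c` is a character for a suitable real
constant `c` (we realize it on the whole tensor square, letting the group act trivially on the
symmetric part).
-/

namespace Cfsg.Agent.Lib.Helper7.PrE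

open Cfsg Cfsg.Agent.Lib.helper3.Irr Cfsg.Agent.Lib.Helper4.FS
open scoped ComplexConjugate Kronecker

variable {G : Type*} [Group G]

theorem exists_altSq {χ : G → ℂ} (hχ : IsCharacter G χ) :
    ∃ c : ℝ, IsCharacter G (fun g => (χ g ^ 2 - χ (g * g)) / 2 + (c : ℂ)) := by
  classical
  obtain ⟨d, ρ, rfl⟩ := hχ
  set A : G → Matrix (Fin d) (Fin d) ℂ := fun g => LinearMap.toMatrix' (ρ g) with hA
  have hAmul : ∀ g h : G, A (g * h) = A g * A h := by
    intro g h
    simp only [hA]
    rw [map_mul, ← LinearMap.toMatrix'_mul]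
  have hAone : A 1 = 1 := by
    simp only [hA]
    rw [map_one]
    exact LinearMap.toMatrix'_one
  have hAtr : ∀ g : G, Matrix.trace (A g) = ρ.character g := by
    intro g
    simp only [hA]
    unfold Representation.character
    rw [← Matrix.trace_toLin'_eq, Matrix.toLin'_toMatrix']
  set K : G → Matrix (Fin d × Fin d) (Fin d × Fin d) ℂ := fun g => A g ⊗ₖ A g with hK
  have hKmul : ∀ g h : G, K (g * h) = K g * K h := by
    intro g h
    simp only [hK]
    rw [hAmul, Matrix.mul_kronecker_mul]
  have hKone : K 1 = 1 := by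
    simp only [hK]
    rw [hAone, Matrix.one_kronecker_one]
  set S : Matrix (Fin d × Fin d) (Fin d × Fin d) ℂ := swapMatrix (Fin d) with hS
  have hSS : S * S = 1 := swapMatrix_mul_self
  have hSK : ∀ g : G, S * K g = K g * S := fun g => swapMatrix_mul_kronecker (A g)
  set Q : Matrix (Fin d × Fin d) (Fin d × Fin d) ℂ := (2 : ℂ)⁻¹ • (1 - S) with hQ
  have hQQ : Q * Q = Q := by
    rw [hQ, Matrix.smul_mul, Matrix.mul_smul, smul_smul, Matrix.sub_mul, Matrix.mul_sub,
      Matrix.mul_sub, Matrix.one_mul, Matrix.mul_one, Matrix.one_mul, hSS]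
    have : (1 : Matrix (Fin d × Fin d) (Fin d × Fin d) ℂ) - S - (S - 1) = (2 : ℂ) • (1 - S) := by
      rw [two_smul]; abel
    rw [this, smul_smul]
    norm_num
  have hQK : ∀ g : G, Q * K g = K g * Q := by
    intro g
    rw [hQ, Matrix.smul_mul, Matrix.mul_smul, Matrix.sub_mul, Matrix.mul_sub, Matrix.one_mul,
      Matrix.mul_one, hSK]
  have hQc : Q * (1 - Q) = 0 := by rw [Matrix.mul_sub, Matrix.mul_one, hQQ, sub_self]
  have hcQ : (1 - Q) * Q = 0 := by rw [Matrix.sub_mul, Matrix.one_mul, hQQ, sub_self]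
  have hcc : (1 - Q) * (1 - Q) = 1 - Q := by
    rw [Matrix.mul_sub, Matrix.mul_one, Matrix.sub_mul, Matrix.one_mul, hQQ, sub_self, sub_zero]
  set R : G → Matrix (Fin d × Fin d) (Fin d × Fin d) ℂ := fun g => K g * Q + (1 - Q) with hR
  have hRone : R 1 = 1 := by
    simp only [hR]
    rw [hKone, Matrix.one_mul]
    abel
  have hRmul : ∀ g h : G, R (g * h) = R g * R h := by
    intro g h
    simp only [hR]
    rw [Matrix.add_mul, Matrix.mul_add, Matrix.mul_add, hcc, hKmul]
    have h1 : K g * Q * (K h * Q) = K g * K h * Q := by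
      rw [Matrix.mul_assoc, ← Matrix.mul_assoc Q, hQK h, Matrix.mul_assoc (K h), hQQ,
        Matrix.mul_assoc]
    have h2 : K g * Q * (1 - Q) = 0 := by rw [Matrix.mul_assoc, hQc, Matrix.mul_zero]
    have h3 : (1 - Q) * (K h * Q) = 0 := by
      rw [← hQK h, ← Matrix.mul_assoc, hcQ, Matrix.zero_mul]
    rw [h1, h2, h3, add_zero, zero_add]
  let ρ' : Representation ℂ G (Fin d × Fin d → ℂ) :=
    { toFun := fun g => Matrix.toLin' (R g)
      map_one' := by rw [hRone, Matrix.toLin'_one]; rfl
      map_mul' := fun g h => by rw [hRmul, Matrix.toLin'_mul]; rfl }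
  have hρ' : ∀ g : G, ρ'.character g = Matrix.trace (R g) := by
    intro g
    unfold Representation.character
    exact Matrix.trace_toLin'_eq (R g)
  have htrS : Matrix.trace S = (d : ℂ) := by
    have h1 := trace_kronecker_mul_swapMatrix (1 : Matrix (Fin d) (Fin d) ℂ)
    rw [Matrix.one_kronecker_one, Matrix.one_mul, Matrix.one_mul, Matrix.trace_one,
      Fintype.card_fin] at h1
    exact h1
  have htr1 : Matrix.trace (1 : Matrix (Fin d × Fin d) (Fin d × Fin d) ℂ) = (d : ℂ) * d := by
    rw [Matrix.trace_one, Fintype.card_prod, Fintype.card_fin]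
    push_cast
    ring
  refine ⟨((d : ℝ) * d + d) / 2, ?_⟩
  have key : (fun g => (ρ.character g ^ 2 - ρ.character (g * g)) / 2
      + ((((d : ℝ) * d + d) / 2 : ℝ) : ℂ)) = ρ'.character := by
    funext g
    rw [hρ']
    simp only [hR]
    rw [Matrix.trace_add, Matrix.trace_sub, hQ, Matrix.mul_smul, Matrix.trace_smul,
      Matrix.trace_smul, Matrix.mul_sub, Matrix.mul_one, Matrix.trace_sub, Matrix.trace_sub, htr1,
      htrS]
    have h1 : Matrix.trace (K g) = ρ.character g ^ 2 := by
      simp only [hK]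
      rw [Matrix.trace_kronecker, hAtr, sq]
    have h2 : Matrix.trace (K g * S) = ρ.character (g * g) := by
      simp only [hK, hS]
      rw [trace_kronecker_mul_swapMatrix, ← hAmul, hAtr]
    rw [h1, h2]
    simp only [smul_eq_mul]
    push_cast
    ring
  rw [key]
  exact isCharacter_of_rep ρ'

end Cfsg.Agent.Lib.Helper7.PrE
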