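import Mathlib
import Cfsg.Prelude.Def_Characters
import Cfsg.Agent.Lib.Helper7.PrD4

set_option autoImplicit false
set_option linter.style.haveILetI false
set_option linter.unusedSectionVars false

/-!
# Values on `P \ 1` of the induced functions `Ξ_ω` and of the non-exceptional characters
(dihedral normalizer; helper7, for S4707)
-/

namespace Cfsg.Agent.Lib.Helper7.PrE

open Cfsg Cfsg.Agent.Lib.helper3.Irr Cfsg.Agent.Lib.helper3.CharBasic
open Cfsg.Agent.Lib.helper3.IndFun Cfsg.Agent.Lib.helper3.CycTI Cfsg.Agent.Lib.Helper7.BrP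
open Cfsg.Agent.Lib.Helper7.BrD
open scoped ComplexConjugate
open Classical

variable {G : Type*} [Group G] [Fintype G] (P : Subgroup G)

section prime

variable {p : ℕ} (hp : p.Prime) (hP : Nat.card P = p)

include hp hP in
/-- column orthogonality for the group of prime order -/
theorem sum_dual_apply [Fintype (P →* ℂˣ)] {x : P} (hx : x ≠ 1) :
    ∑ ω : P →* ℂˣ, linFun ω x = 0 := by
  have hne : ∃ ω₁ : P →* ℂˣ, ω₁ ≠ 1 := by
    have h1 := card_dual_ne_one P hp hP
    have h2 : 0 < Nat.card {ω : P →* ℂˣ // ω ≠ 1} := by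
      rw [h1]; have := hp.two_le; omega
    haveI := finite_dual P hp hP
    obtain ⟨a⟩ := (Nat.card_pos_iff.mp h2).1
    exact ⟨a.1, a.2⟩
  obtain ⟨ω₁, hω₁⟩ := hne
  have hinj := injective_of_ne_one P hp hP hω₁
  have h1 : (ω₁ x : ℂˣ) ≠ 1 := by
    intro h
    apply hx
    apply hinj
    rw [h, map_one]
  have h2 : ∑ ω : P →* ℂˣ, linFun ω x = ((ω₁ x : ℂˣ) : ℂ) * ∑ ω : P →* ℂˣ, linFun ω x := by
    rw [Finset.mul_sum]
    apply Fintype.sum_equiv (Equiv.mulLeft ω₁⁻¹)
    intro ω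
    simp only [linFun, Equiv.coe_mulLeft, MonoidHom.mul_apply, MonoidHom.inv_apply, Units.val_mul]
    rw [← mul_assoc, ← Units.val_mul, mul_inv_cancel, Units.val_one, one_mul]
  have h3 : (((ω₁ x : ℂˣ) : ℂ) - 1) * ∑ ω : P →* ℂˣ, linFun ω x = 0 := by
    rw [sub_mul, one_mul, ← h2, sub_self]
  rcases mul_eq_zero.mp h3 with h | h
  · exfalso
    apply h1
    apply Units.ext
    rw [Units.val_one]
    linear_combination h
  · exact h

include hp hP in
/-- a character having the same inner product `z` with all `Ξ_ω` takes the value `z` on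
`P \ 1` -/
theorem apply_of_classInner_Xi_const (ψ : G → ℂ) (hψ : IsCharacter G ψ) (z : ℤ)
    (hz : ∀ ω : P →* ℂˣ, ω ≠ 1 → classInner (Xi P ω) ψ = z) {x : G} (hx : x ∈ P)
    (hx1 : x ≠ 1) : ψ x = z := by
  letI : Fintype P := Fintype.ofFinite P
  haveI := finite_dual P hp hP
  letI : Fintype (P →* ℂˣ) := Fintype.ofFinite _
  have hcomm : ∀ a b : P, a * b = b * a := fun a b =>
    Subtype.ext (comm_of_prime P hp hP a.2 b.2)
  have hψP : IsCharacter P (fun x : P => ψ x) := isCharacter_restrict hψ P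
  have hnat : ∀ ω : P →* ℂˣ, ∃ k : ℕ, classInner (fun x : P => ψ x) (linFun ω) = k := fun ω =>
    exists_nat_classInner_of_isCharacter hψP
      ⟨linFun ω, Cfsg.Agent.Lib.helper3.Pf4.isIrrCharacter_linFun ω⟩
  choose nn hnn using hnat
  have hnn' : ∀ ω : P →* ℂˣ, classInner (linFun ω) (fun x : P => ψ x) = nn ω := by
    intro ω
    rw [← classInner_conj_symm, hnn, Complex.conj_natCast]
  have hdec := Cfsg.Agent.Lib.helper3.Pf4.isCharacter_eq_sum_hom hcomm hψP
  have hrel : ∀ ω : P →* ℂˣ, ω ≠ 1 → (nn ω : ℂ) = (nn 1 : ℂ) - z := by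
    intro ω hω
    have h2 := hz ω hω
    rw [classInner_Xi P ω ψ (isClassFunction_of_isCharacter hψ), hnn', hnn'] at h2
    linear_combination -h2
  have hx' : (⟨x, hx⟩ : P) ≠ 1 := fun h => hx1 (congrArg Subtype.val h)
  have h1 := congrFun hdec ⟨x, hx⟩
  simp only [Finset.sum_apply, Pi.smul_apply, smul_eq_mul, hnn] at h1
  have h2 : ∀ ω : P →* ℂˣ, (nn ω : ℂ) * linFun ω ⟨x, hx⟩
      = ((nn 1 : ℂ) - z) * linFun ω ⟨x, hx⟩ + if ω = 1 then (z : ℂ) else 0 := by
    intro ω
    by_cases hω : ω = 1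
    · rw [hω, if_pos rfl, linFun_one_eq]
      ring
    · rw [if_neg hω, hrel ω hω, add_zero]
  rw [Finset.sum_congr rfl (fun ω _ => h2 ω), Finset.sum_add_distrib, ← Finset.mul_sum,
    sum_dual_apply P hp hP hx', mul_zero, zero_add, Finset.sum_ite_eq' Finset.univ (1 : P →* ℂˣ),
    if_pos (Finset.mem_univ _)] at h1
  exact h1

end prime

section dihedral

variable {p : ℕ} (hp : p.Prime) (hP : Nat.card P = p)
  (hC : ∀ x ∈ P, x ≠ 1 → ∀ g : G, g * x = x * g → g ∈ P)
  (hN : Nat.card (Subgroup.normalizer (P : Set G)) = p * 2)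

include hp hP hC hN in
/-- elements of `N(P) \ P` invert `P` -/
theorem conj_eq_inv_of_mem_normalizer {y x : G} (hy : y ∈ Subgroup.normalizer (P : Set G))
    (hyP : y ∉ P) (hx : x ∈ P) : y⁻¹ * x * y = x⁻¹ := by
  have hy2 := mul_self_eq_one_of_mem_normalizer P hp hP hC hN hy hyP
  have hyx : y * x ∈ Subgroup.normalizer (P : Set G) :=
    Subgroup.mul_mem _ hy (Subgroup.le_normalizer hx)
  have hyxP : y * x ∉ P := by
    intro h
    apply hyP
    have := P.mul_mem h (P.inv_mem hx)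
    simpa using this
  have h2 := mul_self_eq_one_of_mem_normalizer P hp hP hC hN hyx hyxP
  have hyinv : y⁻¹ = y := inv_eq_of_mul_eq_one_right hy2
  rw [hyinv]
  have h3 : y * x * y * x = 1 := by
    rw [← h2]; group
  exact eq_inv_of_mul_eq_one_left h3

include hp hP hC hN in
/-- the value of `Ξ_ω` at a nonidentity element of `P` -/
theorem Xi_apply_of_mem (ω : P →* ℂˣ) {x : G} (hx : x ∈ P) (hx1 : x ≠ 1) :
    Xi P ω x = 2 - ((ω ⟨x, hx⟩ : ℂˣ) : ℂ) - (((ω ⟨x, hx⟩)⁻¹ : ℂˣ) : ℂ) := by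
  unfold Xi
  rw [indFun_apply]
  have hterm : ∀ y : G, extendByZero P (linFun 1 - linFun ω) (y⁻¹ * x * y)
      = (if y ∈ P then (1 - ((ω ⟨x, hx⟩ : ℂˣ) : ℂ)) else 0)
        + (if y ∈ Subgroup.normalizer (P : Set G) ∧ y ∉ P then
            (1 - (((ω ⟨x, hx⟩)⁻¹ : ℂˣ) : ℂ)) else 0) := by
    intro y
    by_cases hyP : y ∈ P
    · rw [if_pos hyP, if_neg (fun h => h.2 hyP), add_zero]
      have h1 : y⁻¹ * x * y = x := by
        rw [mul_assoc, comm_of_prime P hp hP hx hyP, ← mul_assoc, inv_mul_cancel, one_mul]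
      have hmem : y⁻¹ * x * y ∈ P := by rw [h1]; exact hx
      rw [extendByZero_mem P _ hmem, Pi.sub_apply, linFun_one_eq]
      have h2 : (⟨y⁻¹ * x * y, hmem⟩ : P) = ⟨x, hx⟩ := Subtype.ext h1
      rw [h2]
      rfl
    · rw [if_neg hyP, zero_add]
      by_cases hyN : y ∈ Subgroup.normalizer (P : Set G)
      · rw [if_pos ⟨hyN, hyP⟩]
        have h1 : y⁻¹ * x * y = x⁻¹ := conj_eq_inv_of_mem_normalizer P hp hP hC hN hyN hyP hx
        have hmem : y⁻¹ * x * y ∈ P := by rw [h1]; exact P.inv_mem hx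
        rw [extendByZero_mem P _ hmem, Pi.sub_apply, linFun_one_eq]
        have h2 : (⟨y⁻¹ * x * y, hmem⟩ : P) = (⟨x, hx⟩ : P)⁻¹ := Subtype.ext h1
        rw [h2]
        simp only [linFun, map_inv]
      · rw [if_neg (fun h => hyN h.1)]
        apply extendByZero_not_mem
        intro hmem
        exact hyN (TI_of_prime P hp hP x hx hx1 y hmem)
  rw [Finset.sum_congr rfl (fun y _ => hterm y), Finset.sum_add_distrib, ← Finset.sum_filter,
    ← Finset.sum_filter, Finset.sum_const, Finset.sum_const,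
    card_filter_normalizer_not_mem P hP hN]
  have h2 : (Finset.univ.filter (fun a : G => a ∈ P)).card = p := by
    rw [← hP, Nat.card_eq_fintype_card, Fintype.card_subtype]
  rw [h2, hP]
  have hp0 : (p : ℂ) ≠ 0 := by exact_mod_cast hp.ne_zero
  simp only [nsmul_eq_mul]
  field_simp
  ring

end dihedral

end Cfsg.Agent.Lib.Helper7.PrE
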