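import Mathlib
import Cfsg.Prelude.Def_Characters
import Cfsg.Agent.Lib.Helper7.PrD5
import Cfsg.Agent.Lib.Helper7.PrE2

set_option autoImplicit false
set_option linter.style.haveILetI false
set_option linter.unusedSectionVars false

/-!
# The exceptional characters as a function of `ω`, and the permutation character of degree `2p`
(helper7, for S4707)
-/

namespace Cfsg.Agent.Lib.Helper7.PrE

open Cfsg Cfsg.Agent.Lib.helper3.Irr Cfsg.Agent.Lib.helper3.CharBasic
open Cfsg.Agent.Lib.helper3.IndFun Cfsg.Agent.Lib.helper3.CycTI Cfsg.Agent.Lib.Helper7.BrP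
open Cfsg.Agent.Lib.helper3.PermChar Cfsg.Agent.Lib.Helper7.PrD
open scoped ComplexConjugate
open Classical

variable {G : Type*} [Group G] [Fintype G]

/-- the packaged structure theorem, with the exceptional character as a function of `ω` -/
structure Dat (P : Subgroup G) (Y : IrrCharacter G) (m ε : ℤ)
    (lam : {ω : P →* ℂˣ // ω ≠ 1} → IrrCharacter G) : Prop where
  hm : m = 1 ∨ m = -1
  hε : ε = 1 ∨ ε = -1
  hY : Y ≠ trivIrr G
  hl1 : ∀ a : {ω : P →* ℂˣ // ω ≠ 1}, lam a ≠ trivIrr G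
  hlY : ∀ a : {ω : P →* ℂˣ // ω ≠ 1}, lam a ≠ Y
  hform : ∀ a : {ω : P →* ℂˣ // ω ≠ 1}, ∀ g : G,
    Xi P a.1 g = 1 + (m : ℂ) * (Y : G → ℂ) g - (ε : ℂ) * (lam a : G → ℂ) g
  hrest : ∀ a : {ω : P →* ℂˣ // ω ≠ 1}, ∀ ψ : IrrCharacter G, ψ ≠ trivIrr G → ψ ≠ Y →
    ψ ≠ lam a → classInner (Xi P a.1) (ψ : G → ℂ) = 0
  hYm : ∀ a : {ω : P →* ℂˣ // ω ≠ 1}, classInner (Xi P a.1) (Y : G → ℂ) = m

section dihedral

variable (P : Subgroup G) {p : ℕ} (hp : p.Prime) (hP : Nat.card P = p)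
  (hC : ∀ x ∈ P, x ≠ 1 → ∀ g : G, g * x = x * g → g ∈ P)
  (hN : Nat.card (Subgroup.normalizer (P : Set G)) = p * 2)

include hp hP hC hN in
theorem exists_dat (h5 : 5 ≤ p) :
    ∃ (Y : IrrCharacter G) (m ε : ℤ) (lam : {ω : P →* ℂˣ // ω ≠ 1} → IrrCharacter G),
      Dat P Y m ε lam := by
  obtain ⟨Y, m, ε, hm, hε, hY, hstr⟩ :=
    Cfsg.Agent.Lib.Helper5.DihN.structure_thm P hp h5 hP hC hN
  choose lam hlam using (fun a : {ω : P →* ℂˣ // ω ≠ 1} => hstr a.1 a.2)
  exact ⟨Y, m, ε, lam, hm, hε, hY, fun a => (hlam a).1, fun a => (hlam a).2.1,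
    fun a => (hlam a).2.2.1, fun a => (hlam a).2.2.2.1, fun a => (hlam a).2.2.2.2⟩

variable {P} {Y : IrrCharacter G} {m ε : ℤ} {lam : {ω : P →* ℂˣ // ω ≠ 1} → IrrCharacter G}

include hp hP hC hN in
/-- two linear characters with the same exceptional character are conjugate under `N(P)` -/
theorem Dat.orbit_of_eq (hD : Dat P Y m ε lam) {a b : {ω : P →* ℂˣ // ω ≠ 1}}
    (hab : lam b = lam a) : ∃ n : Subgroup.normalizer (P : Set G), b.1 = cj P n a.1 := by
  letI : Fintype P := Fintype.ofFinite P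
  by_contra hcon
  have hcon' : ∀ n : Subgroup.normalizer (P : Set G), b.1 ≠ cj P n a.1 :=
    fun n hn => hcon ⟨n, hn⟩
  have e1 := (gram_eq P hp hP hC 2 hN b.2 a.2).2 hcon'
  have e2 := (gram_eq P hp hP hC 2 hN a.2 a.2).1 1 (cj_one_left P _).symm
  have hXi : Xi P b.1 = Xi P a.1 := by
    funext g
    rw [hD.hform b g, hD.hform a g, hab]
  unfold Xi at hXi
  rw [hXi, e2] at e1
  norm_num at e1

include hp hP hC hN in
theorem Dat.card_image (hD : Dat P Y m ε lam) [Fintype {ω : P →* ℂˣ // ω ≠ 1}] :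
    p - 1 ≤ 2 * (Finset.univ.image lam).card := by
  letI : Fintype P := Fintype.ofFinite P
  haveI := finite_dual P hp hP
  have hcard := Finset.card_le_mul_card_image (f := lam) Finset.univ 2 (by
    intro l hl
    obtain ⟨a, -, rfl⟩ := Finset.mem_image.mp hl
    have h2 := card_orbit P hp hP hC 2 hN a
    rw [Nat.card_eq_fintype_card, Fintype.card_subtype] at h2
    rw [← h2]
    apply Finset.card_le_card
    intro b hb
    rw [Finset.mem_filter] at hb ⊢
    exact ⟨Finset.mem_univ _, hD.orbit_of_eq hp hP hC hN hb.2⟩)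
  rw [Finset.card_univ, ← Nat.card_eq_fintype_card, card_dual_ne_one P hp hP] at hcard
  exact hcard

include hp hP hC hN in
theorem Dat.toFam (hD : Dat P Y m ε lam) [Fintype {ω : P →* ℂˣ // ω ≠ 1}] :
    Fam P p Y m ε (Finset.univ.image lam) := by
  refine ⟨hD.hm, hD.hε, hD.hY, hD.card_image hp hP hC hN, fun ω hω => hD.hYm ⟨ω, hω⟩, ?_⟩
  intro l hl
  obtain ⟨a, -, rfl⟩ := Finset.mem_image.mp hl
  exact ⟨hD.hl1 a, hD.hlY a, a.1, a.2, hD.hform a⟩

/-- pairing of `Ξ_ω` with the exceptional character -/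
theorem Dat.classInner_lam (hD : Dat P Y m ε lam) (a : {ω : P →* ℂˣ // ω ≠ 1}) :
    classInner (Xi P a.1) (lam a : G → ℂ) = -ε := by
  rw [classInner_of_formula P (hD.hform a)]
  have h1 : classInner (fun _ => (1 : ℂ)) (lam a : G → ℂ) = 0 := by
    have := irr_classInner_eq_zero (trivIrr G).2 (lam a).2
      (fun h => hD.hl1 a (Subtype.ext h).symm)
    exact this
  have h2 : classInner (Y : G → ℂ) (lam a : G → ℂ) = 0 :=
    irr_classInner_eq_zero Y.2 (lam a).2 (fun h => hD.hlY a (Subtype.ext h).symm)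
  have h3 : classInner (lam a : G → ℂ) (lam a : G → ℂ) = 1 := irr_classInner_self (lam a).2
  rw [h1, h2, h3]
  ring

end dihedral

end Cfsg.Agent.Lib.Helper7.PrE
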