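import Mathlib
import Cfsg.Prelude.Def_Characters
import Cfsg.Agent.Lib.Helper7.PrE3
import Cfsg.Agent.Lib.Helper7.PrE4

set_option autoImplicit false
set_option linter.style.haveILetI false
set_option linter.unusedSectionVars false

/-!
# The alternating square of an exceptional character: values on `P \ 1` and pairings with the
`Ξ_μ` (helper7, for S4707)
-/

namespace Cfsg.Agent.Lib.Helper7.PrE

open Cfsg Cfsg.Agent.Lib.helper3.Irr Cfsg.Agent.Lib.helper3.CharBasic
open Cfsg.Agent.Lib.helper3.IndFun Cfsg.Agent.Lib.helper3.CycTI Cfsg.Agent.Lib.Helper7.BrP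
open Cfsg.Agent.Lib.Helper7.BrD Cfsg.Agent.Lib.Helper7.PrD
open scoped ComplexConjugate
open Classical

variable {G : Type*} [Group G] [Fintype G]
variable {P : Subgroup G} {p : ℕ} {Y : IrrCharacter G}
  {lam : {ω : P →* ℂˣ // ω ≠ 1} → IrrCharacter G}

section values

variable (hD : Dat P Y (-1) (-1) lam) (hp : p.Prime) (hP : Nat.card P = p)
  (hC : ∀ x ∈ P, x ≠ 1 → ∀ g : G, g * x = x * g → g ∈ P)
  (hN : Nat.card (Subgroup.normalizer (P : Set G)) = p * 2)

include hD hp hP in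
/-- `Y = -1` on `P \ 1` -/
theorem Dat.Y_apply_of_mem {x : G} (hx : x ∈ P) (hx1 : x ≠ 1) : (Y : G → ℂ) x = -1 := by
  have h := apply_of_classInner_Xi_const P hp hP (Y : G → ℂ) (isCharacter_of_isIrrCharacter Y.2)
    (-1) (fun ω hω => hD.hYm ⟨ω, hω⟩) hx hx1
  rw [h]
  push_cast
  rfl

include hD hp hP hC hN in
/-- the values of the exceptional characters on `P \ 1` -/
theorem Dat.lam_apply_of_mem (a : {ω : P →* ℂˣ // ω ≠ 1}) {x : G} (hx : x ∈ P) (hx1 : x ≠ 1) :
    (lam a : G → ℂ) x = -((a.1 ⟨x, hx⟩ : ℂˣ) : ℂ) - (((a.1 ⟨x, hx⟩ : ℂˣ) : ℂ))⁻¹ := by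
  have h1 := hD.hform a x
  rw [Xi_apply_of_mem P hp hP hC hN a.1 hx hx1, hD.Y_apply_of_mem hp hP hx hx1] at h1
  push_cast at h1
  linear_combination -h1

include hD in
/-- the values of the exceptional characters on the `p`-regular elements -/
theorem Dat.lam_apply_of_regular (a : {ω : P →* ℂˣ // ω ≠ 1}) {g : G}
    (hg : ∀ x : G, x⁻¹ * g * x ∈ P → x⁻¹ * g * x = 1) :
    (lam a : G → ℂ) g = (Y : G → ℂ) g - 1 := by
  have h1 := hD.hform a g
  rw [Cfsg.Agent.Lib.Helper5.DihN.Xi_apply_eq_zero P a.1 g hg] at h1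
  push_cast at h1
  linear_combination -h1

include hD in
/-- the degrees of the exceptional characters -/
theorem Dat.lam_apply_one (a : {ω : P →* ℂˣ // ω ≠ 1}) :
    (lam a : G → ℂ) 1 = (Y : G → ℂ) 1 - 1 := by
  have h1 := hD.hform a 1
  rw [Xi_apply_one] at h1
  push_cast at h1
  linear_combination -h1

end values

/-- the alternating square of a class function -/
noncomputable def altSq (χ : G → ℂ) : G → ℂ := fun g => (χ g ^ 2 - χ (g * g)) / 2

theorem altSq_apply (χ : G → ℂ) (g : G) : altSq χ g = (χ g ^ 2 - χ (g * g)) / 2 := rfl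

theorem altSq_isClassFunction {χ : G → ℂ} (hχ : IsClassFunction G χ) :
    IsClassFunction G (altSq χ) := by
  intro g h
  rw [altSq_apply, altSq_apply, hχ g h]
  have : h * g * h⁻¹ * (h * g * h⁻¹) = h * (g * g) * h⁻¹ := by group
  rw [this, hχ (g * g) h]

section square

variable (hp : p.Prime) (hP : Nat.card P = p)

include hp hP in
/-- squares of nonidentity elements of `P` are nonidentity (`p` odd) -/
theorem mul_self_ne_one (hp2 : p ≠ 2) {x : G} (hx : x ∈ P) (hx1 : x ≠ 1) : x * x ≠ 1 := by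
  intro h
  apply hx1
  have h1 : orderOf x ∣ 2 := orderOf_dvd_of_pow_eq_one (by rw [pow_two]; exact h)
  have h2 : orderOf x ∣ p := by
    have h3 : (⟨x, hx⟩ : P) ^ p = 1 := by
      have := pow_card_eq_one' (x := (⟨x, hx⟩ : P))
      rwa [hP] at this
    have h4 : x ^ p = 1 := by simpa using congrArg Subtype.val h3
    exact orderOf_dvd_of_pow_eq_one h4
  have h5 : orderOf x ∣ Nat.gcd 2 p := Nat.dvd_gcd h1 h2
  have h6 : Nat.gcd 2 p = 1 := by
    rw [Nat.gcd_comm]
    exact (Nat.Prime.coprime_iff_not_dvd hp).mpr (fun hdvd =>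
      hp2 ((Nat.prime_dvd_prime_iff_eq hp Nat.prime_two).mp hdvd))
  rw [h6, Nat.dvd_one] at h5
  exact orderOf_eq_one_iff.mp h5

include hp hP in
/-- the square of a nontrivial linear character of `P` is nontrivial -/
theorem mul_self_ne_one_dual (hp2 : p ≠ 2) {ω : P →* ℂˣ} (hω : ω ≠ 1) : ω * ω ≠ 1 := by
  intro h
  obtain ⟨x, hx, hx1⟩ := exists_ne_one_mem P hp hP
  have hinj := injective_of_ne_one P hp hP hω
  have h1 : ω (⟨x, hx⟩ * ⟨x, hx⟩) = ω 1 := by
    rw [map_mul, map_one]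
    have := DFunLike.congr_fun h (⟨x, hx⟩ : P)
    rwa [MonoidHom.mul_apply, MonoidHom.one_apply] at this
  have h2 := hinj h1
  have h3 : x * x = 1 := by simpa using congrArg Subtype.val h2
  exact mul_self_ne_one hp hP hp2 hx hx1 h3

end square

section pairing

variable (hD : Dat P Y (-1) (-1) lam) (hp : p.Prime) (hP : Nat.card P = p)
  (hC : ∀ x ∈ P, x ≠ 1 → ∀ g : G, g * x = x * g → g ∈ P)
  (hN : Nat.card (Subgroup.normalizer (P : Set G)) = p * 2)

include hD hp hP hC hN in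
/-- on `P \ 1` the alternating square of `Λ_ω` is `3 - Ξ_{ω²}` -/
theorem Dat.altSq_add_Xi (hp2 : p ≠ 2) (a : {ω : P →* ℂˣ // ω ≠ 1}) {x : G} (hx : x ∈ P)
    (hx1 : x ≠ 1) : altSq (lam a : G → ℂ) x + Xi P (a.1 * a.1) x = 3 := by
  have hxx : x * x ∈ P := P.mul_mem hx hx
  have hxx1 : x * x ≠ 1 := mul_self_ne_one hp hP hp2 hx hx1
  rw [altSq_apply, hD.lam_apply_of_mem hp hP hC hN a hx hx1,
    hD.lam_apply_of_mem hp hP hC hN a hxx hxx1, Xi_apply_of_mem P hp hP hC hN (a.1 * a.1) hx hx1]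
  have h1 : (⟨x * x, hxx⟩ : P) = ⟨x, hx⟩ * ⟨x, hx⟩ := rfl
  rw [h1, map_mul, MonoidHom.mul_apply]
  have hw : ((a.1 ⟨x, hx⟩ : ℂˣ) : ℂ) ≠ 0 := Units.ne_zero _
  push_cast
  field_simp
  ring

include hD hp hP hC hN in
/-- **the pairing of `Ξ_μ` with the alternating square of `Λ_ω`** -/
theorem Dat.classInner_Xi_altSq (hp2 : p ≠ 2) (a μ : {ω : P →* ℂˣ // ω ≠ 1}) :
    ((∃ n : Subgroup.normalizer (P : Set G), μ.1 = cj P n (a.1 * a.1)) →
      classInner (Xi P μ.1) (altSq (lam a : G → ℂ)) = 0) ∧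
    ((¬ ∃ n : Subgroup.normalizer (P : Set G), μ.1 = cj P n (a.1 * a.1)) →
      classInner (Xi P μ.1) (altSq (lam a : G → ℂ)) = 1) := by
  letI : Fintype P := Fintype.ofFinite P
  have hω₂ : a.1 * a.1 ≠ 1 := mul_self_ne_one_dual hp hP hp2 a.2
  have hcl : IsClassFunction G (altSq (lam a : G → ℂ)) :=
    altSq_isClassFunction (isClassFunction_of_isCharacter (isCharacter_of_isIrrCharacter (lam a).2))
  have hXicl : IsClassFunction G (Xi P (a.1 * a.1)) := indFun_isClassFunction P _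
  have hFcl : IsClassFunction G (altSq (lam a : G → ℂ) + Xi P (a.1 * a.1)) := by
    intro g h
    rw [Pi.add_apply, Pi.add_apply, hcl g h, hXicl g h]
  have h3 := classInner_Xi_of_const P hp hP μ.2 (altSq (lam a : G → ℂ) + Xi P (a.1 * a.1)) hFcl 3
    (Complex.conj_ofNat 3) (fun x hx hx1 => by
      rw [Pi.add_apply]; exact hD.altSq_add_Xi hp hP hC hN hp2 a hx hx1)
  rw [classInner_add_right] at h3
  obtain ⟨hg1, hg2⟩ := gram_eq P hp hP hC 2 hN μ.2 hω₂
  constructor
  · intro h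
    obtain ⟨n₀, hn₀⟩ := h
    have h4 : classInner (Xi P μ.1) (Xi P (a.1 * a.1)) = (2 : ℂ) + 1 := by
      have := hg1 n₀ hn₀
      exact_mod_cast this
    rw [h4] at h3
    linear_combination h3
  · intro h
    push Not at h
    have h4 : classInner (Xi P μ.1) (Xi P (a.1 * a.1)) = (2 : ℂ) := by
      have := hg2 h
      exact_mod_cast this
    rw [h4] at h3
    linear_combination h3

end pairing

end Cfsg.Agent.Lib.Helper7.PrE
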