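import Mathlib
import Cfsg.Prelude.Def_Characters
import Cfsg.Agent.Lib.Helper7.PrE6

set_option autoImplicit false
set_option linter.style.haveILetI false
set_option linter.unusedSectionVars false

/-!
# Decomposition of the alternating square of an exceptional character and the functional equation
for `Y` on the `p`-regular elements (helper7, for S4707)
-/

namespace Cfsg.Agent.Lib.Helper7.PrE

open Cfsg Cfsg.Agent.Lib.helper3.Irr Cfsg.Agent.Lib.helper3.CharBasic
open Cfsg.Agent.Lib.helper3.IndFun Cfsg.Agent.Lib.helper3.CycTI Cfsg.Agent.Lib.Helper7.BrP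
open Cfsg.Agent.Lib.Helper7.BrD Cfsg.Agent.Lib.Helper7.PrD
open scoped ComplexConjugate
open Classical

variable {G : Type*} [Group G] [Fintype G]
variable {P : Subgroup G} {p : ℕ} {Y : IrrCharacter G} {m ε : ℤ}
  {lam : {ω : P →* ℂˣ // ω ≠ 1} → IrrCharacter G}

section counting

variable (hD : Dat P Y m ε lam) (hp : p.Prime) (hP : Nat.card P = p)
  (hC : ∀ x ∈ P, x ≠ 1 → ∀ g : G, g * x = x * g → g ∈ P)
  (hN : Nat.card (Subgroup.normalizer (P : Set G)) = p * 2)

include hp hP hC hN in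
/-- the orbits of `N(P)` on the nontrivial linear characters have two elements -/
theorem card_filter_orbit [Fintype {ω : P →* ℂˣ // ω ≠ 1}] (a : {ω : P →* ℂˣ // ω ≠ 1}) :
    (Finset.univ.filter (fun b : {ω : P →* ℂˣ // ω ≠ 1} =>
      ∃ n : Subgroup.normalizer (P : Set G), b.1 = cj P n a.1)).card = 2 := by
  have h2 := card_orbit P hp hP hC 2 hN a
  rw [Nat.card_eq_fintype_card, Fintype.card_subtype] at h2
  rw [← h2]
  congr 1
  apply Finset.filter_congr
  intro b _
  exact (orbSetoid_r P b a).symm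

include hD hp hP hC hN in
/-- the fibers of `ω ↦ Λ_ω` have at most two elements -/
theorem Dat.card_fiber_le [Fintype {ω : P →* ℂˣ // ω ≠ 1}] (l : IrrCharacter G) :
    (Finset.univ.filter (fun b : {ω : P →* ℂˣ // ω ≠ 1} => lam b = l)).card ≤ 2 := by
  by_cases h : ∃ a, lam a = l
  · obtain ⟨a, rfl⟩ := h
    rw [← card_filter_orbit hp hP hC hN a]
    apply Finset.card_le_card
    intro b hb
    rw [Finset.mem_filter] at hb ⊢
    exact ⟨Finset.mem_univ _, hD.orbit_of_eq hp hP hC hN hb.2⟩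
  · push Not at h
    rw [Finset.filter_eq_empty_iff.mpr (fun b _ => h b)]
    simp

include hD hp hP hC hN in
theorem Dat.sum_comp_le [Fintype {ω : P →* ℂˣ // ω ≠ 1}] (f : IrrCharacter G → ℕ) :
    ∑ μ : {ω : P →* ℂˣ // ω ≠ 1}, f (lam μ) ≤ 2 * ∑ l ∈ Finset.univ.image lam, f l := by
  rw [Finset.sum_comp f lam, Finset.mul_sum]
  apply Finset.sum_le_sum
  intro l _
  rw [smul_eq_mul]
  exact Nat.mul_le_mul_right _ (hD.card_fiber_le hp hP hC hN l)

end counting

section relation

variable (hD : Dat P Y (-1) (-1) lam) (hp : p.Prime) (hP : Nat.card P = p)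
  (hC : ∀ x ∈ P, x ≠ 1 → ∀ g : G, g * x = x * g → g ∈ P)
  (hN : Nat.card (Subgroup.normalizer (P : Set G)) = p * 2)

include hD hp hP hC hN in
/-- the multiplicities of the exceptional characters in the alternating square -/
theorem Dat.relation_altSq (hp2 : p ≠ 2) (a : {ω : P →* ℂˣ // ω ≠ 1}) (c : ℝ)
    (n : IrrCharacter G → ℕ)
    (hn : (fun g => altSq (lam a : G → ℂ) g + (c : ℂ))
      = ∑ ψ : IrrCharacter G, (n ψ : ℂ) • (ψ : G → ℂ))
    (μ : {ω : P →* ℂˣ // ω ≠ 1}) :
    ((∃ n₀ : Subgroup.normalizer (P : Set G), μ.1 = cj P n₀ (a.1 * a.1)) →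
      (c : ℂ) = (n (trivIrr G) : ℂ) - (n Y : ℂ) + (n (lam μ) : ℂ)) ∧
    ((¬ ∃ n₀ : Subgroup.normalizer (P : Set G), μ.1 = cj P n₀ (a.1 * a.1)) →
      1 + (c : ℂ) = (n (trivIrr G) : ℂ) - (n Y : ℂ) + (n (lam μ) : ℂ)) := by
  letI : Fintype P := Fintype.ofFinite P
  have e1 : classInner (Xi P μ.1) (fun g => altSq (lam a : G → ℂ) g + (c : ℂ))
      = classInner (Xi P μ.1) (altSq (lam a : G → ℂ)) + (c : ℂ) := by
    have h1 : (fun g => altSq (lam a : G → ℂ) g + (c : ℂ))
        = altSq (lam a : G → ℂ) + (c : ℂ) • (fun _ => (1 : ℂ)) := by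
      funext g
      simp
    rw [h1, classInner_add_right, classInner_smul_right, classInner_Xi_one P μ.2,
      Complex.conj_ofReal, mul_one]
  have e2 : classInner (Xi P μ.1) (∑ ψ : IrrCharacter G, (n ψ : ℂ) • (ψ : G → ℂ))
      = (n (trivIrr G) : ℂ) - (n Y : ℂ) + (n (lam μ) : ℂ) := by
    rw [classInner_of_formula P (hD.hform μ), classInner_one_eq_triv, classInner_decomp_right,
      classInner_decomp_right, classInner_decomp_right]
    push_cast
    ring
  rw [hn, e2] at e1
  obtain ⟨h0, h1⟩ := hD.classInner_Xi_altSq hp hP hC hN hp2 a μ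
  constructor
  · intro h
    rw [h0 h, zero_add] at e1
    exact e1.symm
  · intro h
    rw [h1 h] at e1
    exact e1.symm

end relation

end Cfsg.Agent.Lib.Helper7.PrE
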