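import Mathlib
import Cfsg.Prelude.Def_Characters
import Cfsg.Agent.Lib.Helper7.PrE7

set_option autoImplicit false
set_option linter.style.haveILetI false
set_option linter.unusedSectionVars false

/-!
# The functional equation for `Y` on the `p`-regular elements (helper7, for S4707)
-/

namespace Cfsg.Agent.Lib.Helper7.PrE

open Cfsg Cfsg.Agent.Lib.helper3.Irr Cfsg.Agent.Lib.helper3.CharBasic
open Cfsg.Agent.Lib.helper3.IndFun Cfsg.Agent.Lib.helper3.CycTI Cfsg.Agent.Lib.Helper7.BrP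
open Cfsg.Agent.Lib.Helper7.BrD Cfsg.Agent.Lib.Helper7.PrD
open scoped ComplexConjugate
open Classical

variable {G : Type*} [Group G] [Fintype G]
variable {P : Subgroup G} {p : ℕ} {Y : IrrCharacter G}
  {lam : {ω : P →* ℂˣ // ω ≠ 1} → IrrCharacter G}

/-- the arithmetic heart of the decomposition of the alternating square -/
theorem altSq_arith {p u nY A R : ℤ} (h5 : 5 ≤ p) (hu : 0 ≤ u) (hnY : 0 ≤ nY)
    (h1 : (p - 3) + (p - 1) * u ≤ 2 * A) (h2 : (p - 2) * A ≤ R)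
    (h3 : 2 * nY * p + 2 * R = (p - 2) * (p - 3) + 2 * u) :
    u = 0 ∧ nY = 0 ∧ 2 * A = p - 3 ∧ R = (p - 2) * A := by
  have hp2 : 0 < p - 2 := by linarith
  have h4 : (p - 2) * ((p - 3) + (p - 1) * u) ≤ (p - 2) * (2 * A) :=
    mul_le_mul_of_nonneg_left h1 hp2.le
  have h5' : 2 * nY * p + (p - 2) * (p - 1) * u ≤ 2 * u := by nlinarith
  have hu0 : u = 0 := by
    by_contra hne
    have hu1 : 1 ≤ u := by omega
    have h6 : 12 ≤ (p - 2) * (p - 1) := by nlinarith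
    have h7 : 12 * u ≤ (p - 2) * (p - 1) * u := mul_le_mul_of_nonneg_right h6 hu
    have h8 : 0 ≤ 2 * nY * p := by positivity
    linarith
  subst hu0
  have hnY0 : nY = 0 := by
    by_contra hne
    have h6 : 1 ≤ nY := by omega
    have h7 : 2 * 1 * p ≤ 2 * nY * p := by nlinarith
    linarith
  subst hnY0
  refine ⟨rfl, rfl, ?_, ?_⟩
  · have h6 : (p - 2) * (2 * A) ≤ (p - 2) * (p - 3) := by nlinarith
    have h7 : 2 * A ≤ p - 3 := le_of_mul_le_mul_left h6 hp2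
    linarith
  · have h6 : (p - 2) * (2 * A) ≤ (p - 2) * (p - 3) := by nlinarith
    have h7 : 2 * A ≤ p - 3 := le_of_mul_le_mul_left h6 hp2
    have h8 : 2 * A = p - 3 := by linarith
    nlinarith

section main

variable (hD : Dat P Y (-1) (-1) lam) (hp : p.Prime) (hP : Nat.card P = p)
  (hC : ∀ x ∈ P, x ≠ 1 → ∀ g : G, g * x = x * g → g ∈ P)
  (hN : Nat.card (Subgroup.normalizer (P : Set G)) = p * 2)

include hC in
/-- squares of `p`-regular elements are `p`-regular -/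
theorem regular_mul_self {g : G} (hg : ∀ x : G, x⁻¹ * g * x ∈ P → x⁻¹ * g * x = 1) :
    ∀ x : G, x⁻¹ * (g * g) * x ∈ P → x⁻¹ * (g * g) * x = 1 := by
  intro x hx
  by_contra hne
  have h1 : x⁻¹ * g * x ∈ P := by
    apply hC _ hx hne
    group
  have h2 := hg x h1
  apply hne
  have : x⁻¹ * (g * g) * x = (x⁻¹ * g * x) * (x⁻¹ * g * x) := by group
  rw [this, h2, one_mul]

include hD hp hP hC hN in
/-- **the functional equation**: `(Y(g) - 1)² - (Y(g²) - 1) = (p - 3)(Y(g) - 1)` for every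
`p`-regular element `g`. -/
theorem Dat.functional_eq (h5 : 5 ≤ p) (hY1 : (Y : G → ℂ) 1 = (p : ℂ) - 1) {g : G}
    (hg : ∀ x : G, x⁻¹ * g * x ∈ P → x⁻¹ * g * x = 1) :
    ((Y : G → ℂ) g - 1) ^ 2 - ((Y : G → ℂ) (g * g) - 1)
      = ((p : ℂ) - 3) * ((Y : G → ℂ) g - 1) := by
  have hp2 : p ≠ 2 := by omega
  letI : Fintype P := Fintype.ofFinite P
  haveI := finite_dual P hp hP
  letI : Fintype {ω : P →* ℂˣ // ω ≠ 1} := Fintype.ofFinite _
  have hΩcard : Fintype.card {ω : P →* ℂˣ // ω ≠ 1} = p - 1 := by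
    rw [← Nat.card_eq_fintype_card, card_dual_ne_one P hp hP]
  obtain ⟨a⟩ : Nonempty {ω : P →* ℂˣ // ω ≠ 1} := by
    rw [← Fintype.card_pos_iff, hΩcard]; omega
  obtain ⟨c, hc⟩ := exists_altSq (isCharacter_of_isIrrCharacter (lam a).2)
  have hc' : IsCharacter G (fun g => altSq (lam a : G → ℂ) g + (c : ℂ)) := hc
  obtain ⟨n, hn⟩ := exists_decomposition_of_isCharacter hc'
  have hdegex : ∀ ψ : IrrCharacter G, ∃ k : ℕ, 0 < k ∧ (ψ : G → ℂ) 1 = k :=
    fun ψ => exists_pos_nat_apply_one ψ.2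
  choose dg hdgpos hdg using hdegex
  have hω₂ : a.1 * a.1 ≠ 1 := mul_self_ne_one_dual hp hP hp2 a.2
  obtain ⟨μ₂, hμ₂⟩ : ∃ μ₂ : {ω : P →* ℂˣ // ω ≠ 1}, μ₂ = ⟨a.1 * a.1, hω₂⟩ := ⟨_, rfl⟩
  obtain ⟨u, hu⟩ : ∃ u : ℕ, u = n (lam μ₂) := ⟨_, rfl⟩
  have hR := fun μ => hD.relation_altSq hp hP hC hN hp2 a c n hn μ
  have hc_eq : (c : ℂ) = (n (trivIrr G) : ℂ) - (n Y : ℂ) + (u : ℂ) := by
    rw [hu]
    apply (hR μ₂).1
    refine ⟨1, ?_⟩
    rw [hμ₂, cj_one_left]
  have hin : ∀ μ : {ω : P →* ℂˣ // ω ≠ 1},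
      (∃ n₀ : Subgroup.normalizer (P : Set G), μ.1 = cj P n₀ (a.1 * a.1)) → n (lam μ) = u := by
    intro μ h
    have h1 := (hR μ).1 h
    rw [hc_eq] at h1
    have h2 : (u : ℂ) = (n (lam μ) : ℂ) := by linear_combination h1
    exact_mod_cast h2.symm
  have hout : ∀ μ : {ω : P →* ℂˣ // ω ≠ 1},
      (¬ ∃ n₀ : Subgroup.normalizer (P : Set G), μ.1 = cj P n₀ (a.1 * a.1)) →
        n (lam μ) = u + 1 := by
    intro μ h
    have h1 := (hR μ).2 h
    rw [hc_eq] at h1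
    have h2 : ((u + 1 : ℕ) : ℂ) = (n (lam μ) : ℂ) := by
      push_cast
      linear_combination h1
    exact_mod_cast h2.symm
  -- the sum over all `μ`
  have hsum : ∑ μ : {ω : P →* ℂˣ // ω ≠ 1}, n (lam μ) = (p - 3) + (p - 1) * u := by
    rw [← Finset.sum_filter_add_sum_filter_not Finset.univ
      (fun μ : {ω : P →* ℂˣ // ω ≠ 1} =>
        ∃ n₀ : Subgroup.normalizer (P : Set G), μ.1 = cj P n₀ (a.1 * a.1))]
    rw [Finset.sum_congr rfl (fun μ hμ => hin μ (Finset.mem_filter.mp hμ).2),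
      Finset.sum_congr rfl (fun μ hμ => hout μ (Finset.mem_filter.mp hμ).2),
      Finset.sum_const, Finset.sum_const, smul_eq_mul, smul_eq_mul]
    have hc1 := card_filter_orbit hp hP hC hN ⟨a.1 * a.1, hω₂⟩
    have hc2 := Finset.card_filter_add_card_filter_not (s := Finset.univ)
      (fun μ : {ω : P →* ℂˣ // ω ≠ 1} =>
        ∃ n₀ : Subgroup.normalizer (P : Set G), μ.1 = cj P n₀ (a.1 * a.1))
    rw [Finset.card_univ, hΩcard] at hc2
    simp only at hc1
    rw [hc1] at hc2 ⊢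
    have hc3 : (Finset.univ.filter (fun μ : {ω : P →* ℂˣ // ω ≠ 1} =>
        ¬ ∃ n₀ : Subgroup.normalizer (P : Set G), μ.1 = cj P n₀ (a.1 * a.1))).card = p - 3 := by
      omega
    rw [hc3]
    have : p - 1 = (p - 3) + 2 := by omega
    rw [this]
    ring
  -- the image of `lam`
  obtain ⟨S, hSdef⟩ : ∃ S : Finset (IrrCharacter G), S = Finset.univ.image lam := ⟨_, rfl⟩
  have hSle := hD.sum_comp_le hp hP hC hN n
  rw [hsum, ← hSdef] at hSle
  -- degrees
  have hdY : dg Y = p - 1 := by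
    have h1 := hdg Y
    rw [hY1] at h1
    have h2 : ((p - 1 : ℕ) : ℂ) = (dg Y : ℂ) := by
      rw [Nat.cast_sub (by omega), ← h1]
      simp
    exact_mod_cast h2.symm
  have hdl : ∀ l ∈ S, dg l = p - 2 := by
    intro l hl
    rw [hSdef] at hl
    obtain ⟨b, -, rfl⟩ := Finset.mem_image.mp hl
    have h1 := hD.lam_apply_one b
    rw [hdg, hY1] at h1
    have h2 : ((p - 2 : ℕ) : ℂ) = (dg (lam b) : ℂ) := by
      rw [Nat.cast_sub (by omega), h1]
      push_cast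
      ring
    exact_mod_cast h2.symm
  have hdt : dg (trivIrr G) = 1 := by
    have h1 := hdg (trivIrr G)
    have h3 : ((trivIrr G : IrrCharacter G) : G → ℂ) 1 = 1 := rfl
    rw [h3] at h1
    exact_mod_cast h1.symm
  -- the degree equation
  have hdeg : 2 * ∑ ψ : IrrCharacter G, ((n ψ * dg ψ : ℕ) : ℤ)
      = ((p : ℤ) - 2) * ((p : ℤ) - 3) + 2 * ((n (trivIrr G) : ℤ) - (n Y : ℤ) + (u : ℤ)) := by
    have h1 := congrFun hn 1
    rw [decomposition_degree n dg hdg, altSq_apply, one_mul, hD.lam_apply_one a, hY1, hc_eq] at h1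
    have h2 : ((2 * ∑ ψ : IrrCharacter G, ((n ψ * dg ψ : ℕ) : ℤ) : ℤ) : ℂ)
        = ((((p : ℤ) - 2) * ((p : ℤ) - 3)
            + 2 * ((n (trivIrr G) : ℤ) - (n Y : ℤ) + (u : ℤ)) : ℤ) : ℂ) := by
      push_cast at h1 ⊢
      linear_combination (-2 : ℂ) * h1
    exact Int.cast_injective h2
  have hne : trivIrr G ≠ Y := fun h => hD.hY h.symm
  have hsplit := Finset.sum_add_sum_compl ({trivIrr G, Y} : Finset (IrrCharacter G))
    (fun ψ => ((n ψ * dg ψ : ℕ) : ℤ))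
  rw [Finset.sum_pair hne, hdt, hdY] at hsplit
  have hSsub : S ⊆ ({trivIrr G, Y} : Finset (IrrCharacter G))ᶜ := by
    intro l hl
    rw [hSdef] at hl
    obtain ⟨b, -, rfl⟩ := Finset.mem_image.mp hl
    rw [Finset.mem_compl, Finset.mem_insert, Finset.mem_singleton]
    push Not
    exact ⟨hD.hl1 b, hD.hlY b⟩
  have hsplit2 := Finset.sum_sdiff hSsub (f := fun ψ => ((n ψ * dg ψ : ℕ) : ℤ))
  have hSsum : ∑ l ∈ S, ((n l * dg l : ℕ) : ℤ) = ((p : ℤ) - 2) * ∑ l ∈ S, (n l : ℤ) := by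
    rw [Finset.mul_sum]
    apply Finset.sum_congr rfl
    intro l hl
    rw [hdl l hl]
    push_cast [show 2 ≤ p by omega]
    ring
  have hnonneg : 0 ≤ ∑ ψ ∈ ({trivIrr G, Y} : Finset (IrrCharacter G))ᶜ \ S,
      ((n ψ * dg ψ : ℕ) : ℤ) := Finset.sum_nonneg (fun _ _ => Int.natCast_nonneg _)
  obtain ⟨hu0, hnY0, hA, hRA⟩ := altSq_arith (p := (p : ℤ)) (u := (u : ℤ)) (nY := (n Y : ℤ))
    (A := ∑ l ∈ S, (n l : ℤ))
    (R := ∑ ψ ∈ ({trivIrr G, Y} : Finset (IrrCharacter G))ᶜ, ((n ψ * dg ψ : ℕ) : ℤ))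
    (by exact_mod_cast h5) (Int.natCast_nonneg _) (Int.natCast_nonneg _)
    (by
      have h1 : (((p - 3) + (p - 1) * u : ℕ) : ℤ) ≤ ((2 * ∑ l ∈ S, n l : ℕ) : ℤ) := by
        exact_mod_cast hSle
      push_cast [show 3 ≤ p by omega, show 1 ≤ p by omega] at h1
      linarith)
    (by rw [← hsplit2, hSsum]; linarith)
    (by
      rw [← hsplit] at hdeg
      push_cast [show 1 ≤ p by omega] at hdeg ⊢
      linear_combination hdeg)
  have hu0' : u = 0 := by exact_mod_cast hu0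
  have hnY0' : n Y = 0 := by exact_mod_cast hnY0
  -- the remaining multiplicities vanish
  have hrest : ∑ ψ ∈ ({trivIrr G, Y} : Finset (IrrCharacter G))ᶜ \ S,
      ((n ψ * dg ψ : ℕ) : ℤ) = 0 := by
    rw [← hsplit2, hSsum] at hRA
    linarith
  have hzero : ∀ ψ : IrrCharacter G, ψ ≠ trivIrr G → ψ ∉ S → n ψ = 0 := by
    intro ψ h1 h2
    by_cases hψY : ψ = Y
    · rw [hψY]; exact hnY0'
    have h4 := (Finset.sum_eq_zero_iff_of_nonneg (fun _ _ => Int.natCast_nonneg _)).mp hrest ψ (by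
      rw [Finset.mem_sdiff, Finset.mem_compl, Finset.mem_insert, Finset.mem_singleton]
      push Not
      exact ⟨⟨h1, hψY⟩, h2⟩)
    have h5' : n ψ * dg ψ = 0 := by exact_mod_cast h4
    rcases Nat.mul_eq_zero.mp h5' with h | h
    · exact h
    · have := hdgpos ψ
      omega
  have hcn : (c : ℂ) = (n (trivIrr G) : ℂ) := by
    rw [hc_eq, hu0', hnY0']
    simp
  -- evaluate at `g`
  have hgg := regular_mul_self hC hg
  have hval := congrFun hn g
  rw [decomposition_apply, altSq_apply, hD.lam_apply_of_regular a hg,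
    hD.lam_apply_of_regular a hgg, hcn] at hval
  have htS : trivIrr G ∉ S := by
    intro h
    rw [hSdef] at h
    obtain ⟨b, -, hb⟩ := Finset.mem_image.mp h
    exact hD.hl1 b hb
  have hterm : ∀ ψ : IrrCharacter G, (n ψ : ℂ) * (ψ : G → ℂ) g
      = (if ψ = trivIrr G then (n (trivIrr G) : ℂ) else 0)
        + (if ψ ∈ S then (n ψ : ℂ) * ((Y : G → ℂ) g - 1) else 0) := by
    intro ψ
    by_cases h1 : ψ = trivIrr G
    · rw [if_pos h1, if_neg (by rw [h1]; exact htS), add_zero, h1]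
      have h3 : ((trivIrr G : IrrCharacter G) : G → ℂ) g = 1 := rfl
      rw [h3, mul_one]
    · rw [if_neg h1, zero_add]
      by_cases h2 : ψ ∈ S
      · rw [if_pos h2]
        rw [hSdef] at h2
        obtain ⟨b, -, rfl⟩ := Finset.mem_image.mp h2
        rw [hD.lam_apply_of_regular b hg]
      · rw [if_neg h2, hzero ψ h1 h2]
        simp
  rw [Finset.sum_congr rfl (fun ψ _ => hterm ψ), Finset.sum_add_distrib,
    Finset.sum_ite_eq' Finset.univ (trivIrr G), if_pos (Finset.mem_univ _),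
    ← Finset.sum_filter, Finset.filter_mem_eq_inter, Finset.univ_inter, ← Finset.sum_mul] at hval
  have hA' : (2 : ℂ) * ∑ l ∈ S, (n l : ℂ) = (p : ℂ) - 3 := by
    have h1 : ((2 * ∑ l ∈ S, (n l : ℤ) : ℤ) : ℂ) = (((p : ℤ) - 3 : ℤ) : ℂ) := by rw [hA]
    push_cast at h1
    exact h1
  linear_combination (2 : ℂ) * hval + ((Y : G → ℂ) g - 1) * hA'

end main

end Cfsg.Agent.Lib.Helper7.PrE
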