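import Mathlib
import Cfsg.Prelude.Def_Characters
import Cfsg.Agent.Lib.Helper7.PrE8
import Cfsg.Agent.Lib.Helper7.BrD9

set_option autoImplicit false
set_option linter.style.haveILetI false
set_option linter.unusedSectionVars false

/-!
# Involutions: `Y` vanishes on them, they form one class, and the order formula
(helper7, for S4707)
-/

namespace Cfsg.Agent.Lib.Helper7.PrE

open Cfsg Cfsg.Agent.Lib.helper3.Irr Cfsg.Agent.Lib.helper3.CharBasic
open Cfsg.Agent.Lib.helper3.IndFun Cfsg.Agent.Lib.helper3.CycTI Cfsg.Agent.Lib.Helper7.BrP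
open Cfsg.Agent.Lib.Helper7.BrD Cfsg.Agent.Lib.Helper7.PrD
open scoped ComplexConjugate
open Classical

variable {G : Type*} [Group G] [Fintype G]

/-- in a group of even order the number of involutions is odd -/
theorem card_involutions_odd (h2 : 2 ∣ Fintype.card G) :
    Odd (Finset.univ.filter (fun s : G => s * s = 1 ∧ s ≠ 1)).card := by
  have hA : ((Finset.univ.filter (fun g : G => g * g ≠ 1)).card : ZMod 2) = 0 := by
    rw [Finset.card_eq_sum_ones, Nat.cast_sum]
    refine Finset.sum_involution (fun g _ => g⁻¹) ?_ ?_ ?_ ?_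
    · intro g _
      push_cast
      exact CharTwo.add_self_eq_zero (1 : ZMod 2)
    · intro g hg _ h
      rw [Finset.mem_filter] at hg
      apply hg.2
      calc g * g = g⁻¹ * g := by rw [h]
        _ = 1 := inv_mul_cancel g
    · intro g hg
      rw [Finset.mem_filter] at hg ⊢
      refine ⟨Finset.mem_univ _, ?_⟩
      intro h
      apply hg.2
      have : g * g = (g⁻¹ * g⁻¹)⁻¹ := by rw [mul_inv_rev, inv_inv]
      rw [this, h, inv_one]
    · intro g _
      exact inv_inv g
  have hA' : 2 ∣ (Finset.univ.filter (fun g : G => g * g ≠ 1)).card :=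
    (ZMod.natCast_eq_zero_iff _ 2).mp hA
  have h1 := Finset.card_filter_add_card_filter_not (s := (Finset.univ : Finset G))
    (fun g : G => g * g = 1)
  rw [Finset.card_univ] at h1
  have h3 : (Finset.univ.filter (fun g : G => g * g = 1)).card
      = (Finset.univ.filter (fun s : G => s * s = 1 ∧ s ≠ 1)).card + 1 := by
    have h4 : Finset.univ.filter (fun g : G => g * g = 1)
        = insert 1 (Finset.univ.filter (fun s : G => s * s = 1 ∧ s ≠ 1)) := by
      ext g
      simp only [Finset.mem_filter, Finset.mem_univ, true_and, Finset.mem_insert]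
      constructor
      · intro h
        by_cases hg : g = 1
        · left; exact hg
        · right; exact ⟨h, hg⟩
      · rintro (h | h)
        · rw [h, mul_one]
        · exact h.1
    rw [h4, Finset.card_insert_of_notMem]
    simp
  have h5 : (Finset.univ.filter (fun g : G => ¬ g * g = 1)).card
      = (Finset.univ.filter (fun g : G => g * g ≠ 1)).card := rfl
  rw [h3, h5] at h1
  rw [Nat.odd_iff]
  omega

section main

variable {P : Subgroup G} {p : ℕ} {Y : IrrCharacter G}
  {lam : {ω : P →* ℂˣ // ω ≠ 1} → IrrCharacter G}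

/-- involutions are `p`-regular -/
theorem involution_regular (hp : p.Prime) (hP : Nat.card P = p) (hp2 : p ≠ 2) {t : G}
    (ht2 : t * t = 1) : ∀ x : G, x⁻¹ * t * x ∈ P → x⁻¹ * t * x = 1 := by
  intro x hx
  by_contra hne
  apply mul_self_ne_one hp hP hp2 hx hne
  have : x⁻¹ * t * x * (x⁻¹ * t * x) = x⁻¹ * (t * t) * x := by group
  rw [this, ht2]
  group

variable [IsSimpleGroup G] (hD : Dat P Y (-1) (-1) lam) (hp : p.Prime) (hP : Nat.card P = p)
  (hC : ∀ x ∈ P, x ≠ 1 → ∀ g : G, g * x = x * g → g ∈ P)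
  (hN : Nat.card (Subgroup.normalizer (P : Set G)) = p * 2)

include hD hp hP hC hN in
/-- `Y` vanishes on involutions -/
theorem Dat.Y_apply_involution (h5 : 5 ≤ p) (hY1 : (Y : G → ℂ) 1 = (p : ℂ) - 1) {t : G}
    (ht2 : t * t = 1) (ht1 : t ≠ 1) : (Y : G → ℂ) t = 0 := by
  have hp2 : p ≠ 2 := by omega
  have hreg := involution_regular hp hP hp2 ht2
  have hFE := hD.functional_eq hp hP hC hN h5 hY1 hreg
  rw [ht2, hY1] at hFE
  have hfac : (((Y : G → ℂ) t - 1) + 1) * (((Y : G → ℂ) t - 1) - ((p : ℂ) - 2)) = 0 := by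
    linear_combination hFE
  rcases mul_eq_zero.mp hfac with h | h
  · linear_combination h
  · exfalso
    apply ht1
    apply eq_one_of_apply_eq_degree Y hD.hY t
    rw [hY1]
    linear_combination h

include hD hp hP hC hN in
/-- **the order formula**: `|t^G|² (p - 1) = p (p - 2) |G|` for `t ∈ N(P) \ P` -/
theorem Dat.order_formula (h5 : 5 ≤ p) (hY1 : (Y : G → ℂ) 1 = (p : ℂ) - 1) {t : G}
    (ht : t ∈ Subgroup.normalizer (P : Set G)) (htP : t ∉ P) :
    (cls t).card ^ 2 * (p - 1) = p * (p - 2) * Nat.card G := by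
  have hp2 : p ≠ 2 := by omega
  letI : Fintype P := Fintype.ofFinite P
  haveI := finite_dual P hp hP
  letI : Fintype {ω : P →* ℂˣ // ω ≠ 1} := Fintype.ofFinite _
  have hΩcard : Fintype.card {ω : P →* ℂˣ // ω ≠ 1} = p - 1 := by
    rw [← Nat.card_eq_fintype_card, card_dual_ne_one P hp hP]
  obtain ⟨a⟩ : Nonempty {ω : P →* ℂˣ // ω ≠ 1} := by
    rw [← Fintype.card_pos_iff, hΩcard]; omega
  have ht2 := mul_self_eq_one_of_mem_normalizer P hp hP hC hN ht htP
  have ht1 : t ≠ 1 := fun h => htP (h ▸ one_mem P)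
  have hYt := hD.Y_apply_involution hp hP hC hN h5 hY1 ht2 ht1
  have hΛt : (lam a : G → ℂ) t = -1 := by
    rw [hD.lam_apply_of_regular a (involution_regular hp hP hp2 ht2), hYt]
    ring
  have hΛ1 : (lam a : G → ℂ) 1 = (p : ℂ) - 2 := by
    rw [hD.lam_apply_one a, hY1]
    ring
  have h := classInner_Xi_pairFun P hp hP hC hN hp2 ht htP a.2
  rw [classInner_of_formula P (hD.hform a), classInner_one_eq_triv, classInner_irr_pairFun,
    classInner_irr_pairFun, classInner_irr_pairFun, hYt, hΛt, hΛ1, hY1] at h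
  have h3 : ∀ g : G, ((trivIrr G : IrrCharacter G) : G → ℂ) g = 1 := fun _ => rfl
  rw [h3, h3] at h
  have hn0 : (Nat.card G : ℂ) ≠ 0 := card_ne_zero_complex G
  have hp1 : ((p : ℂ) - 1) ≠ 0 := by
    have : ((p - 1 : ℕ) : ℂ) ≠ 0 := by
      have : p - 1 ≠ 0 := by omega
      exact_mod_cast this
    rwa [Nat.cast_sub (by omega), Nat.cast_one] at this
  have hp2' : ((p : ℂ) - 2) ≠ 0 := by
    have : ((p - 2 : ℕ) : ℂ) ≠ 0 := by
      have : p - 2 ≠ 0 := by omega
      exact_mod_cast this
    rwa [Nat.cast_sub (by omega)] at this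
  have h4 : (((cls t).card ^ 2 * (p - 1) : ℕ) : ℂ) = ((p * (p - 2) * Nat.card G : ℕ) : ℂ) := by
    push_cast [show 1 ≤ p by omega, show 2 ≤ p by omega]
    push_cast at h
    field_simp at h
    have h' : ((p : ℂ) - 1) * (((cls t).card : ℂ) ^ 2 * ((p : ℂ) - 1))
        = ((p : ℂ) - 1) * ((p : ℂ) * ((p : ℂ) - 2) * (Nat.card G : ℂ)) := by
      linear_combination h
    exact mul_left_cancel₀ hp1 h'
  exact_mod_cast h4

end main

end Cfsg.Agent.Lib.Helper7.PrE
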