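import Mathlib
import Cfsg.Prelude.Def_Characters
import Cfsg.Agent.Lib.Helper7.PrE9
import Cfsg.Agent.Lib.helper3.RankDefect2

set_option autoImplicit false
set_option linter.style.haveILetI false
set_option linter.unusedSectionVars false

/-!
# The order of the group: `p - 1 = 2 ^ j` and `|G| = p (p - 1) (p - 2)` (helper7, for S4707)
-/

namespace Cfsg.Agent.Lib.Helper7.PrE

open Cfsg Cfsg.Agent.Lib.helper3.Irr Cfsg.Agent.Lib.helper3.CharBasic
open Cfsg.Agent.Lib.helper3.IndFun Cfsg.Agent.Lib.helper3.CycTI Cfsg.Agent.Lib.Helper7.BrP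
open Cfsg.Agent.Lib.Helper7.BrD Cfsg.Agent.Lib.Helper7.PrD
open scoped ComplexConjugate
open Classical

variable {G : Type*} [Group G] [Fintype G]

/-- the arithmetic at the end -/
theorem order_arith {p c j n : ℕ} (h5 : 5 ≤ p) (hc : Odd c)
    (h1 : c ^ 2 * (p - 1) = p * (p - 2) * n) (h2 : c * 2 ^ j = n) :
    p - 1 = 2 ^ j ∧ n = p * (p - 1) * (p - 2) := by
  have hcpos : 0 < c := hc.pos
  -- `c (p - 1) = p (p - 2) 2 ^ j`
  have h3 : c * (p - 1) = p * (p - 2) * 2 ^ j := by
    have h4 : c * (c * (p - 1)) = c * (p * (p - 2) * 2 ^ j) := by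
      calc c * (c * (p - 1)) = c ^ 2 * (p - 1) := by ring
        _ = p * (p - 2) * n := h1
        _ = p * (p - 2) * (c * 2 ^ j) := by rw [h2]
        _ = c * (p * (p - 2) * 2 ^ j) := by ring
    exact Nat.eq_of_mul_eq_mul_left hcpos h4
  -- `p - 1` is prime to `p (p - 2)`
  have hco1 : Nat.Coprime (p - 1) p := by
    have : p = (p - 1) + 1 := by omega
    rw [this]
    simp
  have hco2 : Nat.Coprime (p - 1) (p - 2) := by
    have : p - 1 = (p - 2) + 1 := by omega
    rw [this]
    simp
  have hco : Nat.Coprime (p - 1) (p * (p - 2)) := Nat.Coprime.mul_right hco1 hco2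
  have hdvd : (p - 1) ∣ 2 ^ j := by
    have h4 : (p - 1) ∣ p * (p - 2) * 2 ^ j := Dvd.intro_left c h3
    exact hco.dvd_of_dvd_mul_left h4
  obtain ⟨i, hij, hi⟩ := (Nat.dvd_prime_pow Nat.prime_two).mp hdvd
  obtain ⟨d, rfl⟩ := Nat.exists_eq_add_of_le hij
  rw [hi, pow_add] at h3
  have h5' : c = p * (p - 2) * 2 ^ d := by
    have h6 : 2 ^ i * c = 2 ^ i * (p * (p - 2) * 2 ^ d) := by
      calc 2 ^ i * c = c * 2 ^ i := by ring
        _ = p * (p - 2) * (2 ^ i * 2 ^ d) := h3
        _ = 2 ^ i * (p * (p - 2) * 2 ^ d) := by ring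
    exact Nat.eq_of_mul_eq_mul_left (by positivity) h6
  have hd0 : d = 0 := by
    by_contra hne
    have h6 : 2 ∣ 2 ^ d := dvd_pow_self 2 hne
    have h7 : 2 ∣ c := by rw [h5']; exact Dvd.dvd.mul_left h6 _
    rw [Nat.odd_iff] at hc
    omega
  subst hd0
  rw [pow_zero, mul_one] at h5'
  refine ⟨by rw [hi, add_zero], ?_⟩
  rw [← h2, h5', add_zero, ← hi]
  ring

section main

variable {P : Subgroup G} {p : ℕ} {Y : IrrCharacter G}
  {lam : {ω : P →* ℂˣ // ω ≠ 1} → IrrCharacter G}
variable [IsSimpleGroup G] (hD : Dat P Y (-1) (-1) lam) (hp : p.Prime) (hP : Nat.card P = p)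
  (hC : ∀ x ∈ P, x ≠ 1 → ∀ g : G, g * x = x * g → g ∈ P)
  (hN : Nat.card (Subgroup.normalizer (P : Set G)) = p * 2)

include hD hp hP hC hN in
/-- **the order of the group** -/
theorem Dat.order_eq (h5 : 5 ≤ p) (hY1 : (Y : G → ℂ) 1 = (p : ℂ) - 1) :
    ∃ j : ℕ, p - 1 = 2 ^ j ∧ Nat.card G = p * (p - 1) * (p - 2) := by
  have hp2 : p ≠ 2 := by omega
  -- an involution in `N(P) \ P`
  obtain ⟨t, ht, htP⟩ : ∃ t : G, t ∈ Subgroup.normalizer (P : Set G) ∧ t ∉ P := by
    have h1 := card_filter_normalizer_not_mem P hP hN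
    have h2 : (Finset.univ.filter
        (fun a : G => a ∈ Subgroup.normalizer (P : Set G) ∧ a ∉ P)).Nonempty := by
      rw [← Finset.card_pos, h1]; exact hp.pos
    obtain ⟨t, ht⟩ := h2
    exact ⟨t, (Finset.mem_filter.mp ht).2⟩
  have ht2 := mul_self_eq_one_of_mem_normalizer P hp hP hC hN ht htP
  have ht1 : t ≠ 1 := fun h => htP (h ▸ one_mem P)
  have hto : orderOf t = 2 := orderOf_eq_prime (by rw [pow_two]; exact ht2) ht1
  -- all involutions are conjugate to `t`
  obtain ⟨t', Y', d, D, δ, -, -, -, -, -, -, -, -, -, -, hall⟩ :=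
    dihedral_simple P hp hP hC hN h5
  have hconj : ∀ s : G, s * s = 1 → s ≠ 1 → IsConj t s := by
    intro s hs2 hs1
    exact ((hall t ht2 ht1).1).symm.trans (hall s hs2 hs1).1
  have hcls : cls t = Finset.univ.filter (fun s : G => s * s = 1 ∧ s ≠ 1) := by
    ext s
    rw [mem_cls, Finset.mem_filter]
    constructor
    · intro h
      obtain ⟨x, hx⟩ := isConj_iff.mp h
      refine ⟨Finset.mem_univ _, ?_, ?_⟩
      · rw [← hx]
        have : x * t * x⁻¹ * (x * t * x⁻¹) = x * (t * t) * x⁻¹ := by group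
        rw [this, ht2]
        group
      · rw [← hx]
        intro h1
        apply ht1
        have : t = x⁻¹ * (x * t * x⁻¹) * x := by group
        rw [this, h1]
        group
    · intro h
      exact hconj s h.2.1 h.2.2
  have h2G : 2 ∣ Fintype.card G := by
    rw [← hto]
    exact orderOf_dvd_card
  have hcodd : Odd (cls t).card := by
    rw [hcls]
    exact card_involutions_odd h2G
  have hform := hD.order_formula hp hP hC hN h5 hY1 ht htP
  -- the full power of `2` divides `p - 1`
  have hdvd : 2 ^ (Nat.card G).factorization 2 ∣ p - 1 := by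
    have h1 : 2 ^ (Nat.card G).factorization 2 ∣ (cls t).card ^ 2 * (p - 1) := by
      rw [hform]
      exact Dvd.dvd.mul_left (Nat.ordProj_dvd _ _) _
    have hco : Nat.Coprime (2 ^ (Nat.card G).factorization 2) ((cls t).card ^ 2) := by
      apply Nat.Coprime.pow
      rw [Nat.coprime_two_left]
      exact hcodd
    exact hco.dvd_of_dvd_mul_left h1
  -- `Y` vanishes on the elements of even order
  have hvan : ∀ g : G, 2 ∣ orderOf g → (Y : G → ℂ) g = 0 := by
    intro g hg
    haveI : Fact (Nat.Prime 2) := ⟨Nat.prime_two⟩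
    apply Cfsg.Agent.Lib.helper3.Block.vanish_of_pow_dvd_degree 2 Y (p - 1) ?_ hdvd g hg
    rw [hY1, Nat.cast_sub (by omega)]
    simp
  -- elements of even order are involutions
  have heven : ∀ g : G, 2 ∣ orderOf g → g * g = 1 := by
    intro g hg
    have hreg : ∀ x : G, x⁻¹ * g * x ∈ P → x⁻¹ * g * x = 1 := by
      intro x hx
      exfalso
      have h3 : (⟨x⁻¹ * g * x, hx⟩ : P) ^ p = 1 := by
        have := pow_card_eq_one' (x := (⟨x⁻¹ * g * x, hx⟩ : P))
        rwa [hP] at this
      have h4 : (x⁻¹ * g * x) ^ p = 1 := by simpa using congrArg Subtype.val h3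
      have h5' : g ^ p = 1 := by
        have h6 : (x⁻¹ * g * x) ^ p = x⁻¹ * g ^ p * x := by
          have := conj_pow (a := x⁻¹) (b := g) (i := p)
          rwa [inv_inv] at this
        rw [h6] at h4
        have : g ^ p = x * (x⁻¹ * g ^ p * x) * x⁻¹ := by group
        rw [this, h4]
        group
      have h6 : orderOf g ∣ p := orderOf_dvd_of_pow_eq_one h5'
      have h7 : 2 ∣ p := hg.trans h6
      exact hp2 ((Nat.prime_dvd_prime_iff_eq Nat.prime_two hp).mp h7).symm
    have hFE := hD.functional_eq hp hP hC hN h5 hY1 hreg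
    rw [hvan g hg] at hFE
    apply eq_one_of_apply_eq_degree Y hD.hY (g * g)
    rw [hY1]
    linear_combination -hFE
  -- the centralizer of `t` is a `2`-group
  have hcent : ∀ g : G, g ∈ Subgroup.centralizer ({t} : Set G) → g * g = 1 := by
    intro g hg
    by_cases h2 : 2 ∣ orderOf g
    · exact heven g h2
    · have hcomm : Commute t g := by
        have := Subgroup.mem_centralizer_iff.mp hg t (Set.mem_singleton t)
        exact this
      have hco : (orderOf t).Coprime (orderOf g) := by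
        rw [hto]
        exact (Nat.Prime.coprime_iff_not_dvd Nat.prime_two).mpr h2
      have h3 := hcomm.orderOf_mul_eq_mul_orderOf_of_coprime hco
      have h4 : 2 ∣ orderOf (t * g) := by rw [h3, hto]; exact Dvd.intro _ rfl
      have h5' := heven (t * g) h4
      have h6 : t * g * (t * g) = (t * t) * (g * g) := by
        rw [mul_assoc, ← mul_assoc g t g, ← hcomm.eq, mul_assoc, ← mul_assoc]
      rw [h6, ht2, one_mul] at h5'
      exact h5'
  have hpg : IsPGroup 2 (Subgroup.centralizer ({t} : Set G)) := by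
    intro g
    refine ⟨1, ?_⟩
    apply Subtype.ext
    have := hcent g.1 g.2
    rw [pow_one, pow_two]
    exact this
  obtain ⟨j, hj⟩ := hpg.exists_card_eq
  have hc : (cls t).card = (Subgroup.centralizer ({t} : Set G)).index := by
    unfold cls
    exact Cfsg.Agent.Lib.helper3.Central.card_class_eq_index t
  have hmul := Subgroup.card_mul_index (Subgroup.centralizer ({t} : Set G))
  rw [← hc, hj] at hmul
  obtain ⟨h1, h2⟩ := order_arith h5 hcodd hform (by rw [mul_comm]; exact hmul)
  exact ⟨j, h1, h2⟩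

end main

end Cfsg.Agent.Lib.Helper7.PrE
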