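import Mathlib
import Cfsg.Prelude.Def_Characters
import Cfsg.Agent.Lib.Helper7.PrE4

set_option autoImplicit false
set_option linter.style.haveILetI false
set_option linter.unusedSectionVars false

/-!
# The permutation character of degree `2p` (helper7, for S4707)
-/

namespace Cfsg.Agent.Lib.Helper7.PrE

open Cfsg Cfsg.Agent.Lib.helper3.Irr Cfsg.Agent.Lib.helper3.CharBasic
open Cfsg.Agent.Lib.helper3.IndFun Cfsg.Agent.Lib.helper3.CycTI Cfsg.Agent.Lib.Helper7.BrP
open Cfsg.Agent.Lib.helper3.PermChar Cfsg.Agent.Lib.Helper7.PrD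
open scoped ComplexConjugate
open Classical

variable {G : Type*} [Group G] [Fintype G]
variable (X : Type*) [Fintype X] [MulAction G X] [MulAction.IsPretransitive G X]
variable {P : Subgroup G} {p : ℕ} {Y : IrrCharacter G} {m ε : ℤ} {S : Finset (IrrCharacter G)}

/-- the relations between multiplicities in the permutation character and between degrees, for a
transitive action of arbitrary degree on which `P \ 1` acts without fixed points -/
theorem relations_of_fam (hF : Fam P p Y m ε S) (hp : p.Prime) (hP : Nat.card P = p)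
    (n : ℕ) (hn : 0 < n) (hX : Fintype.card X = n) (hreg : ∀ x ∈ P, x ≠ 1 → fx X x = 0)
    (a dg : IrrCharacter G → ℕ)
    (ha : pc (G := G) X = ∑ ψ : IrrCharacter G, (a ψ : ℂ) • (ψ : G → ℂ))
    (hdg : ∀ ψ : IrrCharacter G, (ψ : G → ℂ) 1 = dg ψ) :
    a (trivIrr G) = 1 ∧ dg (trivIrr G) = 1 ∧ ∑ ψ : IrrCharacter G, a ψ * dg ψ = n ∧
    ∀ l ∈ S, (0 : ℤ) = 1 + m * (a Y : ℤ) - ε * (a l : ℤ) ∧
      (0 : ℤ) = 1 + m * (dg Y : ℤ) - ε * (dg l : ℤ) := by
  haveI : Nonempty X := by
    rw [← Fintype.card_pos_iff, hX]; exact hn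
  have hπ : IsCharacter G (pc (G := G) X) := pc_isCharacter X
  have hat : a (trivIrr G) = 1 := by
    have h1 := classInner_pc_one (G := G) X
    rw [ha] at h1
    have h2 : classInner (∑ ψ : IrrCharacter G, (a ψ : ℂ) • (ψ : G → ℂ))
        ((trivIrr G : IrrCharacter G) : G → ℂ) = 1 := h1
    rw [classInner_decomposition_left] at h2
    exact_mod_cast h2
  have hdt : dg (trivIrr G) = 1 := by
    have h1 := hdg (trivIrr G)
    have h3 : ((trivIrr G : IrrCharacter G) : G → ℂ) 1 = 1 := rfl
    rw [h3] at h1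
    exact_mod_cast h1.symm
  have hsum : ∑ ψ : IrrCharacter G, a ψ * dg ψ = n := by
    have h1 := congrFun ha 1
    rw [decomposition_degree a dg hdg, pc, fx_one, hX] at h1
    exact_mod_cast h1.symm
  refine ⟨hat, hdt, hsum, ?_⟩
  intro l hl
  constructor
  · have h1 := hF.pair hp hP (pc (G := G) X) (isClassFunction_of_isCharacter hπ) 0 (map_zero _)
      (fun x hx hx1 => by rw [pc, hreg x hx hx1]; simp) hl
    rw [classInner_one_eq_triv, ha, classInner_decomp_right, classInner_decomp_right,
      classInner_decomp_right, hat] at h1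
    have h2 : ((0 : ℤ) : ℂ) = ((1 + m * (a Y : ℤ) - ε * (a l : ℤ) : ℤ) : ℂ) := by
      push_cast
      rw [Nat.cast_one] at h1
      exact h1
    exact Int.cast_injective h2
  · have h1 := hF.degree hl
    rw [hdg, hdg] at h1
    have h2 : ((0 : ℤ) : ℂ) = ((1 + m * (dg Y : ℤ) - ε * (dg l : ℤ) : ℤ) : ℂ) := by
      push_cast
      exact h1
    exact Int.cast_injective h2

section main

variable {lam : {ω : P →* ℂˣ // ω ≠ 1} → IrrCharacter G}

/-- **the permutation character of degree `2p`** of a perfect, transitive, not doubly transitive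
group in which `P \ 1` has no fixed points: `π = 1 + Y + θ` with `Y(1) = p - 1`, `θ(1) = p`, and
the signs in the structure theorem are `m = ε = -1`. -/
theorem perm_data [Fintype {ω : P →* ℂˣ // ω ≠ 1}] (hD : Dat P Y m ε lam) (hp : p.Prime)
    (h5 : 5 ≤ p) (hP : Nat.card P = p)
    (hC : ∀ x ∈ P, x ≠ 1 → ∀ g : G, g * x = x * g → g ∈ P)
    (hN : Nat.card (Subgroup.normalizer (P : Set G)) = p * 2)
    (hX : Fintype.card X = 2 * p) (hreg : ∀ x ∈ P, x ≠ 1 → fx X x = 0)
    (hperf : ∀ ψ : IrrCharacter G, (ψ : G → ℂ) 1 = 1 → ψ = trivIrr G)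
    (hnot2 : ¬ MulAction.IsMultiplyPretransitive G X 2) :
    m = -1 ∧ ε = -1 ∧ (Y : G → ℂ) 1 = (p : ℂ) - 1 ∧
      ∃ θ : IrrCharacter G, (θ : G → ℂ) 1 = p ∧ θ ≠ trivIrr G ∧ θ ≠ Y ∧
        ∀ g : G, pc (G := G) X g = 1 + (Y : G → ℂ) g + (θ : G → ℂ) g := by
  letI : Fintype P := Fintype.ofFinite P
  haveI : Nonempty X := by
    rw [← Fintype.card_pos_iff, hX]; have := hp.pos; omega
  have hπ : IsCharacter G (pc (G := G) X) := pc_isCharacter X
  obtain ⟨a, ha⟩ := exists_decomposition_of_isCharacter hπ
  have hdegex : ∀ ψ : IrrCharacter G, ∃ n : ℕ, 0 < n ∧ (ψ : G → ℂ) 1 = n :=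
    fun ψ => exists_pos_nat_apply_one ψ.2
  choose dg hdgpos hdg using hdegex
  obtain ⟨S, hSdef⟩ : ∃ S : Finset (IrrCharacter G), S = Finset.univ.image lam := ⟨_, rfl⟩
  have hF : Fam P p Y m ε S := by rw [hSdef]; exact hD.toFam hp hP hC hN
  obtain ⟨hat, hdt, hsum, hrel⟩ :=
    relations_of_fam X hF hp hP (2 * p) (by have := hp.pos; omega) hX hreg a dg ha hdg
  have hScard : 2 ≤ S.card := by
    have := hF.hcard
    omega
  obtain ⟨l₀, hl₀⟩ := hF.nonempty h5
  have hdY1 : dg Y ≠ 1 := by
    intro h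
    apply hF.hY
    apply hperf
    rw [hdg, h, Nat.cast_one]
  have hSsum : ∑ l ∈ S, a l * dg l ≤ 2 * p := by
    rw [← hsum]
    exact Finset.sum_le_univ_sum_of_nonneg (fun _ => Nat.zero_le _)
  rcases hF.hm with hm | hm
  · -- the case `m = 1` is impossible
    exfalso
    subst hm
    have hε : ε = 1 := by
      rcases hF.hε with h | h
      · exact h
      · exfalso
        have h1 := (hrel l₀ hl₀).2
        rw [h] at h1
        have := hdgpos Y
        have := hdgpos l₀
        omega
    subst hε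
    have hcong : (p : ℤ) ∣ (dg Y : ℤ) - (1 : ℤ) :=
      degree_congr P hp hP (Y : G → ℂ) (isCharacter_of_isIrrCharacter Y.2) 1
        (fun ω hω => by rw [hF.hYm ω hω]) (dg Y) (hdg Y)
    have hdYge : p + 1 ≤ dg Y := by
      have h1 : (p : ℤ) ∣ ((dg Y - 1 : ℕ) : ℤ) := by
        have := hdgpos Y
        rw [Nat.cast_sub (by omega)]
        exact_mod_cast hcong
      have h2 : p ∣ dg Y - 1 := Int.natCast_dvd_natCast.mp h1
      have h3 : 0 < dg Y - 1 := by
        have := hdgpos Y
        omega
      have := Nat.le_of_dvd h3 h2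
      omega
    have hterm : ∀ l ∈ S, p + 2 ≤ a l * dg l := by
      intro l hl
      obtain ⟨h1, h2⟩ := hrel l hl
      have h3 : (dg l : ℤ) = 1 + dg Y := by linarith
      have h4 : (a l : ℤ) = 1 + a Y := by linarith
      have h5 : p + 2 ≤ dg l := by omega
      have h6 : 1 ≤ a l := by omega
      calc p + 2 ≤ dg l := h5
        _ = 1 * dg l := (one_mul _).symm
        _ ≤ a l * dg l := Nat.mul_le_mul_right _ h6
    have h7 : S.card * (p + 2) ≤ ∑ l ∈ S, a l * dg l := by
      rw [← smul_eq_mul, ← Finset.sum_const]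
      exact Finset.sum_le_sum hterm
    have h8 : 2 * (p + 2) ≤ S.card * (p + 2) := Nat.mul_le_mul_right _ hScard
    omega
  · subst hm
    have hε : ε = -1 := by
      rcases hF.hε with h | h
      · exfalso
        have h1 := (hrel l₀ hl₀).2
        rw [h] at h1
        have := hdgpos Y
        have := hdgpos l₀
        omega
      · exact h
    subst hε
    have hdl : ∀ l ∈ S, (dg l : ℤ) = (dg Y : ℤ) - 1 := by
      intro l hl
      have h1 := (hrel l hl).2
      linarith
    have hal : ∀ l ∈ S, (a l : ℤ) = (a Y : ℤ) - 1 := by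
      intro l hl
      have h1 := (hrel l hl).1
      linarith
    have haY : 1 ≤ a Y := by
      have h1 := hal l₀ hl₀
      omega
    have hcong : (p : ℤ) ∣ (dg Y : ℤ) - (-1 : ℤ) :=
      degree_congr P hp hP (Y : G → ℂ) (isCharacter_of_isIrrCharacter Y.2) (-1)
        (fun ω hω => hF.hYm ω hω) (dg Y) (hdg Y)
    have hdvd : p ∣ dg Y + 1 := by
      have h1 : (p : ℤ) ∣ ((dg Y + 1 : ℕ) : ℤ) := by
        push_cast
        have : (dg Y : ℤ) - (-1 : ℤ) = (dg Y : ℤ) + 1 := by ring
        rw [← this]
        exact hcong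
      exact Int.natCast_dvd_natCast.mp h1
    have hdYge : p ≤ dg Y + 1 := Nat.le_of_dvd (Nat.succ_pos _) hdvd
    -- the pair {triv, Y}
    have hne : trivIrr G ≠ Y := fun h => hF.hY h.symm
    have hsplit := Finset.sum_add_sum_compl ({trivIrr G, Y} : Finset (IrrCharacter G))
      (fun ψ => a ψ * dg ψ)
    rw [Finset.sum_pair hne, hsum, hat, hdt] at hsplit
    have hSsub : S ⊆ ({trivIrr G, Y} : Finset (IrrCharacter G))ᶜ := by
      intro l hl
      rw [Finset.mem_compl, Finset.mem_insert, Finset.mem_singleton]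
      push Not
      exact ⟨(hF.hS l hl).1, (hF.hS l hl).2.1⟩
    have hSle : ∑ l ∈ S, a l * dg l
        ≤ ∑ ψ ∈ ({trivIrr G, Y} : Finset (IrrCharacter G))ᶜ, a ψ * dg ψ :=
      Finset.sum_le_sum_of_subset hSsub
    have haY1 : a Y = 1 := by
      by_contra hcon
      have h2 : 2 ≤ a Y := by omega
      have hterm : ∀ l ∈ S, p - 2 ≤ a l * dg l := by
        intro l hl
        have h3 := hdl l hl
        have h4 := hal l hl
        have h5 : p - 2 ≤ dg l := by omega
        have h6 : 1 ≤ a l := by omega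
        calc p - 2 ≤ dg l := h5
          _ = 1 * dg l := (one_mul _).symm
          _ ≤ a l * dg l := Nat.mul_le_mul_right _ h6
      have h7 : S.card * (p - 2) ≤ ∑ l ∈ S, a l * dg l := by
        rw [← smul_eq_mul, ← Finset.sum_const]
        exact Finset.sum_le_sum hterm
      have h8 : 2 * (p - 2) ≤ S.card * (p - 2) := Nat.mul_le_mul_right _ hScard
      have h9 : 2 * dg Y ≤ a Y * dg Y := Nat.mul_le_mul_right _ h2
      omega
    have hal0 : ∀ l ∈ S, a l = 0 := by
      intro l hl
      have := hal l hl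
      omega
    rw [haY1, one_mul, one_mul] at hsplit
    have hdY : dg Y + 1 = p := by
      obtain ⟨c, hc⟩ := hdvd
      have hc1 : 1 ≤ c := by
        rcases Nat.eq_zero_or_pos c with h | h
        · rw [h, mul_zero] at hc; omega
        · exact h
      have hc2 : c ≤ 2 := by
        by_contra hcon
        have h3 : 3 ≤ c := by omega
        have : p * 3 ≤ p * c := Nat.mul_le_mul_left _ h3
        omega
      have hcne : c ≠ 2 := by
        intro hc2'
        rw [hc2'] at hc
        -- then `π = 1 + Y` and the group is doubly transitive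
        apply hnot2
        have hrest : ∑ ψ ∈ ({trivIrr G, Y} : Finset (IrrCharacter G))ᶜ, a ψ * dg ψ = 0 := by
          omega
        have hzero : ∀ ψ : IrrCharacter G, ψ ≠ trivIrr G → ψ ≠ Y → a ψ = 0 := by
          intro ψ h1 h2
          have h3 := (Finset.sum_eq_zero_iff.mp hrest) ψ (by
            rw [Finset.mem_compl, Finset.mem_insert, Finset.mem_singleton]
            push Not
            exact ⟨h1, h2⟩)
          rcases Nat.mul_eq_zero.mp h3 with h | h
          · exact h
          · have := hdgpos ψ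
            omega
        have hYform : ∀ g : G, (Y : G → ℂ) g = (fx X g : ℂ) - 1 := by
          intro g
          have h1 := congrFun ha g
          rw [decomposition_apply,
            ← Finset.sum_add_sum_compl ({trivIrr G, Y} : Finset (IrrCharacter G)),
            Finset.sum_pair hne, hat, haY1] at h1
          rw [Finset.sum_eq_zero (s := ({trivIrr G, Y} : Finset (IrrCharacter G))ᶜ)] at h1
          · have h3 : ((trivIrr G : IrrCharacter G) : G → ℂ) g = 1 := rfl
            rw [h3] at h1
            have h4 : pc (G := G) X g = (fx X g : ℂ) := rfl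
            rw [h4] at h1
            rw [h1]
            push_cast
            ring
          · intro ψ hψ
            rw [Finset.mem_compl, Finset.mem_insert, Finset.mem_singleton] at hψ
            push Not at hψ
            rw [hzero ψ hψ.1 hψ.2]
            simp
        apply (isIrrCharacter_permChar_sub_one_iff X (by
          rw [Nat.card_eq_fintype_card, hX]; omega)).mp
        have : (fun g : G => (Nat.card (MulAction.fixedBy X g) : ℂ) - 1) = (Y : G → ℂ) := by
          funext g
          rw [hYform g, fx_eq_natCard]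
        rw [this]
        exact Y.2
      have : c = 1 := by omega
      rw [hc, this, mul_one]
    have hrest : ∑ ψ ∈ ({trivIrr G, Y} : Finset (IrrCharacter G))ᶜ, a ψ * dg ψ = p := by
      omega
    -- constituents outside `{1, Y}` have degree divisible by `p`
    have hbig : ∀ ψ : IrrCharacter G, ψ ≠ trivIrr G → ψ ≠ Y → a ψ ≠ 0 → p ≤ dg ψ := by
      intro ψ h1 h2 h3
      have hψS : ψ ∉ S := fun h => h3 (hal0 ψ h)
      have hz : ∀ ω : P →* ℂˣ, ω ≠ 1 → classInner (Xi P ω) (ψ : G → ℂ) = ((0 : ℤ) : ℂ) := by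
        intro ω hω
        rw [Int.cast_zero]
        apply hD.hrest ⟨ω, hω⟩ ψ h1 h2
        intro h
        apply hψS
        rw [hSdef, h]
        exact Finset.mem_image_of_mem _ (Finset.mem_univ _)
      have hcg := degree_congr P hp hP (ψ : G → ℂ) (isCharacter_of_isIrrCharacter ψ.2) 0 hz
        (dg ψ) (hdg ψ)
      rw [sub_zero] at hcg
      exact Nat.le_of_dvd (hdgpos ψ) (Int.natCast_dvd_natCast.mp hcg)
    obtain ⟨θ, hθmem, hθne⟩ : ∃ θ ∈ ({trivIrr G, Y} : Finset (IrrCharacter G))ᶜ,
        a θ * dg θ ≠ 0 := by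
      by_contra hcon
      push Not at hcon
      rw [Finset.sum_eq_zero hcon] at hrest
      have := hp.pos
      omega
    rw [Finset.mem_compl, Finset.mem_insert, Finset.mem_singleton] at hθmem
    push Not at hθmem
    have haθ : a θ ≠ 0 := fun h => hθne (by rw [h, zero_mul])
    have hdθ : p ≤ dg θ := hbig θ hθmem.1 hθmem.2 haθ
    have hθmem' : θ ∈ ({trivIrr G, Y} : Finset (IrrCharacter G))ᶜ := by
      rw [Finset.mem_compl, Finset.mem_insert, Finset.mem_singleton]
      push Not
      exact hθmem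
    have hsplit2 := Finset.add_sum_erase _ (fun ψ => a ψ * dg ψ) hθmem'
    rw [hrest] at hsplit2
    have haθ1 : 1 ≤ a θ := Nat.pos_of_ne_zero haθ
    have hle : dg θ ≤ a θ * dg θ := Nat.le_mul_of_pos_left _ haθ1
    have hdθp : dg θ = p := by omega
    have haθ' : a θ = 1 := by
      by_contra hcon
      have h2 : 2 ≤ a θ := by omega
      have : 2 * dg θ ≤ a θ * dg θ := Nat.mul_le_mul_right _ h2
      omega
    have hrest2 : ∑ ψ ∈ (({trivIrr G, Y} : Finset (IrrCharacter G))ᶜ).erase θ, a ψ * dg ψ = 0 := by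
      rw [haθ', hdθp] at hsplit2
      omega
    have hzero : ∀ ψ : IrrCharacter G, ψ ≠ trivIrr G → ψ ≠ Y → ψ ≠ θ → a ψ = 0 := by
      intro ψ h1 h2 h3
      have h4 := (Finset.sum_eq_zero_iff.mp hrest2) ψ (by
        rw [Finset.mem_erase, Finset.mem_compl, Finset.mem_insert, Finset.mem_singleton]
        push Not
        exact ⟨h3, h1, h2⟩)
      rcases Nat.mul_eq_zero.mp h4 with h | h
      · exact h
      · have := hdgpos ψ
        omega
    refine ⟨rfl, rfl, ?_, θ, ?_, hθmem.1, hθmem.2, ?_⟩
    · rw [hdg Y]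
      have : ((dg Y : ℕ) : ℂ) = ((dg Y + 1 : ℕ) : ℂ) - 1 := by push_cast; ring
      rw [this, hdY]
    · rw [hdg θ, hdθp]
    · intro g
      have h1 := congrFun ha g
      rw [decomposition_apply,
        ← Finset.sum_add_sum_compl ({trivIrr G, Y} : Finset (IrrCharacter G)),
        Finset.sum_pair hne, hat, haY1, ← Finset.add_sum_erase _ _ hθmem', haθ'] at h1
      rw [Finset.sum_eq_zero
        (s := (({trivIrr G, Y} : Finset (IrrCharacter G))ᶜ).erase θ)] at h1
      · have h3 : ((trivIrr G : IrrCharacter G) : G → ℂ) g = 1 := rfl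
        rw [h3] at h1
        rw [h1]
        push_cast
        ring
      · intro ψ hψ
        rw [Finset.mem_erase, Finset.mem_compl, Finset.mem_insert, Finset.mem_singleton] at hψ
        push Not at hψ
        rw [hzero ψ hψ.2.1 hψ.2.2 hψ.1]
        simp

end main

end Cfsg.Agent.Lib.Helper7.PrE
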