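import Mathlib
import Cfsg.Prelude.Def_Characters
import Cfsg.Agent.Lib.Helper7.PrE1
import Cfsg.Agent.Lib.Helper7.PrE5
import Cfsg.Agent.Lib.Helper7.PrE10
import Cfsg.Agent.Lib.Helper7.BrP6
import Cfsg.Agent.Lib.Helper7.PrD12
import Cfsg.Agent.S0716
import Cfsg.Agent.S0719
import Cfsg.Agent.S0494

set_option autoImplicit false
set_option linter.style.haveILetI false
set_option linter.unusedSectionVars false

/-!
# Primitive groups of degree `2p`, not doubly transitive, with Sylow normalizer of order `2p`: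
assembly (helper7, for S4707)
-/

namespace Cfsg.Agent.Lib.Helper7.PrE

open Cfsg Cfsg.Agent.Lib.helper3.Irr Cfsg.Agent.Lib.helper3.CharBasic
open Cfsg.Agent.Lib.helper3.IndFun Cfsg.Agent.Lib.helper3.CycTI Cfsg.Agent.Lib.Helper7.BrP
open Cfsg.Agent.Lib.Helper7.BrD Cfsg.Agent.Lib.Helper7.PrD
open scoped ComplexConjugate
open Classical

/-- the arithmetic of Wielandt's parameter -/
theorem wielandt_arith {p a j : ℕ} (ha : 0 < a) (h1 : p = 2 * a ^ 2 + 2 * a + 1)
    (h2 : p - 1 = 2 ^ j) : a = 1 := by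
  have h3 : 2 * (a * (a + 1)) = 2 ^ j := by
    rw [← h2, h1]
    have : 2 * a ^ 2 + 2 * a + 1 - 1 = 2 * a ^ 2 + 2 * a := by omega
    rw [this]
    ring
  have hda : a ∣ 2 ^ j := by
    rw [← h3]
    exact Dvd.intro_left (2 * (a + 1)) (by ring)
  have hda1 : (a + 1) ∣ 2 ^ j := by
    rw [← h3]
    exact Dvd.intro_left (2 * a) (by ring)
  obtain ⟨x, -, hx⟩ := (Nat.dvd_prime_pow Nat.prime_two).mp hda
  obtain ⟨y, -, hy⟩ := (Nat.dvd_prime_pow Nat.prime_two).mp hda1
  rcases Nat.eq_zero_or_pos x with hx0 | hx0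
  · rw [hx, hx0, pow_zero]
  · exfalso
    rcases Nat.eq_zero_or_pos y with hy0 | hy0
    · rw [hy0, pow_zero] at hy
      omega
    · have e1 : 2 ∣ a := by rw [hx]; exact dvd_pow_self 2 (by omega)
      have e2 : 2 ∣ a + 1 := by rw [hy]; exact dvd_pow_self 2 (by omega)
      omega

section rank

variable {G : Type*} [Group G] [Fintype G]

/-- the norm of `1 + Y + θ` -/
theorem classInner_three {Y θ : IrrCharacter G} (hY : Y ≠ trivIrr G) (hθ : θ ≠ trivIrr G)
    (hθY : θ ≠ Y) :
    classInner (fun g : G => 1 + (Y : G → ℂ) g + (θ : G → ℂ) g)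
      (fun g : G => 1 + (Y : G → ℂ) g + (θ : G → ℂ) g) = 3 := by
  have h0 : (fun g : G => 1 + (Y : G → ℂ) g + (θ : G → ℂ) g)
      = ((trivIrr G : IrrCharacter G) : G → ℂ) + (Y : G → ℂ) + (θ : G → ℂ) := by
    funext g
    rfl
  have hne : ∀ {a b : IrrCharacter G}, a ≠ b → (a : G → ℂ) ≠ (b : G → ℂ) :=
    fun h h' => h (Subtype.ext h')
  rw [h0]
  simp only [classInner_add_left, classInner_add_right]
  rw [irr_classInner_self (trivIrr G).2, irr_classInner_self Y.2, irr_classInner_self θ.2,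
    irr_classInner_eq_zero (trivIrr G).2 Y.2 (hne hY.symm),
    irr_classInner_eq_zero (trivIrr G).2 θ.2 (hne hθ.symm),
    irr_classInner_eq_zero Y.2 (trivIrr G).2 (hne hY),
    irr_classInner_eq_zero Y.2 θ.2 (hne hθY.symm),
    irr_classInner_eq_zero θ.2 (trivIrr G).2 (hne hθ),
    irr_classInner_eq_zero θ.2 Y.2 (hne hθY)]
  norm_num

end rank

section perm

variable {α : Type*} [Fintype α] [DecidableEq α] {p : ℕ} [hpf : Fact p.Prime]

/-- **S4707.** A primitive, not doubly transitive permutation group of degree `2p` (`p > 3`) whose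
Sylow `p`-normalizer has order `2p` is `A₅` of degree `10`. -/
theorem perm_two_p (hp3 : 3 < p) (hα : Fintype.card α = 2 * p) (G : Subgroup (Equiv.Perm α))
    (hprim : MulAction.IsPreprimitive G α) (hnot2 : ¬ MulAction.IsMultiplyPretransitive G α 2)
    (P : Sylow p G) (hN : Nat.card (Subgroup.normalizer ((P : Subgroup G) : Set G)) = 2 * p) :
    p = 5 ∧ Nonempty (G ≃* alternatingGroup (Fin 5)) := by
  have hp := hpf.out
  have h5 : 5 ≤ p := by
    have h4 : p ≠ 4 := by
      intro h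
      rw [h] at hp
      norm_num at hp
    omega
  letI : Fintype G := Fintype.ofFinite G
  haveI : MulAction.IsPretransitive G α := hprim.toIsPretransitive
  have hP := card_sylow hp3 hα G hprim P hN
  haveI hsimple : IsSimpleGroup G := simple_of_two_p hp3 hα G hprim P hN
  have h2p := two_p_dvd_card (p := p) hα G hprim
  have hN' : Nat.card (Subgroup.normalizer ((P : Subgroup G) : Set G)) = p * 2 := by
    rw [hN, mul_comm]
  have hne : Nat.card G ≠ p := by
    intro h
    rw [h] at h2p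
    have := Nat.le_of_dvd hp.pos h2p
    omega
  have hC := self_centralizing_of_simple P hP 2 Nat.prime_two hN' hne
  have hnp : ¬ (Nat.card G).Prime := by
    intro h
    have h2 : 2 ∣ Nat.card G := (Dvd.intro _ rfl).trans h2p
    have h3 := (Nat.prime_dvd_prime_iff_eq Nat.prime_two h).mp h2
    rw [← h3] at h2p
    have := Nat.le_of_dvd (by norm_num) h2p
    omega
  have hperf : ∀ ψ : IrrCharacter G, (ψ : G → ℂ) 1 = 1 → ψ = trivIrr G :=
    fun ψ h1 => linear_eq_triv_of_simple hnp ψ h1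
  have hreg : ∀ x ∈ (P : Subgroup G), x ≠ 1 → fx α x = 0 := fun x hx hx1 =>
    fx_eq_zero_of α (no_fixed_point hp3 hα G hprim P hN hnot2 x hx hx1)
  obtain ⟨Y, m, ε, lam, hD⟩ := exists_dat (P : Subgroup G) hp hP hC hN' h5
  haveI := finite_dual (P : Subgroup G) hp hP
  letI : Fintype {ω : (P : Subgroup G) →* ℂˣ // ω ≠ 1} := Fintype.ofFinite _
  obtain ⟨hm, hε, hY1, θ, hθ1, hθt, hθY, hπ⟩ :=
    perm_data α hD hp h5 hP hC hN' hα hreg hperf hnot2
  subst hm
  subst hε
  obtain ⟨j, hj, hcard⟩ := hD.order_eq hp hP hC hN' h5 hY1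
  -- the rank is three
  haveI : Nonempty α := by
    rw [← Fintype.card_pos_iff, hα]; omega
  obtain ⟨a₀⟩ := ‹Nonempty α›
  have hπ' : (fun g : G => (Nat.card (MulAction.fixedBy α g) : ℂ))
      = fun g => 1 + (Y : G → ℂ) g + (θ : G → ℂ) g := by
    rw [← pc_eq]
    funext g
    exact hπ g
  have hrank : Nat.card (MulAction.orbitRel.Quotient (MulAction.stabilizer G a₀) α) = 3 := by
    have h1 := Cfsg.Agent.S0716.rank_eq (G := G) a₀
    rw [hπ', classInner_three hD.hY hθt hθY] at h1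
    exact_mod_cast h1.symm
  obtain ⟨a, ha, hpa, -⟩ :=
    Cfsg.Agent.S0719.result hprim hα a₀ hrank (Y : G → ℂ) (θ : G → ℂ) Y.2 θ.2 hπ' hY1 hθ1
  have ha1 := wielandt_arith ha hpa hj
  have hp5 : p = 5 := by rw [hpa, ha1]; norm_num
  refine ⟨hp5, ?_⟩
  have h60 : Nat.card G = 60 := by rw [hcard, hp5]
  exact Cfsg.Agent.S0494.result h60

end perm

end Cfsg.Agent.Lib.Helper7.PrE
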