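import Mathlib

/-!
# Conjugates of an element by the powers of another one (helper7)

`cj u h n = h ^ n * u * (h ^ n)⁻¹`.  If `cj u h k = u * cj u h l` and `u` commutes with `cj u h l`, then `u`
commutes with `cj u h (i * k + j * l)` for all integers `i`, `j` (a trick of Baumslag, Campbell, Robertson
and Williams, used by Guralnick, Kantor, Kassabov and Lubotzky for short presentations).
-/

set_option autoImplicit false

namespace Cfsg.Agent.Lib.Helper7.Pres2

variable {G : Type*} [Group G]

/-- conjugate of `u` by `h ^ n` -/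
def cj (u h : G) (n : ℤ) : G := h ^ n * u * (h ^ n)⁻¹

theorem cj_zero (u h : G) : cj u h 0 = u := by simp [cj]

theorem conj_cj (u h : G) (m n : ℤ) : h ^ m * cj u h n * (h ^ m)⁻¹ = cj u h (m + n) := by
  simp only [cj, zpow_add, mul_inv_rev, mul_assoc]

theorem cj_one' (h : G) (n : ℤ) : cj 1 h n = 1 := by simp [cj]

theorem cj_mul (u v h : G) (n : ℤ) : cj (u * v) h n = cj u h n * cj v h n := by
  simp only [cj, mul_assoc, inv_mul_cancel_left]

theorem cj_inv (u h : G) (n : ℤ) : cj u⁻¹ h n = (cj u h n)⁻¹ := by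
  simp only [cj, mul_inv_rev, inv_inv, mul_assoc]

theorem cj_pow (u h : G) (n : ℤ) (k : ℕ) : cj (u ^ k) h n = (cj u h n) ^ k := by
  induction k with
  | zero => simp [cj]
  | succ k ih => rw [pow_succ, pow_succ, cj_mul, ih]

theorem cj_cj (u h : G) (m n : ℤ) : cj (cj u h n) h m = cj u h (m + n) := conj_cj u h m n

theorem commute_cj_shift (u h : G) (m a b : ℤ) (hc : Commute (cj u h a) (cj u h b)) :
    Commute (cj u h (m + a)) (cj u h (m + b)) := by
  rw [← conj_cj u h m a, ← conj_cj u h m b]
  unfold Commute SemiconjBy at hc ⊢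
  calc h ^ m * cj u h a * (h ^ m)⁻¹ * (h ^ m * cj u h b * (h ^ m)⁻¹)
      = h ^ m * (cj u h a * cj u h b) * (h ^ m)⁻¹ := by
        simp only [mul_assoc, inv_mul_cancel_left]
    _ = h ^ m * (cj u h b * cj u h a) * (h ^ m)⁻¹ := by rw [hc]
    _ = _ := by simp only [mul_assoc, inv_mul_cancel_left]

section lemmaA

variable (u h : G) (k l : ℤ) (hrel : cj u h k = u * cj u h l) (hcomm : Commute u (cj u h l))

include hrel in
theorem rel_shift (n : ℤ) : cj u h (n + k) = cj u h n * cj u h (n + l) := by
  rw [← conj_cj u h n k, hrel, ← conj_cj u h n l]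
  have h0 : cj u h n = h ^ n * u * (h ^ n)⁻¹ := rfl
  rw [h0]
  simp only [mul_assoc, inv_mul_cancel_left]

theorem comm_neg (n : ℤ) (hn : Commute u (cj u h n)) : Commute u (cj u h (-n)) := by
  have h1 : Commute (cj u h 0) (cj u h n) := by rw [cj_zero]; exact hn
  have h2 := commute_cj_shift u h (-n) 0 n h1
  rw [add_zero, neg_add_cancel, cj_zero] at h2
  exact h2.symm

include hrel in
theorem up3 (n : ℤ) (h1 : Commute u (cj u h n)) (h2 : Commute u (cj u h (n + l))) :
    Commute u (cj u h (n + k)) := by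
  rw [rel_shift u h k l hrel n]
  exact h1.mul_right h2

include hrel in
theorem up2 (n : ℤ) (h1 : Commute u (cj u h n)) (h3 : Commute u (cj u h (n + k))) :
    Commute u (cj u h (n + l)) := by
  have e : cj u h (n + l) = (cj u h n)⁻¹ * cj u h (n + k) := by
    rw [rel_shift u h k l hrel n, inv_mul_cancel_left]
  rw [e]
  exact h1.inv_right.mul_right h3

include hrel in
theorem up1 (n : ℤ) (h2 : Commute u (cj u h (n + l))) (h3 : Commute u (cj u h (n + k))) :
    Commute u (cj u h n) := by
  have e : cj u h n = cj u h (n + k) * (cj u h (n + l))⁻¹ := by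
    rw [rel_shift u h k l hrel n, mul_inv_cancel_right]
  rw [e]
  exact h3.mul_right h2.inv_right

include hrel in
theorem down3 (n : ℤ) (h1 : Commute u (cj u h n)) (h2 : Commute u (cj u h (n - l))) :
    Commute u (cj u h (n - k)) := by
  have := up3 u h k l hrel (-n) (comm_neg u h n h1)
    (by have := comm_neg u h _ h2; rwa [neg_sub, sub_eq_neg_add] at this)
  have h4 := comm_neg u h _ this
  rwa [neg_add, neg_neg, ← sub_eq_add_neg] at h4

include hrel in
theorem down2 (n : ℤ) (h1 : Commute u (cj u h n)) (h3 : Commute u (cj u h (n - k))) :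
    Commute u (cj u h (n - l)) := by
  have := up2 u h k l hrel (-n) (comm_neg u h n h1)
    (by have := comm_neg u h _ h3; rwa [neg_sub, sub_eq_neg_add] at this)
  have h4 := comm_neg u h _ this
  rwa [neg_add, neg_neg, ← sub_eq_add_neg] at h4

include hrel in
theorem down1 (n : ℤ) (h2 : Commute u (cj u h (n - l))) (h3 : Commute u (cj u h (n - k))) :
    Commute u (cj u h n) := by
  have := up1 u h k l hrel (-n)
    (by have := comm_neg u h _ h2; rwa [neg_sub, sub_eq_neg_add] at this)
    (by have := comm_neg u h _ h3; rwa [neg_sub, sub_eq_neg_add] at this)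
  have h4 := comm_neg u h _ this
  rwa [neg_neg] at h4

include hrel hcomm in
theorem rows01 (i : ℤ) : Commute u (cj u h (i * k + 0 * l)) ∧ Commute u (cj u h (i * k + 1 * l)) := by
  induction i using Int.induction_on with
  | zero =>
    constructor
    · simp only [zero_mul, add_zero, cj_zero]
      exact Commute.refl u
    · simp only [zero_mul, zero_add, one_mul]
      exact hcomm
  | succ i ih =>
    obtain ⟨h0, h1⟩ := ih
    have a0 : Commute u (cj u h (((i : ℤ) + 1) * k + 0 * l)) := by
      have := up3 u h k l hrel ((i : ℤ) * k + 0 * l) h0 (by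
        have e : (i : ℤ) * k + 0 * l + l = (i : ℤ) * k + 1 * l := by ring
        rw [e]; exact h1)
      have e : (i : ℤ) * k + 0 * l + k = ((i : ℤ) + 1) * k + 0 * l := by ring
      rwa [e] at this
    refine ⟨a0, ?_⟩
    have := down1 u h k l hrel (((i : ℤ) + 1) * k + 1 * l)
      (by
        have e : ((i : ℤ) + 1) * k + 1 * l - l = ((i : ℤ) + 1) * k + 0 * l := by ring
        rw [e]; exact a0)
      (by
        have e : ((i : ℤ) + 1) * k + 1 * l - k = (i : ℤ) * k + 1 * l := by ring
        rw [e]; exact h1)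
    exact this
  | pred i ih =>
    obtain ⟨h0, h1⟩ := ih
    have a1 : Commute u (cj u h ((-(i : ℤ) - 1) * k + 1 * l)) := by
      have := down3 u h k l hrel (-(i : ℤ) * k + 1 * l) h1 (by
        have e : -(i : ℤ) * k + 1 * l - l = -(i : ℤ) * k + 0 * l := by ring
        rw [e]; exact h0)
      have e : -(i : ℤ) * k + 1 * l - k = (-(i : ℤ) - 1) * k + 1 * l := by ring
      rwa [e] at this
    refine ⟨?_, a1⟩
    have := up1 u h k l hrel ((-(i : ℤ) - 1) * k + 0 * l)
      (by
        have e : (-(i : ℤ) - 1) * k + 0 * l + l = (-(i : ℤ) - 1) * k + 1 * l := by ring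
        rw [e]; exact a1)
      (by
        have e : (-(i : ℤ) - 1) * k + 0 * l + k = -(i : ℤ) * k + 0 * l := by ring
        rw [e]; exact h0)
    exact this

include hrel hcomm in
theorem rows (j : ℤ) : ∀ i : ℤ, Commute u (cj u h (i * k + j * l)) ∧
    Commute u (cj u h (i * k + (j + 1) * l)) := by
  induction j using Int.induction_on with
  | zero =>
    intro i
    have := rows01 u h k l hrel hcomm i
    simpa using this
  | succ j ih =>
    intro i
    refine ⟨(ih i).2, ?_⟩
    have := up2 u h k l hrel (i * k + ((j : ℤ) + 1) * l) (ih i).2 (by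
      have e : i * k + ((j : ℤ) + 1) * l + k = (i + 1) * k + ((j : ℤ) + 1) * l := by ring
      rw [e]; exact (ih (i + 1)).2)
    have e : i * k + ((j : ℤ) + 1) * l + l = i * k + ((j : ℤ) + 1 + 1) * l := by ring
    rwa [e] at this
  | pred j ih =>
    intro i
    have e0 : (-(j : ℤ) - 1 + 1) = -(j : ℤ) := by ring
    rw [e0]
    refine ⟨?_, (ih i).1⟩
    have := down2 u h k l hrel (i * k + (-(j : ℤ)) * l) (ih i).1 (by
      have e : i * k + (-(j : ℤ)) * l - k = (i - 1) * k + (-(j : ℤ)) * l := by ring
      rw [e]; exact (ih (i - 1)).1)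
    have e : i * k + (-(j : ℤ)) * l - l = i * k + (-(j : ℤ) - 1) * l := by ring
    rwa [e] at this

include hrel hcomm in
/-- **Lemma A.** -/
theorem commute_lattice (i j : ℤ) : Commute u (cj u h (i * k + j * l)) :=
  (rows u h k l hrel hcomm j i).1

include hrel hcomm in
theorem commute_gcd (m n : ℤ) :
    Commute (cj u h ((Int.gcd k l : ℤ) * m)) (cj u h ((Int.gcd k l : ℤ) * n)) := by
  have hb : (Int.gcd k l : ℤ) = k * Int.gcdA k l + l * Int.gcdB k l := Int.gcd_eq_gcd_ab k l
  have h1 : Commute (cj u h 0) (cj u h ((Int.gcd k l : ℤ) * (n - m))) := by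
    rw [cj_zero]
    have := commute_lattice u h k l hrel hcomm (Int.gcdA k l * (n - m)) (Int.gcdB k l * (n - m))
    have e : Int.gcdA k l * (n - m) * k + Int.gcdB k l * (n - m) * l =
        (Int.gcd k l : ℤ) * (n - m) := by
      rw [hb]; ring
    rwa [e] at this
  have h2 := commute_cj_shift u h ((Int.gcd k l : ℤ) * m) _ _ h1
  have e : (Int.gcd k l : ℤ) * m + (Int.gcd k l : ℤ) * (n - m) = (Int.gcd k l : ℤ) * n := by ring
  rwa [add_zero, e] at h2

end lemmaA

end Cfsg.Agent.Lib.Helper7.Pres2
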