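import Mathlib
import Cfsg.Agent.Lib.Helper7.Pres2A

/-!
# The module structure on the group generated by the conjugates `h ^ (d j) u h ^ (- d j)` (helper7)

If the conjugates `cj u h (d m)` (`m : ℤ`) commute pairwise, the abelian group they generate is a module over
`ℤ[X]`, `X` acting as conjugation by `h ^ d`.  `pw u h d f` is the element `f • u`, written as a word.
-/

set_option autoImplicit false

namespace Cfsg.Agent.Lib.Helper7.Pres2

open Polynomial

variable {G : Type*} [Group G]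

/-- the polynomial word `∏ⱼ (h ^ (d j) u h ^ (- d j)) ^ (fⱼ)` -/
noncomputable def pw (u h : G) (d : ℤ) (f : ℤ[X]) : G :=
  ((List.range (f.natDegree + 1)).map (fun j : ℕ => (cj u h (d * j)) ^ (f.coeff j))).prod

theorem map_cj {G' : Type*} [Group G'] (φ : G →* G') (u h : G) (n : ℤ) :
    φ (cj u h n) = cj (φ u) (φ h) n := by
  simp only [cj, map_mul, map_inv, map_zpow]

theorem map_pw {G' : Type*} [Group G'] (φ : G →* G') (u h : G) (d : ℤ) (f : ℤ[X]) :
    φ (pw u h d f) = pw (φ u) (φ h) d f := by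
  unfold pw
  rw [map_list_prod, List.map_map]
  congr 1
  apply List.map_congr_left
  intro j _
  simp only [Function.comp_apply, map_zpow, map_cj]

/-- existence of the module structure -/
theorem exists_psi (u h : G) (d : ℤ)
    (hcom : ∀ m n : ℤ, Commute (cj u h (d * m)) (cj u h (d * n))) :
    ∃ Ψ : ℤ[X] → G, Ψ 1 = u ∧ (∀ f g, Ψ (f + g) = Ψ f * Ψ g) ∧
      (∀ f, Ψ (X * f) = h ^ d * Ψ f * (h ^ d)⁻¹) := by
  classical
  let k : Set G := Set.range (fun m : ℤ => cj u h (d * m))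
  have hcomm : ∀ x ∈ k, ∀ y ∈ k, x * y = y * x := by
    rintro _ ⟨m, rfl⟩ _ ⟨n, rfl⟩
    exact hcom m n
  letI : CommGroup (Subgroup.closure k) := Subgroup.closureCommGroupOfComm hcomm
  have hconj : ∀ g ∈ Subgroup.closure k, h ^ d * g * (h ^ d)⁻¹ ∈ Subgroup.closure k := by
    intro g hg
    induction hg using Subgroup.closure_induction with
    | mem x hx =>
      obtain ⟨m, rfl⟩ := hx
      apply Subgroup.subset_closure
      refine ⟨m + 1, ?_⟩
      show cj u h (d * (m + 1)) = h ^ d * cj u h (d * m) * (h ^ d)⁻¹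
      rw [conj_cj]; congr 1; ring
    | one => simp
    | mul x y _ _ hx hy =>
      have : h ^ d * (x * y) * (h ^ d)⁻¹ = (h ^ d * x * (h ^ d)⁻¹) * (h ^ d * y * (h ^ d)⁻¹) := by
        group
      rw [this]; exact mul_mem hx hy
    | inv x _ hx =>
      have : h ^ d * x⁻¹ * (h ^ d)⁻¹ = (h ^ d * x * (h ^ d)⁻¹)⁻¹ := by group
      rw [this]; exact inv_mem hx
  let σ₀ : Subgroup.closure k →* Subgroup.closure k :=
    { toFun := fun g => ⟨h ^ d * g.1 * (h ^ d)⁻¹, hconj g.1 g.2⟩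
      map_one' := by ext; simp
      map_mul' := fun a b => by ext; simp [mul_assoc] }
  let σ : Module.End ℤ (Additive (Subgroup.closure k)) := (MonoidHom.toAdditive σ₀).toIntLinearMap
  have hu : u ∈ Subgroup.closure k := Subgroup.subset_closure ⟨0, by simp [cj_zero]⟩
  let u₀ : Additive (Subgroup.closure k) := Additive.ofMul ⟨u, hu⟩
  refine ⟨fun f => ((Additive.toMul ((aeval σ f) u₀)) : Subgroup.closure k).1, ?_, ?_, ?_⟩
  · simp [u₀]
  · intro f g
    simp [map_add]
  · intro f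
    simp only [map_mul, aeval_X, Module.End.mul_apply]
    rfl

section psi

variable (u h : G) (d : ℤ) (Ψ : ℤ[X] → G) (h1 : Ψ 1 = u)
  (hadd : ∀ f g, Ψ (f + g) = Ψ f * Ψ g)
  (hX : ∀ f, Ψ (X * f) = h ^ d * Ψ f * (h ^ d)⁻¹)

include hadd in
theorem psi_zero : Ψ 0 = 1 := by
  have := hadd 0 0
  rw [add_zero] at this
  exact mul_eq_left.1 this.symm

include hadd in
theorem psi_neg (f : ℤ[X]) : Ψ (-f) = (Ψ f)⁻¹ := by
  rw [eq_inv_iff_mul_eq_one, ← hadd, neg_add_cancel, psi_zero Ψ hadd]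

include hadd in
theorem psi_comm (f g : ℤ[X]) : Commute (Ψ f) (Ψ g) := by
  show Ψ f * Ψ g = Ψ g * Ψ f
  rw [← hadd, ← hadd, add_comm]

include hadd in
theorem psi_nsmul (n : ℕ) (f : ℤ[X]) : Ψ (n • f) = Ψ f ^ n := by
  induction n with
  | zero => simp [psi_zero Ψ hadd]
  | succ n ih => rw [succ_nsmul, hadd, ih, pow_succ]

include hadd in
theorem psi_zsmul (n : ℤ) (f : ℤ[X]) : Ψ (n • f) = Ψ f ^ n := by
  obtain ⟨m, rfl | rfl⟩ := n.eq_nat_or_neg
  · rw [natCast_zsmul, zpow_natCast, psi_nsmul Ψ hadd]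
  · rw [neg_smul, psi_neg Ψ hadd, natCast_zsmul, psi_nsmul Ψ hadd, zpow_neg, zpow_natCast]

include hadd in
theorem psi_C_mul (n : ℤ) (f : ℤ[X]) : Ψ (C n * f) = Ψ f ^ n := by
  rw [← psi_zsmul Ψ hadd, zsmul_eq_mul, eq_intCast C n]

include hX in
theorem psi_X_pow_mul (j : ℕ) (f : ℤ[X]) :
    Ψ (X ^ j * f) = h ^ (d * j) * Ψ f * (h ^ (d * j))⁻¹ := by
  induction j with
  | zero => simp
  | succ j ih =>
    rw [pow_succ', mul_assoc, hX, ih]
    have : d * ((j + 1 : ℕ) : ℤ) = d + d * j := by push_cast; ring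
    rw [this, zpow_add]
    group

include h1 hadd hX in
theorem psi_monomial (j : ℕ) (c : ℤ) : Ψ (C c * X ^ j) = (cj u h (d * j)) ^ c := by
  rw [psi_C_mul Ψ hadd]
  have := psi_X_pow_mul h d Ψ hX j 1
  rw [mul_one, h1] at this
  rw [this]
  rfl

include hadd in
theorem psi_sum_range (g : ℕ → ℤ[X]) (n : ℕ) :
    Ψ (∑ i ∈ Finset.range n, g i) = ((List.range n).map (fun i => Ψ (g i))).prod := by
  induction n with
  | zero => simp [psi_zero Ψ hadd]
  | succ n ih =>
    rw [Finset.sum_range_succ, hadd, ih, List.range_succ, List.map_append, List.prod_append]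
    simp

include h1 hadd hX in
theorem psi_eq_pw (f : ℤ[X]) : Ψ f = pw u h d f := by
  conv_lhs => rw [f.as_sum_range_C_mul_X_pow]
  rw [psi_sum_range Ψ hadd]
  unfold pw
  congr 1
  apply List.map_congr_left
  intro j _
  exact psi_monomial u h d Ψ h1 hadd hX j _

include hadd hX in
theorem psi_mul_eq_one (f g : ℤ[X]) (hf : Ψ f = 1) : Ψ (g * f) = 1 := by
  induction g using Polynomial.induction_on' with
  | add g1 g2 h1 h2 => rw [add_mul, hadd, h1, h2, mul_one]
  | monomial n a =>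
    rw [← C_mul_X_pow_eq_monomial, mul_assoc, psi_C_mul Ψ hadd, psi_X_pow_mul h d Ψ hX, hf]
    simp

include h1 hadd hX in
/-- conjugation by `h` is multiplication by `gt` if `h u h⁻¹ = gt • u` -/
theorem psi_conj_h (gt : ℤ[X]) (hgt : h * u * h⁻¹ = Ψ gt) (f : ℤ[X]) :
    h * Ψ f * h⁻¹ = Ψ (gt * f) := by
  induction f using Polynomial.induction_on' with
  | add f1 f2 h1 h2 =>
    rw [mul_add, hadd, hadd, ← h1, ← h2]
    group
  | monomial n a =>
    rw [← C_mul_X_pow_eq_monomial]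
    have e1 : gt * (C a * X ^ n) = C a * (X ^ n * gt) := by ring
    have e3 : Ψ (C a * (X ^ n * gt)) = (h ^ (d * n) * (h * u * h⁻¹) * (h ^ (d * n))⁻¹) ^ a := by
      rw [psi_C_mul Ψ hadd, psi_X_pow_mul h d Ψ hX, ← hgt]
    rw [e1, e3, psi_monomial u h d Ψ h1 hadd hX]
    have e2 : h * cj u h (d * n) ^ a * h⁻¹ = (h * cj u h (d * n) * h⁻¹) ^ a := by
      have := map_zpow (MulAut.conj h) (cj u h (d * n)) a
      simp only [MulAut.conj_apply] at this
      exact this
    rw [e2]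
    congr 1
    unfold cj
    have hc : h * h ^ (d * n) = h ^ (d * n) * h := by
      rw [← zpow_one_add, ← zpow_add_one, add_comm]
    calc h * (h ^ (d * n) * u * (h ^ (d * n))⁻¹) * h⁻¹
        = (h * h ^ (d * n)) * u * (h * h ^ (d * n))⁻¹ := by group
      _ = h ^ (d * n) * (h * u * h⁻¹) * (h ^ (d * n))⁻¹ := by rw [hc]; group

end psi

end Cfsg.Agent.Lib.Helper7.Pres2
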