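import Mathlib

/-!
# Generic lemmas for identifying a finite subgroup with an explicit list (helper7)

* `closure_subset_of_leftClosed`: a finite set containing `1` and stable under left multiplication by
  the generators contains the closure.
* `closure_list`: the closure of finitely many generators, computed through an injective "raw" map to a
  type with a decidable multiplication, is the given list.
* `sylow_equiv_of_pgroup`: a `p`-subgroup of index prime to `p` is isomorphic to every Sylow `p`-subgroup.
-/

set_option autoImplicit false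

namespace Cfsg.Agent.Lib.Helper7.Syl8

theorem closure_subset_of_leftClosed {G : Type*} [Group G] (gens : Set G) (S : Set G)
    (hfin : S.Finite) (h1 : (1 : G) ∈ S) (hS : ∀ g ∈ gens, ∀ x ∈ S, g * x ∈ S) :
    (Subgroup.closure gens : Set G) ⊆ S := by
  have hinv : ∀ g ∈ gens, ∀ x ∈ S, g⁻¹ * x ∈ S := by
    intro g hg x hx
    have hmaps : Set.MapsTo (fun y => g * y) S S := fun y hy => hS g hg y hy
    have hinj : Set.InjOn (fun y => g * y) S := fun y _ y' _ h => mul_left_cancel h
    have hbij : Set.BijOn (fun y => g * y) S S :=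
      (hfin.injOn_iff_bijOn_of_mapsTo hmaps).1 hinj
    obtain ⟨y, hy, hyx⟩ := hbij.surjOn hx
    have : g⁻¹ * x = y := by
      rw [← hyx]
      simp
    rw [this]
    exact hy
  intro x hx
  induction hx using Subgroup.closure_induction_left with
  | one => exact h1
  | mul_left g hg y _ ih => exact hS g hg y ih
  | inv_mul_cancel g hg y _ ih => exact hinv g hg y ih

theorem forall_mem_of_forall_lt {R : Type*} (L : List R) (d : R) (n : ℕ) (hn : L.length = n)
    (p : R → Prop) (h : ∀ i < n, p (L.getD i d)) : ∀ x ∈ L, p x := by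
  intro x hx
  obtain ⟨i, hi, rfl⟩ := List.getElem_of_mem hx
  have := h i (hn ▸ hi)
  rwa [List.getD_eq_getElem _ _ hi] at this

theorem getD_mem_of_mem {R : Type*} (L : List R) (d : R) (hd : d ∈ L) (i : ℕ) : L.getD i d ∈ L := by
  by_cases hi : i < L.length
  · rw [List.getD_eq_getElem _ _ hi]
    exact List.getElem_mem hi
  · rw [List.getD_eq_default _ _ (by omega)]
    exact hd

section

variable {G R : Type*} [Group G] {n : ℕ} (raw : G → R) (hraw : Function.Injective raw)
  (rmul : R → R → R) (hmul : ∀ g x, raw (g * x) = rmul (raw g) (raw x))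
  (gen : Fin n → G) (ev : List (Fin n) → R)
  (hev0 : ev [] = raw 1) (hev1 : ∀ k w, ev (k :: w) = rmul (raw (gen k)) (ev w))

include hmul hev0 hev1 in
theorem ev_eq_raw_prod (w : List (Fin n)) : ev w = raw (w.map gen).prod := by
  induction w with
  | nil => simpa using hev0
  | cons k w ih => rw [hev1, ih, List.map_cons, List.prod_cons, hmul]

include hraw hmul hev0 hev1 in
theorem closure_list (W : List (List (Fin n))) (L : List R) (hWL : W.map ev = L)
    (h1 : raw 1 ∈ L) (hclosed : ∀ k, ∀ x ∈ L, rmul (raw (gen k)) x ∈ L) (g : G) :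
    g ∈ Subgroup.closure (Set.range gen) ↔ raw g ∈ L := by
  constructor
  · intro hg
    have hsub := closure_subset_of_leftClosed (Set.range gen) {x : G | raw x ∈ L}
      (by
        have : {x : G | raw x ∈ L} = raw ⁻¹' {y | y ∈ L} := rfl
        rw [this]
        exact Set.Finite.preimage hraw.injOn (List.finite_toSet L))
      h1
      (by
        rintro _ ⟨k, rfl⟩ x hx
        show raw (gen k * x) ∈ L
        rw [hmul]
        exact hclosed k _ hx)
    exact hsub hg
  · intro hg
    rw [← hWL, List.mem_map] at hg
    obtain ⟨w, _, hw⟩ := hg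
    rw [ev_eq_raw_prod raw rmul hmul gen ev hev0 hev1] at hw
    rw [← hraw hw]
    apply Subgroup.list_prod_mem
    intro x hx
    rw [List.mem_map] at hx
    obtain ⟨k, _, rfl⟩ := hx
    exact Subgroup.subset_closure ⟨k, rfl⟩

include hraw hmul hev0 hev1 in
theorem card_closure_list (W : List (List (Fin n))) (L : List R) (hWL : W.map ev = L)
    (hnd : L.Nodup)
    (h1 : raw 1 ∈ L) (hclosed : ∀ k, ∀ x ∈ L, rmul (raw (gen k)) x ∈ L) :
    Nat.card (Subgroup.closure (Set.range gen)) = L.length := by
  classical
  have hmem := closure_list raw hraw rmul hmul gen ev hev0 hev1 W L hWL h1 hclosed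
  have himg : raw '' (Subgroup.closure (Set.range gen) : Set G) = (↑L.toFinset : Set R) := by
    ext y
    simp only [Set.mem_image, SetLike.mem_coe, List.mem_toFinset]
    constructor
    · rintro ⟨g, hg, rfl⟩
      exact (hmem g).1 hg
    · intro hy
      have hy' := hy
      rw [← hWL, List.mem_map] at hy'
      obtain ⟨w, _, hw⟩ := hy'
      rw [ev_eq_raw_prod raw rmul hmul gen ev hev0 hev1] at hw
      refine ⟨_, ?_, hw⟩
      rw [hmem, hw]
      exact hy
  have h2 : Nat.card (Subgroup.closure (Set.range gen)) =
      Nat.card (raw '' (Subgroup.closure (Set.range gen) : Set G)) :=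
    (Nat.card_image_of_injective hraw _).symm
  rw [h2, himg, Nat.card_coe_set_eq, Set.ncard_coe_finset, List.toFinset_card_of_nodup hnd]

end

/-- being the identity map, pointwise -/
def isId8 (p : Fin 8 → Fin 8) : Prop := ∀ i : Fin 8, p i = i

instance (p : Fin 8 → Fin 8) : Decidable (isId8 p) := by unfold isId8; infer_instance

theorem isId8_iff {p : Fin 8 → Fin 8} : isId8 p ↔ p = fun i => i :=
  ⟨fun h => funext h, fun h i => by rw [h]⟩

theorem sylow_equiv_of_pgroup {G : Type*} [Group G] [Finite G] {p : ℕ} [Fact p.Prime]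
    (H : Subgroup G) (hH : IsPGroup p H) (hidx : ¬ p ∣ H.index) (P : Sylow p G) :
    Nonempty (↥(P : Subgroup G) ≃* ↥H) := by
  have e1 : ↥(P : Subgroup G) ≃* ↥((hH.toSylow hidx : Sylow p G) : Subgroup G) :=
    Sylow.equiv P (hH.toSylow hidx)
  have e2 : ↥((hH.toSylow hidx : Sylow p G) : Subgroup G) ≃* ↥H :=
    MulEquiv.subgroupCongr (IsPGroup.toSylow_coe hH hidx)
  exact ⟨e1.trans e2⟩

end Cfsg.Agent.Lib.Helper7.Syl8
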