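import Mathlib
import Cfsg.Agent.Lib.Helper5.St.RankOneB
import Cfsg.Agent.Lib.Helper7.Syl8A

/-!
# A bound for the order of a group with rank one Steinberg data (helper7)

If `A : R1Data F Γ` over a finite field and `a ↦ A.h a` is multiplicative, then the subgroup generated by the
`A.x a` and `A.w 1` is contained in `U H ∪ U H n U`, hence has at most `q (q + 1) |H|` elements.
-/

set_option autoImplicit false

namespace Cfsg.Agent.Lib.Helper7.Pres2

open Cfsg.Agent.Lib.Helper5.St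

variable {F : Type*} [Field F] {Γ : Type*} [Group Γ] (A : R1Data F Γ)
  (hmul : ∀ a b : F, a ≠ 0 → b ≠ 0 → A.h a * A.h b = A.h (a * b))

theorem w_eq_h_mul (c : F) : A.w c = A.h c * A.w 1 := by
  unfold R1Data.h
  rw [mul_assoc, ← A.w_inv 1, inv_mul_cancel, mul_one]

theorem h_mul_x (c : F) (hc : c ≠ 0) (a : F) : A.h c * A.x a = A.x (c ^ 2 * a) * A.h c := by
  rw [← A.h_conj_x c hc a]
  simp only [mul_assoc, inv_mul_cancel, mul_one]

theorem x_mul_h (c : F) (hc : c ≠ 0) (a : F) : A.x a * A.h c = A.h c * A.x ((c ^ 2)⁻¹ * a) := by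
  rw [h_mul_x A c hc, ← mul_assoc, mul_inv_cancel₀ (pow_ne_zero 2 hc), one_mul]

theorem n_conj_h (c : F) (hc : c ≠ 0) : A.w 1 * A.h c * (A.w 1)⁻¹ = A.h c⁻¹ := by
  have h1 : A.w 1 * A.h c * (A.w 1)⁻¹ =
      (A.w 1 * A.w c * (A.w 1)⁻¹) * (A.w 1 * A.w (-1) * (A.w 1)⁻¹) := by
    unfold R1Data.h
    simp only [mul_assoc, inv_mul_cancel_left]
  rw [h1, A.w_conj_w 1 c one_ne_zero hc,
    A.w_conj_w 1 (-1) one_ne_zero (neg_ne_zero.2 one_ne_zero)]
  unfold R1Data.h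
  congr 2
  · ring
  · norm_num

theorem n_mul_h (c : F) (hc : c ≠ 0) : A.w 1 * A.h c = A.h c⁻¹ * A.w 1 := by
  rw [← n_conj_h A c hc]
  simp only [mul_assoc, inv_mul_cancel, mul_one]

include hmul in
theorem h_neg_one_sq : A.h (-1) * A.h (-1) = 1 := by
  rw [hmul (-1) (-1) (neg_ne_zero.2 one_ne_zero) (neg_ne_zero.2 one_ne_zero)]
  have : (-1 : F) * -1 = 1 := by ring
  rw [this, A.h_one]

include hmul in
theorem n_sq : A.w 1 * A.w 1 = A.h (-1) := by
  rw [A.w_mul_w, A.h_one, one_mul]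
  exact inv_eq_of_mul_eq_one_left (h_neg_one_sq A hmul)

/-- the Bruhat set -/
def bruhat : Set Γ :=
  {g | ∃ a c : F, c ≠ 0 ∧ g = A.x a * A.h c} ∪
    {g | ∃ a c b : F, c ≠ 0 ∧ g = A.x a * A.h c * A.w 1 * A.x b}

theorem one_mem_bruhat : (1 : Γ) ∈ bruhat A := by
  left
  exact ⟨0, 1, one_ne_zero, by rw [A.x_zero, A.h_one, one_mul]⟩

theorem x_mul_mem_bruhat (s : F) (g : Γ) (hg : g ∈ bruhat A) : A.x s * g ∈ bruhat A := by
  rcases hg with ⟨a, c, hc, rfl⟩ | ⟨a, c, b, hc, rfl⟩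
  · left
    exact ⟨s + a, c, hc, by rw [← A.x_add, mul_assoc]⟩
  · right
    exact ⟨s + a, c, b, hc, by rw [← A.x_add]; simp only [mul_assoc]⟩

/-- `n * (x a * h c)` -/
theorem n_mul_first (a c : F) (hc : c ≠ 0) :
    A.w 1 * (A.x a * A.h c) = A.x 0 * A.h c⁻¹ * A.w 1 * A.x ((c ^ 2)⁻¹ * a) := by
  rw [x_mul_h A c hc, ← mul_assoc, n_mul_h A c hc, A.x_zero, one_mul]

include hmul in
theorem n_mul_mem_bruhat (g : Γ) (hg : g ∈ bruhat A) : A.w 1 * g ∈ bruhat A := by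
  rcases hg with ⟨a, c, hc, rfl⟩ | ⟨a, c, b, hc, rfl⟩
  · right
    exact ⟨0, c⁻¹, (c ^ 2)⁻¹ * a, inv_ne_zero hc, n_mul_first A a c hc⟩
  · by_cases ha : a = 0
    · subst ha
      left
      refine ⟨(-c⁻¹) ^ 2 * b, -c⁻¹, neg_ne_zero.2 (inv_ne_zero hc), ?_⟩
      have e1 : A.w 1 * (A.x 0 * A.h c * A.w 1 * A.x b) =
          A.h c⁻¹ * (A.w 1 * A.w 1) * A.x b := by
        rw [A.x_zero, one_mul, ← mul_assoc, ← mul_assoc, n_mul_h A c hc]
        simp only [mul_assoc]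
      rw [e1, n_sq A hmul, hmul c⁻¹ (-1) (inv_ne_zero hc) (neg_ne_zero.2 one_ne_zero),
        mul_neg_one, h_mul_x A _ (neg_ne_zero.2 (inv_ne_zero hc))]
    · -- the generic case
      right
      have hai : a⁻¹ ≠ 0 := inv_ne_zero ha
      have hci : c⁻¹ ≠ 0 := inv_ne_zero hc
      -- `n x(a) = y(-a) n`
      have e1 : A.w 1 * A.x a = A.y (-a) * A.w 1 := by
        have := A.w_mul_x 1 one_ne_zero a
        rw [this]
        congr 2
        norm_num
      -- `y(-a) = x(-a⁻¹) h(a⁻¹) n x(-a⁻¹)`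
      have e2 : A.y (-a) = A.x (-a⁻¹) * A.h a⁻¹ * A.w 1 * A.x (-a⁻¹) := by
        rw [A.y_eq (-a), inv_neg, neg_neg, w_eq_h_mul A a⁻¹]
        simp only [mul_assoc]
      -- `n h(c) n = h(-c⁻¹)`
      have e3 : A.w 1 * A.h c * A.w 1 = A.h (-c⁻¹) := by
        rw [n_mul_h A c hc, mul_assoc, n_sq A hmul,
          hmul c⁻¹ (-1) hci (neg_ne_zero.2 one_ne_zero), mul_neg_one]
      have hnc : -c⁻¹ ≠ 0 := neg_ne_zero.2 hci
      -- assemble
      have e4 : A.w 1 * (A.x a * A.h c * A.w 1 * A.x b) =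
          A.x (-a⁻¹) * A.h a⁻¹ * (A.w 1 * (A.x (-a⁻¹ + (-c⁻¹) ^ 2 * b) * A.h (-c⁻¹))) := by
        calc A.w 1 * (A.x a * A.h c * A.w 1 * A.x b)
            = (A.w 1 * A.x a) * A.h c * A.w 1 * A.x b := by simp only [mul_assoc]
          _ = A.y (-a) * (A.w 1 * A.h c * A.w 1) * A.x b := by
              rw [e1]; simp only [mul_assoc]
          _ = A.x (-a⁻¹) * A.h a⁻¹ * A.w 1 * A.x (-a⁻¹) * A.h (-c⁻¹) * A.x b := by
              rw [e2, e3]
          _ = A.x (-a⁻¹) * A.h a⁻¹ * A.w 1 * (A.x (-a⁻¹) * (A.h (-c⁻¹) * A.x b)) := by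
              simp only [mul_assoc]
          _ = _ := by
              rw [h_mul_x A _ hnc, ← mul_assoc (A.x (-a⁻¹)), A.x_add]
              simp only [mul_assoc]
      rw [e4, n_mul_first A _ _ hnc, A.x_zero, one_mul]
      have hnci : (-c⁻¹)⁻¹ ≠ 0 := inv_ne_zero hnc
      refine ⟨-a⁻¹, a⁻¹ * (-c⁻¹)⁻¹, ((-c⁻¹) ^ 2)⁻¹ * (-a⁻¹ + (-c⁻¹) ^ 2 * b),
        mul_ne_zero hai hnci, ?_⟩
      rw [← hmul a⁻¹ (-c⁻¹)⁻¹ hai hnci]
      simp only [mul_assoc]

include hmul in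
theorem closure_subset_bruhat [Finite F] :
    (Subgroup.closure (Set.range A.x ∪ {A.w 1}) : Set Γ) ⊆ bruhat A := by
  apply Cfsg.Agent.Lib.Helper7.Syl8.closure_subset_of_leftClosed _ _ ?_ (one_mem_bruhat A)
  · rintro g (⟨s, rfl⟩ | rfl) x hx
    · exact x_mul_mem_bruhat A s x hx
    · exact n_mul_mem_bruhat A hmul x hx
  · -- finiteness
    have h1 : {g : Γ | ∃ a c : F, c ≠ 0 ∧ g = A.x a * A.h c} ⊆
        Set.range (fun p : F × F => A.x p.1 * A.h p.2) := by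
      rintro g ⟨a, c, _, rfl⟩
      exact ⟨(a, c), rfl⟩
    have h2 : {g : Γ | ∃ a c b : F, c ≠ 0 ∧ g = A.x a * A.h c * A.w 1 * A.x b} ⊆
        Set.range (fun p : F × F × F => A.x p.1 * A.h p.2.1 * A.w 1 * A.x p.2.2) := by
      rintro g ⟨a, c, b, _, rfl⟩
      exact ⟨(a, c, b), rfl⟩
    exact ((Set.finite_range _).subset h1).union ((Set.finite_range _).subset h2)

end Cfsg.Agent.Lib.Helper7.Pres2

namespace Cfsg.Agent.Lib.Helper7.Pres2

open Cfsg.Agent.Lib.Helper5.St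

variable {F : Type*} [Field F] {Γ : Type*} [Group Γ] (A : R1Data F Γ)
  (hmul : ∀ a b : F, a ≠ 0 → b ≠ 0 → A.h a * A.h b = A.h (a * b))

include hmul in
theorem card_closure_le [Fintype F] (Hs : Set Γ) (hfin : Hs.Finite)
    (hHs : ∀ c : F, c ≠ 0 → A.h c ∈ Hs) :
    (Subgroup.closure (Set.range A.x ∪ {A.w 1}) : Set Γ).Finite ∧
    Nat.card (Subgroup.closure (Set.range A.x ∪ {A.w 1})) ≤
      Fintype.card F * (Fintype.card F + 1) * Hs.ncard := by
  classical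
  let f : F × Γ × Option F → Γ := fun p =>
    match p.2.2 with
    | none => A.x p.1 * p.2.1
    | some b => A.x p.1 * p.2.1 * A.w 1 * A.x b
  let T : Set (F × Γ × Option F) := (Set.univ : Set F) ×ˢ Hs ×ˢ (Set.univ : Set (Option F))
  have hTfin : T.Finite := Set.finite_univ.prod (hfin.prod Set.finite_univ)
  have hsub : (Subgroup.closure (Set.range A.x ∪ {A.w 1}) : Set Γ) ⊆ f '' T := by
    intro g hg
    rcases closure_subset_bruhat A hmul hg with ⟨a, c, hc, rfl⟩ | ⟨a, c, b, hc, rfl⟩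
    · exact ⟨(a, A.h c, none), ⟨Set.mem_univ _, hHs c hc, Set.mem_univ _⟩, rfl⟩
    · exact ⟨(a, A.h c, some b), ⟨Set.mem_univ _, hHs c hc, Set.mem_univ _⟩, rfl⟩
  have himgfin : (f '' T).Finite := hTfin.image f
  refine ⟨himgfin.subset hsub, ?_⟩
  have h1 : Nat.card (Subgroup.closure (Set.range A.x ∪ {A.w 1})) =
      (Subgroup.closure (Set.range A.x ∪ {A.w 1}) : Set Γ).ncard :=
    Nat.card_coe_set_eq _
  rw [h1]
  calc (Subgroup.closure (Set.range A.x ∪ {A.w 1}) : Set Γ).ncard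
      ≤ (f '' T).ncard := Set.ncard_le_ncard hsub himgfin
    _ ≤ T.ncard := Set.ncard_image_le hTfin
    _ = Fintype.card F * (Fintype.card F + 1) * Hs.ncard := by
      rw [Set.ncard_prod, Set.ncard_prod, Set.ncard_univ, Set.ncard_univ,
        Nat.card_eq_fintype_card, Nat.card_eq_fintype_card, Fintype.card_option]
      ring

end Cfsg.Agent.Lib.Helper7.Pres2
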