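import Mathlib
import Cfsg.Agent.Lib.Helper5.St.RankOneB
import Cfsg.Agent.Lib.Helper7.Pres2C

/-!
# From the short list of relations to rank one Steinberg data (helper7)

`x : F → Γ` additive, `h x(a) h⁻¹ = x(ζ² a)`, `t h t⁻¹ = h⁻¹`, `t = x(1) · t x(1) t⁻¹ · x(1)`,
`h t = x(ζ) · t x(ζ⁻¹) t⁻¹ · x(ζ)` with `ζ` a generator of `Fˣ` give `R1Data F Γ`.
-/

set_option autoImplicit false

namespace Cfsg.Agent.Lib.Helper7.Pres2

open Cfsg.Agent.Lib.Helper5.St

/-- a braid type lemma: if `s = X · sXs⁻¹ · X` then `s²` centralizes `X` -/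
theorem braid_sq {Γ : Type*} [Group Γ] (s X : Γ) (hs : s = X * (s * X * s⁻¹) * X) :
    s * (s * X * s⁻¹) * s⁻¹ = X := by
  -- `s X⁻¹ s = X s X`
  have h1 : s * X⁻¹ * s = X * s * X := by
    have : s * X⁻¹ * s = (X * (s * X * s⁻¹) * X) * X⁻¹ * s := by rw [← hs]
    rw [this]
    simp only [mul_assoc, mul_inv_cancel_left, inv_mul_cancel, mul_one]
  -- `s X s⁻¹ = X⁻¹ s X⁻¹`
  have h2 : s * X * s⁻¹ = X⁻¹ * s * X⁻¹ := by
    have : X⁻¹ * s * X⁻¹ = X⁻¹ * (X * (s * X * s⁻¹) * X) * X⁻¹ := by rw [← hs]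
    rw [this]
    simp only [mul_assoc, inv_mul_cancel_left, mul_inv_cancel, mul_one]
  rw [h2]
  calc s * (X⁻¹ * s * X⁻¹) * s⁻¹ = (s * X⁻¹ * s) * X⁻¹ * s⁻¹ := by simp only [mul_assoc]
    _ = X := by rw [h1]; simp only [mul_assoc, mul_inv_cancel_left, mul_inv_cancel, mul_one]

section main

variable {F : Type*} [Field F] {Γ : Type*} [Group Γ] (x : F → Γ) (t h : Γ) (ζ : F)
  (hζ : ζ ≠ 0)
  (hx_add : ∀ a b : F, x (a + b) = x a * x b)
  (hx_h : ∀ a : F, h * x a * h⁻¹ = x (ζ ^ 2 * a))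
  (h4 : t * h * t⁻¹ = h⁻¹)
  (h5 : t = x 1 * (t * x 1 * t⁻¹) * x 1)
  (h6 : h * t = x ζ * (t * x ζ⁻¹ * t⁻¹) * x ζ)
  (hgen : ∀ a : F, a ≠ 0 → ∃ i : ℤ, a = ζ ^ i)

include hx_add in
theorem x_zero' : x 0 = 1 := by
  have := hx_add 0 0
  rw [add_zero] at this
  exact (mul_eq_left.1 this.symm)

include hx_add in
theorem x_neg' (a : F) : x (-a) = (x a)⁻¹ := by
  rw [eq_inv_iff_mul_eq_one, ← hx_add, neg_add_cancel, x_zero' x hx_add]

include hζ hx_h in
theorem hx_h_inv (a : F) : h⁻¹ * x a * h = x ((ζ ^ 2)⁻¹ * a) := by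
  have := hx_h ((ζ ^ 2)⁻¹ * a)
  rw [← mul_assoc, mul_inv_cancel₀ (pow_ne_zero 2 hζ), one_mul] at this
  rw [← this]
  simp only [mul_assoc, inv_mul_cancel_left, inv_mul_cancel, mul_one]

include hx_h in
theorem hx_hn (i : ℕ) (a : F) : h ^ i * x a * (h ^ i)⁻¹ = x (ζ ^ (2 * i) * a) := by
  induction i generalizing a with
  | zero => simp
  | succ i ih =>
    have e : h ^ (i + 1) * x a * (h ^ (i + 1))⁻¹ = h * (h ^ i * x a * (h ^ i)⁻¹) * h⁻¹ := by
      rw [pow_succ']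
      simp only [mul_inv_rev, mul_assoc]
    rw [e, ih, hx_h]
    congr 1
    ring

include hζ hx_h in
theorem hx_hz (i : ℤ) (a : F) : h ^ i * x a * (h ^ i)⁻¹ = x (ζ ^ (2 * i) * a) := by
  obtain ⟨n, rfl | rfl⟩ := i.eq_nat_or_neg
  · rw [zpow_natCast, hx_hn x h ζ hx_h n a]
    congr 2
    rw [show (2 * (n : ℤ)) = ((2 * n : ℕ) : ℤ) by push_cast; ring, zpow_natCast]
  · have h1 := hx_hn x h ζ hx_h n (ζ ^ (2 * -(n : ℤ)) * a)
    have h2 : ζ ^ (2 * n) * (ζ ^ (2 * -(n : ℤ)) * a) = a := by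
      rw [← mul_assoc, show (2 * -(n : ℤ)) = -((2 * n : ℕ) : ℤ) by push_cast; ring, zpow_neg,
        zpow_natCast, mul_inv_cancel₀ (pow_ne_zero _ hζ), one_mul]
    rw [h2] at h1
    rw [zpow_neg, zpow_natCast, inv_inv, ← h1]
    simp only [mul_assoc, inv_mul_cancel_left, inv_mul_cancel, mul_one]

/-- the opposite root elements -/
def yy (b : F) : Γ := t * x (-b) * t⁻¹

include hx_add in
theorem yy_add (a b : F) : yy x t a * yy x t b = yy x t (a + b) := by
  unfold yy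
  rw [neg_add, hx_add]
  simp only [mul_assoc, inv_mul_cancel_left]

include h4 in
theorem t_inv_h_t : t⁻¹ * h * t = h⁻¹ := by
  have : h = t⁻¹ * h⁻¹ * t := by
    rw [← h4]
    simp only [mul_assoc, inv_mul_cancel_left, inv_mul_cancel, mul_one]
  have h2 : h⁻¹ = (t⁻¹ * h⁻¹ * t)⁻¹ := by rw [← this]
  rw [h2]
  simp only [mul_inv_rev, inv_inv, mul_assoc]

include hζ hx_h h4 in
theorem h_yy (b : F) : h * yy x t b * h⁻¹ = yy x t ((ζ ^ 2)⁻¹ * b) := by
  unfold yy
  have e : h * (t * x (-b) * t⁻¹) * h⁻¹ = t * ((t⁻¹ * h * t) * x (-b) * (t⁻¹ * h * t)⁻¹) * t⁻¹ := by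
    group
  rw [e, t_inv_h_t t h h4, inv_inv, hx_h_inv x h ζ hζ hx_h, mul_neg]

include hζ hx_h h4 in
theorem hz_yy (i : ℤ) (b : F) :
    h ^ i * yy x t b * (h ^ i)⁻¹ = yy x t ((ζ ^ (2 * i))⁻¹ * b) := by
  unfold yy
  -- `t⁻¹ h^i t = h^(-i)`
  have key : t⁻¹ * h ^ i * t = (h ^ i)⁻¹ := by
    have h1 : t⁻¹ * h ^ i * t = (t⁻¹ * h * t) ^ i := by
      have := map_zpow (MulAut.conj t⁻¹) h i
      simp only [MulAut.conj_apply, inv_inv] at this
      exact this
    rw [h1, t_inv_h_t t h h4, inv_zpow]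
  have e : h ^ i * (t * x (-b) * t⁻¹) * (h ^ i)⁻¹ =
      t * ((t⁻¹ * h ^ i * t) * x (-b) * (t⁻¹ * h ^ i * t)⁻¹) * t⁻¹ := by
    group
  rw [e, key, inv_inv]
  have h2 := hx_hz x h ζ hζ hx_h (-i) (-b)
  rw [zpow_neg, inv_inv] at h2
  rw [h2]
  congr 2
  rw [mul_neg, mul_neg, zpow_neg]

include h4 in
theorem t_hz (i : ℤ) : t * h ^ i * t⁻¹ = (h ^ i)⁻¹ := by
  have h1 : t * h ^ i * t⁻¹ = (t * h * t⁻¹) ^ i := by
    have := map_zpow (MulAut.conj t) h i
    simp only [MulAut.conj_apply] at this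
    exact this
  rw [h1, h4, inv_zpow]

include h4 in
theorem hz_t (j : ℤ) : h ^ j * t * (h ^ j)⁻¹ = h ^ (2 * j) * t := by
  have h1 : t * (h ^ j)⁻¹ * t⁻¹ = h ^ j := by
    have := t_hz t h h4 (-j)
    rw [zpow_neg, inv_inv] at this
    exact this
  have e : h ^ j * t * (h ^ j)⁻¹ = h ^ j * (t * (h ^ j)⁻¹ * t⁻¹) * t := by group
  rw [e, h1, two_mul, zpow_add]

include h4 in
theorem tsq_comm_h : Commute (t * t) h := by
  have h1 : t * h = h⁻¹ * t := by
    rw [← h4]; group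
  have h2 : t * h⁻¹ = h * t := by
    have : t * h⁻¹ * t⁻¹ = h := by
      have := t_hz t h h4 (-1)
      simpa using this
    calc t * h⁻¹ = (t * h⁻¹ * t⁻¹) * t := by group
      _ = h * t := by rw [this]
  show t * t * h = h * (t * t)
  rw [mul_assoc, h1, ← mul_assoc, h2, mul_assoc]

include h5 in
theorem tsq_comm_x_one : Commute (t * t) (x 1) := by
  have := braid_sq t (x 1) h5
  show t * t * x 1 = x 1 * (t * t)
  have e : t * t * x 1 = (t * (t * x 1 * t⁻¹) * t⁻¹) * (t * t) := by group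
  rw [e, this]

include hζ hx_h h4 h6 in
theorem tsq_comm_x_zeta : Commute (t * t) (x ζ) := by
  have hs : (h * t) * (h * t) = t * t := by
    have e : (h * t) * (h * t) = h * (t * h * t⁻¹) * (t * t) := by group
    rw [e, h4, mul_inv_cancel, one_mul]
  have hX : (h * t) * x ζ * (h * t)⁻¹ = t * x ζ⁻¹ * t⁻¹ := by
    have e : (h * t) * x ζ * (h * t)⁻¹ = h * yy x t (-ζ) * h⁻¹ := by
      unfold yy; rw [neg_neg]; group
    rw [e, h_yy x t h ζ hζ hx_h h4]
    unfold yy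
    congr 3
    field_simp
  have h6' : h * t = x ζ * ((h * t) * x ζ * (h * t)⁻¹) * x ζ := by rw [hX]; exact h6
  have := braid_sq (h * t) (x ζ) h6'
  show t * t * x ζ = x ζ * (t * t)
  have e : ((h * t) * (h * t)) * x ζ =
      ((h * t) * ((h * t) * x ζ * (h * t)⁻¹) * (h * t)⁻¹) * ((h * t) * (h * t)) := by group
  rw [this, hs] at e
  exact e

include hζ hx_add hx_h h4 h5 h6 hgen in
theorem tsq_comm_x (a : F) : Commute (t * t) (x a) := by
  by_cases ha : a = 0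
  · subst ha; rw [x_zero' x hx_add]; exact Commute.one_right _
  obtain ⟨i, rfl⟩ := hgen a ha
  have hh : ∀ j : ℤ, Commute (t * t) (h ^ j) := fun j => (tsq_comm_h t h h4).zpow_right j
  obtain ⟨j, rfl | rfl⟩ := Int.even_or_odd' i
  · have := hx_hz x h ζ hζ hx_h j 1
    rw [mul_one] at this
    rw [← this]
    exact ((hh j).mul_right (tsq_comm_x_one x t h5)).mul_right (hh j).inv_right
  · have := hx_hz x h ζ hζ hx_h j ζ
    rw [← zpow_add_one₀ hζ] at this
    rw [← this]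
    exact ((hh j).mul_right (tsq_comm_x_zeta x t h ζ hζ hx_h h4 h6)).mul_right (hh j).inv_right

include hζ hx_add hx_h h4 h5 h6 hgen in
theorem t_yy (b : F) : t * yy x t b * t⁻¹ = x (-b) := by
  unfold yy
  have := tsq_comm_x x t h ζ hζ hx_add hx_h h4 h5 h6 hgen (-b)
  have e : t * (t * x (-b) * t⁻¹) * t⁻¹ = (t * t) * x (-b) * (t * t)⁻¹ := by group
  rw [e, this.eq, mul_inv_cancel_right]

/-- the Weyl element attached to `a` -/
def ww (a : F) : Γ := x a * yy x t (-a⁻¹) * x a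

include hζ hx_h h4 h5 h6 in
theorem ww_zpow (i : ℤ) : ww x t (ζ ^ i) = h ^ i * t := by
  unfold ww
  obtain ⟨j, rfl | rfl⟩ := Int.even_or_odd' i
  · rw [← hz_t t h h4 j]
    have e : h ^ j * t * (h ^ j)⁻¹ = (h ^ j * x 1 * (h ^ j)⁻¹) * (h ^ j * yy x t (-1) * (h ^ j)⁻¹) *
        (h ^ j * x 1 * (h ^ j)⁻¹) := by
      have : t = x 1 * yy x t (-1) * x 1 := by
        unfold yy; rw [neg_neg]; exact h5
      conv_lhs => rw [this]
      group
    rw [e, hx_hz x h ζ hζ hx_h, hz_yy x t h ζ hζ hx_h h4, mul_one, mul_neg, mul_one]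
  · have e0 : h ^ (2 * j + 1) * t = h ^ j * (h * t) * (h ^ j)⁻¹ := by
      have e1 : h ^ j * (h * t) * (h ^ j)⁻¹ = h * (h ^ j * t * (h ^ j)⁻¹) := by group
      rw [e1, hz_t t h h4 j, ← mul_assoc, ← zpow_one_add, add_comm]
    rw [e0]
    have e : h ^ j * (h * t) * (h ^ j)⁻¹ = (h ^ j * x ζ * (h ^ j)⁻¹) * (h ^ j * yy x t (-ζ⁻¹) * (h ^ j)⁻¹) *
        (h ^ j * x ζ * (h ^ j)⁻¹) := by
      have : h * t = x ζ * yy x t (-ζ⁻¹) * x ζ := by
        unfold yy; rw [neg_neg]; exact h6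
      rw [this]
      group
    rw [e, hx_hz x h ζ hζ hx_h, hz_yy x t h ζ hζ hx_h h4, ← zpow_add_one₀ hζ, mul_neg,
      ← mul_inv, ← zpow_add_one₀ hζ]

include hζ hx_add hx_h h4 h5 h6 hgen in
/-- the relations give rank one Steinberg data -/
theorem exists_r1 : ∃ A : R1Data F Γ, A.x = x ∧ A.y = yy x t ∧ A.w 1 = t ∧
    ∀ i : ℤ, A.h (ζ ^ i) = h ^ i := by
  have hsq : ∀ i : ℤ, (ζ ^ i) ^ 2 = ζ ^ (2 * i) := fun i => by
    rw [mul_comm, zpow_mul, zpow_ofNat]
  have hW : ∀ i : ℤ, x (ζ ^ i) * yy x t (-(ζ ^ i)⁻¹) * x (ζ ^ i) = h ^ i * t :=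
    fun i => ww_zpow x t h ζ hζ hx_h h4 h5 h6 i
  let A : R1Data F Γ :=
    { x := x
      y := yy x t
      x_add := fun a b => (hx_add a b).symm
      y_add := yy_add x t hx_add
      wx := by
        intro a ha u
        obtain ⟨i, rfl⟩ := hgen a ha
        rw [hW i]
        have e : h ^ i * t * x u * (h ^ i * t)⁻¹ = h ^ i * yy x t (-u) * (h ^ i)⁻¹ := by
          unfold yy; rw [neg_neg]; group
        rw [e, hz_yy x t h ζ hζ hx_h h4, hsq]
        congr 1
        ring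
      wy := by
        intro a ha u
        obtain ⟨i, rfl⟩ := hgen a ha
        rw [hW i]
        have e : h ^ i * t * yy x t u * (h ^ i * t)⁻¹ =
            h ^ i * (t * yy x t u * t⁻¹) * (h ^ i)⁻¹ := by group
        rw [e, t_yy x t h ζ hζ hx_add hx_h h4 h5 h6 hgen, hx_hz x h ζ hζ hx_h, hsq]
        congr 1
        ring }
  have hw1 : A.w 1 = t := by
    have := hW 0
    rw [zpow_zero, zpow_zero, one_mul] at this
    exact this
  refine ⟨A, rfl, rfl, hw1, ?_⟩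
  intro i
  show A.w (ζ ^ i) * A.w (-1) = h ^ i
  rw [← A.w_inv 1, hw1]
  have : A.w (ζ ^ i) = h ^ i * t := hW i
  rw [this, mul_inv_cancel_right]

include hζ hx_add hx_h h4 h5 h6 hgen in
/-- the order bound for the special linear group -/
theorem card_bound [Fintype F] (hgen3 : Subgroup.closure {x 1, t, h} = ⊤) :
    Finite Γ ∧ Nat.card Γ ≤ Fintype.card F * (Fintype.card F + 1) * (Fintype.card F - 1) := by
  obtain ⟨A, hAx, hAy, hAw, hAh⟩ := exists_r1 x t h ζ hζ hx_add hx_h h4 h5 h6 hgen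
  have hmul : ∀ a b : F, a ≠ 0 → b ≠ 0 → A.h a * A.h b = A.h (a * b) := by
    intro a b ha hb
    obtain ⟨i, rfl⟩ := hgen a ha
    obtain ⟨j, rfl⟩ := hgen b hb
    rw [← zpow_add₀ hζ, hAh, hAh, hAh, zpow_add]
  have htop : Subgroup.closure (Set.range A.x ∪ {A.w 1}) = ⊤ := by
    rw [eq_top_iff, ← hgen3, Subgroup.closure_le]
    have hx : ∀ a, x a ∈ Subgroup.closure (Set.range A.x ∪ {A.w 1}) := fun a =>
      Subgroup.subset_closure (Or.inl ⟨a, by rw [hAx]⟩)
    have ht : t ∈ Subgroup.closure (Set.range A.x ∪ {A.w 1}) :=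
      Subgroup.subset_closure (Or.inr (by rw [hAw]; rfl))
    rintro g (rfl | rfl | rfl)
    · exact hx 1
    · exact ht
    · have e : g = (x ζ * (t * x ζ⁻¹ * t⁻¹) * x ζ) * t⁻¹ := by rw [← h6]; group
      rw [e]
      exact mul_mem (mul_mem (mul_mem (hx _) (mul_mem (mul_mem ht (hx _)) (inv_mem ht))) (hx _))
        (inv_mem ht)
  let φ : Fˣ →* Γ :=
    { toFun := fun c => A.h (c : F)
      map_one' := A.h_one
      map_mul' := fun a b => (hmul a b a.ne_zero b.ne_zero).symm }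
  have hφfin : (φ.range : Set Γ).Finite := by
    have : (φ.range : Set Γ) = Set.range φ := MonoidHom.coe_range φ
    rw [this]; exact Set.finite_range _
  obtain ⟨hfin, hle⟩ := card_closure_le A hmul (φ.range : Set Γ) hφfin
    (fun c hc => ⟨Units.mk0 c hc, rfl⟩)
  rw [htop] at hfin hle
  have hΓ : Finite Γ := by
    have : (Set.univ : Set Γ).Finite := by simpa using hfin
    exact Set.finite_univ_iff.1 this
  refine ⟨hΓ, ?_⟩
  have hcard : Nat.card (⊤ : Subgroup Γ) = Nat.card Γ := Subgroup.card_top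
  rw [hcard] at hle
  refine hle.trans (Nat.mul_le_mul_left _ ?_)
  have h1 : (φ.range : Set Γ).ncard = Nat.card φ.range := (Nat.card_coe_set_eq _).symm
  rw [h1]
  have h2 : Nat.card φ.range ∣ Nat.card Fˣ := Subgroup.card_range_dvd φ
  have h3 : Nat.card Fˣ = Fintype.card F - 1 := by
    classical
    rw [Nat.card_eq_fintype_card, Fintype.card_units]
  rw [h3] at h2
  have hpos : 0 < Fintype.card F - 1 := by
    have := Fintype.one_lt_card (α := F)
    omega
  exact Nat.le_of_dvd hpos h2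

include hζ hx_add hx_h h4 h5 h6 hgen in
/-- the order bound for the projective special linear group in odd characteristic -/
theorem card_bound_proj [Fintype F] (hgen3 : Subgroup.closure {x 1, t, h} = ⊤)
    (h7 : t * t = 1) (h2F : (2 : F) ≠ 0) :
    Finite Γ ∧
      2 * Nat.card Γ ≤ Fintype.card F * (Fintype.card F + 1) * (Fintype.card F - 1) := by
  obtain ⟨A, hAx, hAy, hAw, hAh⟩ := exists_r1 x t h ζ hζ hx_add hx_h h4 h5 h6 hgen
  have hmul : ∀ a b : F, a ≠ 0 → b ≠ 0 → A.h a * A.h b = A.h (a * b) := by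
    intro a b ha hb
    obtain ⟨i, rfl⟩ := hgen a ha
    obtain ⟨j, rfl⟩ := hgen b hb
    rw [← zpow_add₀ hζ, hAh, hAh, hAh, zpow_add]
  have htop : Subgroup.closure (Set.range A.x ∪ {A.w 1}) = ⊤ := by
    rw [eq_top_iff, ← hgen3, Subgroup.closure_le]
    have hx : ∀ a, x a ∈ Subgroup.closure (Set.range A.x ∪ {A.w 1}) := fun a =>
      Subgroup.subset_closure (Or.inl ⟨a, by rw [hAx]⟩)
    have ht : t ∈ Subgroup.closure (Set.range A.x ∪ {A.w 1}) :=
      Subgroup.subset_closure (Or.inr (by rw [hAw]; rfl))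
    rintro g (rfl | rfl | rfl)
    · exact hx 1
    · exact ht
    · have e : g = (x ζ * (t * x ζ⁻¹ * t⁻¹) * x ζ) * t⁻¹ := by rw [← h6]; group
      rw [e]
      exact mul_mem (mul_mem (mul_mem (hx _) (mul_mem (mul_mem ht (hx _)) (inv_mem ht))) (hx _))
        (inv_mem ht)
  let φ : Fˣ →* Γ :=
    { toFun := fun c => A.h (c : F)
      map_one' := A.h_one
      map_mul' := fun a b => (hmul a b a.ne_zero b.ne_zero).symm }
  have hφfin : (φ.range : Set Γ).Finite := by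
    have : (φ.range : Set Γ) = Set.range φ := MonoidHom.coe_range φ
    rw [this]; exact Set.finite_range _
  obtain ⟨hfin, hle⟩ := card_closure_le A hmul (φ.range : Set Γ) hφfin
    (fun c hc => ⟨Units.mk0 c hc, rfl⟩)
  rw [htop] at hfin hle
  have hΓ : Finite Γ := by
    have : (Set.univ : Set Γ).Finite := by simpa using hfin
    exact Set.finite_univ_iff.1 this
  refine ⟨hΓ, ?_⟩
  have hcard : Nat.card (⊤ : Subgroup Γ) = Nat.card Γ := Subgroup.card_top
  rw [hcard] at hle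
  have h1 : (φ.range : Set Γ).ncard = Nat.card φ.range := (Nat.card_coe_set_eq _).symm
  rw [h1] at hle
  -- the kernel contains `-1`
  have hker : (-1 : Fˣ) ∈ φ.ker := by
    rw [MonoidHom.mem_ker]
    show A.h ((-1 : Fˣ) : F) = 1
    rw [Units.val_neg, Units.val_one, ← n_sq A hmul, hAw, h7]
  have hne : (-1 : Fˣ) ≠ 1 := by
    intro h
    have : ((-1 : Fˣ) : F) = ((1 : Fˣ) : F) := by rw [h]
    rw [Units.val_neg, Units.val_one] at this
    apply h2F
    have h' : (1 : F) + 1 = 0 := by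
      nth_rewrite 1 [← this]
      ring
    rw [← h']; norm_num
  have hk2 : 2 ≤ Nat.card φ.ker := by
    have : Nontrivial φ.ker := ⟨⟨⟨-1, hker⟩, 1, fun h => hne (by simpa using congrArg Subtype.val h)⟩⟩
    exact Finite.one_lt_card
  have h3 : Nat.card Fˣ = Fintype.card F - 1 := by
    classical
    rw [Nat.card_eq_fintype_card, Fintype.card_units]
  have h4' : Nat.card φ.ker * Nat.card φ.range = Fintype.card F - 1 := by
    rw [← h3, ← Subgroup.index_ker, Subgroup.card_mul_index]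
  calc 2 * Nat.card Γ ≤ 2 * (Fintype.card F * (Fintype.card F + 1) * Nat.card φ.range) :=
        Nat.mul_le_mul_left _ hle
    _ = Fintype.card F * (Fintype.card F + 1) * (2 * Nat.card φ.range) := by ring
    _ ≤ Fintype.card F * (Fintype.card F + 1) * (Nat.card φ.ker * Nat.card φ.range) :=
        Nat.mul_le_mul_left _ (Nat.mul_le_mul_right _ hk2)
    _ = _ := by rw [h4']

include hx_add h5 h6 in
/-- in characteristic two the relation `t h t⁻¹ = h⁻¹` is a consequence of the others -/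
theorem h4_of_char_two (h2F : (2 : F) = 0) : t * h * t⁻¹ = h⁻¹ := by
  have hxx : ∀ a : F, x a * x a = 1 := by
    intro a
    rw [← hx_add, ← two_mul, h2F, zero_mul, x_zero' x hx_add]
  have key : ∀ s X Y : Γ, X * X = 1 → Y * Y = 1 → s = X * (t * Y * t⁻¹) * X → s * s = 1 := by
    intro s X Y hX hY hs
    rw [hs]
    calc X * (t * Y * t⁻¹) * X * (X * (t * Y * t⁻¹) * X)
        = X * (t * Y * t⁻¹) * (X * X) * (t * Y * t⁻¹) * X := by simp only [mul_assoc]
      _ = X * (t * (Y * Y) * t⁻¹) * X := by rw [hX, mul_one]; group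
      _ = 1 := by rw [hY, mul_one, mul_inv_cancel, mul_one, hX]
  have ht : t * t = 1 := key t (x 1) (x 1) (hxx 1) (hxx 1) h5
  have hht : (h * t) * (h * t) = 1 := key (h * t) (x ζ) (x ζ⁻¹) (hxx ζ) (hxx ζ⁻¹) h6
  have hti : t⁻¹ = t := inv_eq_of_mul_eq_one_left ht
  rw [hti]
  have : h * (t * h * t) = 1 := by rw [← hht]; simp only [mul_assoc]
  exact eq_inv_of_mul_eq_one_right this

end main

end Cfsg.Agent.Lib.Helper7.Pres2
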