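import Mathlib
import Cfsg.Agent.Lib.Helper7.Pres2B
import Cfsg.Agent.Lib.Helper7.Pres2D

/-!
# The relations bound the order of the group (helper7)

A group generated by `u, t, h` subject to the relations of the short presentation of `SL₂(F)` has at most
`q (q + 1) (q - 1)` elements.
-/

set_option autoImplicit false

namespace Cfsg.Agent.Lib.Helper7.Pres2

open Polynomial

section kernel

variable {F : Type*} [Field F] (p : ℕ) [Fact p.Prime] [Algebra (ZMod p) F]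

theorem aeval_map_zmod (θ : F) (f : ℤ[X]) :
    aeval θ (f.map (Int.castRingHom (ZMod p))) = aeval θ f := by
  have := Polynomial.aeval_map_algebraMap (R := ℤ) (ZMod p) θ f
  rw [algebraMap_int_eq] at this
  exact this

variable {G : Type*} [Group G] (h : G) (d : ℤ) (Ψ : ℤ[X] → G)
  (hadd : ∀ f g, Ψ (f + g) = Ψ f * Ψ g)
  (hX : ∀ f, Ψ (X * f) = h ^ d * Ψ f * (h ^ d)⁻¹)

include hadd hX in
theorem psi_eq_one_of_aeval (θ : F) (mt : ℤ[X])
    (hmt : mt.map (Int.castRingHom (ZMod p)) = minpoly (ZMod p) θ)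
    (hp : Ψ (C (p : ℤ)) = 1) (hm : Ψ mt = 1) (f : ℤ[X]) (hf : aeval θ f = 0) : Ψ f = 1 := by
  have h0 : aeval θ (f.map (Int.castRingHom (ZMod p))) = 0 := by rw [aeval_map_zmod, hf]
  obtain ⟨gb, hgb⟩ := minpoly.dvd (ZMod p) θ h0
  obtain ⟨g, rfl⟩ := Polynomial.map_surjective (Int.castRingHom (ZMod p))
    (ZMod.intCast_surjective) gb
  rw [← hmt, ← Polynomial.map_mul] at hgb
  have h2 : (f - mt * g).map (Int.castRingHom (ZMod p)) = 0 := by
    rw [Polynomial.map_sub, hgb, sub_self]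
  have h3 : C (p : ℤ) ∣ f - mt * g := by
    rw [Polynomial.C_dvd_iff_dvd_coeff]
    intro n
    have := congrArg (fun q => q.coeff n) h2
    simp only [coeff_map, coeff_zero, eq_intCast] at this
    exact (ZMod.intCast_zmod_eq_zero_iff_dvd _ p).1 this
  obtain ⟨r, hr⟩ := h3
  have e : f = g * mt + r * C (p : ℤ) := by
    have : f = mt * g + (f - mt * g) := by ring
    rw [this, hr]; ring
  rw [e, hadd, psi_mul_eq_one h d Ψ hadd hX _ _ hm, psi_mul_eq_one h d Ψ hadd hX _ _ hp, mul_one]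

include hadd in
theorem exists_x (θ : F) (hker : ∀ f : ℤ[X], aeval θ f = 0 → Ψ f = 1)
    (hsurj : Function.Surjective (fun f : ℤ[X] => aeval θ f)) :
    ∃ x : F → G, ∀ f : ℤ[X], x (aeval θ f) = Ψ f := by
  choose s hs using hsurj
  refine ⟨fun a => Ψ (s a), fun f => ?_⟩
  have h1 : aeval θ (s (aeval θ f) - f) = 0 := by
    rw [map_sub]
    have := hs (aeval θ f)
    simp only at this
    rw [this, sub_self]
  have h2 := hker _ h1
  have e : s (aeval θ f) = (s (aeval θ f) - f) + f := by ring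
  show Ψ (s (aeval θ f)) = Ψ f
  rw [e, hadd, h2, one_mul]

end kernel

/-- **Theorem T**: the relations bound the order. -/
theorem relations_bound {F : Type*} [Field F] [Fintype F] (p : ℕ) [Fact p.Prime] [Algebra (ZMod p) F]
    (ζ : F) (hζ : ζ ≠ 0) (hgen : ∀ a : F, a ≠ 0 → ∃ i : ℤ, a = ζ ^ i)
    (d : ℤ) (θ : F) (hsurj : Function.Surjective (fun f : ℤ[X] => aeval θ f))
    (mt gt fz fzi : ℤ[X]) (hmt : mt.map (Int.castRingHom (ZMod p)) = minpoly (ZMod p) θ)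
    (hgt : aeval θ gt = ζ ^ 2) (hfz : aeval θ fz = ζ) (hfzi : aeval θ fzi = ζ⁻¹)
    {Γ : Type*} [Group Γ] (u t h : Γ)
    (hcom : ∀ m n : ℤ, Commute (cj u h (d * m)) (cj u h (d * n)))
    (r1 : u ^ p = 1) (r3 : pw u h d mt = 1) (r3' : h * u * h⁻¹ = pw u h d gt)
    (r4 : (2 : F) ≠ 0 → t * h * t⁻¹ = h⁻¹)
    (r5 : t = u * (t * u * t⁻¹) * u)
    (r6 : h * t = pw u h d fz * (t * pw u h d fzi * t⁻¹) * pw u h d fz)
    (hgen3 : Subgroup.closure {u, t, h} = ⊤) :
    Finite Γ ∧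
    Nat.card Γ ≤ Fintype.card F * (Fintype.card F + 1) * (Fintype.card F - 1) ∧
    (t * t = 1 → (2 : F) ≠ 0 →
      2 * Nat.card Γ ≤ Fintype.card F * (Fintype.card F + 1) * (Fintype.card F - 1)) := by
  obtain ⟨Ψ, h1, hadd, hX⟩ := exists_psi u h d hcom
  have hpw : ∀ f, Ψ f = pw u h d f := psi_eq_pw u h d Ψ h1 hadd hX
  have hΨp : Ψ (C (p : ℤ)) = 1 := by
    have := psi_C_mul Ψ hadd p 1
    rw [mul_one, h1] at this
    rw [this, zpow_natCast, r1]
  have hΨm : Ψ mt = 1 := by rw [hpw, r3]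
  have hker := psi_eq_one_of_aeval p h d Ψ hadd hX θ mt hmt hΨp hΨm
  obtain ⟨x, hx⟩ := exists_x Ψ hadd θ hker hsurj
  have hx_add : ∀ a b : F, x (a + b) = x a * x b := by
    intro a b
    obtain ⟨f, rfl⟩ := hsurj a
    obtain ⟨g, rfl⟩ := hsurj b
    simp only
    rw [← map_add, hx, hx, hx, hadd]
  have hx1 : x 1 = u := by
    have := hx 1
    rw [map_one] at this
    rw [this, h1]
  have hx_h : ∀ a : F, h * x a * h⁻¹ = x (ζ ^ 2 * a) := by
    intro a
    obtain ⟨f, rfl⟩ := hsurj a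
    simp only
    rw [hx, psi_conj_h u h d Ψ h1 hadd hX gt (by rw [hpw, r3']) f, ← hx, map_mul, hgt]
  have hxz : x ζ = pw u h d fz := by rw [← hfz, hx, hpw]
  have hxzi : x ζ⁻¹ = pw u h d fzi := by rw [← hfzi, hx, hpw]
  have h5 : t = x 1 * (t * x 1 * t⁻¹) * x 1 := by rw [hx1]; exact r5
  have h6 : h * t = x ζ * (t * x ζ⁻¹ * t⁻¹) * x ζ := by rw [hxz, hxzi]; exact r6
  have h4 : t * h * t⁻¹ = h⁻¹ := by
    by_cases h2 : (2 : F) = 0
    · exact h4_of_char_two x t h ζ hx_add h5 h6 h2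
    · exact r4 h2
  have hgen3' : Subgroup.closure {x 1, t, h} = ⊤ := by rw [hx1]; exact hgen3
  obtain ⟨hfin, hle⟩ := card_bound x t h ζ hζ hx_add hx_h h4 h5 h6 hgen hgen3'
  refine ⟨hfin, hle, fun h7 h2 => ?_⟩
  exact (card_bound_proj x t h ζ hζ hx_add hx_h h4 h5 h6 hgen hgen3' h7 h2).2

end Cfsg.Agent.Lib.Helper7.Pres2
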