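import Mathlib
import Cfsg.Agent.Lib.Helper7.Pres2B
import Cfsg.Agent.S0242
import Cfsg.Agent.S0243

/-!
# The three generators in `SL₂(F)` (helper7)
-/

set_option autoImplicit false

namespace Cfsg.Agent.Lib.Helper7.Pres2

open Polynomial

variable {F : Type*} [Field F]

/-- upper unitriangular -/
def slX (a : F) : Matrix.SpecialLinearGroup (Fin 2) F :=
  ⟨!![1, a; 0, 1], by simp [Matrix.det_fin_two]⟩

/-- lower unitriangular -/
def slY (a : F) : Matrix.SpecialLinearGroup (Fin 2) F :=
  ⟨!![1, 0; a, 1], by simp [Matrix.det_fin_two]⟩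

/-- the Weyl element -/
def slT : Matrix.SpecialLinearGroup (Fin 2) F :=
  ⟨!![0, 1; -1, 0], by simp [Matrix.det_fin_two]⟩

/-- diagonal -/
def slH (c : Fˣ) : Matrix.SpecialLinearGroup (Fin 2) F :=
  ⟨!![(c : F), 0; 0, ((c⁻¹ : Fˣ) : F)], by simp [Matrix.det_fin_two]⟩

theorem slX_add (a b : F) : slX (a + b) = slX a * slX b := by
  ext i j
  simp only [Matrix.SpecialLinearGroup.coe_mul]
  simp only [slX, slY, slT, slH, Matrix.mul_fin_two]
  fin_cases i <;> fin_cases j <;> simp <;> ring

theorem slX_zero : slX (0 : F) = 1 := by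
  ext i j
  fin_cases i <;> fin_cases j <;> simp [slX]

theorem slH_mul (c c' : Fˣ) : slH (c * c') = slH c * slH c' := by
  ext i j
  simp only [Matrix.SpecialLinearGroup.coe_mul]
  simp only [slX, slY, slT, slH, Matrix.mul_fin_two]
  fin_cases i <;> fin_cases j <;> simp <;> ring

theorem slH_one : slH (1 : Fˣ) = 1 := by
  ext i j
  fin_cases i <;> fin_cases j <;> simp [slH]

/-- `slH` as a homomorphism -/
def slHhom : Fˣ →* Matrix.SpecialLinearGroup (Fin 2) F where
  toFun := slH
  map_one' := slH_one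
  map_mul' := slH_mul

theorem slH_zpow (c : Fˣ) (n : ℤ) : (slH c) ^ n = slH (c ^ n) :=
  (map_zpow (slHhom (F := F)) c n).symm

theorem slH_inv (c : Fˣ) : (slH c)⁻¹ = slH c⁻¹ :=
  (map_inv (slHhom (F := F)) c).symm

theorem slH_mul_slX (c : Fˣ) (a : F) : slH c * slX a = slX ((c : F) ^ 2 * a) * slH c := by
  ext i j
  simp only [Matrix.SpecialLinearGroup.coe_mul]
  simp only [slX, slY, slT, slH, Matrix.mul_fin_two]
  fin_cases i <;> fin_cases j <;> simp
  field_simp

theorem slH_conj_slX (c : Fˣ) (a : F) : slH c * slX a * (slH c)⁻¹ = slX ((c : F) ^ 2 * a) := by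
  rw [slH_mul_slX, mul_inv_cancel_right]

theorem slT_mul_slH (c : Fˣ) : slT * slH c = (slH c)⁻¹ * slT := by
  rw [slH_inv]
  ext i j
  simp only [Matrix.SpecialLinearGroup.coe_mul]
  simp only [slX, slY, slT, slH, Matrix.mul_fin_two]
  fin_cases i <;> fin_cases j <;> simp

theorem slT_conj_slH (c : Fˣ) : slT * slH c * (slT : Matrix.SpecialLinearGroup (Fin 2) F)⁻¹ =
    (slH c)⁻¹ := by
  rw [slT_mul_slH, mul_inv_cancel_right]

theorem slT_mul_slX (a : F) : slT * slX a = slY (-a) * slT := by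
  ext i j
  simp only [Matrix.SpecialLinearGroup.coe_mul]
  simp only [slX, slY, slT, slH, Matrix.mul_fin_two]
  fin_cases i <;> fin_cases j <;> simp

theorem slT_conj_slX (a : F) : slT * slX a * (slT : Matrix.SpecialLinearGroup (Fin 2) F)⁻¹ =
    slY (-a) := by
  rw [slT_mul_slX, mul_inv_cancel_right]

theorem slT_eq : (slT : Matrix.SpecialLinearGroup (Fin 2) F) = slX 1 * slY (-1) * slX 1 := by
  ext i j
  simp only [Matrix.SpecialLinearGroup.coe_mul]
  simp only [slX, slY, slT, slH, Matrix.mul_fin_two]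
  fin_cases i <;> fin_cases j <;> simp

theorem slH_mul_slT (c : Fˣ) :
    slH c * slT = slX (c : F) * slY (-((c⁻¹ : Fˣ) : F)) * slX (c : F) := by
  ext i j
  simp only [Matrix.SpecialLinearGroup.coe_mul]
  simp only [slX, slY, slT, slH, Matrix.mul_fin_two]
  fin_cases i <;> fin_cases j <;> simp

theorem slT_sq_comm (g : Matrix.SpecialLinearGroup (Fin 2) F) :
    g * (slT * slT) = (slT * slT) * g := by
  ext i j
  simp only [Matrix.SpecialLinearGroup.coe_mul]
  simp only [slT, Matrix.mul_fin_two]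
  fin_cases i <;> fin_cases j <;> simp [Matrix.mul_apply, Fin.sum_univ_two]

theorem slX_eq_transvection (a : F) :
    slX a = Matrix.SpecialLinearGroup.transvection (show (0 : Fin 2) ≠ 1 by decide) a := by
  ext i j
  fin_cases i <;> fin_cases j <;>
    simp [slX, Matrix.SpecialLinearGroup.transvection_coe, Matrix.transvection]

theorem slY_eq_transvection (a : F) :
    slY a = Matrix.SpecialLinearGroup.transvection (show (1 : Fin 2) ≠ 0 by decide) a := by
  ext i j
  fin_cases i <;> fin_cases j <;>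
    simp [slY, Matrix.SpecialLinearGroup.transvection_coe, Matrix.transvection]

theorem cj_sl (c : Fˣ) (n : ℤ) : cj (slX (1 : F)) (slH c) n = slX ((c : F) ^ (2 * n)) := by
  unfold cj
  rw [slH_zpow, slH_conj_slX, mul_one, Units.val_zpow_eq_zpow_val, mul_comm 2 n, zpow_mul, zpow_ofNat]

/-- the polynomial word in `SL₂` -/
theorem pw_sl (c : Fˣ) (d : ℤ) (f : ℤ[X]) :
    pw (slX (1 : F)) (slH c) d f = slX (aeval ((c : F) ^ (2 * d)) f) := by
  symm
  apply psi_eq_pw (slX (1 : F)) (slH c) d (fun f => slX (aeval ((c : F) ^ (2 * d)) f))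
  · simp
  · intro f g
    simp only [map_add, slX_add]
  · intro f
    simp only [map_mul, aeval_X]
    rw [slH_zpow, slH_conj_slX, Units.val_zpow_eq_zpow_val, mul_comm 2 d, zpow_mul, zpow_ofNat]

theorem cj_mem {G : Type*} [Group G] (S : Subgroup G) (u h : G) (hu : u ∈ S) (hh : h ∈ S) (n : ℤ) :
    cj u h n ∈ S :=
  mul_mem (mul_mem (zpow_mem hh n) hu) (inv_mem (zpow_mem hh n))

theorem pw_mem {G : Type*} [Group G] (S : Subgroup G) (u h : G) (hu : u ∈ S) (hh : h ∈ S) (d : ℤ)
    (f : ℤ[X]) : pw u h d f ∈ S := by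
  unfold pw
  apply list_prod_mem
  intro g hg
  rw [List.mem_map] at hg
  obtain ⟨j, _, rfl⟩ := hg
  exact zpow_mem (cj_mem S u h hu hh _) _

theorem sl_closure_eq_top (c : Fˣ) (d : ℤ)
    (hsurj : Function.Surjective (fun f : ℤ[X] => aeval ((c : F) ^ (2 * d)) f)) :
    Subgroup.closure {slX (1 : F), slT, slH c} = ⊤ := by
  rw [eq_top_iff]
  intro A _
  have hU : slX (1 : F) ∈ Subgroup.closure {slX (1 : F), slT, slH c} :=
    Subgroup.subset_closure (by simp)
  have hT : (slT : Matrix.SpecialLinearGroup (Fin 2) F) ∈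
      Subgroup.closure {slX (1 : F), slT, slH c} :=
    Subgroup.subset_closure (by simp)
  have hH : slH c ∈ Subgroup.closure {slX (1 : F), slT, slH c} :=
    Subgroup.subset_closure (by simp)
  have hX : ∀ a : F, slX a ∈ Subgroup.closure {slX (1 : F), slT, slH c} := by
    intro a
    obtain ⟨f, rfl⟩ := hsurj a
    simp only
    rw [← pw_sl]
    exact pw_mem _ _ _ hU hH _ _
  have hY : ∀ a : F, slY a ∈ Subgroup.closure {slX (1 : F), slT, slH c} := by
    intro a
    have := slT_conj_slX (-a)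
    rw [neg_neg] at this
    rw [← this]
    exact mul_mem (mul_mem hT (hX _)) (inv_mem hT)
  refine Matrix.SL2.transvection_induction
    (fun A => A ∈ Subgroup.closure {slX (1 : F), slT, slH c}) ?_ (fun _ _ => mul_mem) A
  intro i j hij a
  fin_cases i <;> fin_cases j
  · exact absurd rfl hij
  · have := hX a
    rw [slX_eq_transvection a] at this
    exact this
  · have := hY a
    rw [slY_eq_transvection a] at this
    exact this
  · exact absurd rfl hij

theorem card_sl2 [Fintype F] : Nat.card (Matrix.SpecialLinearGroup (Fin 2) F) =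
    Fintype.card F * (Fintype.card F + 1) * (Fintype.card F - 1) := by
  have h := Cfsg.Agent.S0242.result (F := F) rfl 2 (by norm_num)
  rw [Fin.prod_univ_two] at h
  have hq : 2 ≤ Fintype.card F := Fintype.one_lt_card
  obtain ⟨m, hm⟩ : ∃ m, Fintype.card F = m + 2 := ⟨Fintype.card F - 2, by omega⟩
  rw [hm] at h ⊢
  simp only [Fin.val_zero, Fin.val_one, pow_zero, pow_one] at h
  have e1 : (m + 2) ^ 2 - 1 = (m + 1) * (m + 3) := by
    have : (m + 2) ^ 2 = (m + 1) * (m + 3) + 1 := by ring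
    omega
  have e2 : (m + 2) ^ 2 - (m + 2) = (m + 2) * (m + 1) := by
    have : (m + 2) ^ 2 = (m + 2) * (m + 1) + (m + 2) := by ring
    omega
  have e3 : m + 2 - 1 = m + 1 := by omega
  rw [e1, e2, e3] at h
  rw [e3]
  have : (m + 1) * Nat.card (Matrix.SpecialLinearGroup (Fin 2) F) =
      (m + 1) * ((m + 2) * (m + 2 + 1) * (m + 1)) := by rw [h]; ring
  exact Nat.eq_of_mul_eq_mul_left (by omega) this

end Cfsg.Agent.Lib.Helper7.Pres2
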