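import Mathlib
import Cfsg.Agent.Lib.Helper7.Pres2E
import Cfsg.Agent.Lib.Helper7.Pres2F

/-!
# The relators as words, and the isomorphism criterion (helper7)
-/

set_option autoImplicit false

namespace Cfsg.Agent.Lib.Helper7.Pres2

open Polynomial

/-- the free group on three generators -/
abbrev W3 : Type := FreeGroup (Fin 3)

/-- first generator -/
def fu : W3 := FreeGroup.of 0
/-- second generator -/
def ft : W3 := FreeGroup.of 1
/-- third generator -/
def fh : W3 := FreeGroup.of 2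

/-- `u ^ p` -/
def wR1 (p : ℕ) : W3 := fu ^ p
/-- commutator relator -/
def wC (l : ℤ) : W3 := fu * cj fu fh l * fu⁻¹ * (cj fu fh l)⁻¹
/-- `u^(h^k) = u u^(h^l)` -/
def wR2 (k l : ℤ) : W3 := (cj fu fh k)⁻¹ * (fu * cj fu fh l)
/-- the minimal polynomial relator -/
noncomputable def wR3 (d : ℤ) (mt : ℤ[X]) : W3 := pw fu fh d mt
/-- the action of `h` -/
noncomputable def wR3' (d : ℤ) (gt : ℤ[X]) : W3 := fh * fu * fh⁻¹ * (pw fu fh d gt)⁻¹
/-- `t` inverts `h` -/
def wR4 : W3 := ft * fh * ft⁻¹ * fh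
/-- `t = w(1)` -/
def wR5 : W3 := ft⁻¹ * (fu * (ft * fu * ft⁻¹) * fu)
/-- `h t = w(ζ)` -/
noncomputable def wR6 (d : ℤ) (fz fzi : ℤ[X]) : W3 :=
  (fh * ft)⁻¹ * (pw fu fh d fz * (ft * pw fu fh d fzi * ft⁻¹) * pw fu fh d fz)
/-- `t² = 1` -/
def wR7 : W3 := ft * ft

section iff

variable {G : Type*} [Group G] (φ : W3 →* G)

theorem wR1_iff (p : ℕ) : φ (wR1 p) = 1 ↔ (φ fu) ^ p = 1 := by
  unfold wR1; rw [map_pow]

theorem wC_iff (l : ℤ) : φ (wC l) = 1 ↔ Commute (φ fu) (cj (φ fu) (φ fh) l) := by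
  unfold wC
  simp only [map_mul, map_inv, map_cj]
  rw [mul_inv_eq_one, mul_inv_eq_iff_eq_mul]
  exact Iff.rfl

theorem wR2_iff (k l : ℤ) :
    φ (wR2 k l) = 1 ↔ cj (φ fu) (φ fh) k = φ fu * cj (φ fu) (φ fh) l := by
  unfold wR2
  simp only [map_mul, map_inv, map_cj]
  rw [inv_mul_eq_one]

theorem wR3_iff (d : ℤ) (mt : ℤ[X]) : φ (wR3 d mt) = 1 ↔ pw (φ fu) (φ fh) d mt = 1 := by
  unfold wR3; rw [map_pw]

theorem wR3'_iff (d : ℤ) (gt : ℤ[X]) :
    φ (wR3' d gt) = 1 ↔ φ fh * φ fu * (φ fh)⁻¹ = pw (φ fu) (φ fh) d gt := by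
  unfold wR3'
  simp only [map_mul, map_inv, map_pw]
  rw [mul_inv_eq_one]

theorem wR4_iff : φ wR4 = 1 ↔ φ ft * φ fh * (φ ft)⁻¹ = (φ fh)⁻¹ := by
  unfold wR4
  simp only [map_mul, map_inv]
  rw [mul_eq_one_iff_eq_inv]

theorem wR5_iff : φ wR5 = 1 ↔ φ ft = φ fu * (φ ft * φ fu * (φ ft)⁻¹) * φ fu := by
  unfold wR5
  simp only [map_mul, map_inv]
  rw [inv_mul_eq_one]

theorem wR6_iff (d : ℤ) (fz fzi : ℤ[X]) : φ (wR6 d fz fzi) = 1 ↔
    φ fh * φ ft = pw (φ fu) (φ fh) d fz * (φ ft * pw (φ fu) (φ fh) d fzi * (φ ft)⁻¹) *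
      pw (φ fu) (φ fh) d fz := by
  unfold wR6
  simp only [map_mul, map_inv, map_pw]
  rw [inv_mul_eq_one]

theorem wR7_iff : φ wR7 = 1 ↔ φ ft * φ ft = 1 := by
  unfold wR7
  simp only [map_mul]

end iff

/-- for `d = 1` and `gt = X` the relator `wR3'` is trivial -/
theorem wR3'_one_X : wR3' 1 (X : ℤ[X]) = 1 := by
  unfold wR3' pw
  rw [natDegree_X]
  simp [List.range_succ, cj, coeff_X]

/-- a surjection from a presented group whose order is at most that of the target is bijective -/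
theorem presented_equiv_of_bound {H : Type*} [Group H] [Finite H] (rels : Set W3) (g : Fin 3 → H)
    (hrel : ∀ r ∈ rels, FreeGroup.lift g r = 1)
    (hgen : Subgroup.closure {g 0, g 1, g 2} = ⊤)
    (hfin : Finite (PresentedGroup rels))
    (hcard : Nat.card (PresentedGroup rels) ≤ Nat.card H) :
    Nonempty (PresentedGroup rels ≃* H) := by
  have hsurj : Function.Surjective (PresentedGroup.toGroup hrel) := by
    rw [← MonoidHom.range_eq_top, eq_top_iff, ← hgen, Subgroup.closure_le]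
    rintro x (rfl | rfl | rfl)
    · exact ⟨PresentedGroup.of 0, PresentedGroup.toGroup.of hrel⟩
    · exact ⟨PresentedGroup.of 1, PresentedGroup.toGroup.of hrel⟩
    · exact ⟨PresentedGroup.of 2, PresentedGroup.toGroup.of hrel⟩
  have hbij : Function.Bijective (PresentedGroup.toGroup hrel) :=
    hsurj.bijective_of_nat_card_le hcard
  exact ⟨MulEquiv.ofBijective _ hbij⟩

/-- **Theorem T** for a presented group -/
theorem presented_bound {F : Type*} [Field F] [Fintype F] (p : ℕ) [Fact p.Prime]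
    [Algebra (ZMod p) F]
    (ζ : F) (hζ : ζ ≠ 0) (hgen : ∀ a : F, a ≠ 0 → ∃ i : ℤ, a = ζ ^ i)
    (d : ℤ) (θ : F) (hsurj : Function.Surjective (fun f : ℤ[X] => aeval θ f))
    (mt gt fz fzi : ℤ[X]) (hmt : mt.map (Int.castRingHom (ZMod p)) = minpoly (ZMod p) θ)
    (hgt : aeval θ gt = ζ ^ 2) (hfz : aeval θ fz = ζ) (hfzi : aeval θ fzi = ζ⁻¹)
    (rels : Set W3)
    (hcom : ∀ m n : ℤ, Commute (cj (PresentedGroup.mk rels fu) (PresentedGroup.mk rels fh) (d * m))
      (cj (PresentedGroup.mk rels fu) (PresentedGroup.mk rels fh) (d * n)))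
    (hR1 : wR1 p ∈ Subgroup.normalClosure rels)
    (hR3 : wR3 d mt ∈ Subgroup.normalClosure rels)
    (hR3' : wR3' d gt ∈ Subgroup.normalClosure rels)
    (hR4 : (2 : F) ≠ 0 → wR4 ∈ Subgroup.normalClosure rels)
    (hR5 : wR5 ∈ Subgroup.normalClosure rels)
    (hR6 : wR6 d fz fzi ∈ Subgroup.normalClosure rels) :
    Finite (PresentedGroup rels) ∧
    Nat.card (PresentedGroup rels) ≤
      Fintype.card F * (Fintype.card F + 1) * (Fintype.card F - 1) ∧
    (wR7 ∈ Subgroup.normalClosure rels → (2 : F) ≠ 0 →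
      2 * Nat.card (PresentedGroup rels) ≤
        Fintype.card F * (Fintype.card F + 1) * (Fintype.card F - 1)) := by
  have key : ∀ w : W3, w ∈ Subgroup.normalClosure rels → PresentedGroup.mk rels w = 1 :=
    fun w hw => PresentedGroup.mk_eq_one_iff.2 hw
  have hgen3 : Subgroup.closure {PresentedGroup.mk rels fu, PresentedGroup.mk rels ft,
      PresentedGroup.mk rels fh} = ⊤ := by
    rw [eq_top_iff, ← PresentedGroup.closure_range_of rels, Subgroup.closure_le]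
    rintro _ ⟨i, rfl⟩
    apply Subgroup.subset_closure
    fin_cases i
    · left; rfl
    · right; left; rfl
    · right; right; rfl
  obtain ⟨h1, h2, h3⟩ := relations_bound p ζ hζ hgen d θ hsurj mt gt fz fzi hmt hgt hfz hfzi
    (PresentedGroup.mk rels fu) (PresentedGroup.mk rels ft) (PresentedGroup.mk rels fh) hcom
    ((wR1_iff _ p).1 (key _ hR1)) ((wR3_iff _ d mt).1 (key _ hR3))
    ((wR3'_iff _ d gt).1 (key _ hR3')) (fun h2 => (wR4_iff _).1 (key _ (hR4 h2)))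
    ((wR5_iff _).1 (key _ hR5)) ((wR6_iff _ d fz fzi).1 (key _ hR6)) hgen3
  exact ⟨h1, h2, fun h7 h2F => h3 ((wR7_iff _).1 (key _ h7)) h2F⟩

end Cfsg.Agent.Lib.Helper7.Pres2
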