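import Mathlib
import Cfsg.Agent.Lib.Helper7.Pres2G

/-!
# The relators hold in `SL₂(F)`; the isomorphism theorems (helper7)
-/

set_option autoImplicit false

namespace Cfsg.Agent.Lib.Helper7.Pres2

open Polynomial

variable {F : Type*} [Field F]

/-- the three generators of `SL₂(F)` -/
def slgen (ζ : Fˣ) : Fin 3 → Matrix.SpecialLinearGroup (Fin 2) F :=
  ![slX 1, slT, slH ζ]

/-- the evaluation homomorphism -/
def slev (ζ : Fˣ) : W3 →* Matrix.SpecialLinearGroup (Fin 2) F := FreeGroup.lift (slgen ζ)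

theorem slev_fu (ζ : Fˣ) : slev ζ fu = slX (1 : F) := by
  simp [slev, fu, slgen]

theorem slev_ft (ζ : Fˣ) : slev ζ ft = (slT : Matrix.SpecialLinearGroup (Fin 2) F) := by
  simp [slev, ft, slgen]

theorem slev_fh (ζ : Fˣ) : slev ζ fh = slH ζ := by
  simp [slev, fh, slgen]

theorem slX_pow (a : F) (n : ℕ) : slX a ^ n = slX (n * a) := by
  induction n with
  | zero => simp [slX_zero]
  | succ n ih =>
    rw [pow_succ, ih, ← slX_add]
    congr 1
    push_cast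
    ring

theorem slX_comm (a b : F) : Commute (slX a) (slX b) := by
  show slX a * slX b = slX b * slX a
  rw [← slX_add, ← slX_add, add_comm]

theorem sl_wR1 (p : ℕ) [CharP F p] (ζ : Fˣ) : slev ζ (wR1 p) = 1 := by
  rw [wR1_iff, slev_fu, slX_pow, CharP.cast_eq_zero, zero_mul, slX_zero]

theorem sl_wC (ζ : Fˣ) (l : ℤ) : slev ζ (wC l) = 1 := by
  rw [wC_iff, slev_fu, slev_fh, cj_sl]
  exact slX_comm _ _

theorem sl_wR2 (ζ : Fˣ) (k l : ℤ) (hkl : (ζ : F) ^ (2 * k) = 1 + (ζ : F) ^ (2 * l)) :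
    slev ζ (wR2 k l) = 1 := by
  rw [wR2_iff, slev_fu, slev_fh, cj_sl, cj_sl, hkl, slX_add]

theorem sl_wR3 (p : ℕ) [Fact p.Prime] [Algebra (ZMod p) F] (ζ : Fˣ) (d : ℤ) (mt : ℤ[X])
    (hmt : mt.map (Int.castRingHom (ZMod p)) = minpoly (ZMod p) ((ζ : F) ^ (2 * d))) :
    slev ζ (wR3 d mt) = 1 := by
  rw [wR3_iff, slev_fu, slev_fh, pw_sl, ← aeval_map_zmod p, hmt, minpoly.aeval, slX_zero]

theorem sl_wR3' (ζ : Fˣ) (d : ℤ) (gt : ℤ[X]) (hgt : aeval ((ζ : F) ^ (2 * d)) gt = (ζ : F) ^ 2) :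
    slev ζ (wR3' d gt) = 1 := by
  rw [wR3'_iff, slev_fu, slev_fh, pw_sl, hgt, slH_conj_slX, mul_one]

theorem sl_wR4 (ζ : Fˣ) : slev ζ (wR4 : W3) = 1 := by
  rw [wR4_iff, slev_ft, slev_fh, slT_conj_slH]

theorem sl_wR5 (ζ : Fˣ) : slev ζ (wR5 : W3) = 1 := by
  rw [wR5_iff, slev_ft, slev_fu, slT_conj_slX]
  exact slT_eq

theorem sl_wR6 (ζ : Fˣ) (d : ℤ) (fz fzi : ℤ[X]) (hfz : aeval ((ζ : F) ^ (2 * d)) fz = (ζ : F))
    (hfzi : aeval ((ζ : F) ^ (2 * d)) fzi = (ζ : F)⁻¹) :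
    slev ζ (wR6 d fz fzi) = 1 := by
  rw [wR6_iff, slev_ft, slev_fu, slev_fh, pw_sl, pw_sl, hfz, hfzi, slT_conj_slX, slH_mul_slT]
  simp

theorem sl_wR7 (ζ : Fˣ) : slev ζ (wR7 : W3) ∈
    Subgroup.center (Matrix.SpecialLinearGroup (Fin 2) F) := by
  rw [Subgroup.mem_center_iff]
  intro g
  have : slev ζ (wR7 : W3) = slT * slT := by
    unfold wR7; rw [map_mul, slev_ft]
  rw [this]
  exact slT_sq_comm g

section equiv

variable [Fintype F] (p : ℕ) [Fact p.Prime] [Algebra (ZMod p) F]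
  (ζ : Fˣ) (hζgen : ∀ x : Fˣ, x ∈ Subgroup.zpowers ζ)
  (d : ℤ) (hsurj : Function.Surjective (fun f : ℤ[X] => aeval ((ζ : F) ^ (2 * d)) f))
  (mt gt fz fzi : ℤ[X])
  (hmt : mt.map (Int.castRingHom (ZMod p)) = minpoly (ZMod p) ((ζ : F) ^ (2 * d)))
  (hgt : aeval ((ζ : F) ^ (2 * d)) gt = (ζ : F) ^ 2)
  (hfz : aeval ((ζ : F) ^ (2 * d)) fz = (ζ : F))
  (hfzi : aeval ((ζ : F) ^ (2 * d)) fzi = (ζ : F)⁻¹)
  (rels : Set W3)
  (hcom : ∀ m n : ℤ, Commute (cj (PresentedGroup.mk rels fu) (PresentedGroup.mk rels fh) (d * m))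
    (cj (PresentedGroup.mk rels fu) (PresentedGroup.mk rels fh) (d * n)))
  (hR1 : wR1 p ∈ Subgroup.normalClosure rels)
  (hR3 : wR3 d mt ∈ Subgroup.normalClosure rels)
  (hR3' : wR3' d gt ∈ Subgroup.normalClosure rels)
  (hR4 : (2 : F) ≠ 0 → wR4 ∈ Subgroup.normalClosure rels)
  (hR5 : wR5 ∈ Subgroup.normalClosure rels)
  (hR6 : wR6 d fz fzi ∈ Subgroup.normalClosure rels)

include hζgen in
theorem hgen_of_zpowers (a : F) (ha : a ≠ 0) : ∃ i : ℤ, a = (ζ : F) ^ i := by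
  obtain ⟨i, hi⟩ := Subgroup.mem_zpowers_iff.1 (hζgen (Units.mk0 a ha))
  refine ⟨i, ?_⟩
  have := congrArg Units.val hi
  rw [Units.val_zpow_eq_zpow_val, Units.val_mk0] at this
  exact this.symm

theorem slgen_closure (hsurj : Function.Surjective (fun f : ℤ[X] => aeval ((ζ : F) ^ (2 * d)) f)) :
    Subgroup.closure {slgen ζ 0, slgen ζ 1, slgen ζ 2} = ⊤ :=
  sl_closure_eq_top ζ d hsurj

include hζgen hsurj hmt hgt hfz hfzi hcom hR1 hR3 hR3' hR4 hR5 hR6 in
/-- **Theorem Q** for `SL₂` -/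
theorem sl2_equiv (hSL : ∀ r ∈ rels, FreeGroup.lift (slgen ζ) r = 1) :
    Nonempty (PresentedGroup rels ≃* Matrix.SpecialLinearGroup (Fin 2) F) := by
  obtain ⟨h1, h2, -⟩ := presented_bound p (ζ : F) ζ.ne_zero (hgen_of_zpowers ζ hζgen) d _ hsurj
    mt gt fz fzi hmt hgt hfz hfzi rels hcom hR1 hR3 hR3' hR4 hR5 hR6
  refine presented_equiv_of_bound rels (slgen ζ) hSL (slgen_closure ζ d hsurj) h1 ?_
  rw [card_sl2]
  exact h2

include hζgen hsurj hmt hgt hfz hfzi hcom hR1 hR3 hR3' hR4 hR5 hR6 in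
/-- **Theorem Q** for `PSL₂` -/
theorem psl2_equiv
    (hPSL : ∀ r ∈ rels, FreeGroup.lift (slgen ζ) r ∈
      Subgroup.center (Matrix.SpecialLinearGroup (Fin 2) F))
    (hR7 : (2 : F) ≠ 0 → wR7 ∈ Subgroup.normalClosure rels) :
    Nonempty (PresentedGroup rels ≃* Matrix.ProjectiveSpecialLinearGroup (Fin 2) F) := by
  obtain ⟨h1, h2, h3⟩ := presented_bound p (ζ : F) ζ.ne_zero (hgen_of_zpowers ζ hζgen) d _ hsurj
    mt gt fz fzi hmt hgt hfz hfzi rels hcom hR1 hR3 hR3' hR4 hR5 hR6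
  let π : Matrix.SpecialLinearGroup (Fin 2) F →* Matrix.ProjectiveSpecialLinearGroup (Fin 2) F :=
    QuotientGroup.mk' (Subgroup.center (Matrix.SpecialLinearGroup (Fin 2) F))
  have hπ : Function.Surjective π := QuotientGroup.mk'_surjective _
  have hlift : ∀ w : W3, FreeGroup.lift (fun i => π (slgen ζ i)) w =
      π (FreeGroup.lift (slgen ζ) w) := by
    intro w
    symm
    exact FreeGroup.lift_unique (π.comp (FreeGroup.lift (slgen ζ)))
      (fun x => by simp)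
  have hrel : ∀ r ∈ rels, FreeGroup.lift (fun i => π (slgen ζ i)) r = 1 := by
    intro r hr
    rw [hlift]
    exact (QuotientGroup.eq_one_iff _).2 (hPSL r hr)
  have hgen : Subgroup.closure {π (slgen ζ 0), π (slgen ζ 1), π (slgen ζ 2)} = ⊤ := by
    have h0 := slgen_closure ζ d hsurj
    have h1 : Subgroup.map π (Subgroup.closure {slgen ζ 0, slgen ζ 1, slgen ζ 2}) = ⊤ := by
      rw [h0]; exact Subgroup.map_top_of_surjective π hπ
    rw [MonoidHom.map_closure] at h1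
    rw [← h1]
    congr 1
    simp [Set.image_insert_eq]
  haveI : Finite (Matrix.ProjectiveSpecialLinearGroup (Fin 2) F) :=
    Finite.of_surjective π hπ
  refine presented_equiv_of_bound rels (fun i => π (slgen ζ i)) hrel hgen h1 ?_
  -- cardinalities
  have hc1 := Subgroup.card_eq_card_quotient_mul_card_subgroup
    (Subgroup.center (Matrix.SpecialLinearGroup (Fin 2) F))
  rw [Cfsg.Agent.S0243.card_center_sl 2 (by norm_num), card_sl2] at hc1
  have hP : Nat.card (Matrix.ProjectiveSpecialLinearGroup (Fin 2) F) =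
      Nat.card (Matrix.SpecialLinearGroup (Fin 2) F ⧸
        Subgroup.center (Matrix.SpecialLinearGroup (Fin 2) F)) := rfl
  rw [hP]
  by_cases h2F : (2 : F) = 0
  · -- even
    have hq : Fintype.card F % 2 = 0 := by
      haveI : CharP F 2 := by
        refine (CharP.charP_iff_prime_eq_zero Nat.prime_two).2 ?_
        exact_mod_cast h2F
      exact FiniteField.even_card_of_char_two (ringChar.eq F 2)
    have hg : Nat.gcd 2 (Fintype.card F - 1) = 1 := by
      have hq2 : 2 ≤ Fintype.card F := Fintype.one_lt_card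
      exact (Nat.Prime.coprime_iff_not_dvd Nat.prime_two).2 (by omega)
    rw [hg, mul_one] at hc1
    rw [← hc1]
    exact h2
  · have h3' := h3 (hR7 h2F) h2F
    rw [hc1] at h3'
    have hg : Nat.gcd 2 (Fintype.card F - 1) ≤ 2 := Nat.gcd_le_left _ (by norm_num)
    have : 2 * Nat.card (PresentedGroup rels) ≤
        2 * Nat.card (Matrix.SpecialLinearGroup (Fin 2) F ⧸
          Subgroup.center (Matrix.SpecialLinearGroup (Fin 2) F)) := by
      calc 2 * Nat.card (PresentedGroup rels) ≤ _ := h3'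
        _ ≤ Nat.card (Matrix.SpecialLinearGroup (Fin 2) F ⧸
          Subgroup.center (Matrix.SpecialLinearGroup (Fin 2) F)) * 2 :=
            Nat.mul_le_mul_left _ hg
        _ = _ := by ring
    omega

end equiv

end Cfsg.Agent.Lib.Helper7.Pres2
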