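import Mathlib
import Cfsg.Agent.Lib.Helper7.Pres2E

/-!
# Generation of a finite field by one element; commutation from few relations (helper7)
-/

set_option autoImplicit false

namespace Cfsg.Agent.Lib.Helper7.Pres2

open Polynomial

/-- **Lemma G**: if `θ` is not fixed by a proper power of the Frobenius then `𝔽_p[θ] = F`. -/
theorem aeval_surjective_of_frob {F : Type*} [Field F] [Fintype F] (p : ℕ) [Fact p.Prime]
    [Algebra (ZMod p) F] (e : ℕ) (hcard : Fintype.card F = p ^ e) (θ : F)
    (hθ : ∀ r : ℕ, 0 < r → r < e → θ ^ (p ^ r) ≠ θ) :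
    Function.Surjective (fun f : ℤ[X] => aeval θ f) := by
  classical
  have hp : p.Prime := Fact.out
  let K : IntermediateField (ZMod p) F := IntermediateField.adjoin (ZMod p) {θ}
  have hθK : θ ∈ K := IntermediateField.mem_adjoin_simple_self _ θ
  have hKcard : p ^ Module.finrank (ZMod p) K = Nat.card K :=
    FiniteField.pow_finrank_eq_natCard p K
  have hFcard : p ^ Module.finrank (ZMod p) F = Nat.card F :=
    FiniteField.pow_finrank_eq_natCard p F
  have hFe : Module.finrank (ZMod p) F = e := by
    rw [Nat.card_eq_fintype_card, hcard] at hFcard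
    exact Nat.pow_right_injective hp.two_le hFcard
  have hm_le : Module.finrank (ZMod p) K ≤ e := by
    rw [← hFe]
    exact Submodule.finrank_le K.toSubalgebra.toSubmodule
  have hm_pos : 0 < Module.finrank (ZMod p) K := Module.finrank_pos
  have hpow : θ ^ (p ^ Module.finrank (ZMod p) K) = θ := by
    haveI : Fintype K := Fintype.ofFinite K
    have h1 := FiniteField.pow_card (⟨θ, hθK⟩ : K)
    rw [Fintype.card_eq_nat_card, ← hKcard] at h1
    have := congrArg Subtype.val h1
    simpa using this
  have hme : Module.finrank (ZMod p) K = e := by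
    by_contra hne
    exact hθ _ hm_pos (lt_of_le_of_ne hm_le hne) hpow
  have htop : ∀ a : F, a ∈ K := by
    have hinj : Function.Injective (Subtype.val : K → F) := Subtype.val_injective
    have hbij := hinj.bijective_of_nat_card_le (by
      rw [← hKcard, hme, Nat.card_eq_fintype_card, hcard])
    intro a
    obtain ⟨⟨b, hb⟩, rfl⟩ := hbij.2 a
    exact hb
  intro a
  have ha : a ∈ K.toSubalgebra := htop a
  rw [IntermediateField.adjoin_simple_toSubalgebra_of_isAlgebraic (IsAlgebraic.of_finite _ θ),
    Algebra.adjoin_singleton_eq_range_aeval] at ha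
  obtain ⟨g, hg⟩ := ha
  obtain ⟨f, rfl⟩ := Polynomial.map_surjective (Int.castRingHom (ZMod p))
    (ZMod.intCast_surjective) g
  exact ⟨f, by show aeval θ f = a; rw [← aeval_map_zmod p]; exact hg⟩

section generator

variable {F : Type*} [Field F] [Fintype F] (ζ : Fˣ) (hζgen : ∀ x : Fˣ, x ∈ Subgroup.zpowers ζ)

include hζgen in
theorem orderOf_gen : orderOf ζ = Fintype.card F - 1 := by
  classical
  rw [orderOf_eq_card_of_forall_mem_zpowers hζgen, Nat.card_eq_fintype_card, Fintype.card_units]

include hζgen in
theorem gen_pow_eq_one (n : ℕ) (h : (ζ : F) ^ n = 1) : (Fintype.card F - 1) ∣ n := by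
  rw [← orderOf_gen ζ hζgen]
  apply orderOf_dvd_of_pow_eq_one
  ext
  rw [Units.val_pow_eq_pow_val, h, Units.val_one]

include hζgen in
theorem gen_nat (a : F) (ha : a ≠ 0) : ∃ i : ℕ, a = (ζ : F) ^ i := by
  have h1 : Units.mk0 a ha ∈ Subgroup.zpowers ζ := hζgen _
  obtain ⟨i, hi⟩ := mem_powers_iff_mem_zpowers.mpr h1
  refine ⟨i, ?_⟩
  have := congrArg Units.val hi
  simp only [Units.val_pow_eq_pow_val, Units.val_mk0] at this
  exact this.symm

end generator

section comm

variable {G : Type*} [Group G]

theorem hcom_of_nat (u h : G) (hc : ∀ j : ℕ, Commute u (cj u h j)) (m n : ℤ) :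
    Commute (cj u h m) (cj u h n) := by
  rcases le_total m n with hmn | hmn
  · obtain ⟨j, hj⟩ := Int.le.dest hmn
    have h0 : Commute (cj u h 0) (cj u h j) := by rw [cj_zero]; exact hc j
    have := commute_cj_shift u h m 0 j h0
    rwa [add_zero, hj] at this
  · obtain ⟨j, hj⟩ := Int.le.dest hmn
    have h0 : Commute (cj u h 0) (cj u h j) := by rw [cj_zero]; exact hc j
    have := commute_cj_shift u h n 0 j h0
    rw [add_zero, hj] at this
    exact this.symm

/-- commutation from `e - 1` commutators and one monic relation of degree `e` -/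
theorem direct_comm (u h : G) (mt : ℤ[X]) (hmonic : mt.Monic) (hpos : 0 < mt.natDegree)
    (hc : ∀ j : ℕ, j < mt.natDegree → Commute u (cj u h j)) (hm : pw u h 1 mt = 1) :
    ∀ j : ℕ, Commute u (cj u h j) := by
  classical
  set e := mt.natDegree with he
  let k : Set G := {g | ∃ j : ℕ, j < e ∧ g = cj u h j}
  have hk : ∀ x ∈ k, ∀ y ∈ k, x * y = y * x := by
    rintro _ ⟨i, hi, rfl⟩ _ ⟨j, hj, rfl⟩
    rcases le_total i j with hij | hij
    · obtain ⟨r, rfl⟩ := Nat.exists_eq_add_of_le hij
      have h0 : Commute (cj u h 0) (cj u h r) := by rw [cj_zero]; exact hc r (by omega)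
      have := commute_cj_shift u h i 0 r h0
      rw [add_zero] at this
      push_cast
      exact this
    · obtain ⟨r, rfl⟩ := Nat.exists_eq_add_of_le hij
      have h0 : Commute (cj u h 0) (cj u h r) := by rw [cj_zero]; exact hc r (by omega)
      have := commute_cj_shift u h j 0 r h0
      rw [add_zero] at this
      push_cast
      exact this.symm
  let B : Subgroup G := Subgroup.closure k
  have hBcomm : ∀ x ∈ B, ∀ y ∈ B, Commute x y := by
    letI : CommGroup B := Subgroup.closureCommGroupOfComm hk
    intro x hx y hy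
    have := mul_comm (⟨x, hx⟩ : B) ⟨y, hy⟩
    exact congrArg Subtype.val this
  have hgenB : ∀ j : ℕ, j < e → cj u h j ∈ B := fun j hj => Subgroup.subset_closure ⟨j, hj, rfl⟩
  -- `a_e ∈ B`
  have hae : cj u h e ∈ B := by
    unfold pw at hm
    rw [← he, List.range_succ, List.map_append, List.prod_append] at hm
    simp only [List.map_cons, List.map_nil, List.prod_cons, List.prod_nil, mul_one] at hm
    have hlead : mt.coeff e = 1 := by rw [he]; exact hmonic.coeff_natDegree
    rw [hlead, zpow_one, one_mul] at hm
    have hP : ((List.range e).map (fun j : ℕ => cj u h (1 * (j : ℤ)) ^ mt.coeff j)).prod ∈ B := by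
      apply list_prod_mem
      intro g hg
      rw [List.mem_map] at hg
      obtain ⟨j, hj, rfl⟩ := hg
      rw [List.mem_range] at hj
      rw [one_mul]
      exact zpow_mem (hgenB j hj) _
    have : cj u h e = (((List.range e).map (fun j : ℕ => cj u h (1 * (j : ℤ)) ^ mt.coeff j)).prod)⁻¹ :=
      eq_inv_of_mul_eq_one_right hm
    rw [this]
    exact inv_mem hP
  -- all conjugates are in `B`
  have hall : ∀ n : ℕ, cj u h n ∈ B := by
    intro n
    induction n using Nat.strong_induction_on with
    | _ n ih =>
      by_cases hn : n < e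
      · exact hgenB n hn
      · obtain ⟨m, rfl⟩ := Nat.exists_eq_add_of_le (not_lt.1 hn)
        have hconj : ∀ g ∈ B, h ^ (m : ℤ) * g * (h ^ (m : ℤ))⁻¹ ∈ B := by
          intro g hg
          induction hg using Subgroup.closure_induction with
          | mem x hx =>
            obtain ⟨j, hj, rfl⟩ := hx
            rw [conj_cj]
            have := ih (m + j) (by omega)
            push_cast at this
            exact this
          | one => simp
          | mul x y _ _ hx hy =>
            have : h ^ (m : ℤ) * (x * y) * (h ^ (m : ℤ))⁻¹ =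
                (h ^ (m : ℤ) * x * (h ^ (m : ℤ))⁻¹) * (h ^ (m : ℤ) * y * (h ^ (m : ℤ))⁻¹) := by group
            rw [this]; exact mul_mem hx hy
          | inv x _ hx =>
            have : h ^ (m : ℤ) * x⁻¹ * (h ^ (m : ℤ))⁻¹ = (h ^ (m : ℤ) * x * (h ^ (m : ℤ))⁻¹)⁻¹ := by
              group
            rw [this]; exact inv_mem hx
        have := hconj _ hae
        rw [conj_cj] at this
        have e2 : ((e + m : ℕ) : ℤ) = (m : ℤ) + (e : ℤ) := by push_cast; ring
        rw [e2]
        exact this
  intro j
  have hu : u ∈ B := by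
    have := hgenB 0 hpos
    simpa [cj_zero] using this
  exact hBcomm u hu _ (hall j)

end comm

end Cfsg.Agent.Lib.Helper7.Pres2
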