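import Mathlib
import Cfsg.Agent.Lib.Helper7.Pres2H
import Cfsg.Agent.Lib.Helper7.Pres2I

/-!
# The scheme: core relators plus a few extra ones (helper7)
-/

set_option autoImplicit false

namespace Cfsg.Agent.Lib.Helper7.Pres2

open Polynomial

/-- the core relators -/
noncomputable def coreRels (p : ℕ) (d : ℤ) (mt fz fzi : ℤ[X]) (odd : Bool) : List W3 :=
  [wR1 p, wR3 d mt, wR5, wR6 d fz fzi] ++ (if odd then [wR4] else [])

theorem coreRels_length_le (p : ℕ) (d : ℤ) (mt fz fzi : ℤ[X]) (odd : Bool) :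
    (coreRels p d mt fz fzi odd).length ≤ 5 := by
  unfold coreRels
  cases odd <;> simp

theorem coreRels_length_even (p : ℕ) (d : ℤ) (mt fz fzi : ℤ[X]) :
    (coreRels p d mt fz fzi false).length = 4 := by
  unfold coreRels
  simp

variable {F : Type*} [Field F] [Fintype F] (p : ℕ) [Fact p.Prime] [Algebra (ZMod p) F] [CharP F p]
  (ζ : Fˣ) (hζgen : ∀ x : Fˣ, x ∈ Subgroup.zpowers ζ)
  (d : ℤ) (hsurj : Function.Surjective (fun f : ℤ[X] => aeval ((ζ : F) ^ (2 * d)) f))
  (mt gt fz fzi : ℤ[X])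
  (hmt : mt.map (Int.castRingHom (ZMod p)) = minpoly (ZMod p) ((ζ : F) ^ (2 * d)))
  (hgt : aeval ((ζ : F) ^ (2 * d)) gt = (ζ : F) ^ 2)
  (hfz : aeval ((ζ : F) ^ (2 * d)) fz = (ζ : F))
  (hfzi : aeval ((ζ : F) ^ (2 * d)) fzi = (ζ : F)⁻¹)
  (odd : Bool) (hodd : (2 : F) ≠ 0 → odd = true)
  (extra : List W3) (hextraSL : ∀ r ∈ extra, slev ζ r = 1)
  (h3' : wR3' d gt ∈ extra ∨ wR3' d gt = 1)
  (hcom' : ∀ {G : Type} [Group G] (φ : W3 →* G),
    (∀ r ∈ coreRels p d mt fz fzi odd ++ extra, φ r = 1) →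
    ∀ m n : ℤ, Commute (cj (φ fu) (φ fh) (d * m)) (cj (φ fu) (φ fh) (d * n)))

include hmt hfz hfzi hextraSL in
theorem scheme_sl_rel (r : W3) (hr : r ∈ coreRels p d mt fz fzi odd ++ extra) : slev ζ r = 1 := by
  rw [List.mem_append] at hr
  rcases hr with hr | hr
  · unfold coreRels at hr
    rw [List.mem_append] at hr
    rcases hr with hr | hr
    · simp only [List.mem_cons, List.not_mem_nil, or_false] at hr
      rcases hr with rfl | rfl | rfl | rfl
      · exact sl_wR1 p ζ
      · exact sl_wR3 p ζ d mt hmt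
      · exact sl_wR5 ζ
      · exact sl_wR6 ζ d fz fzi hfz hfzi
    · cases odd
      · simp at hr
      · simp only [if_true, List.mem_cons, List.not_mem_nil, or_false] at hr
        subst hr
        exact sl_wR4 ζ
  · exact hextraSL r hr

include hζgen hsurj hmt hgt hfz hfzi hodd hextraSL h3' hcom' in
/-- **Theorem R** -/
theorem scheme :
    Nonempty (PresentedGroup (↑(coreRels p d mt fz fzi odd ++ extra).toFinset : Set W3) ≃*
      Matrix.SpecialLinearGroup (Fin 2) F) ∧
    Nonempty (PresentedGroup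
      (↑(insert wR7 (coreRels p d mt fz fzi odd ++ extra).toFinset) : Set W3) ≃*
      Matrix.ProjectiveSpecialLinearGroup (Fin 2) F) ∧
    ((2 : F) = 0 → Nonempty (PresentedGroup
      (↑(coreRels p d mt fz fzi odd ++ extra).toFinset : Set W3) ≃*
      Matrix.ProjectiveSpecialLinearGroup (Fin 2) F)) := by
  classical
  -- memberships in the list
  have m1 : wR1 p ∈ coreRels p d mt fz fzi odd ++ extra := by
    unfold coreRels; simp
  have m3 : wR3 d mt ∈ coreRels p d mt fz fzi odd ++ extra := by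
    unfold coreRels; simp
  have m5 : wR5 ∈ coreRels p d mt fz fzi odd ++ extra := by
    unfold coreRels; simp
  have m6 : wR6 d fz fzi ∈ coreRels p d mt fz fzi odd ++ extra := by
    unfold coreRels; simp
  have m4 : (2 : F) ≠ 0 → wR4 ∈ coreRels p d mt fz fzi odd ++ extra := by
    intro h2
    rw [hodd h2]
    unfold coreRels; simp
  have hSLall := scheme_sl_rel p ζ d mt fz fzi hmt hfz hfzi odd extra hextraSL
  -- a general statement for a set of relators containing the list
  have main : ∀ rels : Set W3, (∀ r ∈ coreRels p d mt fz fzi odd ++ extra, r ∈ rels) →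
      (∀ m n : ℤ, Commute (cj (PresentedGroup.mk rels fu) (PresentedGroup.mk rels fh) (d * m))
        (cj (PresentedGroup.mk rels fu) (PresentedGroup.mk rels fh) (d * n))) ∧
      wR1 p ∈ Subgroup.normalClosure rels ∧ wR3 d mt ∈ Subgroup.normalClosure rels ∧
      wR3' d gt ∈ Subgroup.normalClosure rels ∧
      ((2 : F) ≠ 0 → wR4 ∈ Subgroup.normalClosure rels) ∧
      wR5 ∈ Subgroup.normalClosure rels ∧ wR6 d fz fzi ∈ Subgroup.normalClosure rels := by
    intro rels hsub
    refine ⟨?_, Subgroup.subset_normalClosure (hsub _ m1), Subgroup.subset_normalClosure (hsub _ m3),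
      ?_, fun h2 => Subgroup.subset_normalClosure (hsub _ (m4 h2)),
      Subgroup.subset_normalClosure (hsub _ m5), Subgroup.subset_normalClosure (hsub _ m6)⟩
    · exact hcom' (PresentedGroup.mk rels) (fun r hr => PresentedGroup.one_of_mem (hsub r hr))
    · rcases h3' with h | h
      · exact Subgroup.subset_normalClosure (hsub _ (List.mem_append_right _ h))
      · rw [h]; exact one_mem _
  have hsub1 : ∀ r ∈ coreRels p d mt fz fzi odd ++ extra,
      r ∈ (↑(coreRels p d mt fz fzi odd ++ extra).toFinset : Set W3) := by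
    intro r hr
    rw [Finset.mem_coe, List.mem_toFinset]
    exact hr
  have hsub2 : ∀ r ∈ coreRels p d mt fz fzi odd ++ extra,
      r ∈ (↑(insert wR7 (coreRels p d mt fz fzi odd ++ extra).toFinset) : Set W3) := by
    intro r hr
    rw [Finset.mem_coe, Finset.mem_insert, List.mem_toFinset]
    exact Or.inr hr
  obtain ⟨c1, a1, a3, a3', a4, a5, a6⟩ := main _ hsub1
  obtain ⟨c2, b1, b3, b3', b4, b5, b6⟩ := main _ hsub2
  have hSL1 : ∀ r ∈ (↑(coreRels p d mt fz fzi odd ++ extra).toFinset : Set W3),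
      FreeGroup.lift (slgen ζ) r = 1 := by
    intro r hr
    rw [Finset.mem_coe, List.mem_toFinset] at hr
    exact hSLall r hr
  refine ⟨?_, ?_, ?_⟩
  · exact sl2_equiv p ζ hζgen d hsurj mt gt fz fzi hmt hgt hfz hfzi _ c1 a1 a3 a3' a4 a5 a6 hSL1
  · refine psl2_equiv p ζ hζgen d hsurj mt gt fz fzi hmt hgt hfz hfzi _ c2 b1 b3 b3' b4 b5 b6 ?_ ?_
    · intro r hr
      rw [Finset.mem_coe, Finset.mem_insert, List.mem_toFinset] at hr
      rcases hr with rfl | hr
      · exact sl_wR7 ζ
      · have := hSLall r hr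
        unfold slev at this
        rw [this]
        exact one_mem _
    · intro _
      apply Subgroup.subset_normalClosure
      rw [Finset.mem_coe, Finset.mem_insert]
      exact Or.inl rfl
  · intro h2
    refine psl2_equiv p ζ hζgen d hsurj mt gt fz fzi hmt hgt hfz hfzi _ c1 a1 a3 a3' a4 a5 a6 ?_ ?_
    · intro r hr
      rw [hSL1 r hr]
      exact one_mem _
    · intro h2'
      exact absurd h2 h2'

end Cfsg.Agent.Lib.Helper7.Pres2
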