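import Mathlib
import Cfsg.Agent.Lib.Helper7.Pres2J

/-!
# Case `q = p` or `q = p²` (helper7)
-/

set_option autoImplicit false

namespace Cfsg.Agent.Lib.Helper7.Pres2

open Polynomial

variable {F : Type*} [Field F] [Fintype F] (p : ℕ) [Fact p.Prime] [Algebra (ZMod p) F] [CharP F p]
  (ζ : Fˣ) (hζgen : ∀ x : Fˣ, x ∈ Subgroup.zpowers ζ)

/-- choice of the auxiliary polynomials -/
theorem exists_polys (d : ℤ)
    (hsurj : Function.Surjective (fun f : ℤ[X] => aeval ((ζ : F) ^ (2 * d)) f)) :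
    ∃ mt gt fz fzi : ℤ[X], mt.Monic ∧
      mt.natDegree = (minpoly (ZMod p) ((ζ : F) ^ (2 * d))).natDegree ∧
      mt.map (Int.castRingHom (ZMod p)) = minpoly (ZMod p) ((ζ : F) ^ (2 * d)) ∧
      aeval ((ζ : F) ^ (2 * d)) gt = (ζ : F) ^ 2 ∧
      aeval ((ζ : F) ^ (2 * d)) fz = (ζ : F) ∧
      aeval ((ζ : F) ^ (2 * d)) fzi = (ζ : F)⁻¹ := by
  have hint : IsIntegral (ZMod p) ((ζ : F) ^ (2 * d)) := IsIntegral.of_finite _ _
  have hl : minpoly (ZMod p) ((ζ : F) ^ (2 * d)) ∈ Polynomial.lifts (Int.castRingHom (ZMod p)) := by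
    rw [Polynomial.mem_lifts]
    exact Polynomial.map_surjective _ ZMod.intCast_surjective _
  obtain ⟨mt, h1, h2, h3⟩ := Polynomial.lifts_and_natDegree_eq_and_monic hl (minpoly.monic hint)
  obtain ⟨gt, hgt⟩ := hsurj ((ζ : F) ^ 2)
  obtain ⟨fz, hfz⟩ := hsurj (ζ : F)
  obtain ⟨fzi, hfzi⟩ := hsurj (ζ : F)⁻¹
  exact ⟨mt, gt, fz, fzi, h3, h2, h1, hgt, hfz, hfzi⟩

include hζgen in
/-- the case `e ≤ 2` -/
theorem case_small (e : ℕ) (hcard : Fintype.card F = p ^ e) (he : e ≤ 2)
    (odd : Bool) (hodd : (2 : F) ≠ 0 → odd = true) :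
    ∃ L : List W3, L.length ≤ (if odd then 6 else 5) ∧
    Nonempty (PresentedGroup (↑L.toFinset : Set W3) ≃* Matrix.SpecialLinearGroup (Fin 2) F) ∧
    Nonempty (PresentedGroup (↑(insert wR7 L.toFinset) : Set W3) ≃*
      Matrix.ProjectiveSpecialLinearGroup (Fin 2) F) ∧
    ((2 : F) = 0 → Nonempty (PresentedGroup (↑L.toFinset : Set W3) ≃*
      Matrix.ProjectiveSpecialLinearGroup (Fin 2) F)) := by
  classical
  have hp : p.Prime := Fact.out
  have hθ2 : (ζ : F) ^ (2 * (1 : ℤ)) = (ζ : F) ^ 2 := by norm_num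
  have hζ0 : (ζ : F) ≠ 0 := ζ.ne_zero
  -- surjectivity
  have hsurj : Function.Surjective (fun f : ℤ[X] => aeval ((ζ : F) ^ (2 * (1 : ℤ))) f) := by
    apply aeval_surjective_of_frob p e hcard
    intro r hr0 hre
    have hr1 : r = 1 := by omega
    have he2 : e = 2 := by omega
    subst hr1
    subst he2
    rw [hθ2, pow_one]
    intro h
    -- `ζ ^ (2 p - 2) = 1`
    have h1 : (ζ : F) ^ (2 * p - 2) = 1 := by
      have h2 : (ζ : F) ^ 2 * (ζ : F) ^ (2 * p - 2) = (ζ : F) ^ 2 * 1 := by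
        rw [← pow_add, mul_one, ← h, ← pow_mul]
        congr 1
        have := hp.two_le
        omega
      exact mul_left_cancel₀ (pow_ne_zero 2 hζ0) h2
    have h3 := gen_pow_eq_one ζ hζgen _ h1
    rw [hcard] at h3
    have h4 : p ^ 2 - 1 ≤ 2 * p - 2 := Nat.le_of_dvd (by have := hp.two_le; omega) h3
    have h5 : 2 * p ≤ p ^ 2 := by
      have := hp.two_le
      nlinarith
    have h6 : 2 ≤ p := hp.two_le
    have h7 : 1 ≤ p ^ 2 := Nat.one_le_pow _ _ hp.pos
    omega
  obtain ⟨mt, -, fz, fzi, hmonic, hdeg, hmt, -, hfz, hfzi⟩ := exists_polys p ζ 1 hsurj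
  have hgt : aeval ((ζ : F) ^ (2 * (1 : ℤ))) (X : ℤ[X]) = (ζ : F) ^ 2 := by
    rw [aeval_X, hθ2]
  have hint : IsIntegral (ZMod p) ((ζ : F) ^ (2 * (1 : ℤ))) := IsIntegral.of_finite _ _
  have hdeg_pos : 0 < mt.natDegree := by rw [hdeg]; exact minpoly.natDegree_pos hint
  have hdeg_le : mt.natDegree ≤ 2 := by
    rw [hdeg]
    have h1 := minpoly.natDegree_le (A := ZMod p) ((ζ : F) ^ (2 * (1 : ℤ)))
    have hFcard : p ^ Module.finrank (ZMod p) F = Nat.card F :=
      FiniteField.pow_finrank_eq_natCard p F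
    rw [Nat.card_eq_fintype_card, hcard] at hFcard
    have := Nat.pow_right_injective hp.two_le hFcard
    omega
  refine ⟨coreRels p 1 mt fz fzi odd ++ [wC 1], ?_, ?_⟩
  · rw [List.length_append]
    cases odd
    · rw [coreRels_length_even]; simp
    · have := coreRels_length_le p 1 mt fz fzi true
      simp only [List.length_cons, List.length_nil, if_true]
      omega
  · apply scheme p ζ hζgen 1 hsurj mt X fz fzi hmt hgt hfz hfzi odd hodd [wC 1]
    · intro r hr
      simp only [List.mem_cons, List.not_mem_nil, or_false] at hr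
      subst hr
      exact sl_wC ζ 1
    · right
      exact wR3'_one_X
    · intro G _ φ hφ m n
      have hC : φ (wC 1) = 1 := hφ _ (by simp)
      have h3 : φ (wR3 1 mt) = 1 := hφ _ (by unfold coreRels; simp)
      rw [wC_iff] at hC
      rw [wR3_iff] at h3
      have hc : ∀ j : ℕ, j < mt.natDegree → Commute (φ fu) (cj (φ fu) (φ fh) j) := by
        intro j hj
        have hj' : j = 0 ∨ j = 1 := by omega
        rcases hj' with rfl | rfl
        · simp only [Nat.cast_zero, cj_zero]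
          exact Commute.refl _
        · simpa using hC
      have hall := direct_comm (φ fu) (φ fh) mt hmonic hdeg_pos hc h3
      have := hcom_of_nat (φ fu) (φ fh) hall m n
      simpa using this

end Cfsg.Agent.Lib.Helper7.Pres2
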