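import Mathlib
import Cfsg.Agent.Lib.Helper7.Pres2K

/-!
# Case `q = p ^ e`, `p` odd, `e ≥ 3` (helper7)
-/

set_option autoImplicit false

namespace Cfsg.Agent.Lib.Helper7.Pres2

open Polynomial

variable {F : Type*} [Field F] [Fintype F] (p : ℕ) [Fact p.Prime] [Algebra (ZMod p) F] [CharP F p]
  (ζ : Fˣ) (hζgen : ∀ x : Fˣ, x ∈ Subgroup.zpowers ζ)

omit [Fintype F] [Algebra (ZMod p) F] in
/-- Frobenius power as a ring homomorphism -/
theorem frob_add (r : ℕ) (a b : F) : (a + b) ^ (p ^ r) = a ^ (p ^ r) + b ^ (p ^ r) :=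
  add_pow_char_pow a b p r

omit [Fintype F] [Algebra (ZMod p) F] in
theorem frob_natCast (r : ℕ) (n : ℕ) : ((n : F)) ^ (p ^ r) = n := by
  have := map_natCast (iterateFrobenius F p r) n
  rwa [iterateFrobenius_def] at this

include hζgen in
/-- the case `e ≥ 3`, odd characteristic -/
theorem case_odd_large (e : ℕ) (hcard : Fintype.card F = p ^ e) (he : 3 ≤ e) (h2 : (2 : F) ≠ 0) :
    ∃ L : List W3, L.length ≤ 8 ∧
    Nonempty (PresentedGroup (↑L.toFinset : Set W3) ≃* Matrix.SpecialLinearGroup (Fin 2) F) ∧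
    Nonempty (PresentedGroup (↑(insert wR7 L.toFinset) : Set W3) ≃*
      Matrix.ProjectiveSpecialLinearGroup (Fin 2) F) := by
  classical
  have hp : p.Prime := Fact.out
  have hζ0 : (ζ : F) ≠ 0 := ζ.ne_zero
  have hp3 : 3 ≤ p := by
    by_contra h
    have hp2 : p = 2 := by have := hp.two_le; omega
    apply h2
    have := CharP.cast_eq_zero F p
    rw [hp2] at this
    exact_mod_cast this
  have hq27 : 27 ≤ Fintype.card F := by
    rw [hcard]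
    calc 27 = 3 ^ 3 := by norm_num
      _ ≤ p ^ 3 := Nat.pow_le_pow_left hp3 3
      _ ≤ p ^ e := Nat.pow_le_pow_right hp.pos he
  have hord : ∀ n : ℕ, (ζ : F) ^ n = 1 → (Fintype.card F - 1) ∣ n := gen_pow_eq_one ζ hζgen
  have hz2 : (ζ : F) ^ 2 ≠ 1 := fun h => by
    have := Nat.le_of_dvd (by norm_num) (hord 2 h); omega
  have hz4 : (ζ : F) ^ 4 ≠ 1 := fun h => by
    have := Nat.le_of_dvd (by norm_num) (hord 4 h); omega
  have hc : ((ζ : F) - (ζ : F)⁻¹) / 2 ≠ 0 := by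
    intro h
    apply hz2
    have h1 : (ζ : F) - (ζ : F)⁻¹ = 0 := by
      rcases div_eq_zero_iff.1 h with h | h
      · exact h
      · exact absurd h h2
    have h3 : (ζ : F) = (ζ : F)⁻¹ := sub_eq_zero.1 h1
    calc (ζ : F) ^ 2 = (ζ : F) * (ζ : F) := sq _
      _ = (ζ : F) * (ζ : F)⁻¹ := by rw [← h3]
      _ = 1 := mul_inv_cancel₀ hζ0
  have hc' : ((ζ : F) + (ζ : F)⁻¹) / 2 ≠ 0 := by
    intro h
    apply hz4
    have h1 : (ζ : F) + (ζ : F)⁻¹ = 0 := by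
      rcases div_eq_zero_iff.1 h with h | h
      · exact h
      · exact absurd h h2
    have h3 : (ζ : F)⁻¹ = -(ζ : F) := by
      have := eq_neg_of_add_eq_zero_right h1
      exact this
    have h4 : (ζ : F) ^ 2 = -1 := by
      have : (ζ : F) * (ζ : F)⁻¹ = 1 := mul_inv_cancel₀ hζ0
      rw [h3] at this
      have h5 : (ζ : F) ^ 2 = -((ζ : F) * -(ζ : F)) := by ring
      rw [h5, this]
    calc (ζ : F) ^ 4 = ((ζ : F) ^ 2) ^ 2 := by ring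
      _ = 1 := by rw [h4]; ring
  have hcc : (((ζ : F) + (ζ : F)⁻¹) / 2) ^ 2 = 1 + (((ζ : F) - (ζ : F)⁻¹) / 2) ^ 2 := by
    field_simp
    ring
  obtain ⟨i, hi⟩ := gen_nat ζ hζgen _ hc
  obtain ⟨j, hj⟩ := gen_nat ζ hζgen _ hc'
  -- `d`
  have hdZ : ((Int.gcd (j : ℤ) (i : ℤ) : ℕ) : ℤ) = ((Nat.gcd j i : ℕ) : ℤ) := by
    rw [Int.gcd_natCast_natCast]
  have hθ : (ζ : F) ^ (2 * ((Int.gcd (j : ℤ) (i : ℤ) : ℕ) : ℤ)) = (ζ : F) ^ (2 * Nat.gcd j i) := by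
    rw [hdZ, show (2 * ((Nat.gcd j i : ℕ) : ℤ)) = ((2 * Nat.gcd j i : ℕ) : ℤ) by push_cast; ring,
      zpow_natCast]
  -- surjectivity
  have hsurj : Function.Surjective
      (fun f : ℤ[X] => aeval ((ζ : F) ^ (2 * ((Int.gcd (j : ℤ) (i : ℤ) : ℕ) : ℤ))) f) := by
    apply aeval_surjective_of_frob p e hcard
    intro r hr0 hre
    rw [hθ]
    intro h
    -- `b ^ Q = b`
    obtain ⟨i', hi'⟩ := Nat.gcd_dvd_right j i
    have hb : ((((ζ : F) - (ζ : F)⁻¹) / 2) ^ 2) ^ (p ^ r) = (((ζ : F) - (ζ : F)⁻¹) / 2) ^ 2 := by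
      have e1 : (((ζ : F) - (ζ : F)⁻¹) / 2) ^ 2 = ((ζ : F) ^ (2 * Nat.gcd j i)) ^ i' := by
        rw [hi, ← pow_mul, ← pow_mul]
        congr 1
        rw [mul_comm i 2, mul_assoc, ← hi']
      rw [e1, ← pow_mul, mul_comm i' (p ^ r), pow_mul, h]
    -- `s ^ Q = s`
    have hs : ((ζ : F) ^ 2 + ((ζ : F) ^ 2)⁻¹) ^ (p ^ r) = (ζ : F) ^ 2 + ((ζ : F) ^ 2)⁻¹ := by
      have e2 : (ζ : F) ^ 2 + ((ζ : F) ^ 2)⁻¹ =
          ((4 : ℕ) : F) * (((ζ : F) - (ζ : F)⁻¹) / 2) ^ 2 + ((2 : ℕ) : F) := by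
        push_cast
        field_simp
        ring
      rw [e2, frob_add, mul_pow, hb, frob_natCast, frob_natCast]
    have hz0 : (ζ : F) ^ 2 ≠ 0 := pow_ne_zero 2 hζ0
    have hy0 : ((ζ : F) ^ 2) ^ (p ^ r) ≠ 0 := pow_ne_zero _ hz0
    rw [frob_add, inv_pow] at hs
    have hprod : (((ζ : F) ^ 2) ^ (p ^ r) - (ζ : F) ^ 2) *
        (((ζ : F) ^ 2) ^ (p ^ r) - ((ζ : F) ^ 2)⁻¹) = 0 := by
      have e3 : (((ζ : F) ^ 2) ^ (p ^ r) - (ζ : F) ^ 2) *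
          (((ζ : F) ^ 2) ^ (p ^ r) - ((ζ : F) ^ 2)⁻¹) =
          ((ζ : F) ^ 2) ^ (p ^ r) * ((((ζ : F) ^ 2) ^ (p ^ r) + (((ζ : F) ^ 2) ^ (p ^ r))⁻¹) -
            ((ζ : F) ^ 2 + ((ζ : F) ^ 2)⁻¹)) := by
        field_simp
        ring
      rw [e3, hs, sub_self, mul_zero]
    have hQ3 : 3 ≤ p ^ r := by
      calc 3 ≤ p := hp3
        _ = p ^ 1 := (pow_one p).symm
        _ ≤ p ^ r := Nat.pow_le_pow_right hp.pos hr0
    have h3Q : 3 * p ^ r ≤ Fintype.card F := by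
      rw [hcard]
      calc 3 * p ^ r ≤ p * p ^ r := Nat.mul_le_mul_right _ hp3
        _ = p ^ (r + 1) := by rw [pow_succ]; ring
        _ ≤ p ^ e := Nat.pow_le_pow_right hp.pos (by omega)
    rcases mul_eq_zero.1 hprod with h | h
    · have h1 : ((ζ : F) ^ 2) ^ (p ^ r) = (ζ : F) ^ 2 := sub_eq_zero.1 h
      have h4 : (ζ : F) ^ (2 * p ^ r - 2) = 1 := by
        have h5 : (ζ : F) ^ 2 * (ζ : F) ^ (2 * p ^ r - 2) = (ζ : F) ^ 2 * 1 := by
          rw [← pow_add, mul_one, ← h1, ← pow_mul]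
          congr 1
          omega
        exact mul_left_cancel₀ hz0 h5
      have := Nat.le_of_dvd (by omega) (hord _ h4)
      omega
    · have h1 : ((ζ : F) ^ 2) ^ (p ^ r) = ((ζ : F) ^ 2)⁻¹ := sub_eq_zero.1 h
      have h4 : (ζ : F) ^ (2 * p ^ r + 2) = 1 := by
        rw [pow_add, pow_mul, h1, inv_mul_cancel₀ hz0]
      have := Nat.le_of_dvd (by omega) (hord _ h4)
      omega
  obtain ⟨mt, gt, fz, fzi, -, -, hmt, hgt, hfz, hfzi⟩ :=
    exists_polys p ζ ((Int.gcd (j : ℤ) (i : ℤ) : ℕ) : ℤ) hsurj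
  have hkl : (ζ : F) ^ (2 * (j : ℤ)) = 1 + (ζ : F) ^ (2 * (i : ℤ)) := by
    rw [show (2 * (j : ℤ)) = ((j * 2 : ℕ) : ℤ) by push_cast; ring,
      show (2 * (i : ℤ)) = ((i * 2 : ℕ) : ℤ) by push_cast; ring, zpow_natCast, zpow_natCast,
      pow_mul, pow_mul, ← hi, ← hj]
    exact hcc
  refine ⟨coreRels p ((Int.gcd (j : ℤ) (i : ℤ) : ℕ) : ℤ) mt fz fzi true ++
    [wC (i : ℤ), wR2 (j : ℤ) (i : ℤ), wR3' ((Int.gcd (j : ℤ) (i : ℤ) : ℕ) : ℤ) gt], ?_, ?_⟩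
  · rw [List.length_append]
    have := coreRels_length_le p ((Int.gcd (j : ℤ) (i : ℤ) : ℕ) : ℤ) mt fz fzi true
    simp only [List.length_cons, List.length_nil]
    omega
  · have := scheme p ζ hζgen ((Int.gcd (j : ℤ) (i : ℤ) : ℕ) : ℤ) hsurj mt gt fz fzi hmt hgt hfz hfzi
      true (fun _ => rfl)
      [wC (i : ℤ), wR2 (j : ℤ) (i : ℤ), wR3' ((Int.gcd (j : ℤ) (i : ℤ) : ℕ) : ℤ) gt] ?_ ?_ ?_
    · exact ⟨this.1, this.2.1⟩
    · intro r hr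
      simp only [List.mem_cons, List.not_mem_nil, or_false] at hr
      rcases hr with rfl | rfl | rfl
      · exact sl_wC ζ _
      · exact sl_wR2 ζ _ _ hkl
      · exact sl_wR3' ζ _ gt hgt
    · left
      simp
    · intro G _ φ hφ m n
      have hC : φ (wC (i : ℤ)) = 1 := hφ _ (by simp)
      have hR2 : φ (wR2 (j : ℤ) (i : ℤ)) = 1 := hφ _ (by simp)
      rw [wC_iff] at hC
      rw [wR2_iff] at hR2
      exact commute_gcd (φ fu) (φ fh) (j : ℤ) (i : ℤ) hR2 hC m n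

end Cfsg.Agent.Lib.Helper7.Pres2
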