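import Mathlib
import Cfsg.Agent.Lib.Helper7.Pres2L

/-!
# Case `q = 2 ^ e`, `e ≥ 3` (helper7)
-/

set_option autoImplicit false

namespace Cfsg.Agent.Lib.Helper7.Pres2

open Polynomial

variable {F : Type*} [Field F] [Fintype F] [Fact (Nat.Prime 2)] [Algebra (ZMod 2) F] [CharP F 2]
  (ζ : Fˣ) (hζgen : ∀ x : Fˣ, x ∈ Subgroup.zpowers ζ)

/-- involutions: `a = u b` with `a² = u² = b² = 1` gives `u b = b u` -/
theorem commute_of_invol {G : Type*} [Group G] (u a b : G) (hu : u * u = 1) (ha : a * a = 1)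
    (hb : b * b = 1) (hab : a = u * b) : Commute u b := by
  show u * b = b * u
  have h1 : (u * b) * (u * b) = 1 := by rw [← hab]; exact ha
  have hui : u⁻¹ = u := inv_eq_of_mul_eq_one_left hu
  have hbi : b⁻¹ = b := inv_eq_of_mul_eq_one_left hb
  have h2 : u * b = (u * b)⁻¹ := eq_inv_of_mul_eq_one_left h1
  rw [h2, mul_inv_rev, hui, hbi]

include hζgen in
/-- the case `e ≥ 3`, characteristic two -/
theorem case_even_large (e : ℕ) (hcard : Fintype.card F = 2 ^ e) (he : 3 ≤ e) :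
    ∃ L : List W3, L.length ≤ 5 ∧
    Nonempty (PresentedGroup (↑L.toFinset : Set W3) ≃* Matrix.SpecialLinearGroup (Fin 2) F) ∧
    Nonempty (PresentedGroup (↑L.toFinset : Set W3) ≃*
      Matrix.ProjectiveSpecialLinearGroup (Fin 2) F) := by
  classical
  have hζ0 : (ζ : F) ≠ 0 := ζ.ne_zero
  have h2F : (2 : F) = 0 := by
    have := CharP.cast_eq_zero F 2
    exact_mod_cast this
  have hq8 : 8 ≤ Fintype.card F := by
    rw [hcard]
    calc 8 = 2 ^ 3 := by norm_num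
      _ ≤ 2 ^ e := Nat.pow_le_pow_right (by norm_num) he
  have hord : ∀ n : ℕ, (ζ : F) ^ n = 1 → (Fintype.card F - 1) ∣ n := gen_pow_eq_one ζ hζgen
  have hz2 : (ζ : F) ^ 2 ≠ 1 := fun h => by
    have := Nat.le_of_dvd (by norm_num) (hord 2 h); omega
  have hw1 : (ζ : F) ^ 2 - 1 ≠ 0 := sub_ne_zero.2 hz2
  have hθ2 : (ζ : F) ^ (2 * (1 : ℤ)) = (ζ : F) ^ 2 := by norm_num
  -- the square root of `(ω - 1)⁻¹`
  have hqeven : Fintype.card F = 2 * (Fintype.card F / 2) := by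
    rw [hcard]
    obtain ⟨e', rfl⟩ : ∃ e', e = e' + 1 := ⟨e - 1, by omega⟩
    rw [pow_succ]
    omega
  have hv : ((((ζ : F) ^ 2 - 1)⁻¹) ^ (Fintype.card F / 2)) ^ 2 = ((ζ : F) ^ 2 - 1)⁻¹ := by
    rw [← pow_mul, mul_comm, ← hqeven, FiniteField.pow_card]
  have hv0 : (((ζ : F) ^ 2 - 1)⁻¹) ^ (Fintype.card F / 2) ≠ 0 := pow_ne_zero _ (inv_ne_zero hw1)
  obtain ⟨l, hl⟩ := gen_nat ζ hζgen _ hv0
  have hl2 : (ζ : F) ^ (2 * l) = ((ζ : F) ^ 2 - 1)⁻¹ := by
    rw [mul_comm, pow_mul, ← hl, hv]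
  have hkl : (ζ : F) ^ (2 * ((l : ℤ) + 1)) = 1 + (ζ : F) ^ (2 * (l : ℤ)) := by
    rw [show (2 * ((l : ℤ) + 1)) = ((2 * l + 2 : ℕ) : ℤ) by push_cast; ring,
      show (2 * (l : ℤ)) = ((2 * l : ℕ) : ℤ) by push_cast; ring, zpow_natCast, zpow_natCast,
      pow_add, hl2]
    field_simp
    ring
  -- surjectivity
  have hsurj : Function.Surjective (fun f : ℤ[X] => aeval ((ζ : F) ^ (2 * (1 : ℤ))) f) := by
    apply aeval_surjective_of_frob 2 e hcard
    intro r hr0 hre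
    rw [hθ2]
    intro h
    have hQ2 : 2 ≤ 2 ^ r := by
      calc 2 = 2 ^ 1 := by norm_num
        _ ≤ 2 ^ r := Nat.pow_le_pow_right (by norm_num) hr0
    have hQlt : 2 ^ r < Fintype.card F := by
      rw [hcard]
      exact Nat.pow_lt_pow_right (by norm_num) hre
    have h4 : (ζ : F) ^ (2 * (2 ^ r - 1)) = 1 := by
      have h5 : (ζ : F) ^ 2 * (ζ : F) ^ (2 * (2 ^ r - 1)) = (ζ : F) ^ 2 * 1 := by
        rw [← pow_add, mul_one]
        conv_rhs => rw [← h]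
        rw [← pow_mul]
        congr 1
        omega
      exact mul_left_cancel₀ (pow_ne_zero 2 hζ0) h5
    have h6 := hord _ h4
    have hcop : Nat.Coprime (Fintype.card F - 1) 2 := by
      rw [Nat.coprime_comm]
      exact (Nat.Prime.coprime_iff_not_dvd Nat.prime_two).2 (by omega)
    have h7 := hcop.dvd_of_dvd_mul_left h6
    have := Nat.le_of_dvd (by omega) h7
    omega
  obtain ⟨mt, -, fz, fzi, -, -, hmt, -, hfz, hfzi⟩ := exists_polys 2 ζ 1 hsurj
  have hgt : aeval ((ζ : F) ^ (2 * (1 : ℤ))) (X : ℤ[X]) = (ζ : F) ^ 2 := by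
    rw [aeval_X, hθ2]
  have hgcd : ((Int.gcd ((l : ℤ) + 1) (l : ℤ) : ℕ) : ℤ) = 1 := by
    have : Int.gcd ((l : ℤ) + 1) (l : ℤ) = 1 := by
      have h1 : ((l : ℤ) + 1) = ((l + 1 : ℕ) : ℤ) := by push_cast; ring
      rw [h1, Int.gcd_natCast_natCast]
      simp
    rw [this]
    rfl
  refine ⟨coreRels 2 1 mt fz fzi false ++ [wR2 ((l : ℤ) + 1) (l : ℤ)], ?_, ?_⟩
  · rw [List.length_append, coreRels_length_even]
    simp
  · have := scheme 2 ζ hζgen 1 hsurj mt X fz fzi hmt hgt hfz hfzi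
      false (fun h => absurd h2F h) [wR2 ((l : ℤ) + 1) (l : ℤ)] ?_ ?_ ?_
    · exact ⟨this.1, this.2.2 h2F⟩
    · intro r hr
      simp only [List.mem_cons, List.not_mem_nil, or_false] at hr
      subst hr
      exact sl_wR2 ζ _ _ hkl
    · right
      exact wR3'_one_X
    · intro G _ φ hφ m n
      have hR1 : φ (wR1 2) = 1 := hφ _ (by unfold coreRels; simp)
      have hR2 : φ (wR2 ((l : ℤ) + 1) (l : ℤ)) = 1 := hφ _ (by simp)
      rw [wR1_iff] at hR1
      rw [wR2_iff] at hR2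
      have hu : φ fu * φ fu = 1 := by rw [← sq]; exact hR1
      have hcjsq : ∀ n : ℤ, cj (φ fu) (φ fh) n * cj (φ fu) (φ fh) n = 1 := by
        intro n
        rw [← cj_mul, hu, cj_one']
      have hC : Commute (φ fu) (cj (φ fu) (φ fh) (l : ℤ)) :=
        commute_of_invol _ _ _ hu (hcjsq _) (hcjsq _) hR2
      have := commute_gcd (φ fu) (φ fh) ((l : ℤ) + 1) (l : ℤ) hR2 hC m n
      rw [hgcd] at this
      exact this

end Cfsg.Agent.Lib.Helper7.Pres2
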