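import Mathlib
import Cfsg.Agent.Lib.Helper7.Pres2D

/-!
# Short presentation of `SL₃(F)`: torus and Weyl group consequences (helper7)

Abstract setting: `x : F → Γ` additive, `g` acting on it through `lam`, an element `c` of order three and `t`,
subject to a few relations.  We derive the action of the torus `⟨g, c g c⁻¹, c⁻¹ g c⟩` on the root elements.
-/

set_option autoImplicit false

namespace Cfsg.Agent.Lib.Helper7.Pres3

open Cfsg.Agent.Lib.Helper7.Pres2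

section acts

variable {F : Type*} [Field F] {Γ : Type*} [Group Γ]

/-- `d` acts on the one parameter family `X` through the scalar `χ` -/
def Acts (d : Γ) (X : F → Γ) (χ : F) : Prop := ∀ a : F, d * X a * d⁻¹ = X (χ * a)

theorem Acts.mul {d e : Γ} {X : F → Γ} {χ ψ : F} (hd : Acts d X χ) (he : Acts e X ψ) :
    Acts (d * e) X (χ * ψ) := by
  intro a
  have : d * e * X a * (d * e)⁻¹ = d * (e * X a * e⁻¹) * d⁻¹ := by group
  rw [this, he a, hd (ψ * a), mul_assoc]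

theorem Acts.inv {d : Γ} {X : F → Γ} {χ : F} (hχ : χ ≠ 0) (hd : Acts d X χ) : Acts d⁻¹ X χ⁻¹ := by
  intro a
  have := hd (χ⁻¹ * a)
  rw [← mul_assoc, mul_inv_cancel₀ hχ, one_mul] at this
  rw [← this]
  group

theorem Acts.one {X : F → Γ} : Acts (1 : Γ) X 1 := by
  intro a; simp

theorem Acts.pow {d : Γ} {X : F → Γ} {χ : F} (hd : Acts d X χ) (n : ℕ) : Acts (d ^ n) X (χ ^ n) := by
  induction n with
  | zero => simpa using (Acts.one (X := X))
  | succ n ih =>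
    rw [pow_succ, pow_succ]
    exact ih.mul hd

theorem Acts.zpow {d : Γ} {X : F → Γ} {χ : F} (hχ : χ ≠ 0) (hd : Acts d X χ) (i : ℤ) :
    Acts (d ^ i) X (χ ^ i) := by
  obtain ⟨n, rfl | rfl⟩ := i.eq_nat_or_neg
  · rw [zpow_natCast, zpow_natCast]; exact hd.pow n
  · rw [zpow_neg, zpow_neg, zpow_natCast, zpow_natCast]
    exact (hd.pow n).inv (pow_ne_zero n hχ)

/-- conjugating both the element and the family -/
theorem Acts.conj {d : Γ} {X : F → Γ} {χ : F} (hd : Acts d X χ) (n : Γ) :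
    Acts (n * d * n⁻¹) (fun a => n * X a * n⁻¹) χ := by
  intro a
  show n * d * n⁻¹ * (n * X a * n⁻¹) * (n * d * n⁻¹)⁻¹ = n * X (χ * a) * n⁻¹
  rw [← hd a]
  group

/-- reparametrisation by a scalar -/
theorem Acts.scale {d : Γ} {X : F → Γ} {χ : F} (hd : Acts d X χ) (s : F) :
    Acts d (fun a => X (s * a)) χ := by
  intro a
  show d * X (s * a) * d⁻¹ = X (s * (χ * a))
  rw [hd, mul_left_comm]

theorem Acts.congr_elt {d e : Γ} {X : F → Γ} {χ : F} (hd : Acts d X χ) (h : d = e) : Acts e X χ :=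
  h ▸ hd

theorem Acts.congr_scalar {d : Γ} {X : F → Γ} {χ ψ : F} (hd : Acts d X χ) (h : χ = ψ) : Acts d X ψ :=
  h ▸ hd

/-- commuting with a fixed element, spread by an acting element -/
theorem Acts.commute_of {d : Γ} {X Y : F → Γ} {χ ψ : F} (hX : Acts d X χ) (hY : Acts d Y ψ)
    (a b : F) (h : Commute (X a) (Y b)) : Commute (X (χ * a)) (Y (ψ * b)) := by
  rw [← hX a, ← hY b]
  show d * X a * d⁻¹ * (d * Y b * d⁻¹) = d * Y b * d⁻¹ * (d * X a * d⁻¹)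
  have e1 : d * X a * d⁻¹ * (d * Y b * d⁻¹) = d * (X a * Y b) * d⁻¹ := by group
  have e2 : d * Y b * d⁻¹ * (d * X a * d⁻¹) = d * (Y b * X a) * d⁻¹ := by group
  rw [e1, e2, h.eq]

end acts

section main

variable {F : Type*} [Field F] {Γ : Type*} [Group Γ] (x : F → Γ) (t g c : Γ) (lam : F)
  (hlam : lam ≠ 0)
  (hx_add : ∀ a b : F, x (a + b) = x a * x b)
  (hgx : Acts g x lam)
  (hgen : ∀ a : F, a ≠ 0 → ∃ i : ℤ, a = lam ^ i)
  (W1 : c * c * c = 1)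
  (W2 : t * c * t * c = 1)
  (T3 : Commute g (c * g * c⁻¹))
  (T2 : (c * g * c⁻¹) * x 1 * (c * g * c⁻¹)⁻¹ = x lam)
  (hii : g * (c * g * c⁻¹) * (c⁻¹ * g * c) = 1)
  (R4 : t * g * t⁻¹ = (c * g * c⁻¹)⁻¹)
  (R5 : t = x 1 * (t * x 1 * t⁻¹) * x 1)

include W1 in
theorem c_inv : c⁻¹ = c * c := by
  rw [inv_eq_iff_mul_eq_one, ← mul_assoc]; exact W1

include W1 in
theorem c_conj_h3 : c * (c * g * c⁻¹) * c⁻¹ = c⁻¹ * g * c := by
  have h := c_inv c W1
  have e : c * (c * g * c⁻¹) * c⁻¹ = (c * c) * g * (c * c)⁻¹ := by group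
  rw [e, ← h, inv_inv]

include W1 in
theorem c_conj_h1 : c * (c⁻¹ * g * c) * c⁻¹ = g := by group

theorem commute_conj {G : Type*} [Group G] (n a b : G) (h : Commute a b) :
    Commute (n * a * n⁻¹) (n * b * n⁻¹) := by
  show n * a * n⁻¹ * (n * b * n⁻¹) = n * b * n⁻¹ * (n * a * n⁻¹)
  have e1 : n * a * n⁻¹ * (n * b * n⁻¹) = n * (a * b) * n⁻¹ := by group
  have e2 : n * b * n⁻¹ * (n * a * n⁻¹) = n * (b * a) * n⁻¹ := by group
  rw [e1, e2, h.eq]

include W1 T3 in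
theorem comm_h3_h1 : Commute (c * g * c⁻¹) (c⁻¹ * g * c) := by
  have h := commute_conj c _ _ T3
  rwa [c_conj_h3 g c W1] at h

include W1 T3 in
theorem comm_h1_g : Commute (c⁻¹ * g * c) g := by
  have h := commute_conj c _ _ (comm_h3_h1 g c W1 T3)
  rwa [c_conj_h3 g c W1, c_conj_h1 g c W1] at h

include hii in
theorem h1_eq : c⁻¹ * g * c = (g * (c * g * c⁻¹))⁻¹ :=
  eq_inv_of_mul_eq_one_right hii

include hlam hx_add hgx hgen T3 T2 in
/-- `h₃ = c g c⁻¹` acts on `x` through `lam` -/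
theorem acts_h3_x : Acts (c * g * c⁻¹) x lam := by
  intro a
  by_cases ha : a = 0
  · subst ha
    rw [mul_zero, x_zero' x hx_add]; group
  obtain ⟨i, rfl⟩ := hgen a ha
  have h1 := (hgx.zpow hlam i) 1
  rw [mul_one] at h1
  have hc : Commute (c * g * c⁻¹) (g ^ i) := T3.symm.zpow_right i
  rw [← h1]
  have e : c * g * c⁻¹ * (g ^ i * x 1 * (g ^ i)⁻¹) * (c * g * c⁻¹)⁻¹ =
      g ^ i * ((c * g * c⁻¹) * x 1 * (c * g * c⁻¹)⁻¹) * (g ^ i)⁻¹ := by
    have : c * g * c⁻¹ * g ^ i = g ^ i * (c * g * c⁻¹) := hc.eq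
    calc c * g * c⁻¹ * (g ^ i * x 1 * (g ^ i)⁻¹) * (c * g * c⁻¹)⁻¹
        = (c * g * c⁻¹ * g ^ i) * x 1 * (c * g * c⁻¹ * g ^ i)⁻¹ := by group
      _ = _ := by rw [this]; group
  rw [e, T2]
  have h2 := (hgx.zpow hlam i) lam
  rw [h2, mul_comm]

include hlam hx_add hgx hgen T3 T2 hii in
/-- `h₁ = c⁻¹ g c` acts on `x` through `(lam²)⁻¹` -/
theorem acts_h1_x : Acts (c⁻¹ * g * c) x (lam * lam)⁻¹ := by
  rw [h1_eq g c hii]
  exact (hgx.mul (acts_h3_x x g c lam hlam hx_add hgx hgen T3 T2)).inv (mul_ne_zero hlam hlam)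

include W2 in
theorem tc_eq : t * c = c⁻¹ * t⁻¹ := by
  have : t * c * (t * c) = 1 := by rw [← W2]; group
  have h := eq_inv_of_mul_eq_one_left this
  rw [h]; group

include W1 W2 in
theorem tcinv_eq : t * c⁻¹ = c⁻¹ * t⁻¹ * c := by
  rw [c_inv c W1]
  have := tc_eq t c W2
  calc t * (c * c) = (t * c) * c := by group
    _ = c⁻¹ * t⁻¹ * c := by rw [this]
    _ = (c * c) * t⁻¹ * c := by rw [c_inv c W1]

include R4 in
theorem tinv_h3 : t⁻¹ * (c * g * c⁻¹) * t = g⁻¹ := by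
  have : c * g * c⁻¹ = t * g⁻¹ * t⁻¹ := by
    have := congrArg (fun z => z⁻¹) R4
    simp only [inv_inv, mul_inv_rev] at this
    rw [← this]; group
  rw [this]; group

include W1 W2 R4 in
theorem t_h1 : t * (c⁻¹ * g * c) * t⁻¹ = (c⁻¹ * g * c)⁻¹ := by
  have e : t * (c⁻¹ * g * c) * t⁻¹ = (t * c⁻¹) * g * (t * c⁻¹)⁻¹ := by group
  rw [e, tcinv_eq t c W1 W2]
  have e2 : c⁻¹ * t⁻¹ * c * g * (c⁻¹ * t⁻¹ * c)⁻¹ = c⁻¹ * (t⁻¹ * (c * g * c⁻¹) * t) * c := by group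
  rw [e2, tinv_h3 t g c R4]
  group

include W1 W2 R4 hii in
theorem t_h3 : t * (c * g * c⁻¹) * t⁻¹ = g⁻¹ := by
  -- `h₃ = g⁻¹ h₁⁻¹`
  have h3 : c * g * c⁻¹ = g⁻¹ * (c⁻¹ * g * c)⁻¹ := by
    have : g * (c * g * c⁻¹) = (c⁻¹ * g * c)⁻¹ := eq_inv_of_mul_eq_one_left hii
    rw [← this]; group
  have e : t * (c * g * c⁻¹) * t⁻¹ = (t * g * t⁻¹)⁻¹ * (t * (c⁻¹ * g * c) * t⁻¹)⁻¹ := by
    conv_lhs => rw [h3]
    group
  rw [e, R4, t_h1 t g c W1 W2 R4, inv_inv, inv_inv]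
  -- `h₃ h₁ = g⁻¹`
  have : g * ((c * g * c⁻¹) * (c⁻¹ * g * c)) = 1 := by rw [← hii]; group
  exact eq_inv_of_mul_eq_one_right this

include W1 W2 R4 hii in
theorem tsq_g : Commute (t * t) g := by
  show t * t * g = g * (t * t)
  have h1 : t * g = (c * g * c⁻¹)⁻¹ * t := by rw [← R4]; group
  have h2 : t * (c * g * c⁻¹)⁻¹ = g * t := by
    have := t_h3 t g c W1 W2 hii R4
    have h' : t * (c * g * c⁻¹)⁻¹ * t⁻¹ = g := by
      have e : t * (c * g * c⁻¹)⁻¹ * t⁻¹ = (t * (c * g * c⁻¹) * t⁻¹)⁻¹ := by group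
      rw [e, this, inv_inv]
    calc t * (c * g * c⁻¹)⁻¹ = (t * (c * g * c⁻¹)⁻¹ * t⁻¹) * t := by group
      _ = g * t := by rw [h']
  rw [mul_assoc, h1, ← mul_assoc, h2, mul_assoc]

include R4 in
theorem t_g : t * g * t⁻¹ = (c * g * c⁻¹)⁻¹ := R4

include hlam hx_add hgx hgen W1 W2 R4 hii R5 in
theorem tsq_x (a : F) : Commute (t * t) (x a) := by
  by_cases ha : a = 0
  · subst ha; rw [x_zero' x hx_add]; exact Commute.one_right _
  obtain ⟨i, rfl⟩ := hgen a ha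
  have h1 := (hgx.zpow hlam i) 1
  rw [mul_one] at h1
  rw [← h1]
  have hg : Commute (t * t) (g ^ i) := (tsq_g t g c W1 W2 hii R4).zpow_right i
  have hx1 : Commute (t * t) (x 1) := tsq_comm_x_one x t R5
  exact (hg.mul_right hx1).mul_right hg.inv_right

/-- the lower root elements -/
def yy (b : F) : Γ := t * x (-b) * t⁻¹

include hlam hx_add hgx hgen W1 W2 R4 hii R5 in
theorem t_yy (b : F) : t * yy x t b * t⁻¹ = x (-b) := by
  unfold yy
  have := tsq_x x t g c lam hlam hx_add hgx hgen W1 W2 hii R4 R5 (-b)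
  have e : t * (t * x (-b) * t⁻¹) * t⁻¹ = (t * t) * x (-b) * (t * t)⁻¹ := by group
  rw [e, this.eq, mul_inv_cancel_right]

include hlam hx_add hgx hgen W1 W2 R4 hii R5 in
theorem tinv_x (a : F) : t⁻¹ * x a * t = yy x t (-a) := by
  have := t_yy x t g c lam hlam hx_add hgx hgen W1 W2 hii R4 R5 (-a)
  rw [neg_neg] at this
  rw [← this]; group

include hx_add in
theorem yy_add (a b : F) : yy x t (a + b) = yy x t a * yy x t b := by
  unfold yy
  rw [neg_add, hx_add]; group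

/-- torus elements act on `yy` through the action of their `t`-conjugates -/
theorem acts_yy_of {d e : Γ} {χ : F} (hd : t⁻¹ * d * t = e) (he : Acts e x χ) :
    Acts d (yy x t) χ := by
  intro b
  unfold yy
  have e1 : d * (t * x (-b) * t⁻¹) * d⁻¹ = t * ((t⁻¹ * d * t) * x (-b) * (t⁻¹ * d * t)⁻¹) * t⁻¹ := by
    group
  rw [e1, hd, he, mul_neg]

include W1 W2 R4 hii in
theorem tinv_g : t⁻¹ * g * t = (c * g * c⁻¹)⁻¹ := by
  have h := tsq_g t g c W1 W2 hii R4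
  have e : t⁻¹ * g * t = (t * t)⁻¹ * (t * g * t⁻¹) * (t * t) := by group
  rw [e, R4]
  have h3 : Commute (t * t) (c * g * c⁻¹)⁻¹ := by
    rw [← R4]
    have : t * g * t⁻¹ = t * g * t⁻¹ := rfl
    have hc : Commute (t * t) t := (Commute.refl t).mul_left (Commute.refl t)
    exact (hc.mul_right h).mul_right hc.inv_right
  calc (t * t)⁻¹ * (c * g * c⁻¹)⁻¹ * (t * t) = (t * t)⁻¹ * ((c * g * c⁻¹)⁻¹ * (t * t)) :=
        mul_assoc _ _ _
    _ = (t * t)⁻¹ * ((t * t) * (c * g * c⁻¹)⁻¹) := by rw [h3.eq]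
    _ = _ := inv_mul_cancel_left _ _

include W1 W2 R4 in
theorem tinv_h1 : t⁻¹ * (c⁻¹ * g * c) * t = (c⁻¹ * g * c)⁻¹ := by
  have := t_h1 t g c W1 W2 R4
  have e : c⁻¹ * g * c = t⁻¹ * (c⁻¹ * g * c)⁻¹ * t := by rw [← this]; group
  have e2 : t⁻¹ * (c⁻¹ * g * c) * t = (t⁻¹ * (c⁻¹ * g * c)⁻¹ * t)⁻¹ := by group
  rw [e2, ← e]

include hlam hx_add hgx hgen W1 W2 T3 T2 R4 hii in
theorem acts_g_yy : Acts g (yy x t) lam⁻¹ :=
  acts_yy_of x t (tinv_g t g c W1 W2 hii R4)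
    ((acts_h3_x x g c lam hlam hx_add hgx hgen T3 T2).inv hlam)

include hlam hgx R4 in
theorem acts_h3_yy : Acts (c * g * c⁻¹) (yy x t) lam⁻¹ :=
  acts_yy_of x t (tinv_h3 t g c R4) (hgx.inv hlam)

include hlam hx_add hgx hgen W1 W2 T3 T2 R4 hii in
theorem acts_h1_yy : Acts (c⁻¹ * g * c) (yy x t) (lam * lam) := by
  have h := (acts_h1_x x g c lam hlam hx_add hgx hgen T3 T2 hii).inv
    (inv_ne_zero (mul_ne_zero hlam hlam))
  rw [inv_inv] at h
  exact acts_yy_of x t (tinv_h1 t g c W1 W2 R4) h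

end main

end Cfsg.Agent.Lib.Helper7.Pres3
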