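import Mathlib
import Cfsg.Agent.Lib.Helper7.Pres3A

/-!
# Short presentation of `SL₃(F)`: the Steinberg relations (helper7)
-/

set_option autoImplicit false

namespace Cfsg.Agent.Lib.Helper7.Pres3

open Cfsg.Agent.Lib.Helper7.Pres2

section generic

variable {F : Type*} [Field F] {Γ : Type*} [Group Γ]

theorem Acts.conj_neg {d : Γ} {Y : F → Γ} {χ : F} (hd : Acts d Y χ) (n : Γ) :
    Acts (n⁻¹ * d * n) (fun a => n⁻¹ * Y (-a) * n) χ := by
  intro a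
  show n⁻¹ * d * n * (n⁻¹ * Y (-a) * n) * (n⁻¹ * d * n)⁻¹ = n⁻¹ * Y (-(χ * a)) * n
  have := hd (-a)
  rw [mul_neg] at this
  rw [← this]
  group

theorem conj_rel (n A B C : Γ) (h : A * B * A⁻¹ * B⁻¹ = C) :
    (n * A * n⁻¹) * (n * B * n⁻¹) * (n * A * n⁻¹)⁻¹ * (n * B * n⁻¹)⁻¹ = n * C * n⁻¹ := by
  rw [← h]; group

theorem one_of_add {X : F → Γ} (hX : ∀ a b, X (a + b) = X a * X b) : X 0 = 1 :=
  x_zero' X hX

theorem neg_of_add {X : F → Γ} (hX : ∀ a b, X (a + b) = X a * X b) (a : F) : X (-a) = (X a)⁻¹ :=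
  x_neg' X hX a

/-- spreading a commutation relation along a torus element fixing the first family -/
theorem spread_comm (X Y : F → Γ) (hY : ∀ a b, Y (a + b) = Y a * Y b) (d : Γ) (μ : F)
    (hdX : Acts d X 1) (hdY : Acts d Y μ) (B₀ : Set F)
    (hspan : ∀ S : AddSubgroup F, (∀ b ∈ B₀, b ∈ S) → (∀ b ∈ S, μ * b ∈ S) → ∀ b, b ∈ S)
    (hbase : ∀ b ∈ B₀, Commute (X 1) (Y b)) : ∀ b, Commute (X 1) (Y b) := by
  let S : AddSubgroup F :=
    { carrier := {b | Commute (X 1) (Y b)}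
      zero_mem' := by
        show Commute (X 1) (Y 0)
        rw [one_of_add hY]; exact Commute.one_right _
      add_mem' := by
        intro a b ha hb
        show Commute (X 1) (Y (a + b))
        rw [hY]; exact Commute.mul_right ha hb
      neg_mem' := by
        intro a ha
        show Commute (X 1) (Y (-a))
        rw [neg_of_add hY]; exact Commute.inv_right ha }
  intro b
  refine hspan S hbase ?_ b
  intro b hb
  have := hdX.commute_of hdY 1 b hb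
  rwa [one_mul] at this

/-- spreading to all parameters of the first family -/
theorem spread_comm2 (X Y : F → Γ) (hX : ∀ a b, X (a + b) = X a * X b) (e : Γ) (α β : F)
    (hα : α ≠ 0) (hβ : β ≠ 0)
    (heX : Acts e X α) (heY : Acts e Y β) (hgen : ∀ a : F, a ≠ 0 → ∃ i : ℤ, a = α ^ i)
    (h1 : ∀ b, Commute (X 1) (Y b)) : ∀ a b, Commute (X a) (Y b) := by
  intro a b
  by_cases ha : a = 0
  · subst ha; rw [one_of_add hX]; exact Commute.one_left _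
  obtain ⟨i, rfl⟩ := hgen a ha
  have h := (heX.zpow hα i).commute_of (heY.zpow hβ i) 1 ((β ^ i)⁻¹ * b) (h1 _)
  rwa [mul_one, ← mul_assoc, mul_inv_cancel₀ (zpow_ne_zero i hβ), one_mul] at h

/-- spreading the Chevalley commutator relation -/
theorem spread_chev (X Y Z : F → Γ)
    (hY : ∀ a b, Y (a + b) = Y a * Y b) (hZ : ∀ a b, Z (a + b) = Z a * Z b)
    (hZY : ∀ a b, Commute (Z a) (Y b))
    (d : Γ) (μ : F) (hdX : Acts d X 1) (hdY : Acts d Y μ) (hdZ : Acts d Z μ) (B₀ : Set F)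
    (hspan : ∀ S : AddSubgroup F, (∀ b ∈ B₀, b ∈ S) → (∀ b ∈ S, μ * b ∈ S) → ∀ b, b ∈ S)
    (hbase : ∀ b ∈ B₀, X 1 * Y b * (X 1)⁻¹ * (Y b)⁻¹ = Z b) :
    ∀ b, X 1 * Y b * (X 1)⁻¹ * (Y b)⁻¹ = Z b := by
  let S : AddSubgroup F :=
    { carrier := {b | X 1 * Y b * (X 1)⁻¹ * (Y b)⁻¹ = Z b}
      zero_mem' := by
        show X 1 * Y 0 * (X 1)⁻¹ * (Y 0)⁻¹ = Z 0
        rw [one_of_add hY, one_of_add hZ]; group
      add_mem' := by
        intro a b ha hb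
        show X 1 * Y (a + b) * (X 1)⁻¹ * (Y (a + b))⁻¹ = Z (a + b)
        have ha' : X 1 * Y a * (X 1)⁻¹ * (Y a)⁻¹ = Z a := ha
        have hb' : X 1 * Y b * (X 1)⁻¹ * (Y b)⁻¹ = Z b := hb
        rw [hY, hZ]
        have e : X 1 * (Y a * Y b) * (X 1)⁻¹ * (Y a * Y b)⁻¹ =
            (X 1 * Y a * (X 1)⁻¹ * (Y a)⁻¹) * (Y a * (X 1 * Y b * (X 1)⁻¹ * (Y b)⁻¹) * (Y a)⁻¹) := by
          group
        rw [e, ha', hb']
        have hc : Y a * Z b * (Y a)⁻¹ = Z b := by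
          rw [← (hZY b a).eq, mul_inv_cancel_right]
        rw [hc]
      neg_mem' := by
        intro a ha
        show X 1 * Y (-a) * (X 1)⁻¹ * (Y (-a))⁻¹ = Z (-a)
        have ha' : X 1 * Y a * (X 1)⁻¹ * (Y a)⁻¹ = Z a := ha
        rw [neg_of_add hY, neg_of_add hZ]
        have e : X 1 * (Y a)⁻¹ * (X 1)⁻¹ * ((Y a)⁻¹)⁻¹ =
            (Y a)⁻¹ * (X 1 * Y a * (X 1)⁻¹ * (Y a)⁻¹)⁻¹ * Y a := by group
        rw [e, ha']
        have hc : (Y a)⁻¹ * (Z a)⁻¹ * Y a = (Z a)⁻¹ := by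
          have := (hZY a a).inv_left
          rw [mul_assoc, this.eq, inv_mul_cancel_left]
        rw [hc] }
  intro b
  refine hspan S hbase ?_ b
  intro b hb
  have hb' : X 1 * Y b * (X 1)⁻¹ * (Y b)⁻¹ = Z b := hb
  show X 1 * Y (μ * b) * (X 1)⁻¹ * (Y (μ * b))⁻¹ = Z (μ * b)
  have h1 := hdX 1
  rw [mul_one] at h1
  rw [← hdY b, ← hdZ b, ← hb']
  conv_lhs => rw [← h1]
  group

/-- spreading the Chevalley relation to all parameters of the first family -/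
theorem spread_chev2 (X Y Z : F → Γ) (hX : ∀ a b, X (a + b) = X a * X b)
    (hZ : ∀ a b, Z (a + b) = Z a * Z b) (e : Γ) (α β γ : F)
    (hα : α ≠ 0) (hβ : β ≠ 0) (hγ : γ ≠ 0) (hαβγ : α * β = γ)
    (heX : Acts e X α) (heY : Acts e Y β) (heZ : Acts e Z γ)
    (hgen : ∀ a : F, a ≠ 0 → ∃ i : ℤ, a = α ^ i)
    (h1 : ∀ b, X 1 * Y b * (X 1)⁻¹ * (Y b)⁻¹ = Z b) :
    ∀ a b, X a * Y b * (X a)⁻¹ * (Y b)⁻¹ = Z (a * b) := by
  intro a b
  by_cases ha : a = 0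
  · subst ha; rw [one_of_add hX, zero_mul, one_of_add hZ]; group
  obtain ⟨i, rfl⟩ := hgen a ha
  have hX' := (heX.zpow hα i) 1
  have hY' := (heY.zpow hβ i) ((β ^ i)⁻¹ * b)
  have hZ' := (heZ.zpow hγ i) ((β ^ i)⁻¹ * b)
  rw [mul_one] at hX'
  rw [← mul_assoc, mul_inv_cancel₀ (zpow_ne_zero i hβ), one_mul] at hY'
  have hscal : γ ^ i * ((β ^ i)⁻¹ * b) = α ^ i * b := by
    rw [← hαβγ, mul_zpow, ← mul_assoc, mul_assoc (α ^ i), mul_inv_cancel₀ (zpow_ne_zero i hβ),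
      mul_one]
  rw [hscal] at hZ'
  rw [← hX', ← hY', ← hZ', ← h1 ((β ^ i)⁻¹ * b)]
  group

end generic

end Cfsg.Agent.Lib.Helper7.Pres3
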