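import Mathlib
import Cfsg.Agent.Lib.Helper7.Pres3B

/-!
# Short presentation of `SL₃(F)`: the six root subgroups and their relations (helper7)
-/

set_option autoImplicit false

namespace Cfsg.Agent.Lib.Helper7.Pres3

open Cfsg.Agent.Lib.Helper7.Pres2

section roots

variable {F : Type*} [Field F] {Γ : Type*} [Group Γ] (x : F → Γ) (t c : Γ)

/-- root element `(2,3)` -/
def X23 (a : F) : Γ := c * x a * c⁻¹
/-- root element `(3,2)` -/
def X32 (a : F) : Γ := c * yy x t a * c⁻¹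
/-- root element `(3,1)` -/
def X31 (a : F) : Γ := c⁻¹ * x (-a) * c
/-- root element `(1,3)` -/
def X13 (a : F) : Γ := c⁻¹ * yy x t (-a) * c

end roots

section main

variable {F : Type*} [Field F] {Γ : Type*} [Group Γ] (x : F → Γ) (t g c : Γ) (lam : F)
  (hlam : lam ≠ 0)
  (hx_add : ∀ a b : F, x (a + b) = x a * x b)
  (hgx : Acts g x lam)
  (hgen : ∀ a : F, a ≠ 0 → ∃ i : ℤ, a = lam ^ i)
  (W1 : c * c * c = 1)
  (W2 : t * c * t * c = 1)
  (T3 : Commute g (c * g * c⁻¹))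
  (T2 : (c * g * c⁻¹) * x 1 * (c * g * c⁻¹)⁻¹ = x lam)
  (hii : g * (c * g * c⁻¹) * (c⁻¹ * g * c) = 1)
  (R4 : t * g * t⁻¹ = (c * g * c⁻¹)⁻¹)
  (R5 : t = x 1 * (t * x 1 * t⁻¹) * x 1)

include hx_add in
theorem X23_add (a b : F) : X23 x c (a + b) = X23 x c a * X23 x c b := by
  unfold X23; rw [hx_add]; group

include hx_add in
theorem X13_add (a b : F) : X13 x t c (a + b) = X13 x t c a * X13 x t c b := by
  unfold X13; rw [neg_add, yy_add x t hx_add]; group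

include hx_add in
theorem X32_add (a b : F) : X32 x t c (a + b) = X32 x t c a * X32 x t c b := by
  unfold X32; rw [yy_add x t hx_add]; group

include hx_add in
theorem X31_add (a b : F) : X31 x c (a + b) = X31 x c a * X31 x c b := by
  unfold X31; rw [neg_add, hx_add]; group

/-! ### the action of `c` -/

include W1 in
theorem c_X23 (a : F) : c * X23 x c a * c⁻¹ = X31 x c (-a) := by
  unfold X23 X31
  rw [neg_neg]
  have h := c_inv c W1
  have e : c * (c * x a * c⁻¹) * c⁻¹ = (c * c) * x a * (c * c)⁻¹ := by group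
  rw [e, ← h, inv_inv]

theorem c_X31 (a : F) : c * X31 x c a * c⁻¹ = x (-a) := by
  unfold X31; group

include W1 in
theorem c_X32 (a : F) : c * X32 x t c a * c⁻¹ = X13 x t c (-a) := by
  unfold X32 X13
  rw [neg_neg]
  have h := c_inv c W1
  have e : c * (c * yy x t a * c⁻¹) * c⁻¹ = (c * c) * yy x t a * (c * c)⁻¹ := by group
  rw [e, ← h, inv_inv]

theorem c_X13 (a : F) : c * X13 x t c a * c⁻¹ = yy x t (-a) := by
  unfold X13; group

/-! ### the torus -/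

include hlam hx_add hgx hgen W1 T3 T2 hii in
theorem acts_g_X23 : Acts g (X23 x c) (lam * lam)⁻¹ := by
  have h := (acts_h1_x x g c lam hlam hx_add hgx hgen T3 T2 hii).conj c
  rw [c_conj_h1 g c W1] at h
  exact h

include hlam hx_add hgx hgen W1 T3 T2 in
theorem acts_h1_X23 : Acts (c⁻¹ * g * c) (X23 x c) lam := by
  have h := (acts_h3_x x g c lam hlam hx_add hgx hgen T3 T2).conj c
  rw [c_conj_h3 g c W1] at h
  exact h

include hlam hgx R4 in
theorem acts_g_X13 : Acts g (X13 x t c) lam⁻¹ := by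
  have h := (acts_h3_yy x t g c lam hlam hgx R4).conj_neg c
  have e : c⁻¹ * (c * g * c⁻¹) * c = g := by group
  rw [e] at h
  exact h

include hlam hx_add hgx hgen W1 W2 T3 T2 R4 hii in
theorem acts_h1_X13 : Acts (c⁻¹ * g * c) (X13 x t c) lam⁻¹ :=
  (acts_g_yy x t g c lam hlam hx_add hgx hgen W1 W2 T3 T2 hii R4).conj_neg c

/-! ### `t²` -/

include hlam hx_add hgx hgen W1 W2 T3 T2 R4 hii R5 in
/-- `t² = h₁ ^ m` where `lam ^ m = -1` -/
theorem tsq_eq (m : ℤ) (hm : lam ^ m = -1) : t * t = (c⁻¹ * g * c) ^ m := by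
  -- `g^m t g^{-m} = t⁻¹`
  have hx1 := (hgx.zpow hlam m) 1
  have hy1 := ((acts_g_yy x t g c lam hlam hx_add hgx hgen W1 W2 T3 T2 hii R4).zpow
    (inv_ne_zero hlam) m) (-1)
  rw [hm, mul_one] at hx1
  rw [inv_zpow, hm] at hy1
  have hinv : ((-1 : F))⁻¹ * -1 = 1 := by
    rw [inv_neg, inv_one]; ring
  rw [hinv] at hy1
  have ht : t = x 1 * yy x t (-1) * x 1 := by
    unfold yy; rw [neg_neg]; exact R5
  have h1 : g ^ m * t * (g ^ m)⁻¹ = t⁻¹ := by
    have e : g ^ m * t * (g ^ m)⁻¹ = (g ^ m * x 1 * (g ^ m)⁻¹) * (g ^ m * yy x t (-1) * (g ^ m)⁻¹) *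
        (g ^ m * x 1 * (g ^ m)⁻¹) := by
      conv_lhs => rw [ht]
      group
    rw [e, hx1, hy1]
    have e2 : t⁻¹ = (x 1)⁻¹ * (yy x t (-1))⁻¹ * (x 1)⁻¹ := by
      conv_lhs => rw [ht]
      group
    rw [e2, x_neg' x hx_add 1]
    congr 2
    have := yy_add x t hx_add 1 (-1)
    rw [add_neg_cancel] at this
    have h0 : yy x t 0 = 1 := by unfold yy; rw [neg_zero, x_zero' x hx_add]; group
    rw [h0] at this
    exact eq_inv_of_mul_eq_one_left this.symm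
  -- `t g^{-m} t⁻¹ = h₃^m`
  have h2 : t * (g ^ m)⁻¹ * t⁻¹ = (c * g * c⁻¹) ^ m := by
    have := map_zpow (MulAut.conj t) g (-m)
    simp only [MulAut.conj_apply] at this
    rw [zpow_neg] at this
    rw [this, R4, inv_zpow, zpow_neg, inv_inv]
  -- assemble
  have h3 : t⁻¹ * t⁻¹ = g ^ m * (c * g * c⁻¹) ^ m := by
    calc t⁻¹ * t⁻¹ = (g ^ m * t * (g ^ m)⁻¹) * t⁻¹ := by rw [h1]
      _ = g ^ m * (t * (g ^ m)⁻¹ * t⁻¹) := by group
      _ = g ^ m * (c * g * c⁻¹) ^ m := by rw [h2]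
  have h4 : g ^ m * (c * g * c⁻¹) ^ m = (g * (c * g * c⁻¹)) ^ m := (T3.mul_zpow m).symm
  have h5 : (c⁻¹ * g * c) ^ m = ((g * (c * g * c⁻¹)) ^ m)⁻¹ := by
    rw [h1_eq g c hii, inv_zpow]
  rw [h5, ← h4, ← h3]
  simp only [mul_inv_rev, inv_inv]

include hlam hx_add hgx hgen W1 W2 T3 T2 R4 hii R5 in
theorem acts_tsq_X23 : Acts (t * t) (X23 x c) (-1) := by
  obtain ⟨m, hm⟩ := hgen (-1) (neg_ne_zero.2 one_ne_zero)
  rw [tsq_eq x t g c lam hlam hx_add hgx hgen W1 W2 T3 T2 hii R4 R5 m hm.symm, hm]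
  exact (acts_h1_X23 x g c lam hlam hx_add hgx hgen W1 T3 T2).zpow hlam m

/-! ### the action of `t` -/

include hlam hx_add hgx hgen W1 W2 R4 hii R5 in
theorem t_X23 (b : F) : t * X23 x c b * t⁻¹ = X13 x t c b := by
  unfold X23 X13
  have e : t * (c * x b * c⁻¹) * t⁻¹ = (t * c) * x b * (t * c)⁻¹ := by group
  rw [e, tc_eq t c W2]
  have e2 : c⁻¹ * t⁻¹ * x b * (c⁻¹ * t⁻¹)⁻¹ = c⁻¹ * (t⁻¹ * x b * t) * c := by group
  rw [e2, tinv_x x t g c lam hlam hx_add hgx hgen W1 W2 hii R4 R5]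

include hlam hx_add hgx hgen W1 W2 T3 T2 R4 hii R5 in
theorem t_X13 (a : F) : t * X13 x t c a * t⁻¹ = X23 x c (-a) := by
  rw [← t_X23 x t g c lam hlam hx_add hgx hgen W1 W2 hii R4 R5 a]
  have e : t * (t * X23 x c a * t⁻¹) * t⁻¹ = (t * t) * X23 x c a * (t * t)⁻¹ := by group
  rw [e, acts_tsq_X23 x t g c lam hlam hx_add hgx hgen W1 W2 T3 T2 hii R4 R5 a, neg_one_mul]

end main

end Cfsg.Agent.Lib.Helper7.Pres3
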