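import Mathlib
import Cfsg.Agent.Lib.Helper7.Pres3C

/-!
# Short presentation of `SL₃(F)`: all Steinberg relations (helper7)
-/

set_option autoImplicit false

namespace Cfsg.Agent.Lib.Helper7.Pres3

open Cfsg.Agent.Lib.Helper7.Pres2

/-- the full set of Steinberg relations for the six families -/
structure SteinbergRels {F : Type*} [Field F] {Γ : Type*} [Group Γ]
    (A12 A21 A23 A32 A31 A13 : F → Γ) : Prop where
  add12 : ∀ a b, A12 (a + b) = A12 a * A12 b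
  add21 : ∀ a b, A21 (a + b) = A21 a * A21 b
  add23 : ∀ a b, A23 (a + b) = A23 a * A23 b
  add32 : ∀ a b, A32 (a + b) = A32 a * A32 b
  add31 : ∀ a b, A31 (a + b) = A31 a * A31 b
  add13 : ∀ a b, A13 (a + b) = A13 a * A13 b
  row1 : ∀ a b, Commute (A12 a) (A13 b)
  row2 : ∀ a b, Commute (A23 a) (A21 b)
  row3 : ∀ a b, Commute (A31 a) (A32 b)
  col1 : ∀ a b, Commute (A13 a) (A23 b)
  col2 : ∀ a b, Commute (A21 a) (A31 b)
  col3 : ∀ a b, Commute (A32 a) (A12 b)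
  k1 : ∀ a b, A12 a * A23 b * (A12 a)⁻¹ * (A23 b)⁻¹ = A13 (a * b)
  k2 : ∀ a b, A23 a * A31 b * (A23 a)⁻¹ * (A31 b)⁻¹ = A21 (a * b)
  k3 : ∀ a b, A31 a * A12 b * (A31 a)⁻¹ * (A12 b)⁻¹ = A32 (a * b)
  k4 : ∀ a b, A21 a * A13 b * (A21 a)⁻¹ * (A13 b)⁻¹ = A23 (a * b)
  k5 : ∀ a b, A32 a * A21 b * (A32 a)⁻¹ * (A21 b)⁻¹ = A31 (a * b)
  k6 : ∀ a b, A13 a * A32 b * (A13 a)⁻¹ * (A32 b)⁻¹ = A12 (a * b)

section main

variable {F : Type*} [Field F] {Γ : Type*} [Group Γ] (x : F → Γ) (t g c : Γ) (lam : F)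
  (hlam : lam ≠ 0)
  (hx_add : ∀ a b : F, x (a + b) = x a * x b)
  (hgx : Acts g x lam)
  (hgen : ∀ a : F, a ≠ 0 → ∃ i : ℤ, a = lam ^ i)
  (W1 : c * c * c = 1)
  (W2 : t * c * t * c = 1)
  (T3 : Commute g (c * g * c⁻¹))
  (T2 : (c * g * c⁻¹) * x 1 * (c * g * c⁻¹)⁻¹ = x lam)
  (hii : g * (c * g * c⁻¹) * (c⁻¹ * g * c) = 1)
  (R4 : t * g * t⁻¹ = (c * g * c⁻¹)⁻¹)
  (R5 : t = x 1 * (t * x 1 * t⁻¹) * x 1)
  (B₀ : Set F)
  (hspan : ∀ S : AddSubgroup F, (∀ b ∈ B₀, b ∈ S) → (∀ b ∈ S, lam ^ 3 * b ∈ S) → ∀ b, b ∈ S)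
  (Srow : ∀ b ∈ B₀, Commute (x 1) (X13 x t c b))
  (Scol : ∀ b ∈ B₀, Commute (X13 x t c 1) (X23 x c b))
  (SCh : ∀ b ∈ B₀, x 1 * X23 x c b * (x 1)⁻¹ * (X23 x c b)⁻¹ = X13 x t c b)

include hlam hx_add hgx hgen W1 W2 T3 T2 hii R4 in
/-- the element `d₀⁻¹`, `d₀ = h₁ g g` -/
theorem acts_d0 : Acts ((c⁻¹ * g * c) * g * g)⁻¹ x 1 ∧
    Acts ((c⁻¹ * g * c) * g * g)⁻¹ (X23 x c) (lam ^ 3) ∧
    Acts ((c⁻¹ * g * c) * g * g)⁻¹ (X13 x t c) (lam ^ 3) := by
  have l2 : lam * lam ≠ 0 := mul_ne_zero hlam hlam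
  have hx1 := ((acts_h1_x x g c lam hlam hx_add hgx hgen T3 T2 hii).mul hgx).mul hgx
  have h23 := ((acts_h1_X23 x g c lam hlam hx_add hgx hgen W1 T3 T2).mul
    (acts_g_X23 x g c lam hlam hx_add hgx hgen W1 T3 T2 hii)).mul
    (acts_g_X23 x g c lam hlam hx_add hgx hgen W1 T3 T2 hii)
  have h13 := ((acts_h1_X13 x t g c lam hlam hx_add hgx hgen W1 W2 T3 T2 hii R4).mul
    (acts_g_X13 x t g c lam hlam hgx R4)).mul (acts_g_X13 x t g c lam hlam hgx R4)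
  have e1 : (lam * lam)⁻¹ * lam * lam = 1 := by field_simp
  have e2 : lam * (lam * lam)⁻¹ * (lam * lam)⁻¹ = (lam ^ 3)⁻¹ := by field_simp
  have e3 : lam⁻¹ * lam⁻¹ * lam⁻¹ = (lam ^ 3)⁻¹ := by field_simp
  rw [e1] at hx1
  rw [e2] at h23
  rw [e3] at h13
  have l3 : (lam ^ 3)⁻¹ ≠ 0 := inv_ne_zero (pow_ne_zero 3 hlam)
  refine ⟨?_, ?_, ?_⟩
  · have := hx1.inv one_ne_zero
    rwa [inv_one] at this
  · have := h23.inv l3
    rwa [inv_inv] at this
  · have := h13.inv l3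
    rwa [inv_inv] at this

include hlam hx_add hgx hgen W1 W2 T3 T2 hii R4 in
/-- the element `d₁ = h₁ g⁻¹` -/
theorem acts_d1 : Acts ((c⁻¹ * g * c) * g⁻¹) (X13 x t c) 1 ∧
    Acts ((c⁻¹ * g * c) * g⁻¹) (X23 x c) (lam ^ 3) := by
  have l2 : lam * lam ≠ 0 := mul_ne_zero hlam hlam
  have h13 := (acts_h1_X13 x t g c lam hlam hx_add hgx hgen W1 W2 T3 T2 hii R4).mul
    ((acts_g_X13 x t g c lam hlam hgx R4).inv (inv_ne_zero hlam))
  have h23 := (acts_h1_X23 x g c lam hlam hx_add hgx hgen W1 T3 T2).mul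
    ((acts_g_X23 x g c lam hlam hx_add hgx hgen W1 T3 T2 hii).inv (inv_ne_zero l2))
  have e1 : lam⁻¹ * (lam⁻¹)⁻¹ = 1 := by field_simp
  have e2 : lam * ((lam * lam)⁻¹)⁻¹ = lam ^ 3 := by rw [inv_inv]; ring
  rw [e1] at h13
  rw [e2] at h23
  exact ⟨h13, h23⟩

include hlam hx_add hgx hgen W1 W2 T3 T2 hii R4 hspan Srow in
theorem row_all (a b : F) : Commute (x a) (X13 x t c b) := by
  obtain ⟨h1, -, h3⟩ := acts_d0 x t g c lam hlam hx_add hgx hgen W1 W2 T3 T2 hii R4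
  have hb := spread_comm x (X13 x t c) (X13_add x t c hx_add) _ (lam ^ 3) h1 h3 B₀ hspan Srow
  exact spread_comm2 x (X13 x t c) hx_add g lam lam⁻¹ hlam (inv_ne_zero hlam) hgx
    (acts_g_X13 x t g c lam hlam hgx R4) hgen hb a b

include hlam hgen in
theorem hgen_inv (a : F) (ha : a ≠ 0) : ∃ i : ℤ, a = lam⁻¹ ^ i := by
  obtain ⟨i, hi⟩ := hgen a ha
  exact ⟨-i, by rw [inv_zpow, zpow_neg, inv_inv]; exact hi⟩

include hlam hx_add hgx hgen W1 W2 T3 T2 hii R4 hspan Scol in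
theorem col_all (a b : F) : Commute (X13 x t c a) (X23 x c b) := by
  obtain ⟨h1, h3⟩ := acts_d1 x t g c lam hlam hx_add hgx hgen W1 W2 T3 T2 hii R4
  have hb := spread_comm (X13 x t c) (X23 x c) (X23_add x c hx_add) _ (lam ^ 3) h1 h3 B₀ hspan Scol
  exact spread_comm2 (X13 x t c) (X23 x c) (X13_add x t c hx_add) g lam⁻¹ (lam * lam)⁻¹
    (inv_ne_zero hlam) (inv_ne_zero (mul_ne_zero hlam hlam)) (acts_g_X13 x t g c lam hlam hgx R4)
    (acts_g_X23 x g c lam hlam hx_add hgx hgen W1 T3 T2 hii) (hgen_inv lam hlam hgen) hb a b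

include hlam hx_add hgx hgen W1 W2 T3 T2 hii R4 hspan Scol SCh in
theorem chev_all (a b : F) :
    x a * X23 x c b * (x a)⁻¹ * (X23 x c b)⁻¹ = X13 x t c (a * b) := by
  obtain ⟨h1, h2, h3⟩ := acts_d0 x t g c lam hlam hx_add hgx hgen W1 W2 T3 T2 hii R4
  have hb := spread_chev x (X23 x c) (X13 x t c) (X23_add x c hx_add) (X13_add x t c hx_add)
    (col_all x t g c lam hlam hx_add hgx hgen W1 W2 T3 T2 hii R4 B₀ hspan Scol)
    _ (lam ^ 3) h1 h2 h3 B₀ hspan SCh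
  exact spread_chev2 x (X23 x c) (X13 x t c) hx_add (X13_add x t c hx_add) g lam (lam * lam)⁻¹
    lam⁻¹ hlam (inv_ne_zero (mul_ne_zero hlam hlam)) (inv_ne_zero hlam) (by field_simp) hgx
    (acts_g_X23 x g c lam hlam hx_add hgx hgen W1 T3 T2 hii) (acts_g_X13 x t g c lam hlam hgx R4)
    hgen hb a b

include hlam hx_add hgx hgen W1 W2 T3 T2 hii R4 R5 hspan Srow Scol SCh in
/-- all Steinberg relations -/
theorem steinberg_rels :
    SteinbergRels x (yy x t) (X23 x c) (X32 x t c) (X31 x c) (X13 x t c) := by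
  have R1 := row_all x t g c lam hlam hx_add hgx hgen W1 W2 T3 T2 hii R4 B₀ hspan Srow
  have C1 := col_all x t g c lam hlam hx_add hgx hgen W1 W2 T3 T2 hii R4 B₀ hspan Scol
  have K1 := chev_all x t g c lam hlam hx_add hgx hgen W1 W2 T3 T2 hii R4 B₀ hspan Scol SCh
  -- conjugation by `c`
  have cx : ∀ a, c * x a * c⁻¹ = X23 x c a := fun a => rfl
  have cy : ∀ a, c * yy x t a * c⁻¹ = X32 x t c a := fun a => rfl
  have c23 := c_X23 x c W1
  have c31 := c_X31 x c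
  have c32 := c_X32 x t c W1
  have c13 := c_X13 x t c
  have R2 : ∀ a b, Commute (X23 x c a) (yy x t b) := by
    intro a b
    have := commute_conj c _ _ (R1 a (-b))
    rwa [cx, c13, neg_neg] at this
  have R3 : ∀ a b, Commute (X31 x c a) (X32 x t c b) := by
    intro a b
    have := commute_conj c _ _ (R2 (-a) b)
    rwa [c23, cy, neg_neg] at this
  have C2 : ∀ a b, Commute (yy x t a) (X31 x c b) := by
    intro a b
    have := commute_conj c _ _ (C1 (-a) (-b))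
    rwa [c13, c23, neg_neg, neg_neg] at this
  have C3 : ∀ a b, Commute (X32 x t c a) (x b) := by
    intro a b
    have := commute_conj c _ _ (C2 a (-b))
    rwa [cy, c31, neg_neg] at this
  have K2 : ∀ a b, X23 x c a * X31 x c b * (X23 x c a)⁻¹ * (X31 x c b)⁻¹ = yy x t (a * b) := by
    intro a b
    have := conj_rel c _ _ _ (K1 a (-b))
    rwa [cx, c23, c13, neg_neg, mul_neg, neg_neg] at this
  have K3 : ∀ a b, X31 x c a * x b * (X31 x c a)⁻¹ * (x b)⁻¹ = X32 x t c (a * b) := by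
    intro a b
    have := conj_rel c _ _ _ (K2 (-a) (-b))
    rwa [c23, c31, cy, neg_neg, neg_neg, neg_mul_neg] at this
  have tx : ∀ a, t * x a * t⁻¹ = yy x t (-a) := fun a => by unfold yy; rw [neg_neg]
  have t23 := t_X23 x t g c lam hlam hx_add hgx hgen W1 W2 hii R4 R5
  have t13 := t_X13 x t g c lam hlam hx_add hgx hgen W1 W2 T3 T2 hii R4 R5
  have K4 : ∀ a b, yy x t a * X13 x t c b * (yy x t a)⁻¹ * (X13 x t c b)⁻¹ = X23 x c (a * b) := by
    intro a b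
    have := conj_rel t _ _ _ (K1 (-a) b)
    rwa [tx, t23, t13, neg_neg, neg_mul, neg_neg] at this
  have K5 : ∀ a b, X32 x t c a * yy x t b * (X32 x t c a)⁻¹ * (yy x t b)⁻¹ = X31 x c (a * b) := by
    intro a b
    have := conj_rel c _ _ _ (K4 a (-b))
    rwa [cy, c13, c23, neg_neg, mul_neg, neg_neg] at this
  have K6 : ∀ a b, X13 x t c a * X32 x t c b * (X13 x t c a)⁻¹ * (X32 x t c b)⁻¹ = x (a * b) := by
    intro a b
    have := conj_rel c _ _ _ (K5 (-a) b)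
    rwa [c32, cy, c31, neg_neg, neg_mul, neg_neg] at this
  exact
    { add12 := hx_add
      add21 := yy_add x t hx_add
      add23 := X23_add x c hx_add
      add32 := X32_add x t c hx_add
      add31 := X31_add x c hx_add
      add13 := X13_add x t c hx_add
      row1 := R1
      row2 := R2
      row3 := R3
      col1 := C1
      col2 := C2
      col3 := C3
      k1 := K1
      k2 := K2
      k3 := K3
      k4 := K4
      k5 := K5
      k6 := K6 }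

end main

end Cfsg.Agent.Lib.Helper7.Pres3
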