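import Mathlib
import Cfsg.Agent.Lib.Helper7.Pres3D
import Cfsg.Agent.Lib.Helper7.StSLG

/-!
# Short presentation of `SL₃(F)`: the map from the Steinberg group (helper7)
-/

set_option autoImplicit false

namespace Cfsg.Agent.Lib.Helper7.Pres3

open Cfsg.Agent.Lib.Helper7.StSL

variable {F : Type*} [Field F] {Γ : Type*} [Group Γ]

/-- the six families as a function of the indices -/
def rootFam (A12 A21 A23 A32 A31 A13 : F → Γ) (i j : Fin 3) : F → Γ :=
  match i.val, j.val with
  | 0, 1 => A12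
  | 1, 0 => A21
  | 1, 2 => A23
  | 2, 1 => A32
  | 2, 0 => A31
  | 0, 2 => A13
  | _, _ => fun _ => 1

variable {A12 A21 A23 A32 A31 A13 : F → Γ}

theorem comm_of_add {A : F → Γ} (hA : ∀ a b, A (a + b) = A a * A b) (a b : F) :
    Commute (A a) (A b) := by
  show A a * A b = A b * A a
  rw [← hA, ← hA, add_comm]

theorem rootFam_add (h : SteinbergRels A12 A21 A23 A32 A31 A13) (i j : Fin 3) (hij : i ≠ j)
    (a b : F) : rootFam A12 A21 A23 A32 A31 A13 i j (a + b) =
      rootFam A12 A21 A23 A32 A31 A13 i j a * rootFam A12 A21 A23 A32 A31 A13 i j b := by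
  fin_cases i <;> fin_cases j <;>
    first
    | exact absurd rfl hij
    | exact h.add12 a b
    | exact h.add21 a b
    | exact h.add23 a b
    | exact h.add32 a b
    | exact h.add31 a b
    | exact h.add13 a b

theorem rootFam_comm (h : SteinbergRels A12 A21 A23 A32 A31 A13) (i j k l : Fin 3)
    (hij : i ≠ j) (hkl : k ≠ l) (hil : i ≠ l) (hjk : j ≠ k) (a b : F) :
    Commute (rootFam A12 A21 A23 A32 A31 A13 i j a) (rootFam A12 A21 A23 A32 A31 A13 k l b) := by
  fin_cases i <;> fin_cases j <;> fin_cases k <;> fin_cases l <;>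
    first
    | exact absurd rfl hij
    | exact absurd rfl hkl
    | exact absurd rfl hil
    | exact absurd rfl hjk
    | exact comm_of_add h.add12 a b
    | exact comm_of_add h.add21 a b
    | exact comm_of_add h.add23 a b
    | exact comm_of_add h.add32 a b
    | exact comm_of_add h.add31 a b
    | exact comm_of_add h.add13 a b
    | exact h.row1 a b
    | exact (h.row1 b a).symm
    | exact h.row2 a b
    | exact (h.row2 b a).symm
    | exact h.row3 a b
    | exact (h.row3 b a).symm
    | exact h.col1 a b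
    | exact (h.col1 b a).symm
    | exact h.col2 a b
    | exact (h.col2 b a).symm
    | exact h.col3 a b
    | exact (h.col3 b a).symm

theorem rootFam_chev (h : SteinbergRels A12 A21 A23 A32 A31 A13) (i j l : Fin 3)
    (hij : i ≠ j) (hjl : j ≠ l) (hil : i ≠ l) (a b : F) :
    rootFam A12 A21 A23 A32 A31 A13 i j a * rootFam A12 A21 A23 A32 A31 A13 j l b *
      (rootFam A12 A21 A23 A32 A31 A13 i j a)⁻¹ * (rootFam A12 A21 A23 A32 A31 A13 j l b)⁻¹ =
      rootFam A12 A21 A23 A32 A31 A13 i l (a * b) := by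
  fin_cases i <;> fin_cases j <;> fin_cases l <;>
    first
    | exact absurd rfl hij
    | exact absurd rfl hjl
    | exact absurd rfl hil
    | exact h.k1 a b
    | exact h.k2 a b
    | exact h.k3 a b
    | exact h.k4 a b
    | exact h.k5 a b
    | exact h.k6 a b

/-- the relators of the Steinberg group hold -/
theorem steinberg_lift (h : SteinbergRels A12 A21 A23 A32 A31 A13) :
    ∀ r ∈ rels F 3, FreeGroup.lift
      (fun p : Idx 3 × F => rootFam A12 A21 A23 A32 A31 A13 p.1.1.1 p.1.1.2 p.2) r = 1 := by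
  rintro r ((⟨a, t, u, rfl⟩ | ⟨a, b, t, u, h1, h2, rfl⟩) | ⟨a, b, hh, t, u, hab, rfl⟩)
  · simp only [map_mul, map_inv, FreeGroup.lift_apply_of]
    rw [mul_inv_eq_one]
    exact (rootFam_add h a.1.1 a.1.2 a.2 t u).symm
  · simp only [map_mul, map_inv, FreeGroup.lift_apply_of]
    rw [mul_inv_eq_one, mul_inv_eq_iff_eq_mul]
    exact (rootFam_comm h a.1.1 a.1.2 b.1.1 b.1.2 a.2 b.2 h1 h2 t u).eq
  · simp only [map_mul, map_inv, FreeGroup.lift_apply_of]
    rw [mul_inv_eq_one]
    obtain ⟨⟨i, j⟩, hij⟩ := a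
    obtain ⟨⟨k, l⟩, hkl⟩ := b
    simp only at hab hh
    subst hab
    exact rootFam_chev h i j l hij hkl hh t u

/-- the homomorphism from the Steinberg group -/
noncomputable def steinHom (h : SteinbergRels A12 A21 A23 A32 A31 A13) : St F 3 →* Γ :=
  PresentedGroup.toGroup (steinberg_lift h)

theorem steinHom_X (h : SteinbergRels A12 A21 A23 A32 A31 A13) (i j : Fin 3) (hij : i ≠ j) (a : F) :
    steinHom h (X i j a) = rootFam A12 A21 A23 A32 A31 A13 i j a := by
  rw [X_of hij]
  exact PresentedGroup.toGroup.of (steinberg_lift h)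

/-- **criterion**: a group carrying Steinberg relations, generated by the root elements, and mapping to `SL₃(F)`
compatibly, is isomorphic to `SL₃(F)`. -/
theorem bijective_of_steinberg [Fintype F] (h : SteinbergRels A12 A21 A23 A32 A31 A13)
    (hgen : ∀ γ : Γ, γ ∈ Subgroup.closure
      (Set.range A12 ∪ Set.range A21 ∪ Set.range A23 ∪ Set.range A32 ∪ Set.range A31 ∪ Set.range A13))
    (φ : Γ →* Matrix.SpecialLinearGroup (Fin 3) F)
    (hφ : ∀ (i j : Fin 3) (hij : i ≠ j) (a : F),
      φ (rootFam A12 A21 A23 A32 A31 A13 i j a) = Matrix.SpecialLinearGroup.transvection hij a) :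
    Function.Bijective φ := by
  -- `φ ∘ ψ = toSL`
  have hcomp : φ.comp (steinHom h) = (toSL : St F 3 →* _) := by
    apply PresentedGroup.ext
    rintro ⟨⟨⟨i, j⟩, hij⟩, a⟩
    have hij' : i ≠ j := hij
    have e1 : (PresentedGroup.of ((⟨(i, j), hij⟩ : Idx 3), a) : St F 3) = X i j a := (X_of hij' a).symm
    rw [e1, MonoidHom.comp_apply, steinHom_X h i j hij' a, hφ i j hij' a, toSL_X hij' a]
  -- `ψ` is surjective
  have hsurj : Function.Surjective (steinHom h) := by
    rw [← MonoidHom.range_eq_top, eq_top_iff]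
    intro γ _
    have hle : Subgroup.closure
        (Set.range A12 ∪ Set.range A21 ∪ Set.range A23 ∪ Set.range A32 ∪ Set.range A31 ∪
          Set.range A13) ≤ (steinHom h).range := by
      rw [Subgroup.closure_le]
      rintro z (((((⟨a, rfl⟩ | ⟨a, rfl⟩) | ⟨a, rfl⟩) | ⟨a, rfl⟩) | ⟨a, rfl⟩) | ⟨a, rfl⟩)
      · exact ⟨X 0 1 a, steinHom_X h 0 1 (by decide) a⟩
      · exact ⟨X 1 0 a, steinHom_X h 1 0 (by decide) a⟩
      · exact ⟨X 1 2 a, steinHom_X h 1 2 (by decide) a⟩
      · exact ⟨X 2 1 a, steinHom_X h 2 1 (by decide) a⟩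
      · exact ⟨X 2 0 a, steinHom_X h 2 0 (by decide) a⟩
      · exact ⟨X 0 2 a, steinHom_X h 0 2 (by decide) a⟩
    exact hle (hgen γ)
  have hinj := toSL_injective (K := F) (n := 3) (le_refl 3)
  have hsur := toSL_surjective (K := F) (n := 3) (by norm_num)
  constructor
  · intro γ1 γ2 he
    obtain ⟨s1, rfl⟩ := hsurj γ1
    obtain ⟨s2, rfl⟩ := hsurj γ2
    have : (toSL : St F 3 →* _) s1 = toSL s2 := by
      rw [← hcomp]; exact he
    rw [hinj this]
  · intro M
    obtain ⟨s, rfl⟩ := hsur M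
    exact ⟨steinHom h s, by rw [← hcomp]; rfl⟩

end Cfsg.Agent.Lib.Helper7.Pres3
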