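import Mathlib

/-!
# Short presentation of `SL₃(F)`: the matrices (helper7)
-/

set_option autoImplicit false

namespace Cfsg.Agent.Lib.Helper7.Pres3

variable {F : Type*} [Field F]

/-- elementary matrices -/
def e12 (a : F) : Matrix.SpecialLinearGroup (Fin 3) F :=
  ⟨!![1, a, 0; 0, 1, 0; 0, 0, 1], by simp [Matrix.det_fin_three]⟩
/-- elementary matrices -/
def e21 (a : F) : Matrix.SpecialLinearGroup (Fin 3) F :=
  ⟨!![1, 0, 0; a, 1, 0; 0, 0, 1], by simp [Matrix.det_fin_three]⟩
/-- elementary matrices -/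
def e23 (a : F) : Matrix.SpecialLinearGroup (Fin 3) F :=
  ⟨!![1, 0, 0; 0, 1, a; 0, 0, 1], by simp [Matrix.det_fin_three]⟩
/-- elementary matrices -/
def e32 (a : F) : Matrix.SpecialLinearGroup (Fin 3) F :=
  ⟨!![1, 0, 0; 0, 1, 0; 0, a, 1], by simp [Matrix.det_fin_three]⟩
/-- elementary matrices -/
def e31 (a : F) : Matrix.SpecialLinearGroup (Fin 3) F :=
  ⟨!![1, 0, 0; 0, 1, 0; a, 0, 1], by simp [Matrix.det_fin_three]⟩
/-- elementary matrices -/
def e13 (a : F) : Matrix.SpecialLinearGroup (Fin 3) F :=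
  ⟨!![1, 0, a; 0, 1, 0; 0, 0, 1], by simp [Matrix.det_fin_three]⟩

/-- the Weyl element for the first simple root -/
def mT : Matrix.SpecialLinearGroup (Fin 3) F :=
  ⟨!![0, 1, 0; -1, 0, 0; 0, 0, 1], by simp [Matrix.det_fin_three]⟩

/-- a signed three cycle -/
def mC : Matrix.SpecialLinearGroup (Fin 3) F :=
  ⟨!![0, 0, 1; -1, 0, 0; 0, -1, 0], by simp [Matrix.det_fin_three]⟩

/-- `diag(1, ζ, ζ⁻¹)` -/
def mG (z : Fˣ) : Matrix.SpecialLinearGroup (Fin 3) F :=
  ⟨!![1, 0, 0; 0, (z : F), 0; 0, 0, ((z⁻¹ : Fˣ) : F)], by simp [Matrix.det_fin_three]⟩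

/-- `diag(ζ⁻¹, 1, ζ)` -/
def mG3 (z : Fˣ) : Matrix.SpecialLinearGroup (Fin 3) F :=
  ⟨!![((z⁻¹ : Fˣ) : F), 0, 0; 0, 1, 0; 0, 0, (z : F)], by simp [Matrix.det_fin_three]⟩

/-- `diag(ζ, ζ⁻¹, 1)` -/
def mG1 (z : Fˣ) : Matrix.SpecialLinearGroup (Fin 3) F :=
  ⟨!![(z : F), 0, 0; 0, ((z⁻¹ : Fˣ) : F), 0; 0, 0, 1], by simp [Matrix.det_fin_three]⟩

/-- a tactic-free way to compare products of such matrices -/
theorem sl3_ext (A B : Matrix.SpecialLinearGroup (Fin 3) F)
    (h : (A : Matrix (Fin 3) (Fin 3) F) = B) : A = B := Subtype.ext h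

theorem e12_add (a b : F) : e12 (a + b) = e12 a * e12 b := by
  apply sl3_ext
  simp only [Matrix.SpecialLinearGroup.coe_mul]
  simp only [e12, Matrix.mul_fin_three]
  ext i j; fin_cases i <;> fin_cases j <;> simp <;> ring

theorem e12_zero : e12 (0 : F) = 1 := by
  apply sl3_ext
  simp only [e12, Matrix.SpecialLinearGroup.coe_one, Matrix.one_fin_three]

theorem mG_e12 (z : Fˣ) (a : F) : mG z * e12 a = e12 (((z⁻¹ : Fˣ) : F) * a) * mG z := by
  apply sl3_ext
  simp only [Matrix.SpecialLinearGroup.coe_mul]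
  simp only [e12, mG, Matrix.mul_fin_three]
  ext i j; fin_cases i <;> fin_cases j <;> simp
  field_simp

theorem mG3_e12 (z : Fˣ) (a : F) : mG3 z * e12 a = e12 (((z⁻¹ : Fˣ) : F) * a) * mG3 z := by
  apply sl3_ext
  simp only [Matrix.SpecialLinearGroup.coe_mul]
  simp only [e12, mG3, Matrix.mul_fin_three]
  ext i j; fin_cases i <;> fin_cases j <;> simp

theorem mC_mG (z : Fˣ) : mC * mG z = mG3 z * mC := by
  apply sl3_ext
  simp only [Matrix.SpecialLinearGroup.coe_mul]
  simp only [mC, mG, mG3, Matrix.mul_fin_three]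
  ext i j; fin_cases i <;> fin_cases j <;> simp

theorem mC_mG1 (z : Fˣ) : mC * mG1 z = mG z * mC := by
  apply sl3_ext
  simp only [Matrix.SpecialLinearGroup.coe_mul]
  simp only [mC, mG, mG1, Matrix.mul_fin_three]
  ext i j; fin_cases i <;> fin_cases j <;> simp

theorem mG_mG3_mG1 (z : Fˣ) : mG z * mG3 z * mG1 z = 1 := by
  apply sl3_ext
  simp only [Matrix.SpecialLinearGroup.coe_mul, Matrix.SpecialLinearGroup.coe_one]
  simp only [mG, mG3, mG1, Matrix.mul_fin_three, Matrix.one_fin_three]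
  ext i j; fin_cases i <;> fin_cases j <;> simp

theorem mG_mG3_comm (z : Fˣ) : mG z * mG3 z = mG3 z * mG z := by
  apply sl3_ext
  simp only [Matrix.SpecialLinearGroup.coe_mul]
  simp only [mG, mG3, Matrix.mul_fin_three]
  ext i j; fin_cases i <;> fin_cases j <;> simp [mul_comm]

theorem mG3_mT_mG (z : Fˣ) : mG3 z * mT * mG z = mT := by
  apply sl3_ext
  simp only [Matrix.SpecialLinearGroup.coe_mul]
  simp only [mG, mG3, mT, Matrix.mul_fin_three]
  ext i j; fin_cases i <;> fin_cases j <;> simp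

theorem mT_eq : (mT : Matrix.SpecialLinearGroup (Fin 3) F) = e12 1 * e21 (-1) * e12 1 := by
  apply sl3_ext
  simp only [Matrix.SpecialLinearGroup.coe_mul]
  simp only [e12, e21, mT, Matrix.mul_fin_three]
  ext i j; fin_cases i <;> fin_cases j <;> simp

theorem mT_e12 (a : F) : mT * e12 a = e21 (-a) * mT := by
  apply sl3_ext
  simp only [Matrix.SpecialLinearGroup.coe_mul]
  simp only [e12, e21, mT, Matrix.mul_fin_three]
  ext i j; fin_cases i <;> fin_cases j <;> simp

theorem mC_cube : (mC : Matrix.SpecialLinearGroup (Fin 3) F) * mC * mC = 1 := by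
  apply sl3_ext
  simp only [Matrix.SpecialLinearGroup.coe_mul, Matrix.SpecialLinearGroup.coe_one]
  simp only [mC, Matrix.mul_fin_three, Matrix.one_fin_three]
  ext i j; fin_cases i <;> fin_cases j <;> simp

theorem mT_mC_sq : (mT : Matrix.SpecialLinearGroup (Fin 3) F) * mC * mT * mC = 1 := by
  apply sl3_ext
  simp only [Matrix.SpecialLinearGroup.coe_mul, Matrix.SpecialLinearGroup.coe_one]
  simp only [mC, mT, Matrix.mul_fin_three, Matrix.one_fin_three]
  ext i j; fin_cases i <;> fin_cases j <;> simp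

theorem mC_e12 (a : F) : mC * e12 a = e23 a * mC := by
  apply sl3_ext
  simp only [Matrix.SpecialLinearGroup.coe_mul]
  simp only [e12, e23, mC, Matrix.mul_fin_three]
  ext i j; fin_cases i <;> fin_cases j <;> simp

theorem mC_e21 (a : F) : mC * e21 a = e32 a * mC := by
  apply sl3_ext
  simp only [Matrix.SpecialLinearGroup.coe_mul]
  simp only [e21, e32, mC, Matrix.mul_fin_three]
  ext i j; fin_cases i <;> fin_cases j <;> simp

theorem mC_e13 (a : F) : mC * e13 a = e21 (-a) * mC := by
  apply sl3_ext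
  simp only [Matrix.SpecialLinearGroup.coe_mul]
  simp only [e21, e13, mC, Matrix.mul_fin_three]
  ext i j; fin_cases i <;> fin_cases j <;> simp

theorem mC_e31 (a : F) : mC * e31 a = e12 (-a) * mC := by
  apply sl3_ext
  simp only [Matrix.SpecialLinearGroup.coe_mul]
  simp only [e12, e31, mC, Matrix.mul_fin_three]
  ext i j; fin_cases i <;> fin_cases j <;> simp

theorem e12_e13 (a b : F) : e12 a * e13 b = e13 b * e12 a := by
  apply sl3_ext
  simp only [Matrix.SpecialLinearGroup.coe_mul]
  simp only [e12, e13, Matrix.mul_fin_three]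
  ext i j; fin_cases i <;> fin_cases j <;> simp

theorem e13_e23 (a b : F) : e13 a * e23 b = e23 b * e13 a := by
  apply sl3_ext
  simp only [Matrix.SpecialLinearGroup.coe_mul]
  simp only [e23, e13, Matrix.mul_fin_three]
  ext i j; fin_cases i <;> fin_cases j <;> simp

theorem e12_e23 (a b : F) : e12 a * e23 b = e13 (a * b) * e23 b * e12 a := by
  apply sl3_ext
  simp only [Matrix.SpecialLinearGroup.coe_mul]
  simp only [e12, e23, e13, Matrix.mul_fin_three]
  ext i j; fin_cases i <;> fin_cases j <;> simp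

theorem e12_eq (a : F) :
    e12 a = Matrix.SpecialLinearGroup.transvection (show (0 : Fin 3) ≠ 1 by decide) a := by
  apply sl3_ext
  simp only [e12, Matrix.SpecialLinearGroup.transvection_coe, Matrix.transvection]
  ext i j; fin_cases i <;> fin_cases j <;> simp

theorem e21_eq (a : F) :
    e21 a = Matrix.SpecialLinearGroup.transvection (show (1 : Fin 3) ≠ 0 by decide) a := by
  apply sl3_ext
  simp only [e21, Matrix.SpecialLinearGroup.transvection_coe, Matrix.transvection]
  ext i j; fin_cases i <;> fin_cases j <;> simp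

theorem e23_eq (a : F) :
    e23 a = Matrix.SpecialLinearGroup.transvection (show (1 : Fin 3) ≠ 2 by decide) a := by
  apply sl3_ext
  simp only [e23, Matrix.SpecialLinearGroup.transvection_coe, Matrix.transvection]
  ext i j; fin_cases i <;> fin_cases j <;> simp

theorem e32_eq (a : F) :
    e32 a = Matrix.SpecialLinearGroup.transvection (show (2 : Fin 3) ≠ 1 by decide) a := by
  apply sl3_ext
  simp only [e32, Matrix.SpecialLinearGroup.transvection_coe, Matrix.transvection]
  ext i j; fin_cases i <;> fin_cases j <;> simp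

theorem e31_eq (a : F) :
    e31 a = Matrix.SpecialLinearGroup.transvection (show (2 : Fin 3) ≠ 0 by decide) a := by
  apply sl3_ext
  simp only [e31, Matrix.SpecialLinearGroup.transvection_coe, Matrix.transvection]
  ext i j; fin_cases i <;> fin_cases j <;> simp

theorem e13_eq (a : F) :
    e13 a = Matrix.SpecialLinearGroup.transvection (show (0 : Fin 3) ≠ 2 by decide) a := by
  apply sl3_ext
  simp only [e13, Matrix.SpecialLinearGroup.transvection_coe, Matrix.transvection]
  ext i j; fin_cases i <;> fin_cases j <;> simp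

end Cfsg.Agent.Lib.Helper7.Pres3
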