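import Mathlib
import Cfsg.Agent.Lib.Helper7.Pres3E
import Cfsg.Agent.Lib.Helper7.Pres3F

/-!
# Short presentation of `SL₃(F)`: the abstract isomorphism theorem (helper7)
-/

set_option autoImplicit false

namespace Cfsg.Agent.Lib.Helper7.Pres3

open Cfsg.Agent.Lib.Helper7.Pres2

section main

variable {F : Type*} [Field F] {Γ : Type*} [Group Γ] (x : F → Γ) (t g c : Γ) (lam : F)
  (hlam : lam ≠ 0)
  (hx_add : ∀ a b : F, x (a + b) = x a * x b)
  (hgx : Acts g x lam)
  (hgen : ∀ a : F, a ≠ 0 → ∃ i : ℤ, a = lam ^ i)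
  (W1 : c * c * c = 1)
  (W2 : t * c * t * c = 1)
  (T3 : Commute g (c * g * c⁻¹))
  (T2 : (c * g * c⁻¹) * x 1 * (c * g * c⁻¹)⁻¹ = x lam)
  (hii : g * (c * g * c⁻¹) * (c⁻¹ * g * c) = 1)
  (R4 : t * g * t⁻¹ = (c * g * c⁻¹)⁻¹)
  (R5 : t = x 1 * (t * x 1 * t⁻¹) * x 1)

include hlam hx_add hgx hgen W1 W2 T3 T2 hii R4 R5 in
/-- the four generators are products of root elements -/
theorem gens_mem (S : Subgroup Γ) (h12 : ∀ a, x a ∈ S) (h21 : ∀ a, yy x t a ∈ S)
    (h31 : ∀ a, X31 x c a ∈ S) (h13 : ∀ a, X13 x t c a ∈ S) :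
    t ∈ S ∧ c ∈ S ∧ g ∈ S := by
  have ht : t ∈ S := by
    have : t = x 1 * yy x t (-1) * x 1 := by
      unfold yy; rw [neg_neg]; exact R5
    rw [this]
    exact mul_mem (mul_mem (h12 1) (h21 (-1))) (h12 1)
  have hc : c ∈ S := by
    -- `c = (c⁻¹ t c) t`
    have e1 : c = (c⁻¹ * t * c) * t := by
      have h1 := tc_eq t c W2
      have h2 := c_inv c W1
      -- `c⁻¹ t c t = c⁻¹ (t c) t ... `
      have : c⁻¹ * t * c * t = c⁻¹ * (t * c) * t := by group
      rw [this, h1]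
      have : c⁻¹ * (c⁻¹ * t⁻¹) * t = c⁻¹ * c⁻¹ := by group
      rw [this, h2]
      have : c * c * (c * c) = (c * c * c) * c := by group
      rw [this, W1, one_mul]
    have e2 : c⁻¹ * t * c = X31 x c (-1) * X13 x t c 1 * X31 x c (-1) := by
      unfold X31 X13
      rw [neg_neg]
      have : t = x 1 * yy x t (-1) * x 1 := by
        unfold yy; rw [neg_neg]; exact R5
      conv_lhs => rw [this]
      group
    rw [e1, e2]
    exact mul_mem (mul_mem (mul_mem (h31 _) (h13 _)) (h31 _)) ht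
  refine ⟨ht, hc, ?_⟩
  -- `h₁ = g⁻¹ t g t⁻¹`
  have hx' := (hgx.inv hlam) 1
  have hy' := ((acts_g_yy x t g c lam hlam hx_add hgx hgen W1 W2 T3 T2 hii R4).inv
    (inv_ne_zero hlam)) (-1)
  rw [inv_inv] at hx' hy'
  have hgt : g⁻¹ * t * g ∈ S := by
    have : t = x 1 * yy x t (-1) * x 1 := by
      unfold yy; rw [neg_neg]; exact R5
    have e : g⁻¹ * t * g = (g⁻¹ * x 1 * g) * (g⁻¹ * yy x t (-1) * g) * (g⁻¹ * x 1 * g) := by
      conv_lhs => rw [this]
      group
    rw [e, hx', hy']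
    exact mul_mem (mul_mem (h12 _) (h21 _)) (h12 _)
  have hh1 : c⁻¹ * g * c ∈ S := by
    have e : c⁻¹ * g * c = (g⁻¹ * t * g) * t⁻¹ := by
      rw [h1_eq g c hii]
      have : g⁻¹ * t * g * t⁻¹ = g⁻¹ * (t * g * t⁻¹) := by group
      rw [this, R4, T3.eq, mul_inv_rev]
    rw [e]
    exact mul_mem hgt (inv_mem ht)
  have e : g = c * (c⁻¹ * g * c) * c⁻¹ := by group
  rw [e]
  exact mul_mem (mul_mem hc hh1) (inv_mem hc)

end main

/-- **the abstract isomorphism theorem** -/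
theorem bijective_of_relations {F : Type*} [Field F] [Fintype F] {Γ : Type*} [Group Γ]
    (x : F → Γ) (t g c : Γ) (lam : F) (hlam : lam ≠ 0)
    (hx_add : ∀ a b : F, x (a + b) = x a * x b)
    (hgx : Acts g x lam)
    (hgen : ∀ a : F, a ≠ 0 → ∃ i : ℤ, a = lam ^ i)
    (W1 : c * c * c = 1)
    (W2 : t * c * t * c = 1)
    (T3 : Commute g (c * g * c⁻¹))
    (T2 : (c * g * c⁻¹) * x 1 * (c * g * c⁻¹)⁻¹ = x lam)
    (hii : g * (c * g * c⁻¹) * (c⁻¹ * g * c) = 1)
    (R4 : t * g * t⁻¹ = (c * g * c⁻¹)⁻¹)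
    (R5 : t = x 1 * (t * x 1 * t⁻¹) * x 1)
    (B₀ : Set F)
    (hspan : ∀ S : AddSubgroup F, (∀ b ∈ B₀, b ∈ S) → (∀ b ∈ S, lam ^ 3 * b ∈ S) → ∀ b, b ∈ S)
    (Srow : ∀ b ∈ B₀, Commute (x 1) (X13 x t c b))
    (Scol : ∀ b ∈ B₀, Commute (X13 x t c 1) (X23 x c b))
    (SCh : ∀ b ∈ B₀, x 1 * X23 x c b * (x 1)⁻¹ * (X23 x c b)⁻¹ = X13 x t c b)
    (hgenΓ : Subgroup.closure {x 1, t, g, c} = ⊤)
    (φ : Γ →* Matrix.SpecialLinearGroup (Fin 3) F)
    (hφx : ∀ a, φ (x a) = e12 a) (hφt : φ t = mT) (hφc : φ c = mC) :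
    Function.Bijective φ := by
  have hst := steinberg_rels x t g c lam hlam hx_add hgx hgen W1 W2 T3 T2 hii R4 R5 B₀ hspan
    Srow Scol SCh
  apply bijective_of_steinberg hst
  · intro γ
    set S := Subgroup.closure
      (Set.range x ∪ Set.range (yy x t) ∪ Set.range (X23 x c) ∪ Set.range (X32 x t c) ∪
        Set.range (X31 x c) ∪ Set.range (X13 x t c)) with hS
    have h12 : ∀ a, x a ∈ S := fun a => Subgroup.subset_closure (by simp)
    have h21 : ∀ a, yy x t a ∈ S := fun a => Subgroup.subset_closure (by simp)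
    have h31 : ∀ a, X31 x c a ∈ S := fun a => Subgroup.subset_closure (by simp)
    have h13 : ∀ a, X13 x t c a ∈ S := fun a => Subgroup.subset_closure (by simp)
    obtain ⟨ht, hc, hg⟩ := gens_mem x t g c lam hlam hx_add hgx hgen W1 W2 T3 T2 hii R4 R5 S
      h12 h21 h31 h13
    have hle : Subgroup.closure {x 1, t, g, c} ≤ S := by
      rw [Subgroup.closure_le]
      rintro z (rfl | rfl | rfl | rfl)
      · exact h12 1
      · exact ht
      · exact hg
      · exact hc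
    rw [hgenΓ] at hle
    exact hle (Subgroup.mem_top γ)
  · -- images of the root elements
    have hy : ∀ a, φ (yy x t a) = e21 a := by
      intro a
      unfold yy
      rw [map_mul, map_mul, map_inv, hφx, hφt, mT_e12, neg_neg, mul_inv_cancel_right]
    have h23 : ∀ a, φ (X23 x c a) = e23 a := by
      intro a
      unfold X23
      rw [map_mul, map_mul, map_inv, hφx, hφc, mC_e12, mul_inv_cancel_right]
    have h32 : ∀ a, φ (X32 x t c a) = e32 a := by
      intro a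
      unfold X32
      rw [map_mul, map_mul, map_inv, hy, hφc, mC_e21, mul_inv_cancel_right]
    have h31 : ∀ a, φ (X31 x c a) = e31 a := by
      intro a
      unfold X31
      rw [map_mul, map_mul, map_inv, hφx, hφc, mul_assoc, ← mC_e31, inv_mul_cancel_left]
    have h13 : ∀ a, φ (X13 x t c a) = e13 a := by
      intro a
      unfold X13
      rw [map_mul, map_mul, map_inv, hy, hφc, mul_assoc, ← mC_e13, inv_mul_cancel_left]
    intro i j hij a
    fin_cases i <;> fin_cases j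
    · exact absurd rfl hij
    · exact (hφx a).trans (e12_eq a)
    · exact (h13 a).trans (e13_eq a)
    · exact (hy a).trans (e21_eq a)
    · exact absurd rfl hij
    · exact (h23 a).trans (e23_eq a)
    · exact (h31 a).trans (e31_eq a)
    · exact (h32 a).trans (e32_eq a)
    · exact absurd rfl hij

end Cfsg.Agent.Lib.Helper7.Pres3
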