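import Mathlib
import Cfsg.Agent.Lib.Helper7.Pres3G
import Cfsg.Agent.Lib.Helper7.Pres2M

/-!
# Short presentation of `SL₃(F)`: the relators as words, and their values in `SL₃(F)` (helper7)
-/

set_option autoImplicit false

namespace Cfsg.Agent.Lib.Helper7.Pres3

open Cfsg.Agent.Lib.Helper7.Pres2 Polynomial

/-- the free group on four generators -/
abbrev W4 : Type := FreeGroup (Fin 4)

/-- first generator: the root element `x₁₂(1)` -/
def vu : W4 := FreeGroup.of 0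
/-- second generator: the Weyl element `w₁₂` -/
def vt : W4 := FreeGroup.of 1
/-- third generator: the torus element `diag(1, ζ, ζ⁻¹)` -/
def vg : W4 := FreeGroup.of 2
/-- fourth generator: the signed three cycle -/
def vc : W4 := FreeGroup.of 3

/-- relator for an equation -/
def eqR (a b : W4) : W4 := a * b⁻¹
/-- relator for a commutation -/
def cmR (a b : W4) : W4 := a * b * a⁻¹ * b⁻¹

/-- conjugate of `g` by `c` -/
def vh3 : W4 := vc * vg * vc⁻¹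
/-- conjugate of `g` by `c⁻¹` -/
def vh1 : W4 := vc⁻¹ * vg * vc
/-- the word for `x₁₃(λ ^ j)` -/
def r13 (j : ℤ) : W4 := vc⁻¹ * (vt * cj vu vg j * vt⁻¹) * vc
/-- the word for `x₂₃(λ ^ j)` -/
def r23 (j : ℤ) : W4 := vc * cj vu vg j * vc⁻¹

/-- `u ^ p` -/
def vB1 (p : ℕ) : W4 := vu ^ p
/-- `[u, g u g⁻¹]` -/
def vBC : W4 := cmR vu (cj vu vg 1)
/-- `g ^ k u g ^ (-k) = u (g u g⁻¹)` -/
def vB2 (k : ℤ) : W4 := eqR (cj vu vg k) (vu * cj vu vg 1)
/-- the minimal polynomial -/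
noncomputable def vB3 (mt : ℤ[X]) : W4 := pw vu vg 1 mt
/-- `[g, c g c⁻¹]` -/
def vT3 : W4 := cmR vg vh3
/-- `c g c⁻¹` acts on `u` as `g` does -/
def vT2 : W4 := eqR (vh3 * vu * vh3⁻¹) (vg * vu * vg⁻¹)
/-- the product of the three conjugates of `g` -/
def vII : W4 := vg * vh3 * vh1
/-- `t` acts on `g` -/
def vR4 : W4 := eqR (vt * vg * vt⁻¹) vh3⁻¹
/-- `t = u u^t u` -/
def vR5 : W4 := eqR vt (vu * (vt * vu * vt⁻¹) * vu)
/-- `c³` -/
def vW1 : W4 := vc * vc * vc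
/-- `(t c)²` -/
def vW2 : W4 := vt * vc * vt * vc
/-- `t c t = c²` -/
def vW : W4 := eqR (vt * vc * vt) (vc * vc)
/-- `[x₁₂(1), x₁₃(λ ^ j)]` -/
def vSrow (j : ℤ) : W4 := cmR vu (r13 j)
/-- `[x₁₃(1), x₂₃(λ ^ j)]` -/
def vScol (j : ℤ) : W4 := cmR (r13 0) (r23 j)
/-- `[x₁₂(1), x₂₃(λ ^ j)] = x₁₃(λ ^ j)` -/
def vSCh (j : ℤ) : W4 := eqR (vu * r23 j * vu⁻¹ * (r23 j)⁻¹) (r13 j)

section iff

variable {G : Type*} [Group G] (φ : W4 →* G)

theorem eqR_iff (a b : W4) : φ (eqR a b) = 1 ↔ φ a = φ b := by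
  unfold eqR
  rw [map_mul, map_inv, mul_inv_eq_one]

theorem cmR_iff (a b : W4) : φ (cmR a b) = 1 ↔ Commute (φ a) (φ b) := by
  unfold cmR
  simp only [map_mul, map_inv]
  rw [mul_inv_eq_one, mul_inv_eq_iff_eq_mul]
  exact Iff.rfl

theorem map_vh3 : φ vh3 = φ vc * φ vg * (φ vc)⁻¹ := by
  unfold vh3; simp only [map_mul, map_inv]

theorem map_vh1 : φ vh1 = (φ vc)⁻¹ * φ vg * φ vc := by
  unfold vh1; simp only [map_mul, map_inv]

theorem map_r13 (j : ℤ) :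
    φ (r13 j) = (φ vc)⁻¹ * (φ vt * cj (φ vu) (φ vg) j * (φ vt)⁻¹) * φ vc := by
  unfold r13; simp only [map_mul, map_inv, map_cj]

theorem map_r23 (j : ℤ) : φ (r23 j) = φ vc * cj (φ vu) (φ vg) j * (φ vc)⁻¹ := by
  unfold r23; simp only [map_mul, map_inv, map_cj]

end iff

/-- the relations in a group on four generators `u, t, g, c` that present `SL₃` -/
structure Hyps {Γ : Type*} [Group Γ] (p : ℕ) (mt : ℤ[X]) (J : List ℤ) (u t g c : Γ) : Prop where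
  hcom : ∀ m n : ℤ, Commute (cj u g m) (cj u g n)
  b1 : u ^ p = 1
  b3 : pw u g 1 mt = 1
  t3 : Commute g (c * g * c⁻¹)
  t2 : (c * g * c⁻¹) * u * (c * g * c⁻¹)⁻¹ = g * u * g⁻¹
  ii : g * (c * g * c⁻¹) * (c⁻¹ * g * c) = 1
  r4 : t * g * t⁻¹ = (c * g * c⁻¹)⁻¹
  r5 : t = u * (t * u * t⁻¹) * u
  w1 : c * c * c = 1
  w2 : t * c * t * c = 1
  srow : ∀ j ∈ J, Commute u (c⁻¹ * (t * cj u g j * t⁻¹) * c)
  scol : ∀ j ∈ J, Commute (c⁻¹ * (t * u * t⁻¹) * c) (c * cj u g j * c⁻¹)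
  sch : ∀ j ∈ J, u * (c * cj u g j * c⁻¹) * u⁻¹ * (c * cj u g j * c⁻¹)⁻¹ =
    c⁻¹ * (t * cj u g j * t⁻¹) * c

/-- the relators common to all cases -/
def coreL (J : List ℤ) : List W4 :=
  [vT3, vT2, vII, vR4, vR5] ++ J.flatMap (fun j => [vSrow j, vScol j, vSCh j])

theorem coreL_length (J : List ℤ) : (coreL J).length = 5 + 3 * J.length := by
  unfold coreL
  rw [List.length_append, List.length_flatMap]
  simp [mul_comm]

theorem mem_coreL_of (J : List ℤ) (j : ℤ) (hj : j ∈ J) :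
    vSrow j ∈ coreL J ∧ vScol j ∈ coreL J ∧ vSCh j ∈ coreL J := by
  unfold coreL
  refine ⟨?_, ?_, ?_⟩ <;>
  · apply List.mem_append_right
    rw [List.mem_flatMap]
    exact ⟨j, hj, by simp⟩

/-- the relators give the relations -/
theorem hyps_of_core {G : Type*} [Group G] (φ : W4 →* G) (p : ℕ) (mt : ℤ[X]) (J : List ℤ)
    (hcore : ∀ r ∈ coreL J, φ r = 1)
    (hcom : ∀ m n : ℤ, Commute (cj (φ vu) (φ vg) m) (cj (φ vu) (φ vg) n))
    (b1 : φ vu ^ p = 1) (b3 : pw (φ vu) (φ vg) 1 mt = 1)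
    (w1 : φ vc * φ vc * φ vc = 1) (w2 : φ vt * φ vc * φ vt * φ vc = 1) :
    Hyps p mt J (φ vu) (φ vt) (φ vg) (φ vc) := by
  have m3 : vT3 ∈ coreL J := by unfold coreL; simp
  have m2 : vT2 ∈ coreL J := by unfold coreL; simp
  have mi : vII ∈ coreL J := by unfold coreL; simp
  have m4 : vR4 ∈ coreL J := by unfold coreL; simp
  have m5 : vR5 ∈ coreL J := by unfold coreL; simp
  refine ⟨hcom, b1, b3, ?_, ?_, ?_, ?_, ?_, w1, w2, ?_, ?_, ?_⟩
  · have := (cmR_iff φ _ _).1 (hcore _ m3)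
    rwa [map_vh3] at this
  · have := (eqR_iff φ _ _).1 (hcore _ m2)
    simpa only [map_mul, map_inv, map_vh3] using this
  · have := hcore _ mi
    unfold vII at this
    simpa only [map_mul, map_vh3, map_vh1] using this
  · have := (eqR_iff φ _ _).1 (hcore _ m4)
    simpa only [map_mul, map_inv, map_vh3] using this
  · have := (eqR_iff φ _ _).1 (hcore _ m5)
    simpa only [map_mul, map_inv] using this
  · intro j hj
    have := (cmR_iff φ _ _).1 (hcore _ (mem_coreL_of J j hj).1)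
    rwa [map_r13] at this
  · intro j hj
    have := (cmR_iff φ _ _).1 (hcore _ (mem_coreL_of J j hj).2.1)
    rwa [map_r13, map_r23, cj_zero] at this
  · intro j hj
    have := (eqR_iff φ _ _).1 (hcore _ (mem_coreL_of J j hj).2.2)
    simpa only [map_mul, map_inv, map_r13, map_r23] using this

/-! ### The values in `SL₃(F)` -/

section sl3

variable {F : Type*} [Field F]

/-- the four generators of `SL₃(F)` -/
def slgen3 (ζ : Fˣ) : Fin 4 → Matrix.SpecialLinearGroup (Fin 3) F :=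
  ![e12 1, mT, mG ζ, mC]

/-- the evaluation homomorphism -/
def slev3 (ζ : Fˣ) : W4 →* Matrix.SpecialLinearGroup (Fin 3) F := FreeGroup.lift (slgen3 ζ)

theorem slev3_vu (ζ : Fˣ) : slev3 ζ vu = e12 (1 : F) := by
  simp [slev3, vu, slgen3]

theorem slev3_vt (ζ : Fˣ) : slev3 ζ vt = (mT : Matrix.SpecialLinearGroup (Fin 3) F) := by
  simp [slev3, vt, slgen3]

theorem slev3_vg (ζ : Fˣ) : slev3 ζ vg = mG ζ := by
  simp [slev3, vg, slgen3]

theorem slev3_vc (ζ : Fˣ) : slev3 ζ vc = (mC : Matrix.SpecialLinearGroup (Fin 3) F) := by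
  simp [slev3, vc, slgen3]

theorem e12_comm (a b : F) : Commute (e12 a) (e12 b) := by
  show e12 a * e12 b = e12 b * e12 a
  rw [← e12_add, ← e12_add, add_comm]

theorem e12_pow (a : F) (n : ℕ) : e12 a ^ n = e12 (n * a) := by
  induction n with
  | zero => simp [e12_zero]
  | succ n ih =>
    rw [pow_succ, ih, ← e12_add]
    congr 1
    push_cast
    ring

theorem acts_mG (ζ : Fˣ) : Acts (mG ζ) (e12 (F := F)) ((ζ⁻¹ : Fˣ) : F) := by
  intro a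
  rw [mG_e12, mul_inv_cancel_right]

theorem cj_sl3 (ζ : Fˣ) (j : ℤ) :
    cj (e12 (1 : F)) (mG ζ) j = e12 (((ζ⁻¹ : Fˣ) : F) ^ j) := by
  unfold cj
  have := (acts_mG ζ).zpow (Units.ne_zero _) j 1
  rw [mul_one] at this
  exact this

theorem pw_sl3 (ζ : Fˣ) (f : ℤ[X]) :
    pw (e12 (1 : F)) (mG ζ) 1 f = e12 (aeval ((ζ⁻¹ : Fˣ) : F) f) := by
  symm
  apply psi_eq_pw (e12 (1 : F)) (mG ζ) 1 (fun f => e12 (aeval ((ζ⁻¹ : Fˣ) : F) f))
  · simp
  · intro f g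
    simp only [map_add, e12_add]
  · intro f
    simp only [map_mul, aeval_X]
    rw [zpow_one]
    exact (acts_mG ζ _).symm

theorem mC_conj_mG (ζ : Fˣ) : mC * mG ζ * (mC : Matrix.SpecialLinearGroup (Fin 3) F)⁻¹ = mG3 ζ := by
  rw [mC_mG, mul_inv_cancel_right]

theorem mCinv_conj_mG (ζ : Fˣ) :
    (mC : Matrix.SpecialLinearGroup (Fin 3) F)⁻¹ * mG ζ * mC = mG1 ζ := by
  rw [mul_assoc, ← mC_mG1, inv_mul_cancel_left]

theorem slev3_vh3 (ζ : Fˣ) : slev3 ζ vh3 = (mG3 ζ : Matrix.SpecialLinearGroup (Fin 3) F) := by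
  rw [map_vh3, slev3_vc, slev3_vg, mC_conj_mG]

theorem slev3_vh1 (ζ : Fˣ) : slev3 ζ vh1 = (mG1 ζ : Matrix.SpecialLinearGroup (Fin 3) F) := by
  rw [map_vh1, slev3_vc, slev3_vg, mCinv_conj_mG]

theorem mT_conj_e12 (a : F) :
    mT * e12 a * (mT : Matrix.SpecialLinearGroup (Fin 3) F)⁻¹ = e21 (-a) := by
  rw [mT_e12, mul_inv_cancel_right]

theorem slev3_r13 (ζ : Fˣ) (j : ℤ) : slev3 ζ (r13 j) = e13 (((ζ⁻¹ : Fˣ) : F) ^ j) := by
  rw [map_r13, slev3_vc, slev3_vt, slev3_vu, slev3_vg, cj_sl3, mT_conj_e12, mul_assoc, ← mC_e13,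
    inv_mul_cancel_left]

theorem slev3_r23 (ζ : Fˣ) (j : ℤ) : slev3 ζ (r23 j) = e23 (((ζ⁻¹ : Fˣ) : F) ^ j) := by
  rw [map_r23, slev3_vc, slev3_vu, slev3_vg, cj_sl3, mC_e12, mul_inv_cancel_right]

theorem sl3_vB1 (p : ℕ) [CharP F p] (ζ : Fˣ) : slev3 ζ (vB1 p) = (1 : Matrix.SpecialLinearGroup (Fin 3) F) := by
  unfold vB1
  rw [map_pow, slev3_vu, e12_pow, CharP.cast_eq_zero, zero_mul, e12_zero]

theorem sl3_vBC (ζ : Fˣ) : slev3 ζ vBC = (1 : Matrix.SpecialLinearGroup (Fin 3) F) := by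
  unfold vBC
  rw [cmR_iff, map_cj, slev3_vu, slev3_vg, cj_sl3]
  exact e12_comm _ _

theorem sl3_vB2 (ζ : Fˣ) (k : ℤ) (hk : ((ζ⁻¹ : Fˣ) : F) ^ k = 1 + ((ζ⁻¹ : Fˣ) : F)) :
    slev3 ζ (vB2 k) = (1 : Matrix.SpecialLinearGroup (Fin 3) F) := by
  unfold vB2
  rw [eqR_iff, map_mul, map_cj, map_cj, slev3_vu, slev3_vg, cj_sl3, cj_sl3, hk, zpow_one, e12_add]

theorem sl3_vB3 (ζ : Fˣ) (mt : ℤ[X]) (hmt : aeval ((ζ⁻¹ : Fˣ) : F) mt = 0) :
    slev3 ζ (vB3 mt) = (1 : Matrix.SpecialLinearGroup (Fin 3) F) := by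
  unfold vB3
  rw [map_pw, slev3_vu, slev3_vg, pw_sl3, hmt, e12_zero]

theorem sl3_vT3 (ζ : Fˣ) : slev3 ζ vT3 = (1 : Matrix.SpecialLinearGroup (Fin 3) F) := by
  unfold vT3
  rw [cmR_iff, slev3_vh3, slev3_vg]
  exact mG_mG3_comm ζ

theorem sl3_vT2 (ζ : Fˣ) : slev3 ζ vT2 = (1 : Matrix.SpecialLinearGroup (Fin 3) F) := by
  unfold vT2
  rw [eqR_iff]
  simp only [map_mul, map_inv]
  rw [slev3_vh3, slev3_vg, slev3_vu, mG3_e12, mG_e12, mul_inv_cancel_right, mul_inv_cancel_right]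

theorem sl3_vII (ζ : Fˣ) : slev3 ζ vII = (1 : Matrix.SpecialLinearGroup (Fin 3) F) := by
  unfold vII
  rw [map_mul, map_mul, slev3_vh3, slev3_vh1, slev3_vg]
  exact mG_mG3_mG1 ζ

theorem sl3_vR4 (ζ : Fˣ) : slev3 ζ vR4 = (1 : Matrix.SpecialLinearGroup (Fin 3) F) := by
  unfold vR4
  rw [eqR_iff]
  simp only [map_mul, map_inv]
  rw [slev3_vh3, slev3_vg, slev3_vt]
  have h := mG3_mT_mG (F := F) ζ
  -- `mT * mG = mG3⁻¹ * mT`
  have h2 : (mT : Matrix.SpecialLinearGroup (Fin 3) F) * mG ζ = (mG3 ζ)⁻¹ * mT := by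
    rw [eq_inv_mul_iff_mul_eq, ← mul_assoc]
    exact h
  rw [h2, mul_inv_cancel_right]

theorem sl3_vR5 (ζ : Fˣ) : slev3 ζ vR5 = (1 : Matrix.SpecialLinearGroup (Fin 3) F) := by
  unfold vR5
  rw [eqR_iff]
  simp only [map_mul, map_inv]
  rw [slev3_vt, slev3_vu, mT_conj_e12]
  exact mT_eq

theorem sl3_vW1 (ζ : Fˣ) : slev3 ζ vW1 = (1 : Matrix.SpecialLinearGroup (Fin 3) F) := by
  unfold vW1
  rw [map_mul, map_mul, slev3_vc]
  exact mC_cube

theorem sl3_vW2 (ζ : Fˣ) : slev3 ζ vW2 = (1 : Matrix.SpecialLinearGroup (Fin 3) F) := by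
  unfold vW2
  rw [map_mul, map_mul, map_mul, slev3_vc, slev3_vt]
  exact mT_mC_sq

theorem sl3_vW (ζ : Fˣ) : slev3 ζ vW = (1 : Matrix.SpecialLinearGroup (Fin 3) F) := by
  unfold vW
  rw [eqR_iff]
  simp only [map_mul]
  rw [slev3_vc, slev3_vt]
  have h1 := mT_mC_sq (F := F)
  have h2 := mC_cube (F := F)
  have e1 : (mT : Matrix.SpecialLinearGroup (Fin 3) F) * mC * mT = mC⁻¹ := eq_inv_of_mul_eq_one_left h1
  have e2 : (mC : Matrix.SpecialLinearGroup (Fin 3) F) * mC = mC⁻¹ := eq_inv_of_mul_eq_one_left h2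
  rw [e1, e2]

theorem sl3_vSrow (ζ : Fˣ) (j : ℤ) : slev3 ζ (vSrow j) = (1 : Matrix.SpecialLinearGroup (Fin 3) F) := by
  unfold vSrow
  rw [cmR_iff, slev3_r13, slev3_vu]
  exact e12_e13 _ _

theorem sl3_vScol (ζ : Fˣ) (j : ℤ) : slev3 ζ (vScol j) = (1 : Matrix.SpecialLinearGroup (Fin 3) F) := by
  unfold vScol
  rw [cmR_iff, slev3_r13, slev3_r23]
  exact e13_e23 _ _

theorem sl3_vSCh (ζ : Fˣ) (j : ℤ) : slev3 ζ (vSCh j) = (1 : Matrix.SpecialLinearGroup (Fin 3) F) := by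
  unfold vSCh
  rw [eqR_iff]
  simp only [map_mul, map_inv]
  rw [slev3_r13, slev3_r23, slev3_vu, e12_e23, one_mul, mul_inv_cancel_right, mul_inv_cancel_right]

theorem sl3_coreL (ζ : Fˣ) (J : List ℤ) (r : W4) (hr : r ∈ coreL J) :
    slev3 ζ r = (1 : Matrix.SpecialLinearGroup (Fin 3) F) := by
  unfold coreL at hr
  rw [List.mem_append] at hr
  rcases hr with hr | hr
  · simp only [List.mem_cons, List.not_mem_nil, or_false] at hr
    rcases hr with rfl | rfl | rfl | rfl | rfl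
    · exact sl3_vT3 ζ
    · exact sl3_vT2 ζ
    · exact sl3_vII ζ
    · exact sl3_vR4 ζ
    · exact sl3_vR5 ζ
  · rw [List.mem_flatMap] at hr
    obtain ⟨j, -, hj⟩ := hr
    simp only [List.mem_cons, List.not_mem_nil, or_false] at hj
    rcases hj with rfl | rfl | rfl
    · exact sl3_vSrow ζ j
    · exact sl3_vScol ζ j
    · exact sl3_vSCh ζ j

end sl3

end Cfsg.Agent.Lib.Helper7.Pres3
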