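import Mathlib
import Cfsg.Agent.Lib.Helper7.Pres3H

/-!
# Short presentation of `SL₃(F)`: from the relations to the isomorphism (helper7)
-/

set_option autoImplicit false

namespace Cfsg.Agent.Lib.Helper7.Pres3

open Cfsg.Agent.Lib.Helper7.Pres2 Polynomial

/-- **Theorem P**: a group on four generators satisfying the relations `Hyps` and mapping onto
`SL₃(F)` in the expected way is isomorphic to `SL₃(F)`. -/
theorem bijective_of_hyps {F : Type*} [Field F] [Fintype F] (p : ℕ) [Fact p.Prime]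
    [Algebra (ZMod p) F] (ζ : Fˣ) (hζgen : ∀ x : Fˣ, x ∈ Subgroup.zpowers ζ)
    (hsurj : Function.Surjective (fun f : ℤ[X] => aeval ((ζ⁻¹ : Fˣ) : F) f))
    (mt : ℤ[X]) (hmt : mt.map (Int.castRingHom (ZMod p)) = minpoly (ZMod p) ((ζ⁻¹ : Fˣ) : F))
    (J : List ℤ)
    (hspan : ∀ S : AddSubgroup F, (∀ j ∈ J, ((ζ⁻¹ : Fˣ) : F) ^ j ∈ S) →
      (∀ b ∈ S, ((ζ⁻¹ : Fˣ) : F) ^ 3 * b ∈ S) → ∀ b, b ∈ S)
    {Γ : Type*} [Group Γ] (u t g c : Γ) (H : Hyps p mt J u t g c)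
    (hgenΓ : Subgroup.closure {u, t, g, c} = ⊤)
    (φ : Γ →* Matrix.SpecialLinearGroup (Fin 3) F)
    (hφu : φ u = e12 1) (hφt : φ t = mT) (hφg : φ g = mG ζ) (hφc : φ c = mC) :
    Function.Bijective φ := by
  have hlam : ((ζ⁻¹ : Fˣ) : F) ≠ 0 := Units.ne_zero _
  have hcom' : ∀ m n : ℤ, Commute (cj u g (1 * m)) (cj u g (1 * n)) := by
    intro m n
    rw [one_mul, one_mul]
    exact H.hcom m n
  obtain ⟨Ψ, h1, hadd, hX⟩ := exists_psi u g 1 hcom'
  have hpw : ∀ f, Ψ f = pw u g 1 f := psi_eq_pw u g 1 Ψ h1 hadd hX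
  have hΨp : Ψ (C (p : ℤ)) = 1 := by
    have := psi_C_mul Ψ hadd p 1
    rw [mul_one, h1] at this
    rw [this, zpow_natCast, H.b1]
  have hΨm : Ψ mt = 1 := by rw [hpw, H.b3]
  have hker := psi_eq_one_of_aeval p g 1 Ψ hadd hX ((ζ⁻¹ : Fˣ) : F) mt hmt hΨp hΨm
  obtain ⟨x, hx⟩ := exists_x Ψ hadd ((ζ⁻¹ : Fˣ) : F) hker hsurj
  have hx_add : ∀ a b : F, x (a + b) = x a * x b := by
    intro a b
    obtain ⟨f, rfl⟩ := hsurj a
    obtain ⟨f', rfl⟩ := hsurj b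
    simp only
    rw [← map_add, hx, hx, hx, hadd]
  have hx1 : x 1 = u := by
    have := hx 1
    rw [map_one] at this
    rw [this, h1]
  have hgx : Acts g x ((ζ⁻¹ : Fˣ) : F) := by
    intro a
    obtain ⟨f, rfl⟩ := hsurj a
    simp only
    have := hX f
    rw [zpow_one] at this
    rw [hx, ← this, ← hx, map_mul, aeval_X]
  have hxcj : ∀ j : ℤ, x (((ζ⁻¹ : Fˣ) : F) ^ j) = cj u g j := by
    intro j
    have := (hgx.zpow hlam j) 1
    rw [mul_one, hx1] at this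
    exact this.symm
  have hgen : ∀ a : F, a ≠ 0 → ∃ i : ℤ, a = ((ζ⁻¹ : Fˣ) : F) ^ i := by
    intro a ha
    obtain ⟨i, hi⟩ := hgen_of_zpowers ζ hζgen a ha
    refine ⟨-i, ?_⟩
    rw [hi, Units.val_inv_eq_inv_val, inv_zpow, zpow_neg, inv_inv]
  have T2 : (c * g * c⁻¹) * x 1 * (c * g * c⁻¹)⁻¹ = x ((ζ⁻¹ : Fˣ) : F) := by
    have := hgx 1
    rw [mul_one] at this
    rw [← this, hx1]
    exact H.t2
  have R5 : t = x 1 * (t * x 1 * t⁻¹) * x 1 := by
    rw [hx1]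
    exact H.r5
  have hgenΓ' : Subgroup.closure {x 1, t, g, c} = ⊤ := by
    rw [hx1]
    exact hgenΓ
  have hφx : ∀ a, φ (x a) = e12 a := by
    intro a
    obtain ⟨f, rfl⟩ := hsurj a
    simp only
    rw [hx, hpw, map_pw, hφu, hφg, pw_sl3]
  refine bijective_of_relations x t g c ((ζ⁻¹ : Fˣ) : F) hlam hx_add hgx hgen H.w1 H.w2 H.t3 T2
    H.ii H.r4 R5 {b | ∃ j ∈ J, b = ((ζ⁻¹ : Fˣ) : F) ^ j} ?_ ?_ ?_ ?_ hgenΓ' φ hφx hφt hφc
  · intro S hS hmul
    exact hspan S (fun j hj => hS _ ⟨j, hj, rfl⟩) hmul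
  · rintro _ ⟨j, hj, rfl⟩
    unfold X13 yy
    rw [neg_neg, hx1, hxcj]
    exact H.srow j hj
  · rintro _ ⟨j, hj, rfl⟩
    unfold X13 X23 yy
    rw [neg_neg, hx1, hxcj]
    exact H.scol j hj
  · rintro _ ⟨j, hj, rfl⟩
    unfold X13 X23 yy
    rw [neg_neg, hx1, hxcj]
    exact H.sch j hj

/-- **Theorem P** for a presented group -/
theorem presented_sl3 {F : Type*} [Field F] [Fintype F] (p : ℕ) [Fact p.Prime]
    [Algebra (ZMod p) F] (ζ : Fˣ) (hζgen : ∀ x : Fˣ, x ∈ Subgroup.zpowers ζ)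
    (hsurj : Function.Surjective (fun f : ℤ[X] => aeval ((ζ⁻¹ : Fˣ) : F) f))
    (mt : ℤ[X]) (hmt : mt.map (Int.castRingHom (ZMod p)) = minpoly (ZMod p) ((ζ⁻¹ : Fˣ) : F))
    (J : List ℤ)
    (hspan : ∀ S : AddSubgroup F, (∀ j ∈ J, ((ζ⁻¹ : Fˣ) : F) ^ j ∈ S) →
      (∀ b ∈ S, ((ζ⁻¹ : Fˣ) : F) ^ 3 * b ∈ S) → ∀ b, b ∈ S)
    (rels : Set W4)
    (hSL : ∀ r ∈ rels, slev3 (F := F) ζ r = 1)
    (H : Hyps p mt J (PresentedGroup.mk rels vu) (PresentedGroup.mk rels vt)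
      (PresentedGroup.mk rels vg) (PresentedGroup.mk rels vc)) :
    Nonempty (PresentedGroup rels ≃* Matrix.SpecialLinearGroup (Fin 3) F) := by
  have hSL' : ∀ r ∈ rels, FreeGroup.lift (slgen3 (F := F) ζ) r = 1 := hSL
  have hgenΓ : Subgroup.closure {PresentedGroup.mk rels vu, PresentedGroup.mk rels vt,
      PresentedGroup.mk rels vg, PresentedGroup.mk rels vc} = ⊤ := by
    rw [eq_top_iff, ← PresentedGroup.closure_range_of rels, Subgroup.closure_le]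
    rintro _ ⟨i, rfl⟩
    apply Subgroup.subset_closure
    fin_cases i
    · left; rfl
    · right; left; rfl
    · right; right; left; rfl
    · right; right; right; rfl
  have e0 : PresentedGroup.toGroup hSL' (PresentedGroup.mk rels vu) = e12 1 :=
    (PresentedGroup.toGroup.of (x := (0 : Fin 4)) hSL').trans (by simp [slgen3])
  have e1 : PresentedGroup.toGroup hSL' (PresentedGroup.mk rels vt) = mT :=
    (PresentedGroup.toGroup.of (x := (1 : Fin 4)) hSL').trans (by simp [slgen3])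
  have e2 : PresentedGroup.toGroup hSL' (PresentedGroup.mk rels vg) = mG ζ :=
    (PresentedGroup.toGroup.of (x := (2 : Fin 4)) hSL').trans (by simp [slgen3])
  have e3 : PresentedGroup.toGroup hSL' (PresentedGroup.mk rels vc) = mC :=
    (PresentedGroup.toGroup.of (x := (3 : Fin 4)) hSL').trans (by simp [slgen3])
  have hbij := bijective_of_hyps p ζ hζgen hsurj mt hmt J hspan _ _ _ _ H hgenΓ
    (PresentedGroup.toGroup hSL') e0 e1 e2 e3
  exact ⟨MulEquiv.ofBijective _ hbij⟩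

/-- **the scheme**: core relators plus a few extra ones -/
theorem scheme3 {F : Type*} [Field F] [Fintype F] (p : ℕ) [Fact p.Prime]
    [Algebra (ZMod p) F] (ζ : Fˣ) (hζgen : ∀ x : Fˣ, x ∈ Subgroup.zpowers ζ)
    (hsurj : Function.Surjective (fun f : ℤ[X] => aeval ((ζ⁻¹ : Fˣ) : F) f))
    (mt : ℤ[X]) (hmt : mt.map (Int.castRingHom (ZMod p)) = minpoly (ZMod p) ((ζ⁻¹ : Fˣ) : F))
    (J : List ℤ)
    (hspan : ∀ S : AddSubgroup F, (∀ j ∈ J, ((ζ⁻¹ : Fˣ) : F) ^ j ∈ S) →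
      (∀ b ∈ S, ((ζ⁻¹ : Fˣ) : F) ^ 3 * b ∈ S) → ∀ b, b ∈ S)
    (extra : List W4) (hextraSL : ∀ r ∈ extra, slev3 (F := F) ζ r = 1)
    (hder : ∀ {G : Type} [Group G] (φ : W4 →* G), (∀ r ∈ extra ++ coreL J, φ r = 1) →
      (∀ m n : ℤ, Commute (cj (φ vu) (φ vg) m) (cj (φ vu) (φ vg) n)) ∧ φ vu ^ p = 1 ∧
      pw (φ vu) (φ vg) 1 mt = 1 ∧ φ vc * φ vc * φ vc = 1 ∧ φ vt * φ vc * φ vt * φ vc = 1) :
    Nonempty (PresentedGroup (↑(extra ++ coreL J).toFinset : Set W4) ≃*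
      Matrix.SpecialLinearGroup (Fin 3) F) := by
  classical
  apply presented_sl3 p ζ hζgen hsurj mt hmt J hspan
  · intro r hr
    rw [Finset.mem_coe, List.mem_toFinset, List.mem_append] at hr
    rcases hr with hr | hr
    · exact hextraSL r hr
    · exact sl3_coreL ζ J r hr
  · have hall : ∀ r ∈ extra ++ coreL J,
        PresentedGroup.mk (↑(extra ++ coreL J).toFinset : Set W4) r = 1 := by
      intro r hr
      apply PresentedGroup.one_of_mem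
      rw [Finset.mem_coe, List.mem_toFinset]
      exact hr
    obtain ⟨hcom, b1, b3, w1, w2⟩ := hder (PresentedGroup.mk _) hall
    exact hyps_of_core (PresentedGroup.mk _) p mt J
      (fun r hr => hall r (List.mem_append_right _ hr)) hcom b1 b3 w1 w2

end Cfsg.Agent.Lib.Helper7.Pres3
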