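import Mathlib
import Cfsg.Agent.Lib.Helper7.Pres3I

/-!
# Short presentation of `SL₃(F)`: auxiliary group and field lemmas (helper7)
-/

set_option autoImplicit false

namespace Cfsg.Agent.Lib.Helper7.Pres3

open Cfsg.Agent.Lib.Helper7.Pres2 Polynomial

section group

variable {G : Type*} [Group G]

/-- when `u² = 1`, the relations `t = u u^t u` and `t c t = c²` give `t² = c³ = (t c)² = 1` -/
theorem w_of_invol (u t c : G) (hu : u * u = 1) (r5 : t = u * (t * u * t⁻¹) * u)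
    (hW : t * c * t = c * c) : c * c * c = 1 ∧ t * c * t * c = 1 := by
  have hy : (t * u * t⁻¹) * (t * u * t⁻¹) = 1 := by
    have : (t * u * t⁻¹) * (t * u * t⁻¹) = t * (u * u) * t⁻¹ := by group
    rw [this, hu]
    group
  have key : ∀ y : G, y * y = 1 → (u * y * u) * (u * y * u) = 1 := by
    intro y hy
    have e1 : (u * y * u) * (u * y * u) = u * y * (u * u) * y * u := by group
    rw [e1, hu, mul_one]
    have e2 : u * y * y * u = u * (y * y) * u := by group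
    rw [e2, hy, mul_one, hu]
  have e : t * t = (u * (t * u * t⁻¹) * u) * (u * (t * u * t⁻¹) * u) :=
    congrArg₂ (· * ·) r5 r5
  have htt : t * t = 1 := by
    rw [e]
    exact key _ hy
  have h1 : t * (c * c) * t = c := by
    rw [← hW]
    have : t * (t * c * t) * t = (t * t) * c * (t * t) := by group
    rw [this, htt, one_mul, mul_one]
  have h2 : (c * c) * (c * c) = c := by
    calc (c * c) * (c * c) = (t * c * t) * (t * c * t) := by rw [hW]
      _ = t * c * (t * t) * c * t := by group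
      _ = t * (c * c) * t := by rw [htt, mul_one]; group
      _ = c := h1
  have w1 : c * c * c = 1 := by
    have h3 : c * (c * c * c) = c * 1 := by
      rw [mul_one]
      calc c * (c * c * c) = (c * c) * (c * c) := by group
        _ = c := h2
    exact mul_left_cancel h3
  refine ⟨w1, ?_⟩
  rw [hW]
  exact w1

theorem borel_small (u g : G) (mt : ℤ[X]) (hmonic : mt.Monic) (hpos : 0 < mt.natDegree)
    (hle : mt.natDegree ≤ 2) (hBC : Commute u (cj u g 1)) (hm : pw u g 1 mt = 1) (m n : ℤ) :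
    Commute (cj u g m) (cj u g n) := by
  have hc : ∀ j : ℕ, j < mt.natDegree → Commute u (cj u g j) := by
    intro j hj
    have hj' : j = 0 ∨ j = 1 := by omega
    rcases hj' with rfl | rfl
    · simp only [Nat.cast_zero, cj_zero]
      exact Commute.refl _
    · simpa using hBC
  exact hcom_of_nat u g (direct_comm u g mt hmonic hpos hc hm) m n

theorem borel_large (u g : G) (k : ℤ) (hBC : Commute u (cj u g 1))
    (hB2 : cj u g k = u * cj u g 1) (m n : ℤ) : Commute (cj u g m) (cj u g n) := by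
  have := commute_gcd u g k 1 hB2 hBC m n
  rw [Int.gcd_one_right] at this
  simpa using this

theorem borel_even_large (u g : G) (k : ℤ) (hu : u * u = 1)
    (hB2 : cj u g k = u * cj u g 1) (m n : ℤ) : Commute (cj u g m) (cj u g n) := by
  have hcjsq : ∀ n : ℤ, cj u g n * cj u g n = 1 := by
    intro n
    rw [← cj_mul, hu, cj_one']
  exact borel_large u g k (commute_of_invol _ _ _ hu (hcjsq _) (hcjsq _) hB2) hB2 m n

/-- the polynomial `X² + X + 1` -/
noncomputable def mt4 : ℤ[X] := X ^ 2 + X + 1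

theorem mt4_natDegree : mt4.natDegree = 2 := by
  unfold mt4
  compute_degree!

theorem mt4_monic : mt4.Monic := by
  unfold mt4
  monicity!

theorem pw_mt4 (u g : G) : pw u g 1 mt4 = u * cj u g 1 * cj u g 2 := by
  unfold pw
  rw [mt4_natDegree]
  unfold mt4
  simp [List.range_succ, coeff_X, coeff_one, cj_zero, mul_assoc]

theorem borel_four (u g : G) (hu : u * u = 1) (hm : pw u g 1 mt4 = 1) (m n : ℤ) :
    Commute (cj u g m) (cj u g n) := by
  have hcjsq : ∀ n : ℤ, cj u g n * cj u g n = 1 := by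
    intro n
    rw [← cj_mul, hu, cj_one']
  have hm' := hm
  rw [pw_mt4] at hm'
  have e : (cj u g 2)⁻¹ = u * cj u g 1 := (eq_inv_of_mul_eq_one_left hm').symm
  have ha : (cj u g 2)⁻¹ * (cj u g 2)⁻¹ = 1 := by
    rw [← mul_inv_rev, hcjsq, inv_one]
  have hBC := commute_of_invol u _ _ hu ha (hcjsq 1) e
  exact borel_small u g mt4 mt4_monic (by rw [mt4_natDegree]; norm_num)
    (by rw [mt4_natDegree]) hBC hm m n

end group

section field

variable {F : Type*} [Field F] [Fintype F] (p : ℕ) [Fact p.Prime] [Algebra (ZMod p) F]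
  (ζ : Fˣ) (hζgen : ∀ x : Fˣ, x ∈ Subgroup.zpowers ζ)

omit [Fintype F] in
include hζgen in
theorem gen_inv : ∀ x : Fˣ, x ∈ Subgroup.zpowers ζ⁻¹ := by
  intro x
  rw [Subgroup.zpowers_inv]
  exact hζgen x

include hζgen in
theorem aeval_gen_surjective (e : ℕ) (hcard : Fintype.card F = p ^ e) :
    Function.Surjective (fun f : ℤ[X] => aeval ((ζ⁻¹ : Fˣ) : F) f) := by
  apply aeval_surjective_of_frob p e hcard
  intro r hr0 hre h
  have hp : p.Prime := Fact.out
  have hlam : ((ζ⁻¹ : Fˣ) : F) ≠ 0 := Units.ne_zero _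
  have hQ : 2 ≤ p ^ r := by
    calc 2 ≤ p := hp.two_le
      _ = p ^ 1 := (pow_one p).symm
      _ ≤ p ^ r := Nat.pow_le_pow_right hp.pos hr0
  have h1 : ((ζ⁻¹ : Fˣ) : F) ^ (p ^ r - 1) = 1 := by
    have h2 : ((ζ⁻¹ : Fˣ) : F) * ((ζ⁻¹ : Fˣ) : F) ^ (p ^ r - 1) = ((ζ⁻¹ : Fˣ) : F) * 1 := by
      rw [← pow_succ', mul_one]
      have : p ^ r - 1 + 1 = p ^ r := by omega
      rw [this]
      exact h
    exact mul_left_cancel₀ hlam h2
  have h3 := gen_pow_eq_one ζ⁻¹ (gen_inv ζ hζgen) _ h1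
  rw [hcard] at h3
  have h4 := Nat.le_of_dvd (by omega) h3
  have h5 : p ^ r < p ^ e := Nat.pow_lt_pow_right hp.one_lt hre
  omega

include hζgen in
/-- the cubes span the field additively, unless `q = 4` -/
theorem hspan_cube (e : ℕ) (hcard : Fintype.card F = p ^ e) (hq4 : Fintype.card F ≠ 4) :
    ∀ S : AddSubgroup F, (∀ j ∈ [(0 : ℤ)], ((ζ⁻¹ : Fˣ) : F) ^ j ∈ S) →
      (∀ b ∈ S, ((ζ⁻¹ : Fˣ) : F) ^ 3 * b ∈ S) → ∀ b, b ∈ S := by
  intro S h0 hmul
  have hp : p.Prime := Fact.out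
  have hlam : ((ζ⁻¹ : Fˣ) : F) ≠ 0 := Units.ne_zero _
  have h1 : (1 : F) ∈ S := by simpa using h0 0 (by simp)
  have hsurj : Function.Surjective (fun f : ℤ[X] => aeval (((ζ⁻¹ : Fˣ) : F) ^ 3) f) := by
    apply aeval_surjective_of_frob p e hcard
    intro r hr0 hre h
    have hQ : 2 ≤ p ^ r := by
      calc 2 ≤ p := hp.two_le
        _ = p ^ 1 := (pow_one p).symm
        _ ≤ p ^ r := Nat.pow_le_pow_right hp.pos hr0
    have h2 : ((ζ⁻¹ : Fˣ) : F) ^ (3 * (p ^ r - 1)) = 1 := by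
      have h3 : ((ζ⁻¹ : Fˣ) : F) ^ 3 * ((ζ⁻¹ : Fˣ) : F) ^ (3 * (p ^ r - 1)) =
          ((ζ⁻¹ : Fˣ) : F) ^ 3 * 1 := by
        rw [← pow_add, mul_one]
        have : 3 + 3 * (p ^ r - 1) = 3 * p ^ r := by omega
        rw [this, pow_mul]
        exact h
      exact mul_left_cancel₀ (pow_ne_zero 3 hlam) h3
    have h4 := gen_pow_eq_one ζ⁻¹ (gen_inv ζ hζgen) _ h2
    rw [hcard] at h4 hq4
    obtain ⟨k, hk⟩ := h4
    have h5 : p ^ r * p ≤ p ^ e := by
      rw [← pow_succ]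
      exact Nat.pow_le_pow_right hp.pos hre
    have h6 : p ^ r * 2 ≤ p ^ e := le_trans (Nat.mul_le_mul_left _ hp.two_le) h5
    obtain ⟨m, hm⟩ : p ^ r ∣ p ^ e := pow_dvd_pow p hre.le
    rcases Nat.lt_or_ge k 2 with hk2 | hk2
    · have hk' : k = 0 ∨ k = 1 := by omega
      rcases hk' with rfl | rfl
      · omega
      · -- `q = 3 Q - 2`
        have h7 : p ^ e = 3 * p ^ r - 2 := by omega
        have h8 : p ^ r ∣ 2 := by
          have h9 : p ^ r ∣ 3 * p ^ r - p ^ e := Nat.dvd_sub (dvd_mul_left _ _) ⟨m, hm⟩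
          have h10 : 3 * p ^ r - p ^ e = 2 := by omega
          rwa [h10] at h9
        have h11 := Nat.le_of_dvd (by norm_num) h8
        omega
    · have h7 : (p ^ e - 1) * 2 ≤ (p ^ e - 1) * k := Nat.mul_le_mul_left _ hk2
      omega
  have key : ∀ f : ℤ[X], ∀ b ∈ S, aeval (((ζ⁻¹ : Fˣ) : F) ^ 3) f * b ∈ S := by
    intro f
    refine Polynomial.induction_on f ?_ ?_ ?_
    · intro a b hb
      have : aeval (((ζ⁻¹ : Fˣ) : F) ^ 3) (C a) * b = a • b := by
        rw [aeval_C, algebraMap_int_eq, eq_intCast, zsmul_eq_mul]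
      rw [this]
      exact S.zsmul_mem hb a
    · intro f g hf hg b hb
      rw [map_add, add_mul]
      exact S.add_mem (hf b hb) (hg b hb)
    · intro n a ih b hb
      have : aeval (((ζ⁻¹ : Fˣ) : F) ^ 3) (C a * X ^ (n + 1)) * b =
          aeval (((ζ⁻¹ : Fˣ) : F) ^ 3) (C a * X ^ n) * (((ζ⁻¹ : Fˣ) : F) ^ 3 * b) := by
        simp only [map_mul, map_pow, aeval_X, pow_succ]
        ring
      rw [this]
      exact ih _ (hmul b hb)
  intro b
  obtain ⟨f, rfl⟩ := hsurj b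
  have := key f 1 h1
  rwa [mul_one] at this

include hζgen in
theorem four_quadratic (hcard : Fintype.card F = 4) :
    ((ζ⁻¹ : Fˣ) : F) ^ 2 + ((ζ⁻¹ : Fˣ) : F) + 1 = 0 ∧ ((ζ⁻¹ : Fˣ) : F) ^ 3 = 1 := by
  have hlam : ((ζ⁻¹ : Fˣ) : F) ≠ 0 := Units.ne_zero _
  have h3 : ((ζ⁻¹ : Fˣ) : F) ^ 3 = 1 := by
    have := FiniteField.pow_card_sub_one_eq_one ((ζ⁻¹ : Fˣ) : F) hlam
    rwa [hcard] at this
  have hne : ((ζ⁻¹ : Fˣ) : F) ≠ 1 := by
    intro h
    have := gen_pow_eq_one ζ⁻¹ (gen_inv ζ hζgen) 1 (by rw [pow_one]; exact h)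
    rw [hcard] at this
    omega
  have hprod : (((ζ⁻¹ : Fˣ) : F) - 1) * (((ζ⁻¹ : Fˣ) : F) ^ 2 + ((ζ⁻¹ : Fˣ) : F) + 1) = 0 := by
    have : (((ζ⁻¹ : Fˣ) : F) - 1) * (((ζ⁻¹ : Fˣ) : F) ^ 2 + ((ζ⁻¹ : Fˣ) : F) + 1) =
        ((ζ⁻¹ : Fˣ) : F) ^ 3 - 1 := by ring
    rw [this, h3, sub_self]
  rcases mul_eq_zero.1 hprod with h | h
  · exact absurd (sub_eq_zero.1 h) hne
  · exact ⟨h, h3⟩

include hζgen in
/-- for `q = 4` the elements `1, λ` span the field additively -/
theorem hspan_four (hcard : Fintype.card F = 4) :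
    ∀ S : AddSubgroup F, (∀ j ∈ [(0 : ℤ), 1], ((ζ⁻¹ : Fˣ) : F) ^ j ∈ S) →
      (∀ b ∈ S, ((ζ⁻¹ : Fˣ) : F) ^ 3 * b ∈ S) → ∀ b, b ∈ S := by
  intro S h0 _ b
  obtain ⟨hq, h3⟩ := four_quadratic ζ hζgen hcard
  have h1 : (1 : F) ∈ S := by simpa using h0 0 (by simp)
  have hl : ((ζ⁻¹ : Fˣ) : F) ∈ S := by simpa using h0 1 (by simp)
  have h2 : ((ζ⁻¹ : Fˣ) : F) ^ 2 ∈ S := by
    have : ((ζ⁻¹ : Fˣ) : F) ^ 2 = -(((ζ⁻¹ : Fˣ) : F) + 1) := by linear_combination hq
    rw [this]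
    exact S.neg_mem (S.add_mem hl h1)
  by_cases hb : b = 0
  · rw [hb]
    exact S.zero_mem
  obtain ⟨i, hi⟩ := gen_nat ζ⁻¹ (gen_inv ζ hζgen) b hb
  have hi' : b = ((ζ⁻¹ : Fˣ) : F) ^ (i % 3) := by
    rw [hi]
    conv_lhs => rw [← Nat.div_add_mod i 3, pow_add, pow_mul, h3, one_pow, one_mul]
  rw [hi']
  have hlt : i % 3 < 3 := Nat.mod_lt _ (by norm_num)
  have hcases : i % 3 = 0 ∨ i % 3 = 1 ∨ i % 3 = 2 := by omega
  rcases hcases with h | h | h <;> rw [h]
  · rw [pow_zero]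
    exact h1
  · rw [pow_one]
    exact hl
  · exact h2

/-- a monic integral lift of the minimal polynomial -/
theorem exists_mt (θ : F) : ∃ mt : ℤ[X], mt.Monic ∧
    mt.natDegree = (minpoly (ZMod p) θ).natDegree ∧
    mt.map (Int.castRingHom (ZMod p)) = minpoly (ZMod p) θ ∧ aeval θ mt = 0 := by
  have hint : IsIntegral (ZMod p) θ := IsIntegral.of_finite _ _
  have hl : minpoly (ZMod p) θ ∈ Polynomial.lifts (Int.castRingHom (ZMod p)) := by
    rw [Polynomial.mem_lifts]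
    exact Polynomial.map_surjective _ ZMod.intCast_surjective _
  obtain ⟨mt, h1, h2, h3⟩ := Polynomial.lifts_and_natDegree_eq_and_monic hl (minpoly.monic hint)
  refine ⟨mt, h3, h2, h1, ?_⟩
  rw [← aeval_map_zmod p, h1, minpoly.aeval]

theorem minpoly_natDegree_le (e : ℕ) (hcard : Fintype.card F = p ^ e) (θ : F) :
    (minpoly (ZMod p) θ).natDegree ≤ e := by
  have hp : p.Prime := Fact.out
  have h1 := minpoly.natDegree_le (A := ZMod p) θ
  have hFcard : p ^ Module.finrank (ZMod p) F = Nat.card F :=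
    FiniteField.pow_finrank_eq_natCard p F
  rw [Nat.card_eq_fintype_card, hcard] at hFcard
  have := Nat.pow_right_injective hp.two_le hFcard
  omega

end field

section four

theorem irreducible_mt4 : Irreducible (X ^ 2 + X + 1 : (ZMod 2)[X]) := by
  have hmonic : (X ^ 2 + X + 1 : (ZMod 2)[X]).Monic := by monicity!
  have hdeg : (X ^ 2 + X + 1 : (ZMod 2)[X]).natDegree = 2 := by compute_degree!
  rw [Monic.irreducible_iff_roots_eq_zero_of_degree_le_three hmonic (by rw [hdeg]) (by rw [hdeg]; norm_num)]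
  apply Multiset.eq_zero_of_forall_notMem
  intro a ha
  rw [mem_roots hmonic.ne_zero, IsRoot.def] at ha
  rw [eval_add, eval_add, eval_pow, eval_X, eval_one] at ha
  revert ha
  revert a
  decide


variable {F : Type*} [Field F] [Fintype F] [Fact (Nat.Prime 2)] [Algebra (ZMod 2) F]
  (ζ : Fˣ) (hζgen : ∀ x : Fˣ, x ∈ Subgroup.zpowers ζ)

include hζgen in
theorem mt4_map (hcard : Fintype.card F = 4) :
    mt4.map (Int.castRingHom (ZMod 2)) = minpoly (ZMod 2) ((ζ⁻¹ : Fˣ) : F) := by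
  obtain ⟨hq, -⟩ := four_quadratic ζ hζgen hcard
  have hmap : mt4.map (Int.castRingHom (ZMod 2)) = (X ^ 2 + X + 1 : (ZMod 2)[X]) := by
    unfold mt4
    simp
  rw [hmap]
  refine minpoly.eq_of_irreducible_of_monic irreducible_mt4 ?_ (by monicity!)
  simp only [map_add, map_pow, aeval_X, map_one]
  exact hq

end four

end Cfsg.Agent.Lib.Helper7.Pres3
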