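import Mathlib
import Cfsg.Agent.Lib.Helper7.Pres3J

/-!
# Short presentation of `SL₃(F)`: the case analysis (helper7)
-/

set_option autoImplicit false

namespace Cfsg.Agent.Lib.Helper7.Pres3

open Cfsg.Agent.Lib.Helper7.Pres2 Polynomial

section iff

variable {G : Type*} [Group G] (φ : W4 →* G)

theorem vB1_iff (p : ℕ) : φ (vB1 p) = 1 ↔ φ vu ^ p = 1 := by
  unfold vB1; rw [map_pow]

theorem vBC_iff : φ vBC = 1 ↔ Commute (φ vu) (cj (φ vu) (φ vg) 1) := by
  unfold vBC; rw [cmR_iff, map_cj]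

theorem vB2_iff (k : ℤ) :
    φ (vB2 k) = 1 ↔ cj (φ vu) (φ vg) k = φ vu * cj (φ vu) (φ vg) 1 := by
  unfold vB2; rw [eqR_iff, map_mul, map_cj, map_cj]

theorem vB3_iff (mt : ℤ[X]) : φ (vB3 mt) = 1 ↔ pw (φ vu) (φ vg) 1 mt = 1 := by
  unfold vB3; rw [map_pw]

theorem vW1_iff : φ vW1 = 1 ↔ φ vc * φ vc * φ vc = 1 := by
  unfold vW1; rw [map_mul, map_mul]

theorem vW2_iff : φ vW2 = 1 ↔ φ vt * φ vc * φ vt * φ vc = 1 := by
  unfold vW2; rw [map_mul, map_mul, map_mul]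

theorem vW_iff : φ vW = 1 ↔ φ vt * φ vc * φ vt = φ vc * φ vc := by
  unfold vW; rw [eqR_iff, map_mul, map_mul, map_mul]

theorem vR5_iff : φ vR5 = 1 ↔ φ vt = φ vu * (φ vt * φ vu * (φ vt)⁻¹) * φ vu := by
  unfold vR5; rw [eqR_iff]; simp only [map_mul, map_inv]

end iff

section data

variable {F : Type*} [Field F] [Fintype F] (p : ℕ) [Fact p.Prime] [Algebra (ZMod p) F]
  (ζ : Fˣ)

/-- Borel data: a polynomial, a list of exponents and a list of relators that force the structure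
of the root subgroup `x₁₂` -/
def BorelData (mt : ℤ[X]) (J : List ℤ) (bor : List W4) : Prop :=
  mt.map (Int.castRingHom (ZMod p)) = minpoly (ZMod p) ((ζ⁻¹ : Fˣ) : F) ∧
  (∀ S : AddSubgroup F, (∀ j ∈ J, ((ζ⁻¹ : Fˣ) : F) ^ j ∈ S) →
    (∀ b ∈ S, ((ζ⁻¹ : Fˣ) : F) ^ 3 * b ∈ S) → ∀ b, b ∈ S) ∧
  (∀ r ∈ bor, slev3 (F := F) ζ r = 1) ∧
  (∀ {G : Type} [Group G] (φ : W4 →* G), (∀ r ∈ bor, φ r = 1) →
    (∀ m n : ℤ, Commute (cj (φ vu) (φ vg) m) (cj (φ vu) (φ vg) n)) ∧ φ vu ^ p = 1 ∧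
    pw (φ vu) (φ vg) 1 mt = 1)

variable (hζgen : ∀ x : Fˣ, x ∈ Subgroup.zpowers ζ)

include hζgen in
/-- assembling the Borel part, the Weyl part and the core -/
theorem finish (hsurj : Function.Surjective (fun f : ℤ[X] => aeval ((ζ⁻¹ : Fˣ) : F) f))
    (mt : ℤ[X]) (J : List ℤ) (bor : List W4) (hB : BorelData p ζ mt J bor) (wl : List W4)
    (hwlSL : ∀ r ∈ wl, slev3 (F := F) ζ r = 1)
    (hwl : ∀ {G : Type} [Group G] (φ : W4 →* G), (∀ r ∈ wl, φ r = 1) → φ vu ^ p = 1 →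
      φ vR5 = 1 → φ vc * φ vc * φ vc = 1 ∧ φ vt * φ vc * φ vt * φ vc = 1) :
    Nonempty (PresentedGroup (↑((bor ++ wl) ++ coreL J).toFinset : Set W4) ≃*
      Matrix.SpecialLinearGroup (Fin 3) F) := by
  obtain ⟨hmt, hspan, hborSL, hbor⟩ := hB
  apply scheme3 p ζ hζgen hsurj mt hmt J hspan (bor ++ wl)
  · intro r hr
    rcases List.mem_append.1 hr with h | h
    · exact hborSL r h
    · exact hwlSL r h
  · intro G _ φ hφ
    obtain ⟨hcom, b1, b3⟩ := hbor φ
      (fun r hr => hφ r (List.mem_append_left _ (List.mem_append_left _ hr)))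
    have h5 : φ vR5 = 1 := hφ _ (List.mem_append_right _ (by unfold coreL; simp))
    obtain ⟨w1, w2⟩ := hwl φ
      (fun r hr => hφ r (List.mem_append_left _ (List.mem_append_right _ hr))) b1 h5
    exact ⟨hcom, b1, b3, w1, w2⟩

variable [CharP F p]

include hζgen in
theorem one_add_lam_ne_zero (hq : 4 ≤ Fintype.card F) : 1 + ((ζ⁻¹ : Fˣ) : F) ≠ 0 := by
  intro h
  have h1 : ((ζ⁻¹ : Fˣ) : F) = -1 := by linear_combination h
  have h2 : ((ζ⁻¹ : Fˣ) : F) ^ 2 = 1 := by rw [h1]; ring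
  have h3 := gen_pow_eq_one ζ⁻¹ (gen_inv ζ hζgen) 2 h2
  have h4 := Nat.le_of_dvd (by norm_num) h3
  omega

include hζgen in
/-- the case `q = p` or `q = p²`, `q ≠ 4` -/
theorem borel_data_small (e : ℕ) (hcard : Fintype.card F = p ^ e) (he : e ≤ 2)
    (hq4 : Fintype.card F ≠ 4) :
    ∃ (mt : ℤ[X]) (J : List ℤ) (bor : List W4), BorelData p ζ mt J bor ∧
      bor.length + 3 * J.length = 6 := by
  obtain ⟨mt, hmonic, hdeg, hmt, haev⟩ := exists_mt p ((ζ⁻¹ : Fˣ) : F)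
  have hint : IsIntegral (ZMod p) ((ζ⁻¹ : Fˣ) : F) := IsIntegral.of_finite _ _
  have hpos : 0 < mt.natDegree := by rw [hdeg]; exact minpoly.natDegree_pos hint
  have hle : mt.natDegree ≤ 2 := by
    rw [hdeg]
    exact le_trans (minpoly_natDegree_le p e hcard _) he
  refine ⟨mt, [0], [vB1 p, vBC, vB3 mt], ⟨hmt, hspan_cube p ζ hζgen e hcard hq4, ?_, ?_⟩, by simp⟩
  · intro r hr
    simp only [List.mem_cons, List.not_mem_nil, or_false] at hr
    rcases hr with rfl | rfl | rfl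
    · exact sl3_vB1 p ζ
    · exact sl3_vBC ζ
    · exact sl3_vB3 ζ mt haev
  · intro G _ φ hφ
    have b1 := (vB1_iff φ p).1 (hφ _ (by simp))
    have bc := (vBC_iff φ).1 (hφ _ (by simp))
    have b3 := (vB3_iff φ mt).1 (hφ _ (by simp))
    exact ⟨borel_small _ _ mt hmonic hpos hle bc b3, b1, b3⟩

include hζgen in
/-- the case `q = p ^ e`, `e ≥ 3`, `p` odd -/
theorem borel_data_odd_large (hq : 4 ≤ Fintype.card F) :
    ∃ (mt : ℤ[X]) (J : List ℤ) (bor : List W4),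
      (∀ e : ℕ, Fintype.card F = p ^ e → Fintype.card F ≠ 4 → BorelData p ζ mt J bor) ∧
      bor.length + 3 * J.length = 7 := by
  obtain ⟨mt, -, -, hmt, haev⟩ := exists_mt p ((ζ⁻¹ : Fˣ) : F)
  obtain ⟨k, hk⟩ := gen_nat ζ⁻¹ (gen_inv ζ hζgen) _ (one_add_lam_ne_zero ζ hζgen hq)
  have hk' : ((ζ⁻¹ : Fˣ) : F) ^ ((k : ℕ) : ℤ) = 1 + ((ζ⁻¹ : Fˣ) : F) := by
    rw [zpow_natCast]; exact hk.symm
  refine ⟨mt, [0], [vB1 p, vBC, vB2 (k : ℤ), vB3 mt], fun e hcard hq4 =>
    ⟨hmt, hspan_cube p ζ hζgen e hcard hq4, ?_, ?_⟩, by simp⟩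
  · intro r hr
    simp only [List.mem_cons, List.not_mem_nil, or_false] at hr
    rcases hr with rfl | rfl | rfl | rfl
    · exact sl3_vB1 p ζ
    · exact sl3_vBC ζ
    · exact sl3_vB2 ζ _ hk'
    · exact sl3_vB3 ζ mt haev
  · intro G _ φ hφ
    have b1 := (vB1_iff φ p).1 (hφ _ (by simp))
    have bc := (vBC_iff φ).1 (hφ _ (by simp))
    have b2 := (vB2_iff φ (k : ℤ)).1 (hφ _ (by simp))
    have b3 := (vB3_iff φ mt).1 (hφ _ (by simp))
    exact ⟨borel_large _ _ (k : ℤ) bc b2, b1, b3⟩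

include hζgen in
/-- the case `q = 2 ^ e`, `e ≥ 3` -/
theorem borel_data_even_large (hp2 : p = 2) (hq : 4 ≤ Fintype.card F) :
    ∃ (mt : ℤ[X]) (J : List ℤ) (bor : List W4),
      (∀ e : ℕ, Fintype.card F = p ^ e → Fintype.card F ≠ 4 → BorelData p ζ mt J bor) ∧
      bor.length + 3 * J.length = 6 := by
  obtain ⟨mt, -, -, hmt, haev⟩ := exists_mt p ((ζ⁻¹ : Fˣ) : F)
  obtain ⟨k, hk⟩ := gen_nat ζ⁻¹ (gen_inv ζ hζgen) _ (one_add_lam_ne_zero ζ hζgen hq)
  have hk' : ((ζ⁻¹ : Fˣ) : F) ^ ((k : ℕ) : ℤ) = 1 + ((ζ⁻¹ : Fˣ) : F) := by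
    rw [zpow_natCast]; exact hk.symm
  refine ⟨mt, [0], [vB1 p, vB2 (k : ℤ), vB3 mt], fun e hcard hq4 =>
    ⟨hmt, hspan_cube p ζ hζgen e hcard hq4, ?_, ?_⟩, by simp⟩
  · intro r hr
    simp only [List.mem_cons, List.not_mem_nil, or_false] at hr
    rcases hr with rfl | rfl | rfl
    · exact sl3_vB1 p ζ
    · exact sl3_vB2 ζ _ hk'
    · exact sl3_vB3 ζ mt haev
  · intro G _ φ hφ
    have b1 := (vB1_iff φ p).1 (hφ _ (by simp))
    have b2 := (vB2_iff φ (k : ℤ)).1 (hφ _ (by simp))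
    have b3 := (vB3_iff φ mt).1 (hφ _ (by simp))
    have hu : φ vu * φ vu = 1 := by
      rw [← sq, ← hp2]; exact b1
    exact ⟨borel_even_large _ _ (k : ℤ) hu b2, b1, b3⟩

end data

section four

variable {F : Type*} [Field F] [Fintype F] [Fact (Nat.Prime 2)] [Algebra (ZMod 2) F] [CharP F 2]
  (ζ : Fˣ) (hζgen : ∀ x : Fˣ, x ∈ Subgroup.zpowers ζ)

include hζgen in
/-- the case `q = 4` -/
theorem borel_data_four (hcard : Fintype.card F = 4) :
    ∃ (mt : ℤ[X]) (J : List ℤ) (bor : List W4), BorelData 2 ζ mt J bor ∧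
      bor.length + 3 * J.length = 8 := by
  obtain ⟨hq, -⟩ := four_quadratic ζ hζgen hcard
  have haev : aeval ((ζ⁻¹ : Fˣ) : F) mt4 = 0 := by
    unfold mt4
    simp only [map_add, map_pow, aeval_X, map_one]
    exact hq
  refine ⟨mt4, [0, 1], [vB1 2, vB3 mt4], ⟨mt4_map ζ hζgen hcard, hspan_four ζ hζgen hcard, ?_, ?_⟩,
    by simp⟩
  · intro r hr
    simp only [List.mem_cons, List.not_mem_nil, or_false] at hr
    rcases hr with rfl | rfl
    · exact sl3_vB1 2 ζ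
    · exact sl3_vB3 ζ mt4 haev
  · intro G _ φ hφ
    have b1 := (vB1_iff φ 2).1 (hφ _ (by simp))
    have b3 := (vB3_iff φ mt4).1 (hφ _ (by simp))
    have hu : φ vu * φ vu = 1 := by
      rw [← sq]; exact b1
    exact ⟨borel_four _ _ hu b3, b1, b3⟩

end four

/-- existence of the Borel data in all cases -/
theorem borel_data {F : Type*} [Field F] [Fintype F] (p : ℕ) [Fact p.Prime] [Algebra (ZMod p) F]
    [CharP F p] (ζ : Fˣ) (hζgen : ∀ x : Fˣ, x ∈ Subgroup.zpowers ζ)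
    (e : ℕ) (hcard : Fintype.card F = p ^ e) :
    ∃ (mt : ℤ[X]) (J : List ℤ) (bor : List W4), BorelData p ζ mt J bor ∧
      ((2 : F) ≠ 0 → bor.length + 3 * J.length ≤ 7) ∧
      ((2 : F) = 0 → bor.length + 3 * J.length ≤ 8) := by
  have hp : p.Prime := Fact.out
  by_cases hq4 : Fintype.card F = 4
  · -- `p = 2`
    have hp2 : p = 2 := by
      have h1 : p ∣ 4 := by
        rw [← hq4, hcard]
        have he : e ≠ 0 := by
          rintro rfl
          rw [pow_zero] at hcard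
          omega
        exact dvd_pow_self p he
      have h2 : p ∣ 2 ^ 2 := by norm_num; exact h1
      exact (Nat.prime_dvd_prime_iff_eq hp Nat.prime_two).1 (hp.dvd_of_dvd_pow h2)
    subst hp2
    obtain ⟨mt, J, bor, hB, hlen⟩ := borel_data_four ζ hζgen hq4
    refine ⟨mt, J, bor, hB, fun h2 => ?_, fun _ => by omega⟩
    exfalso
    apply h2
    have := CharP.cast_eq_zero F 2
    exact_mod_cast this
  · by_cases he : e ≤ 2
    · obtain ⟨mt, J, bor, hB, hlen⟩ := borel_data_small p ζ hζgen e hcard he hq4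
      exact ⟨mt, J, bor, hB, fun _ => by omega, fun _ => by omega⟩
    · have hq : 4 ≤ Fintype.card F := by
        rw [hcard]
        calc 4 = 2 ^ 2 := by norm_num
          _ ≤ p ^ 2 := Nat.pow_le_pow_left hp.two_le 2
          _ ≤ p ^ e := Nat.pow_le_pow_right hp.pos (by omega)
      by_cases h2 : (2 : F) = 0
      · have hp2 : p = 2 := by
          have h2' : ((2 : ℕ) : F) = 0 := by exact_mod_cast h2
          have := (CharP.cast_eq_zero_iff F p 2).1 h2'
          exact (Nat.prime_dvd_prime_iff_eq hp Nat.prime_two).1 this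
        obtain ⟨mt, J, bor, hB, hlen⟩ := borel_data_even_large p ζ hζgen hp2 hq
        exact ⟨mt, J, bor, hB e hcard hq4, fun _ => by omega, fun _ => by omega⟩
      · obtain ⟨mt, J, bor, hB, hlen⟩ := borel_data_odd_large p ζ hζgen hq
        exact ⟨mt, J, bor, hB e hcard hq4, fun _ => by omega, fun h => absurd h h2⟩

/-- **the lists of relators** -/
theorem sl3_lists {F : Type*} [Field F] [Fintype F] :
    ∃ L : List W4, L.length ≤ 14 ∧
      Nonempty (PresentedGroup (↑L.toFinset : Set W4) ≃* Matrix.SpecialLinearGroup (Fin 3) F) := by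
  classical
  obtain ⟨p, hchar⟩ := CharP.exists F
  haveI := hchar
  haveI hp : Fact p.Prime := ⟨CharP.char_is_prime F p⟩
  letI : Algebra (ZMod p) F := ZMod.algebra F p
  obtain ⟨n, -, hcard⟩ := FiniteField.card F p
  obtain ⟨ζ, hζgen⟩ := IsCyclic.exists_generator (α := Fˣ)
  have hsurj := aeval_gen_surjective p ζ hζgen n hcard
  obtain ⟨mt, J, bor, hB, hlen_odd, hlen_even⟩ := borel_data p ζ hζgen n hcard
  by_cases h2 : (2 : F) = 0
  · have hp2 : p = 2 := by
      have h2' : ((2 : ℕ) : F) = 0 := by exact_mod_cast h2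
      have := (CharP.cast_eq_zero_iff F p 2).1 h2'
      exact (Nat.prime_dvd_prime_iff_eq hp.out Nat.prime_two).1 this
    refine ⟨(bor ++ [vW]) ++ coreL J, ?_, finish p ζ hζgen hsurj mt J bor hB [vW] ?_ ?_⟩
    · have := hlen_even h2
      rw [List.length_append, List.length_append, coreL_length]
      simp only [List.length_cons, List.length_nil]
      omega
    · intro r hr
      simp only [List.mem_cons, List.not_mem_nil, or_false] at hr
      subst hr
      exact sl3_vW ζ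
    · intro G _ φ hφ b1 h5
      have hW := (vW_iff φ).1 (hφ _ (by simp))
      have hu : φ vu * φ vu = 1 := by
        rw [← sq, ← hp2]; exact b1
      exact w_of_invol _ _ _ hu ((vR5_iff φ).1 h5) hW
  · refine ⟨(bor ++ [vW1, vW2]) ++ coreL J, ?_, finish p ζ hζgen hsurj mt J bor hB [vW1, vW2] ?_ ?_⟩
    · have := hlen_odd h2
      rw [List.length_append, List.length_append, coreL_length]
      simp only [List.length_cons, List.length_nil]
      omega
    · intro r hr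
      simp only [List.mem_cons, List.not_mem_nil, or_false] at hr
      rcases hr with rfl | rfl
      · exact sl3_vW1 ζ
      · exact sl3_vW2 ζ
    · intro G _ φ hφ _ _
      exact ⟨(vW1_iff φ).1 (hφ _ (by simp)), (vW2_iff φ).1 (hφ _ (by simp))⟩

end Cfsg.Agent.Lib.Helper7.Pres3
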