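import Mathlib
import Cfsg.Agent.Lib.Helper7.Pres2M

/-!
# Short presentation of `Sp₄(F)`: the presentation of `SL₂(F)` as a reusable package (helper7)

The relators of `Pres2` (statement S2286) are packaged so that they give, for every group with
three elements satisfying them, a homomorphism from `SL₂(F)` with prescribed values.
-/

set_option autoImplicit false

namespace Cfsg.Agent.Lib.Helper7.Pres4

open Cfsg.Agent.Lib.Helper7.Pres2 Polynomial

/-- the data of the presentation scheme of `SL₂(F)` -/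
structure SchemeData {F : Type*} [Field F] [Fintype F] (p : ℕ) [Fact p.Prime]
    [Algebra (ZMod p) F] [CharP F p] (ζ : Fˣ) where
  d : ℤ
  mt : ℤ[X]
  gt : ℤ[X]
  fz : ℤ[X]
  fzi : ℤ[X]
  odd : Bool
  extra : List W3
  hsurj : Function.Surjective (fun f : ℤ[X] => aeval ((ζ : F) ^ (2 * d)) f)
  hmt : mt.map (Int.castRingHom (ZMod p)) = minpoly (ZMod p) ((ζ : F) ^ (2 * d))
  hgt : aeval ((ζ : F) ^ (2 * d)) gt = (ζ : F) ^ 2
  hfz : aeval ((ζ : F) ^ (2 * d)) fz = (ζ : F)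
  hfzi : aeval ((ζ : F) ^ (2 * d)) fzi = (ζ : F)⁻¹
  hodd : (2 : F) ≠ 0 → odd = true
  hextraSL : ∀ r ∈ extra, slev ζ r = 1
  h3' : wR3' d gt ∈ extra ∨ wR3' d gt = 1
  hcom' : ∀ {G : Type} [Group G] (φ : W3 →* G),
    (∀ r ∈ coreRels p d mt fz fzi odd ++ extra, φ r = 1) →
    ∀ m n : ℤ, Commute (cj (φ fu) (φ fh) (d * m)) (cj (φ fu) (φ fh) (d * n))
  hlen : (coreRels p d mt fz fzi odd ++ extra).length ≤ 8

section cases

variable {F : Type*} [Field F] [Fintype F] (p : ℕ) [Fact p.Prime] [Algebra (ZMod p) F] [CharP F p]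
  (ζ : Fˣ) (hζgen : ∀ x : Fˣ, x ∈ Subgroup.zpowers ζ)

include hζgen in
/-- the case `e ≤ 2` -/
theorem data_small (e : ℕ) (hcard : Fintype.card F = p ^ e) (he : e ≤ 2) :
    Nonempty (SchemeData (F := F) p ζ) := by
  classical
  have hp : p.Prime := Fact.out
  have hθ2 : (ζ : F) ^ (2 * (1 : ℤ)) = (ζ : F) ^ 2 := by norm_num
  have hζ0 : (ζ : F) ≠ 0 := ζ.ne_zero
  have hsurj : Function.Surjective (fun f : ℤ[X] => aeval ((ζ : F) ^ (2 * (1 : ℤ))) f) := by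
    apply aeval_surjective_of_frob p e hcard
    intro r hr0 hre
    have hr1 : r = 1 := by omega
    have he2 : e = 2 := by omega
    subst hr1
    subst he2
    rw [hθ2, pow_one]
    intro h
    have h1 : (ζ : F) ^ (2 * p - 2) = 1 := by
      have h2 : (ζ : F) ^ 2 * (ζ : F) ^ (2 * p - 2) = (ζ : F) ^ 2 * 1 := by
        rw [← pow_add, mul_one, ← h, ← pow_mul]
        congr 1
        have := hp.two_le
        omega
      exact mul_left_cancel₀ (pow_ne_zero 2 hζ0) h2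
    have h3 := gen_pow_eq_one ζ hζgen _ h1
    rw [hcard] at h3
    have h4 : p ^ 2 - 1 ≤ 2 * p - 2 := Nat.le_of_dvd (by have := hp.two_le; omega) h3
    have h5 : 2 * p ≤ p ^ 2 := by
      have := hp.two_le
      nlinarith
    have h6 : 2 ≤ p := hp.two_le
    have h7 : 1 ≤ p ^ 2 := Nat.one_le_pow _ _ hp.pos
    omega
  obtain ⟨mt, -, fz, fzi, hmonic, hdeg, hmt, -, hfz, hfzi⟩ := exists_polys p ζ 1 hsurj
  have hgt : aeval ((ζ : F) ^ (2 * (1 : ℤ))) (X : ℤ[X]) = (ζ : F) ^ 2 := by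
    rw [aeval_X, hθ2]
  have hint : IsIntegral (ZMod p) ((ζ : F) ^ (2 * (1 : ℤ))) := IsIntegral.of_finite _ _
  have hdeg_pos : 0 < mt.natDegree := by rw [hdeg]; exact minpoly.natDegree_pos hint
  have hdeg_le : mt.natDegree ≤ 2 := by
    rw [hdeg]
    have h1 := minpoly.natDegree_le (A := ZMod p) ((ζ : F) ^ (2 * (1 : ℤ)))
    have hFcard : p ^ Module.finrank (ZMod p) F = Nat.card F :=
      FiniteField.pow_finrank_eq_natCard p F
    rw [Nat.card_eq_fintype_card, hcard] at hFcard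
    have := Nat.pow_right_injective hp.two_le hFcard
    omega
  refine ⟨⟨1, mt, X, fz, fzi, true, [wC 1], hsurj, hmt, hgt, hfz, hfzi, fun _ => rfl, ?_,
    Or.inr wR3'_one_X, ?_, ?_⟩⟩
  · intro r hr
    simp only [List.mem_cons, List.not_mem_nil, or_false] at hr
    subst hr
    exact sl_wC ζ 1
  · intro G _ φ hφ m n
    have hC : φ (wC 1) = 1 := hφ _ (by simp)
    have h3 : φ (wR3 1 mt) = 1 := hφ _ (by unfold coreRels; simp)
    rw [wC_iff] at hC
    rw [wR3_iff] at h3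
    have hc : ∀ j : ℕ, j < mt.natDegree → Commute (φ fu) (cj (φ fu) (φ fh) j) := by
      intro j hj
      have hj' : j = 0 ∨ j = 1 := by omega
      rcases hj' with rfl | rfl
      · simp only [Nat.cast_zero, cj_zero]
        exact Commute.refl _
      · simpa using hC
    have hall := direct_comm (φ fu) (φ fh) mt hmonic hdeg_pos hc h3
    have := hcom_of_nat (φ fu) (φ fh) hall m n
    simpa using this
  · rw [List.length_append]
    have := coreRels_length_le p 1 mt fz fzi true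
    simp only [List.length_cons, List.length_nil]
    omega

include hζgen in
/-- the case `e ≥ 3`, odd characteristic -/
theorem data_odd_large (e : ℕ) (hcard : Fintype.card F = p ^ e) (he : 3 ≤ e) (h2 : (2 : F) ≠ 0) :
    Nonempty (SchemeData (F := F) p ζ) := by
  classical
  have hp : p.Prime := Fact.out
  have hζ0 : (ζ : F) ≠ 0 := ζ.ne_zero
  have hp3 : 3 ≤ p := by
    by_contra h
    have hp2 : p = 2 := by have := hp.two_le; omega
    apply h2
    have := CharP.cast_eq_zero F p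
    rw [hp2] at this
    exact_mod_cast this
  have hq27 : 27 ≤ Fintype.card F := by
    rw [hcard]
    calc 27 = 3 ^ 3 := by norm_num
      _ ≤ p ^ 3 := Nat.pow_le_pow_left hp3 3
      _ ≤ p ^ e := Nat.pow_le_pow_right hp.pos he
  have hord : ∀ n : ℕ, (ζ : F) ^ n = 1 → (Fintype.card F - 1) ∣ n := gen_pow_eq_one ζ hζgen
  have hz2 : (ζ : F) ^ 2 ≠ 1 := fun h => by
    have := Nat.le_of_dvd (by norm_num) (hord 2 h); omega
  have hz4 : (ζ : F) ^ 4 ≠ 1 := fun h => by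
    have := Nat.le_of_dvd (by norm_num) (hord 4 h); omega
  have hc : ((ζ : F) - (ζ : F)⁻¹) / 2 ≠ 0 := by
    intro h
    apply hz2
    have h1 : (ζ : F) - (ζ : F)⁻¹ = 0 := by
      rcases div_eq_zero_iff.1 h with h | h
      · exact h
      · exact absurd h h2
    have h3 : (ζ : F) = (ζ : F)⁻¹ := sub_eq_zero.1 h1
    calc (ζ : F) ^ 2 = (ζ : F) * (ζ : F) := sq _
      _ = (ζ : F) * (ζ : F)⁻¹ := by rw [← h3]
      _ = 1 := mul_inv_cancel₀ hζ0
  have hc' : ((ζ : F) + (ζ : F)⁻¹) / 2 ≠ 0 := by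
    intro h
    apply hz4
    have h1 : (ζ : F) + (ζ : F)⁻¹ = 0 := by
      rcases div_eq_zero_iff.1 h with h | h
      · exact h
      · exact absurd h h2
    have h3 : (ζ : F)⁻¹ = -(ζ : F) := by
      have := eq_neg_of_add_eq_zero_right h1
      exact this
    have h4 : (ζ : F) ^ 2 = -1 := by
      have : (ζ : F) * (ζ : F)⁻¹ = 1 := mul_inv_cancel₀ hζ0
      rw [h3] at this
      have h5 : (ζ : F) ^ 2 = -((ζ : F) * -(ζ : F)) := by ring
      rw [h5, this]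
    calc (ζ : F) ^ 4 = ((ζ : F) ^ 2) ^ 2 := by ring
      _ = 1 := by rw [h4]; ring
  have hcc : (((ζ : F) + (ζ : F)⁻¹) / 2) ^ 2 = 1 + (((ζ : F) - (ζ : F)⁻¹) / 2) ^ 2 := by
    field_simp
    ring
  obtain ⟨i, hi⟩ := gen_nat ζ hζgen _ hc
  obtain ⟨j, hj⟩ := gen_nat ζ hζgen _ hc'
  have hdZ : ((Int.gcd (j : ℤ) (i : ℤ) : ℕ) : ℤ) = ((Nat.gcd j i : ℕ) : ℤ) := by
    rw [Int.gcd_natCast_natCast]
  have hθ : (ζ : F) ^ (2 * ((Int.gcd (j : ℤ) (i : ℤ) : ℕ) : ℤ)) = (ζ : F) ^ (2 * Nat.gcd j i) := by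
    rw [hdZ, show (2 * ((Nat.gcd j i : ℕ) : ℤ)) = ((2 * Nat.gcd j i : ℕ) : ℤ) by push_cast; ring,
      zpow_natCast]
  have hsurj : Function.Surjective
      (fun f : ℤ[X] => aeval ((ζ : F) ^ (2 * ((Int.gcd (j : ℤ) (i : ℤ) : ℕ) : ℤ))) f) := by
    apply aeval_surjective_of_frob p e hcard
    intro r hr0 hre
    rw [hθ]
    intro h
    obtain ⟨i', hi'⟩ := Nat.gcd_dvd_right j i
    have hb : ((((ζ : F) - (ζ : F)⁻¹) / 2) ^ 2) ^ (p ^ r) = (((ζ : F) - (ζ : F)⁻¹) / 2) ^ 2 := by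
      have e1 : (((ζ : F) - (ζ : F)⁻¹) / 2) ^ 2 = ((ζ : F) ^ (2 * Nat.gcd j i)) ^ i' := by
        rw [hi, ← pow_mul, ← pow_mul]
        congr 1
        rw [mul_comm i 2, mul_assoc, ← hi']
      rw [e1, ← pow_mul, mul_comm i' (p ^ r), pow_mul, h]
    have hs : ((ζ : F) ^ 2 + ((ζ : F) ^ 2)⁻¹) ^ (p ^ r) = (ζ : F) ^ 2 + ((ζ : F) ^ 2)⁻¹ := by
      have e2 : (ζ : F) ^ 2 + ((ζ : F) ^ 2)⁻¹ =
          ((4 : ℕ) : F) * (((ζ : F) - (ζ : F)⁻¹) / 2) ^ 2 + ((2 : ℕ) : F) := by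
        push_cast
        field_simp
        ring
      rw [e2, frob_add, mul_pow, hb, frob_natCast, frob_natCast]
    have hz0 : (ζ : F) ^ 2 ≠ 0 := pow_ne_zero 2 hζ0
    have hy0 : ((ζ : F) ^ 2) ^ (p ^ r) ≠ 0 := pow_ne_zero _ hz0
    rw [frob_add, inv_pow] at hs
    have hprod : (((ζ : F) ^ 2) ^ (p ^ r) - (ζ : F) ^ 2) *
        (((ζ : F) ^ 2) ^ (p ^ r) - ((ζ : F) ^ 2)⁻¹) = 0 := by
      have e3 : (((ζ : F) ^ 2) ^ (p ^ r) - (ζ : F) ^ 2) *
          (((ζ : F) ^ 2) ^ (p ^ r) - ((ζ : F) ^ 2)⁻¹) =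
          ((ζ : F) ^ 2) ^ (p ^ r) * ((((ζ : F) ^ 2) ^ (p ^ r) + (((ζ : F) ^ 2) ^ (p ^ r))⁻¹) -
            ((ζ : F) ^ 2 + ((ζ : F) ^ 2)⁻¹)) := by
        field_simp
        ring
      rw [e3, hs, sub_self, mul_zero]
    have hQ3 : 3 ≤ p ^ r := by
      calc 3 ≤ p := hp3
        _ = p ^ 1 := (pow_one p).symm
        _ ≤ p ^ r := Nat.pow_le_pow_right hp.pos hr0
    have h3Q : 3 * p ^ r ≤ Fintype.card F := by
      rw [hcard]
      calc 3 * p ^ r ≤ p * p ^ r := Nat.mul_le_mul_right _ hp3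
        _ = p ^ (r + 1) := by rw [pow_succ]; ring
        _ ≤ p ^ e := Nat.pow_le_pow_right hp.pos (by omega)
    rcases mul_eq_zero.1 hprod with h | h
    · have h1 : ((ζ : F) ^ 2) ^ (p ^ r) = (ζ : F) ^ 2 := sub_eq_zero.1 h
      have h4 : (ζ : F) ^ (2 * p ^ r - 2) = 1 := by
        have h5 : (ζ : F) ^ 2 * (ζ : F) ^ (2 * p ^ r - 2) = (ζ : F) ^ 2 * 1 := by
          rw [← pow_add, mul_one, ← h1, ← pow_mul]
          congr 1
          omega
        exact mul_left_cancel₀ hz0 h5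
      have := Nat.le_of_dvd (by omega) (hord _ h4)
      omega
    · have h1 : ((ζ : F) ^ 2) ^ (p ^ r) = ((ζ : F) ^ 2)⁻¹ := sub_eq_zero.1 h
      have h4 : (ζ : F) ^ (2 * p ^ r + 2) = 1 := by
        rw [pow_add, pow_mul, h1, inv_mul_cancel₀ hz0]
      have := Nat.le_of_dvd (by omega) (hord _ h4)
      omega
  obtain ⟨mt, gt, fz, fzi, -, -, hmt, hgt, hfz, hfzi⟩ :=
    exists_polys p ζ ((Int.gcd (j : ℤ) (i : ℤ) : ℕ) : ℤ) hsurj
  have hkl : (ζ : F) ^ (2 * (j : ℤ)) = 1 + (ζ : F) ^ (2 * (i : ℤ)) := by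
    rw [show (2 * (j : ℤ)) = ((j * 2 : ℕ) : ℤ) by push_cast; ring,
      show (2 * (i : ℤ)) = ((i * 2 : ℕ) : ℤ) by push_cast; ring, zpow_natCast, zpow_natCast,
      pow_mul, pow_mul, ← hi, ← hj]
    exact hcc
  refine ⟨⟨((Int.gcd (j : ℤ) (i : ℤ) : ℕ) : ℤ), mt, gt, fz, fzi, true,
    [wC (i : ℤ), wR2 (j : ℤ) (i : ℤ), wR3' ((Int.gcd (j : ℤ) (i : ℤ) : ℕ) : ℤ) gt],
    hsurj, hmt, hgt, hfz, hfzi, fun _ => rfl, ?_, Or.inl (by simp), ?_, ?_⟩⟩
  · intro r hr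
    simp only [List.mem_cons, List.not_mem_nil, or_false] at hr
    rcases hr with rfl | rfl | rfl
    · exact sl_wC ζ _
    · exact sl_wR2 ζ _ _ hkl
    · exact sl_wR3' ζ _ gt hgt
  · intro G _ φ hφ m n
    have hC : φ (wC (i : ℤ)) = 1 := hφ _ (by simp)
    have hR2 : φ (wR2 (j : ℤ) (i : ℤ)) = 1 := hφ _ (by simp)
    rw [wC_iff] at hC
    rw [wR2_iff] at hR2
    exact commute_gcd (φ fu) (φ fh) (j : ℤ) (i : ℤ) hR2 hC m n
  · rw [List.length_append]
    have := coreRels_length_le p ((Int.gcd (j : ℤ) (i : ℤ) : ℕ) : ℤ) mt fz fzi true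
    simp only [List.length_cons, List.length_nil]
    omega

end cases

section even

variable {F : Type*} [Field F] [Fintype F] [Fact (Nat.Prime 2)] [Algebra (ZMod 2) F] [CharP F 2]
  (ζ : Fˣ) (hζgen : ∀ x : Fˣ, x ∈ Subgroup.zpowers ζ)

include hζgen in
/-- the case `e ≥ 3`, characteristic two -/
theorem data_even_large (e : ℕ) (hcard : Fintype.card F = 2 ^ e) (he : 3 ≤ e) :
    Nonempty (SchemeData (F := F) 2 ζ) := by
  classical
  have hζ0 : (ζ : F) ≠ 0 := ζ.ne_zero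
  have h2F : (2 : F) = 0 := by
    have := CharP.cast_eq_zero F 2
    exact_mod_cast this
  have hq8 : 8 ≤ Fintype.card F := by
    rw [hcard]
    calc 8 = 2 ^ 3 := by norm_num
      _ ≤ 2 ^ e := Nat.pow_le_pow_right (by norm_num) he
  have hord : ∀ n : ℕ, (ζ : F) ^ n = 1 → (Fintype.card F - 1) ∣ n := gen_pow_eq_one ζ hζgen
  have hz2 : (ζ : F) ^ 2 ≠ 1 := fun h => by
    have := Nat.le_of_dvd (by norm_num) (hord 2 h); omega
  have hw1 : (ζ : F) ^ 2 - 1 ≠ 0 := sub_ne_zero.2 hz2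
  have hθ2 : (ζ : F) ^ (2 * (1 : ℤ)) = (ζ : F) ^ 2 := by norm_num
  have hqeven : Fintype.card F = 2 * (Fintype.card F / 2) := by
    rw [hcard]
    obtain ⟨e', rfl⟩ : ∃ e', e = e' + 1 := ⟨e - 1, by omega⟩
    rw [pow_succ]
    omega
  have hv : ((((ζ : F) ^ 2 - 1)⁻¹) ^ (Fintype.card F / 2)) ^ 2 = ((ζ : F) ^ 2 - 1)⁻¹ := by
    rw [← pow_mul, mul_comm, ← hqeven, FiniteField.pow_card]
  have hv0 : (((ζ : F) ^ 2 - 1)⁻¹) ^ (Fintype.card F / 2) ≠ 0 := pow_ne_zero _ (inv_ne_zero hw1)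
  obtain ⟨l, hl⟩ := gen_nat ζ hζgen _ hv0
  have hl2 : (ζ : F) ^ (2 * l) = ((ζ : F) ^ 2 - 1)⁻¹ := by
    rw [mul_comm, pow_mul, ← hl, hv]
  have hkl : (ζ : F) ^ (2 * ((l : ℤ) + 1)) = 1 + (ζ : F) ^ (2 * (l : ℤ)) := by
    rw [show (2 * ((l : ℤ) + 1)) = ((2 * l + 2 : ℕ) : ℤ) by push_cast; ring,
      show (2 * (l : ℤ)) = ((2 * l : ℕ) : ℤ) by push_cast; ring, zpow_natCast, zpow_natCast,
      pow_add, hl2]
    field_simp
    ring
  have hsurj : Function.Surjective (fun f : ℤ[X] => aeval ((ζ : F) ^ (2 * (1 : ℤ))) f) := by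
    apply aeval_surjective_of_frob 2 e hcard
    intro r hr0 hre
    rw [hθ2]
    intro h
    have hQ2 : 2 ≤ 2 ^ r := by
      calc 2 = 2 ^ 1 := by norm_num
        _ ≤ 2 ^ r := Nat.pow_le_pow_right (by norm_num) hr0
    have hQlt : 2 ^ r < Fintype.card F := by
      rw [hcard]
      exact Nat.pow_lt_pow_right (by norm_num) hre
    have h4 : (ζ : F) ^ (2 * (2 ^ r - 1)) = 1 := by
      have h5 : (ζ : F) ^ 2 * (ζ : F) ^ (2 * (2 ^ r - 1)) = (ζ : F) ^ 2 * 1 := by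
        rw [← pow_add, mul_one]
        conv_rhs => rw [← h]
        rw [← pow_mul]
        congr 1
        omega
      exact mul_left_cancel₀ (pow_ne_zero 2 hζ0) h5
    have h6 := hord _ h4
    have hcop : Nat.Coprime (Fintype.card F - 1) 2 := by
      rw [Nat.coprime_comm]
      exact (Nat.Prime.coprime_iff_not_dvd Nat.prime_two).2 (by omega)
    have h7 := hcop.dvd_of_dvd_mul_left h6
    have := Nat.le_of_dvd (by omega) h7
    omega
  obtain ⟨mt, -, fz, fzi, -, -, hmt, -, hfz, hfzi⟩ := exists_polys 2 ζ 1 hsurj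
  have hgt : aeval ((ζ : F) ^ (2 * (1 : ℤ))) (X : ℤ[X]) = (ζ : F) ^ 2 := by
    rw [aeval_X, hθ2]
  have hgcd : ((Int.gcd ((l : ℤ) + 1) (l : ℤ) : ℕ) : ℤ) = 1 := by
    have : Int.gcd ((l : ℤ) + 1) (l : ℤ) = 1 := by
      have h1 : ((l : ℤ) + 1) = ((l + 1 : ℕ) : ℤ) := by push_cast; ring
      rw [h1, Int.gcd_natCast_natCast]
      simp
    rw [this]
    rfl
  refine ⟨⟨1, mt, X, fz, fzi, false, [wR2 ((l : ℤ) + 1) (l : ℤ)], hsurj, hmt, hgt, hfz, hfzi,
    fun h => absurd h2F h, ?_, Or.inr wR3'_one_X, ?_, ?_⟩⟩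
  · intro r hr
    simp only [List.mem_cons, List.not_mem_nil, or_false] at hr
    subst hr
    exact sl_wR2 ζ _ _ hkl
  · intro G _ φ hφ m n
    have hR1 : φ (wR1 2) = 1 := hφ _ (by unfold coreRels; simp)
    have hR2 : φ (wR2 ((l : ℤ) + 1) (l : ℤ)) = 1 := hφ _ (by simp)
    rw [wR1_iff] at hR1
    rw [wR2_iff] at hR2
    have hu : φ fu * φ fu = 1 := by rw [← sq]; exact hR1
    have hcjsq : ∀ n : ℤ, cj (φ fu) (φ fh) n * cj (φ fu) (φ fh) n = 1 := by
      intro n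
      rw [← cj_mul, hu, cj_one']
    have hC : Commute (φ fu) (cj (φ fu) (φ fh) (l : ℤ)) :=
      commute_of_invol _ _ _ hu (hcjsq _) (hcjsq _) hR2
    have := commute_gcd (φ fu) (φ fh) ((l : ℤ) + 1) (l : ℤ) hR2 hC m n
    rw [hgcd] at this
    exact this
  · rw [List.length_append, coreRels_length_even]
    simp

end even

/-- the data exist for every finite field -/
theorem exists_schemeData {F : Type*} [Field F] [Fintype F] (p : ℕ) [Fact p.Prime]
    [Algebra (ZMod p) F] [CharP F p] (ζ : Fˣ) (hζgen : ∀ x : Fˣ, x ∈ Subgroup.zpowers ζ) :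
    Nonempty (SchemeData (F := F) p ζ) := by
  classical
  have hp : p.Prime := Fact.out
  obtain ⟨n, -, hcard⟩ := FiniteField.card F p
  by_cases hn : (n : ℕ) ≤ 2
  · exact data_small p ζ hζgen n hcard hn
  · have hn3 : 3 ≤ (n : ℕ) := by omega
    by_cases h2 : (2 : F) = 0
    · have hp2 : p = 2 := by
        have h2' : ((2 : ℕ) : F) = 0 := by exact_mod_cast h2
        have := (CharP.cast_eq_zero_iff F p 2).1 h2'
        exact (Nat.prime_dvd_prime_iff_eq hp Nat.prime_two).1 this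
      subst hp2
      exact data_even_large ζ hζgen n hcard hn3
    · exact data_odd_large p ζ hζgen n hcard hn3 h2

end Cfsg.Agent.Lib.Helper7.Pres4
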