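import Mathlib
import Cfsg.Agent.Lib.Helper7.Pres4A

/-!
# Short presentation of `Sp₄(F)`: homomorphisms out of `SL₂(F)` from the relators (helper7)
-/

set_option autoImplicit false

namespace Cfsg.Agent.Lib.Helper7.Pres4

open Cfsg.Agent.Lib.Helper7.Pres2 Polynomial

variable {F : Type*} [Field F] [Fintype F] {p : ℕ} [Fact p.Prime] [Algebra (ZMod p) F] [CharP F p]
  {ζ : Fˣ}

theorem toGroup_mk {α : Type*} {G : Type*} [Group G] {f : α → G} {rels : Set (FreeGroup α)}
    (h : ∀ r ∈ rels, FreeGroup.lift f r = 1) (w : FreeGroup α) :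
    PresentedGroup.toGroup h (PresentedGroup.mk rels w) = FreeGroup.lift f w := rfl

/-- the list of relators -/
noncomputable def SchemeData.rels (D : SchemeData (F := F) p ζ) : List W3 :=
  coreRels p D.d D.mt D.fz D.fzi D.odd ++ D.extra

theorem SchemeData.rels_length (D : SchemeData (F := F) p ζ) : D.rels.length ≤ 8 := D.hlen

theorem SchemeData.rels_sl (D : SchemeData (F := F) p ζ) (r : W3) (hr : r ∈ D.rels) :
    slev ζ r = 1 :=
  scheme_sl_rel p ζ D.d D.mt D.fz D.fzi D.hmt D.hfz D.hfzi D.odd D.extra D.hextraSL r hr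

theorem SchemeData.rels_lift (D : SchemeData (F := F) p ζ) :
    ∀ r ∈ (↑D.rels.toFinset : Set W3), FreeGroup.lift (slgen (F := F) ζ) r = 1 := by
  classical
  intro r hr
  rw [Finset.mem_coe, List.mem_toFinset] at hr
  exact D.rels_sl r hr

/-- the canonical homomorphism from the presented group to `SL₂(F)` is bijective -/
theorem SchemeData.bijective (D : SchemeData (F := F) p ζ)
    (hζgen : ∀ x : Fˣ, x ∈ Subgroup.zpowers ζ) :
    Function.Bijective (PresentedGroup.toGroup D.rels_lift) := by
  classical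
  have m1 : wR1 p ∈ D.rels := by
    unfold SchemeData.rels coreRels; simp
  have m3 : wR3 D.d D.mt ∈ D.rels := by
    unfold SchemeData.rels coreRels; simp
  have m5 : wR5 ∈ D.rels := by
    unfold SchemeData.rels coreRels; simp
  have m6 : wR6 D.d D.fz D.fzi ∈ D.rels := by
    unfold SchemeData.rels coreRels; simp
  have m4 : (2 : F) ≠ 0 → wR4 ∈ D.rels := by
    intro h2
    unfold SchemeData.rels
    rw [D.hodd h2]
    unfold coreRels; simp
  have hsub : ∀ r ∈ D.rels, r ∈ (↑D.rels.toFinset : Set W3) := by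
    intro r hr
    rw [Finset.mem_coe, List.mem_toFinset]
    exact hr
  have hc : ∀ m n : ℤ, Commute
      (cj (PresentedGroup.mk (↑D.rels.toFinset : Set W3) fu)
        (PresentedGroup.mk (↑D.rels.toFinset : Set W3) fh) (D.d * m))
      (cj (PresentedGroup.mk (↑D.rels.toFinset : Set W3) fu)
        (PresentedGroup.mk (↑D.rels.toFinset : Set W3) fh) (D.d * n)) :=
    D.hcom' (PresentedGroup.mk (↑D.rels.toFinset : Set W3))
      (fun r hr => PresentedGroup.one_of_mem (hsub r hr))
  have h3' : wR3' D.d D.gt ∈ Subgroup.normalClosure (↑D.rels.toFinset : Set W3) := by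
    rcases D.h3' with h | h
    · exact Subgroup.subset_normalClosure (hsub _ (List.mem_append_right _ h))
    · rw [h]; exact one_mem _
  obtain ⟨h1, h2, -⟩ := presented_bound p (ζ : F) ζ.ne_zero (hgen_of_zpowers ζ hζgen) D.d _ D.hsurj
    D.mt D.gt D.fz D.fzi D.hmt D.hgt D.hfz D.hfzi (↑D.rels.toFinset : Set W3) hc
    (Subgroup.subset_normalClosure (hsub _ m1)) (Subgroup.subset_normalClosure (hsub _ m3)) h3'
    (fun h2 => Subgroup.subset_normalClosure (hsub _ (m4 h2)))
    (Subgroup.subset_normalClosure (hsub _ m5)) (Subgroup.subset_normalClosure (hsub _ m6))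
  have hgen := slgen_closure ζ D.d D.hsurj
  have hsurj : Function.Surjective (PresentedGroup.toGroup D.rels_lift) := by
    rw [← MonoidHom.range_eq_top, eq_top_iff, ← hgen, Subgroup.closure_le]
    rintro x (rfl | rfl | rfl)
    · exact ⟨PresentedGroup.of 0, PresentedGroup.toGroup.of D.rels_lift⟩
    · exact ⟨PresentedGroup.of 1, PresentedGroup.toGroup.of D.rels_lift⟩
    · exact ⟨PresentedGroup.of 2, PresentedGroup.toGroup.of D.rels_lift⟩
  have := h1
  apply hsurj.bijective_of_nat_card_le
  rw [card_sl2]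
  exact h2

/-- **the universal property**: three elements of a group satisfying the relators define a
homomorphism from `SL₂(F)` -/
theorem SchemeData.exists_hom (D : SchemeData (F := F) p ζ)
    (hζgen : ∀ x : Fˣ, x ∈ Subgroup.zpowers ζ) {G : Type*} [Group G] (g : Fin 3 → G)
    (hg : ∀ r ∈ D.rels, FreeGroup.lift g r = 1) :
    ∃ φ : Matrix.SpecialLinearGroup (Fin 2) F →* G,
      φ (slX 1) = g 0 ∧ φ slT = g 1 ∧ φ (slH ζ) = g 2 ∧
      ∀ w : W3, φ (slev ζ w) = FreeGroup.lift g w := by
  classical
  have hg' : ∀ r ∈ (↑D.rels.toFinset : Set W3), FreeGroup.lift g r = 1 := by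
    intro r hr
    rw [Finset.mem_coe, List.mem_toFinset] at hr
    exact hg r hr
  let e := MulEquiv.ofBijective _ (D.bijective hζgen)
  let φ : Matrix.SpecialLinearGroup (Fin 2) F →* G :=
    (PresentedGroup.toGroup hg').comp e.symm.toMonoidHom
  have key : ∀ w : W3, φ (slev ζ w) = FreeGroup.lift g w := by
    intro w
    have h1 : e (PresentedGroup.mk _ w) = slev ζ w := toGroup_mk D.rels_lift w
    have h2 : e.symm (slev ζ w) = PresentedGroup.mk _ w := by
      rw [← h1, MulEquiv.symm_apply_apply]
    show PresentedGroup.toGroup hg' (e.symm (slev ζ w)) = _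
    rw [h2]
    exact toGroup_mk hg' w
  refine ⟨φ, ?_, ?_, ?_, key⟩
  · have := key fu
    rw [slev_fu] at this
    rw [this]
    simp [fu]
  · have := key ft
    rw [slev_ft] at this
    rw [this]
    simp [ft]
  · have := key fh
    rw [slev_fh] at this
    rw [this]
    simp [fh]

end Cfsg.Agent.Lib.Helper7.Pres4
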