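import Mathlib

/-!
# Short presentation of `Sp₄(F)`: double cosets for a rank one step (helper7)

An abstract version of the rule `n B γ B ⊆ B γ B ∪ B n γ B` of a `BN`-pair, for a subgroup
`B = Q X T` and an element `n` with the usual rank one property.
-/

set_option autoImplicit false

namespace Cfsg.Agent.Lib.Helper7.Pres4

open Pointwise

variable {Γ : Type*} [Group Γ]

/-- the double coset `B γ B` -/
def dc (B : Subgroup Γ) (γ : Γ) : Set Γ := {g | ∃ b₁ ∈ B, ∃ b₂ ∈ B, g = b₁ * γ * b₂}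

theorem mem_dc_self (B : Subgroup Γ) (γ : Γ) : γ ∈ dc B γ :=
  ⟨1, B.one_mem, 1, B.one_mem, by simp⟩

theorem mul_mem_dc {B : Subgroup Γ} {γ g b : Γ} (hb : b ∈ B) (hg : g ∈ dc B γ) :
    b * g ∈ dc B γ := by
  obtain ⟨b₁, h₁, b₂, h₂, rfl⟩ := hg
  exact ⟨b * b₁, B.mul_mem hb h₁, b₂, h₂, by group⟩

theorem dc_one (B : Subgroup Γ) : dc B 1 = (B : Set Γ) := by
  ext g
  constructor
  · rintro ⟨b₁, h₁, b₂, h₂, rfl⟩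
    rw [mul_one]
    exact B.mul_mem h₁ h₂
  · intro hg
    exact ⟨g, hg, 1, B.one_mem, by simp⟩

/-- the hypotheses of a rank one step -/
structure BNStep (B T X : Subgroup Γ) (Q : Set Γ) (n : Γ) : Prop where
  hT : T ≤ B
  hX : X ≤ B
  hdec : ∀ b ∈ B, ∃ z ∈ Q, ∃ x ∈ X, ∃ h ∈ T, b = z * x * h
  hnQ : ∀ z ∈ Q, n * z * n⁻¹ ∈ B
  hnT : ∀ h ∈ T, n * h * n⁻¹ ∈ T
  hnn : n * n ∈ T
  hTX : ∀ h ∈ T, ∀ x ∈ X, h⁻¹ * x * h ∈ X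
  hr1 : ∀ x ∈ X, x = 1 ∨ ∃ x₁ ∈ X, ∃ h ∈ T, ∃ x₂ ∈ X, n * x * n⁻¹ = x₁ * h * n * x₂

namespace BNStep

variable {B T X : Subgroup Γ} {Q : Set Γ} {n : Γ} (S : BNStep B T X Q n)

include S

/-- the length increasing case -/
theorem inc (γ : Γ) (hγ : ∀ x ∈ X, γ⁻¹ * x * γ ∈ B) {g : Γ} (hg : g ∈ dc B γ) :
    n * g ∈ dc B (n * γ) := by
  obtain ⟨b₁, h₁, b₂, h₂, rfl⟩ := hg
  obtain ⟨z, hz, x, hx, h, hh, rfl⟩ := S.hdec b₁ h₁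
  exact ⟨(n * z * n⁻¹) * (n * h * n⁻¹), B.mul_mem (S.hnQ z hz) (S.hT (S.hnT h hh)),
    (γ⁻¹ * (h⁻¹ * x * h) * γ) * b₂, B.mul_mem (hγ _ (S.hTX h hh x hx)) h₂, by group⟩

/-- the length decreasing case -/
theorem dec (γ : Γ) (hγ : ∀ x ∈ X, γ⁻¹ * x * γ ∈ B) (hγT : ∀ h ∈ T, γ⁻¹ * h * γ ∈ B)
    {g : Γ} (hg : g ∈ dc B (n * γ)) : n * g ∈ dc B γ ∨ n * g ∈ dc B (n * γ) := by
  obtain ⟨b₁, h₁, b₂, h₂, rfl⟩ := hg
  obtain ⟨z, hz, x, hx, h, hh, rfl⟩ := S.hdec b₁ h₁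
  have hh2 : n * h * n⁻¹ * (n * n) ∈ T := T.mul_mem (S.hnT h hh) S.hnn
  rcases S.hr1 x hx with rfl | ⟨x₁, hx₁, h₁', hh₁, x₂, hx₂, e⟩
  · left
    refine ⟨(n * z * n⁻¹) * (n * h * n⁻¹ * (n * n)), B.mul_mem (S.hnQ z hz) (S.hT hh2), b₂, h₂, ?_⟩
    group
  · right
    refine ⟨(n * z * n⁻¹) * x₁ * h₁', B.mul_mem (B.mul_mem (S.hnQ z hz) (S.hX hx₁)) (S.hT hh₁),
      (γ⁻¹ * x₂ * γ) * (γ⁻¹ * (n * h * n⁻¹ * (n * n)) * γ) * b₂,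
      B.mul_mem (B.mul_mem (hγ x₂ hx₂) (hγT _ hh2)) h₂, ?_⟩
    have e' : n * x = x₁ * h₁' * n * x₂ * n := by
      have : n * x = (n * x * n⁻¹) * n := by group
      rw [this, e]
    calc n * (z * x * h * (n * γ) * b₂) = (n * z * n⁻¹) * (n * x) * (h * n * γ * b₂) := by group
      _ = (n * z * n⁻¹) * (x₁ * h₁' * n * x₂ * n) * (h * n * γ * b₂) := by rw [e']
      _ = _ := by group

end BNStep

/-- the double coset lies in a cell -/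
theorem dc_subset_cell {B T : Subgroup Γ} (U' U'' : Set Γ) (γ : Γ)
    (hB : ∀ g ∈ B, ∃ u' ∈ U', ∃ u'' ∈ U'', ∃ h ∈ T, g = u' * u'' * h)
    (hU'' : ∀ u ∈ U'', γ⁻¹ * u * γ ∈ B) (hT : ∀ h ∈ T, γ⁻¹ * h * γ ∈ B) :
    dc B γ ⊆ U' * ({γ} : Set Γ) * (B : Set Γ) := by
  rintro g ⟨b₁, h₁, b₂, h₂, rfl⟩
  obtain ⟨u', hu', u'', hu'', h, hh, rfl⟩ := hB b₁ h₁
  refine ⟨u' * γ, ⟨u', hu', γ, rfl, rfl⟩, (γ⁻¹ * u'' * γ) * (γ⁻¹ * h * γ) * b₂,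
    B.mul_mem (B.mul_mem (hU'' _ hu'') (hT _ hh)) h₂, ?_⟩
  simp only
  group

theorem ncard_mul_le' (s t : Set Γ) : (s * t).ncard ≤ s.ncard * t.ncard := by
  have := Set.natCard_mul_le (s := s) (t := t)
  rwa [Nat.card_coe_set_eq, Nat.card_coe_set_eq, Nat.card_coe_set_eq] at this

/-- the size of a cell -/
theorem ncard_cell_le (U' : Set Γ) (γ : Γ) (B : Set Γ) :
    (U' * ({γ} : Set Γ) * B).ncard ≤ U'.ncard * B.ncard := by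
  calc (U' * ({γ} : Set Γ) * B).ncard ≤ (U' * ({γ} : Set Γ)).ncard * B.ncard := ncard_mul_le' _ _
    _ ≤ (U'.ncard * ({γ} : Set Γ).ncard) * B.ncard := Nat.mul_le_mul_right _ (ncard_mul_le' _ _)
    _ = U'.ncard * B.ncard := by rw [Set.ncard_singleton, mul_one]

end Cfsg.Agent.Lib.Helper7.Pres4
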