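import Mathlib
import Cfsg.Agent.Lib.Helper7.Pres4C

/-!
# Short presentation of `Sp₄(F)`: the order of a group with a root system of type `C₂` (helper7)

Root subgroups `XA`, `XB` (fundamental, short and long), `XZ`, `XV` (the other positive roots), a
torus `T` and elements `t`, `s` lifting the fundamental reflections.  Only relations among positive
root subgroups, the action of `t`, `s` and the rank one property are used.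
-/

set_option autoImplicit false
set_option linter.unusedSectionVars false

namespace Cfsg.Agent.Lib.Helper7.Pres4

open Pointwise

variable {Γ : Type*} [Group Γ]

/-- the hypotheses -/
structure C2Sys (XA XB XZ XV T : Subgroup Γ) (t s : Γ) : Prop where
  TA : ∀ h ∈ T, ∀ x ∈ XA, h * x * h⁻¹ ∈ XA
  TB : ∀ h ∈ T, ∀ x ∈ XB, h * x * h⁻¹ ∈ XB
  TZ : ∀ h ∈ T, ∀ x ∈ XZ, h * x * h⁻¹ ∈ XZ
  TV : ∀ h ∈ T, ∀ x ∈ XV, h * x * h⁻¹ ∈ XV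
  tT : ∀ h ∈ T, t * h * t⁻¹ ∈ T
  sT : ∀ h ∈ T, s * h * s⁻¹ ∈ T
  tt : t * t ∈ T
  ss : s * s ∈ T
  tB : ∀ x ∈ XB, t⁻¹ * x * t ∈ XV
  tV : ∀ x ∈ XV, t⁻¹ * x * t ∈ XB
  tZ : ∀ x ∈ XZ, t⁻¹ * x * t ∈ XZ
  sA : ∀ x ∈ XA, s⁻¹ * x * s ∈ XZ
  sZ : ∀ x ∈ XZ, s⁻¹ * x * s ∈ XA
  sV : ∀ x ∈ XV, s⁻¹ * x * s ∈ XV
  cBZ : ∀ x ∈ XB, ∀ y ∈ XZ, Commute x y
  cBV : ∀ x ∈ XB, ∀ y ∈ XV, Commute x y
  cZV : ∀ x ∈ XZ, ∀ y ∈ XV, Commute x y
  cAV : ∀ x ∈ XA, ∀ y ∈ XV, Commute x y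
  nAB : ∀ x ∈ XA, ∀ y ∈ XB, x * y * x⁻¹ ∈ XB ⊔ XZ ⊔ XV
  nAZ : ∀ x ∈ XA, ∀ y ∈ XZ, x * y * x⁻¹ ∈ XB ⊔ XZ ⊔ XV
  r1A : ∀ x ∈ XA, x = 1 ∨ ∃ x₁ ∈ XA, ∃ h ∈ T, ∃ x₂ ∈ XA, t * x * t⁻¹ = x₁ * h * t * x₂
  r1B : ∀ x ∈ XB, x = 1 ∨ ∃ x₁ ∈ XB, ∃ h ∈ T, ∃ x₂ ∈ XB, s * x * s⁻¹ = x₁ * h * s * x₂
  braid : t * s * t * s = s * t * s * t

/-- a subgroup acting by conjugation in one direction lies in the normaliser -/
theorem le_normalizer_of_conj {K H : Subgroup Γ} (h : ∀ k ∈ K, ∀ x ∈ H, k * x * k⁻¹ ∈ H) :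
    K ≤ Subgroup.normalizer (H : Set Γ) := by
  intro k hk
  rw [Subgroup.mem_normalizer_iff]
  intro x
  constructor
  · exact h k hk x
  · intro hx
    have := h k⁻¹ (K.inv_mem hk) _ hx
    have e : k⁻¹ * (k * x * k⁻¹) * k⁻¹⁻¹ = x := by group
    rwa [e] at this

/-- commuting subgroups normalise each other -/
theorem le_normalizer_of_commute {K H : Subgroup Γ} (h : ∀ k ∈ K, ∀ x ∈ H, Commute k x) :
    K ≤ Subgroup.normalizer (H : Set Γ) := by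
  apply le_normalizer_of_conj
  intro k hk x hx
  rw [(h k hk x hx).eq, mul_inv_cancel_right]
  exact hx

/-- elements conjugating generators into a subgroup conjugate the join into it -/
theorem conj_mem_of_sup {H₁ H₂ H₃ K : Subgroup Γ} (g : Γ) (h₁ : ∀ x ∈ H₁, g * x * g⁻¹ ∈ K)
    (h₂ : ∀ x ∈ H₂, g * x * g⁻¹ ∈ K) (h₃ : ∀ x ∈ H₃, g * x * g⁻¹ ∈ K) :
    ∀ x ∈ H₁ ⊔ H₂ ⊔ H₃, g * x * g⁻¹ ∈ K := by
  have hle : H₁ ⊔ H₂ ⊔ H₃ ≤ K.comap (MulAut.conj g).toMonoidHom := by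
    refine sup_le (sup_le ?_ ?_) ?_
    · intro x hx; exact h₁ x hx
    · intro x hx; exact h₂ x hx
    · intro x hx; exact h₃ x hx
  intro x hx
  exact hle hx

namespace C2Sys

variable {XA XB XZ XV T : Subgroup Γ} {t s : Γ} (S : C2Sys XA XB XZ XV T t s)

include S

theorem tT' : ∀ h ∈ T, t⁻¹ * h * t ∈ T := by
  intro h hh
  have h1 := S.tT h hh
  have e : t⁻¹ * h * t = (t * t)⁻¹ * (t * h * t⁻¹) * (t * t) := by group
  rw [e]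
  exact T.mul_mem (T.mul_mem (T.inv_mem S.tt) h1) S.tt

theorem sT' : ∀ h ∈ T, s⁻¹ * h * s ∈ T := by
  intro h hh
  have h1 := S.sT h hh
  have e : s⁻¹ * h * s = (s * s)⁻¹ * (s * h * s⁻¹) * (s * s) := by group
  rw [e]
  exact T.mul_mem (T.mul_mem (T.inv_mem S.ss) h1) S.ss

/-- from `n⁻¹ x n` to `n x n⁻¹` -/
theorem flip {X X' : Subgroup Γ} {n : Γ} (hnn : n * n ∈ T)
    (hT : ∀ h ∈ T, ∀ x ∈ X', h * x * h⁻¹ ∈ X') (h : ∀ x ∈ X, n⁻¹ * x * n ∈ X') :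
    ∀ x ∈ X, n * x * n⁻¹ ∈ X' := by
  intro x hx
  have e : n * x * n⁻¹ = (n * n) * (n⁻¹ * x * n) * (n * n)⁻¹ := by group
  rw [e]
  exact hT _ hnn _ (h x hx)

theorem tB' : ∀ x ∈ XB, t * x * t⁻¹ ∈ XV := S.flip S.tt S.TV S.tB
theorem tV' : ∀ x ∈ XV, t * x * t⁻¹ ∈ XB := S.flip S.tt S.TB S.tV
theorem tZ' : ∀ x ∈ XZ, t * x * t⁻¹ ∈ XZ := S.flip S.tt S.TZ S.tZ
theorem sA' : ∀ x ∈ XA, s * x * s⁻¹ ∈ XZ := S.flip S.ss S.TZ S.sA
theorem sZ' : ∀ x ∈ XZ, s * x * s⁻¹ ∈ XA := S.flip S.ss S.TA S.sZ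
theorem sV' : ∀ x ∈ XV, s * x * s⁻¹ ∈ XV := S.flip S.ss S.TV S.sV

/-- the abelian group `Q` generated by the non fundamental positive root subgroups and `XB` -/
theorem mem_Q_iff (g : Γ) : g ∈ XB ⊔ XZ ⊔ XV ↔ ∃ b ∈ XB, ∃ z ∈ XZ, ∃ v ∈ XV, g = b * z * v := by
  have h1 : XB ≤ Subgroup.normalizer (XZ : Set Γ) := le_normalizer_of_commute S.cBZ
  have h2 : XB ⊔ XZ ≤ Subgroup.normalizer (XV : Set Γ) :=
    sup_le (le_normalizer_of_commute S.cBV) (le_normalizer_of_commute S.cZV)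
  rw [← SetLike.mem_coe, Subgroup.coe_mul_of_left_le_normalizer_right _ _ h2,
    Subgroup.coe_mul_of_left_le_normalizer_right _ _ h1]
  constructor
  · rintro ⟨_, ⟨b, hb, z, hz, rfl⟩, v, hv, rfl⟩
    exact ⟨b, hb, z, hz, v, hv, rfl⟩
  · rintro ⟨b, hb, z, hz, v, hv, rfl⟩
    exact ⟨_, ⟨b, hb, z, hz, rfl⟩, v, hv, rfl⟩

theorem XB_le_Q : XB ≤ XB ⊔ XZ ⊔ XV := le_sup_of_le_left le_sup_left
theorem XZ_le_Q : XZ ≤ XB ⊔ XZ ⊔ XV := le_sup_of_le_left le_sup_right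
theorem XV_le_Q : XV ≤ XB ⊔ XZ ⊔ XV := le_sup_right

theorem XA_le_normalizer_Q : XA ≤ Subgroup.normalizer ((XB ⊔ XZ ⊔ XV : Subgroup Γ) : Set Γ) := by
  apply le_normalizer_of_conj
  intro x hx
  apply conj_mem_of_sup x (S.nAB x hx) (S.nAZ x hx)
  intro v hv
  rw [(S.cAV x hx v hv).eq, mul_inv_cancel_right]
  exact S.XV_le_Q hv

theorem T_le_normalizer_Q : T ≤ Subgroup.normalizer ((XB ⊔ XZ ⊔ XV : Subgroup Γ) : Set Γ) := by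
  apply le_normalizer_of_conj
  intro h hh
  exact conj_mem_of_sup h (fun x hx => S.XB_le_Q (S.TB h hh x hx))
    (fun x hx => S.XZ_le_Q (S.TZ h hh x hx)) (fun x hx => S.XV_le_Q (S.TV h hh x hx))

theorem T_le_normalizer_U :
    T ≤ Subgroup.normalizer ((XA ⊔ (XB ⊔ XZ ⊔ XV) : Subgroup Γ) : Set Γ) := by
  intro h hh
  apply Subgroup.normalizer_inf_normalizer_le_normalizer_sup
  exact ⟨le_normalizer_of_conj S.TA hh, S.T_le_normalizer_Q hh⟩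

/-- the subgroup `B` -/
def Bsub (_ : C2Sys XA XB XZ XV T t s) : Subgroup Γ := (XA ⊔ (XB ⊔ XZ ⊔ XV)) ⊔ T

theorem XA_le_B : XA ≤ S.Bsub := le_sup_of_le_left le_sup_left
theorem Q_le_B : XB ⊔ XZ ⊔ XV ≤ S.Bsub := le_sup_of_le_left le_sup_right
theorem XB_le_B : XB ≤ S.Bsub := S.XB_le_Q.trans S.Q_le_B
theorem XZ_le_B : XZ ≤ S.Bsub := S.XZ_le_Q.trans S.Q_le_B
theorem XV_le_B : XV ≤ S.Bsub := S.XV_le_Q.trans S.Q_le_B
theorem T_le_B : T ≤ S.Bsub := le_sup_right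

/-- first decomposition of `B` -/
theorem decA (g : Γ) (hg : g ∈ S.Bsub) :
    ∃ a ∈ XA, ∃ q ∈ XB ⊔ XZ ⊔ XV, ∃ h ∈ T, g = a * q * h := by
  unfold Bsub at hg
  rw [← SetLike.mem_coe, Subgroup.coe_mul_of_right_le_normalizer_left _ _ S.T_le_normalizer_U,
    Subgroup.coe_mul_of_left_le_normalizer_right _ _ S.XA_le_normalizer_Q] at hg
  obtain ⟨_, ⟨a, ha, q, hq, rfl⟩, h, hh, rfl⟩ := hg
  exact ⟨a, ha, q, hq, h, hh, rfl⟩

/-- second decomposition of `B` -/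
theorem decQ (g : Γ) (hg : g ∈ S.Bsub) :
    ∃ q ∈ XB ⊔ XZ ⊔ XV, ∃ a ∈ XA, ∃ h ∈ T, g = q * a * h := by
  unfold Bsub at hg
  rw [← SetLike.mem_coe, Subgroup.coe_mul_of_right_le_normalizer_left _ _ S.T_le_normalizer_U,
    sup_comm XA, Subgroup.coe_mul_of_right_le_normalizer_left _ _ S.XA_le_normalizer_Q] at hg
  obtain ⟨_, ⟨q, hq, a, ha, rfl⟩, h, hh, rfl⟩ := hg
  exact ⟨q, hq, a, ha, h, hh, rfl⟩

/-- the rank one step for `t` -/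
theorem stepT : BNStep S.Bsub T XA ((XB ⊔ XZ ⊔ XV : Subgroup Γ) : Set Γ) t where
  hT := S.T_le_B
  hX := S.XA_le_B
  hdec := by
    intro b hb
    obtain ⟨q, hq, a, ha, h, hh, rfl⟩ := S.decQ b hb
    exact ⟨q, hq, a, ha, h, hh, rfl⟩
  hnQ := by
    intro z hz
    apply S.Q_le_B
    exact conj_mem_of_sup t (fun x hx => S.XV_le_Q (S.tB' x hx))
      (fun x hx => S.XZ_le_Q (S.tZ' x hx)) (fun x hx => S.XB_le_Q (S.tV' x hx)) z hz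
  hnT := S.tT
  hnn := S.tt
  hTX := by
    intro h hh x hx
    have := S.TA h⁻¹ (T.inv_mem hh) x hx
    rwa [inv_inv] at this
  hr1 := S.r1A

/-- the set `XA XZ XV` -/
def QbSet (_ : C2Sys XA XB XZ XV T t s) : Set Γ :=
  {g | ∃ a ∈ XA, ∃ z ∈ XZ, ∃ v ∈ XV, g = a * z * v}

/-- the rank one step for `s` -/
theorem stepS : BNStep S.Bsub T XB S.QbSet s where
  hT := S.T_le_B
  hX := S.XB_le_B
  hdec := by
    intro g hg
    obtain ⟨a, ha, q, hq, h, hh, rfl⟩ := S.decA g hg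
    obtain ⟨b, hb, z, hz, v, hv, rfl⟩ := (S.mem_Q_iff q).1 hq
    refine ⟨a * z * v, ⟨a, ha, z, hz, v, hv, rfl⟩, b, hb, h, hh, ?_⟩
    have e1 := (S.cBZ b hb z hz).eq
    have e2 := (S.cBV b hb v hv).eq
    calc a * (b * z * v) * h = a * (b * z) * v * h := by group
      _ = a * (z * b) * v * h := by rw [e1]
      _ = a * z * (b * v) * h := by group
      _ = a * z * (v * b) * h := by rw [e2]
      _ = a * z * v * b * h := by group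
  hnQ := by
    rintro _ ⟨a, ha, z, hz, v, hv, rfl⟩
    have e : s * (a * z * v) * s⁻¹ = (s * a * s⁻¹) * (s * z * s⁻¹) * (s * v * s⁻¹) := by group
    rw [e]
    exact mul_mem (mul_mem (S.XZ_le_B (S.sA' a ha)) (S.XA_le_B (S.sZ' z hz)))
      (S.XV_le_B (S.sV' v hv))
  hnT := S.sT
  hnn := S.ss
  hTX := by
    intro h hh x hx
    have := S.TB h⁻¹ (T.inv_mem hh) x hx
    rwa [inv_inv] at this
  hr1 := S.r1B

end C2Sys

end Cfsg.Agent.Lib.Helper7.Pres4
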