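import Mathlib
import Cfsg.Agent.Lib.Helper7.Pres4D

/-!
# Short presentation of `Sp₄(F)`: Bruhat decomposition and the order bound for type `C₂` (helper7)
-/

set_option autoImplicit false
set_option linter.unusedSectionVars false

namespace Cfsg.Agent.Lib.Helper7.Pres4

open Pointwise

variable {Γ : Type*} [Group Γ]

namespace C2Sys

variable {XA XB XZ XV T : Subgroup Γ} {t s : Γ} (S : C2Sys XA XB XZ XV T t s)

include S

/-! ### conjugation conditions for the eight representatives -/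

theorem cT_t : ∀ h ∈ T, t⁻¹ * h * t ∈ S.Bsub := fun h hh => S.T_le_B (S.tT' h hh)
theorem cT_s : ∀ h ∈ T, s⁻¹ * h * s ∈ S.Bsub := fun h hh => S.T_le_B (S.sT' h hh)

theorem cT_ts : ∀ h ∈ T, (t * s)⁻¹ * h * (t * s) ∈ S.Bsub := by
  intro h hh
  have e : (t * s)⁻¹ * h * (t * s) = s⁻¹ * (t⁻¹ * h * t) * s := by group
  rw [e]
  exact S.T_le_B (S.sT' _ (S.tT' h hh))

theorem cT_st : ∀ h ∈ T, (s * t)⁻¹ * h * (s * t) ∈ S.Bsub := by
  intro h hh
  have e : (s * t)⁻¹ * h * (s * t) = t⁻¹ * (s⁻¹ * h * s) * t := by group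
  rw [e]
  exact S.T_le_B (S.tT' _ (S.sT' h hh))

theorem cT_tst : ∀ h ∈ T, (t * (s * t))⁻¹ * h * (t * (s * t)) ∈ S.Bsub := by
  intro h hh
  have e : (t * (s * t))⁻¹ * h * (t * (s * t)) = t⁻¹ * (s⁻¹ * (t⁻¹ * h * t) * s) * t := by group
  rw [e]
  exact S.T_le_B (S.tT' _ (S.sT' _ (S.tT' h hh)))

theorem cT_sts : ∀ h ∈ T, (s * (t * s))⁻¹ * h * (s * (t * s)) ∈ S.Bsub := by
  intro h hh
  have e : (s * (t * s))⁻¹ * h * (s * (t * s)) = s⁻¹ * (t⁻¹ * (s⁻¹ * h * s) * t) * s := by group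
  rw [e]
  exact S.T_le_B (S.sT' _ (S.tT' _ (S.sT' h hh)))

theorem cT_w0 : ∀ h ∈ T, (t * (s * (t * s)))⁻¹ * h * (t * (s * (t * s))) ∈ S.Bsub := by
  intro h hh
  have e : (t * (s * (t * s)))⁻¹ * h * (t * (s * (t * s)))
      = s⁻¹ * (t⁻¹ * (s⁻¹ * (t⁻¹ * h * t) * s) * t) * s := by group
  rw [e]
  exact S.T_le_B (S.sT' _ (S.tT' _ (S.sT' _ (S.tT' h hh))))

/-- `XA` under `s` -/
theorem cA_s : ∀ x ∈ XA, s⁻¹ * x * s ∈ XZ := S.sA

theorem cA_st : ∀ x ∈ XA, (s * t)⁻¹ * x * (s * t) ∈ XZ := by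
  intro x hx
  have e : (s * t)⁻¹ * x * (s * t) = t⁻¹ * (s⁻¹ * x * s) * t := by group
  rw [e]
  exact S.tZ _ (S.sA x hx)

theorem cA_sts : ∀ x ∈ XA, (s * (t * s))⁻¹ * x * (s * (t * s)) ∈ XA := by
  intro x hx
  have e : (s * (t * s))⁻¹ * x * (s * (t * s)) = s⁻¹ * (t⁻¹ * (s⁻¹ * x * s) * t) * s := by group
  rw [e]
  exact S.sZ _ (S.tZ _ (S.sA x hx))

theorem cB_ts : ∀ x ∈ XB, (t * s)⁻¹ * x * (t * s) ∈ XV := by
  intro x hx
  have e : (t * s)⁻¹ * x * (t * s) = s⁻¹ * (t⁻¹ * x * t) * s := by group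
  rw [e]
  exact S.sV _ (S.tB x hx)

theorem cB_tst : ∀ x ∈ XB, (t * (s * t))⁻¹ * x * (t * (s * t)) ∈ XB := by
  intro x hx
  have e : (t * (s * t))⁻¹ * x * (t * (s * t)) = t⁻¹ * (s⁻¹ * (t⁻¹ * x * t) * s) * t := by group
  rw [e]
  exact S.tV _ (S.sV _ (S.tB x hx))

theorem braid' : s * (t * (s * t)) = t * (s * (t * s)) := by
  have := S.braid
  calc s * (t * (s * t)) = s * t * s * t := by group
    _ = t * s * t * s := this.symm
    _ = t * (s * (t * s)) := by group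

/-- the union of the eight double cosets -/
def Y (S : C2Sys XA XB XZ XV T t s) : Set Γ :=
  dc S.Bsub 1 ∪ dc S.Bsub t ∪ dc S.Bsub s ∪ dc S.Bsub (t * s) ∪ dc S.Bsub (s * t) ∪
    dc S.Bsub (t * (s * t)) ∪ dc S.Bsub (s * (t * s)) ∪ dc S.Bsub (t * (s * (t * s)))

theorem mem_Y_iff (g : Γ) : g ∈ S.Y ↔
    g ∈ dc S.Bsub 1 ∨ g ∈ dc S.Bsub t ∨ g ∈ dc S.Bsub s ∨ g ∈ dc S.Bsub (t * s) ∨
    g ∈ dc S.Bsub (s * t) ∨ g ∈ dc S.Bsub (t * (s * t)) ∨ g ∈ dc S.Bsub (s * (t * s)) ∨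
    g ∈ dc S.Bsub (t * (s * (t * s))) := by
  unfold Y
  simp only [Set.mem_union, or_assoc]

theorem one_mem_Y : (1 : Γ) ∈ S.Y := (S.mem_Y_iff 1).2 (Or.inl (mem_dc_self _ 1))

theorem B_mul_mem_Y {b g : Γ} (hb : b ∈ S.Bsub) (hg : g ∈ S.Y) : b * g ∈ S.Y := by
  rw [mem_Y_iff] at hg ⊢
  rcases hg with h | h | h | h | h | h | h | h
  · exact Or.inl (mul_mem_dc hb h)
  · exact Or.inr (Or.inl (mul_mem_dc hb h))
  · exact Or.inr (Or.inr (Or.inl (mul_mem_dc hb h)))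
  · exact Or.inr (Or.inr (Or.inr (Or.inl (mul_mem_dc hb h))))
  · exact Or.inr (Or.inr (Or.inr (Or.inr (Or.inl (mul_mem_dc hb h)))))
  · exact Or.inr (Or.inr (Or.inr (Or.inr (Or.inr (Or.inl (mul_mem_dc hb h))))))
  · exact Or.inr (Or.inr (Or.inr (Or.inr (Or.inr (Or.inr (Or.inl (mul_mem_dc hb h)))))))
  · exact Or.inr (Or.inr (Or.inr (Or.inr (Or.inr (Or.inr (Or.inr (mul_mem_dc hb h)))))))

theorem one_conj_A : ∀ x ∈ XA, (1 : Γ)⁻¹ * x * 1 ∈ S.Bsub := by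
  intro x hx
  rw [inv_one, one_mul, mul_one]
  exact S.XA_le_B hx

theorem one_conj_B : ∀ x ∈ XB, (1 : Γ)⁻¹ * x * 1 ∈ S.Bsub := by
  intro x hx
  rw [inv_one, one_mul, mul_one]
  exact S.XB_le_B hx

theorem one_conj_T : ∀ h ∈ T, (1 : Γ)⁻¹ * h * 1 ∈ S.Bsub := by
  intro x hx
  rw [inv_one, one_mul, mul_one]
  exact S.T_le_B hx

theorem t_mul_mem_Y {g : Γ} (hg : g ∈ S.Y) : t * g ∈ S.Y := by
  rw [mem_Y_iff] at hg ⊢
  rcases hg with h | h | h | h | h | h | h | h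
  · -- `1 → t`
    have := S.stepT.inc 1 S.one_conj_A h
    rw [mul_one] at this
    exact Or.inr (Or.inl this)
  · -- `t → 1, t`
    have h' : g ∈ dc S.Bsub (t * 1) := by rwa [mul_one]
    rcases S.stepT.dec 1 S.one_conj_A S.one_conj_T h' with h1 | h1
    · exact Or.inl h1
    · rw [mul_one] at h1
      exact Or.inr (Or.inl h1)
  · -- `s → ts`
    have := S.stepT.inc s (fun x hx => S.XZ_le_B (S.cA_s x hx)) h
    exact Or.inr (Or.inr (Or.inr (Or.inl this)))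
  · -- `ts → s, ts`
    rcases S.stepT.dec s (fun x hx => S.XZ_le_B (S.cA_s x hx)) S.cT_s h with h1 | h1
    · exact Or.inr (Or.inr (Or.inl h1))
    · exact Or.inr (Or.inr (Or.inr (Or.inl h1)))
  · -- `st → tst`
    have := S.stepT.inc (s * t) (fun x hx => S.XZ_le_B (S.cA_st x hx)) h
    exact Or.inr (Or.inr (Or.inr (Or.inr (Or.inr (Or.inl this)))))
  · -- `tst → st, tst`
    rcases S.stepT.dec (s * t) (fun x hx => S.XZ_le_B (S.cA_st x hx)) S.cT_st h with h1 | h1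
    · exact Or.inr (Or.inr (Or.inr (Or.inr (Or.inl h1))))
    · exact Or.inr (Or.inr (Or.inr (Or.inr (Or.inr (Or.inl h1)))))
  · -- `sts → tsts`
    have := S.stepT.inc (s * (t * s)) (fun x hx => S.XA_le_B (S.cA_sts x hx)) h
    exact Or.inr (Or.inr (Or.inr (Or.inr (Or.inr (Or.inr (Or.inr this))))))
  · -- `tsts → sts, tsts`
    rcases S.stepT.dec (s * (t * s)) (fun x hx => S.XA_le_B (S.cA_sts x hx)) S.cT_sts h
      with h1 | h1
    · exact Or.inr (Or.inr (Or.inr (Or.inr (Or.inr (Or.inr (Or.inl h1))))))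
    · exact Or.inr (Or.inr (Or.inr (Or.inr (Or.inr (Or.inr (Or.inr h1))))))

theorem s_mul_mem_Y {g : Γ} (hg : g ∈ S.Y) : s * g ∈ S.Y := by
  rw [mem_Y_iff] at hg ⊢
  rcases hg with h | h | h | h | h | h | h | h
  · -- `1 → s`
    have := S.stepS.inc 1 S.one_conj_B h
    rw [mul_one] at this
    exact Or.inr (Or.inr (Or.inl this))
  · -- `t → st`
    have := S.stepS.inc t (fun x hx => S.XV_le_B (S.tB x hx)) h
    exact Or.inr (Or.inr (Or.inr (Or.inr (Or.inl this))))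
  · -- `s → 1, s`
    have h' : g ∈ dc S.Bsub (s * 1) := by rwa [mul_one]
    rcases S.stepS.dec 1 S.one_conj_B S.one_conj_T h' with h1 | h1
    · exact Or.inl h1
    · rw [mul_one] at h1
      exact Or.inr (Or.inr (Or.inl h1))
  · -- `ts → sts`
    have := S.stepS.inc (t * s) (fun x hx => S.XV_le_B (S.cB_ts x hx)) h
    exact Or.inr (Or.inr (Or.inr (Or.inr (Or.inr (Or.inr (Or.inl this))))))
  · -- `st → t, st`
    rcases S.stepS.dec t (fun x hx => S.XV_le_B (S.tB x hx)) S.cT_t h with h1 | h1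
    · exact Or.inr (Or.inl h1)
    · exact Or.inr (Or.inr (Or.inr (Or.inr (Or.inl h1))))
  · -- `tst → stst = tsts`
    have := S.stepS.inc (t * (s * t)) (fun x hx => S.XB_le_B (S.cB_tst x hx)) h
    rw [S.braid'] at this
    exact Or.inr (Or.inr (Or.inr (Or.inr (Or.inr (Or.inr (Or.inr this))))))
  · -- `sts → ts, sts`
    rcases S.stepS.dec (t * s) (fun x hx => S.XV_le_B (S.cB_ts x hx)) S.cT_ts h with h1 | h1
    · exact Or.inr (Or.inr (Or.inr (Or.inl h1)))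
    · exact Or.inr (Or.inr (Or.inr (Or.inr (Or.inr (Or.inr (Or.inl h1))))))
  · -- `tsts = s tst → tst, tsts`
    have h' : g ∈ dc S.Bsub (s * (t * (s * t))) := by rwa [S.braid']
    rcases S.stepS.dec (t * (s * t)) (fun x hx => S.XB_le_B (S.cB_tst x hx)) S.cT_tst h'
      with h1 | h1
    · exact Or.inr (Or.inr (Or.inr (Or.inr (Or.inr (Or.inl h1)))))
    · rw [S.braid'] at h1
      exact Or.inr (Or.inr (Or.inr (Or.inr (Or.inr (Or.inr (Or.inr h1))))))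

/-- **Bruhat decomposition**: a group generated by `B`, `t`, `s` is the union of the eight double
cosets -/
theorem Y_eq_univ (hgen : Subgroup.closure ((S.Bsub : Set Γ) ∪ {t, s}) = ⊤) (g : Γ) : g ∈ S.Y := by
  have key : ∀ x ∈ Subgroup.closure ((S.Bsub : Set Γ) ∪ {t, s}), ∀ y ∈ S.Y, x * y ∈ S.Y := by
    intro x hx
    induction hx using Subgroup.closure_induction'' with
    | one => intro y hy; rwa [one_mul]
    | mem x hx =>
      intro y hy
      rcases hx with hx | hx | hx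
      · exact S.B_mul_mem_Y hx hy
      · rw [hx]; exact S.t_mul_mem_Y hy
      · rw [Set.mem_singleton_iff.1 hx]; exact S.s_mul_mem_Y hy
    | inv_mem x hx =>
      intro y hy
      rcases hx with hx | hx | hx
      · exact S.B_mul_mem_Y (S.Bsub.inv_mem hx) hy
      · rw [hx]
        have e : t⁻¹ * y = (t * t)⁻¹ * (t * y) := by group
        rw [e]
        exact S.B_mul_mem_Y (S.Bsub.inv_mem (S.T_le_B S.tt)) (S.t_mul_mem_Y hy)
      · rw [Set.mem_singleton_iff.1 hx]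
        have e : s⁻¹ * y = (s * s)⁻¹ * (s * y) := by group
        rw [e]
        exact S.B_mul_mem_Y (S.Bsub.inv_mem (S.T_le_B S.ss)) (S.s_mul_mem_Y hy)
    | mul x y _ _ hx hy =>
      intro z hz
      rw [mul_assoc]
      exact hx _ (hy z hz)
  have := key g (by rw [hgen]; exact Subgroup.mem_top g) 1 S.one_mem_Y
  rwa [mul_one] at this

end C2Sys

end Cfsg.Agent.Lib.Helper7.Pres4
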