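import Mathlib
import Cfsg.Agent.Lib.Helper7.Pres4E

/-!
# Short presentation of `Sp₄(F)`: the cells and the order bound for type `C₂` (helper7)
-/

set_option autoImplicit false
set_option linter.unusedSectionVars false

namespace Cfsg.Agent.Lib.Helper7.Pres4

open Pointwise

variable {Γ : Type*} [Group Γ]

namespace C2Sys

variable {XA XB XZ XV T : Subgroup Γ} {t s : Γ} (S : C2Sys XA XB XZ XV T t s)

include S

theorem cell_t : dc S.Bsub t ⊆ (XA : Set Γ) * ({t} : Set Γ) * (S.Bsub : Set Γ) := by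
  apply dc_subset_cell (T := T) (XA : Set Γ) ((XB ⊔ XZ ⊔ XV : Subgroup Γ) : Set Γ) t
  · intro g hg
    obtain ⟨a, ha, q, hq, h, hh, rfl⟩ := S.decA g hg
    exact ⟨a, ha, q, hq, h, hh, rfl⟩
  · intro u hu
    apply S.Q_le_B
    have := conj_mem_of_sup t⁻¹ (fun x hx => S.XV_le_Q (by rw [inv_inv]; exact S.tB x hx))
      (fun x hx => S.XZ_le_Q (by rw [inv_inv]; exact S.tZ x hx))
      (fun x hx => S.XB_le_Q (by rw [inv_inv]; exact S.tV x hx)) u hu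
    rwa [inv_inv] at this
  · exact S.cT_t

theorem cell_s : dc S.Bsub s ⊆ (XB : Set Γ) * ({s} : Set Γ) * (S.Bsub : Set Γ) := by
  apply dc_subset_cell (T := T) (XB : Set Γ)
    {g | ∃ z ∈ XZ, ∃ v ∈ XV, ∃ a ∈ XA, g = z * v * a} s
  · intro g hg
    obtain ⟨q, hq, a, ha, h, hh, rfl⟩ := S.decQ g hg
    obtain ⟨b, hb, z, hz, v, hv, rfl⟩ := (S.mem_Q_iff q).1 hq
    exact ⟨b, hb, z * v * a, ⟨z, hz, v, hv, a, ha, rfl⟩, h, hh, by group⟩
  · rintro _ ⟨z, hz, v, hv, a, ha, rfl⟩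
    have e : s⁻¹ * (z * v * a) * s = (s⁻¹ * z * s) * (s⁻¹ * v * s) * (s⁻¹ * a * s) := by group
    rw [e]
    exact mul_mem (mul_mem (S.XA_le_B (S.sZ z hz)) (S.XV_le_B (S.sV v hv)))
      (S.XZ_le_B (S.sA a ha))
  · exact S.cT_s

theorem cell_ts : dc S.Bsub (t * s) ⊆
    ((XA : Set Γ) * (XV : Set Γ)) * ({t * s} : Set Γ) * (S.Bsub : Set Γ) := by
  apply dc_subset_cell (T := T) ((XA : Set Γ) * (XV : Set Γ))
    {g | ∃ b ∈ XB, ∃ z ∈ XZ, g = b * z} (t * s)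
  · intro g hg
    obtain ⟨a, ha, q, hq, h, hh, rfl⟩ := S.decA g hg
    obtain ⟨b, hb, z, hz, v, hv, rfl⟩ := (S.mem_Q_iff q).1 hq
    refine ⟨a * v, ⟨a, ha, v, hv, rfl⟩, b * z, ⟨b, hb, z, hz, rfl⟩, h, hh, ?_⟩
    have e1 := (S.cBV b hb v hv).eq
    have e2 := (S.cZV z hz v hv).eq
    calc a * (b * z * v) * h = a * b * (z * v) * h := by group
      _ = a * b * (v * z) * h := by rw [e2]
      _ = a * (b * v) * z * h := by group
      _ = a * (v * b) * z * h := by rw [e1]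
      _ = a * v * (b * z) * h := by group
  · rintro _ ⟨b, hb, z, hz, rfl⟩
    have e : (t * s)⁻¹ * (b * z) * (t * s)
        = ((t * s)⁻¹ * b * (t * s)) * (s⁻¹ * (t⁻¹ * z * t) * s) := by group
    rw [e]
    exact mul_mem (S.XV_le_B (S.cB_ts b hb)) (S.XA_le_B (S.sZ _ (S.tZ z hz)))
  · exact S.cT_ts

theorem cell_st : dc S.Bsub (s * t) ⊆
    ((XB : Set Γ) * (XZ : Set Γ)) * ({s * t} : Set Γ) * (S.Bsub : Set Γ) := by
  apply dc_subset_cell (T := T) ((XB : Set Γ) * (XZ : Set Γ))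
    {g | ∃ v ∈ XV, ∃ a ∈ XA, g = v * a} (s * t)
  · intro g hg
    obtain ⟨q, hq, a, ha, h, hh, rfl⟩ := S.decQ g hg
    obtain ⟨b, hb, z, hz, v, hv, rfl⟩ := (S.mem_Q_iff q).1 hq
    exact ⟨b * z, ⟨b, hb, z, hz, rfl⟩, v * a, ⟨v, hv, a, ha, rfl⟩, h, hh, by group⟩
  · rintro _ ⟨v, hv, a, ha, rfl⟩
    have e : (s * t)⁻¹ * (v * a) * (s * t)
        = (t⁻¹ * (s⁻¹ * v * s) * t) * ((s * t)⁻¹ * a * (s * t)) := by group
    rw [e]
    exact mul_mem (S.XB_le_B (S.tV _ (S.sV v hv))) (S.XZ_le_B (S.cA_st a ha))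
  · exact S.cT_st

theorem cell_tst : dc S.Bsub (t * (s * t)) ⊆
    ((XA : Set Γ) * (XV : Set Γ) * (XZ : Set Γ)) * ({t * (s * t)} : Set Γ) * (S.Bsub : Set Γ) := by
  apply dc_subset_cell (T := T) ((XA : Set Γ) * (XV : Set Γ) * (XZ : Set Γ)) (XB : Set Γ)
    (t * (s * t))
  · intro g hg
    obtain ⟨a, ha, q, hq, h, hh, rfl⟩ := S.decA g hg
    obtain ⟨b, hb, z, hz, v, hv, rfl⟩ := (S.mem_Q_iff q).1 hq
    refine ⟨a * v * z, ⟨a * v, ⟨a, ha, v, hv, rfl⟩, z, hz, rfl⟩, b, hb, h, hh, ?_⟩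
    have e1 := (S.cBV b hb v hv).eq
    have e2 := (S.cBZ b hb z hz).eq
    have e3 := (S.cZV z hz v hv).eq
    calc a * (b * z * v) * h = a * (b * z) * v * h := by group
      _ = a * (z * b) * v * h := by rw [e2]
      _ = a * z * (b * v) * h := by group
      _ = a * z * (v * b) * h := by rw [e1]
      _ = a * (z * v) * b * h := by group
      _ = a * (v * z) * b * h := by rw [e3]
      _ = a * v * z * b * h := by group
  · intro u hu
    exact S.XB_le_B (S.cB_tst u hu)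
  · exact S.cT_tst

theorem cell_sts : dc S.Bsub (s * (t * s)) ⊆
    ((XB : Set Γ) * (XZ : Set Γ) * (XV : Set Γ)) * ({s * (t * s)} : Set Γ) * (S.Bsub : Set Γ) := by
  apply dc_subset_cell (T := T) ((XB : Set Γ) * (XZ : Set Γ) * (XV : Set Γ)) (XA : Set Γ)
    (s * (t * s))
  · intro g hg
    obtain ⟨q, hq, a, ha, h, hh, rfl⟩ := S.decQ g hg
    obtain ⟨b, hb, z, hz, v, hv, rfl⟩ := (S.mem_Q_iff q).1 hq
    exact ⟨b * z * v, ⟨b * z, ⟨b, hb, z, hz, rfl⟩, v, hv, rfl⟩, a, ha, h, hh, rfl⟩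
  · intro u hu
    exact S.XA_le_B (S.cA_sts u hu)
  · exact S.cT_sts

theorem cell_w0 : dc S.Bsub (t * (s * (t * s))) ⊆
    ((XA : Set Γ) * (XB : Set Γ) * (XZ : Set Γ) * (XV : Set Γ)) *
      ({t * (s * (t * s))} : Set Γ) * (S.Bsub : Set Γ) := by
  apply dc_subset_cell (T := T) ((XA : Set Γ) * (XB : Set Γ) * (XZ : Set Γ) * (XV : Set Γ))
    ({1} : Set Γ) (t * (s * (t * s)))
  · intro g hg
    obtain ⟨a, ha, q, hq, h, hh, rfl⟩ := S.decA g hg
    obtain ⟨b, hb, z, hz, v, hv, rfl⟩ := (S.mem_Q_iff q).1 hq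
    refine ⟨a * b * z * v, ⟨a * b * z, ⟨a * b, ⟨a, ha, b, hb, rfl⟩, z, hz, rfl⟩, v, hv, rfl⟩,
      1, rfl, h, hh, by group⟩
  · intro u hu
    rw [Set.mem_singleton_iff.1 hu, mul_one, inv_mul_cancel]
    exact S.Bsub.one_mem
  · exact S.cT_w0

/-- `B` lies in the product of the five subgroups -/
theorem B_subset : (S.Bsub : Set Γ) ⊆
    (XA : Set Γ) * (XB : Set Γ) * (XZ : Set Γ) * (XV : Set Γ) * (T : Set Γ) := by
  intro g hg
  obtain ⟨a, ha, q, hq, h, hh, rfl⟩ := S.decA g hg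
  obtain ⟨b, hb, z, hz, v, hv, rfl⟩ := (S.mem_Q_iff q).1 hq
  exact ⟨a * b * z * v, ⟨a * b * z, ⟨a * b, ⟨a, ha, b, hb, rfl⟩, z, hz, rfl⟩, v, hv, rfl⟩,
    h, hh, by group⟩

/-- **the order bound** -/
theorem card_le (q : ℕ) (fA : (XA : Set Γ).Finite) (fB : (XB : Set Γ).Finite)
    (fZ : (XZ : Set Γ).Finite) (fV : (XV : Set Γ).Finite) (fT : (T : Set Γ).Finite)
    (cA : (XA : Set Γ).ncard ≤ q) (cB : (XB : Set Γ).ncard ≤ q) (cZ : (XZ : Set Γ).ncard ≤ q)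
    (cV : (XV : Set Γ).ncard ≤ q) (cT : (T : Set Γ).ncard ≤ (q - 1) ^ 2)
    (hgen : Subgroup.closure ((S.Bsub : Set Γ) ∪ {t, s}) = ⊤) :
    Finite Γ ∧ Nat.card Γ ≤
      (1 + q + q + q * q + q * q + q * q * q + q * q * q + q * q * q * q) *
        (q * q * q * q * (q - 1) ^ 2) := by
  classical
  -- the size of `B`
  have fP : ((XA : Set Γ) * (XB : Set Γ) * (XZ : Set Γ) * (XV : Set Γ) * (T : Set Γ)).Finite :=
    (((fA.mul fB).mul fZ).mul fV).mul fT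
  have fBs : (S.Bsub : Set Γ).Finite := fP.subset S.B_subset
  have hAB : ((XA : Set Γ) * (XB : Set Γ)).ncard ≤ q * q :=
    (ncard_mul_le' _ _).trans (Nat.mul_le_mul cA cB)
  have hABZ : ((XA : Set Γ) * (XB : Set Γ) * (XZ : Set Γ)).ncard ≤ q * q * q :=
    (ncard_mul_le' _ _).trans (Nat.mul_le_mul hAB cZ)
  have hABZV : ((XA : Set Γ) * (XB : Set Γ) * (XZ : Set Γ) * (XV : Set Γ)).ncard ≤ q * q * q * q :=
    (ncard_mul_le' _ _).trans (Nat.mul_le_mul hABZ cV)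
  have hBcard : (S.Bsub : Set Γ).ncard ≤ q * q * q * q * (q - 1) ^ 2 :=
    (Set.ncard_le_ncard S.B_subset fP).trans
      ((ncard_mul_le' _ _).trans (Nat.mul_le_mul hABZV cT))
  have hAV : ((XA : Set Γ) * (XV : Set Γ)).ncard ≤ q * q :=
    (ncard_mul_le' _ _).trans (Nat.mul_le_mul cA cV)
  have hBZ : ((XB : Set Γ) * (XZ : Set Γ)).ncard ≤ q * q :=
    (ncard_mul_le' _ _).trans (Nat.mul_le_mul cB cZ)
  have hAVZ : ((XA : Set Γ) * (XV : Set Γ) * (XZ : Set Γ)).ncard ≤ q * q * q :=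
    (ncard_mul_le' _ _).trans (Nat.mul_le_mul hAV cZ)
  have hBZV : ((XB : Set Γ) * (XZ : Set Γ) * (XV : Set Γ)).ncard ≤ q * q * q :=
    (ncard_mul_le' _ _).trans (Nat.mul_le_mul hBZ cV)
  -- the cells
  set C1 : Set Γ := (S.Bsub : Set Γ) with hC1
  set C2 : Set Γ := (XA : Set Γ) * ({t} : Set Γ) * (S.Bsub : Set Γ) with hC2
  set C3 : Set Γ := (XB : Set Γ) * ({s} : Set Γ) * (S.Bsub : Set Γ) with hC3
  set C4 : Set Γ := ((XA : Set Γ) * (XV : Set Γ)) * ({t * s} : Set Γ) * (S.Bsub : Set Γ) with hC4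
  set C5 : Set Γ := ((XB : Set Γ) * (XZ : Set Γ)) * ({s * t} : Set Γ) * (S.Bsub : Set Γ) with hC5
  set C6 : Set Γ := ((XA : Set Γ) * (XV : Set Γ) * (XZ : Set Γ)) * ({t * (s * t)} : Set Γ) *
    (S.Bsub : Set Γ) with hC6
  set C7 : Set Γ := ((XB : Set Γ) * (XZ : Set Γ) * (XV : Set Γ)) * ({s * (t * s)} : Set Γ) *
    (S.Bsub : Set Γ) with hC7
  set C8 : Set Γ := ((XA : Set Γ) * (XB : Set Γ) * (XZ : Set Γ) * (XV : Set Γ)) *
    ({t * (s * (t * s))} : Set Γ) * (S.Bsub : Set Γ) with hC8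
  have huniv : (Set.univ : Set Γ) ⊆ C1 ∪ C2 ∪ C3 ∪ C4 ∪ C5 ∪ C6 ∪ C7 ∪ C8 := by
    intro g _
    have hg := S.Y_eq_univ hgen g
    rw [mem_Y_iff] at hg
    simp only [Set.mem_union, or_assoc]
    rcases hg with h | h | h | h | h | h | h | h
    · left
      rw [dc_one] at h
      exact h
    · exact Or.inr (Or.inl (S.cell_t h))
    · exact Or.inr (Or.inr (Or.inl (S.cell_s h)))
    · exact Or.inr (Or.inr (Or.inr (Or.inl (S.cell_ts h))))
    · exact Or.inr (Or.inr (Or.inr (Or.inr (Or.inl (S.cell_st h)))))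
    · exact Or.inr (Or.inr (Or.inr (Or.inr (Or.inr (Or.inl (S.cell_tst h))))))
    · exact Or.inr (Or.inr (Or.inr (Or.inr (Or.inr (Or.inr (Or.inl (S.cell_sts h)))))))
    · exact Or.inr (Or.inr (Or.inr (Or.inr (Or.inr (Or.inr (Or.inr (S.cell_w0 h)))))))
  have f1 : C1.Finite := fBs
  have f2 : C2.Finite := (fA.mul (Set.finite_singleton _)).mul fBs
  have f3 : C3.Finite := (fB.mul (Set.finite_singleton _)).mul fBs
  have f4 : C4.Finite := ((fA.mul fV).mul (Set.finite_singleton _)).mul fBs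
  have f5 : C5.Finite := ((fB.mul fZ).mul (Set.finite_singleton _)).mul fBs
  have f6 : C6.Finite := (((fA.mul fV).mul fZ).mul (Set.finite_singleton _)).mul fBs
  have f7 : C7.Finite := (((fB.mul fZ).mul fV).mul (Set.finite_singleton _)).mul fBs
  have f8 : C8.Finite := ((((fA.mul fB).mul fZ).mul fV).mul (Set.finite_singleton _)).mul fBs
  have fall : (C1 ∪ C2 ∪ C3 ∪ C4 ∪ C5 ∪ C6 ∪ C7 ∪ C8).Finite :=
    ((((((f1.union f2).union f3).union f4).union f5).union f6).union f7).union f8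
  have hfin : Finite Γ := by
    rw [← Set.finite_univ_iff]
    exact fall.subset huniv
  refine ⟨hfin, ?_⟩
  set N := q * q * q * q * (q - 1) ^ 2 with hN
  have n1 : C1.ncard ≤ 1 * N := by rw [one_mul]; exact hBcard
  have n2 : C2.ncard ≤ q * N := (ncard_cell_le _ _ _).trans (Nat.mul_le_mul cA hBcard)
  have n3 : C3.ncard ≤ q * N := (ncard_cell_le _ _ _).trans (Nat.mul_le_mul cB hBcard)
  have n4 : C4.ncard ≤ q * q * N := (ncard_cell_le _ _ _).trans (Nat.mul_le_mul hAV hBcard)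
  have n5 : C5.ncard ≤ q * q * N := (ncard_cell_le _ _ _).trans (Nat.mul_le_mul hBZ hBcard)
  have n6 : C6.ncard ≤ q * q * q * N := (ncard_cell_le _ _ _).trans (Nat.mul_le_mul hAVZ hBcard)
  have n7 : C7.ncard ≤ q * q * q * N := (ncard_cell_le _ _ _).trans (Nat.mul_le_mul hBZV hBcard)
  have n8 : C8.ncard ≤ q * q * q * q * N :=
    (ncard_cell_le _ _ _).trans (Nat.mul_le_mul hABZV hBcard)
  have htot : (C1 ∪ C2 ∪ C3 ∪ C4 ∪ C5 ∪ C6 ∪ C7 ∪ C8).ncard ≤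
      C1.ncard + C2.ncard + C3.ncard + C4.ncard + C5.ncard + C6.ncard + C7.ncard + C8.ncard := by
    refine (Set.ncard_union_le _ _).trans (Nat.add_le_add_right ?_ _)
    refine (Set.ncard_union_le _ _).trans (Nat.add_le_add_right ?_ _)
    refine (Set.ncard_union_le _ _).trans (Nat.add_le_add_right ?_ _)
    refine (Set.ncard_union_le _ _).trans (Nat.add_le_add_right ?_ _)
    refine (Set.ncard_union_le _ _).trans (Nat.add_le_add_right ?_ _)
    refine (Set.ncard_union_le _ _).trans (Nat.add_le_add_right ?_ _)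
    exact Set.ncard_union_le _ _
  have hcard : Nat.card Γ = (Set.univ : Set Γ).ncard := (Set.ncard_univ Γ).symm
  rw [hcard]
  calc (Set.univ : Set Γ).ncard ≤ (C1 ∪ C2 ∪ C3 ∪ C4 ∪ C5 ∪ C6 ∪ C7 ∪ C8).ncard :=
        Set.ncard_le_ncard huniv fall
    _ ≤ _ := htot
    _ ≤ 1 * N + q * N + q * N + q * q * N + q * q * N + q * q * q * N + q * q * q * N +
          q * q * q * q * N := by omega
    _ = _ := by ring

end C2Sys

end Cfsg.Agent.Lib.Helper7.Pres4
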