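import Mathlib
import Cfsg.Agent.Lib.Helper7.Pres2F
import Cfsg.Agent.Lib.Helper7.Pres3A

/-!
# Short presentation of `Sp₄(F)`: one parameter families, sums of two squares, spreading (helper7)
-/

set_option autoImplicit false

namespace Cfsg.Agent.Lib.Helper7.Pres4

open Cfsg.Agent.Lib.Helper7.Pres2 Cfsg.Agent.Lib.Helper7.Pres3

/-! ### sums of two squares -/

theorem exists_sq_add_sq {F : Type*} [Field F] [Fintype F] (x : F) :
    ∃ a b : F, x = a ^ 2 + b ^ 2 := by
  classical
  by_cases hF : ringChar F = 2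
  · obtain ⟨a, ha⟩ := FiniteField.isSquare_of_char_two hF x
    exact ⟨a, 0, by rw [ha]; ring⟩
  · let f : Polynomial F := Polynomial.X ^ 2
    let g : Polynomial F := Polynomial.X ^ 2 - Polynomial.C x
    obtain ⟨a, b, hab⟩ : ∃ a b, f.eval a + g.eval b = 0 :=
      FiniteField.exists_root_sum_quadratic (Polynomial.degree_X_pow 2)
        (Polynomial.degree_X_pow_sub_C (by decide) _) (FiniteField.odd_card_of_char_ne_two hF)
    refine ⟨a, b, ?_⟩
    have : a ^ 2 + (b ^ 2 - x) = 0 := by
      simpa only [f, g, Polynomial.eval_C, Polynomial.eval_X, Polynomial.eval_pow,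
        Polynomial.eval_sub] using hab
    linear_combination -this

/-- an additive subgroup of a finite field containing `1` and stable under multiplication by the
squares of units is everything -/
theorem addSubgroup_eq_top_of_sq {F : Type*} [Field F] [Fintype F] (S : AddSubgroup F)
    (h1 : (1 : F) ∈ S) (hsq : ∀ ν : Fˣ, ∀ a ∈ S, (ν : F) ^ 2 * a ∈ S) (x : F) : x ∈ S := by
  have hsq' : ∀ a : F, a ^ 2 ∈ S := by
    intro a
    by_cases ha : a = 0
    · rw [ha]
      simp only [ne_eq, OfNat.ofNat_ne_zero, not_false_eq_true, zero_pow]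
      exact S.zero_mem
    · have := hsq (Units.mk0 a ha) 1 h1
      rwa [Units.val_mk0, mul_one] at this
  obtain ⟨a, b, rfl⟩ := exists_sq_add_sq x
  exact S.add_mem (hsq' a) (hsq' b)

/-! ### one parameter families -/

section fam

variable {F : Type*} [Field F] {Γ : Type*} [Group Γ]

/-- a one parameter family is additive -/
def IsAdd (X : F → Γ) : Prop := ∀ a b : F, X (a + b) = X a * X b

theorem IsAdd.zero {X : F → Γ} (h : IsAdd X) : X 0 = 1 := by
  have := h 0 0
  rw [add_zero] at this
  exact (mul_eq_left.1 this.symm)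

theorem IsAdd.neg {X : F → Γ} (h : IsAdd X) (a : F) : X (-a) = (X a)⁻¹ := by
  rw [eq_inv_iff_mul_eq_one, ← h, neg_add_cancel, h.zero]

theorem IsAdd.conj {X : F → Γ} (h : IsAdd X) (n : Γ) : IsAdd (fun a => n * X a * n⁻¹) := by
  intro a b
  show n * X (a + b) * n⁻¹ = n * X a * n⁻¹ * (n * X b * n⁻¹)
  rw [h a b]
  group

theorem IsAdd.conj' {X : F → Γ} (h : IsAdd X) (n : Γ) : IsAdd (fun a => n⁻¹ * X a * n) := by
  have := h.conj n⁻¹
  simpa only [inv_inv] using this

/-- the subgroup of an additive family -/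
def famSub (X : F → Γ) (h : IsAdd X) : Subgroup Γ where
  carrier := Set.range X
  one_mem' := ⟨0, h.zero⟩
  mul_mem' := by
    rintro _ _ ⟨a, rfl⟩ ⟨b, rfl⟩
    exact ⟨a + b, h a b⟩
  inv_mem' := by
    rintro _ ⟨a, rfl⟩
    exact ⟨-a, h.neg a⟩

theorem mem_famSub {X : F → Γ} (h : IsAdd X) (g : Γ) : g ∈ famSub X h ↔ ∃ a, X a = g := Iff.rfl

theorem fam_mem {X : F → Γ} (h : IsAdd X) (a : F) : X a ∈ famSub X h := ⟨a, rfl⟩

theorem famSub_finite [Finite F] {X : F → Γ} (h : IsAdd X) : (famSub X h : Set Γ).Finite :=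
  Set.finite_range X

theorem famSub_ncard_le [Fintype F] {X : F → Γ} (h : IsAdd X) :
    (famSub X h : Set Γ).ncard ≤ Fintype.card F := by
  have e : (famSub X h : Set Γ) = X '' Set.univ := by
    rw [Set.image_univ]
    rfl
  rw [e]
  refine (Set.ncard_image_le Set.finite_univ).trans ?_
  rw [Set.ncard_univ, Nat.card_eq_fintype_card]

/-- an element acting on a family normalises its subgroup -/
theorem acts_conj_mem {d : Γ} {X : F → Γ} {χ : F} (hd : Acts d X χ) (h : IsAdd X) :
    ∀ x ∈ famSub X h, d * x * d⁻¹ ∈ famSub X h := by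
  rintro _ ⟨a, rfl⟩
  exact ⟨χ * a, (hd a).symm⟩

/-- an element acting trivially commutes -/
theorem acts_commute_one {d : Γ} {X : F → Γ} (hd : Acts d X 1) (a : F) : Commute d (X a) := by
  have := hd a
  rw [one_mul] at this
  show d * X a = X a * d
  calc d * X a = (d * X a * d⁻¹) * d := by group
    _ = X a * d := by rw [this]

/-- the action on a conjugated family -/
theorem acts_of_conj {d d' n : Γ} {X : F → Γ} {χ : F} (hd : Acts d' X χ)
    (hn : n * d * n⁻¹ = d') : Acts d (fun a => n⁻¹ * X a * n) χ := by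
  intro a
  show d * (n⁻¹ * X a * n) * d⁻¹ = n⁻¹ * X (χ * a) * n
  rw [← hd a, ← hn]
  group

end fam

/-! ### spreading a commutation relation -/

section spread

variable {F : Type*} [Field F] [Fintype F] {Γ : Type*} [Group Γ]

/-- if `X 1` and `Y 1` commute and there are enough torus elements, the two families commute -/
theorem spread_comm (X Y : F → Γ) (hX : IsAdd X) (hY : IsAdd Y)
    (h1 : ∀ ν : Fˣ, ∃ d : Γ, Acts d X ((ν : F) ^ 2) ∧ Acts d Y 1)
    (h2 : ∀ ν : Fˣ, ∃ d : Γ, ∃ α : F, α ≠ 0 ∧ Acts d X α ∧ Acts d Y ((ν : F) ^ 2))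
    (h11 : Commute (X 1) (Y 1)) : ∀ a b : F, Commute (X a) (Y b) := by
  -- first stage
  let S₁ : AddSubgroup F :=
    { carrier := {a | Commute (X a) (Y 1)}
      zero_mem' := by
        show Commute (X 0) (Y 1)
        rw [hX.zero]
        exact Commute.one_left _
      add_mem' := by
        intro a b ha hb
        show Commute (X (a + b)) (Y 1)
        rw [hX a b]
        exact Commute.mul_left ha hb
      neg_mem' := by
        intro a ha
        show Commute (X (-a)) (Y 1)
        rw [hX.neg]
        exact Commute.inv_left ha }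
  have hS₁ : ∀ a, a ∈ S₁ := by
    apply addSubgroup_eq_top_of_sq S₁ h11
    intro ν a ha
    obtain ⟨d, hdX, hdY⟩ := h1 ν
    have := hdX.commute_of hdY a 1 ha
    rwa [one_mul] at this
  -- second stage
  let S₂ : AddSubgroup F :=
    { carrier := {b | ∀ a, Commute (X a) (Y b)}
      zero_mem' := by
        intro a
        rw [hY.zero]
        exact Commute.one_right _
      add_mem' := by
        intro b b' hb hb' a
        rw [hY b b']
        exact Commute.mul_right (hb a) (hb' a)
      neg_mem' := by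
        intro b hb a
        rw [hY.neg]
        exact Commute.inv_right (hb a) }
  have hS₂ : ∀ b, b ∈ S₂ := by
    apply addSubgroup_eq_top_of_sq S₂ (fun a => hS₁ a)
    intro ν b hb a
    obtain ⟨d, α, hα, hdX, hdY⟩ := h2 ν
    have := hdX.commute_of hdY (α⁻¹ * a) b (hb _)
    rwa [← mul_assoc, mul_inv_cancel₀ hα, one_mul] at this
  intro a b
  exact hS₂ b a

end spread

end Cfsg.Agent.Lib.Helper7.Pres4
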