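import Mathlib
import Cfsg.Agent.Lib.Helper7.Pres4F
import Cfsg.Agent.Lib.Helper7.Pres4G

/-!
# Short presentation of `Sp₄(F)`: two homomorphisms from `SL₂(F)` (helper7)

Root elements, torus elements and the Weyl element attached to a homomorphism from `SL₂(F)`, and
the relations between two such homomorphisms which make their images the two fundamental
`SL₂`-subgroups of a group of type `C₂`.
-/

set_option autoImplicit false

namespace Cfsg.Agent.Lib.Helper7.Pres4

open Cfsg.Agent.Lib.Helper7.Pres2 Cfsg.Agent.Lib.Helper7.Pres3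

section sl2

variable {F : Type*} [Field F]

theorem slT_sq : (slT : Matrix.SpecialLinearGroup (Fin 2) F) * slT = slH (-1) := by
  ext i j
  simp only [Matrix.SpecialLinearGroup.coe_mul]
  simp only [slT, slH, Matrix.mul_fin_two]
  fin_cases i <;> fin_cases j <;> simp

theorem slY_eq (c : Fˣ) :
    slY (-(c : F)) = slX (-((c⁻¹ : Fˣ) : F)) * slH c⁻¹ * slT * slX (-((c⁻¹ : Fˣ) : F)) := by
  ext i j
  simp only [Matrix.SpecialLinearGroup.coe_mul]
  simp only [slX, slY, slT, slH, Matrix.mul_fin_two]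
  fin_cases i <;> fin_cases j <;> simp

end sl2

section one

variable {F : Type*} [Field F] {Γ : Type*} [Group Γ]
  (φ : Matrix.SpecialLinearGroup (Fin 2) F →* Γ)

/-- root elements -/
def rx (c : F) : Γ := φ (slX c)
/-- torus elements -/
def rh (l : Fˣ) : Γ := φ (slH l)
/-- the Weyl element -/
def rn : Γ := φ slT

theorem rx_isAdd : IsAdd (rx φ) := by
  intro a b
  unfold rx
  rw [slX_add, map_mul]

theorem rh_mul (l m : Fˣ) : rh φ (l * m) = rh φ l * rh φ m := by
  unfold rh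
  rw [slH_mul, map_mul]

theorem rh_one : rh φ 1 = 1 := by
  unfold rh
  rw [slH_one, map_one]

theorem rh_inv (l : Fˣ) : (rh φ l)⁻¹ = rh φ l⁻¹ := by
  unfold rh
  rw [← map_inv, slH_inv]

theorem rh_comm (l m : Fˣ) : Commute (rh φ l) (rh φ m) := by
  show rh φ l * rh φ m = rh φ m * rh φ l
  rw [← rh_mul, ← rh_mul, mul_comm]

theorem rh_acts (l : Fˣ) : Acts (rh φ l) (rx φ) ((l : F) ^ 2) := by
  intro a
  unfold rh rx
  rw [← map_inv, ← map_mul, ← map_mul, slH_conj_slX]

theorem rn_conj_rh (l : Fˣ) : rn φ * rh φ l * (rn φ)⁻¹ = rh φ l⁻¹ := by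
  unfold rn rh
  rw [← map_inv, ← map_mul, ← map_mul, slT_conj_slH, slH_inv]

theorem rn_sq : rn φ * rn φ = rh φ (-1) := by
  unfold rn rh
  rw [← map_mul, slT_sq]

theorem rn_rank1 (c : Fˣ) : rn φ * rx φ (c : F) * (rn φ)⁻¹ =
    rx φ (-((c⁻¹ : Fˣ) : F)) * rh φ c⁻¹ * rn φ * rx φ (-((c⁻¹ : Fˣ) : F)) := by
  unfold rn rh rx
  rw [← map_inv, ← map_mul, ← map_mul, slT_conj_slX, slY_eq]
  simp only [map_mul]

end one

end Cfsg.Agent.Lib.Helper7.Pres4
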