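import Mathlib
import Cfsg.Agent.Lib.Helper7.Pres4H

/-!
# Short presentation of `Sp₄(F)`: the relations between the two `SL₂`'s and the torus action (helper7)
-/

set_option autoImplicit false
set_option linter.unusedSectionVars false

namespace Cfsg.Agent.Lib.Helper7.Pres4

open Cfsg.Agent.Lib.Helper7.Pres2 Cfsg.Agent.Lib.Helper7.Pres3

variable {F : Type*} [Field F] {Γ : Type*} [Group Γ]
  (φa φb : Matrix.SpecialLinearGroup (Fin 2) F →* Γ)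

/-- root elements of the root `a + b` -/
def xz (c : F) : Γ := (rn φb)⁻¹ * rx φa c * rn φb
/-- root elements of the root `2a + b` -/
def xv (c : F) : Γ := (rn φa)⁻¹ * rx φb c * rn φa

theorem xz_isAdd : IsAdd (xz φa φb) := (rx_isAdd φa).conj' (rn φb)
theorem xv_isAdd : IsAdd (xv φa φb) := (rx_isAdd φb).conj' (rn φa)

/-- the four root subgroups -/
def XA : Subgroup Γ := famSub (rx φa) (rx_isAdd φa)
def XB : Subgroup Γ := famSub (rx φb) (rx_isAdd φb)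
def XZ : Subgroup Γ := famSub (xz φa φb) (xz_isAdd φa φb)
def XV : Subgroup Γ := famSub (xv φa φb) (xv_isAdd φa φb)

/-- the relations -/
structure C2Rel : Prop where
  H1 : ∀ l m : Fˣ, Commute (rh φa l) (rh φb m)
  H2 : ∀ m : Fˣ, Acts (rh φb m) (rx φa) ((m : F)⁻¹)
  H3 : ∀ l : Fˣ, Acts (rh φa l) (rx φb) (((l : F) ^ 2)⁻¹)
  H4 : ∀ m : Fˣ, rn φa * rh φb m * (rn φa)⁻¹ = rh φa m * rh φb m
  H5 : ∀ l : Fˣ, rn φb * rh φa l * (rn φb)⁻¹ = rh φa l * rh φb (l * l)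
  H6 : rn φa * rn φb * rn φa * rn φb = rn φb * rn φa * rn φb * rn φa
  H7 : (rn φb * rn φa * (rn φb)⁻¹)⁻¹ * rx φa 1 * (rn φb * rn φa * (rn φb)⁻¹) ∈ XA φa
  H8 : (rn φa * rn φb * (rn φa)⁻¹)⁻¹ * rx φb 1 * (rn φa * rn φb * (rn φa)⁻¹) ∈ XB φb
  P1 : Commute (rx φa 1) (xv φa φb 1)
  P2 : Commute (rx φb 1) (xz φa φb 1)
  P3 : Commute (xz φa φb 1) (xv φa φb 1)
  P4 : Commute (rx φb 1) (xv φa φb 1)
  P5 : rx φa 1 * rx φb 1 * (rx φa 1)⁻¹ ∈ XB φb ⊔ XZ φa φb ⊔ XV φa φb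
  P6 : rx φa 1 * xz φa φb 1 * (rx φa 1)⁻¹ ∈ XB φb ⊔ XZ φa φb ⊔ XV φa φb

/-- the torus -/
def C2Rel.torus {φa φb : Matrix.SpecialLinearGroup (Fin 2) F →* Γ} (R : C2Rel φa φb) : Subgroup Γ where
  carrier := {g | ∃ l m : Fˣ, g = rh φa l * rh φb m}
  one_mem' := ⟨1, 1, by rw [rh_one, rh_one, one_mul]⟩
  mul_mem' := by
    rintro _ _ ⟨l, m, rfl⟩ ⟨l', m', rfl⟩
    refine ⟨l * l', m * m', ?_⟩
    rw [rh_mul, rh_mul]
    have := (R.H1 l' m).eq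
    calc rh φa l * rh φb m * (rh φa l' * rh φb m')
        = rh φa l * (rh φb m * rh φa l') * rh φb m' := by group
      _ = rh φa l * (rh φa l' * rh φb m) * rh φb m' := by rw [this]
      _ = _ := by group
  inv_mem' := by
    rintro _ ⟨l, m, rfl⟩
    refine ⟨l⁻¹, m⁻¹, ?_⟩
    rw [mul_inv_rev, rh_inv, rh_inv]
    exact (R.H1 l⁻¹ m⁻¹).eq.symm

namespace C2Rel

variable {φa φb} (R : C2Rel φa φb)

include R

theorem mem_torus (g : Γ) : g ∈ R.torus ↔ ∃ l m : Fˣ, g = rh φa l * rh φb m := Iff.rfl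

theorem ha_mem (l : Fˣ) : rh φa l ∈ R.torus := ⟨l, 1, by rw [rh_one, mul_one]⟩
theorem hb_mem (m : Fˣ) : rh φb m ∈ R.torus := ⟨1, m, by rw [rh_one, one_mul]⟩

/-! ### the action of the torus on the four families -/

theorem ha_xa (l : Fˣ) : Acts (rh φa l) (rx φa) ((l : F) ^ 2) := rh_acts φa l
theorem hb_xa (m : Fˣ) : Acts (rh φb m) (rx φa) ((m : F)⁻¹) := R.H2 m
theorem ha_xb (l : Fˣ) : Acts (rh φa l) (rx φb) (((l : F) ^ 2)⁻¹) := R.H3 l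
theorem hb_xb (m : Fˣ) : Acts (rh φb m) (rx φb) ((m : F) ^ 2) := rh_acts φb m

theorem ha_xz (l : Fˣ) : Acts (rh φa l) (xz φa φb) 1 := by
  have h1 : Acts (rh φa l * rh φb (l * l)) (rx φa) ((l : F) ^ 2 * (((l * l : Fˣ) : F))⁻¹) :=
    (R.ha_xa l).mul (R.hb_xa (l * l))
  have h2 : (l : F) ^ 2 * (((l * l : Fˣ) : F))⁻¹ = 1 := by
    rw [Units.val_mul, ← sq]
    exact mul_inv_cancel₀ (pow_ne_zero 2 l.ne_zero)
  exact acts_of_conj (h1.congr_scalar h2) (R.H5 l)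

theorem hb_xz (m : Fˣ) : Acts (rh φb m) (xz φa φb) (m : F) := by
  have h1 : Acts (rh φb m⁻¹) (rx φa) ((((m⁻¹ : Fˣ)) : F)⁻¹) := R.hb_xa m⁻¹
  have h2 : (((m⁻¹ : Fˣ)) : F)⁻¹ = (m : F) := by
    rw [Units.val_inv_eq_inv_val, inv_inv]
  exact acts_of_conj (h1.congr_scalar h2) (rn_conj_rh φb m)

theorem ha_xv (l : Fˣ) : Acts (rh φa l) (xv φa φb) ((l : F) ^ 2) := by
  have h1 : Acts (rh φa l⁻¹) (rx φb) (((((l⁻¹ : Fˣ)) : F) ^ 2)⁻¹) := R.ha_xb l⁻¹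
  have h2 : ((((l⁻¹ : Fˣ)) : F) ^ 2)⁻¹ = (l : F) ^ 2 := by
    rw [Units.val_inv_eq_inv_val, inv_pow, inv_inv]
  exact acts_of_conj (h1.congr_scalar h2) (rn_conj_rh φa l)

theorem hb_xv (m : Fˣ) : Acts (rh φb m) (xv φa φb) 1 := by
  have h1 : Acts (rh φa m * rh φb m) (rx φb) ((((m : F) ^ 2)⁻¹) * (m : F) ^ 2) :=
    (R.ha_xb m).mul (R.hb_xb m)
  have h2 : (((m : F) ^ 2)⁻¹) * (m : F) ^ 2 = 1 := inv_mul_cancel₀ (pow_ne_zero 2 m.ne_zero)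
  exact acts_of_conj (h1.congr_scalar h2) (R.H4 m)

/-- every element of the torus acts on each family through a non zero scalar -/
theorem torus_acts (h : Γ) (hh : h ∈ R.torus) :
    (∃ χ : F, χ ≠ 0 ∧ Acts h (rx φa) χ) ∧ (∃ χ : F, χ ≠ 0 ∧ Acts h (rx φb) χ) ∧
    (∃ χ : F, χ ≠ 0 ∧ Acts h (xz φa φb) χ) ∧ (∃ χ : F, χ ≠ 0 ∧ Acts h (xv φa φb) χ) := by
  obtain ⟨l, m, rfl⟩ := hh
  have hl : (l : F) ≠ 0 := l.ne_zero
  have hm : (m : F) ≠ 0 := m.ne_zero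
  refine ⟨⟨_, ?_, (R.ha_xa l).mul (R.hb_xa m)⟩, ⟨_, ?_, (R.ha_xb l).mul (R.hb_xb m)⟩,
    ⟨_, ?_, (R.ha_xz l).mul (R.hb_xz m)⟩, ⟨_, ?_, (R.ha_xv l).mul (R.hb_xv m)⟩⟩
  · exact mul_ne_zero (pow_ne_zero 2 hl) (inv_ne_zero hm)
  · exact mul_ne_zero (inv_ne_zero (pow_ne_zero 2 hl)) (pow_ne_zero 2 hm)
  · rw [one_mul]; exact hm
  · rw [mul_one]; exact pow_ne_zero 2 hl

theorem TA : ∀ h ∈ R.torus, ∀ x ∈ XA φa, h * x * h⁻¹ ∈ XA φa := by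
  intro h hh
  obtain ⟨⟨χ, -, hχ⟩, -⟩ := R.torus_acts h hh
  exact acts_conj_mem hχ (rx_isAdd φa)

theorem TB : ∀ h ∈ R.torus, ∀ x ∈ XB φb, h * x * h⁻¹ ∈ XB φb := by
  intro h hh
  obtain ⟨-, ⟨χ, -, hχ⟩, -⟩ := R.torus_acts h hh
  exact acts_conj_mem hχ (rx_isAdd φb)

theorem TZ : ∀ h ∈ R.torus, ∀ x ∈ XZ φa φb, h * x * h⁻¹ ∈ XZ φa φb := by
  intro h hh
  obtain ⟨-, -, ⟨χ, -, hχ⟩, -⟩ := R.torus_acts h hh
  exact acts_conj_mem hχ (xz_isAdd φa φb)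

theorem TV : ∀ h ∈ R.torus, ∀ x ∈ XV φa φb, h * x * h⁻¹ ∈ XV φa φb := by
  intro h hh
  obtain ⟨-, -, -, ⟨χ, -, hχ⟩⟩ := R.torus_acts h hh
  exact acts_conj_mem hχ (xv_isAdd φa φb)

/-! ### the Weyl elements normalise the torus -/

theorem tT : ∀ h ∈ R.torus, rn φa * h * (rn φa)⁻¹ ∈ R.torus := by
  rintro _ ⟨l, m, rfl⟩
  refine ⟨l⁻¹ * m, m, ?_⟩
  have e : rn φa * (rh φa l * rh φb m) * (rn φa)⁻¹
      = (rn φa * rh φa l * (rn φa)⁻¹) * (rn φa * rh φb m * (rn φa)⁻¹) := by group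
  rw [e, rn_conj_rh, R.H4, rh_mul, mul_assoc]

theorem sT : ∀ h ∈ R.torus, rn φb * h * (rn φb)⁻¹ ∈ R.torus := by
  rintro _ ⟨l, m, rfl⟩
  refine ⟨l, l * l * m⁻¹, ?_⟩
  have e : rn φb * (rh φa l * rh φb m) * (rn φb)⁻¹
      = (rn φb * rh φa l * (rn φb)⁻¹) * (rn φb * rh φb m * (rn φb)⁻¹) := by group
  rw [e, rn_conj_rh, R.H5, rh_mul (φ := φb) (l * l), mul_assoc]

theorem tt : rn φa * rn φa ∈ R.torus := by
  rw [rn_sq]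
  exact R.ha_mem _

theorem ss : rn φb * rn φb ∈ R.torus := by
  rw [rn_sq]
  exact R.hb_mem _

theorem tT' : ∀ h ∈ R.torus, (rn φa)⁻¹ * h * rn φa ∈ R.torus := by
  intro h hh
  have h1 := R.tT h hh
  have e : (rn φa)⁻¹ * h * rn φa
      = (rn φa * rn φa)⁻¹ * (rn φa * h * (rn φa)⁻¹) * (rn φa * rn φa) := by group
  rw [e]
  exact mul_mem (mul_mem (inv_mem R.tt) h1) R.tt

theorem sT' : ∀ h ∈ R.torus, (rn φb)⁻¹ * h * rn φb ∈ R.torus := by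
  intro h hh
  have h1 := R.sT h hh
  have e : (rn φb)⁻¹ * h * rn φb
      = (rn φb * rn φb)⁻¹ * (rn φb * h * (rn φb)⁻¹) * (rn φb * rn φb) := by group
  rw [e]
  exact mul_mem (mul_mem (inv_mem R.ss) h1) R.ss

end C2Rel

end Cfsg.Agent.Lib.Helper7.Pres4
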