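import Mathlib
import Cfsg.Agent.Lib.Helper7.Pres4I

/-!
# Short presentation of `Sp₄(F)`: from the relations to the system of type `C₂` (helper7)
-/

set_option autoImplicit false
set_option linter.unusedSectionVars false

namespace Cfsg.Agent.Lib.Helper7.Pres4

open Cfsg.Agent.Lib.Helper7.Pres2 Cfsg.Agent.Lib.Helper7.Pres3

variable {F : Type*} [Field F] [Fintype F] {Γ : Type*} [Group Γ]
  {φa φb : Matrix.SpecialLinearGroup (Fin 2) F →* Γ}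

namespace C2Rel

variable (R : C2Rel φa φb)

include R

/-! ### the commutation relations -/

theorem comm_av : ∀ a b : F, Commute (rx φa a) (xv φa φb b) := by
  apply spread_comm _ _ (rx_isAdd φa) (xv_isAdd φa φb) _ _ R.P1
  · intro ν
    refine ⟨rh φb (ν ^ 2)⁻¹, ?_, R.hb_xv _⟩
    have := R.hb_xa (ν ^ 2)⁻¹
    refine this.congr_scalar ?_
    rw [Units.val_inv_eq_inv_val, inv_inv, Units.val_pow_eq_pow_val]
  · intro ν
    exact ⟨rh φa ν, (ν : F) ^ 2, pow_ne_zero 2 ν.ne_zero, R.ha_xa ν, R.ha_xv ν⟩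

theorem comm_bz : ∀ a b : F, Commute (rx φb a) (xz φa φb b) := by
  apply spread_comm _ _ (rx_isAdd φb) (xz_isAdd φa φb) _ _ R.P2
  · intro ν
    refine ⟨rh φa ν⁻¹, ?_, R.ha_xz _⟩
    refine (R.ha_xb ν⁻¹).congr_scalar ?_
    rw [Units.val_inv_eq_inv_val, inv_pow, inv_inv]
  · intro ν
    refine ⟨rh φb (ν ^ 2), (((ν ^ 2 : Fˣ) : F)) ^ 2, pow_ne_zero 2 (Units.ne_zero _),
      R.hb_xb _, ?_⟩
    refine (R.hb_xz (ν ^ 2)).congr_scalar ?_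
    rw [Units.val_pow_eq_pow_val]

theorem comm_zv : ∀ a b : F, Commute (xz φa φb a) (xv φa φb b) := by
  apply spread_comm _ _ (xz_isAdd φa φb) (xv_isAdd φa φb) _ _ R.P3
  · intro ν
    refine ⟨rh φb (ν ^ 2), ?_, R.hb_xv _⟩
    refine (R.hb_xz (ν ^ 2)).congr_scalar ?_
    rw [Units.val_pow_eq_pow_val]
  · intro ν
    exact ⟨rh φa ν, 1, one_ne_zero, R.ha_xz ν, R.ha_xv ν⟩

theorem comm_bv : ∀ a b : F, Commute (rx φb a) (xv φa φb b) := by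
  apply spread_comm _ _ (rx_isAdd φb) (xv_isAdd φa φb) _ _ R.P4
  · intro ν
    exact ⟨rh φb ν, R.hb_xb ν, R.hb_xv ν⟩
  · intro ν
    exact ⟨rh φa ν, _, inv_ne_zero (pow_ne_zero 2 ν.ne_zero), R.ha_xb ν, R.ha_xv ν⟩

theorem cBZ : ∀ x ∈ XB φb, ∀ y ∈ XZ φa φb, Commute x y := by
  rintro _ ⟨a, rfl⟩ _ ⟨b, rfl⟩
  exact R.comm_bz a b

theorem cBV : ∀ x ∈ XB φb, ∀ y ∈ XV φa φb, Commute x y := by
  rintro _ ⟨a, rfl⟩ _ ⟨b, rfl⟩
  exact R.comm_bv a b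

theorem cZV : ∀ x ∈ XZ φa φb, ∀ y ∈ XV φa φb, Commute x y := by
  rintro _ ⟨a, rfl⟩ _ ⟨b, rfl⟩
  exact R.comm_zv a b

theorem cAV : ∀ x ∈ XA φa, ∀ y ∈ XV φa φb, Commute x y := by
  rintro _ ⟨a, rfl⟩ _ ⟨b, rfl⟩
  exact R.comm_av a b

/-! ### `XA` normalises `Q` -/

omit R in
theorem XB_le_Q' : XB φb ≤ XB φb ⊔ XZ φa φb ⊔ XV φa φb := le_sup_of_le_left le_sup_left
omit R in
theorem XZ_le_Q' : XZ φa φb ≤ XB φb ⊔ XZ φa φb ⊔ XV φa φb := le_sup_of_le_left le_sup_right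
omit R in
theorem XV_le_Q' : XV φa φb ≤ XB φb ⊔ XZ φa φb ⊔ XV φa φb := le_sup_right

/-- the torus normalises `Q` -/
theorem torus_conj_Q (h : Γ) (hh : h ∈ R.torus) :
    ∀ g ∈ XB φb ⊔ XZ φa φb ⊔ XV φa φb, h * g * h⁻¹ ∈ XB φb ⊔ XZ φa φb ⊔ XV φa φb :=
  conj_mem_of_sup h
    (fun x hx => XB_le_Q' (R.TB h hh x hx))
    (fun x hx => XZ_le_Q' (R.TZ h hh x hx))
    (fun x hx => XV_le_Q' (R.TV h hh x hx))

/-- the torus element `h_a(ν) h_b(ν²)`, which centralises `X_a` -/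
theorem special_torus (ν : Fˣ) :
    rh φa ν * rh φb (ν * ν) ∈ R.torus ∧ Acts (rh φa ν * rh φb (ν * ν)) (rx φa) 1 ∧
    Acts (rh φa ν * rh φb (ν * ν)) (rx φb) ((ν : F) ^ 2) ∧
    Acts (rh φa ν * rh φb (ν * ν)) (xz φa φb) ((ν : F) ^ 2) := by
  have hν : (ν : F) ≠ 0 := ν.ne_zero
  refine ⟨⟨ν, ν * ν, rfl⟩, ?_, ?_, ?_⟩
  · refine ((R.ha_xa ν).mul (R.hb_xa (ν * ν))).congr_scalar ?_
    rw [Units.val_mul, ← sq]
    exact mul_inv_cancel₀ (pow_ne_zero 2 hν)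
  · refine ((R.ha_xb ν).mul (R.hb_xb (ν * ν))).congr_scalar ?_
    rw [Units.val_mul]
    field_simp
  · refine ((R.ha_xz ν).mul (R.hb_xz (ν * ν))).congr_scalar ?_
    rw [Units.val_mul]
    ring

/-- spreading a membership `X_a(1) Y(1) X_a(1)⁻¹ ∈ Q` over the family `Y` -/
theorem spread_mem_Q (Y : F → Γ) (hY : IsAdd Y)
    (hact : ∀ ν : Fˣ, Acts (rh φa ν * rh φb (ν * ν)) Y ((ν : F) ^ 2))
    (h1 : rx φa 1 * Y 1 * (rx φa 1)⁻¹ ∈ XB φb ⊔ XZ φa φb ⊔ XV φa φb) (b : F) :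
    rx φa 1 * Y b * (rx φa 1)⁻¹ ∈ XB φb ⊔ XZ φa φb ⊔ XV φa φb := by
  let E : AddSubgroup F :=
    { carrier := {b | rx φa 1 * Y b * (rx φa 1)⁻¹ ∈ XB φb ⊔ XZ φa φb ⊔ XV φa φb}
      zero_mem' := by
        show rx φa 1 * Y 0 * (rx φa 1)⁻¹ ∈ XB φb ⊔ XZ φa φb ⊔ XV φa φb
        rw [hY.zero, mul_one, mul_inv_cancel]
        exact one_mem _
      add_mem' := by
        intro b b' hb hb'
        show rx φa 1 * Y (b + b') * (rx φa 1)⁻¹ ∈ XB φb ⊔ XZ φa φb ⊔ XV φa φb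
        have e : rx φa 1 * Y (b + b') * (rx φa 1)⁻¹
            = (rx φa 1 * Y b * (rx φa 1)⁻¹) * (rx φa 1 * Y b' * (rx φa 1)⁻¹) := by
          rw [hY b b']
          group
        rw [e]
        exact mul_mem hb hb'
      neg_mem' := by
        intro b hb
        show rx φa 1 * Y (-b) * (rx φa 1)⁻¹ ∈ XB φb ⊔ XZ φa φb ⊔ XV φa φb
        have e : rx φa 1 * Y (-b) * (rx φa 1)⁻¹ = (rx φa 1 * Y b * (rx φa 1)⁻¹)⁻¹ := by
          rw [hY.neg]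
          group
        rw [e]
        exact inv_mem hb }
  have hE : ∀ b, b ∈ E := by
    apply addSubgroup_eq_top_of_sq E h1
    intro ν b hb
    obtain ⟨hmem, hA, -, -⟩ := R.special_torus ν
    have hc := acts_commute_one hA 1
    have h2 := R.torus_conj_Q _ hmem _ hb
    show rx φa 1 * Y ((ν : F) ^ 2 * b) * (rx φa 1)⁻¹ ∈ XB φb ⊔ XZ φa φb ⊔ XV φa φb
    rw [← hact ν b]
    set d := rh φa ν * rh φb (ν * ν) with hd
    have e : rx φa 1 * (d * Y b * d⁻¹) * (rx φa 1)⁻¹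
        = d * (rx φa 1 * Y b * (rx φa 1)⁻¹) * d⁻¹ := by
      have hc' : d * rx φa 1 = rx φa 1 * d := hc.eq
      have hc'' : d⁻¹ * (rx φa 1)⁻¹ = (rx φa 1)⁻¹ * d⁻¹ := by
        rw [← mul_inv_rev, ← mul_inv_rev, hc']
      calc rx φa 1 * (d * Y b * d⁻¹) * (rx φa 1)⁻¹
          = (rx φa 1 * d) * Y b * (d⁻¹ * (rx φa 1)⁻¹) := by group
        _ = (d * rx φa 1) * Y b * ((rx φa 1)⁻¹ * d⁻¹) := by rw [hc', hc'']
        _ = _ := by group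
    rw [e]
    exact h2
  exact hE b

/-- `X_a(1)` conjugates `Q` into itself -/
theorem xa_one_conj_Q :
    ∀ g ∈ XB φb ⊔ XZ φa φb ⊔ XV φa φb, rx φa 1 * g * (rx φa 1)⁻¹ ∈ XB φb ⊔ XZ φa φb ⊔ XV φa φb := by
  apply conj_mem_of_sup
  · rintro _ ⟨b, rfl⟩
    exact R.spread_mem_Q (rx φb) (rx_isAdd φb) (fun ν => (R.special_torus ν).2.2.1) R.P5 b
  · rintro _ ⟨b, rfl⟩
    exact R.spread_mem_Q (xz φa φb) (xz_isAdd φa φb) (fun ν => (R.special_torus ν).2.2.2) R.P6 b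
  · rintro _ ⟨b, rfl⟩
    rw [(R.comm_av 1 b).eq, mul_inv_cancel_right]
    exact XV_le_Q' (fam_mem (xv_isAdd φa φb) b)

/-- every `X_a(c)` conjugates `Q` into itself -/
theorem xa_conj_Q (c : F) :
    ∀ g ∈ XB φb ⊔ XZ φa φb ⊔ XV φa φb, rx φa c * g * (rx φa c)⁻¹ ∈ XB φb ⊔ XZ φa φb ⊔ XV φa φb := by
  intro g hg
  by_cases hc : c = 0
  · rw [hc, (rx_isAdd φa).zero, one_mul, inv_one, mul_one]
    exact hg
  · set d := rh φb (Units.mk0 c hc)⁻¹ with hd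
    have hdT : d ∈ R.torus := R.hb_mem _
    have hact : d * rx φa 1 * d⁻¹ = rx φa c := by
      have := R.hb_xa (Units.mk0 c hc)⁻¹ 1
      rw [mul_one, Units.val_inv_eq_inv_val, inv_inv, Units.val_mk0] at this
      exact this
    have h1 : d⁻¹ * g * d⁻¹⁻¹ ∈ XB φb ⊔ XZ φa φb ⊔ XV φa φb :=
      R.torus_conj_Q _ (inv_mem hdT) g hg
    have h2 := R.xa_one_conj_Q _ h1
    have h3 := R.torus_conj_Q _ hdT _ h2
    have e : rx φa c * g * (rx φa c)⁻¹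
        = d * (rx φa 1 * (d⁻¹ * g * d⁻¹⁻¹) * (rx φa 1)⁻¹) * d⁻¹ := by
      rw [← hact]
      group
    rw [e]
    exact h3

theorem nAB : ∀ x ∈ XA φa, ∀ y ∈ XB φb, x * y * x⁻¹ ∈ XB φb ⊔ XZ φa φb ⊔ XV φa φb := by
  rintro _ ⟨c, rfl⟩ y hy
  exact R.xa_conj_Q c y (XB_le_Q' hy)

theorem nAZ : ∀ x ∈ XA φa, ∀ y ∈ XZ φa φb, x * y * x⁻¹ ∈ XB φb ⊔ XZ φa φb ⊔ XV φa φb := by
  rintro _ ⟨c, rfl⟩ y hy
  exact R.xa_conj_Q c y (XZ_le_Q' hy)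

end C2Rel

end Cfsg.Agent.Lib.Helper7.Pres4
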