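import Mathlib
import Cfsg.Agent.Lib.Helper7.Pres4J

/-!
# Short presentation of `Sp₄(F)`: the Weyl group relations, rank one, and the order bound (helper7)
-/

set_option autoImplicit false
set_option linter.unusedSectionVars false

namespace Cfsg.Agent.Lib.Helper7.Pres4

open Cfsg.Agent.Lib.Helper7.Pres2 Cfsg.Agent.Lib.Helper7.Pres3

variable {F : Type*} [Field F] [Fintype F] {Γ : Type*} [Group Γ]
  {φa φb : Matrix.SpecialLinearGroup (Fin 2) F →* Γ}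

namespace C2Rel

variable (R : C2Rel φa φb)

include R

theorem tB : ∀ x ∈ XB φb, (rn φa)⁻¹ * x * rn φa ∈ XV φa φb := by
  rintro _ ⟨c, rfl⟩
  exact ⟨c, rfl⟩

theorem sA : ∀ x ∈ XA φa, (rn φb)⁻¹ * x * rn φb ∈ XZ φa φb := by
  rintro _ ⟨c, rfl⟩
  exact ⟨c, rfl⟩

theorem tV : ∀ x ∈ XV φa φb, (rn φa)⁻¹ * x * rn φa ∈ XB φb := by
  rintro _ ⟨c, rfl⟩
  have e : (rn φa)⁻¹ * xv φa φb c * rn φa
      = (rn φa * rn φa)⁻¹ * rx φb c * (rn φa * rn φa)⁻¹⁻¹ := by
    unfold xv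
    rw [inv_inv, mul_inv_rev]
    simp only [mul_assoc]
  rw [e]
  exact R.TB _ (inv_mem R.tt) _ (fam_mem (rx_isAdd φb) c)

theorem sZ : ∀ x ∈ XZ φa φb, (rn φb)⁻¹ * x * rn φb ∈ XA φa := by
  rintro _ ⟨c, rfl⟩
  have e : (rn φb)⁻¹ * xz φa φb c * rn φb
      = (rn φb * rn φb)⁻¹ * rx φa c * (rn φb * rn φb)⁻¹⁻¹ := by
    unfold xz
    rw [inv_inv, mul_inv_rev]
    simp only [mul_assoc]
  rw [e]
  exact R.TA _ (inv_mem R.ss) _ (fam_mem (rx_isAdd φa) c)

/-- the element `s t s⁻¹` normalises the torus (one direction) -/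
theorem m_conj_torus (h : Γ) (hh : h ∈ R.torus) :
    (rn φb * rn φa * (rn φb)⁻¹)⁻¹ * h * (rn φb * rn φa * (rn φb)⁻¹) ∈ R.torus := by
  have e : (rn φb * rn φa * (rn φb)⁻¹)⁻¹ * h * (rn φb * rn φa * (rn φb)⁻¹)
      = rn φb * ((rn φa)⁻¹ * ((rn φb)⁻¹ * h * rn φb) * rn φa) * (rn φb)⁻¹ := by group
  rw [e]
  exact R.sT _ (R.tT' _ (R.sT' h hh))

/-- the element `t s t⁻¹` normalises the torus (one direction) -/
theorem m'_conj_torus (h : Γ) (hh : h ∈ R.torus) :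
    (rn φa * rn φb * (rn φa)⁻¹)⁻¹ * h * (rn φa * rn φb * (rn φa)⁻¹) ∈ R.torus := by
  have e : (rn φa * rn φb * (rn φa)⁻¹)⁻¹ * h * (rn φa * rn φb * (rn φa)⁻¹)
      = rn φa * ((rn φb)⁻¹ * ((rn φa)⁻¹ * h * rn φa) * rn φb) * (rn φa)⁻¹ := by group
  rw [e]
  exact R.tT _ (R.sT' _ (R.tT' h hh))

/-- `s t s⁻¹` normalises `X_a` -/
theorem m_conj_xa (c : F) :
    (rn φb * rn φa * (rn φb)⁻¹)⁻¹ * rx φa c * (rn φb * rn φa * (rn φb)⁻¹) ∈ XA φa := by
  by_cases hc : c = 0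
  · rw [hc, (rx_isAdd φa).zero, mul_one, inv_mul_cancel]
    exact one_mem _
  · set m := rn φb * rn φa * (rn φb)⁻¹ with hm
    set d := rh φb (Units.mk0 c hc)⁻¹ with hd
    have hdT : d ∈ R.torus := R.hb_mem _
    have hact : d * rx φa 1 * d⁻¹ = rx φa c := by
      have := R.hb_xa (Units.mk0 c hc)⁻¹ 1
      rw [mul_one, Units.val_inv_eq_inv_val, inv_inv, Units.val_mk0] at this
      exact this
    have h1 := R.m_conj_torus d hdT
    have e : m⁻¹ * rx φa c * m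
        = (m⁻¹ * d * m) * (m⁻¹ * rx φa 1 * m) * (m⁻¹ * d * m)⁻¹ := by
      rw [← hact]
      group
    rw [e]
    exact R.TA _ h1 _ R.H7

/-- `t s t⁻¹` normalises `X_b` -/
theorem m'_conj_xb (c : F) :
    (rn φa * rn φb * (rn φa)⁻¹)⁻¹ * rx φb c * (rn φa * rn φb * (rn φa)⁻¹) ∈ XB φb := by
  set m := rn φa * rn φb * (rn φa)⁻¹ with hm
  let E : AddSubgroup F :=
    { carrier := {c | m⁻¹ * rx φb c * m ∈ XB φb}
      zero_mem' := by
        show m⁻¹ * rx φb 0 * m ∈ XB φb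
        rw [(rx_isAdd φb).zero, mul_one, inv_mul_cancel]
        exact one_mem _
      add_mem' := by
        intro b b' hb hb'
        show m⁻¹ * rx φb (b + b') * m ∈ XB φb
        have e : m⁻¹ * rx φb (b + b') * m = (m⁻¹ * rx φb b * m) * (m⁻¹ * rx φb b' * m) := by
          rw [rx_isAdd φb b b']
          group
        rw [e]
        exact mul_mem hb hb'
      neg_mem' := by
        intro b hb
        show m⁻¹ * rx φb (-b) * m ∈ XB φb
        have e : m⁻¹ * rx φb (-b) * m = (m⁻¹ * rx φb b * m)⁻¹ := by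
          rw [(rx_isAdd φb).neg]
          group
        rw [e]
        exact inv_mem hb }
  have hE : ∀ b, b ∈ E := by
    apply addSubgroup_eq_top_of_sq E R.H8
    intro ν b hb
    show m⁻¹ * rx φb ((ν : F) ^ 2 * b) * m ∈ XB φb
    rw [← R.hb_xb ν b]
    set d := rh φb ν with hd
    have h1 := R.m'_conj_torus d (R.hb_mem ν)
    have e : m⁻¹ * (d * rx φb b * d⁻¹) * m
        = (m⁻¹ * d * m) * (m⁻¹ * rx φb b * m) * (m⁻¹ * d * m)⁻¹ := by group
    rw [e]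
    exact R.TB _ h1 _ hb
  exact hE c

theorem tZ : ∀ x ∈ XZ φa φb, (rn φa)⁻¹ * x * rn φa ∈ XZ φa φb := by
  rintro _ ⟨c, rfl⟩
  obtain ⟨c', hc'⟩ := R.m_conj_xa c
  refine ⟨c', ?_⟩
  show (rn φb)⁻¹ * rx φa c' * rn φb = (rn φa)⁻¹ * xz φa φb c * rn φa
  rw [hc']
  unfold xz
  group

theorem sV : ∀ x ∈ XV φa φb, (rn φb)⁻¹ * x * rn φb ∈ XV φa φb := by
  rintro _ ⟨c, rfl⟩
  obtain ⟨c', hc'⟩ := R.m'_conj_xb c
  refine ⟨c', ?_⟩
  show (rn φa)⁻¹ * rx φb c' * rn φa = (rn φb)⁻¹ * xv φa φb c * rn φb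
  rw [hc']
  unfold xv
  group

theorem r1A : ∀ x ∈ XA φa, x = 1 ∨ ∃ x₁ ∈ XA φa, ∃ h ∈ R.torus, ∃ x₂ ∈ XA φa,
    rn φa * x * (rn φa)⁻¹ = x₁ * h * rn φa * x₂ := by
  rintro _ ⟨c, rfl⟩
  by_cases hc : c = 0
  · left
    rw [hc, (rx_isAdd φa).zero]
  · right
    have := rn_rank1 φa (Units.mk0 c hc)
    rw [Units.val_mk0] at this
    exact ⟨_, fam_mem (rx_isAdd φa) _, _, R.ha_mem _, _, fam_mem (rx_isAdd φa) _, this⟩

theorem r1B : ∀ x ∈ XB φb, x = 1 ∨ ∃ x₁ ∈ XB φb, ∃ h ∈ R.torus, ∃ x₂ ∈ XB φb,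
    rn φb * x * (rn φb)⁻¹ = x₁ * h * rn φb * x₂ := by
  rintro _ ⟨c, rfl⟩
  by_cases hc : c = 0
  · left
    rw [hc, (rx_isAdd φb).zero]
  · right
    have := rn_rank1 φb (Units.mk0 c hc)
    rw [Units.val_mk0] at this
    exact ⟨_, fam_mem (rx_isAdd φb) _, _, R.hb_mem _, _, fam_mem (rx_isAdd φb) _, this⟩

/-- the system of type `C₂` -/
theorem toSys : C2Sys (XA φa) (XB φb) (XZ φa φb) (XV φa φb) R.torus (rn φa) (rn φb) where
  TA := R.TA
  TB := R.TB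
  TZ := R.TZ
  TV := R.TV
  tT := R.tT
  sT := R.sT
  tt := R.tt
  ss := R.ss
  tB := R.tB
  tV := R.tV
  tZ := R.tZ
  sA := R.sA
  sZ := R.sZ
  sV := R.sV
  cBZ := R.cBZ
  cBV := R.cBV
  cZV := R.cZV
  cAV := R.cAV
  nAB := R.nAB
  nAZ := R.nAZ
  r1A := R.r1A
  r1B := R.r1B
  braid := R.H6

theorem torus_finite : (R.torus : Set Γ).Finite := by
  have e : (R.torus : Set Γ) = (fun p : Fˣ × Fˣ => rh φa p.1 * rh φb p.2) '' Set.univ := by
    ext g
    constructor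
    · rintro ⟨l, m, rfl⟩
      exact ⟨(l, m), Set.mem_univ _, rfl⟩
    · rintro ⟨⟨l, m⟩, -, rfl⟩
      exact ⟨l, m, rfl⟩
  rw [e]
  exact Set.finite_univ.image _

theorem torus_ncard_le : (R.torus : Set Γ).ncard ≤ (Fintype.card F - 1) ^ 2 := by
  classical
  have e : (R.torus : Set Γ) = (fun p : Fˣ × Fˣ => rh φa p.1 * rh φb p.2) '' Set.univ := by
    ext g
    constructor
    · rintro ⟨l, m, rfl⟩
      exact ⟨(l, m), Set.mem_univ _, rfl⟩
    · rintro ⟨⟨l, m⟩, -, rfl⟩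
      exact ⟨l, m, rfl⟩
  rw [e]
  refine (Set.ncard_image_le Set.finite_univ).trans ?_
  rw [Set.ncard_univ, Nat.card_eq_fintype_card, Fintype.card_prod, Fintype.card_units, sq]

/-- **the order bound**: a group generated by the images of two homomorphisms from `SL₂(F)`
satisfying the relations has at most `|Sp₄(F)|` elements -/
theorem card_le (hgen : Subgroup.closure
      ({rx φa 1, rn φa} ∪ Set.range (rh φa) ∪ ({rx φb 1, rn φb} ∪ Set.range (rh φb))) = ⊤) :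
    Finite Γ ∧ Nat.card Γ ≤
      (1 + Fintype.card F + Fintype.card F + Fintype.card F * Fintype.card F +
        Fintype.card F * Fintype.card F + Fintype.card F * Fintype.card F * Fintype.card F +
        Fintype.card F * Fintype.card F * Fintype.card F +
        Fintype.card F * Fintype.card F * Fintype.card F * Fintype.card F) *
        (Fintype.card F * Fintype.card F * Fintype.card F * Fintype.card F *
          (Fintype.card F - 1) ^ 2) := by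
  have S := R.toSys
  apply S.card_le (Fintype.card F) (famSub_finite _) (famSub_finite _) (famSub_finite _)
    (famSub_finite _) R.torus_finite (famSub_ncard_le _) (famSub_ncard_le _) (famSub_ncard_le _)
    (famSub_ncard_le _) R.torus_ncard_le
  rw [eq_top_iff, ← hgen, Subgroup.closure_le]
  have hB : ∀ g, g ∈ S.Bsub → g ∈ Subgroup.closure ((S.Bsub : Set Γ) ∪ {rn φa, rn φb}) :=
    fun g hg => Subgroup.subset_closure (Or.inl hg)
  rintro g ((hg | hg) | (hg | hg))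
  · rcases hg with rfl | rfl
    · exact hB _ (S.XA_le_B (fam_mem (rx_isAdd φa) 1))
    · exact Subgroup.subset_closure (Or.inr (Or.inl rfl))
  · obtain ⟨l, rfl⟩ := hg
    exact hB _ (S.T_le_B (R.ha_mem l))
  · rcases hg with rfl | rfl
    · exact hB _ (S.XB_le_B (fam_mem (rx_isAdd φb) 1))
    · exact Subgroup.subset_closure (Or.inr (Or.inr rfl))
  · obtain ⟨m, rfl⟩ := hg
    exact hB _ (S.T_le_B (R.hb_mem m))

end C2Rel

end Cfsg.Agent.Lib.Helper7.Pres4
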