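import Mathlib
import Cfsg.Agent.H9.SpA
import Cfsg.Agent.Lib.Helper7.Pres2F

/-!
# Short presentation of `Sp₄(F)`: explicit elements of `Sp₄(F)` and their relations (helper7)

Coordinates `e₁, e₂, f₁, f₂`; torus `diag(λ₁, λ₂, λ₁⁻¹, λ₂⁻¹)`; fundamental roots `a = ε₁ - ε₂`
(short) and `b = 2ε₂` (long).
-/

set_option autoImplicit false
set_option linter.unusedSimpArgs false

namespace Cfsg.Agent.Lib.Helper7.Pres4

open Matrix Cfsg.Agent.H9.SpA Cfsg.Agent.Lib.Helper7.Pres2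

variable {F : Type*} [Field F]

/-- a symplectic matrix from its four blocks -/
def mk4 (A B C D : Matrix (Fin 2) (Fin 2) F) (h1 : Aᵀ * C = Cᵀ * A) (h2 : Bᵀ * D = Dᵀ * B)
    (h3 : Aᵀ * D - Cᵀ * B = 1) : SpG 2 F :=
  ⟨fromBlocks A B C D, SymplecticGroup.fromBlocks_mem_iff.mpr ⟨h1, h2, h3⟩⟩

theorem mk4_val (A B C D : Matrix (Fin 2) (Fin 2) F) (h1 : Aᵀ * C = Cᵀ * A)
    (h2 : Bᵀ * D = Dᵀ * B) (h3 : Aᵀ * D - Cᵀ * B = 1) :
    (mk4 A B C D h1 h2 h3).1 = fromBlocks A B C D := rfl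

/-- `x_a(c)` -/
def XAm (c : F) : SpG 2 F :=
  mk4 !![1, c; 0, 1] 0 0 !![1, 0; -c, 1] (by simp) (by simp) (by
    ext i j; fin_cases i <;> fin_cases j <;> simp [Matrix.mul_apply, Fin.sum_univ_two])

/-- `x_{-a}(c)` -/
def YAm (c : F) : SpG 2 F :=
  mk4 !![1, 0; c, 1] 0 0 !![1, -c; 0, 1] (by simp) (by simp) (by
    ext i j; fin_cases i <;> fin_cases j <;> simp [Matrix.mul_apply, Fin.sum_univ_two])

/-- `h_a(l)` -/
def HAm (l : Fˣ) : SpG 2 F :=
  mk4 !![(l : F), 0; 0, ((l⁻¹ : Fˣ) : F)] 0 0 !![((l⁻¹ : Fˣ) : F), 0; 0, (l : F)]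
    (by simp) (by simp) (by
    ext i j; fin_cases i <;> fin_cases j <;> simp [Matrix.mul_apply, Fin.sum_univ_two])

/-- `n_a` -/
def TAm : SpG 2 F :=
  mk4 !![0, 1; -1, 0] 0 0 !![0, 1; -1, 0] (by simp) (by simp) (by
    ext i j; fin_cases i <;> fin_cases j <;> simp [Matrix.mul_apply, Fin.sum_univ_two])

/-- `x_b(c)` -/
def XBm (c : F) : SpG 2 F :=
  mk4 1 !![0, 0; 0, c] 0 1 (by simp) (by
    ext i j; fin_cases i <;> fin_cases j <;> simp [Matrix.mul_apply, Fin.sum_univ_two]) (by simp)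

/-- `x_{-b}(c)` -/
def YBm (c : F) : SpG 2 F :=
  mk4 1 0 !![0, 0; 0, c] 1 (by
    ext i j; fin_cases i <;> fin_cases j <;> simp [Matrix.mul_apply, Fin.sum_univ_two])
    (by simp) (by simp)

/-- `h_b(m)` -/
def HBm (m : Fˣ) : SpG 2 F :=
  mk4 !![1, 0; 0, (m : F)] 0 0 !![1, 0; 0, ((m⁻¹ : Fˣ) : F)] (by simp) (by simp) (by
    ext i j; fin_cases i <;> fin_cases j <;> simp [Matrix.mul_apply, Fin.sum_univ_two])

/-- `n_b` -/
def TBm : SpG 2 F :=
  mk4 !![1, 0; 0, 0] !![0, 0; 0, 1] !![0, 0; 0, -1] !![1, 0; 0, 0] (by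
    ext i j; fin_cases i <;> fin_cases j <;> simp [Matrix.mul_apply, Fin.sum_univ_two]) (by
    ext i j; fin_cases i <;> fin_cases j <;> simp [Matrix.mul_apply, Fin.sum_univ_two]) (by
    ext i j; fin_cases i <;> fin_cases j <;> simp [Matrix.mul_apply, Fin.sum_univ_two])

/-- `x_{a+b}(c)` -/
def SZm (c : F) : SpG 2 F :=
  mk4 1 !![0, c; c, 0] 0 1 (by simp) (by
    ext i j; fin_cases i <;> fin_cases j <;> simp [Matrix.mul_apply, Fin.sum_univ_two]) (by simp)

/-- `x_{2a+b}(c)` -/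
def SVm (c : F) : SpG 2 F :=
  mk4 1 !![c, 0; 0, 0] 0 1 (by simp) (by
    ext i j; fin_cases i <;> fin_cases j <;> simp [Matrix.mul_apply, Fin.sum_univ_two]) (by simp)

/-! ### the embedding of the long root `SL₂` -/

/-- the long root embedding -/
def ibS (g : Matrix.SpecialLinearGroup (Fin 2) F) : SpG 2 F :=
  mk4 !![1, 0; 0, g.1 0 0] !![0, 0; 0, g.1 0 1] !![0, 0; 0, g.1 1 0] !![1, 0; 0, g.1 1 1] (by
    ext i j; fin_cases i <;> fin_cases j <;> simp [Matrix.mul_apply, Fin.sum_univ_two]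
    ring) (by
    ext i j; fin_cases i <;> fin_cases j <;> simp [Matrix.mul_apply, Fin.sum_univ_two]
    ring) (by
    have hdet := g.2
    rw [Matrix.det_fin_two] at hdet
    ext i j; fin_cases i <;> fin_cases j <;> simp [Matrix.mul_apply, Fin.sum_univ_two]
    linear_combination hdet)

theorem ibS_mul (g h : Matrix.SpecialLinearGroup (Fin 2) F) : ibS (g * h) = ibS g * ibS h := by
  apply Subtype.ext
  simp only [Submonoid.coe_mul, ibS, mk4_val, fromBlocks_multiply,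
    Matrix.SpecialLinearGroup.coe_mul]
  congr 1 <;>
  · ext i j
    fin_cases i <;> fin_cases j <;> simp [Matrix.mul_apply, Fin.sum_univ_two]

theorem ibS_one : ibS (1 : Matrix.SpecialLinearGroup (Fin 2) F) = 1 := by
  apply Subtype.ext
  rw [one_val]
  simp only [ibS, mk4_val, Matrix.SpecialLinearGroup.coe_one]
  congr 1 <;>
  · ext i j
    fin_cases i <;> fin_cases j <;> simp

/-- the long root embedding as a homomorphism -/
def ibHom : Matrix.SpecialLinearGroup (Fin 2) F →* SpG 2 F where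
  toFun := ibS
  map_one' := ibS_one
  map_mul' := ibS_mul

/-- the short root embedding -/
def iaHom : Matrix.SpecialLinearGroup (Fin 2) F →* SpG 2 F := levHom

/-! ### values of the embeddings -/

theorem ib_slX (c : F) : ibHom (slX c) = XBm c := by
  apply Subtype.ext
  show (ibS (slX c)).1 = _
  simp only [ibS, XBm, mk4_val, slX]
  congr 1 <;>
  · ext i j
    fin_cases i <;> fin_cases j <;> simp

theorem ib_slY (c : F) : ibHom (slY c) = YBm c := by
  apply Subtype.ext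
  show (ibS (slY c)).1 = _
  simp only [ibS, YBm, mk4_val, slY]
  congr 1 <;>
  · ext i j
    fin_cases i <;> fin_cases j <;> simp

theorem ib_slH (m : Fˣ) : ibHom (slH m) = HBm m := by
  apply Subtype.ext
  show (ibS (slH m)).1 = _
  simp only [ibS, HBm, mk4_val, slH]
  congr 1 <;>
  · ext i j
    fin_cases i <;> fin_cases j <;> simp

theorem ib_slT : ibHom (slT : Matrix.SpecialLinearGroup (Fin 2) F) = TBm := by
  apply Subtype.ext
  show (ibS slT).1 = _
  simp only [ibS, TBm, mk4_val, slT]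
  congr 1

theorem ia_val (g : Matrix.SpecialLinearGroup (Fin 2) F) :
    (iaHom g).1 = fromBlocks g.1 0 0 ((g⁻¹).1)ᵀ := rfl

theorem ia_val' (g : Matrix.SpecialLinearGroup (Fin 2) F) (M : Matrix (Fin 2) (Fin 2) F)
    (h : g.1 * M = 1) : (iaHom g).1 = fromBlocks g.1 0 0 Mᵀ := by
  have h1 : (g⁻¹).1 = M := by
    have h2 : (g⁻¹).1 * g.1 = 1 := by
      rw [← Matrix.SpecialLinearGroup.coe_mul, inv_mul_cancel, Matrix.SpecialLinearGroup.coe_one]
    calc (g⁻¹).1 = (g⁻¹).1 * (g.1 * M) := by rw [h, Matrix.mul_one]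
      _ = M := by rw [← Matrix.mul_assoc, h2, Matrix.one_mul]
  rw [ia_val, h1]

theorem ia_slX (c : F) : iaHom (slX c) = XAm c := by
  apply Subtype.ext
  rw [ia_val' (slX c) !![1, -c; 0, 1] (by
    simp only [slX]
    ext i j; fin_cases i <;> fin_cases j <;> simp [Matrix.mul_apply, Fin.sum_univ_two])]
  simp only [XAm, mk4_val, slX]
  congr 1
  ext i j
  fin_cases i <;> fin_cases j <;> simp

theorem ia_slY (c : F) : iaHom (slY c) = YAm c := by
  apply Subtype.ext
  rw [ia_val' (slY c) !![1, 0; -c, 1] (by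
    simp only [slY]
    ext i j; fin_cases i <;> fin_cases j <;> simp [Matrix.mul_apply, Fin.sum_univ_two])]
  simp only [YAm, mk4_val, slY]
  congr 1
  ext i j
  fin_cases i <;> fin_cases j <;> simp

theorem ia_slH (l : Fˣ) : iaHom (slH l) = HAm l := by
  apply Subtype.ext
  rw [ia_val' (slH l) !![((l⁻¹ : Fˣ) : F), 0; 0, (l : F)] (by
    simp only [slH]
    ext i j; fin_cases i <;> fin_cases j <;> simp [Matrix.mul_apply, Fin.sum_univ_two])]
  simp only [HAm, mk4_val, slH]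
  congr 1
  ext i j
  fin_cases i <;> fin_cases j <;> simp

theorem ia_slT : iaHom (slT : Matrix.SpecialLinearGroup (Fin 2) F) = TAm := by
  apply Subtype.ext
  rw [ia_val' slT !![0, -1; 1, 0] (by
    simp only [slT]
    ext i j; fin_cases i <;> fin_cases j <;> simp [Matrix.mul_apply, Fin.sum_univ_two])]
  simp only [TAm, mk4_val, slT]
  congr 1
  ext i j
  fin_cases i <;> fin_cases j <;> simp

end Cfsg.Agent.Lib.Helper7.Pres4
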