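import Mathlib
import Cfsg.Agent.Lib.Helper7.Pres4L

/-!
# Short presentation of `Sp₄(F)`: the relations between the explicit elements of `Sp₄(F)` (helper7)
-/

set_option autoImplicit false
set_option linter.unusedSimpArgs false
set_option linter.unusedTactic false
set_option linter.unreachableTactic false

namespace Cfsg.Agent.Lib.Helper7.Pres4

open Matrix Cfsg.Agent.H9.SpA Cfsg.Agent.Lib.Helper7.Pres2

variable {F : Type*} [Field F]

theorem HA_HB (l m : Fˣ) : HAm l * HBm m = HBm m * HAm (F := F) l := by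
  apply Subtype.ext
  simp only [Submonoid.coe_mul, HAm, HBm, mk4_val, fromBlocks_multiply]
  congr 1 <;>
  · ext i j
    fin_cases i <;> fin_cases j <;> simp [Matrix.mul_apply, Fin.sum_univ_two] <;> first | ring1 | (field_simp; ring1) | field_simp

theorem HB_XA (m : Fˣ) (c : F) : HBm m * XAm c = XAm ((m : F)⁻¹ * c) * HBm m := by
  have hm : (m : F) ≠ 0 := m.ne_zero
  apply Subtype.ext
  simp only [Submonoid.coe_mul, HBm, XAm, mk4_val, fromBlocks_multiply]
  congr 1 <;>
  · ext i j
    fin_cases i <;> fin_cases j <;> simp [Matrix.mul_apply, Fin.sum_univ_two] <;> first | ring1 | (field_simp; ring1) | field_simp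

theorem HA_XB (l : Fˣ) (c : F) : HAm l * XBm c = XBm (((l : F) ^ 2)⁻¹ * c) * HAm l := by
  have hm : (l : F) ≠ 0 := l.ne_zero
  apply Subtype.ext
  simp only [Submonoid.coe_mul, HAm, XBm, mk4_val, fromBlocks_multiply]
  congr 1 <;>
  · ext i j
    fin_cases i <;> fin_cases j <;> simp [Matrix.mul_apply, Fin.sum_univ_two] <;> first | ring1 | (field_simp; ring1) | field_simp

theorem HB_XB (m : Fˣ) (c : F) : HBm m * XBm c = XBm ((m : F) ^ 2 * c) * HBm m := by
  have hm : (m : F) ≠ 0 := m.ne_zero
  apply Subtype.ext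
  simp only [Submonoid.coe_mul, HBm, XBm, mk4_val, fromBlocks_multiply]
  congr 1 <;>
  · ext i j
    fin_cases i <;> fin_cases j <;> simp [Matrix.mul_apply, Fin.sum_univ_two] <;> first | ring1 | (field_simp; ring1) | field_simp

theorem TA_HB (m : Fˣ) : TAm * HBm m = HAm m * HBm m * TAm := by
  have hm : (m : F) ≠ 0 := m.ne_zero
  apply Subtype.ext
  simp only [Submonoid.coe_mul, HAm, HBm, TAm, mk4_val, fromBlocks_multiply]
  congr 1 <;>
  · ext i j
    fin_cases i <;> fin_cases j <;> simp [Matrix.mul_apply, Fin.sum_univ_two] <;> first | ring1 | (field_simp; ring1) | field_simp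

theorem TB_HA (l : Fˣ) : TBm * HAm l = HAm l * HBm (l * l) * TBm := by
  have hm : (l : F) ≠ 0 := l.ne_zero
  apply Subtype.ext
  simp only [Submonoid.coe_mul, HAm, HBm, TBm, mk4_val, fromBlocks_multiply]
  congr 1 <;>
  · ext i j
    fin_cases i <;> fin_cases j <;> simp [Matrix.mul_apply, Fin.sum_univ_two] <;> first | ring1 | (field_simp; ring1) | field_simp

theorem TA_TB_val : (TAm * TBm : SpG 2 F).1 =
    fromBlocks !![0, 0; -1, 0] !![0, 1; 0, 0] !![0, -1; 0, 0] !![0, 0; -1, 0] := by
  simp only [Submonoid.coe_mul, TAm, TBm, mk4_val, fromBlocks_multiply]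
  congr 1 <;>
  · ext i j
    fin_cases i <;> fin_cases j <;> simp [Matrix.mul_apply, Fin.sum_univ_two]

theorem TB_TA_val : (TBm * TAm : SpG 2 F).1 =
    fromBlocks !![0, 1; 0, 0] !![0, 0; -1, 0] !![0, 0; 1, 0] !![0, 1; 0, 0] := by
  simp only [Submonoid.coe_mul, TAm, TBm, mk4_val, fromBlocks_multiply]
  congr 1 <;>
  · ext i j
    fin_cases i <;> fin_cases j <;> simp [Matrix.mul_apply, Fin.sum_univ_two]

theorem braid4 : TAm * TBm * TAm * TBm = TBm * TAm * TBm * TAm (F := F) := by
  rw [mul_assoc (TAm * TBm), mul_assoc (TBm * TAm)]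
  apply Subtype.ext
  show (TAm * TBm : SpG 2 F).1 * (TAm * TBm : SpG 2 F).1
    = (TBm * TAm : SpG 2 F).1 * (TBm * TAm : SpG 2 F).1
  rw [TA_TB_val, TB_TA_val, fromBlocks_multiply, fromBlocks_multiply]
  congr 1 <;>
  · ext i j
    fin_cases i <;> fin_cases j <;> simp [Matrix.mul_apply, Fin.sum_univ_two]

theorem XA_TB (c : F) : XAm c * TBm = TBm * SZm c := by
  apply Subtype.ext
  simp only [Submonoid.coe_mul, XAm, TBm, SZm, mk4_val, fromBlocks_multiply]
  congr 1 <;>
  · ext i j
    fin_cases i <;> fin_cases j <;> simp [Matrix.mul_apply, Fin.sum_univ_two] <;> first | ring1 | (field_simp; ring1) | field_simp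

theorem XB_TA (c : F) : XBm c * TAm = TAm * SVm c := by
  apply Subtype.ext
  simp only [Submonoid.coe_mul, XBm, TAm, SVm, mk4_val, fromBlocks_multiply]
  congr 1 <;>
  · ext i j
    fin_cases i <;> fin_cases j <;> simp [Matrix.mul_apply, Fin.sum_univ_two] <;> first | ring1 | (field_simp; ring1) | field_simp

theorem SZ_TA (c : F) : SZm c * TAm = TAm * SZm (-c) := by
  apply Subtype.ext
  simp only [Submonoid.coe_mul, SZm, TAm, mk4_val, fromBlocks_multiply]
  congr 1 <;>
  · ext i j
    fin_cases i <;> fin_cases j <;> simp [Matrix.mul_apply, Fin.sum_univ_two] <;> first | ring1 | (field_simp; ring1) | field_simp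

theorem SV_TB (c : F) : SVm c * TBm = TBm * SVm c := by
  apply Subtype.ext
  simp only [Submonoid.coe_mul, SVm, TBm, mk4_val, fromBlocks_multiply]
  congr 1 <;>
  · ext i j
    fin_cases i <;> fin_cases j <;> simp [Matrix.mul_apply, Fin.sum_univ_two] <;> first | ring1 | (field_simp; ring1) | field_simp

theorem XA_SV (c d : F) : XAm c * SVm d = SVm d * XAm c := by
  apply Subtype.ext
  simp only [Submonoid.coe_mul, XAm, SVm, mk4_val, fromBlocks_multiply]
  congr 1 <;>
  · ext i j
    fin_cases i <;> fin_cases j <;> simp [Matrix.mul_apply, Fin.sum_univ_two] <;> first | ring1 | (field_simp; ring1) | field_simp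

theorem XB_SZ (c d : F) : XBm c * SZm d = SZm d * XBm c := by
  apply Subtype.ext
  simp only [Submonoid.coe_mul, XBm, SZm, mk4_val, fromBlocks_multiply]
  congr 1 <;>
  · ext i j
    fin_cases i <;> fin_cases j <;> simp [Matrix.mul_apply, Fin.sum_univ_two] <;> first | ring1 | (field_simp; ring1) | field_simp

theorem SZ_SV (c d : F) : SZm c * SVm d = SVm d * SZm c := by
  apply Subtype.ext
  simp only [Submonoid.coe_mul, SZm, SVm, mk4_val, fromBlocks_multiply]
  congr 1 <;>
  · ext i j
    fin_cases i <;> fin_cases j <;> simp [Matrix.mul_apply, Fin.sum_univ_two] <;> first | ring1 | (field_simp; ring1) | field_simp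

theorem XB_SV (c d : F) : XBm c * SVm d = SVm d * XBm c := by
  apply Subtype.ext
  simp only [Submonoid.coe_mul, XBm, SVm, mk4_val, fromBlocks_multiply]
  congr 1 <;>
  · ext i j
    fin_cases i <;> fin_cases j <;> simp [Matrix.mul_apply, Fin.sum_univ_two] <;> first | ring1 | (field_simp; ring1) | field_simp

theorem XA_XB (c d : F) :
    XAm c * XBm d = XBm d * SZm (c * d) * SVm (c * c * d) * XAm c := by
  apply Subtype.ext
  simp only [Submonoid.coe_mul, XAm, XBm, SZm, SVm, mk4_val, fromBlocks_multiply]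
  congr 1 <;>
  · ext i j
    fin_cases i <;> fin_cases j <;> simp [Matrix.mul_apply, Fin.sum_univ_two] <;> first | ring1 | (field_simp; ring1) | field_simp

theorem XA_SZ (c d : F) : XAm c * SZm d = SZm d * SVm (2 * c * d) * XAm c := by
  apply Subtype.ext
  simp only [Submonoid.coe_mul, XAm, SZm, SVm, mk4_val, fromBlocks_multiply]
  congr 1 <;>
  · ext i j
    fin_cases i <;> fin_cases j <;> simp [Matrix.mul_apply, Fin.sum_univ_two] <;> first | ring1 | (field_simp; ring1) | field_simp

theorem SV_add (c d : F) : SVm (c + d) = SVm c * SVm d := by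
  apply Subtype.ext
  simp only [Submonoid.coe_mul, SVm, mk4_val, fromBlocks_multiply]
  congr 1 <;>
  · ext i j
    fin_cases i <;> fin_cases j <;> simp [Matrix.mul_apply, Fin.sum_univ_two] <;> first | ring1 | (field_simp; ring1) | field_simp

theorem sie_eq (S : Matrix (Fin 2) (Fin 2) F) (hS : S.IsSymm) :
    sie S hS = SVm (S 0 0) * SZm (S 0 1) * XBm (S 1 1) := by
  have h10 : S 1 0 = S 0 1 := by
    have := congrFun (congrFun hS.eq 0) 1
    simpa using this
  apply Subtype.ext
  simp only [Submonoid.coe_mul, sie_val, SVm, SZm, XBm, mk4_val, fromBlocks_multiply]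
  congr 1 <;>
  · ext i j
    fin_cases i <;> fin_cases j <;> simp [Matrix.mul_apply, Fin.sum_univ_two, h10] <;> try ring

end Cfsg.Agent.Lib.Helper7.Pres4
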