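import Mathlib
import Cfsg.Agent.H9.SpA
import Cfsg.Agent.Lib.Helper7.RegUnipE

/-!
# Three conjugate regular unipotent elements of `Sp₂ₙ(F)`: the elements (helper7)

Rank-one and rank-two symmetric matrices `Rm a = a aᵀ`, `Pm a b = a bᵀ + b aᵀ`, the regular
unipotent element `uReg = sie (Rm e_last) * lev Jm`, and the opposite element
`VReg c t = lev (Lm c) * sieN (t • Rm e_last)`.
-/

set_option autoImplicit false

namespace Cfsg.Agent.Lib.Helper7.SpReg

open Matrix Cfsg.Agent.H9.SpA Cfsg.Agent.Lib.Helper7.RegUnip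

variable {n : ℕ} {F : Type*} [Field F]

/-- the rank-one symmetric matrix `a aᵀ` -/
def Rm (a : Fin n → F) : Matrix (Fin n) (Fin n) F := vecMulVec a a

/-- the symmetric matrix `a bᵀ + b aᵀ` -/
def Pm (a b : Fin n → F) : Matrix (Fin n) (Fin n) F := vecMulVec a b + vecMulVec b a

theorem isSymm_Rm (a : Fin n → F) : (Rm a).IsSymm := by
  unfold Matrix.IsSymm Rm
  rw [transpose_vecMulVec]

theorem isSymm_Pm (a b : Fin n → F) : (Pm a b).IsSymm := by
  unfold Matrix.IsSymm Pm
  rw [transpose_add, transpose_vecMulVec, transpose_vecMulVec, add_comm]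

theorem Pm_comm (a b : Fin n → F) : Pm a b = Pm b a := by
  unfold Pm
  rw [add_comm]

theorem Pm_self (a : Fin n → F) : Pm a a = Rm a + Rm a := rfl

theorem Pm_add_left (a a' b : Fin n → F) : Pm (a + a') b = Pm a b + Pm a' b := by
  unfold Pm
  rw [add_vecMulVec, vecMulVec_add]
  abel

theorem Pm_add_right (a b b' : Fin n → F) : Pm a (b + b') = Pm a b + Pm a b' := by
  rw [Pm_comm, Pm_add_left, Pm_comm b, Pm_comm b']

theorem Pm_smul_left (c : F) (a b : Fin n → F) : Pm (c • a) b = c • Pm a b := by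
  unfold Pm
  rw [smul_vecMulVec, vecMulVec_smul, smul_add]

theorem Pm_smul_right (c : F) (a b : Fin n → F) : Pm a (c • b) = c • Pm a b := by
  rw [Pm_comm, Pm_smul_left, Pm_comm]

theorem Pm_zero_left (b : Fin n → F) : Pm (0 : Fin n → F) b = 0 := by
  unfold Pm
  rw [zero_vecMulVec, vecMulVec_zero, add_zero]

theorem Pm_zero_right (a : Fin n → F) : Pm a (0 : Fin n → F) = 0 := by
  rw [Pm_comm, Pm_zero_left]

theorem Rm_zero : Rm (0 : Fin n → F) = 0 := by
  unfold Rm
  rw [zero_vecMulVec]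

theorem Rm_add (a b : Fin n → F) : Rm (a + b) = Rm a + Rm b + Pm a b := by
  unfold Rm Pm
  rw [add_vecMulVec, vecMulVec_add, vecMulVec_add]
  abel

theorem Rm_smul (c : F) (a : Fin n → F) : Rm (c • a) = (c * c) • Rm a := by
  unfold Rm
  rw [smul_vecMulVec, vecMulVec_smul, smul_smul]

theorem conj_Rm (A : Matrix (Fin n) (Fin n) F) (a : Fin n → F) :
    A * Rm a * Aᵀ = Rm (A *ᵥ a) := by
  unfold Rm
  rw [mul_vecMulVec, vecMulVec_mul, vecMul_transpose]

theorem conj_Pm (A : Matrix (Fin n) (Fin n) F) (a b : Fin n → F) :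
    A * Pm a b * Aᵀ = Pm (A *ᵥ a) (A *ᵥ b) := by
  unfold Pm
  rw [Matrix.mul_add, Matrix.add_mul, mul_vecMulVec, vecMulVec_mul, vecMul_transpose,
    mul_vecMulVec, vecMulVec_mul, vecMul_transpose]

theorem Rm_mulVec (a w : Fin n → F) : Rm a *ᵥ w = (a ⬝ᵥ w) • a := by
  unfold Rm
  rw [vecMulVec_mulVec, op_smul_eq_smul]

theorem Pm_mulVec (a b w : Fin n → F) : Pm a b *ᵥ w = (b ⬝ᵥ w) • a + (a ⬝ᵥ w) • b := by
  unfold Pm
  rw [add_mulVec, vecMulVec_mulVec, vecMulVec_mulVec, op_smul_eq_smul, op_smul_eq_smul]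

theorem isSymm_smul {S : Matrix (Fin n) (Fin n) F} (hS : S.IsSymm) (t : F) : (t • S).IsSymm := by
  unfold Matrix.IsSymm
  rw [transpose_smul, hS.eq]

theorem isSymm_conj {S : Matrix (Fin n) (Fin n) F} (hS : S.IsSymm)
    (A : Matrix (Fin n) (Fin n) F) : (A * S * Aᵀ).IsSymm := by
  unfold Matrix.IsSymm
  rw [transpose_mul, transpose_mul, transpose_transpose, hS.eq, Matrix.mul_assoc]

/-! ### The elements -/

theorem det_Lm (c : ℕ → F) : (Lm c : Matrix (Fin n) (Fin n) F).det = 1 := by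
  have h : (Lm c : Matrix (Fin n) (Fin n) F).IsLowerTriangular := by
    intro i j hij
    have hij' : i < j := hij
    simp only [Lm, Matrix.of_apply]
    rw [if_neg (fun h => by rw [h] at hij'; exact lt_irrefl _ hij'),
      if_neg (by have : i.val < j.val := hij'; omega)]
  rw [Matrix.det_of_isLowerTriangular _ h]
  apply Finset.prod_eq_one
  intro i _
  simp [Lm]

/-- the Levi element `diag(A, A⁻ᵀ)` of a matrix of determinant one -/
noncomputable def levU (A : Matrix (Fin n) (Fin n) F) (hA : A.det = 1) : SpG n F :=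
  lev A A⁻¹ (Matrix.mul_nonsing_inv A (by rw [hA]; exact isUnit_one))

/-- the regular unipotent element `[1 S₀; 0 1] · diag(J, J⁻ᵀ)`, `S₀ = E_{last,last}` -/
noncomputable def uReg (n : ℕ) (F : Type*) [Field F] : SpG n F :=
  sie (Rm (ev (n - 1))) (isSymm_Rm _) * levU Jm det_Jm

/-- the opposite element `diag(J', J'⁻ᵀ) · [1 0; T₀ 1]`, `J' = Lm c`, `T₀ = t E_{last,last}` -/
noncomputable def VReg (n : ℕ) {F : Type*} [Field F] (c : ℕ → F) (t : F) : SpG n F :=
  levU (Lm c) (det_Lm c) * sieN (t • Rm (ev (n - 1))) (isSymm_smul (isSymm_Rm _) t)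

end Cfsg.Agent.Lib.Helper7.SpReg
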