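import Mathlib
import Cfsg.Agent.Lib.Helper7.SpRegA

/-!
# Three conjugate regular unipotent elements of `Sp₂ₙ(F)`: the Siegel radical of a subgroup (helper7)

For a subgroup `H` of `Sp₂ₙ(F)`: the additive group `Acal H` of symmetric matrices `S` with
`sie S ∈ H`, its largest `F`-submodule `Acore H`, and the closure rules under elements of the
Siegel parabolic and of the opposite one.
-/

set_option autoImplicit false

namespace Cfsg.Agent.Lib.Helper7.SpReg

open Matrix Cfsg.Agent.H9.SpA Cfsg.Agent.Lib.Helper7.RegUnip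

variable {n : ℕ} {F : Type*} [Field F]

/-- congruence `M ↦ A M Aᵀ` as a linear map -/
def cj (A : Matrix (Fin n) (Fin n) F) : Matrix (Fin n) (Fin n) F →ₗ[F] Matrix (Fin n) (Fin n) F where
  toFun M := A * M * Aᵀ
  map_add' M N := by rw [Matrix.mul_add, Matrix.add_mul]
  map_smul' s M := by rw [Matrix.mul_smul, Matrix.smul_mul]; rfl

theorem cj_apply (A M : Matrix (Fin n) (Fin n) F) : cj A M = A * M * Aᵀ := rfl

theorem cj_Rm (A : Matrix (Fin n) (Fin n) F) (a : Fin n → F) : cj A (Rm a) = Rm (A *ᵥ a) :=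
  conj_Rm A a

theorem cj_Pm (A : Matrix (Fin n) (Fin n) F) (a b : Fin n → F) :
    cj A (Pm a b) = Pm (A *ᵥ a) (A *ᵥ b) := conj_Pm A a b

theorem lev_eq_of_left' {A A' A'' : Matrix (Fin n) (Fin n) F} (h : A * A' = 1) (h' : A * A'' = 1) :
    lev A A' h = lev A A'' h' := by
  apply lev_congr h rfl
  calc A' = (A'' * A) * A' := by rw [mul_eq_one_comm.mp h', Matrix.one_mul]
    _ = A'' := by rw [Matrix.mul_assoc, h, Matrix.mul_one]

/-- the additive group of symmetric matrices whose Siegel element lies in `H` -/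
def Acal (H : Subgroup (SpG n F)) : AddSubgroup (Matrix (Fin n) (Fin n) F) where
  carrier := {S | ∃ hS : S.IsSymm, sie S hS ∈ H}
  zero_mem' := ⟨isSymm_zero, by rw [sie_zero]; exact H.one_mem⟩
  add_mem' := by
    rintro S S' ⟨hS, h1⟩ ⟨hS', h2⟩
    refine ⟨hS.add hS', ?_⟩
    rw [← sie_mul_sie S S' hS hS']
    exact H.mul_mem h1 h2
  neg_mem' := by
    rintro S ⟨hS, h1⟩
    refine ⟨hS.neg, ?_⟩
    rw [← sie_inv S hS]
    exact H.inv_mem h1

theorem mem_Acal {H : Subgroup (SpG n F)} {S : Matrix (Fin n) (Fin n) F} :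
    S ∈ Acal H ↔ ∃ hS : S.IsSymm, sie S hS ∈ H := Iff.rfl

theorem isSymm_of_mem_Acal {H : Subgroup (SpG n F)} {S : Matrix (Fin n) (Fin n) F}
    (h : S ∈ Acal H) : S.IsSymm := h.1

theorem sie_mem_of_mem_Acal {H : Subgroup (SpG n F)} {S : Matrix (Fin n) (Fin n) F}
    (h : S ∈ Acal H) (hS : S.IsSymm) : sie S hS ∈ H := h.2

/-- the largest `F`-submodule contained in `Acal H` -/
def Acore (H : Subgroup (SpG n F)) : Submodule F (Matrix (Fin n) (Fin n) F) where
  carrier := {M | ∀ s : F, s • M ∈ Acal H}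
  add_mem' := by
    intro M N hM hN s
    rw [smul_add]
    exact add_mem (hM s) (hN s)
  zero_mem' := by
    intro s
    rw [smul_zero]
    exact zero_mem _
  smul_mem' := by
    intro c M hM s
    rw [smul_smul]
    exact hM _

theorem mem_Acore {H : Subgroup (SpG n F)} {M : Matrix (Fin n) (Fin n) F} :
    M ∈ Acore H ↔ ∀ s : F, s • M ∈ Acal H := Iff.rfl

theorem Acore_le {H : Subgroup (SpG n F)} {M : Matrix (Fin n) (Fin n) F} (h : M ∈ Acore H) :
    M ∈ Acal H := by
  have := h 1
  rwa [one_smul] at this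

theorem isSymm_cj {S : Matrix (Fin n) (Fin n) F} (hS : S.IsSymm)
    (A : Matrix (Fin n) (Fin n) F) : (cj A S).IsSymm := isSymm_conj hS A

/-- conjugating a Siegel element by an element of the Siegel parabolic -/
theorem conj_sie_lev {X A A' : Matrix (Fin n) (Fin n) F} (hX : X.IsSymm) (hA : A * A' = 1)
    {S : Matrix (Fin n) (Fin n) F} (hS : S.IsSymm) :
    (sie X hX * lev A A' hA) * sie S hS * (sie X hX * lev A A' hA)⁻¹
      = sie (cj A S) (isSymm_cj hS A) := by
  have e : (sie X hX * lev A A' hA) * sie S hS * (sie X hX * lev A A' hA)⁻¹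
      = sie X hX * (lev A A' hA * sie S hS * (lev A A' hA)⁻¹) * (sie X hX)⁻¹ := by group
  rw [e, lev_conj_sie, sie_inv, sie_mul_sie, sie_mul_sie]
  exact sie_congr _ (by rw [cj_apply]; abel)

/-- rule R1: closure of `Acal H` under congruence by the Levi part of a parabolic element -/
theorem Acal_cj_of_mem {H : Subgroup (SpG n F)} {X A A' : Matrix (Fin n) (Fin n) F}
    (hX : X.IsSymm) (hA : A * A' = 1) (h : sie X hX * lev A A' hA ∈ H)
    {S : Matrix (Fin n) (Fin n) F} (hS : S ∈ Acal H) : cj A S ∈ Acal H := by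
  obtain ⟨hS', hmem⟩ := hS
  refine ⟨isSymm_cj hS' A, ?_⟩
  rw [← conj_sie_lev hX hA hS']
  exact H.mul_mem (H.mul_mem h hmem) (H.inv_mem h)

/-- a lower Siegel element commutes with an upper one when the product of the matrices vanishes -/
theorem sieN_comm_sie {T S : Matrix (Fin n) (Fin n) F} (hT : T.IsSymm) (hS : S.IsSymm)
    (h : T * S = 0) : sieN T hT * sie S hS = sie S hS * sieN T hT := by
  have h' : S * T = 0 := by
    have := congrArg transpose h
    rwa [transpose_mul, hT.eq, hS.eq, transpose_zero] at this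
  apply Subtype.ext
  rw [Submonoid.coe_mul, Submonoid.coe_mul, sieN_val, sie_val, fromBlocks_multiply,
    fromBlocks_multiply]
  simp [h, h']

/-- rule R3: closure of `Acal H` under congruence by the Levi part of an opposite parabolic
element, for matrices killed by its unipotent part -/
theorem Acal_cj_of_mem_opp {H : Subgroup (SpG n F)} {T A A' : Matrix (Fin n) (Fin n) F}
    (hT : T.IsSymm) (hA : A * A' = 1) (h : lev A A' hA * sieN T hT ∈ H)
    {S : Matrix (Fin n) (Fin n) F} (hS : S ∈ Acal H) (hTS : T * S = 0) : cj A S ∈ Acal H := by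
  obtain ⟨hS', hmem⟩ := hS
  refine ⟨isSymm_cj hS' A, ?_⟩
  have e : (lev A A' hA * sieN T hT) * sie S hS' * (lev A A' hA * sieN T hT)⁻¹
      = sie (cj A S) (isSymm_cj hS' A) := by
    have e1 : (lev A A' hA * sieN T hT) * sie S hS' * (lev A A' hA * sieN T hT)⁻¹
        = lev A A' hA * (sieN T hT * sie S hS' * (sieN T hT)⁻¹) * (lev A A' hA)⁻¹ := by group
    rw [e1, sieN_comm_sie hT hS' hTS, mul_inv_cancel_right, lev_conj_sie]
    rfl
  rw [← e]
  exact H.mul_mem (H.mul_mem h hmem) (H.inv_mem h)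

/-- the seed: a commutator of a parabolic element with a Siegel element -/
theorem Acal_seed {H : Subgroup (SpG n F)} {X A A' : Matrix (Fin n) (Fin n) F}
    (hX : X.IsSymm) (hA : A * A' = 1) (h : sie X hX * lev A A' hA ∈ H)
    {G : Matrix (Fin n) (Fin n) F} (hG : G.IsSymm)
    (h' : sie G hG * (sie X hX * lev A A' hA) * (sie G hG)⁻¹ ∈ H) : cj A G - G ∈ Acal H := by
  have h1 : G - cj A G ∈ Acal H := by
    refine ⟨hG.sub (isSymm_cj hG A), ?_⟩
    have e : sie G hG * (sie X hX * lev A A' hA) * (sie G hG)⁻¹ * (sie X hX * lev A A' hA)⁻¹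
        = sie (G - cj A G) (hG.sub (isSymm_cj hG A)) := by
      have e1 : sie G hG * (sie X hX * lev A A' hA) * (sie G hG)⁻¹ * (sie X hX * lev A A' hA)⁻¹
          = sie G hG * ((sie X hX * lev A A' hA) * (sie G hG)⁻¹ * (sie X hX * lev A A' hA)⁻¹) := by
        group
      rw [e1, sie_inv, conj_sie_lev hX hA hG.neg, sie_mul_sie]
      exact sie_congr _ (by rw [map_neg]; abel)
    rw [← e]
    exact H.mul_mem h' (H.inv_mem h)
  have := neg_mem h1
  rwa [neg_sub] at this

/-- the commutator of two elements of the Siegel parabolic with commuting Levi parts -/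
theorem comm_sie_lev {X A A' Y C C' : Matrix (Fin n) (Fin n) F} (hX : X.IsSymm) (hA : A * A' = 1)
    (hY : Y.IsSymm) (hC : C * C' = 1) (hAC : A * C = C * A) :
    (sie X hX * lev A A' hA) * (sie Y hY * lev C C' hC) * (sie X hX * lev A A' hA)⁻¹
      * (sie Y hY * lev C C' hC)⁻¹
      = sie (X + cj A Y - Y - cj C X)
        (((hX.add (isSymm_cj hY A)).sub hY).sub (isSymm_cj hX C)) := by
  have hpq : (sie X hX * lev A A' hA) * (sie Y hY * lev C C' hC)
      = sie (X + cj A Y) (hX.add (isSymm_cj hY A)) * (lev A A' hA * lev C C' hC) := by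
    have e1 : (sie X hX * lev A A' hA) * (sie Y hY * lev C C' hC)
        = sie X hX * (lev A A' hA * sie Y hY * (lev A A' hA)⁻¹) * (lev A A' hA * lev C C' hC) := by
      group
    rw [e1, lev_conj_sie, sie_mul_sie]
    rfl
  have hqp : (sie Y hY * lev C C' hC) * (sie X hX * lev A A' hA)
      = sie (Y + cj C X) (hY.add (isSymm_cj hX C)) * (lev C C' hC * lev A A' hA) := by
    have e1 : (sie Y hY * lev C C' hC) * (sie X hX * lev A A' hA)
        = sie Y hY * (lev C C' hC * sie X hX * (lev C C' hC)⁻¹) * (lev C C' hC * lev A A' hA) := by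
      group
    rw [e1, lev_conj_sie, sie_mul_sie]
    rfl
  have hlev : lev A A' hA * lev C C' hC = lev C C' hC * lev A A' hA := by
    rw [lev_mul_lev, lev_mul_lev]
    have h1 : A * C * (C' * A') = 1 := by
      rw [Matrix.mul_assoc, ← Matrix.mul_assoc C, hC, Matrix.one_mul, hA]
    have h2 : A * C * (A' * C') = 1 := by
      rw [hAC, Matrix.mul_assoc, ← Matrix.mul_assoc A, hA, Matrix.one_mul, hC]
    rw [lev_eq_of_left' h1 h2]
    exact lev_congr _ hAC rfl
  have key : (sie X hX * lev A A' hA) * (sie Y hY * lev C C' hC)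
      = sie (X + cj A Y - Y - cj C X)
        (((hX.add (isSymm_cj hY A)).sub hY).sub (isSymm_cj hX C))
        * ((sie Y hY * lev C C' hC) * (sie X hX * lev A A' hA)) := by
    rw [hpq, hqp, hlev]
    conv_rhs => rw [← mul_assoc, sie_mul_sie]
    congr 1
    exact sie_congr _ (by abel)
  have e2 : (sie X hX * lev A A' hA) * (sie Y hY * lev C C' hC) * (sie X hX * lev A A' hA)⁻¹
      * (sie Y hY * lev C C' hC)⁻¹
      = ((sie X hX * lev A A' hA) * (sie Y hY * lev C C' hC))
        * ((sie Y hY * lev C C' hC) * (sie X hX * lev A A' hA))⁻¹ := by group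
  rw [e2, key, mul_inv_cancel_right]

/-! ### The core -/

theorem Acore_cj_of_mem {H : Subgroup (SpG n F)} {X A A' : Matrix (Fin n) (Fin n) F}
    (hX : X.IsSymm) (hA : A * A' = 1) (h : sie X hX * lev A A' hA ∈ H)
    {M : Matrix (Fin n) (Fin n) F} (hM : M ∈ Acore H) : cj A M ∈ Acore H := by
  intro s
  rw [← map_smul]
  exact Acal_cj_of_mem hX hA h (hM s)

theorem Acore_cj_of_mem_opp {H : Subgroup (SpG n F)} {T A A' : Matrix (Fin n) (Fin n) F}
    (hT : T.IsSymm) (hA : A * A' = 1) (h : lev A A' hA * sieN T hT ∈ H)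
    {M : Matrix (Fin n) (Fin n) F} (hM : M ∈ Acore H) (hTM : T * M = 0) : cj A M ∈ Acore H := by
  intro s
  rw [← map_smul]
  exact Acal_cj_of_mem_opp hT hA h (hM s) (by rw [Matrix.mul_smul, hTM, smul_zero])

theorem Acore_of_smul {H : Subgroup (SpG n F)} {M : Matrix (Fin n) (Fin n) F} {c : F}
    (hc : c ≠ 0) (h : c • M ∈ Acore H) : M ∈ Acore H := by
  have := (Acore H).smul_mem c⁻¹ h
  rwa [smul_smul, inv_mul_cancel₀ hc, one_smul] at this

end Cfsg.Agent.Lib.Helper7.SpReg
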