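import Mathlib
import Cfsg.Agent.Lib.Helper7.SpRegB

/-!
# Three conjugate regular unipotent elements of `Sp₂ₙ(F)`: climbing (helper7)

The context (a subgroup containing `uReg` and `VReg c t`), the two closure rules, and the
characteristic-free climbing lemmas for the core of the Siegel radical of the subgroup.
-/

set_option autoImplicit false

namespace Cfsg.Agent.Lib.Helper7.SpReg

open Matrix Cfsg.Agent.H9.SpA Cfsg.Agent.Lib.Helper7.RegUnip

variable {n : ℕ} {F : Type*} [Field F]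

/-- the context: `H` contains the regular unipotent element and the opposite element -/
structure Ctx (H : Subgroup (SpG n F)) (c : ℕ → F) (t : F) : Prop where
  hn : 2 ≤ n
  hc : ∀ i, c i ≠ 0
  ht : t ≠ 0
  hu : uReg n F ∈ H
  hV : VReg n c t ∈ H

variable {H : Subgroup (SpG n F)} {c : ℕ → F} {t : F}

theorem Jm_mul_inv : (Jm : Matrix (Fin n) (Fin n) F) * Jm⁻¹ = 1 :=
  Matrix.mul_nonsing_inv Jm (by rw [det_Jm]; exact isUnit_one)

theorem Lm_mul_inv (c : ℕ → F) : (Lm c : Matrix (Fin n) (Fin n) F) * (Lm c)⁻¹ = 1 :=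
  Matrix.mul_nonsing_inv (Lm c) (by rw [det_Lm]; exact isUnit_one)

theorem uReg_eq : uReg n F = sie (Rm (ev (n - 1))) (isSymm_Rm _) * lev Jm Jm⁻¹ Jm_mul_inv := rfl

theorem VReg_eq (c : ℕ → F) (t : F) : VReg n c t = lev (Lm c) (Lm c)⁻¹ (Lm_mul_inv c)
    * sieN (t • Rm (ev (n - 1))) (isSymm_smul (isSymm_Rm _) t) := rfl

theorem Ctx.R1 (h : Ctx H c t) {S : Matrix (Fin n) (Fin n) F} (hS : S ∈ Acal H) :
    cj Jm S ∈ Acal H := by
  have hu := h.hu
  rw [uReg_eq] at hu
  exact Acal_cj_of_mem _ _ hu hS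

theorem Ctx.R1core (h : Ctx H c t) {M : Matrix (Fin n) (Fin n) F} (hM : M ∈ Acore H) :
    cj Jm M ∈ Acore H := by
  have hu := h.hu
  rw [uReg_eq] at hu
  exact Acore_cj_of_mem _ _ hu hM

theorem last_mul_eq_zero {S : Matrix (Fin n) (Fin n) F} (hS : S.IsSymm)
    (h0 : S *ᵥ ev (n - 1) = 0) (t : F) : (t • Rm (ev (n - 1))) * S = 0 := by
  unfold Rm
  rw [Matrix.smul_mul, vecMulVec_mul]
  have : (ev (n - 1) : Fin n → F) ᵥ* S = 0 := by
    rw [← hS.eq, vecMul_transpose, h0]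
  rw [this, vecMulVec_zero, smul_zero]

theorem Ctx.R3 (h : Ctx H c t) {S : Matrix (Fin n) (Fin n) F} (hS : S ∈ Acal H)
    (h0 : S *ᵥ ev (n - 1) = 0) : cj (Lm c) S ∈ Acal H := by
  have hV := h.hV
  rw [VReg_eq] at hV
  exact Acal_cj_of_mem_opp _ _ hV hS (last_mul_eq_zero (isSymm_of_mem_Acal hS) h0 t)

theorem Ctx.R3core (h : Ctx H c t) {M : Matrix (Fin n) (Fin n) F} (hM : M ∈ Acore H)
    (h0 : M *ᵥ ev (n - 1) = 0) : cj (Lm c) M ∈ Acore H := by
  have hV := h.hV
  rw [VReg_eq] at hV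
  exact Acore_cj_of_mem_opp _ _ hV hM
    (last_mul_eq_zero (isSymm_of_mem_Acal (Acore_le hM)) h0 t)

theorem Rm_mulVec_last (k : ℕ) (hk : k ≠ n - 1) :
    Rm (ev k : Fin n → F) *ᵥ ev (n - 1) = 0 := by
  rw [Rm_mulVec, ev_dot_ev_ne hk, zero_smul]

theorem Pm_mulVec_last (i k : ℕ) (hi : i ≠ n - 1) (hk : k ≠ n - 1) :
    Pm (ev i : Fin n → F) (ev k) *ᵥ ev (n - 1) = 0 := by
  rw [Pm_mulVec, ev_dot_ev_ne hk, ev_dot_ev_ne hi, zero_smul, zero_smul, add_zero]

theorem Jm_mulVec_ev_one (hn : 2 ≤ n) :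
    (Jm : Matrix (Fin n) (Fin n) F) *ᵥ ev 1 = ev 1 + ev 0 :=
  Jm_mulVec_ev_succ 0 (by omega)

/-- all `Pm e_i e_j` with `i, j ≤ k` lie in the core -/
def Known (H : Subgroup (SpG n F)) (k : ℕ) : Prop :=
  ∀ i j, i ≤ k → j ≤ k → Pm (ev i : Fin n → F) (ev j) ∈ Acore H

theorem Ctx.climb (h : Ctx H c t) (k : ℕ) (hk1 : 1 ≤ k) (hk2 : k + 2 ≤ n) (hK : Known H k) :
    Known H (k + 1) := by
  have hn := h.hn
  -- step (a)
  have ha : ∀ i, i < k →
      Pm (ev i : Fin n → F) (ev (k + 1)) + c i • Pm (ev (i + 1)) (ev (k + 1)) ∈ Acore H := by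
    intro i hi
    have h1 := h.R3core (hK i k hi.le le_rfl) (Pm_mulVec_last i k (by omega) (by omega))
    have e : cj (Lm c) (Pm (ev i : Fin n → F) (ev k)) = Pm (ev i) (ev k)
        + c k • Pm (ev i) (ev (k + 1)) + c i • Pm (ev (i + 1)) (ev k)
        + (c i * c k) • Pm (ev (i + 1)) (ev (k + 1)) := by
      rw [cj_Pm, Lm_mulVec_ev c i (by omega), Lm_mulVec_ev c k (by omega), Pm_add_left,
        Pm_add_right, Pm_add_right, Pm_smul_left, Pm_smul_left, Pm_smul_right, Pm_smul_right,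
        smul_smul]
      abel
    rw [e] at h1
    have h2 := sub_mem (sub_mem h1 (hK i k hi.le le_rfl))
      ((Acore H).smul_mem (c i) (hK (i + 1) k (by omega) le_rfl))
    have e2 : Pm (ev i : Fin n → F) (ev k)
        + c k • Pm (ev i) (ev (k + 1)) + c i • Pm (ev (i + 1)) (ev k)
        + (c i * c k) • Pm (ev (i + 1)) (ev (k + 1)) - Pm (ev i) (ev k)
        - c i • Pm (ev (i + 1)) (ev k)
        = c k • (Pm (ev i) (ev (k + 1)) + c i • Pm (ev (i + 1)) (ev (k + 1))) := by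
      module
    rw [e2] at h2
    exact Acore_of_smul (h.hc k) h2
  -- step (b)
  have hb : Pm (ev 0 : Fin n → F) (ev (k + 1)) ∈ Acore H := by
    have h1 := ha 0 (by omega)
    have h2 := sub_mem (h.R1core h1) h1
    have e : cj Jm (Pm (ev 0 : Fin n → F) (ev (k + 1)) + c 0 • Pm (ev (0 + 1)) (ev (k + 1)))
        - (Pm (ev 0) (ev (k + 1)) + c 0 • Pm (ev (0 + 1)) (ev (k + 1)))
        = Pm (ev 0) (ev k) + c 0 • (Pm (ev 1) (ev k) + Pm (ev 0) (ev k))
          + c 0 • Pm (ev 0) (ev (k + 1)) := by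
      rw [map_add, map_smul, cj_Pm, cj_Pm, Jm_mulVec_ev_zero, Jm_mulVec_ev_succ k (by omega),
        Jm_mulVec_ev_succ 0 (by omega), Pm_add_right, Pm_add_right, Pm_add_left, Pm_add_left]
      simp only [zero_add]
      module
    rw [e] at h2
    have h3 := sub_mem h2 (add_mem (hK 0 k (by omega) le_rfl)
      ((Acore H).smul_mem (c 0) (add_mem (hK 1 k hk1 le_rfl) (hK 0 k (by omega) le_rfl))))
    rw [add_sub_cancel_left] at h3
    exact Acore_of_smul (h.hc 0) h3
  -- step (c)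
  have hY : ∀ i, i ≤ k → Pm (ev i : Fin n → F) (ev (k + 1)) ∈ Acore H := by
    intro i
    induction i with
    | zero => intro _; exact hb
    | succ i ih =>
      intro hi
      have h1 := sub_mem (ha i (by omega)) (ih (by omega))
      rw [add_sub_cancel_left] at h1
      exact Acore_of_smul (h.hc i) h1
  -- step (d)
  have hd : Pm (ev (k + 1) : Fin n → F) (ev (k + 1)) ∈ Acore H := by
    have h1 := h.R3core (hK k k le_rfl le_rfl) (Pm_mulVec_last k k (by omega) (by omega))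
    have e : cj (Lm c) (Pm (ev k : Fin n → F) (ev k)) = Pm (ev k) (ev k)
        + (c k + c k) • Pm (ev k) (ev (k + 1))
        + (c k * c k) • Pm (ev (k + 1)) (ev (k + 1)) := by
      rw [cj_Pm, Lm_mulVec_ev c k (by omega), Pm_add_left,
        Pm_add_right, Pm_add_right, Pm_smul_left, Pm_smul_left, Pm_smul_right, Pm_smul_right,
        smul_smul, Pm_comm (ev (k + 1)) (ev k)]
      module
    rw [e] at h1
    have h2 := sub_mem h1 (add_mem (hK k k le_rfl le_rfl)
      ((Acore H).smul_mem (c k + c k) (hY k le_rfl)))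
    rw [add_sub_cancel_left] at h2
    exact Acore_of_smul (mul_ne_zero (h.hc k) (h.hc k)) h2
  -- assemble
  intro i j hi hj
  by_cases hi' : i ≤ k
  · by_cases hj' : j ≤ k
    · exact hK i j hi' hj'
    · have : j = k + 1 := by omega
      rw [this]
      exact hY i hi'
  · have hi2 : i = k + 1 := by omega
    by_cases hj' : j ≤ k
    · rw [hi2, Pm_comm]
      exact hY j hj'
    · have : j = k + 1 := by omega
      rw [hi2, this]
      exact hd

theorem Ctx.known_all (h : Ctx H c t) (hK : Known H 1) : ∀ k, 1 ≤ k → k + 1 ≤ n → Known H k := by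
  intro k
  induction k with
  | zero => intro h0; omega
  | succ k ih =>
    intro _ hk
    by_cases hk0 : k = 0
    · subst hk0
      exact hK
    · exact h.climb k (by omega) (by omega) (ih (by omega) (by omega))

theorem Ctx.diag_climb (h : Ctx H c t) (k : ℕ) (hk2 : k + 2 ≤ n)
    (hR : Rm (ev k : Fin n → F) ∈ Acore H) (hP : Pm (ev k : Fin n → F) (ev (k + 1)) ∈ Acore H) :
    Rm (ev (k + 1) : Fin n → F) ∈ Acore H := by
  have h1 := h.R3core hR (Rm_mulVec_last k (by omega))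
  have e : cj (Lm c) (Rm (ev k : Fin n → F)) = Rm (ev k) + c k • Pm (ev k) (ev (k + 1))
      + (c k * c k) • Rm (ev (k + 1)) := by
    rw [cj_Rm, Lm_mulVec_ev c k (by omega), Rm_add, Rm_smul, Pm_smul_right]
    abel
  rw [e] at h1
  have h2 := sub_mem h1 (add_mem hR ((Acore H).smul_mem (c k) hP))
  rw [add_sub_cancel_left] at h2
  exact Acore_of_smul (mul_ne_zero (h.hc k) (h.hc k)) h2

theorem Ctx.diag_all (h : Ctx H c t) (hK : Known H (n - 1)) (hR : Rm (ev 0 : Fin n → F) ∈ Acore H) :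
    ∀ k, k + 1 ≤ n → Rm (ev k : Fin n → F) ∈ Acore H := by
  intro k
  induction k with
  | zero => intro _; exact hR
  | succ k ih =>
    intro hk
    exact h.diag_climb k (by omega) (ih (by omega)) (hK k (k + 1) (by omega) (by omega))

end Cfsg.Agent.Lib.Helper7.SpReg
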