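import Mathlib
import Cfsg.Agent.Lib.Helper7.SpRegC

/-!
# Three conjugate regular unipotent elements of `Sp₂ₙ(F)`: conjugacy of `uReg` and `VReg⁻¹` (helper7)
-/

set_option autoImplicit false
set_option linter.unusedSimpArgs false

namespace Cfsg.Agent.Lib.Helper7.SpReg

open Matrix Cfsg.Agent.H9.SpA Cfsg.Agent.Lib.Helper7.RegUnip

variable {n : ℕ} {F : Type*} [Field F]

/-- the element with matrix `J` -/
def Jel (n : ℕ) (F : Type*) [Field F] : SpG n F := ⟨Matrix.J (Fin n) F, SymplecticGroup.J_mem _ _⟩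

theorem Jel_val : (Jel n F).1 = fromBlocks 0 (-1) 1 0 := rfl

theorem conj_key {L Li J Ji D D' S0 T0 : Matrix (Fin n) (Fin n) F} (hL : L * Li = 1)
    (hJ : J * Ji = 1) (hD : D * D' = 1) (hDs : D.IsSymm)
    (hD's : D'.IsSymm) (hS0 : S0.IsSymm) (hT0 : T0.IsSymm)
    (h1 : L * D = D * Jᵀ) (h2 : D' * S0 = T0 * D) :
    (lev L Li hL * sieN T0 hT0) * (lev D D' hD * Jel n F) * (sie S0 hS0 * lev J Ji hJ)
      = lev D D' hD * Jel n F := by
  apply Subtype.ext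
  simp only [Submonoid.coe_mul, lev_val, sieN_val, sie_val, Jel_val, fromBlocks_multiply,
    Matrix.mul_one, Matrix.one_mul, Matrix.mul_zero, Matrix.zero_mul, add_zero, zero_add,
    Matrix.mul_neg, Matrix.neg_mul, neg_zero]
  have hJ' : Ji * J = 1 := mul_eq_one_comm.mp hJ
  have hD' : D' * D = 1 := mul_eq_one_comm.mp hD
  have e12 : L * D * Jiᵀ = D := by
    rw [h1, Matrix.mul_assoc, ← transpose_mul, hJ', transpose_one, Matrix.mul_one]
  have h3 : Lᵀ * D' = D' * J := by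
    have ht : D * Lᵀ = J * D := by
      have := congrArg transpose h1
      rwa [transpose_mul, transpose_mul, transpose_transpose, hDs.eq] at this
    calc Lᵀ * D' = D' * (D * Lᵀ) * D' := by
          rw [← Matrix.mul_assoc, hD', Matrix.one_mul]
      _ = D' * J := by rw [ht, Matrix.mul_assoc, Matrix.mul_assoc, hD, Matrix.mul_one]
  have e21 : Liᵀ * D'ᵀ * J = D'ᵀ := by
    rw [hD's.eq, Matrix.mul_assoc, ← h3, ← Matrix.mul_assoc, ← transpose_mul, hL, transpose_one,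
      Matrix.one_mul]
  have e22 : Liᵀ * D'ᵀ * (S0 * Jiᵀ) + -(Liᵀ * T0 * D * Jiᵀ) = 0 := by
    rw [hD's.eq, Matrix.mul_assoc Liᵀ D', ← Matrix.mul_assoc D', h2, Matrix.mul_assoc Liᵀ T0,
      ← Matrix.mul_assoc Liᵀ, add_neg_cancel]
  rw [e12, e21, e22]

/-- `uReg`-type and `VReg`-type elements are conjugate (up to inversion) -/
theorem conj_of_key {L Li J Ji D D' S0 T0 : Matrix (Fin n) (Fin n) F} (hL : L * Li = 1)
    (hJ : J * Ji = 1) (hD : D * D' = 1) (hDs : D.IsSymm)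
    (hD's : D'.IsSymm) (hS0 : S0.IsSymm) (hT0 : T0.IsSymm)
    (h1 : L * D = D * Jᵀ) (h2 : D' * S0 = T0 * D) :
    (lev D D' hD * Jel n F) * (sie S0 hS0 * lev J Ji hJ) * (lev D D' hD * Jel n F)⁻¹
      = (lev L Li hL * sieN T0 hT0)⁻¹ := by
  have key := conj_key hL hJ hD hDs hD's hS0 hT0 h1 h2
  generalize lev D D' hD * Jel n F = h at key ⊢
  generalize sie S0 hS0 * lev J Ji hJ = u at key ⊢
  generalize lev L Li hL * sieN T0 hT0 = V at key ⊢
  calc h * u * h⁻¹ = V⁻¹ * (V * h * u) * h⁻¹ := by group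
    _ = V⁻¹ := by rw [key, mul_inv_cancel_right]

/-- the subdiagonal parameters `(ζ, 1, 1, …)` -/
def cc (ζ : F) : ℕ → F := fun k => if k = 0 then ζ else 1

/-- the diagonal `(1, ζ, ζ, …)` -/
def dd (n : ℕ) (ζ : F) : Fin n → F := fun i => if i.val = 0 then 1 else ζ

theorem cc_ne_zero {ζ : F} (hζ : ζ ≠ 0) (k : ℕ) : cc ζ k ≠ 0 := by
  unfold cc
  split_ifs
  · exact hζ
  · exact one_ne_zero

theorem cc_zero (ζ : F) : cc ζ 0 = ζ := if_pos rfl

theorem cc_one (ζ : F) : cc ζ 1 = 1 := if_neg (by norm_num)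

theorem diag_dd_mul {ζ : F} (hζ : ζ ≠ 0) :
    (diagonal (dd n ζ) : Matrix (Fin n) (Fin n) F) * diagonal (dd n ζ⁻¹) = 1 := by
  rw [diagonal_mul_diagonal, ← diagonal_one]
  congr 1
  ext i
  unfold dd
  split_ifs
  · rw [mul_one]
  · rw [mul_inv_cancel₀ hζ]

theorem Lm_mul_diag (ζ : F) :
    (Lm (cc ζ) : Matrix (Fin n) (Fin n) F) * diagonal (dd n ζ) = diagonal (dd n ζ) * Jmᵀ := by
  ext i j
  rw [mul_diagonal, diagonal_mul, transpose_apply]
  simp only [Lm, Jm, Matrix.of_apply, dd, cc]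
  by_cases hij : i = j
  · subst hij
    rw [if_pos rfl, if_pos rfl, one_mul, mul_one]
  · have hji : ¬ j = i := fun h => hij h.symm
    rw [if_neg hij, if_neg hji]
    by_cases h1 : i.val = j.val + 1
    · have hi0 : ¬ i.val = 0 := by omega
      rw [if_pos h1, if_pos h1, if_neg hi0, mul_one]
      by_cases hj : j.val = 0
      · rw [if_pos hj, if_pos hj, mul_one]
      · rw [if_neg hj, if_neg hj, one_mul]
    · rw [if_neg h1, if_neg h1, zero_mul, mul_zero]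

theorem diag_mul_Rm_last (hn : 2 ≤ n) {ζ : F} (hζ : ζ ≠ 0) :
    (diagonal (dd n ζ⁻¹) : Matrix (Fin n) (Fin n) F) * Rm (ev (n - 1))
      = ((ζ⁻¹ * ζ⁻¹) • Rm (ev (n - 1))) * diagonal (dd n ζ) := by
  ext i j
  rw [mul_diagonal, diagonal_mul]
  simp only [Rm, vecMulVec_apply, Matrix.smul_apply, smul_eq_mul, ev_apply, dd]
  by_cases hi : i.val = n - 1
  · by_cases hj : j.val = n - 1
    · rw [if_pos hi, if_pos hj, if_neg (by omega), if_neg (by omega)]
      field_simp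
    · rw [if_neg hj, mul_zero, mul_zero, mul_zero, zero_mul]
  · rw [if_neg hi, zero_mul, mul_zero, mul_zero, zero_mul]

/-- `uReg` is conjugate to the inverse of `VReg (ζ, 1, 1, …) ζ⁻²` -/
theorem exists_conj (hn : 2 ≤ n) {ζ : F} (hζ : ζ ≠ 0) :
    ∃ h : SpG n F, h * uReg n F * h⁻¹ = (VReg n (cc ζ) (ζ⁻¹ * ζ⁻¹))⁻¹ := by
  rw [uReg_eq, VReg_eq]
  exact ⟨_, conj_of_key (Lm_mul_inv (cc ζ)) Jm_mul_inv (diag_dd_mul hζ) (isSymm_diagonal _)
    (isSymm_diagonal _) (isSymm_Rm _) (isSymm_smul (isSymm_Rm _) _) (Lm_mul_diag ζ)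
    (diag_mul_Rm_last hn hζ)⟩

end Cfsg.Agent.Lib.Helper7.SpReg
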