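import Mathlib
import Cfsg.Agent.Lib.Helper7.SpRegH
import Cfsg.Agent.Lib.SpRU.PCalc

/-!
# Three conjugate regular unipotent elements of `Sp₂ₙ(F)`: from the Siegel radical to everything
(helper7; the criterion `eq_top_of_siegel` is lead's)
-/

set_option autoImplicit false
set_option linter.unusedSimpArgs false

namespace Cfsg.Agent.Lib.Helper7.SpReg

open Matrix Cfsg.Agent.H9.SpA Cfsg.Agent.Lib.Helper7.RegUnip Cfsg.Agent.SpRU

variable {n : ℕ} {F : Type*} [Field F]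

theorem ev_vecMul_Lm (c : ℕ → F) (i : ℕ) (hi : i + 1 < n) :
    (ev (i + 1) : Fin n → F) ᵥ* Lm c = ev (i + 1) + c i • ev i := by
  rw [vecMul_ev _ (i + 1) hi]
  ext j
  simp only [Matrix.row_apply, Lm, Matrix.of_apply, Pi.add_apply, Pi.smul_apply, ev_apply,
    Fin.ext_iff, smul_eq_mul]
  by_cases h1 : i + 1 = j.val
  · have h1' : j.val = i + 1 := h1.symm
    have h2 : ¬ j.val = i := by omega
    rw [if_pos h1, if_pos h1', if_neg h2, mul_zero, add_zero]
  · have h1' : ¬ j.val = i + 1 := fun h => h1 h.symm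
    rw [if_neg h1, if_neg h1', zero_add]
    by_cases h2 : j.val = i
    · have h3 : i + 1 = j.val + 1 := by omega
      rw [if_pos h3, if_pos h2, mul_one, h2]
    · have h3 : ¬ i + 1 = j.val + 1 := by omega
      rw [if_neg h3, if_neg h2, mul_zero]

theorem VReg_inv_val (c : ℕ → F) (t : F) :
    ((VReg n c t)⁻¹).1 = fromBlocks (Lm c)⁻¹ 0 (-(t • Rm (ev (n - 1))) * (Lm c)⁻¹) (Lm c)ᵀ := by
  rw [VReg_eq, _root_.mul_inv_rev, lev_inv]
  have : (sieN (t • Rm (ev (n - 1) : Fin n → F)) (isSymm_smul (isSymm_Rm _) t))⁻¹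
      = sieN (-(t • Rm (ev (n - 1)))) (isSymm_smul (isSymm_Rm _) t).neg := by
    rw [inv_eq_iff_mul_eq_one, sieN_mul_sieN, ← sieN_zero]
    exact sieN_congr _ (by simp)
  rw [this, Submonoid.coe_mul, sieN_val, lev_val, fromBlocks_multiply]
  simp

theorem Lm_inv_mulVec_last (c : ℕ → F) (hn : 1 ≤ n) :
    (Lm c : Matrix (Fin n) (Fin n) F)⁻¹ *ᵥ ev (n - 1) = ev (n - 1) := by
  have h1 : (Lm c : Matrix (Fin n) (Fin n) F) *ᵥ ev (n - 1) = ev (n - 1) := by
    rw [Lm_mulVec_ev c (n - 1) (by omega), ev_eq_zero (n - 1 + 1) (by omega), smul_zero, add_zero]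
  conv_lhs => rw [← h1, mulVec_mulVec, mul_eq_one_comm.mp (Lm_mul_inv c), one_mulVec]

theorem VReg_inv_act1 (c : ℕ → F) (t : F) (hn : 1 ≤ n) :
    ((VReg n c t)⁻¹).1 *ᵥ vl (ev (n - 1)) = vl (ev (n - 1)) + (-t) • vr (ev (n - 1)) := by
  rw [VReg_inv_val]
  unfold vl vr
  rw [fromBlocks_mulVec, Sum.elim_comp_inl, Sum.elim_comp_inr, mulVec_zero, mulVec_zero, add_zero,
    add_zero, ← mulVec_mulVec, Lm_inv_mulVec_last c hn, neg_mulVec, smul_mulVec, Rm_mulVec,
    ev_dot_ev_self (by omega), one_smul]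
  ext (i | i) <;> simp

theorem VReg_inv_act2 (c : ℕ → F) (t : F) (i : ℕ) (hi : i + 1 < n) :
    ((VReg n c t)⁻¹).1 *ᵥ vr (ev (i + 1)) = vr (ev (i + 1)) + c i • vr (ev i) := by
  rw [VReg_inv_val]
  unfold vr
  rw [fromBlocks_mulVec, Sum.elim_comp_inl, Sum.elim_comp_inr, mulVec_zero, mulVec_zero, zero_add,
    zero_add, mulVec_transpose, ev_vecMul_Lm c i hi]
  ext (j | j) <;> simp

/-- a subgroup containing `VReg c t` and all Siegel elements is everything -/
theorem eq_top_of_all_sie {k : ℕ} {H : Subgroup (SpG (k + 1) F)} {c : ℕ → F} {t : F}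
    (hc : ∀ i, c i ≠ 0) (ht : t ≠ 0) (hV : VReg (k + 1) c t ∈ H)
    (hall : ∀ (S : Matrix (Fin (k + 1)) (Fin (k + 1)) F) (hS : S.IsSymm), sie S hS ∈ H) :
    H = ⊤ := by
  have hE : ∀ (a : Fin (k + 1) → F) (c' : F),
      Cfsg.Agent.Lib.Helper5.Symp.sympT (k + 1) (vl a) c' ∈ H := by
    intro a c'
    rw [sympT_vl]
    exact hall _ _
  have hlast : (Pi.single (Fin.last k) 1 : Fin (k + 1) → F) = ev (k + 1 - 1) := by
    rw [ev_eq_single (k + 1 - 1) (by omega)]
    rfl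
  refine eq_top_of_siegel H hE (VReg (k + 1) c t)⁻¹ (H.inv_mem hV) (-t) (neg_ne_zero.mpr ht) ?_
    (fun i => c i.val) (fun i => hc _) ?_
  · rw [hlast]
    exact VReg_inv_act1 c t (by omega)
  · intro i
    have h1 : (Pi.single i.succ 1 : Fin (k + 1) → F) = ev (i.val + 1) := by
      rw [ev_eq_single (i.val + 1) (by have := i.isLt; omega)]
      rfl
    have h2 : (Pi.single i.castSucc 1 : Fin (k + 1) → F) = ev i.val := by
      rw [ev_eq_single i.val (by have := i.isLt; omega)]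
      rfl
    rw [h1, h2]
    exact VReg_inv_act2 c t i.val (by have := i.isLt; omega)

end Cfsg.Agent.Lib.Helper7.SpReg
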