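import Mathlib
import Cfsg.Agent.Lib.Helper7.Pres4M
import Cfsg.Agent.Lib.Helper7.SpRegI

/-!
# Short presentation of `Sp₄(F)`: the six generators generate `Sp₄(F)` (helper7)
-/

set_option autoImplicit false
set_option linter.unusedSimpArgs false
set_option linter.unusedTactic false
set_option linter.unreachableTactic false

namespace Cfsg.Agent.Lib.Helper7.Pres4

open Matrix Cfsg.Agent.H9.SpA Cfsg.Agent.Lib.Helper7.Pres2 Cfsg.Agent.Lib.Helper7.RegUnip
  Cfsg.Agent.Lib.Helper7.SpReg Polynomial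

variable {F : Type*} [Field F]

theorem VReg_two (c : ℕ → F) (t : F) : VReg 2 c t = YAm (c 0) * YBm t := by
  have hL : (Lm c : Matrix (Fin 2) (Fin 2) F) = !![1, 0; c 0, 1] := by
    ext i j; fin_cases i <;> fin_cases j <;> simp [Lm]
  have hLi : (Lm c : Matrix (Fin 2) (Fin 2) F)⁻¹ = !![1, 0; -c 0, 1] := by
    apply Matrix.inv_eq_right_inv
    rw [hL]
    ext i j; fin_cases i <;> fin_cases j <;> simp [Matrix.mul_apply, Fin.sum_univ_two]
  have hR : (t • Rm (ev (2 - 1)) : Matrix (Fin 2) (Fin 2) F) = !![0, 0; 0, t] := by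
    ext i j; fin_cases i <;> fin_cases j <;> simp [Rm, ev, vecMulVec]
  apply Subtype.ext
  rw [VReg_eq, Submonoid.coe_mul, Submonoid.coe_mul, lev_val, sieN_val, hLi, hL, hR]
  simp only [YAm, YBm, mk4_val, fromBlocks_multiply]
  congr 1 <;>
  · ext i j
    fin_cases i <;> fin_cases j <;> simp [Matrix.mul_apply, Fin.sum_univ_two]

/-- a subgroup containing the two root `SL₂`'s is everything -/
theorem eq_top_of_ia_ib (H : Subgroup (SpG 2 F))
    (ha : ∀ g : Matrix.SpecialLinearGroup (Fin 2) F, iaHom g ∈ H)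
    (hb : ∀ g : Matrix.SpecialLinearGroup (Fin 2) F, ibHom g ∈ H) : H = ⊤ := by
  have hXA : ∀ c : F, XAm c ∈ H := fun c => by rw [← ia_slX]; exact ha _
  have hXB : ∀ c : F, XBm c ∈ H := fun c => by rw [← ib_slX]; exact hb _
  have hTA : (TAm : SpG 2 F) ∈ H := by rw [← ia_slT]; exact ha _
  have hTB : (TBm : SpG 2 F) ∈ H := by rw [← ib_slT]; exact hb _
  have hSV : ∀ c : F, SVm c ∈ H := by
    intro c
    have h1 : SVm c = TAm⁻¹ * XBm c * TAm := by
      rw [mul_assoc, XB_TA, inv_mul_cancel_left]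
    rw [h1]
    exact H.mul_mem (H.mul_mem (H.inv_mem hTA) (hXB c)) hTA
  have hSZ : ∀ c : F, SZm c ∈ H := by
    intro c
    have h1 : SZm c = TBm⁻¹ * XAm c * TBm := by
      rw [mul_assoc, XA_TB, inv_mul_cancel_left]
    rw [h1]
    exact H.mul_mem (H.mul_mem (H.inv_mem hTB) (hXA c)) hTB
  refine eq_top_of_all_sie (k := 1) (c := fun _ => 1) (t := 1) (fun _ => one_ne_zero) one_ne_zero
    ?_ ?_
  · rw [VReg_two, ← ia_slY, ← ib_slY]
    exact H.mul_mem (ha _) (hb _)
  · intro S hS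
    rw [sie_eq]
    exact H.mul_mem (H.mul_mem (hSV _) (hSZ _)) (hXB _)

/-- the six generators -/
def gen6 (ζ : Fˣ) : Fin 6 → SpG 2 F := ![XAm 1, TAm, HAm ζ, XBm 1, TBm, HBm ζ]

theorem gen6_closure (ζ : Fˣ) (d : ℤ)
    (hsurj : Function.Surjective (fun f : ℤ[X] => aeval ((ζ : F) ^ (2 * d)) f)) :
    Subgroup.closure (Set.range (gen6 ζ)) = ⊤ := by
  have hsl := sl_closure_eq_top ζ d hsurj
  have hmem : ∀ i, gen6 ζ i ∈ Subgroup.closure (Set.range (gen6 ζ)) :=
    fun i => Subgroup.subset_closure ⟨i, rfl⟩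
  apply eq_top_of_ia_ib
  · intro g
    have hg : g ∈ Subgroup.closure {slX (1 : F), slT, slH ζ} := by rw [hsl]; trivial
    have h1 : iaHom g ∈ (Subgroup.closure {slX (1 : F), slT, slH ζ}).map iaHom :=
      Subgroup.mem_map_of_mem _ hg
    rw [MonoidHom.map_closure] at h1
    refine (Subgroup.closure_le _).2 ?_ h1
    rintro _ ⟨x, (rfl | rfl | rfl), rfl⟩
    · rw [ia_slX]; exact hmem 0
    · rw [ia_slT]; exact hmem 1
    · rw [ia_slH]; exact hmem 2
  · intro g
    have hg : g ∈ Subgroup.closure {slX (1 : F), slT, slH ζ} := by rw [hsl]; trivial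
    have h1 : ibHom g ∈ (Subgroup.closure {slX (1 : F), slT, slH ζ}).map ibHom :=
      Subgroup.mem_map_of_mem _ hg
    rw [MonoidHom.map_closure] at h1
    refine (Subgroup.closure_le _).2 ?_ h1
    rintro _ ⟨x, (rfl | rfl | rfl), rfl⟩
    · rw [ib_slX]; exact hmem 3
    · rw [ib_slT]; exact hmem 4
    · rw [ib_slH]; exact hmem 5

end Cfsg.Agent.Lib.Helper7.Pres4
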