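import Mathlib
import Cfsg.Agent.Lib.Helper7.Pres4K
import Cfsg.Agent.Lib.Helper7.Pres2H

/-!
# Short presentation of `Sp₄(F)`: the relations from finitely many of them (helper7)

The relations `C2Rel` between two homomorphisms from `SL₂(F)` follow from fourteen relations
between the images of the generators `x(1)`, `n`, `h(ζ)`, where `ζ` generates `Fˣ`.
-/

set_option autoImplicit false
set_option linter.unusedSectionVars false

namespace Cfsg.Agent.Lib.Helper7.Pres4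

open Cfsg.Agent.Lib.Helper7.Pres2 Cfsg.Agent.Lib.Helper7.Pres3

section spreadacts

variable {F : Type*} [Field F] [Fintype F] {Γ : Type*} [Group Γ]

/-- an element acts on a family as soon as it does so on `X 1` and commutes with enough elements
acting through squares -/
theorem acts_of_one {X : F → Γ} (hX : IsAdd X) (d : Γ) (χ : F) (h1 : d * X 1 * d⁻¹ = X χ)
    (hsq : ∀ ν : Fˣ, ∃ e : Γ, Commute e d ∧ Acts e X ((ν : F) ^ 2)) : Acts d X χ := by
  let S : AddSubgroup F :=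
    { carrier := {c | d * X c * d⁻¹ = X (χ * c)}
      zero_mem' := by
        show d * X 0 * d⁻¹ = X (χ * 0)
        rw [mul_zero, hX.zero, mul_one, mul_inv_cancel]
      add_mem' := by
        intro a b ha hb
        show d * X (a + b) * d⁻¹ = X (χ * (a + b))
        rw [mul_add, hX, hX, ← ha, ← hb]
        group
      neg_mem' := by
        intro a ha
        show d * X (-a) * d⁻¹ = X (χ * (-a))
        rw [mul_neg, hX.neg, hX.neg, ← ha]
        group }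
  have hS : ∀ c, c ∈ S := by
    apply addSubgroup_eq_top_of_sq S
    · show d * X 1 * d⁻¹ = X (χ * 1)
      rw [mul_one, h1]
    · intro ν a ha
      obtain ⟨e, hed, he⟩ := hsq ν
      show d * X ((ν : F) ^ 2 * a) * d⁻¹ = X (χ * ((ν : F) ^ 2 * a))
      have ha' : d * X a * d⁻¹ = X (χ * a) := ha
      rw [← he a, mul_left_comm, ← he (χ * a), ← ha']
      have h2 : d * (e * X a * e⁻¹) * d⁻¹ = (d * e) * X a * (d * e)⁻¹ := by group
      have h3 : e * (d * X a * d⁻¹) * e⁻¹ = (e * d) * X a * (e * d)⁻¹ := by group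
      rw [h2, h3, hed.eq]
  exact fun c => hS c

end spreadacts

section main

variable {F : Type*} [Field F] [Fintype F] {Γ : Type*} [Group Γ]
  (φa φb : Matrix.SpecialLinearGroup (Fin 2) F →* Γ) (ζ : Fˣ)
  (hζgen : ∀ x : Fˣ, x ∈ Subgroup.zpowers ζ)

theorem rh_zpow (φ : Matrix.SpecialLinearGroup (Fin 2) F →* Γ) (l : Fˣ) (i : ℤ) :
    rh φ (l ^ i) = rh φ l ^ i := by
  unfold rh
  rw [← slH_zpow, map_zpow]

include hζgen in
/-- the fourteen relations give all of them -/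
theorem C2Rel.of_gens
    (M1 : Commute (rh φa ζ) (rh φb ζ))
    (M2 : rh φb ζ * rx φa 1 * (rh φb ζ)⁻¹ = rx φa ((ζ : F)⁻¹))
    (M3 : rh φa ζ * rx φb 1 * (rh φa ζ)⁻¹ = (rh φb ζ)⁻¹ * rx φb 1 * rh φb ζ)
    (M4 : rn φa * rh φb ζ * (rn φa)⁻¹ = rh φa ζ * rh φb ζ)
    (M5 : rn φb * rh φa ζ * (rn φb)⁻¹ = rh φa ζ * rh φb ζ * rh φb ζ)
    (M6 : rn φa * rn φb * rn φa * rn φb = rn φb * rn φa * rn φb * rn φa)
    (M7 : (rn φb * rn φa * (rn φb)⁻¹)⁻¹ * rx φa 1 * (rn φb * rn φa * (rn φb)⁻¹) = (rx φa 1)⁻¹)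
    (M8 : (rn φa * rn φb * (rn φa)⁻¹)⁻¹ * rx φb 1 * (rn φa * rn φb * (rn φa)⁻¹) = rx φb 1)
    (M9 : Commute (rx φa 1) (xv φa φb 1))
    (M10 : Commute (rx φb 1) (xz φa φb 1))
    (M11 : Commute (xz φa φb 1) (xv φa φb 1))
    (M12 : Commute (rx φb 1) (xv φa φb 1))
    (M13 : rx φa 1 * rx φb 1 * (rx φa 1)⁻¹ = rx φb 1 * xz φa φb 1 * xv φa φb 1)
    (M14 : rx φa 1 * xz φa φb 1 * (rx φa 1)⁻¹ = xz φa φb 1 * xv φa φb 1 * xv φa φb 1) :
    C2Rel φa φb := by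
  have hζ0 : (ζ : F) ≠ 0 := ζ.ne_zero
  have hpow : ∀ x : Fˣ, ∃ i : ℤ, x = ζ ^ i := by
    intro x
    obtain ⟨i, hi⟩ := Subgroup.mem_zpowers_iff.1 (hζgen x)
    exact ⟨i, hi.symm⟩
  -- H1
  have H1 : ∀ l m : Fˣ, Commute (rh φa l) (rh φb m) := by
    intro l m
    obtain ⟨i, rfl⟩ := hpow l
    obtain ⟨j, rfl⟩ := hpow m
    rw [rh_zpow, rh_zpow]
    exact Commute.zpow_zpow M1 i j
  -- H2
  have H2ζ : Acts (rh φb ζ) (rx φa) ((ζ : F)⁻¹) := by
    apply acts_of_one (rx_isAdd φa) _ _ M2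
    intro ν
    exact ⟨rh φa ν, H1 ν ζ, rh_acts φa ν⟩
  have H2 : ∀ m : Fˣ, Acts (rh φb m) (rx φa) ((m : F)⁻¹) := by
    intro m
    obtain ⟨j, rfl⟩ := hpow m
    rw [rh_zpow]
    have := Acts.zpow (inv_ne_zero hζ0) H2ζ j
    refine this.congr_scalar ?_
    rw [Units.val_zpow_eq_zpow_val, inv_zpow]
  -- H3
  have H3ζ : Acts (rh φa ζ) (rx φb) (((ζ : F) ^ 2)⁻¹) := by
    apply acts_of_one (rx_isAdd φb)
    · rw [M3]
      have h1 : Acts (rh φb ζ)⁻¹ (rx φb) (((ζ : F) ^ 2)⁻¹) :=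
        Acts.inv (pow_ne_zero 2 hζ0) (rh_acts φb ζ)
      have h2 := h1 1
      rw [inv_inv, mul_one] at h2
      exact h2
    · intro ν
      exact ⟨rh φb ν, (H1 ζ ν).symm, rh_acts φb ν⟩
  have H3 : ∀ l : Fˣ, Acts (rh φa l) (rx φb) (((l : F) ^ 2)⁻¹) := by
    intro l
    obtain ⟨i, rfl⟩ := hpow l
    rw [rh_zpow]
    have := Acts.zpow (inv_ne_zero (pow_ne_zero 2 hζ0)) H3ζ i
    refine this.congr_scalar ?_
    rw [Units.val_zpow_eq_zpow_val, inv_zpow, ← zpow_natCast, ← zpow_natCast, ← zpow_mul,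
      ← zpow_mul, mul_comm]
  -- H4
  have H4 : ∀ m : Fˣ, rn φa * rh φb m * (rn φa)⁻¹ = rh φa m * rh φb m := by
    intro m
    obtain ⟨j, rfl⟩ := hpow m
    rw [rh_zpow, rh_zpow, ← Commute.mul_zpow M1, ← M4]
    exact (conj_zpow (a := rn φa) (b := rh φb ζ) (i := j)).symm
  -- H5
  have H5 : ∀ l : Fˣ, rn φb * rh φa l * (rn φb)⁻¹ = rh φa l * rh φb (l * l) := by
    intro l
    obtain ⟨i, rfl⟩ := hpow l
    have hc : Commute (rh φa ζ) (rh φb ζ * rh φb ζ) := Commute.mul_right M1 M1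
    rw [← mul_zpow, rh_zpow, rh_zpow, rh_mul, ← Commute.mul_zpow hc, ← mul_assoc, ← M5]
    exact (conj_zpow (a := rn φb) (b := rh φa ζ) (i := i)).symm
  refine ⟨H1, H2, H3, H4, H5, M6, ?_, ?_, M9, M10, M11, M12, ?_, ?_⟩
  · rw [M7, ← (rx_isAdd φa).neg]
    exact fam_mem _ _
  · rw [M8]
    exact fam_mem _ _
  · rw [M13]
    refine Subgroup.mul_mem _ (Subgroup.mul_mem _ ?_ ?_) ?_
    · exact Subgroup.mem_sup_left (Subgroup.mem_sup_left (fam_mem _ _))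
    · exact Subgroup.mem_sup_left (Subgroup.mem_sup_right (fam_mem (xz_isAdd φa φb) _))
    · exact Subgroup.mem_sup_right (fam_mem (xv_isAdd φa φb) _)
  · rw [M14]
    refine Subgroup.mul_mem _ (Subgroup.mul_mem _ ?_ ?_) ?_
    · exact Subgroup.mem_sup_left (Subgroup.mem_sup_right (fam_mem (xz_isAdd φa φb) _))
    · exact Subgroup.mem_sup_right (fam_mem (xv_isAdd φa φb) _)
    · exact Subgroup.mem_sup_right (fam_mem (xv_isAdd φa φb) _)

end main

end Cfsg.Agent.Lib.Helper7.Pres4
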