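import Mathlib
import Cfsg.Agent.Lib.Helper7.Pres4B
import Cfsg.Agent.Lib.Helper7.Pres4N

/-!
# Short presentation of `Sp₄(F)`: the relator words and their values in `Sp₄(F)` (helper7)
-/

set_option autoImplicit false
set_option linter.unusedSectionVars false

namespace Cfsg.Agent.Lib.Helper7.Pres4

open Cfsg.Agent.H9.SpA Cfsg.Agent.Lib.Helper7.Pres2 Polynomial

/-- words in six letters -/
abbrev W6 : Type := FreeGroup (Fin 6)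

/-- the letters of the short root `SL₂` -/
def emA : Fin 3 → Fin 6 := ![0, 1, 2]
/-- the letters of the long root `SL₂` -/
def emB : Fin 3 → Fin 6 := ![3, 4, 5]
/-- words of the short root `SL₂` -/
def mapA : W3 →* W6 := FreeGroup.map emA
/-- words of the long root `SL₂` -/
def mapB : W3 →* W6 := FreeGroup.map emB

/-- the six letters -/
def w6u : W6 := FreeGroup.of 0
def w6t : W6 := FreeGroup.of 1
def w6k : W6 := FreeGroup.of 2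
def w6v : W6 := FreeGroup.of 3
def w6s : W6 := FreeGroup.of 4
def w6l : W6 := FreeGroup.of 5
/-- the root element of `a + b` -/
def w6xz : W6 := w6s⁻¹ * w6u * w6s
/-- the root element of `2a + b` -/
def w6xv : W6 := w6t⁻¹ * w6v * w6t

theorem mapA_fu : mapA fu = w6u := by simp [mapA, fu, w6u, emA]
theorem mapA_ft : mapA ft = w6t := by simp [mapA, ft, w6t, emA]
theorem mapA_fh : mapA fh = w6k := by simp [mapA, fh, w6k, emA]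
theorem mapB_fu : mapB fu = w6v := by simp [mapB, fu, w6v, emB]
theorem mapB_ft : mapB ft = w6s := by simp [mapB, ft, w6s, emB]
theorem mapB_fh : mapB fh = w6l := by simp [mapB, fh, w6l, emB]

/-- the fourteen mixed relators -/
noncomputable def mixed (d : ℤ) (fzi : ℤ[X]) : List W6 :=
  [ w6k * w6l * w6k⁻¹ * w6l⁻¹,
    w6l * w6u * w6l⁻¹ * (mapA (pw fu fh d fzi))⁻¹,
    w6k * w6v * w6k⁻¹ * (w6l⁻¹ * w6v * w6l)⁻¹,
    w6t * w6l * w6t⁻¹ * (w6k * w6l)⁻¹,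
    w6s * w6k * w6s⁻¹ * (w6k * w6l * w6l)⁻¹,
    w6t * w6s * w6t * w6s * (w6s * w6t * w6s * w6t)⁻¹,
    (w6s * w6t * w6s⁻¹)⁻¹ * w6u * (w6s * w6t * w6s⁻¹) * w6u,
    (w6t * w6s * w6t⁻¹)⁻¹ * w6v * (w6t * w6s * w6t⁻¹) * w6v⁻¹,
    w6u * w6xv * w6u⁻¹ * w6xv⁻¹,
    w6v * w6xz * w6v⁻¹ * w6xz⁻¹,
    w6xz * w6xv * w6xz⁻¹ * w6xv⁻¹,
    w6v * w6xv * w6v⁻¹ * w6xv⁻¹,
    w6u * w6v * w6u⁻¹ * (w6v * w6xz * w6xv)⁻¹,
    w6u * w6xz * w6u⁻¹ * (w6xz * w6xv * w6xv)⁻¹ ]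

theorem mixed_length (d : ℤ) (fzi : ℤ[X]) : (mixed d fzi).length = 14 := rfl

section sp

variable {F : Type*} [Field F]

/-- evaluation of words in `Sp₄(F)` -/
def ev6 (ζ : Fˣ) : W6 →* SpG 2 F := FreeGroup.lift (gen6 ζ)

variable (ζ : Fˣ)

theorem ev6_u : ev6 ζ w6u = XAm 1 := by simp [ev6, w6u, gen6]
theorem ev6_t : ev6 ζ w6t = TAm := by simp [ev6, w6t, gen6]
theorem ev6_k : ev6 ζ w6k = HAm ζ := by simp [ev6, w6k, gen6]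
theorem ev6_v : ev6 ζ w6v = XBm 1 := by simp [ev6, w6v, gen6]
theorem ev6_s : ev6 ζ w6s = TBm := by simp [ev6, w6s, gen6]
theorem ev6_l : ev6 ζ w6l = HBm ζ := by simp [ev6, w6l, gen6]

theorem ev6_xz : ev6 ζ w6xz = SZm 1 := by
  unfold w6xz
  rw [map_mul, map_mul, map_inv, ev6_s, ev6_u, mul_assoc, XA_TB, inv_mul_cancel_left]

theorem ev6_xv : ev6 ζ w6xv = SVm 1 := by
  unfold w6xv
  rw [map_mul, map_mul, map_inv, ev6_t, ev6_v, mul_assoc, XB_TA, inv_mul_cancel_left]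

theorem ev6_mapA (w : W3) : ev6 ζ (mapA w) = iaHom (slev ζ w) := by
  have h : (ev6 ζ).comp mapA = (iaHom (F := F)).comp (slev ζ) := by
    ext i
    fin_cases i
    · simp [ev6, mapA, emA, gen6, slev, slgen, ia_slX]
    · simp [ev6, mapA, emA, gen6, slev, slgen, ia_slT]
    · simp [ev6, mapA, emA, gen6, slev, slgen, ia_slH]
  exact DFunLike.congr_fun h w

theorem ev6_mapB (w : W3) : ev6 ζ (mapB w) = ibHom (slev ζ w) := by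
  have h : (ev6 ζ).comp mapB = (ibHom (F := F)).comp (slev ζ) := by
    ext i
    fin_cases i
    · simp [ev6, mapB, emB, gen6, slev, slgen, ib_slX]
    · simp [ev6, mapB, emB, gen6, slev, slgen, ib_slT]
    · simp [ev6, mapB, emB, gen6, slev, slgen, ib_slH]
  exact DFunLike.congr_fun h w

theorem XAm_add (a b : F) : XAm (a + b) = XAm a * XAm b := by
  rw [← ia_slX, ← ia_slX, ← ia_slX, slX_add, map_mul]

theorem HBm_mul (l m : Fˣ) : HBm (l * m) = HBm l * HBm m := by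
  rw [← ib_slH, ← ib_slH, ← ib_slH, slH_mul, map_mul]

/-! ### the fourteen relations in `Sp₄(F)` -/

theorem sp_M1 : HAm ζ * HBm ζ * (HAm ζ)⁻¹ * (HBm ζ)⁻¹ = 1 := by
  rw [HA_HB]; group

theorem sp_M2 : HBm ζ * XAm 1 * (HBm ζ)⁻¹ * (XAm ((ζ : F)⁻¹))⁻¹ = 1 := by
  rw [HB_XA, mul_one]; group

theorem sp_M3 : HAm ζ * XBm 1 * (HAm ζ)⁻¹ * ((HBm ζ)⁻¹ * XBm 1 * HBm ζ)⁻¹ = 1 := by
  have e2 : HBm ζ * XBm (((ζ : F) ^ 2)⁻¹ * 1) = XBm 1 * HBm ζ := by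
    rw [HB_XB, mul_one, mul_inv_cancel₀ (pow_ne_zero 2 ζ.ne_zero)]
  rw [HA_XB, mul_assoc (HBm ζ)⁻¹, ← e2]
  group

theorem sp_M4 : TAm * HBm ζ * TAm⁻¹ * (HAm ζ * HBm ζ)⁻¹ = 1 := by
  rw [TA_HB]; group

theorem sp_M5 : TBm * HAm ζ * TBm⁻¹ * (HAm ζ * HBm ζ * HBm ζ)⁻¹ = 1 := by
  rw [TB_HA, HBm_mul]; group

theorem sp_M6 : TAm * TBm * TAm * TBm * (TBm * TAm * TBm * TAm (F := F))⁻¹ = 1 := by
  rw [braid4, mul_inv_cancel]

theorem sp_M7 : (TBm * TAm * TBm⁻¹)⁻¹ * XAm 1 * (TBm * TAm * TBm⁻¹) * XAm (1 : F) = 1 := by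
  have e1 : XAm (1 : F) * (TBm * TAm * TBm⁻¹) = (TBm * TAm * TBm⁻¹) * XAm (-1) := by
    have h3 : SZm (-1 : F) * TBm⁻¹ = TBm⁻¹ * XAm (-1) := by
      rw [eq_inv_mul_iff_mul_eq, ← mul_assoc, ← XA_TB, mul_inv_cancel_right]
    calc XAm (1 : F) * (TBm * TAm * TBm⁻¹) = (XAm 1 * TBm) * TAm * TBm⁻¹ := by group
      _ = TBm * (SZm 1 * TAm) * TBm⁻¹ := by rw [XA_TB]; group
      _ = TBm * TAm * (SZm (-1) * TBm⁻¹) := by rw [SZ_TA]; group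
      _ = _ := by rw [h3]; group
  have e2 : XAm (-1 : F) * XAm 1 = 1 := by
    rw [← XAm_add, neg_add_cancel, ← ia_slX, slX_zero, map_one]
  rw [mul_assoc (TBm * TAm * TBm⁻¹)⁻¹, e1, inv_mul_cancel_left, e2]

theorem sp_M8 : (TAm * TBm * TAm⁻¹)⁻¹ * XBm 1 * (TAm * TBm * TAm⁻¹) * (XBm (1 : F))⁻¹ = 1 := by
  have e1 : XBm (1 : F) * (TAm * TBm * TAm⁻¹) = (TAm * TBm * TAm⁻¹) * XBm 1 := by
    have h3 : SVm (1 : F) * TAm⁻¹ = TAm⁻¹ * XBm 1 := by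
      rw [eq_inv_mul_iff_mul_eq, ← mul_assoc, ← XB_TA, mul_inv_cancel_right]
    calc XBm (1 : F) * (TAm * TBm * TAm⁻¹) = (XBm 1 * TAm) * TBm * TAm⁻¹ := by group
      _ = TAm * (SVm 1 * TBm) * TAm⁻¹ := by rw [XB_TA]; group
      _ = TAm * TBm * (SVm 1 * TAm⁻¹) := by rw [SV_TB]; group
      _ = _ := by rw [h3]; group
  rw [mul_assoc (TAm * TBm * TAm⁻¹)⁻¹, e1, inv_mul_cancel_left, mul_inv_cancel]

theorem sp_M9 : XAm 1 * SVm 1 * (XAm 1)⁻¹ * (SVm (1 : F))⁻¹ = 1 := by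
  rw [XA_SV]; group

theorem sp_M10 : XBm 1 * SZm 1 * (XBm 1)⁻¹ * (SZm (1 : F))⁻¹ = 1 := by
  rw [XB_SZ]; group

theorem sp_M11 : SZm 1 * SVm 1 * (SZm 1)⁻¹ * (SVm (1 : F))⁻¹ = 1 := by
  rw [SZ_SV]; group

theorem sp_M12 : XBm 1 * SVm 1 * (XBm 1)⁻¹ * (SVm (1 : F))⁻¹ = 1 := by
  rw [XB_SV]; group

theorem sp_M13 : XAm 1 * XBm 1 * (XAm 1)⁻¹ * (XBm 1 * SZm 1 * SVm (1 : F))⁻¹ = 1 := by
  rw [XA_XB, mul_one, mul_one]; group

theorem sp_M14 : XAm 1 * SZm 1 * (XAm 1)⁻¹ * (SZm 1 * SVm 1 * SVm (1 : F))⁻¹ = 1 := by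
  have h2 : SVm (2 * 1 * 1 : F) = SVm 1 * SVm 1 := by
    rw [← SV_add]; congr 1; norm_num
  rw [XA_SZ, h2]; group

end sp

end Cfsg.Agent.Lib.Helper7.Pres4
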