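import Mathlib
import Cfsg.Agent.Lib.Helper7.Pres4O
import Cfsg.Agent.Lib.Helper7.Pres4P

/-!
# Short presentation of `Sp₄(F)`: the presented group (helper7)
-/

set_option autoImplicit false
set_option linter.unusedSectionVars false
set_option linter.unusedSimpArgs false

namespace Cfsg.Agent.Lib.Helper7.Pres4

open Cfsg.Agent.H9.SpA Cfsg.Agent.Lib.Helper7.Pres2 Cfsg.Agent.Lib.Helper7.Pres3 Polynomial

variable {F : Type*} [Field F] [Fintype F] {p : ℕ} [Fact p.Prime] [Algebra (ZMod p) F] [CharP F p]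
  {ζ : Fˣ}

/-- the relators of `Sp₄(F)` -/
noncomputable def rels6 (D : SchemeData (F := F) p ζ) : List W6 :=
  D.rels.map mapA ++ D.rels.map mapB ++ mixed D.d D.fzi

theorem rels6_length (D : SchemeData (F := F) p ζ) : (rels6 D).length ≤ 30 := by
  unfold rels6
  rw [List.length_append, List.length_append, List.length_map, List.length_map, mixed_length]
  have := D.rels_length
  omega

theorem slev_pw_fzi (D : SchemeData (F := F) p ζ) :
    slev ζ (pw fu fh D.d D.fzi) = slX ((ζ : F)⁻¹) := by
  rw [map_pw, slev_fu, slev_fh, pw_sl, D.hfzi]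

/-- the relators hold in `Sp₄(F)` -/
theorem rels6_sp (D : SchemeData (F := F) p ζ) : ∀ r ∈ rels6 D, ev6 ζ r = 1 := by
  intro r hr
  unfold rels6 at hr
  rw [List.mem_append, List.mem_append, List.mem_map, List.mem_map] at hr
  rcases hr with (⟨w, hw, rfl⟩ | ⟨w, hw, rfl⟩) | hr
  · rw [ev6_mapA, D.rels_sl w hw, map_one]
  · rw [ev6_mapB, D.rels_sl w hw, map_one]
  · unfold mixed at hr
    simp only [List.mem_cons, List.not_mem_nil, or_false] at hr
    rcases hr with rfl | rfl | rfl | rfl | rfl | rfl | rfl | rfl | rfl | rfl | rfl | rfl | rfl | rfl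
    · simp only [map_mul, map_inv, ev6_u, ev6_t, ev6_k, ev6_v, ev6_s, ev6_l, ev6_xz, ev6_xv]
      exact sp_M1 ζ
    · simp only [map_mul, map_inv, ev6_u, ev6_t, ev6_k, ev6_v, ev6_s, ev6_l, ev6_xz, ev6_xv,
        ev6_mapA, slev_pw_fzi, ia_slX]
      exact sp_M2 ζ
    · simp only [map_mul, map_inv, ev6_u, ev6_t, ev6_k, ev6_v, ev6_s, ev6_l, ev6_xz, ev6_xv]
      exact sp_M3 ζ
    · simp only [map_mul, map_inv, ev6_u, ev6_t, ev6_k, ev6_v, ev6_s, ev6_l, ev6_xz, ev6_xv]
      exact sp_M4 ζ
    · simp only [map_mul, map_inv, ev6_u, ev6_t, ev6_k, ev6_v, ev6_s, ev6_l, ev6_xz, ev6_xv]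
      exact sp_M5 ζ
    · simp only [map_mul, map_inv, ev6_u, ev6_t, ev6_k, ev6_v, ev6_s, ev6_l, ev6_xz, ev6_xv]
      exact sp_M6
    · simp only [map_mul, map_inv, ev6_u, ev6_t, ev6_k, ev6_v, ev6_s, ev6_l, ev6_xz, ev6_xv]
      exact sp_M7
    · simp only [map_mul, map_inv, ev6_u, ev6_t, ev6_k, ev6_v, ev6_s, ev6_l, ev6_xz, ev6_xv]
      exact sp_M8
    · simp only [map_mul, map_inv, ev6_u, ev6_t, ev6_k, ev6_v, ev6_s, ev6_l, ev6_xz, ev6_xv]
      exact sp_M9
    · simp only [map_mul, map_inv, ev6_u, ev6_t, ev6_k, ev6_v, ev6_s, ev6_l, ev6_xz, ev6_xv]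
      exact sp_M10
    · simp only [map_mul, map_inv, ev6_u, ev6_t, ev6_k, ev6_v, ev6_s, ev6_l, ev6_xz, ev6_xv]
      exact sp_M11
    · simp only [map_mul, map_inv, ev6_u, ev6_t, ev6_k, ev6_v, ev6_s, ev6_l, ev6_xz, ev6_xv]
      exact sp_M12
    · simp only [map_mul, map_inv, ev6_u, ev6_t, ev6_k, ev6_v, ev6_s, ev6_l, ev6_xz, ev6_xv]
      exact sp_M13
    · simp only [map_mul, map_inv, ev6_u, ev6_t, ev6_k, ev6_v, ev6_s, ev6_l, ev6_xz, ev6_xv]
      exact sp_M14

/-! ### the presented group -/

section presented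

variable {Γ : Type*} [Group Γ] (π : W6 →* Γ)

theorem lift_emA (w : W3) :
    FreeGroup.lift (fun i => π (FreeGroup.of (emA i))) w = π (mapA w) := by
  have h : FreeGroup.lift (fun i => π (FreeGroup.of (emA i))) = π.comp mapA := by
    ext i
    simp [mapA]
  rw [h]
  rfl

theorem lift_emB (w : W3) :
    FreeGroup.lift (fun i => π (FreeGroup.of (emB i))) w = π (mapB w) := by
  have h : FreeGroup.lift (fun i => π (FreeGroup.of (emB i))) = π.comp mapB := by
    ext i
    simp [mapB]
  rw [h]
  rfl

theorem commute_of_comm_eq_one {a b : Γ} (h : a * b * a⁻¹ * b⁻¹ = 1) : Commute a b := by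
  show a * b = b * a
  have := mul_inv_eq_one.1 h
  calc a * b = a * b * a⁻¹ * a := by group
    _ = b * a := by rw [this]

/-- a group with six elements satisfying the relators is, if generated by them, of order at most
`|Sp₄(F)|` -/
theorem card_le_of_rels (D : SchemeData (F := F) p ζ) (hζgen : ∀ x : Fˣ, x ∈ Subgroup.zpowers ζ)
    (hπ : ∀ r ∈ rels6 D, π r = 1)
    (hgen : Subgroup.closure (Set.range fun i : Fin 6 => π (FreeGroup.of i)) = ⊤) :
    Finite Γ ∧ Nat.card Γ ≤
      (1 + Fintype.card F + Fintype.card F + Fintype.card F * Fintype.card F +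
        Fintype.card F * Fintype.card F + Fintype.card F * Fintype.card F * Fintype.card F +
        Fintype.card F * Fintype.card F * Fintype.card F +
        Fintype.card F * Fintype.card F * Fintype.card F * Fintype.card F) *
        (Fintype.card F * Fintype.card F * Fintype.card F * Fintype.card F *
          (Fintype.card F - 1) ^ 2) := by
  have hA : ∀ r ∈ D.rels, FreeGroup.lift (fun i => π (FreeGroup.of (emA i))) r = 1 := by
    intro r hr
    rw [lift_emA]
    apply hπ
    unfold rels6
    exact List.mem_append_left _ (List.mem_append_left _ (List.mem_map_of_mem hr))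
  have hB : ∀ r ∈ D.rels, FreeGroup.lift (fun i => π (FreeGroup.of (emB i))) r = 1 := by
    intro r hr
    rw [lift_emB]
    apply hπ
    unfold rels6
    exact List.mem_append_left _ (List.mem_append_right _ (List.mem_map_of_mem hr))
  obtain ⟨φa, a0, a1, a2, aw⟩ := D.exists_hom hζgen _ hA
  obtain ⟨φb, b0, b1, b2, bw⟩ := D.exists_hom hζgen _ hB
  have hu : rx φa 1 = π w6u := a0
  have ht : rn φa = π w6t := a1
  have hk : rh φa ζ = π w6k := a2
  have hv : rx φb 1 = π w6v := b0
  have hs : rn φb = π w6s := b1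
  have hl : rh φb ζ = π w6l := b2
  have hzi : rx φa ((ζ : F)⁻¹) = π (mapA (pw fu fh D.d D.fzi)) := by
    unfold rx
    rw [← slev_pw_fzi D, aw, lift_emA]
  have hxz : xz φa φb 1 = π w6xz := by
    unfold xz w6xz
    rw [hs, hu, map_mul, map_mul, map_inv]
  have hxv : xv φa φb 1 = π w6xv := by
    unfold xv w6xv
    rw [ht, hv, map_mul, map_mul, map_inv]
  have hmix : ∀ r ∈ mixed D.d D.fzi, π r = 1 := by
    intro r hr
    apply hπ
    unfold rels6
    exact List.mem_append_right _ hr
  have R : C2Rel φa φb := by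
    apply C2Rel.of_gens φa φb ζ hζgen
    · rw [hk, hl]
      apply commute_of_comm_eq_one
      have := hmix (w6k * w6l * w6k⁻¹ * w6l⁻¹) (by unfold mixed; simp)
      simpa only [map_mul, map_inv] using this
    · rw [hl, hu, hzi]
      have := hmix (w6l * w6u * w6l⁻¹ * (mapA (pw fu fh D.d D.fzi))⁻¹) (by unfold mixed; simp)
      rw [map_mul, map_inv, mul_inv_eq_one] at this
      simpa only [map_mul, map_inv] using this
    · rw [hk, hl, hv]
      have := hmix (w6k * w6v * w6k⁻¹ * (w6l⁻¹ * w6v * w6l)⁻¹) (by unfold mixed; simp)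
      rw [map_mul, map_inv, mul_inv_eq_one] at this
      simpa only [map_mul, map_inv] using this
    · rw [hk, hl, ht]
      have := hmix (w6t * w6l * w6t⁻¹ * (w6k * w6l)⁻¹) (by unfold mixed; simp)
      rw [map_mul, map_inv, mul_inv_eq_one] at this
      simpa only [map_mul, map_inv] using this
    · rw [hk, hl, hs]
      have := hmix (w6s * w6k * w6s⁻¹ * (w6k * w6l * w6l)⁻¹) (by unfold mixed; simp)
      rw [map_mul, map_inv, mul_inv_eq_one] at this
      simpa only [map_mul, map_inv] using this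
    · rw [ht, hs]
      have := hmix (w6t * w6s * w6t * w6s * (w6s * w6t * w6s * w6t)⁻¹) (by unfold mixed; simp)
      rw [map_mul, map_inv, mul_inv_eq_one] at this
      simpa only [map_mul, map_inv] using this
    · rw [ht, hs, hu]
      have := hmix ((w6s * w6t * w6s⁻¹)⁻¹ * w6u * (w6s * w6t * w6s⁻¹) * w6u)
        (by unfold mixed; simp)
      rw [map_mul, mul_eq_one_iff_eq_inv] at this
      simpa only [map_mul, map_inv] using this
    · rw [ht, hs, hv]
      have := hmix ((w6t * w6s * w6t⁻¹)⁻¹ * w6v * (w6t * w6s * w6t⁻¹) * w6v⁻¹)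
        (by unfold mixed; simp)
      rw [map_mul, map_inv, mul_inv_eq_one] at this
      simpa only [map_mul, map_inv] using this
    · rw [hu, hxv]
      apply commute_of_comm_eq_one
      have := hmix (w6u * w6xv * w6u⁻¹ * w6xv⁻¹) (by unfold mixed; simp)
      simpa only [map_mul, map_inv] using this
    · rw [hv, hxz]
      apply commute_of_comm_eq_one
      have := hmix (w6v * w6xz * w6v⁻¹ * w6xz⁻¹) (by unfold mixed; simp)
      simpa only [map_mul, map_inv] using this
    · rw [hxz, hxv]
      apply commute_of_comm_eq_one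
      have := hmix (w6xz * w6xv * w6xz⁻¹ * w6xv⁻¹) (by unfold mixed; simp)
      simpa only [map_mul, map_inv] using this
    · rw [hv, hxv]
      apply commute_of_comm_eq_one
      have := hmix (w6v * w6xv * w6v⁻¹ * w6xv⁻¹) (by unfold mixed; simp)
      simpa only [map_mul, map_inv] using this
    · rw [hu, hv, hxz, hxv]
      have := hmix (w6u * w6v * w6u⁻¹ * (w6v * w6xz * w6xv)⁻¹) (by unfold mixed; simp)
      rw [map_mul, map_inv, mul_inv_eq_one] at this
      simpa only [map_mul, map_inv] using this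
    · rw [hu, hxz, hxv]
      have := hmix (w6u * w6xz * w6u⁻¹ * (w6xz * w6xv * w6xv)⁻¹) (by unfold mixed; simp)
      rw [map_mul, map_inv, mul_inv_eq_one] at this
      simpa only [map_mul, map_inv] using this
  apply R.card_le
  rw [eq_top_iff, ← hgen]
  apply Subgroup.closure_mono
  rintro _ ⟨i, rfl⟩
  fin_cases i
  · left; left; left
    exact hu.symm
  · left; left; right
    exact ht.symm
  · left; right
    exact ⟨ζ, hk⟩
  · right; left; left
    exact hv.symm
  · right; left; right
    exact hs.symm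
  · right; right
    exact ⟨ζ, hl⟩

end presented

end Cfsg.Agent.Lib.Helper7.Pres4
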