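import Mathlib
import Cfsg.Agent.Lib.Helper7.Pres4Q
import Cfsg.Agent.S0245
import Cfsg.Agent.S0246

/-!
# Short presentation of `Sp₄(F)` and `PSp₄(F)`: the final assembly (helper7)
-/

set_option autoImplicit false
set_option linter.unusedSectionVars false
set_option linter.unusedSimpArgs false

namespace Cfsg.Agent.Lib.Helper7.Pres4

open Matrix Cfsg.Agent.H9.SpA Cfsg.Agent.Lib.Helper7.Pres2 Cfsg.Agent.Lib.Helper7.Pres3 Polynomial

section center

variable {F : Type*} [Field F]

theorem TA_sq_val : (TAm * TAm : SpG 2 F).1 = -1 := by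
  simp only [Submonoid.coe_mul, TAm, mk4_val, fromBlocks_multiply]
  rw [← fromBlocks_one, fromBlocks_neg]
  congr 1 <;>
  · ext i j
    fin_cases i <;> fin_cases j <;> simp [Matrix.mul_apply, Fin.sum_univ_two]

theorem TA_sq_mem_center : (TAm * TAm : SpG 2 F) ∈ Subgroup.center (SpG 2 F) := by
  rw [Subgroup.mem_center_iff]
  intro g
  apply Subtype.ext
  show g.1 * (TAm * TAm : SpG 2 F).1 = (TAm * TAm : SpG 2 F).1 * g.1
  rw [TA_sq_val, mul_neg_one, neg_one_mul]

theorem two_eq_zero_of_TA_sq (h : (TAm * TAm : SpG 2 F) = 1) : (2 : F) = 0 := by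
  have h1 := congrArg Subtype.val h
  rw [TA_sq_val, one_val, fromBlocks_one] at h1
  have h2 := congrFun (congrFun h1 (Sum.inl 0)) (Sum.inl 0)
  simp only [Matrix.neg_apply, Matrix.one_apply_eq] at h2
  have : (2 : F) = 1 - (-1) := by ring
  rw [this, h2, sub_self]

end center

theorem bound_eq (q : ℕ) (hq : 1 ≤ q) :
    (1 + q + q + q * q + q * q + q * q * q + q * q * q + q * q * q * q) *
        (q * q * q * q * (q - 1) ^ 2)
      = q ^ (2 ^ 2) * ∏ i ∈ Finset.range 2, (q ^ (2 * (i + 1)) - 1) := by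
  obtain ⟨r, rfl⟩ : ∃ r, q = r + 1 := ⟨q - 1, by omega⟩
  have h2 : (r + 1) ^ (2 * (0 + 1)) - 1 = r * (r + 2) := by
    apply Nat.sub_eq_of_eq_add; ring
  have h4 : (r + 1) ^ (2 * (1 + 1)) - 1 = r * (r + 2) * ((r + 1) ^ 2 + 1) := by
    apply Nat.sub_eq_of_eq_add; ring
  rw [Finset.prod_range_succ, Finset.prod_range_one, h2, h4, Nat.add_sub_cancel]
  ring

theorem card_sp4 (F : Type*) [Field F] [Fintype F] :
    Nat.card (SpG 2 F) =
      (1 + Fintype.card F + Fintype.card F + Fintype.card F * Fintype.card F +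
        Fintype.card F * Fintype.card F + Fintype.card F * Fintype.card F * Fintype.card F +
        Fintype.card F * Fintype.card F * Fintype.card F +
        Fintype.card F * Fintype.card F * Fintype.card F * Fintype.card F) *
        (Fintype.card F * Fintype.card F * Fintype.card F * Fintype.card F *
          (Fintype.card F - 1) ^ 2) := by
  rw [bound_eq _ Fintype.card_pos]
  exact Cfsg.Agent.S0245.result rfl 2

/-- **the presentations** of `Sp₄(F)` and `PSp₄(F)` -/
theorem main_lists6 {F : Type*} [Field F] [Fintype F] :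
    ∃ L : List W6, L.length ≤ 30 ∧
      Nonempty (PresentedGroup (↑L.toFinset : Set W6) ≃* Matrix.symplecticGroup (Fin 2) F) ∧
      Nonempty (PresentedGroup (↑(insert (w6t * w6t) L.toFinset) : Set W6) ≃*
        Cfsg.PSp 2 F) := by
  classical
  obtain ⟨p, hchar⟩ := CharP.exists F
  have := hchar
  have hp : Fact p.Prime := ⟨CharP.char_is_prime F p⟩
  letI : Algebra (ZMod p) F := ZMod.algebra F p
  obtain ⟨n, -, hcard⟩ := FiniteField.card F p
  obtain ⟨ζ, hζgen⟩ := IsCyclic.exists_generator (α := Fˣ)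
  obtain ⟨D⟩ := exists_schemeData p ζ hζgen
  refine ⟨rels6 D, rels6_length D, ?_⟩
  -- the symplectic group
  have hrel : ∀ r ∈ (↑(rels6 D).toFinset : Set W6), FreeGroup.lift (gen6 ζ) r = 1 := by
    intro r hr
    rw [Finset.mem_coe, List.mem_toFinset] at hr
    exact rels6_sp D r hr
  have hev_surj : Function.Surjective (ev6 ζ) := by
    rw [← MonoidHom.range_eq_top, eq_top_iff, ← gen6_closure ζ D.d D.hsurj, Subgroup.closure_le]
    rintro _ ⟨i, rfl⟩
    exact ⟨FreeGroup.of i, by simp [ev6]⟩
  have hf_surj : Function.Surjective (PresentedGroup.toGroup hrel) := by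
    intro g
    obtain ⟨w, rfl⟩ := hev_surj g
    exact ⟨PresentedGroup.mk _ w, toGroup_mk hrel w⟩
  obtain ⟨hfin, hle⟩ := card_le_of_rels (PresentedGroup.mk (↑(rels6 D).toFinset : Set W6)) D hζgen
    (fun r hr => PresentedGroup.one_of_mem (by rw [Finset.mem_coe, List.mem_toFinset]; exact hr))
    (PresentedGroup.closure_range_of _)
  rw [← card_sp4 F] at hle
  have hbij : Function.Bijective (PresentedGroup.toGroup hrel) :=
    hf_surj.bijective_of_nat_card_le hle
  let e := MulEquiv.ofBijective _ hbij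
  refine ⟨⟨e⟩, ?_⟩
  -- the projective symplectic group
  have hsub : ∀ r ∈ (↑(rels6 D).toFinset : Set W6),
      r ∈ (↑(insert (w6t * w6t) (rels6 D).toFinset) : Set W6) := by
    intro r hr
    rw [Finset.mem_coe] at hr ⊢
    exact Finset.mem_insert_of_mem hr
  have hself : w6t * w6t ∈ (↑(insert (w6t * w6t) (rels6 D).toFinset) : Set W6) := by
    rw [Finset.mem_coe]
    exact Finset.mem_insert_self _ _
  -- the canonical map between the two presented groups
  have hlift : ∀ w : W6, FreeGroup.lift (fun i : Fin 6 =>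
      PresentedGroup.mk (↑(insert (w6t * w6t) (rels6 D).toFinset) : Set W6) (FreeGroup.of i)) w =
      PresentedGroup.mk _ w := by
    intro w
    have h : FreeGroup.lift (fun i : Fin 6 =>
        PresentedGroup.mk (↑(insert (w6t * w6t) (rels6 D).toFinset) : Set W6) (FreeGroup.of i)) =
        PresentedGroup.mk _ := by
      ext i
      simp
    rw [h]
  have hψrel : ∀ r ∈ (↑(rels6 D).toFinset : Set W6), FreeGroup.lift (fun i : Fin 6 =>
      PresentedGroup.mk (↑(insert (w6t * w6t) (rels6 D).toFinset) : Set W6) (FreeGroup.of i)) r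
      = 1 := by
    intro r hr
    rw [hlift]
    exact PresentedGroup.one_of_mem (hsub r hr)
  let ψ := PresentedGroup.toGroup hψrel
  have hψ_surj : Function.Surjective ψ := by
    intro y
    obtain ⟨w, rfl⟩ := PresentedGroup.mk_surjective _ y
    refine ⟨PresentedGroup.mk _ w, ?_⟩
    show PresentedGroup.toGroup hψrel (PresentedGroup.mk _ w) = _
    rw [toGroup_mk, hlift]
  let χ : SpG 2 F →* PresentedGroup (↑(insert (w6t * w6t) (rels6 D).toFinset) : Set W6) :=
    ψ.comp e.symm.toMonoidHom
  have hχ_surj : Function.Surjective χ := hψ_surj.comp e.symm.surjective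
  have hχ_T : χ (TAm * TAm) = 1 := by
    have h1 : e (PresentedGroup.mk _ (w6t * w6t)) = TAm * TAm := by
      show PresentedGroup.toGroup hrel (PresentedGroup.mk _ (w6t * w6t)) = _
      rw [toGroup_mk]
      show ev6 ζ (w6t * w6t) = _
      rw [map_mul, ev6_t]
    have h2 : e.symm (TAm * TAm) = PresentedGroup.mk _ (w6t * w6t) := by
      rw [← h1, MulEquiv.symm_apply_apply]
    show ψ (e.symm (TAm * TAm)) = 1
    rw [h2]
    show PresentedGroup.toGroup hψrel (PresentedGroup.mk _ (w6t * w6t)) = _
    rw [toGroup_mk, hlift]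
    exact PresentedGroup.one_of_mem hself
  have : Finite (PresentedGroup (↑(insert (w6t * w6t) (rels6 D).toFinset) : Set W6)) :=
    Finite.of_surjective χ hχ_surj
  -- cardinalities
  have hcK : Nat.card (SpG 2 F) =
      Nat.card (PresentedGroup (↑(insert (w6t * w6t) (rels6 D).toFinset) : Set W6)) *
        Nat.card χ.ker := by
    rw [Subgroup.card_eq_card_quotient_mul_card_subgroup χ.ker]
    congr 1
    exact Nat.card_congr (QuotientGroup.quotientKerEquivOfSurjective χ hχ_surj).toEquiv
  have hcZ : Nat.card (SpG 2 F) =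
      Nat.card (Cfsg.PSp 2 F) * Nat.card (Subgroup.center (SpG 2 F)) :=
    Subgroup.card_eq_card_quotient_mul_card_subgroup _
  have hZ : Nat.card (Subgroup.center (SpG 2 F)) = Nat.gcd 2 (Fintype.card F - 1) :=
    Cfsg.Agent.S0246.result rfl 2 (by norm_num)
  have hKpos : 0 < Nat.card χ.ker := Nat.card_pos
  have hZK : Nat.card (Subgroup.center (SpG 2 F)) ≤ Nat.card χ.ker := by
    rw [hZ]
    by_cases hT : (TAm * TAm : SpG 2 F) = 1
    · have h2 : (2 : F) = 0 := two_eq_zero_of_TA_sq hT
      have hp2 : p = 2 := by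
        have h2' : ((2 : ℕ) : F) = 0 := by exact_mod_cast h2
        have := (CharP.cast_eq_zero_iff F p 2).1 h2'
        exact (Nat.prime_dvd_prime_iff_eq hp.out Nat.prime_two).1 this
      have heven : 2 ∣ Fintype.card F := by
        rw [hcard, hp2]
        exact dvd_pow_self 2 n.ne_zero
      have hg1 : Nat.gcd 2 (Fintype.card F - 1) = 1 := by
        have hd2 : Nat.gcd 2 (Fintype.card F - 1) ∣ 2 := Nat.gcd_dvd_left _ _
        have hdq : Nat.gcd 2 (Fintype.card F - 1) ∣ Fintype.card F - 1 := Nat.gcd_dvd_right _ _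
        rcases (Nat.dvd_prime Nat.prime_two).1 hd2 with h | h
        · exact h
        · exfalso
          rw [h] at hdq
          have hpos : 0 < Fintype.card F := Fintype.card_pos
          omega
      rw [hg1]
      exact hKpos
    · have hle2 : Nat.gcd 2 (Fintype.card F - 1) ≤ 2 := Nat.gcd_le_left _ (by norm_num)
      refine hle2.trans ?_
      have hmem : (TAm * TAm : SpG 2 F) ∈ χ.ker := MonoidHom.mem_ker.2 hχ_T
      have hne : (⟨TAm * TAm, hmem⟩ : χ.ker) ≠ 1 := by
        intro h
        exact hT (congrArg Subtype.val h)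
      have : Finite χ.ker := inferInstance
      have : 1 < Nat.card χ.ker := by
        rw [Finite.one_lt_card_iff_nontrivial]
        exact ⟨⟨_, _, hne⟩⟩
      omega
  have hle' : Nat.card (PresentedGroup (↑(insert (w6t * w6t) (rels6 D).toFinset) : Set W6)) ≤
      Nat.card (Cfsg.PSp 2 F) := by
    have h1 : Nat.card (PresentedGroup (↑(insert (w6t * w6t) (rels6 D).toFinset) : Set W6)) *
        Nat.card χ.ker ≤ Nat.card (Cfsg.PSp 2 F) * Nat.card χ.ker := by
      rw [← hcK, hcZ]
      exact Nat.mul_le_mul_left _ hZK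
    exact Nat.le_of_mul_le_mul_right h1 hKpos
  -- the homomorphism to the projective group
  have hlift' : ∀ w : W6, FreeGroup.lift (fun i : Fin 6 =>
      QuotientGroup.mk' (Subgroup.center (SpG 2 F)) (gen6 ζ i)) w =
      QuotientGroup.mk' (Subgroup.center (SpG 2 F)) (ev6 ζ w) := by
    intro w
    have h : FreeGroup.lift (fun i : Fin 6 =>
        QuotientGroup.mk' (Subgroup.center (SpG 2 F)) (gen6 ζ i)) =
        (QuotientGroup.mk' (Subgroup.center (SpG 2 F))).comp (ev6 ζ) := by
      ext i
      simp [ev6]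
    rw [h]
    rfl
  have hrel' : ∀ r ∈ (↑(insert (w6t * w6t) (rels6 D).toFinset) : Set W6),
      FreeGroup.lift (fun i : Fin 6 =>
        QuotientGroup.mk' (Subgroup.center (SpG 2 F)) (gen6 ζ i)) r = 1 := by
    intro r hr
    rw [hlift']
    rw [Finset.mem_coe, Finset.mem_insert] at hr
    rcases hr with rfl | hr
    · rw [map_mul (ev6 ζ), ev6_t]
      exact (QuotientGroup.eq_one_iff _).2 TA_sq_mem_center
    · rw [List.mem_toFinset] at hr
      rw [rels6_sp D r hr, map_one]
  have hf'_surj : Function.Surjective (PresentedGroup.toGroup hrel') := by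
    intro y
    obtain ⟨g, rfl⟩ := QuotientGroup.mk'_surjective (Subgroup.center (SpG 2 F)) y
    obtain ⟨w, rfl⟩ := hev_surj g
    refine ⟨PresentedGroup.mk _ w, ?_⟩
    rw [toGroup_mk, hlift']
  exact ⟨MulEquiv.ofBijective _ (hf'_surj.bijective_of_nat_card_le hle')⟩

end Cfsg.Agent.Lib.Helper7.Pres4
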