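import Mathlib

/-!
# Local `p`-stability triples and their transport (for S5206)

A *triple* `(H, R, K)` in a group: `K ≤ R ≤ H`, `R` a `p`-group, `H` normalizing `R` and `K`.
The triple is *stable* when every element of `H` acting quadratically on `R / K` lies in
`O_p(H mod C_H(R / K))`.
-/

set_option autoImplicit false

namespace Cfsg.Agent.Lib.Helper7.QdLoc

open scoped commutatorElement

section defs
variable {G : Type*} [Group G]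

/-- `g` acts quadratically on `R` modulo `K`. -/
def QuadOn (R K : Subgroup G) (g : G) : Prop := ∀ x ∈ R, ⁅⁅x, g⁆, g⁆ ∈ K

/-- `g` acts trivially on `R` modulo `K`. -/
def CentOn (R K : Subgroup G) (g : G) : Prop := ∀ x ∈ R, ⁅x, g⁆ ∈ K

/-- `g` lies in `O_p(H mod C_H(R / K))`. -/
def InOp (p : ℕ) (H R K : Subgroup G) (g : G) : Prop :=
  ∃ D : Subgroup G, D ≤ H ∧ (∀ h ∈ H, ∀ d ∈ D, h * d * h⁻¹ ∈ D) ∧ g ∈ D ∧
    ∀ d ∈ D, ∃ k : ℕ, CentOn R K (d ^ p ^ k)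

/-- local triple -/
structure IsTriple (p : ℕ) (H R K : Subgroup G) : Prop where
  pgroup : IsPGroup p ↥R
  le : K ≤ R
  RH : R ≤ H
  normR : H ≤ Subgroup.normalizer (R : Set G)
  normK : H ≤ Subgroup.normalizer (K : Set G)

/-- stability of a triple -/
def Stable (p : ℕ) (H R K : Subgroup G) : Prop :=
  ∀ g ∈ H, QuadOn R K g → InOp p H R K g

end defs

section link
variable {A : Type*} {B : Type*} [Group A] [Group B]

/-- correspondence of acting elements -/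
def Corr (Θ : A → B → Prop) (a : A) (b : B) : Prop :=
  ∀ x y, Θ x y → Θ (a * x * a⁻¹) (b * y * b⁻¹) ∧ Θ (a⁻¹ * x * a) (b⁻¹ * y * b)

theorem Corr.one (Θ : A → B → Prop) : Corr Θ 1 1 := by
  intro x y h
  simp only [one_mul, inv_one, mul_one]
  exact ⟨h, h⟩

theorem Corr.mul {Θ : A → B → Prop} {a a' : A} {b b' : B} (h : Corr Θ a b) (h' : Corr Θ a' b') :
    Corr Θ (a * a') (b * b') := by
  intro x y hxy
  constructor
  · have h1 := (h' x y hxy).1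
    have h2 := (h _ _ h1).1
    have e1 : a * a' * x * (a * a')⁻¹ = a * (a' * x * a'⁻¹) * a⁻¹ := by group
    have e2 : b * b' * y * (b * b')⁻¹ = b * (b' * y * b'⁻¹) * b⁻¹ := by group
    rw [e1, e2]; exact h2
  · have h1 := (h x y hxy).2
    have h2 := (h' _ _ h1).2
    have e1 : (a * a')⁻¹ * x * (a * a') = a'⁻¹ * (a⁻¹ * x * a) * a' := by group
    have e2 : (b * b')⁻¹ * y * (b * b') = b'⁻¹ * (b⁻¹ * y * b) * b' := by group
    rw [e1, e2]; exact h2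

theorem Corr.inv {Θ : A → B → Prop} {a : A} {b : B} (h : Corr Θ a b) : Corr Θ a⁻¹ b⁻¹ := by
  intro x y hxy
  have := h x y hxy
  simp only [inv_inv]
  exact ⟨this.2, this.1⟩

theorem Corr.pow {Θ : A → B → Prop} {a : A} {b : B} (h : Corr Θ a b) (n : ℕ) :
    Corr Θ (a ^ n) (b ^ n) := by
  induction n with
  | zero => simp only [pow_zero]; exact Corr.one Θ
  | succ n ih => rw [pow_succ, pow_succ]; exact ih.mul h

/-- the link between two triples -/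
structure Link (H₁ R₁ K₁ : Subgroup A) (H₂ R₂ K₂ : Subgroup B) (Θ : A → B → Prop) : Prop where
  tot₁ : ∀ x ∈ R₁, ∃ y ∈ R₂, Θ x y
  tot₂ : ∀ y ∈ R₂, ∃ x ∈ R₁, Θ x y
  mul : ∀ x x' y y', Θ x y → Θ x' y' → Θ (x * x') (y * y')
  inv : ∀ x y, Θ x y → Θ x⁻¹ y⁻¹
  mem : ∀ x y, Θ x y → (x ∈ K₁ ↔ y ∈ K₂)
  corr₁ : ∀ h₁ ∈ H₁, ∃ h₂ ∈ H₂, Corr Θ h₁ h₂
  corr₂ : ∀ h₂ ∈ H₂, ∃ h₁ ∈ H₁, Corr Θ h₁ h₂

variable {H₁ R₁ K₁ : Subgroup A} {H₂ R₂ K₂ : Subgroup B} {Θ : A → B → Prop}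

theorem Link.symm (L : Link H₁ R₁ K₁ H₂ R₂ K₂ Θ) :
    Link H₂ R₂ K₂ H₁ R₁ K₁ (fun y x => Θ x y) where
  tot₁ := fun y hy => by
    obtain ⟨x, hx, h⟩ := L.tot₂ y hy
    exact ⟨x, hx, h⟩
  tot₂ := fun x hx => by
    obtain ⟨y, hy, h⟩ := L.tot₁ x hx
    exact ⟨y, hy, h⟩
  mul := fun y y' x x' h h' => L.mul x x' y y' h h'
  inv := fun y x h => L.inv x y h
  mem := fun y x h => (L.mem x y h).symm
  corr₁ := fun h₂ hh₂ => by
    obtain ⟨h₁, hh₁, hc⟩ := L.corr₂ h₂ hh₂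
    exact ⟨h₁, hh₁, fun y x hxy => hc x y hxy⟩
  corr₂ := fun h₁ hh₁ => by
    obtain ⟨h₂, hh₂, hc⟩ := L.corr₁ h₁ hh₁
    exact ⟨h₂, hh₂, fun y x hxy => hc x y hxy⟩

theorem Link.comm (L : Link H₁ R₁ K₁ H₂ R₂ K₂ Θ) {a : A} {b : B} (hc : Corr Θ a b)
    {x : A} {y : B} (h : Θ x y) : Θ ⁅x, a⁆ ⁅y, b⁆ := by
  have h1 := (hc _ _ (L.inv x y h)).1
  have h2 := L.mul _ _ _ _ h h1
  have e1 : ⁅x, a⁆ = x * (a * x⁻¹ * a⁻¹) := by rw [commutatorElement_def]; group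
  have e2 : ⁅y, b⁆ = y * (b * y⁻¹ * b⁻¹) := by rw [commutatorElement_def]; group
  rw [e1, e2]; exact h2

/-- **Transport of stability** along a link. -/
theorem Link.stable (p : ℕ) (L : Link H₁ R₁ K₁ H₂ R₂ K₂ Θ) (hst : Stable p H₂ R₂ K₂) :
    Stable p H₁ R₁ K₁ := by
  intro g₁ hg₁ hq
  obtain ⟨g₂, hg₂, hc⟩ := L.corr₁ g₁ hg₁
  have hq₂ : QuadOn R₂ K₂ g₂ := by
    intro y hy
    obtain ⟨x, hx, hxy⟩ := L.tot₂ y hy
    have h1 := L.comm hc hxy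
    have h2 := L.comm hc h1
    exact (L.mem _ _ h2).mp (hq x hx)
  obtain ⟨D₂, hD₂H, hD₂n, hgD₂, hD₂p⟩ := hst g₂ hg₂ hq₂
  let D₁ : Subgroup A :=
    { carrier := {a | a ∈ H₁ ∧ ∃ d ∈ D₂, Corr Θ a d}
      one_mem' := ⟨H₁.one_mem, 1, D₂.one_mem, Corr.one Θ⟩
      mul_mem' := by
        rintro a a' ⟨ha, d, hd, hcd⟩ ⟨ha', d', hd', hcd'⟩
        exact ⟨H₁.mul_mem ha ha', d * d', D₂.mul_mem hd hd', hcd.mul hcd'⟩
      inv_mem' := by
        rintro a ⟨ha, d, hd, hcd⟩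
        exact ⟨H₁.inv_mem ha, d⁻¹, D₂.inv_mem hd, hcd.inv⟩ }
  refine ⟨D₁, fun a ha => ha.1, ?_, ⟨hg₁, g₂, hgD₂, hc⟩, ?_⟩
  · rintro h hh a ⟨ha, d, hd, hcd⟩
    obtain ⟨h₂, hh₂, hch⟩ := L.corr₁ h hh
    exact ⟨H₁.mul_mem (H₁.mul_mem hh ha) (H₁.inv_mem hh), h₂ * d * h₂⁻¹, hD₂n h₂ hh₂ d hd,
      (hch.mul hcd).mul hch.inv⟩
  · rintro a ⟨ha, d, hd, hcd⟩
    obtain ⟨k, hk⟩ := hD₂p d hd
    refine ⟨k, fun x hx => ?_⟩
    obtain ⟨y, hy, hxy⟩ := L.tot₁ x hx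
    have h1 := L.comm (hcd.pow (p ^ k)) hxy
    exact (L.mem _ _ h1).mpr (hk y hy)

theorem Link.stable_iff (p : ℕ) (L : Link H₁ R₁ K₁ H₂ R₂ K₂ Θ) :
    Stable p H₁ R₁ K₁ ↔ Stable p H₂ R₂ K₂ :=
  ⟨fun h => L.symm.stable p h, fun h => L.stable p h⟩

end link

section hom
variable {A : Type*} {B : Type*} [Group A] [Group B]

/-- the link of a triple with its image under a homomorphism injective on `R` modulo `K` -/
theorem Link.of_hom (f : A →* B) (H R K : Subgroup A)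
    (hnorm : H ≤ Subgroup.normalizer (R : Set A)) (hKR : K ≤ R) (hker : R ⊓ f.ker ≤ K) :
    Link H R K (H.map f) (R.map f) (K.map f) (fun x y => x ∈ R ∧ f x = y) where
  tot₁ := fun x hx => ⟨f x, Subgroup.mem_map_of_mem f hx, hx, rfl⟩
  tot₂ := by
    rintro _ ⟨x, hx, rfl⟩
    exact ⟨x, hx, hx, rfl⟩
  mul := by
    rintro x x' _ _ ⟨hx, rfl⟩ ⟨hx', rfl⟩
    exact ⟨R.mul_mem hx hx', map_mul f x x'⟩
  inv := by
    rintro x _ ⟨hx, rfl⟩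
    exact ⟨R.inv_mem hx, map_inv f x⟩
  mem := by
    rintro x _ ⟨hx, rfl⟩
    constructor
    · intro h; exact Subgroup.mem_map_of_mem f h
    · rintro ⟨k, hk, hkx⟩
      have h1 : k⁻¹ * x ∈ R ⊓ f.ker := by
        refine ⟨R.mul_mem (R.inv_mem (hKR hk)) hx, ?_⟩
        show k⁻¹ * x ∈ f.ker
        rw [MonoidHom.mem_ker, map_mul, map_inv, hkx, inv_mul_cancel]
      have h2 := K.mul_mem hk (hker h1)
      rwa [mul_inv_cancel_left] at h2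
  corr₁ := by
    intro h hh
    refine ⟨f h, Subgroup.mem_map_of_mem f hh, ?_⟩
    rintro x _ ⟨hx, rfl⟩
    have hn := hnorm hh
    refine ⟨⟨(Subgroup.mem_normalizer_iff.mp hn x).mp hx, by simp⟩, ⟨?_, by simp⟩⟩
    have := (Subgroup.mem_normalizer_iff.mp ((Subgroup.normalizer (R : Set A)).inv_mem hn) x).mp hx
    simpa using this
  corr₂ := by
    rintro _ ⟨h, hh, rfl⟩
    refine ⟨h, hh, ?_⟩
    rintro x _ ⟨hx, rfl⟩
    have hn := hnorm hh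
    refine ⟨⟨(Subgroup.mem_normalizer_iff.mp hn x).mp hx, by simp⟩, ⟨?_, by simp⟩⟩
    have := (Subgroup.mem_normalizer_iff.mp ((Subgroup.normalizer (R : Set A)).inv_mem hn) x).mp hx
    simpa using this

/-- two subgroups inducing the same automorphisms of `R` -/
theorem Link.of_same_action {H H' R K : Subgroup A}
    (hnorm : H ≤ Subgroup.normalizer (R : Set A))
    (h₁ : ∀ h ∈ H, ∃ h' ∈ H', h'⁻¹ * h ∈ Subgroup.centralizer (R : Set A))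
    (h₂ : ∀ h' ∈ H', ∃ h ∈ H, h'⁻¹ * h ∈ Subgroup.centralizer (R : Set A)) :
    Link H R K H' R K (fun x y => x ∈ R ∧ x = y) where
  tot₁ := fun x hx => ⟨x, hx, hx, rfl⟩
  tot₂ := fun x hx => ⟨x, hx, hx, rfl⟩
  mul := by
    rintro x x' _ _ ⟨hx, rfl⟩ ⟨hx', rfl⟩
    exact ⟨R.mul_mem hx hx', rfl⟩
  inv := by
    rintro x _ ⟨hx, rfl⟩
    exact ⟨R.inv_mem hx, rfl⟩
  mem := by
    rintro x _ ⟨hx, rfl⟩
    exact Iff.rfl
  corr₁ := by
    intro h hh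
    obtain ⟨h', hh', hc⟩ := h₁ h hh
    refine ⟨h', hh', ?_⟩
    rintro x _ ⟨hx, rfl⟩
    have hn := hnorm hh
    have hxn : h * x * h⁻¹ ∈ R := (Subgroup.mem_normalizer_iff.mp hn x).mp hx
    have hxn' : h⁻¹ * x * h ∈ R := by
      have := (Subgroup.mem_normalizer_iff.mp ((Subgroup.normalizer (R : Set A)).inv_mem hn) x).mp hx
      simpa using this
    rw [Subgroup.mem_centralizer_iff] at hc
    refine ⟨⟨hxn, ?_⟩, ⟨hxn', ?_⟩⟩
    · -- h x h⁻¹ = h' x h'⁻¹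
      have e := hc x hx
      -- x * (h'⁻¹ h) = (h'⁻¹ h) * x
      have : h * x * h⁻¹ = h' * ((h'⁻¹ * h) * x * (h'⁻¹ * h)⁻¹) * h'⁻¹ := by group
      rw [this, ← e]; group
    · have e := hc _ hxn'
      -- (h⁻¹ x h) commutes with h'⁻¹ h
      have : h'⁻¹ * x * h' = (h'⁻¹ * h) * (h⁻¹ * x * h) * (h'⁻¹ * h)⁻¹ := by group
      rw [this, ← e]; group
  corr₂ := by
    intro h' hh'
    obtain ⟨h, hh, hc⟩ := h₂ h' hh'
    refine ⟨h, hh, ?_⟩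
    rintro x _ ⟨hx, rfl⟩
    have hn := hnorm hh
    have hxn : h * x * h⁻¹ ∈ R := (Subgroup.mem_normalizer_iff.mp hn x).mp hx
    have hxn' : h⁻¹ * x * h ∈ R := by
      have := (Subgroup.mem_normalizer_iff.mp ((Subgroup.normalizer (R : Set A)).inv_mem hn) x).mp hx
      simpa using this
    rw [Subgroup.mem_centralizer_iff] at hc
    refine ⟨⟨hxn, ?_⟩, ⟨hxn', ?_⟩⟩
    · have e := hc x hx
      have : h * x * h⁻¹ = h' * ((h'⁻¹ * h) * x * (h'⁻¹ * h)⁻¹) * h'⁻¹ := by group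
      rw [this, ← e]; group
    · have e := hc _ hxn'
      have : h'⁻¹ * x * h' = (h'⁻¹ * h) * (h⁻¹ * x * h) * (h'⁻¹ * h)⁻¹ := by group
      rw [this, ← e]; group

end hom

end Cfsg.Agent.Lib.Helper7.QdLoc
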