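import Mathlib
import Cfsg.Prelude.Def_Transfer
import Cfsg.Prelude.Def_PLocal
import Cfsg.Prelude.Def_LocalEven
import Cfsg.Agent.H1.Cores
import Cfsg.Agent.Lib.Helper7.Qd8
import Cfsg.Agent.Lib.Helper7.QuadQdC

set_option autoImplicit false
set_option linter.style.haveILetI false
set_option linter.unusedSectionVars false
set_option linter.unusedVariables false

open scoped commutatorElement Pointwise

namespace Cfsg.Agent.Lib.Helper7.QuadLin
universe u v

section nsinj
variable {p : ℕ} [Fact p.Prime]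

/-- normalizer-form `p`-stability is inherited along injective homomorphisms -/
theorem isNormalizerPStable_of_injective {G : Type u} [Group G] {B : Type v} [Group B]
    (f : B →* G) (hf : Function.Injective f)
    (hst : Cfsg.IsNormalizerPStable p G) : Cfsg.IsNormalizerPStable p B := by
  intro P' hP' g hg hquad
  -- transport to `G`
  have hP : IsPGroup p ↥(P'.map f) := hP'.map f
  have hgG : f g ∈ Subgroup.normalizer ((P'.map f : Subgroup G) : Set G) :=
    Subgroup.le_normalizer_map f ⟨g, hg, rfl⟩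
  have hquadG : ⁅⁅P'.map f, Subgroup.zpowers (f g)⁆, Subgroup.zpowers (f g)⁆ = ⊥ := by
    have e : Subgroup.zpowers (f g) = (Subgroup.zpowers g).map f := by
      rw [MonoidHom.map_zpowers]
    rw [e, ← Subgroup.map_commutator, ← Subgroup.map_commutator, hquad, Subgroup.map_bot]
  have key := hst (P'.map f) hP (f g) hgG hquadG
  -- the inclusion of normalizers
  have hmemN : ∀ n : ↥(Subgroup.normalizer (P' : Set B)),
      f (n : B) ∈ Subgroup.normalizer ((P'.map f : Subgroup G) : Set G) :=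
    fun n => Subgroup.le_normalizer_map f ⟨n, n.2, rfl⟩
  let φ : ↥(Subgroup.normalizer (P' : Set B)) →*
      ↥(Subgroup.normalizer ((P'.map f : Subgroup G) : Set G)) :=
    { toFun := fun n => ⟨f (n : B), hmemN n⟩
      map_one' := by apply Subtype.ext; show f ((1 : ↥(Subgroup.normalizer (P' : Set B))) : B) = 1
                     rw [Subgroup.coe_one, map_one]
      map_mul' := fun a b => by
        apply Subtype.ext
        show f ((a * b : ↥(Subgroup.normalizer (P' : Set B))) : B) = f a * f b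
        rw [Subgroup.coe_mul, map_mul] }
  have hle : (Subgroup.centralizer (P' : Set B)).subgroupOf (Subgroup.normalizer (P' : Set B)) ≤
      ((Subgroup.centralizer ((P'.map f : Subgroup G) : Set G)).subgroupOf
        (Subgroup.normalizer ((P'.map f : Subgroup G) : Set G))).comap φ := by
    intro n hn
    rw [Subgroup.mem_comap, Subgroup.mem_subgroupOf]
    rw [Subgroup.mem_subgroupOf, Subgroup.mem_centralizer_iff] at hn
    rw [Subgroup.mem_centralizer_iff]
    rintro _ ⟨x, hx, rfl⟩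
    show f x * f (n : B) = f (n : B) * f x
    rw [← map_mul, ← map_mul, hn x hx]
  let ψ := QuotientGroup.map _ _ φ hle
  have hψinj : Function.Injective ψ := by
    rw [← MonoidHom.ker_eq_bot_iff, eq_bot_iff]
    intro q hq
    obtain ⟨n, rfl⟩ := QuotientGroup.mk_surjective q
    rw [MonoidHom.mem_ker] at hq
    change QuotientGroup.mk (φ n) = 1 at hq
    rw [QuotientGroup.eq_one_iff, Subgroup.mem_subgroupOf, Subgroup.mem_centralizer_iff] at hq
    rw [Subgroup.mem_bot, QuotientGroup.eq_one_iff, Subgroup.mem_subgroupOf,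
      Subgroup.mem_centralizer_iff]
    intro x hx
    apply hf
    have := hq (f x) ⟨x, hx, rfl⟩
    rw [map_mul, map_mul]
    exact this
  have hMp : IsPGroup p ↥((Cfsg.pCore p _).comap ψ) :=
    (Cfsg.Agent.H1.pCore_isPGroup p).comap_of_injective ψ hψinj
  have hMn : ((Cfsg.pCore p _).comap ψ).Normal := inferInstance
  exact Cfsg.Agent.H1.le_pCore hMn hMp (Subgroup.mem_comap.mpr key)

end nsinj
end Cfsg.Agent.Lib.Helper7.QuadLin


namespace Cfsg.Agent.Lib.Helper7.QuadLin

open Cfsg Matrix Cfsg.Agent.Lib.Helper7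

section qdns
variable {K : Type*} [Field K]

theorem uSL2_mul (a b : K) : uSL2 a * uSL2 b = uSL2 (a + b) := by
  apply Subtype.ext
  show (!![1, a; 0, 1] : Matrix (Fin 2) (Fin 2) K) * !![1, b; 0, 1] = !![1, a + b; 0, 1]
  ext i j
  fin_cases i <;> fin_cases j <;> simp [Matrix.mul_apply, Fin.sum_univ_two, add_comm]

/-- `a ↦ uSL2 a` as a homomorphism -/
def uSL2Hom : Multiplicative K →* SpecialLinearGroup (Fin 2) K where
  toFun a := uSL2 (Multiplicative.toAdd a)
  map_one' := uSL2_zero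
  map_mul' a b := (uSL2_mul _ _).symm

theorem exists_eq_uSL2_of_mem_zpowers (h : ↥(qdOver K))
    (hh : h ∈ Subgroup.zpowers (diagHom (uSL2 (1 : K)))) : ∃ a : K, h = diagHom (uSL2 a) := by
  obtain ⟨k, rfl⟩ := Subgroup.mem_zpowers_iff.mp hh
  refine ⟨Multiplicative.toAdd ((Multiplicative.ofAdd (1 : K)) ^ k), ?_⟩
  rw [← map_zpow]
  congr 1
  have : uSL2 (1 : K) = uSL2Hom (Multiplicative.ofAdd (1 : K)) := rfl
  rw [this, ← map_zpow]
  rfl

theorem uSL2_mulVec (a : K) (t : Fin 2 → K) :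
    ((uSL2 a : SpecialLinearGroup (Fin 2) K) : Matrix (Fin 2) (Fin 2) K).mulVec t =
      ![t 0 + a * t 1, t 1] := by
  show (!![1, a; 0, 1] : Matrix (Fin 2) (Fin 2) K).mulVec t = _
  ext i
  fin_cases i <;> simp [Matrix.mulVec, dotProduct, Fin.sum_univ_two]

theorem comm_aff_diag (t : Fin 2 → K) (A : SpecialLinearGroup (Fin 2) K) :
    ⁅aff 1 t, diagHom A⁆ = aff 1 (t - (A : Matrix (Fin 2) (Fin 2) K).mulVec t) := by
  have h1 : (aff (1 : SpecialLinearGroup (Fin 2) K) t)⁻¹ = aff 1 (-t) := by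
    apply inv_eq_of_mul_eq_one_right
    rw [aff_mul, ← aff_one]
    congr 1
    · simp
    · simp
  rw [commutatorElement_def, h1, mul_assoc (aff 1 t), mul_assoc (aff 1 t),
    diag_conj_transl, aff_mul]
  congr 1
  · simp
  · rw [Matrix.mulVec_neg]
    simp [sub_eq_add_neg, add_comm]

end qdns
section qdns2
variable {K : Type*} [Field K] [Fintype K] {p : ℕ} [Fact p.Prime] [CharP K p]

/-- the product of the upper and the (conjugate) lower unipotent element -/
def ulX : SpecialLinearGroup (Fin 2) K := ⟨!![0, 1; -1, 1], by simp [Matrix.det_fin_two]⟩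

theorem ulX_eq : uSL2 (1 : K) * (wSL2 * uSL2 (1 : K) * wSL2⁻¹) = ulX := by
  rw [wSL2_inv]
  apply Subtype.ext
  show (!![1, 1; 0, 1] : Matrix (Fin 2) (Fin 2) K) *
    (!![0, 1; -1, 0] * !![1, 1; 0, 1] * !![0, -1; 1, 0]) = !![0, 1; -1, 1]
  ext i j
  fin_cases i <;> fin_cases j <;> simp [Matrix.mul_apply, Fin.sum_univ_two]

theorem ulX_pow_three :
    (((ulX (K := K)) ^ 3 : SpecialLinearGroup (Fin 2) K) : Matrix (Fin 2) (Fin 2) K) =
      !![-1, 0; 0, -1] := by
  rw [Matrix.SpecialLinearGroup.coe_pow]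
  show (!![0, 1; -1, 1] : Matrix (Fin 2) (Fin 2) K) ^ 3 = !![-1, 0; 0, -1]
  rw [pow_succ, pow_two]
  ext i j
  fin_cases i <;> fin_cases j <;> simp [Matrix.mul_apply, Fin.sum_univ_two]

theorem not_isNormalizerPStable_qdOver (hp : p ≠ 2) :
    ¬ Cfsg.IsNormalizerPStable p ↥(qdOver K) := by
  classical
  intro hst
  have hpp : p.Prime := Fact.out
  obtain ⟨P, hP⟩ : ∃ P : Subgroup ↥(qdOver K), P = (blockHom (K := K)).ker := ⟨_, rfl⟩
  haveI hPn : P.Normal := by rw [hP]; infer_instance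
  have hPp : IsPGroup p P := by rw [hP]; exact isPGroup_ker_blockHom
  have hmemP : ∀ q, q ∈ P ↔ ∃ t, q = aff 1 t := by
    intro q
    rw [hP, ker_blockHom_eq_range]
    constructor
    · rintro ⟨t, rfl⟩; exact ⟨_, rfl⟩
    · rintro ⟨t, rfl⟩; exact ⟨Multiplicative.ofAdd t, rfl⟩
  have hN : ∀ q : ↥(qdOver K), q ∈ Subgroup.normalizer (P : Set ↥(qdOver K)) := by
    intro q; rw [Subgroup.normalizer_eq_top]; exact Subgroup.mem_top q
  obtain ⟨g, hg⟩ : ∃ g : ↥(qdOver K), g = diagHom (uSL2 (1 : K)) := ⟨_, rfl⟩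
  -- quadratic action
  have hquad : ⁅⁅P, Subgroup.zpowers g⁆, Subgroup.zpowers g⁆ = ⊥ := by
    rw [Subgroup.commutator_eq_bot_iff_le_centralizer, Subgroup.commutator_le]
    intro q hq h hh
    obtain ⟨t, rfl⟩ := (hmemP q).1 hq
    rw [hg] at hh
    obtain ⟨a, rfl⟩ := exists_eq_uSL2_of_mem_zpowers h hh
    rw [comm_aff_diag, uSL2_mulVec, Subgroup.mem_centralizer_iff]
    intro h' hh'
    rw [hg] at hh'
    obtain ⟨a', rfl⟩ := exists_eq_uSL2_of_mem_zpowers h' (by exact hh')
    have h1 := diag_conj_transl (uSL2 a') (t - ![t 0 + a * t 1, t 1])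
    rw [uSL2_mulVec] at h1
    have h2 : ![(t - ![t 0 + a * t 1, t 1]) 0 + a' * (t - ![t 0 + a * t 1, t 1]) 1,
        (t - ![t 0 + a * t 1, t 1]) 1] = t - ![t 0 + a * t 1, t 1] := by
      ext i
      fin_cases i <;> simp
    rw [h2] at h1
    rw [mul_inv_eq_iff_eq_mul] at h1
    exact h1
  have key := hst P hPp g (hN g) hquad
  -- the projection to `N/C`
  obtain ⟨ι, hι⟩ : ∃ ι : ↥(qdOver K) →* ↥(Subgroup.normalizer (P : Set ↥(qdOver K))),
      ι = (MonoidHom.id ↥(qdOver K)).codRestrict _ hN := ⟨_, rfl⟩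
  have hιv : ∀ q, ((ι q : ↥(Subgroup.normalizer (P : Set ↥(qdOver K)))) : ↥(qdOver K)) = q := by
    intro q; rw [hι]; rfl
  obtain ⟨π, hπ⟩ : ∃ π : ↥(qdOver K) →* ↥(Subgroup.normalizer (P : Set ↥(qdOver K))) ⧸
      (Subgroup.centralizer (P : Set ↥(qdOver K))).subgroupOf
        (Subgroup.normalizer (P : Set ↥(qdOver K))),
      π = (QuotientGroup.mk' _).comp ι := ⟨_, rfl⟩
  have hπ1 : ∀ q, π q = 1 ↔ q ∈ Subgroup.centralizer (P : Set ↥(qdOver K)) := by
    intro q
    rw [hπ, MonoidHom.comp_apply, QuotientGroup.mk'_apply, QuotientGroup.eq_one_iff,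
      Subgroup.mem_subgroupOf, hιv]
  have hkey : π g ∈ Cfsg.pCore p _ := by
    have : π g = QuotientGroup.mk (⟨g, hN g⟩ : ↥(Subgroup.normalizer (P : Set ↥(qdOver K)))) := by
      rw [hπ, hι]; rfl
    rw [this]; exact key
  have hnorm : (Cfsg.pCore p (↥(Subgroup.normalizer (P : Set ↥(qdOver K))) ⧸
      (Subgroup.centralizer (P : Set ↥(qdOver K))).subgroupOf
        (Subgroup.normalizer (P : Set ↥(qdOver K))))).Normal := Cfsg.Agent.H1.pCore_normal p
  have h2 : π (diagHom wSL2) * π g * (π (diagHom wSL2))⁻¹ ∈ Cfsg.pCore p _ :=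
    hnorm.conj_mem _ hkey _
  have h3 : π (diagHom (ulX (K := K))) ∈ Cfsg.pCore p _ := by
    have : π (diagHom (ulX (K := K))) = π g * (π (diagHom wSL2) * π g * (π (diagHom wSL2))⁻¹) := by
      rw [← ulX_eq, hg]
      simp only [map_mul, map_inv]
    rw [this]
    exact Subgroup.mul_mem _ hkey h2
  obtain ⟨k, hk⟩ := (Cfsg.Agent.H1.pCore_isPGroup p) ⟨_, h3⟩
  have hk' : π (diagHom ((ulX (K := K)) ^ p ^ k)) = 1 := by
    have := congrArg Subtype.val hk
    rw [Subgroup.coe_pow, Subgroup.coe_one] at this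
    rw [map_pow, map_pow]; exact this
  rw [hπ1, Subgroup.mem_centralizer_iff] at hk'
  -- so `X ^ p ^ k` acts trivially
  have hY : ∀ t : Fin 2 → K,
      (((ulX (K := K)) ^ p ^ k : SpecialLinearGroup (Fin 2) K) : Matrix (Fin 2) (Fin 2) K).mulVec t
        = t := by
    intro t
    have h4 := hk' (aff 1 t) ((hmemP _).2 ⟨t, rfl⟩)
    have h5 := diag_conj_transl ((ulX (K := K)) ^ p ^ k) t
    rw [← h4, mul_inv_cancel_right] at h5
    exact ((aff_injective h5).2).symm
  have hY1 : (ulX (K := K)) ^ p ^ k = 1 := by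
    apply Subtype.ext
    ext i j
    have := congrFun (hY (Pi.single j 1)) i
    rw [Matrix.mulVec_single_one] at this
    rw [Matrix.SpecialLinearGroup.coe_one, Matrix.one_apply]
    rw [Matrix.col_apply] at this
    rw [this, Pi.single_apply]
  -- but `X ^ 3 = -1`
  have h6 : (ulX (K := K)) ^ 6 = 1 := by
    apply Subtype.ext
    have : (6 : ℕ) = 3 * 2 := rfl
    rw [this, pow_mul, Matrix.SpecialLinearGroup.coe_pow, ulX_pow_three,
      Matrix.SpecialLinearGroup.coe_one, pow_two]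
    ext i j
    fin_cases i <;> fin_cases j <;> simp [Matrix.mul_apply, Fin.sum_univ_two]
  have hd1 : orderOf (ulX (K := K)) ∣ p ^ k := orderOf_dvd_of_pow_eq_one hY1
  have hd2 : orderOf (ulX (K := K)) ∣ 2 * 3 := orderOf_dvd_of_pow_eq_one h6
  have hcop : Nat.Coprime (orderOf (ulX (K := K))) 2 := by
    apply Nat.Coprime.coprime_dvd_left hd1
    apply Nat.Coprime.pow_left
    rw [Nat.coprime_primes hpp Nat.prime_two]
    exact hp
  have hd3 : orderOf (ulX (K := K)) ∣ 3 := hcop.dvd_of_dvd_mul_left hd2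
  have h7 : (ulX (K := K)) ^ 3 = 1 := orderOf_dvd_iff_pow_eq_one.mp hd3
  have h8 := ulX_pow_three (K := K)
  rw [h7, Matrix.SpecialLinearGroup.coe_one] at h8
  have h9 := congrFun (congrFun h8 0) 0
  simp at h9
  -- `1 = -1` in `K` forces `p = 2`
  have h10 : (2 : K) = 0 := by
    have : (1 : K) + 1 = 0 := by
      nth_rewrite 1 [h9]; exact neg_add_cancel 1
    rw [← one_add_one_eq_two]; exact this
  have h11 : ((2 : ℕ) : K) = 0 := by exact_mod_cast h10
  rw [CharP.cast_eq_zero_iff K p] at h11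
  exact hp ((Nat.prime_dvd_prime_iff_eq hpp Nat.prime_two).1 h11)

end qdns2

end Cfsg.Agent.Lib.Helper7.QuadLin


namespace Cfsg.Agent.Lib.Helper7.QuadLin
universe u

section nsqd
variable {p : ℕ} [Fact p.Prime]

/-- `Qd(p)`-free groups are `p`-stable in the normalizer form (`p` odd) -/
theorem isNormalizerPStable_of_qd_free {X : Type u} [Group X] [Finite X] (hp : p ≠ 2)
    (hfree : ¬ Cfsg.Involves ↥(Cfsg.qd p) X) :
    Cfsg.IsNormalizerPStable p X := by
  intro P hP g hg hq
  have hfree' : ¬ Cfsg.Involves ↥(Cfsg.qd p) ↥(Subgroup.normalizer (P : Set X)) :=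
    fun h => hfree (Cfsg.Agent.Lib.Helper7.involves_of_injective _ (Subgroup.subtype_injective _) h)
  have hst := isPStableOn_of_qd_free hp hfree' (P.subgroupOf (Subgroup.normalizer (P : Set X)))
    (hP.comap_subtype)
  exact normalizerForm_of_isPStableOn P hst g hg hq

end nsqd
end Cfsg.Agent.Lib.Helper7.QuadLin

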