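import Mathlib
import Cfsg.Agent.Lib.Helper7.QdLocA
import Cfsg.Agent.Lib.Helper7.QuadQdD

/-!
# `Qd(p)`-free groups have stable triples
-/

set_option autoImplicit false

namespace Cfsg.Agent.Lib.Helper7.QdLoc

open scoped commutatorElement
open Cfsg

universe u

section quad
variable {X : Type*} [Group X]

theorem comm_mul_right (x a b : X) : ⁅x, a * b⁆ = ⁅x, a⁆ * (a * ⁅x, b⁆ * a⁻¹) := by
  simp only [commutatorElement_def]; group

theorem comm_inv_right (x a : X) : ⁅x, a⁻¹⁆ = a⁻¹ * ⁅x, a⁆⁻¹ * a := by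
  simp only [commutatorElement_def]; group

/-- elementwise quadratic action gives the subgroup form -/
theorem quad_subgroup_of_elementwise (P : Subgroup X) (a : X)
    (hq : ∀ x ∈ P, ⁅⁅x, a⁆, a⁆ = 1) :
    ⁅⁅P, Subgroup.zpowers a⁆, Subgroup.zpowers a⁆ = ⊥ := by
  -- `a` commutes with `⁅x, a⁆`
  have hca : ∀ x ∈ P, a * ⁅x, a⁆ = ⁅x, a⁆ * a := by
    intro x hx
    have := hq x hx
    rw [commutatorElement_eq_one_iff_mul_comm] at this
    exact this.symm
  have hpow : ∀ n : ℕ, ∀ x ∈ P, a * ⁅x, a ^ n⁆ = ⁅x, a ^ n⁆ * a := by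
    intro n
    induction n with
    | zero => intro x _; simp
    | succ n ih =>
      intro x hx
      have e : ⁅x, a ^ (n + 1)⁆ = ⁅x, a⁆ * ⁅x, a ^ n⁆ := by
        rw [pow_succ', comm_mul_right]
        have h1 := ih x hx
        rw [h1, mul_inv_cancel_right]
      rw [e, ← mul_assoc, hca x hx, mul_assoc, ih x hx, mul_assoc]
  have hzz : ∀ z ∈ Subgroup.zpowers a, ∀ x ∈ P, a * ⁅x, z⁆ = ⁅x, z⁆ * a := by
    intro z hz x hx
    obtain ⟨k, rfl⟩ := Subgroup.mem_zpowers_iff.mp hz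
    obtain ⟨n, rfl | rfl⟩ := Int.eq_nat_or_neg k
    · rw [zpow_natCast]; exact hpow n x hx
    · rw [zpow_neg, zpow_natCast, comm_inv_right]
      have h1 := hpow n x hx
      have hc : Commute a (a ^ n) := (Commute.refl a).pow_right n
      have h2 : Commute a ⁅x, a ^ n⁆ := h1
      exact ((hc.inv_right.mul_right h2.inv_right).mul_right hc).eq
  rw [Subgroup.commutator_eq_bot_iff_le_centralizer, Subgroup.commutator_le]
  intro x hx z hz
  rw [Subgroup.mem_centralizer_iff]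
  intro w hw
  obtain ⟨k, rfl⟩ := Subgroup.mem_zpowers_iff.mp hw
  have hc : Commute a ⁅x, z⁆ := hzz z hz x hx
  exact (hc.zpow_left k).eq

end quad

section main
variable {G : Type u} [Group G] [Finite G] {p : ℕ} [Fact p.Prime]

theorem stable_of_qd_free (hp : p ≠ 2) (hfree : ¬ Cfsg.Involves ↥(Cfsg.qd p) G)
    {H R K : Subgroup G} (hT : IsTriple p H R K) : Stable p H R K := by
  classical
  -- the normal subgroup `K` of `H`
  have hKH : K ≤ H := hT.le.trans hT.RH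
  have hKn : (K.subgroupOf H).Normal := by
    constructor
    intro k hk h
    rw [Subgroup.mem_subgroupOf] at hk ⊢
    exact (Subgroup.mem_normalizer_iff.mp (hT.normK h.2) _).mp hk
  have hRn : (R.subgroupOf H).Normal := by
    constructor
    intro k hk h
    rw [Subgroup.mem_subgroupOf] at hk ⊢
    exact (Subgroup.mem_normalizer_iff.mp (hT.normR h.2) _).mp hk
  let π : ↥H →* ↥H ⧸ K.subgroupOf H := QuotientGroup.mk' (K.subgroupOf H)
  have hπ : Function.Surjective π := QuotientGroup.mk'_surjective _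
  have hfreeX : ¬ Cfsg.Involves ↥(Cfsg.qd p) (↥H ⧸ K.subgroupOf H) := by
    intro h
    apply hfree
    exact Cfsg.Agent.Lib.Helper7.involves_of_injective H.subtype H.subtype_injective
      (Cfsg.Agent.Lib.Helper7.QuadLin.involves_of_surjective π hπ h)
  let Pb : Subgroup (↥H ⧸ K.subgroupOf H) := (R.subgroupOf H).map π
  have hPbn : Pb.Normal := Subgroup.Normal.map hRn π hπ
  have hPbp : IsPGroup p ↥Pb := (hT.pgroup.comap_subtype).map π
  have hst := Cfsg.Agent.Lib.Helper7.QuadLin.isPStableOn_of_qd_free hp hfreeX Pb hPbp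
  -- kernel criterion
  have hπ1 : ∀ y : ↥H, π y = 1 ↔ (y : G) ∈ K := by
    intro y
    rw [← MonoidHom.mem_ker, QuotientGroup.ker_mk', Subgroup.mem_subgroupOf]
  intro g hg hq
  -- quadratic action in the quotient
  have hquad : ⁅⁅Pb, Subgroup.zpowers (π ⟨g, hg⟩)⁆, Subgroup.zpowers (π ⟨g, hg⟩)⁆ = ⊥ := by
    apply quad_subgroup_of_elementwise
    rintro _ ⟨r, hr, rfl⟩
    rw [← map_commutatorElement, ← map_commutatorElement, hπ1]
    exact hq (r : G) (Subgroup.mem_subgroupOf.mp hr)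
  have hm := hst (π ⟨g, hg⟩) hquad
  -- the normal subgroup `D`
  let C := Subgroup.centralizer (Pb : Set (↥H ⧸ K.subgroupOf H))
  let π₂ : (↥H ⧸ K.subgroupOf H) →* (↥H ⧸ K.subgroupOf H) ⧸ C := QuotientGroup.mk' C
  let D₀ : Subgroup ↥H := ((pCore p ((↥H ⧸ K.subgroupOf H) ⧸ C)).comap π₂).comap π
  have hD₀n : D₀.Normal := by
    have h1 : (pCore p ((↥H ⧸ K.subgroupOf H) ⧸ C)).Normal := Cfsg.Agent.Lib.Helper7.pCore_normal _ _
    have h2 : ((pCore p ((↥H ⧸ K.subgroupOf H) ⧸ C)).comap π₂).Normal := h1.comap π₂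
    exact h2.comap π
  refine ⟨D₀.map H.subtype, Subgroup.map_subtype_le _, ?_, ?_, ?_⟩
  · rintro h hh _ ⟨d, hd, rfl⟩
    exact ⟨⟨h, hh⟩ * d * ⟨h, hh⟩⁻¹, hD₀n.conj_mem d hd ⟨h, hh⟩, rfl⟩
  · exact ⟨⟨g, hg⟩, hm, rfl⟩
  · rintro _ ⟨d, hd, rfl⟩
    have hdp : π₂ (π d) ∈ pCore p ((↥H ⧸ K.subgroupOf H) ⧸ C) := hd
    obtain ⟨k, hk⟩ := (Cfsg.Agent.Lib.Helper7.pCore_isPGroup p ((↥H ⧸ K.subgroupOf H) ⧸ C)) ⟨_, hdp⟩
    have hk' : π₂ (π d) ^ p ^ k = 1 := by
      have := congrArg Subtype.val hk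
      simpa using this
    refine ⟨k, fun x hx => ?_⟩
    rw [← map_pow, ← map_pow] at hk'
    have hcen : π (d ^ p ^ k) ∈ C := by
      rw [← QuotientGroup.ker_mk' C]
      exact MonoidHom.mem_ker.mpr hk'
    have hxP : π ⟨x, hT.RH hx⟩ ∈ Pb := ⟨⟨x, hT.RH hx⟩, Subgroup.mem_subgroupOf.mpr hx, rfl⟩
    have hcomm := Subgroup.mem_centralizer_iff.mp hcen _ hxP
    -- `π ⁅x, d^..⁆ = 1`
    have h1 : π ⁅(⟨x, hT.RH hx⟩ : ↥H), d ^ p ^ k⁆ = 1 := by
      rw [map_commutatorElement, commutatorElement_eq_one_iff_mul_comm]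
      exact hcomm
    rw [hπ1] at h1
    have e : ((⁅(⟨x, hT.RH hx⟩ : ↥H), d ^ p ^ k⁆ : ↥H) : G) = ⁅x, (H.subtype d) ^ p ^ k⁆ := by
      simp [commutatorElement_def]
    rw [e] at h1
    exact h1

end main

end Cfsg.Agent.Lib.Helper7.QdLoc
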