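import Mathlib
import Cfsg.Agent.Lib.Helper7.QdLocB
import Cfsg.Agent.Lib.Helper7.SylowLib
import Cfsg.Agent.Lib.Lead.Conj

/-!
# Groups involving `Qd(p)` have an unstable triple
-/

set_option autoImplicit false

namespace Cfsg.Agent.Lib.Helper7.QdLoc

open scoped commutatorElement
open Cfsg Cfsg.Agent.Lib.Helper7 Cfsg.Agent.Lib.Lead.Conj

universe u

section nps
variable {X : Type*} [Group X] {p : ℕ}

/-- a group which is not `p`-stable in the normalizer form has an unstable triple -/
theorem exists_unstable_of_not_nps (h : ¬ Cfsg.IsNormalizerPStable p X) :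
    ∃ H R : Subgroup X, IsTriple p H R ⊥ ∧ ¬ Stable p H R ⊥ := by
  classical
  unfold Cfsg.IsNormalizerPStable at h
  push Not at h
  obtain ⟨P, hP, g, hg, hquad, hnot⟩ := h
  refine ⟨Subgroup.normalizer (P : Set X), P,
    ⟨hP, bot_le, Subgroup.le_normalizer, le_rfl, ?_⟩, ?_⟩
  · intro x _
    rw [Subgroup.mem_normalizer_iff]
    intro y
    simp only [Subgroup.mem_bot]
    constructor
    · rintro rfl; simp
    · intro hy
      have : y = x⁻¹ * (x * y * x⁻¹) * x := by group
      rw [this, hy]; simp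
  · intro hst
    apply hnot
    have hq : QuadOn P ⊥ g := by
      intro x hx
      rw [← hquad]
      exact Subgroup.commutator_mem_commutator
        (Subgroup.commutator_mem_commutator hx (Subgroup.mem_zpowers g)) (Subgroup.mem_zpowers g)
    obtain ⟨D, hDN, hDn, hgD, hDp⟩ := hst g hg hq
    set N := Subgroup.normalizer (P : Set X) with hN
    set C := (Subgroup.centralizer (P : Set X)).subgroupOf N with hC
    let q : ↥N →* ↥N ⧸ C := QuotientGroup.mk' C
    have hqs : Function.Surjective q := QuotientGroup.mk'_surjective _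
    have hDNn : (D.subgroupOf N).Normal := by
      constructor
      intro d hd n
      rw [Subgroup.mem_subgroupOf] at hd ⊢
      exact hDn n n.2 d hd
    have hD'n : ((D.subgroupOf N).map q).Normal := Subgroup.Normal.map hDNn q hqs
    have hD'p : IsPGroup p ↥((D.subgroupOf N).map q) := by
      rintro ⟨_, d, hd, rfl⟩
      obtain ⟨k, hk⟩ := hDp d (Subgroup.mem_subgroupOf.mp hd)
      refine ⟨k, ?_⟩
      apply Subtype.ext
      show q d ^ p ^ k = 1
      rw [← map_pow, ← MonoidHom.mem_ker, QuotientGroup.ker_mk', hC, Subgroup.mem_subgroupOf,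
        Subgroup.mem_centralizer_iff]
      intro x hx
      have h1 : ⁅x, ((d ^ p ^ k : ↥N) : X)⁆ = 1 := by
        have := hk x hx
        rw [Subgroup.mem_bot] at this
        simpa using this
      rw [commutatorElement_eq_one_iff_mul_comm] at h1
      exact h1
    have hle := Cfsg.Agent.Lib.Helper7.le_pCore hD'n hD'p
    exact hle ⟨⟨g, hg⟩, Subgroup.mem_subgroupOf.mpr hgD, rfl⟩

end nps

section surj
variable {A : Type*} {B : Type*} [Group A] [Finite A] [Group B] {p : ℕ} [Fact p.Prime]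

/-- unstable triples (with trivial `K`) lift along surjections -/
theorem exists_unstable_of_surjective (f : A →* B) (hf : Function.Surjective f)
    {HX RX : Subgroup B} (hT : IsTriple p HX RX ⊥) (hns : ¬ Stable p HX RX ⊥) :
    ∃ H R K : Subgroup A, IsTriple p H R K ∧ ¬ Stable p H R K := by
  classical
  set Pt : Subgroup A := RX.comap f with hPt
  set M : Subgroup A := HX.comap f with hM
  have hPtM : Pt ≤ M := Subgroup.comap_mono hT.RH
  have hkerPt : f.ker ≤ Pt := by
    intro x hx
    rw [hPt, Subgroup.mem_comap, MonoidHom.mem_ker.mp hx]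
    exact RX.one_mem
  -- `M` normalizes `Pt`
  have hMPt : ∀ m ∈ M, ∀ x ∈ Pt, m * x * m⁻¹ ∈ Pt := by
    intro m hm x hx
    rw [hPt, Subgroup.mem_comap, map_mul, map_mul, map_inv]
    exact (Subgroup.mem_normalizer_iff.mp (hT.normR hm) _).mp hx
  -- a Sylow subgroup of `Pt`
  obtain ⟨R, hR, -⟩ := exists_isSylowIn_ge (p := p) (Q := ⊥) (H := Pt) IsPGroup.of_bot bot_le
  have hRPt : R ≤ Pt := hR.1
  -- `f R = RX`
  have hfR : ∀ y ∈ RX, ∃ x ∈ R, f x = y := by
    intro y hy
    obtain ⟨R₀, hR₀⟩ := hR.exists_sylow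
    have hf' : Function.Surjective (f.subgroupComap RX) :=
      f.subgroupComap_surjective_of_surjective RX hf
    let R₁ : Sylow p ↥RX := R₀.mapSurjective hf'
    have htop : (R₁ : Subgroup ↥RX) = ⊤ :=
      (R₁.is_maximal' (hT.pgroup.to_subgroup ⊤) le_top).symm
    have hy1 : (⟨y, hy⟩ : ↥RX) ∈ (R₁ : Subgroup ↥RX) := by rw [htop]; trivial
    rw [Sylow.coe_mapSurjective, hR₀] at hy1
    obtain ⟨x, hx, hxy⟩ := hy1
    refine ⟨(x : A), Subgroup.mem_subgroupOf.mp hx, ?_⟩
    exact congrArg Subtype.val hxy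
  set H : Subgroup A := M ⊓ Subgroup.normalizer (R : Set A) with hH
  set K : Subgroup A := R ⊓ f.ker with hK
  have hRH : R ≤ H := le_inf (hRPt.trans hPtM) Subgroup.le_normalizer
  have hTr : IsTriple p H R K := by
    refine ⟨hR.isPGroup, inf_le_left, hRH, inf_le_right, ?_⟩
    intro h hh
    apply mem_normalizer_of_conj_mem
    rintro k ⟨hkR, hkk⟩
    refine ⟨(Subgroup.mem_normalizer_iff.mp hh.2 k).mp hkR, ?_⟩
    exact (inferInstance : f.ker.Normal).conj_mem k hkk h
  -- `f H = HX`
  have hfH : H.map f = HX := by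
    apply le_antisymm
    · rintro _ ⟨h, hh, rfl⟩
      exact hh.1
    · intro h₂ hh₂
      obtain ⟨m, rfl⟩ := hf h₂
      have hmM : m ∈ M := hh₂
      -- Frattini
      have hR' : IsSylowIn p (R.map (MulAut.conj m).toMonoidHom) Pt := by
        refine ⟨?_, ?_⟩
        · rintro _ ⟨x, hx, rfl⟩
          exact hMPt m hmM x (hRPt hx)
        · rw [card_map_conj]; exact hR.2
      obtain ⟨t, ht, hteq⟩ := hR.conj hR'
      have hn : t⁻¹ * m ∈ Subgroup.normalizer (R : Set A) := by
        apply mem_normalizer_of_conj_mem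
        intro r hr
        have h1 : m * r * m⁻¹ ∈ R.map (MulAut.conj m).toMonoidHom := conj_mem_map_conj R m hr
        rw [hteq, mem_map_conj] at h1
        have e : t⁻¹ * m * r * (t⁻¹ * m)⁻¹ = t⁻¹ * (m * r * m⁻¹) * t := by group
        rw [e]; exact h1
      obtain ⟨r, hr, hrt⟩ := hfR (f t) ht
      refine ⟨r * (t⁻¹ * m), ?_, ?_⟩
      · apply H.mul_mem (hRH hr)
        exact ⟨M.mul_mem (M.inv_mem (hPtM ht)) hmM, hn⟩
      · rw [map_mul, hrt, map_mul, map_inv, mul_inv_cancel_left]
  have hRmap : R.map f = RX := by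
    apply le_antisymm
    · rintro _ ⟨x, hx, rfl⟩
      exact hRPt hx
    · intro y hy
      obtain ⟨x, hx, rfl⟩ := hfR y hy
      exact ⟨x, hx, rfl⟩
  have hKmap : K.map f = ⊥ := by
    rw [eq_bot_iff]
    rintro _ ⟨x, hx, rfl⟩
    exact MonoidHom.mem_ker.mp hx.2
  have hL := Link.of_hom f H R K hTr.normR hTr.le (le_refl _)
  rw [hfH, hRmap, hKmap] at hL
  exact ⟨H, R, K, hTr, fun hst => hns (hL.symm.stable p hst)⟩

end surj

section sub
variable {G : Type u} [Group G] {p : ℕ}

/-- unstable triples in a subgroup give unstable triples in the group -/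
theorem exists_unstable_of_subgroup (H₀ : Subgroup G)
    (h : ∃ H R K : Subgroup ↥H₀, IsTriple p H R K ∧ ¬ Stable p H R K) :
    ∃ H R K : Subgroup G, IsTriple p H R K ∧ ¬ Stable p H R K := by
  obtain ⟨H, R, K, hT, hns⟩ := h
  have hL := Link.of_hom H₀.subtype H R K hT.normR hT.le (by
    rw [H₀.ker_subtype, inf_bot_eq]; exact bot_le)
  refine ⟨H.map H₀.subtype, R.map H₀.subtype, K.map H₀.subtype, ?_, fun hst => hns (hL.stable p hst)⟩
  refine ⟨hT.pgroup.map _, Subgroup.map_mono hT.le, Subgroup.map_mono hT.RH, ?_, ?_⟩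
  · rintro _ ⟨h, hh, rfl⟩
    rw [Subgroup.mem_normalizer_iff]
    intro y
    constructor
    · rintro ⟨r, hr, rfl⟩
      exact ⟨h * r * h⁻¹, (Subgroup.mem_normalizer_iff.mp (hT.normR hh) r).mp hr, rfl⟩
    · rintro ⟨r, hr, hry⟩
      have hy : y = H₀.subtype (h⁻¹ * r * h) := by
        have : H₀.subtype h * y * (H₀.subtype h)⁻¹ = H₀.subtype r := hry.symm
        rw [map_mul, map_mul, map_inv, ← this]; group
      rw [hy]
      refine ⟨_, ?_, rfl⟩
      have := (Subgroup.mem_normalizer_iff.mp ((Subgroup.normalizer (R : Set ↥H₀)).inv_mem (hT.normR hh)) r).mp hr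
      simpa using this
  · rintro _ ⟨h, hh, rfl⟩
    rw [Subgroup.mem_normalizer_iff]
    intro y
    constructor
    · rintro ⟨r, hr, rfl⟩
      exact ⟨h * r * h⁻¹, (Subgroup.mem_normalizer_iff.mp (hT.normK hh) r).mp hr, rfl⟩
    · rintro ⟨r, hr, hry⟩
      have hy : y = H₀.subtype (h⁻¹ * r * h) := by
        have : H₀.subtype h * y * (H₀.subtype h)⁻¹ = H₀.subtype r := hry.symm
        rw [map_mul, map_mul, map_inv, ← this]; group
      rw [hy]
      refine ⟨_, ?_, rfl⟩
      have := (Subgroup.mem_normalizer_iff.mp ((Subgroup.normalizer (K : Set ↥H₀)).inv_mem (hT.normK hh)) r).mp hr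
      simpa using this

end sub

section main
variable {G : Type u} [Group G] [Finite G] {p : ℕ} [Fact p.Prime]

/-- **A group involving `Qd(p)` has an unstable triple** (`p` odd). -/
theorem exists_unstable_of_involves (hp : p ≠ 2) (h : Cfsg.Involves ↥(Cfsg.qd p) G) :
    ∃ H R K : Subgroup G, IsTriple p H R K ∧ ¬ Stable p H R K := by
  obtain ⟨K₀, R₀, hR₀, ⟨e⟩⟩ := h
  have := hR₀
  apply exists_unstable_of_subgroup K₀
  have hnps : ¬ Cfsg.IsNormalizerPStable p ↥(Cfsg.qd p) :=
    Cfsg.Agent.Lib.Helper7.QuadLin.not_isNormalizerPStable_qdOver (K := ZMod p) hp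
  obtain ⟨HX, RX, hTX, hnsX⟩ := exists_unstable_of_not_nps hnps
  exact exists_unstable_of_surjective (e.toMonoidHom.comp (QuotientGroup.mk' (R₀.subgroupOf K₀)))
    (e.surjective.comp (QuotientGroup.mk'_surjective _)) hTX hnsX

end main

end Cfsg.Agent.Lib.Helper7.QdLoc
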