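import Mathlib
import Cfsg.Agent.Lib.Helper7.SylowLib
import Cfsg.Agent.Lib.Lead.Conj

/-!
# Lifting conjugation through a normal `p'`-subgroup
-/

set_option autoImplicit false

namespace Cfsg.Agent.Lib.Helper7.QdLoc

open Cfsg Cfsg.Agent.Lib.Helper7 Cfsg.Agent.Lib.Lead.Conj

section lift0
variable {N : Type*} [Group N] {p : ℕ}

/-- a `p`-element of a group of order prime to `p` is trivial -/
theorem eq_one_of_mem_pgroup_of_coprime {B W : Subgroup N} (hB : IsPGroup p ↥B)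
    (hW : (Nat.card ↥W).Coprime p) {x : N} (hxB : x ∈ B) (hxW : x ∈ W) : x = 1 := by
  obtain ⟨k, hk⟩ := hB ⟨x, hxB⟩
  have hk' : x ^ p ^ k = 1 := by
    have := congrArg Subtype.val hk
    simpa using this
  have h1 : orderOf x ∣ p ^ k := orderOf_dvd_of_pow_eq_one hk'
  have h2 : orderOf x ∣ Nat.card ↥W := by
    have := orderOf_dvd_natCard (⟨x, hxW⟩ : ↥W)
    rwa [Subgroup.orderOf_mk] at this
  have h3 : orderOf x ∣ Nat.gcd (Nat.card ↥W) (p ^ k) := Nat.dvd_gcd h2 h1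
  rw [(hW.pow_right k).gcd_eq_one] at h3
  exact orderOf_eq_one_iff.mp (Nat.eq_one_of_dvd_one h3)

end lift0

section lift
variable {N : Type*} [Group N] [Finite N] {p : ℕ} [Fact p.Prime]

/-- a `p`-subgroup `B` is a Sylow subgroup of `B W` -/
theorem isSylowIn_sup_of_coprime (B W : Subgroup N) [hWn : W.Normal] (hB : IsPGroup p ↥B)
    (hW : (Nat.card ↥W).Coprime p) : IsSylowIn p B (B ⊔ W) := by
  obtain ⟨S, hS, hBS⟩ := exists_isSylowIn_ge hB (le_sup_left : B ≤ B ⊔ W)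
  have : S = B := by
    apply le_antisymm _ hBS
    intro s hs
    have hsX : s ∈ B ⊔ W := hS.1 hs
    rw [← SetLike.mem_coe, Subgroup.mul_normal] at hsX
    obtain ⟨b, hb, w, hw, rfl⟩ := hsX
    have hs' : b * w ∈ S := hs
    have hwS : w ∈ S := by
      have := S.mul_mem (S.inv_mem (hBS hb)) hs'
      rwa [inv_mul_cancel_left] at this
    have := eq_one_of_mem_pgroup_of_coprime hS.isPGroup hW hwS hw
    show b * w ∈ B
    rw [this, mul_one]; exact hb
  rw [this] at hS; exact hS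

/-- **Lifting conjugation**: a homomorphism from a `p`-subgroup that is conjugation by `n` modulo a
normal `p'`-subgroup `W` is conjugation by an element of `n W`. -/
theorem exists_conj_of_conj_mod (W : Subgroup N) [hWn : W.Normal] (hW : (Nat.card ↥W).Coprime p)
    (B : Subgroup N) (hB : IsPGroup p ↥B) (n : N) (ψ : ↥B →* N)
    (h : ∀ b : ↥B, (n * (b : N) * n⁻¹)⁻¹ * ψ b ∈ W) :
    ∃ g : N, g⁻¹ * n ∈ W ∧ ∀ b : ↥B, ψ b = g * (b : N) * g⁻¹ := by
  classical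
  -- the two subgroups
  set B₁ : Subgroup N := B.map (MulAut.conj n).toMonoidHom with hB₁
  set A : Subgroup N := ψ.range with hA
  have hB₁p : IsPGroup p ↥B₁ := hB.map _
  have hAp : IsPGroup p ↥A := by
    have : IsPGroup p ↥(⊤ : Subgroup ↥B) := hB.to_subgroup ⊤
    rw [hA, MonoidHom.range_eq_map]
    exact this.map ψ
  -- `A ⊔ W = B₁ ⊔ W`
  have hAle : A ≤ B₁ ⊔ W := by
    rintro _ ⟨b, rfl⟩
    have h1 : n * (b : N) * n⁻¹ ∈ B₁ := conj_mem_map_conj B n b.2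
    have := (B₁ ⊔ W).mul_mem (Subgroup.mem_sup_left h1) (Subgroup.mem_sup_right (h b))
    rwa [mul_inv_cancel_left] at this
  have hBle : B₁ ≤ A ⊔ W := by
    rintro _ ⟨b, hb, rfl⟩
    have h1 : ψ ⟨b, hb⟩ ∈ A := ⟨⟨b, hb⟩, rfl⟩
    have h2 : (ψ ⟨b, hb⟩)⁻¹ * (n * b * n⁻¹) ∈ W := by
      have := W.inv_mem (h ⟨b, hb⟩)
      rwa [mul_inv_rev, inv_inv] at this
    have := (A ⊔ W).mul_mem (Subgroup.mem_sup_left h1) (Subgroup.mem_sup_right h2)
    rwa [mul_inv_cancel_left] at this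
  have hXeq : A ⊔ W = B₁ ⊔ W :=
    le_antisymm (sup_le hAle le_sup_right) (sup_le hBle le_sup_right)
  have hsA : IsSylowIn p A (B₁ ⊔ W) := hXeq ▸ isSylowIn_sup_of_coprime A W hAp hW
  have hsB : IsSylowIn p B₁ (B₁ ⊔ W) := isSylowIn_sup_of_coprime B₁ W hB₁p hW
  obtain ⟨u, hu, hAu⟩ := hsB.conj hsA
  -- write `u = w * b₁`
  rw [sup_comm, ← SetLike.mem_coe, Subgroup.normal_mul] at hu
  obtain ⟨w, hw, b₁, hb₁, rfl⟩ := hu
  have hAw : A = B₁.map (MulAut.conj w).toMonoidHom := by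
    rw [hAu]
    ext y
    rw [mem_map_conj B₁ (w * b₁) y, mem_map_conj B₁ w y]
    have hb₁n : b₁ ∈ Subgroup.normalizer (B₁ : Set N) := Subgroup.le_normalizer hb₁
    have e : (w * b₁)⁻¹ * y * (w * b₁) = b₁⁻¹ * (w⁻¹ * y * w) * b₁ := by group
    rw [e]
    have := Subgroup.mem_normalizer_iff.mp ((Subgroup.normalizer (B₁ : Set N)).inv_mem hb₁n) (w⁻¹ * y * w)
    rw [inv_inv] at this
    exact this.symm
  refine ⟨w * n, ?_, fun b => ?_⟩
  · have : (w * n)⁻¹ * n = n⁻¹ * w⁻¹ * n := by group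
    rw [this]
    have := hWn.conj_mem w⁻¹ (W.inv_mem hw) n⁻¹
    rwa [inv_inv] at this
  · -- both sides lie in `A` and agree modulo `W`
    have h1 : w * n * (b : N) * (w * n)⁻¹ ∈ A := by
      rw [hAw]
      have : w * n * (b : N) * (w * n)⁻¹ = w * (n * (b : N) * n⁻¹) * w⁻¹ := by group
      rw [this]
      exact conj_mem_map_conj B₁ w (conj_mem_map_conj B n b.2)
    have h2 : ψ b ∈ A := ⟨b, rfl⟩
    have h3 : (w * n * (b : N) * (w * n)⁻¹)⁻¹ * ψ b ∈ W := by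
      set y := n * (b : N) * n⁻¹ with hy
      have e : (w * n * (b : N) * (w * n)⁻¹)⁻¹ * ψ b = (w * y⁻¹ * w⁻¹ * y) * (y⁻¹ * ψ b) := by
        rw [hy]; group
      rw [e]
      apply W.mul_mem _ (h b)
      have h4 : y⁻¹ * w⁻¹ * y ∈ W := by
        have := hWn.conj_mem w⁻¹ (W.inv_mem hw) y⁻¹
        rwa [inv_inv] at this
      have := W.mul_mem hw h4
      have e2 : w * (y⁻¹ * w⁻¹ * y) = w * y⁻¹ * w⁻¹ * y := by group
      rwa [e2] at this
    have h5 := eq_one_of_mem_pgroup_of_coprime hAp hW (A.mul_mem (A.inv_mem h1) h2) h3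
    exact (inv_mul_eq_one.mp h5).symm

end lift

end Cfsg.Agent.Lib.Helper7.QdLoc
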