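import Mathlib
import Cfsg.Prelude.Def_FusionSystem
import Cfsg.Agent.Lib.Helper7.QdLocD
import Cfsg.Agent.Lib.Helper7.GroupFusion2
import Cfsg.Agent.Lib.Helper7.Core
import Cfsg.Agent.Lib.Lead.PiCore
import Cfsg.Agent.S2011

/-!
# The model `N_G(Q) / O_{p'}(C_G(Q))` of the normalizer system of a centric subgroup
-/

set_option autoImplicit false

namespace Cfsg.Agent.Lib.Helper7.QdLoc

open Cfsg Cfsg.FusionSystem Cfsg.Agent.Lib.Helper7 Cfsg.Agent.Lib.Lead.Conj
  Cfsg.Agent.Lib.Lead.PiCore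

universe u

variable {G : Type u} [Group G] [Finite G] {p : ℕ} [hpF : Fact p.Prime]

/-- `O_{p'}(C_G(Q))` as a subgroup of `G` -/
def Wc (p : ℕ) (Q : Subgroup G) : Subgroup G :=
  (pPrimeCore p ↥(Subgroup.centralizer (Q : Set G))).map (Subgroup.centralizer (Q : Set G)).subtype

omit [Finite G] hpF in
theorem Wc_le_centralizer (Q : Subgroup G) : Wc p Q ≤ Subgroup.centralizer (Q : Set G) :=
  Subgroup.map_subtype_le _

omit [Finite G] hpF in
theorem Wc_le_normalizer (Q : Subgroup G) : Wc p Q ≤ Subgroup.normalizer (Q : Set G) :=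
  (Wc_le_centralizer Q).trans (Subgroup.centralizer_le_normalizer _)

theorem Wc_coprime (Q : Subgroup G) : (Nat.card ↥(Wc p Q)).Coprime p := by
  unfold Wc
  rw [Subgroup.card_map_of_injective (Subgroup.subtype_injective _)]
  exact pPrimeCore_coprime hpF.out

theorem Wc_conj_mem (Q : Subgroup G) {n : G} (hn : n ∈ Subgroup.normalizer (Q : Set G)) {w : G}
    (hw : w ∈ Wc p Q) : n * w * n⁻¹ ∈ Wc p Q := by
  set C := Subgroup.centralizer (Q : Set G) with hC
  have hnC := normalizer_le_normalizer_centralizer Q hn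
  have hnC' := (Subgroup.normalizer (C : Set G)).inv_mem hnC
  have h1 : ∀ c ∈ C, n * c * n⁻¹ ∈ C := fun c hc => (Subgroup.mem_normalizer_iff.mp hnC c).mp hc
  have h2 : ∀ c ∈ C, n⁻¹ * c * n ∈ C := fun c hc => by
    have := (Subgroup.mem_normalizer_iff.mp hnC' c).mp hc
    simpa using this
  let φ : ↥C ≃* ↥C :=
    { toFun := fun c => ⟨n * c * n⁻¹, h1 c c.2⟩
      invFun := fun c => ⟨n⁻¹ * c * n, h2 c c.2⟩
      left_inv := fun c => by apply Subtype.ext; show n⁻¹ * (n * c * n⁻¹) * n = c; group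
      right_inv := fun c => by apply Subtype.ext; show n * (n⁻¹ * c * n) * n⁻¹ = c; group
      map_mul' := fun a b => by
        apply Subtype.ext
        show n * (a * b) * n⁻¹ = (n * a * n⁻¹) * (n * b * n⁻¹)
        group }
  have hchar := pPrimeCore_characteristic (G := ↥C) hpF.out
  obtain ⟨c, hc, rfl⟩ := hw
  have hφc : φ c ∈ pPrimeCore p ↥C := by
    have := (Subgroup.characteristic_iff_map_eq.mp hchar) φ
    rw [← this]
    exact ⟨c, hc, rfl⟩
  exact ⟨φ c, hφc, rfl⟩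

instance Wc_normal (Q : Subgroup G) :
    ((Wc p Q).subgroupOf (Subgroup.normalizer (Q : Set G))).Normal := by
  constructor
  intro w hw n
  rw [Subgroup.mem_subgroupOf] at hw ⊢
  exact Wc_conj_mem Q n.2 hw

/-- the model group -/
abbrev Lm (p : ℕ) [Fact p.Prime] (Q : Subgroup G) : Type u :=
  ↥(Subgroup.normalizer (Q : Set G)) ⧸ (Wc p Q).subgroupOf (Subgroup.normalizer (Q : Set G))

/-- the structure map of the model -/
def ιm (P : Sylow p G) (Q : Subgroup G) : ↥(normalizerIn (P : Subgroup G) Q) →* Lm p Q :=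
  (QuotientGroup.mk' ((Wc p Q).subgroupOf (Subgroup.normalizer (Q : Set G)))).comp
    (Subgroup.inclusion (inf_le_right : normalizerIn (P : Subgroup G) Q ≤ Subgroup.normalizer (Q : Set G)))

theorem ιm_apply (P : Sylow p G) (Q : Subgroup G) (x : ↥(normalizerIn (P : Subgroup G) Q)) :
    ιm P Q x = QuotientGroup.mk' _ (⟨x, x.2.2⟩ : ↥(Subgroup.normalizer (Q : Set G))) := rfl

theorem isModel_normalizer (P : Sylow p G) (Q : Subgroup G) (hQ : Q ≤ P)
    (hfn : (groupFusionSystem (P : Subgroup G)).IsFullyNormalized Q)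
    (hcen : (groupFusionSystem (P : Subgroup G)).IsCentric Q)
    (N : FusionSystem (normalizerIn (P : Subgroup G) Q))
    (hN : (groupFusionSystem (P : Subgroup G)).IsNormalizerSystem Q N) :
    N.IsModel p (Lm p Q) (ιm P Q) := by
  classical
  have hp : p.Prime := hpF.out
  set Nn := Subgroup.normalizer (Q : Set G) with hNn
  set T := normalizerIn (P : Subgroup G) Q with hT
  set W' := (Wc p Q).subgroupOf Nn with hW'
  let π : ↥Nn →* Lm p Q := QuotientGroup.mk' W'
  have hπs : Function.Surjective π := QuotientGroup.mk'_surjective _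
  have hTN : T ≤ Nn := inf_le_right
  have hTP : T ≤ (P : Subgroup G) := inf_le_left
  have hW'cop : (Nat.card ↥W').Coprime p := by
    rw [hW', card_subgroupOf_of_le (Wc_le_normalizer Q)]
    exact Wc_coprime Q
  have hπ1 : ∀ y : ↥Nn, π y = 1 ↔ (y : G) ∈ Wc p Q := by
    intro y
    rw [← MonoidHom.mem_ker, QuotientGroup.ker_mk', Subgroup.mem_subgroupOf]
  have hPW : ∀ x : G, x ∈ (P : Subgroup G) → x ∈ Wc p Q → x = 1 := fun x hxP hxW =>
    eq_one_of_mem_pgroup_of_coprime P.isPGroup' (Wc_coprime Q) hxP hxW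
  refine ⟨inferInstance, ⟨?_, ?_⟩, ?_, ?_⟩
  · -- injectivity
    rw [injective_iff_map_eq_one]
    intro x hx
    rw [ιm_apply] at hx
    have h1 := (hπ1 _).mp hx
    apply Subtype.ext
    exact hPW _ (hTP x.2) h1
  · -- realization
    intro P' hP' φ hφ
    rw [hN P']
    constructor
    · rintro ⟨hφF, -, -, ψ, hψF, hext, hQmap⟩
      obtain ⟨-, -, g, hg⟩ := hψF
      have hgN : g ∈ Nn := by
        apply mem_normalizer_of_conj_mem
        intro q hq
        have hq' : q ∈ P' ⊔ Q := Subgroup.mem_sup_right hq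
        have : ψ ⟨q, hq'⟩ ∈ (Q.subgroupOf (P' ⊔ Q)).map ψ :=
          ⟨⟨q, hq'⟩, Subgroup.mem_subgroupOf.mpr hq, rfl⟩
        rw [hQmap, hg] at this
        exact this
      refine ⟨π ⟨g, hgN⟩, fun x => ?_⟩
      rw [ιm_apply, ιm_apply]
      show π _ = π _ * π _ * (π _)⁻¹
      rw [← map_inv, ← map_mul, ← map_mul]
      congr 1
      apply Subtype.ext
      show φ x = g * (x : G) * g⁻¹
      rw [← hext x, hg]
      rfl
    · rintro ⟨l, hl⟩
      obtain ⟨n, rfl⟩ := hπs l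
      have hP'N : P' ≤ Nn := hP'.trans hTN
      let e := Subgroup.subgroupOfEquivOfLe hP'N
      let ψ₀ : ↥(P'.subgroupOf Nn) →* ↥Nn :=
        (φ.codRestrict Nn (fun x => hTN (hφ x))).comp e.toMonoidHom
      have hBp : IsPGroup p ↥(P'.subgroupOf Nn) :=
        (P.isPGroup'.to_le (hP'.trans hTP)).comap_subtype
      have hmod : ∀ b : ↥(P'.subgroupOf Nn), (n * (b : ↥Nn) * n⁻¹)⁻¹ * ψ₀ b ∈ W' := by
        intro b
        have h1 := hl (e b)
        rw [ιm_apply, ιm_apply] at h1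
        rw [← QuotientGroup.eq (s := W')]
        show π _ = π _
        rw [map_mul, map_mul, map_inv]
        have e1 : ψ₀ b = ⟨φ (e b), hTN (hφ (e b))⟩ := rfl
        have e2 : (b : ↥Nn) = ⟨((e b : ↥P') : G), hP'N (e b).2⟩ := rfl
        rw [e1, e2]
        exact h1.symm
      obtain ⟨g, -, hgc⟩ := exists_conj_of_conj_mod W' hW'cop (P'.subgroupOf Nn) hBp n ψ₀ hmod
      have hgφ : ∀ x : ↥P', φ x = (g : G) * (x : G) * (g : G)⁻¹ := by
        intro x
        have h1 := hgc (e.symm x)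
        have h2 := congrArg (fun y : ↥Nn => (y : G)) h1
        have e1 : ((ψ₀ (e.symm x) : ↥Nn) : G) = φ x := by
          show φ (e (e.symm x)) = φ x
          rw [MulEquiv.apply_symm_apply]
        have e2 : (((e.symm x : ↥(P'.subgroupOf Nn)) : ↥Nn) : G) = (x : G) := by
          have : e (e.symm x) = x := MulEquiv.apply_symm_apply e x
          conv_rhs => rw [← this]
          rfl
        simp only [Subgroup.coe_mul, Subgroup.coe_inv] at h2
        rw [e1, e2] at h2
        exact h2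
      have hP'P : P' ≤ (P : Subgroup G) := hP'.trans hTP
      have hgQ : ∀ q ∈ Q, (g : G) * q * (g : G)⁻¹ ∈ Q := fun q hq =>
        (Subgroup.mem_normalizer_iff.mp g.2 q).mp hq
      have hgQ' : ∀ q ∈ Q, (g : G)⁻¹ * q * (g : G) ∈ Q := fun q hq => by
        have := (Subgroup.mem_normalizer_iff.mp (Nn.inv_mem g.2) q).mp hq
        simpa using this
      have hsupP : P' ⊔ Q ≤ (P : Subgroup G) := sup_le hP'P hQ
      have hval : ∀ y ∈ P' ⊔ Q, (g : G) * y * (g : G)⁻¹ ∈ (P : Subgroup G) := by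
        intro y hy
        have h1 : (P' ⊔ Q).map (MulAut.conj (g : G)).toMonoidHom ≤ (P : Subgroup G) := by
          rw [Subgroup.map_sup]
          apply sup_le
          · rintro _ ⟨x, hx, rfl⟩
            show (g : G) * x * (g : G)⁻¹ ∈ (P : Subgroup G)
            rw [← hgφ ⟨x, hx⟩]
            exact hTP (hφ ⟨x, hx⟩)
          · rintro _ ⟨q, hq, rfl⟩
            exact hQ (hgQ q hq)
        exact h1 ⟨y, hy, rfl⟩
      refine ⟨⟨hP'P, fun x => hTP (hφ x), (g : G), hgφ⟩, hP', hφ, ?_⟩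
      refine ⟨(MulAut.conj (g : G)).toMonoidHom.comp (P' ⊔ Q).subtype,
        ⟨hsupP, fun y => hval y y.2, (g : G), fun y => rfl⟩, fun x => (hgφ x).symm, ?_⟩
      ext y
      constructor
      · rintro ⟨q, hq, rfl⟩
        exact hgQ q (Subgroup.mem_subgroupOf.mp hq)
      · intro hy
        have hy' := hgQ' y hy
        refine ⟨⟨(g : G)⁻¹ * y * (g : G), Subgroup.mem_sup_right hy'⟩, Subgroup.mem_subgroupOf.mpr hy', ?_⟩
        show (g : G) * ((g : G)⁻¹ * y * (g : G)) * (g : G)⁻¹ = y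
        group
  · -- Sylow
    have hsyl := (gfs_isFullyNormalized_iff p P Q hQ).mp hfn
    obtain ⟨R₀, hR₀⟩ := hsyl.exists_sylow
    refine ⟨R₀.mapSurjective hπs, ?_⟩
    rw [Sylow.coe_mapSurjective, hR₀]
    show (T.subgroupOf Nn).map π = (ιm P Q).range
    ext y
    constructor
    · rintro ⟨x, hx, rfl⟩
      exact ⟨⟨x, Subgroup.mem_subgroupOf.mp hx⟩, rfl⟩
    · rintro ⟨x, rfl⟩
      exact ⟨⟨x, hTN x.2⟩, Subgroup.mem_subgroupOf.mpr x.2, rfl⟩
  · -- `C_L(O_p(L)) ≤ O_p(L)`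
    set Qb : Subgroup (Lm p Q) := (Q.subgroupOf Nn).map π with hQb
    have hQNn : Q ≤ Nn := Subgroup.le_normalizer
    have hQbn : Qb.Normal := by
      have h1 : (Q.subgroupOf Nn).Normal := by
        constructor
        intro q hq n
        rw [Subgroup.mem_subgroupOf] at hq ⊢
        exact (Subgroup.mem_normalizer_iff.mp n.2 _).mp hq
      exact Subgroup.Normal.map h1 π hπs
    have hQbp : IsPGroup p ↥Qb := ((P.isPGroup'.to_le hQ).comap_subtype).map π
    have hQble : Qb ≤ pCore p (Lm p Q) := Cfsg.Agent.Lib.Helper7.le_pCore hQbn hQbp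
    intro l hl
    obtain ⟨n, rfl⟩ := hπs l
    -- `n` centralizes `Q`
    have hnC : (n : G) ∈ Subgroup.centralizer (Q : Set G) := by
      rw [Subgroup.mem_centralizer_iff]
      intro q hq
      have hqb : π ⟨q, hQNn hq⟩ ∈ pCore p (Lm p Q) :=
        hQble ⟨⟨q, hQNn hq⟩, Subgroup.mem_subgroupOf.mpr hq, rfl⟩
      have h1 := Subgroup.mem_centralizer_iff.mp hl _ hqb
      -- π (q * n) = π (n * q)
      rw [← map_mul, ← map_mul] at h1
      have h2 : π ((⟨q, hQNn hq⟩ * n)⁻¹ * (n * ⟨q, hQNn hq⟩)) = 1 := by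
        rw [map_mul, map_inv, h1, inv_mul_cancel]
      have h3 := (hπ1 _).mp h2
      have h4 : (((⟨q, hQNn hq⟩ * n)⁻¹ * (n * ⟨q, hQNn hq⟩) : ↥Nn) : G) =
          ((n : G)⁻¹ * q⁻¹ * (n : G)) * q := by
        simp only [Subgroup.coe_mul, Subgroup.coe_inv]; group
      rw [h4] at h3
      have h5 : (n : G)⁻¹ * q⁻¹ * (n : G) ∈ Q := by
        have := (Subgroup.mem_normalizer_iff.mp (Nn.inv_mem n.2) q⁻¹).mp (Q.inv_mem hq)
        simpa using this
      have h6 := hPW _ (hQ (Q.mul_mem h5 hq)) h3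
      -- n⁻¹ q⁻¹ n q = 1
      have : q * (n : G) = (n : G) * q := by
        have h7 : (n : G)⁻¹ * q⁻¹ * (n : G) = q⁻¹ := mul_eq_one_iff_eq_inv.mp h6
        calc q * (n : G) = q * (n : G) * (q⁻¹ * q) := by group
          _ = q * (n : G) * ((n : G)⁻¹ * q⁻¹ * (n : G) * q) := by rw [h7]
          _ = (n : G) * q := by group
      exact this
    have hdp := (Cfsg.Agent.S2011.result p P Q hQ).mp hcen
    obtain ⟨-, -, hcomm, -, hsup⟩ := hdp
    have hn' : (n : G) ∈ (Q ⊓ Subgroup.centralizer (Q : Set G)) ⊔ Wc p Q := by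
      show (n : G) ∈ (Q ⊓ Subgroup.centralizer (Q : Set G)) ⊔
        (pPrimeCore p ↥(Subgroup.centralizer (Q : Set G))).map (Subgroup.centralizer (Q : Set G)).subtype
      rw [hsup]; exact hnC
    obtain ⟨z, hz, y, hy, hzy⟩ := Cfsg.Agent.S2011.mem_sup_of_commute hcomm hn'
    have hzN : z ∈ Nn := hQNn hz.1
    have hyN : y ∈ Nn := Wc_le_normalizer Q hy
    have e1 : n = ⟨z, hzN⟩ * ⟨y, hyN⟩ := Subtype.ext hzy
    have e2 : π ⟨y, hyN⟩ = 1 := (hπ1 _).mpr hy
    have e3 : π n = π ⟨z, hzN⟩ := by rw [e1, map_mul, e2, mul_one]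
    show π n ∈ pCore p (Lm p Q)
    rw [e3]
    exact hQble ⟨⟨z, hzN⟩, Subgroup.mem_subgroupOf.mpr hz.1, rfl⟩

end Cfsg.Agent.Lib.Helper7.QdLoc
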