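import Mathlib
import Cfsg.Prelude.Def_FusionReduction
import Cfsg.Agent.Lib.Helper7.QdLocC
import Cfsg.Agent.Lib.Helper7.QdLocE
import Cfsg.Agent.Lib.Helper7.FusionNormalizer

/-!
# `F_P(G)` is `Qd(p)`-free iff `G` is (S5206): from the group to the fusion system models
-/

set_option autoImplicit false

namespace Cfsg.Agent.Lib.Helper7.QdLoc

open scoped commutatorElement
open Cfsg Cfsg.FusionSystem Cfsg.Agent.Lib.Helper7 Cfsg.Agent.Lib.Lead.Conj

universe u

section general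
variable {A : Type*} {B : Type*} [Group A] [Group B] {p : ℕ}

theorem IsTriple.map (f : A →* B) {H R K : Subgroup A} (hT : IsTriple p H R K) :
    IsTriple p (H.map f) (R.map f) (K.map f) := by
  have key : ∀ (X : Subgroup A), H ≤ Subgroup.normalizer (X : Set A) →
      H.map f ≤ Subgroup.normalizer ((X.map f : Subgroup B) : Set B) := by
    intro X hX
    rintro _ ⟨h, hh, rfl⟩
    rw [Subgroup.mem_normalizer_iff]
    intro y
    constructor
    · rintro ⟨r, hr, rfl⟩
      exact ⟨h * r * h⁻¹, (Subgroup.mem_normalizer_iff.mp (hX hh) r).mp hr, by simp⟩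
    · rintro ⟨r, hr, hry⟩
      refine ⟨h⁻¹ * r * h, ?_, ?_⟩
      · have := (Subgroup.mem_normalizer_iff.mp ((Subgroup.normalizer (X : Set A)).inv_mem (hX hh)) r).mp hr
        simpa using this
      · rw [map_mul, map_mul, map_inv, hry]; group
  exact ⟨hT.pgroup.map f, Subgroup.map_mono hT.le, Subgroup.map_mono hT.RH, key R hT.normR,
    key K hT.normK⟩

theorem mem_sup_of_normalizes {C R : Subgroup A} (h : R ≤ Subgroup.normalizer (C : Set A)) {y : A}
    (hy : y ∈ C ⊔ R) : ∃ c ∈ C, ∃ r ∈ R, y = c * r := by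
  rw [Subgroup.sup_eq_closure_mul] at hy
  induction hy using Subgroup.closure_induction with
  | mem y hy =>
    obtain ⟨c, hc, r, hr, rfl⟩ := hy
    exact ⟨c, hc, r, hr, rfl⟩
  | one => exact ⟨1, C.one_mem, 1, R.one_mem, (mul_one 1).symm⟩
  | mul a b _ _ iha ihb =>
    obtain ⟨c₁, hc₁, r₁, hr₁, rfl⟩ := iha
    obtain ⟨c₂, hc₂, r₂, hr₂, rfl⟩ := ihb
    refine ⟨c₁ * (r₁ * c₂ * r₁⁻¹), C.mul_mem hc₁ ((Subgroup.mem_normalizer_iff.mp (h hr₁) c₂).mp hc₂),
      r₁ * r₂, R.mul_mem hr₁ hr₂, by group⟩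
  | inv a _ iha =>
    obtain ⟨c, hc, r, hr, rfl⟩ := iha
    refine ⟨r⁻¹ * c⁻¹ * r, ?_, r⁻¹, R.inv_mem hr, by group⟩
    have := (Subgroup.mem_normalizer_iff.mp ((Subgroup.normalizer (C : Set A)).inv_mem (h hr)) c⁻¹).mp (C.inv_mem hc)
    simpa using this

/-- conjugation invariance of unstable triples -/
theorem unstable_conj {H R K : Subgroup A} (g : A) (hT : IsTriple p H R K) (hns : ¬ Stable p H R K) :
    IsTriple p (H.map (MulAut.conj g).toMonoidHom) (R.map (MulAut.conj g).toMonoidHom)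
        (K.map (MulAut.conj g).toMonoidHom) ∧
      ¬ Stable p (H.map (MulAut.conj g).toMonoidHom) (R.map (MulAut.conj g).toMonoidHom)
        (K.map (MulAut.conj g).toMonoidHom) := by
  refine ⟨hT.map _, fun hst => hns ?_⟩
  have hL := Link.of_hom (MulAut.conj g).toMonoidHom H R K hT.normR hT.le (by
    rw [(MonoidHom.ker_eq_bot_iff _).mpr (MulAut.conj g).injective, inf_bot_eq]; exact bot_le)
  exact hL.stable p hst

end general

section fwd
variable {G : Type u} [Group G] [Finite G] {p : ℕ} [hpF : Fact p.Prime]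

theorem normalizer_le_normalizer_sup_centralizer (R : Subgroup G) :
    Subgroup.normalizer (R : Set G) ≤
      Subgroup.normalizer ((R ⊔ Subgroup.centralizer (R : Set G) : Subgroup G) : Set G) := by
  intro h hh
  have hhC := normalizer_le_normalizer_centralizer R hh
  apply mem_normalizer_of_conj_mem
  intro y hy
  have : (R ⊔ Subgroup.centralizer (R : Set G)).map (MulAut.conj h).toMonoidHom ≤
      R ⊔ Subgroup.centralizer (R : Set G) := by
    rw [Subgroup.map_sup]
    apply sup_le_sup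
    · rintro _ ⟨r, hr, rfl⟩
      exact (Subgroup.mem_normalizer_iff.mp hh r).mp hr
    · rintro _ ⟨c, hc, rfl⟩
      exact (Subgroup.mem_normalizer_iff.mp hhC c).mp hc
  exact this ⟨y, hy, rfl⟩

/-- the key configuration: an unstable triple with `R` inside a fully normalized centric `Q` which is a
Sylow subgroup of `R C_G(R)` -/
theorem exists_config (hp : p ≠ 2) (P : Sylow p G) (hinv : Cfsg.Involves ↥(Cfsg.qd p) G) :
    ∃ H R K Q : Subgroup G, IsTriple p H R K ∧ ¬ Stable p H R K ∧ Q ≤ (P : Subgroup G) ∧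
      (groupFusionSystem (P : Subgroup G)).IsFullyNormalized Q ∧ R ≤ Q ∧
      IsSylowIn p Q (R ⊔ Subgroup.centralizer (R : Set G)) := by
  obtain ⟨H, R, K, hT, hns⟩ := exists_unstable_of_involves hp hinv
  obtain ⟨Q₀, hQ₀, hRQ₀⟩ := exists_isSylowIn_ge hT.pgroup
    (le_sup_left : R ≤ R ⊔ Subgroup.centralizer (R : Set G))
  -- move `Q₀` into `P`
  obtain ⟨S', hS'⟩ := hQ₀.isPGroup.exists_le_sylow
  obtain ⟨g₁, hg₁⟩ := MulAction.exists_smul_eq G S' P
  have hQ₁ : Q₀.map (MulAut.conj g₁).toMonoidHom ≤ (P : Subgroup G) := by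
    rw [← hg₁, Sylow.coe_subgroup_smul]
    rintro _ ⟨x, hx, rfl⟩
    exact Subgroup.smul_mem_pointwise_smul _ _ _ (hS' hx)
  obtain ⟨g₂, hg₂P, hg₂⟩ := gfs_exists_conj_isSylowIn_normalizer p P _ hQ₁
  rw [map_conj_mul] at hg₂P hg₂
  set g := g₂ * g₁ with hg
  obtain ⟨hT', hns'⟩ := unstable_conj g hT hns
  refine ⟨_, _, _, Q₀.map (MulAut.conj g).toMonoidHom, hT', hns', hg₂P,
    (gfs_isFullyNormalized_iff p P _ hg₂P).mpr hg₂, Subgroup.map_mono hRQ₀, ?_⟩
  refine ⟨?_, ?_⟩
  · rw [centralizer_map_conj, ← Subgroup.map_sup]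
    exact Subgroup.map_mono hQ₀.1
  · rw [card_map_conj, hQ₀.2, centralizer_map_conj, ← Subgroup.map_sup, card_map_conj]

end fwd

end Cfsg.Agent.Lib.Helper7.QdLoc
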