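import Mathlib
import Cfsg.Prelude.Def_FusionReduction
import Cfsg.Agent.Lib.Helper7.QdLocF

/-!
# `F_P(G)` is `Qd(p)`-free iff `G` is (S5206): the forward direction
-/

set_option autoImplicit false

namespace Cfsg.Agent.Lib.Helper7.QdLoc

open scoped commutatorElement
open Cfsg Cfsg.FusionSystem Cfsg.Agent.Lib.Helper7 Cfsg.Agent.Lib.Lead.Conj

universe u

section general
variable {A : Type*} [Group A] {p : ℕ}

theorem IsTriple.subgroupOf {H R K : Subgroup A} (hT : IsTriple p H R K) (N : Subgroup A) :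
    IsTriple p (H.subgroupOf N) (R.subgroupOf N) (K.subgroupOf N) := by
  have key : ∀ (X : Subgroup A), H ≤ Subgroup.normalizer (X : Set A) →
      H.subgroupOf N ≤ Subgroup.normalizer ((X.subgroupOf N : Subgroup ↥N) : Set ↥N) := by
    intro X hX h hh
    rw [Subgroup.mem_subgroupOf] at hh
    rw [Subgroup.mem_normalizer_iff]
    intro y
    rw [Subgroup.mem_subgroupOf, Subgroup.mem_subgroupOf]
    exact Subgroup.mem_normalizer_iff.mp (hX hh) y
  exact ⟨hT.pgroup.comap_subtype, Subgroup.comap_mono hT.le, Subgroup.comap_mono hT.RH,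
    key R hT.normR, key K hT.normK⟩

theorem IsSylowIn.le_of_pgroup [Finite A] [Fact p.Prime] {Q X Q₂ : Subgroup A} (h : IsSylowIn p Q X)
    (h₁ : Q ≤ Q₂) (h₂ : Q₂ ≤ X) (hp : IsPGroup p ↥Q₂) : Q₂ ≤ Q := by
  obtain ⟨R, hR⟩ := h.exists_sylow
  have h3 : Q₂.subgroupOf X = (R : Subgroup ↥X) := by
    apply R.is_maximal' hp.comap_subtype
    rw [hR]
    exact Subgroup.comap_mono h₁
  intro x hx
  have : (⟨x, h₂ hx⟩ : ↥X) ∈ Q₂.subgroupOf X := Subgroup.mem_subgroupOf.mpr hx
  rw [h3, hR] at this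
  exact Subgroup.mem_subgroupOf.mp this

end general

section fwd
variable {G : Type u} [Group G] [Finite G] {p : ℕ} [hpF : Fact p.Prime]

theorem isSylowIn_conj_sup_centralizer {Q R : Subgroup G}
    (h : IsSylowIn p Q (R ⊔ Subgroup.centralizer (R : Set G))) (g : G) :
    IsSylowIn p (Q.map (MulAut.conj g).toMonoidHom)
      (R.map (MulAut.conj g).toMonoidHom ⊔
        Subgroup.centralizer ((R.map (MulAut.conj g).toMonoidHom : Subgroup G) : Set G)) := by
  refine ⟨?_, ?_⟩
  · rw [centralizer_map_conj, ← Subgroup.map_sup]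
    exact Subgroup.map_mono h.1
  · rw [card_map_conj, h.2, centralizer_map_conj, ← Subgroup.map_sup, card_map_conj]

/-- `Q` is centric in the fusion system -/
theorem isCentric_of_config (P : Sylow p G) {Q R : Subgroup G} (hQP : Q ≤ (P : Subgroup G))
    (hRQ : R ≤ Q) (hSyl : IsSylowIn p Q (R ⊔ Subgroup.centralizer (R : Set G))) :
    (groupFusionSystem (P : Subgroup G)).IsCentric Q := by
  refine ⟨hQP, ?_⟩
  intro Q' hQ'
  obtain ⟨g, rfl, hQ'P⟩ := (gfs_isConj_iff _ _ _ hQP).mp hQ'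
  intro x hx
  have hxP : x ∈ (P : Subgroup G) := hx.1
  have hxC : x ∈ Subgroup.centralizer ((Q.map (MulAut.conj g).toMonoidHom : Subgroup G) : Set G) := hx.2
  have hS' := isSylowIn_conj_sup_centralizer hSyl g
  set Q' := Q.map (MulAut.conj g).toMonoidHom with hQ'def
  set R' := R.map (MulAut.conj g).toMonoidHom with hR'def
  have hR'Q' : R' ≤ Q' := Subgroup.map_mono hRQ
  have hxCR : x ∈ Subgroup.centralizer (R' : Set G) :=
    Subgroup.centralizer_le (by exact_mod_cast hR'Q') hxC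
  have h2 : Q' ⊔ Subgroup.zpowers x ≤ R' ⊔ Subgroup.centralizer (R' : Set G) := by
    apply sup_le hS'.1
    rw [Subgroup.zpowers_le]
    exact Subgroup.mem_sup_right hxCR
  have h3 : Q' ⊔ Subgroup.zpowers x ≤ (P : Subgroup G) := by
    apply sup_le hQ'P
    rw [Subgroup.zpowers_le]
    exact hxP
  have h4 := IsSylowIn.le_of_pgroup hS' le_sup_left h2 (P.isPGroup'.to_le h3)
  exact h4 (Subgroup.mem_sup_right (Subgroup.mem_zpowers x))

/-- conjugation normal form helpers -/
theorem conj_mem_of_mem_normalizer {X : Subgroup G} {h x : G}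
    (hh : h ∈ Subgroup.normalizer (X : Set G)) (hx : x ∈ X) : h * x * h⁻¹ ∈ X :=
  (Subgroup.mem_normalizer_iff.mp hh x).mp hx

theorem conj_mem_of_mem_normalizer' {X : Subgroup G} {h x : G}
    (hh : h ∈ Subgroup.normalizer (X : Set G)) (hx : x ∈ X) : h⁻¹ * x * h ∈ X := by
  have := (Subgroup.mem_normalizer_iff.mp ((Subgroup.normalizer (X : Set G)).inv_mem hh) x).mp hx
  simpa using this

/-- the Frattini step: replace `H` by a subgroup of `N_G(Q)` with the same action on `R` -/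
theorem exists_triple_in_normalizer {H R K Q : Subgroup G} (hT : IsTriple p H R K)
    (hns : ¬ Stable p H R K) (hRQ : R ≤ Q)
    (hSyl : IsSylowIn p Q (R ⊔ Subgroup.centralizer (R : Set G))) :
    ∃ Xs : Subgroup G, Xs ≤ Subgroup.normalizer (Q : Set G) ∧ IsTriple p Xs R K ∧
      ¬ Stable p Xs R K := by
  set C := Subgroup.centralizer (R : Set G) with hC
  have hNC : Subgroup.normalizer (R : Set G) ≤ Subgroup.normalizer (C : Set G) :=
    normalizer_le_normalizer_centralizer R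
  have hRC : R ≤ Subgroup.normalizer (C : Set G) := fun r hr => hNC (Subgroup.le_normalizer hr)
  have hHC : H ≤ Subgroup.normalizer (C : Set G) := fun h hh => hNC (hT.normR hh)
  have hCR : C ≤ Subgroup.normalizer (R : Set G) := Subgroup.centralizer_le_normalizer _
  have hQX : Q ≤ R ⊔ C := hSyl.1
  -- Frattini
  have hfr : ∀ h ∈ H, ∃ c ∈ C, c⁻¹ * h ∈ Subgroup.normalizer (Q : Set G) := by
    intro h hh
    have hhX : h ∈ Subgroup.normalizer ((R ⊔ C : Subgroup G) : Set G) :=
      normalizer_le_normalizer_sup_centralizer R (hT.normR hh)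
    have hSh : IsSylowIn p (Q.map (MulAut.conj h).toMonoidHom) (R ⊔ C) := by
      refine ⟨?_, by rw [card_map_conj, hSyl.2]⟩
      rintro _ ⟨q, hq, rfl⟩
      exact conj_mem_of_mem_normalizer hhX (hQX hq)
    obtain ⟨y, hy, hyQ⟩ := IsSylowIn.conj hSyl hSh
    rw [sup_comm] at hy
    obtain ⟨c, hc, r, hr, rfl⟩ := mem_sup_of_normalizes hRC hy
    refine ⟨c, hc, ?_⟩
    apply mem_normalizer_of_conj_mem
    intro q hq
    have h1 : h * q * h⁻¹ ∈ Q.map (MulAut.conj h).toMonoidHom := conj_mem_map_conj Q h hq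
    rw [hyQ, mem_map_conj] at h1
    have h2 : r * ((c * r)⁻¹ * (h * q * h⁻¹) * (c * r)) * r⁻¹ ∈ Q :=
      Q.mul_mem (Q.mul_mem (hRQ hr) h1) (Q.inv_mem (hRQ hr))
    have e : c⁻¹ * h * q * (c⁻¹ * h)⁻¹ = r * ((c * r)⁻¹ * (h * q * h⁻¹) * (c * r)) * r⁻¹ := by
      group
    rw [e]; exact h2
  refine ⟨Subgroup.normalizer (Q : Set G) ⊓ (C ⊔ H), inf_le_left, ?_, ?_⟩
  · refine ⟨hT.pgroup, hT.le, ?_, ?_, ?_⟩
    · exact le_inf (hRQ.trans Subgroup.le_normalizer) (hT.RH.trans le_sup_right)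
    · exact inf_le_right.trans (sup_le hCR hT.normR)
    · refine inf_le_right.trans (sup_le ?_ hT.normK)
      refine le_trans ?_ (Subgroup.centralizer_le_normalizer (K : Set G))
      exact Subgroup.centralizer_le (by exact_mod_cast hT.le)
  · intro hst
    apply hns
    have hL : Link H R K (Subgroup.normalizer (Q : Set G) ⊓ (C ⊔ H)) R K
        (fun x y => x ∈ R ∧ x = y) := by
      apply Link.of_same_action hT.normR
      · intro h hh
        obtain ⟨c, hc, hch⟩ := hfr h hh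
        refine ⟨c⁻¹ * h, ⟨hch, ?_⟩, ?_⟩
        · exact Subgroup.mul_mem _ (Subgroup.mem_sup_left (C.inv_mem hc)) (Subgroup.mem_sup_right hh)
        · have e : (c⁻¹ * h)⁻¹ * h = h⁻¹ * c * h := by group
          rw [e]
          exact conj_mem_of_mem_normalizer' (hHC hh) hc
      · intro x hx
        obtain ⟨c, hc, h, hh, rfl⟩ := mem_sup_of_normalizes hHC hx.2
        refine ⟨h, hh, ?_⟩
        have e : (c * h)⁻¹ * h = h⁻¹ * c⁻¹ * h := by group
        rw [e]
        exact conj_mem_of_mem_normalizer' (hHC hh) (C.inv_mem hc)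
    exact hL.stable p hst

/-- **Forward direction of S5206** (contrapositive): if `Qd(p)` is involved in `G`, then the fusion
system of `G` is not `Qd(p)`-free. -/
theorem not_isSectionFree_of_involves (hp : p ≠ 2) (P : Sylow p G)
    (hinv : Cfsg.Involves ↥(Cfsg.qd p) G) :
    ¬ (groupFusionSystem (P : Subgroup G)).IsSectionFree p ↥(Cfsg.qd p) := by
  intro hfree
  obtain ⟨H, R, K, Q, hT, hns, hQP, hfn, hRQ, hSyl⟩ := exists_config hp P hinv
  have hcen := isCentric_of_config P hQP hRQ hSyl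
  obtain ⟨Xs, hXsN, hTX, hnsX⟩ := exists_triple_in_normalizer hT hns hRQ hSyl
  obtain ⟨N, hN⟩ := exists_normalizerSystem (groupFusionSystem (P : Subgroup G)) Q hQP
  have hmodel := isModel_normalizer P Q hQP hfn hcen N hN
  have hfreeL : ¬ Cfsg.Involves ↥(Cfsg.qd p) (Lm p Q) :=
    hfree Q hfn hcen N hN (Lm p Q) (ιm P Q) hmodel
  set Nn := Subgroup.normalizer (Q : Set G) with hNn
  have hRN : R ≤ Nn := hTX.RH.trans hXsN
  have hKN : K ≤ Nn := hTX.le.trans hRN
  -- step into `Nn`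
  have hT1 := hTX.subgroupOf Nn
  have hL1 := Link.of_hom Nn.subtype (Xs.subgroupOf Nn) (R.subgroupOf Nn) (K.subgroupOf Nn)
    hT1.normR hT1.le (by
      rw [(MonoidHom.ker_eq_bot_iff _).mpr Nn.subtype_injective, inf_bot_eq]; exact bot_le)
  rw [Subgroup.map_subgroupOf_eq_of_le hXsN, Subgroup.map_subgroupOf_eq_of_le hRN,
    Subgroup.map_subgroupOf_eq_of_le hKN] at hL1
  have hns1 : ¬ Stable p (Xs.subgroupOf Nn) (R.subgroupOf Nn) (K.subgroupOf Nn) :=
    fun h => hnsX ((hL1.stable_iff p).mp h)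
  -- the quotient
  have hL2 := Link.of_hom (QuotientGroup.mk' ((Wc p Q).subgroupOf Nn)) (Xs.subgroupOf Nn)
    (R.subgroupOf Nn) (K.subgroupOf Nn) hT1.normR hT1.le (by
      rintro x ⟨hxR, hxk⟩
      have hxk' : x ∈ (QuotientGroup.mk' ((Wc p Q).subgroupOf Nn)).ker := hxk
      rw [QuotientGroup.ker_mk', Subgroup.mem_subgroupOf] at hxk'
      have hxR' : (x : G) ∈ R := Subgroup.mem_subgroupOf.mp hxR
      have h1 : (x : G) = 1 := eq_one_of_mem_pgroup_of_coprime hT.pgroup (Wc_coprime Q) hxR' hxk'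
      have : x = 1 := Subtype.ext h1
      rw [this]; exact Subgroup.one_mem _)
  have hT2 := hT1.map (QuotientGroup.mk' ((Wc p Q).subgroupOf Nn))
  have hst2 := stable_of_qd_free hp hfreeL hT2
  exact hns1 ((hL2.stable_iff p).mpr hst2)

end fwd

end Cfsg.Agent.Lib.Helper7.QdLoc
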