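import Mathlib
import Cfsg.Prelude.Def_FusionReduction
import Cfsg.Agent.Lib.Helper7.QdLocG

/-!
# `F_P(G)` is `Qd(p)`-free iff `G` is (S5206): the backward direction and the theorem
-/

set_option autoImplicit false

namespace Cfsg.Agent.Lib.Helper7.QdLoc

open scoped commutatorElement
open Cfsg Cfsg.FusionSystem Cfsg.Agent.Lib.Helper7 Cfsg.Agent.Lib.Lead.Conj

universe u

section bwd
variable {L : Type*} {G : Type u} [Group L] [Finite L] [Group G] [Finite G] {p : ℕ} [hpF : Fact p.Prime]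

/-- If conjugations in `L` between subgroups of the image of `T` are realized by conjugations in the
`Qd(p)`-free group `G`, every triple of `L` with `R₁` inside the image of `T` is stable. -/
theorem stable_of_realized (hp : p ≠ 2) (hfree : ¬ Cfsg.Involves ↥(Cfsg.qd p) G)
    (T : Subgroup G) (hTp : IsPGroup p ↥T) (ι : ↥T →* L) (hinj : Function.Injective ι)
    (hreal : ∀ (R : Subgroup G) (hR : R ≤ T) (φ : ↥R →* G) (hφ : ∀ x : R, φ x ∈ T) (l : L),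
      (∀ x : R, ι ⟨φ x, hφ x⟩ = l * ι ⟨x, hR x.2⟩ * l⁻¹) → ∃ g : G, ∀ x : R, φ x = g * x * g⁻¹)
    {H₁ R₁ K₁ : Subgroup L} (hT₁ : IsTriple p H₁ R₁ K₁) (hR₁ : R₁ ≤ ι.range) :
    Stable p H₁ R₁ K₁ := by
  classical
  set R : Subgroup G := (R₁.comap ι).map T.subtype with hRdef
  set K : Subgroup G := (K₁.comap ι).map T.subtype with hKdef
  have hRT : R ≤ T := Subgroup.map_subtype_le _
  have hmemR : ∀ x : G, x ∈ R ↔ ∃ hx : x ∈ T, ι ⟨x, hx⟩ ∈ R₁ := by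
    intro x
    constructor
    · rintro ⟨t, ht, rfl⟩
      exact ⟨t.2, ht⟩
    · rintro ⟨hx, h⟩
      exact ⟨⟨x, hx⟩, h, rfl⟩
  have hmemK : ∀ x : G, x ∈ K ↔ ∃ hx : x ∈ T, ι ⟨x, hx⟩ ∈ K₁ := by
    intro x
    constructor
    · rintro ⟨t, ht, rfl⟩
      exact ⟨t.2, ht⟩
    · rintro ⟨hx, h⟩
      exact ⟨⟨x, hx⟩, h, rfl⟩
  let Θ : L → G → Prop := fun l x => ∃ hx : x ∈ T, ι ⟨x, hx⟩ = l ∧ l ∈ R₁
  have hΘR : ∀ l x, Θ l x → x ∈ R := by
    rintro l x ⟨hx, rfl, hl⟩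
    exact (hmemR x).mpr ⟨hx, hl⟩
  have hΘself : ∀ x (hx : x ∈ R), Θ (ι ⟨x, hRT hx⟩) x := by
    intro x hx
    obtain ⟨hx', h⟩ := (hmemR x).mp hx
    exact ⟨hx', rfl, h⟩
  let H : Subgroup G :=
    { carrier := {g | ∃ h₁ ∈ H₁, Corr Θ h₁ g}
      one_mem' := ⟨1, H₁.one_mem, Corr.one Θ⟩
      mul_mem' := by
        rintro a b ⟨ha, hha, hca⟩ ⟨hb, hhb, hcb⟩
        exact ⟨ha * hb, H₁.mul_mem hha hhb, hca.mul hcb⟩
      inv_mem' := by
        rintro a ⟨ha, hha, hca⟩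
        exact ⟨ha⁻¹, H₁.inv_mem hha, hca.inv⟩ }
  have hmemH : ∀ g : G, g ∈ H ↔ ∃ h₁ ∈ H₁, Corr Θ h₁ g := fun g => Iff.rfl
  -- the link
  have hLink : Link H₁ R₁ K₁ H R K Θ := by
    refine ⟨?_, ?_, ?_, ?_, ?_, ?_, ?_⟩
    · intro l hl
      obtain ⟨t, rfl⟩ := hR₁ hl
      exact ⟨t.1, (hmemR _).mpr ⟨t.2, hl⟩, t.2, rfl, hl⟩
    · intro x hx
      obtain ⟨hx', h⟩ := (hmemR x).mp hx
      exact ⟨_, h, hx', rfl, h⟩
    · rintro l l' x x' ⟨hx, rfl, hl⟩ ⟨hx', rfl, hl'⟩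
      exact ⟨T.mul_mem hx hx', by rw [← map_mul]; rfl, R₁.mul_mem hl hl'⟩
    · rintro l x ⟨hx, rfl, hl⟩
      exact ⟨T.inv_mem hx, by rw [← map_inv]; rfl, R₁.inv_mem hl⟩
    · rintro l x ⟨hx, rfl, hl⟩
      rw [hmemK]
      constructor
      · intro h; exact ⟨hx, h⟩
      · rintro ⟨_, h⟩; exact h
    · -- corr₁ : realization
      intro h₁ hh₁
      have hn₁ : ∀ l ∈ R₁, h₁ * l * h₁⁻¹ ∈ R₁ := fun l hl =>
        conj_mem_of_mem_normalizer (hT₁.normR hh₁) hl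
      have hn₁' : ∀ l ∈ R₁, h₁⁻¹ * l * h₁ ∈ R₁ := fun l hl =>
        conj_mem_of_mem_normalizer' (hT₁.normR hh₁) hl
      have hex : ∀ x : R, ∃ t : T, ι t = h₁ * ι ⟨x, hRT x.2⟩ * h₁⁻¹ := by
        intro x
        obtain ⟨hx', h⟩ := (hmemR x).mp x.2
        exact hR₁ (hn₁ _ h)
      let f : ↥R → G := fun x => ((Classical.choose (hex x) : ↥T) : G)
      have hfT : ∀ x : R, f x ∈ T := fun x => (Classical.choose (hex x)).2
      have hfι : ∀ x : R, ι ⟨f x, hfT x⟩ = h₁ * ι ⟨x, hRT x.2⟩ * h₁⁻¹ := fun x =>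
        Classical.choose_spec (hex x)
      let φ : ↥R →* G := MonoidHom.mk' f (by
        intro a b
        have h1 : ι ⟨f (a * b), hfT (a * b)⟩ = ι (⟨f a, hfT a⟩ * ⟨f b, hfT b⟩) := by
          rw [map_mul, hfι, hfι, hfι]
          have : (⟨((a * b : ↥R) : G), hRT (a * b).2⟩ : ↥T) = ⟨a, hRT a.2⟩ * ⟨b, hRT b.2⟩ := rfl
          rw [this, map_mul]
          group
        exact congrArg Subtype.val (hinj h1))
      have hφf : ∀ x : R, φ x = f x := fun x => rfl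
      obtain ⟨g, hg⟩ := hreal R hRT φ hfT h₁ hfι
      refine ⟨g, ⟨h₁, hh₁, ?_⟩, ?_⟩ <;>
      · rintro l x ⟨hx, rfl, hl⟩
        have hxR : x ∈ R := (hmemR x).mpr ⟨hx, hl⟩
        constructor
        · have e : g * x * g⁻¹ = f ⟨x, hxR⟩ := (hg ⟨x, hxR⟩).symm
          rw [e]
          exact ⟨hfT _, hfι _, hn₁ _ hl⟩
        · obtain ⟨t', ht'⟩ := hR₁ (hn₁' _ hl)
          have ht'R : (t' : G) ∈ R := (hmemR _).mpr ⟨t'.2, by rw [ht']; exact hn₁' _ hl⟩
          have h2 : ι ⟨f ⟨t', ht'R⟩, hfT _⟩ = ι ⟨x, hx⟩ := by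
            rw [hfι]
            show h₁ * ι t' * h₁⁻¹ = _
            rw [ht']; group
          have h3 : f ⟨t', ht'R⟩ = x := congrArg Subtype.val (hinj h2)
          have h4 : g * (t' : G) * g⁻¹ = x := by rw [← h3]; exact (hg ⟨t', ht'R⟩).symm
          have e : g⁻¹ * x * g = (t' : G) := by rw [← h4]; group
          rw [e]
          exact ⟨t'.2, ht', hn₁' _ hl⟩
    · intro g hg
      obtain ⟨h₁, hh₁, hc⟩ := hg
      exact ⟨h₁, hh₁, hc⟩
  -- the triple in `G`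
  have hTG : IsTriple p H R K := by
    refine ⟨hTp.to_le hRT, ?_, ?_, ?_, ?_⟩
    · exact Subgroup.map_mono (Subgroup.comap_mono hT₁.le)
    · intro r hr
      obtain ⟨hr', hrι⟩ := (hmemR r).mp hr
      refine ⟨ι ⟨r, hr'⟩, hT₁.RH hrι, ?_⟩
      rintro l x ⟨hx, rfl, hl⟩
      constructor
      · exact ⟨T.mul_mem (T.mul_mem hr' hx) (T.inv_mem hr'),
          by rw [← map_inv, ← map_mul, ← map_mul]; rfl,
          R₁.mul_mem (R₁.mul_mem hrι hl) (R₁.inv_mem hrι)⟩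
      · exact ⟨T.mul_mem (T.mul_mem (T.inv_mem hr') hx) hr',
          by rw [← map_inv, ← map_mul, ← map_mul]; rfl,
          R₁.mul_mem (R₁.mul_mem (R₁.inv_mem hrι) hl) hrι⟩
    · intro g hg
      obtain ⟨h₁, hh₁, hc⟩ := hg
      rw [Subgroup.mem_normalizer_iff]
      intro x
      constructor
      · intro hx
        exact hΘR _ _ (hc _ _ (hΘself x hx)).1
      · intro hx
        have := hΘR _ _ (hc _ _ (hΘself _ hx)).2
        have e : g⁻¹ * (g * x * g⁻¹) * g = x := by group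
        rwa [e] at this
    · intro g hg
      obtain ⟨h₁, hh₁, hc⟩ := hg
      have hKR : K ≤ R := Subgroup.map_mono (Subgroup.comap_mono hT₁.le)
      rw [Subgroup.mem_normalizer_iff]
      intro x
      constructor
      · intro hx
        obtain ⟨hx', hxι⟩ := (hmemK x).mp hx
        have h1 := (hc _ _ (hΘself x (hKR hx))).1
        exact (hLink.mem _ _ h1).mp (conj_mem_of_mem_normalizer (hT₁.normK hh₁) hxι)
      · intro hx
        obtain ⟨hx', hxι⟩ := (hmemK _).mp hx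
        have h1 := (hc _ _ (hΘself _ (hKR hx))).2
        have h2 := (hLink.mem _ _ h1).mp (conj_mem_of_mem_normalizer' (hT₁.normK hh₁) hxι)
        have e : g⁻¹ * (g * x * g⁻¹) * g = x := by group
        rwa [e] at h2
  exact hLink.stable p (stable_of_qd_free hp hfree hTG)

end bwd

section main
variable {G : Type u} [Group G] [Finite G] {p : ℕ} [hpF : Fact p.Prime]

/-- **Backward direction of S5206**. -/
theorem isSectionFree_of_not_involves (hp : p ≠ 2) (P : Sylow p G)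
    (hfree : ¬ Cfsg.Involves ↥(Cfsg.qd p) G) :
    (groupFusionSystem (P : Subgroup G)).IsSectionFree p ↥(Cfsg.qd p) := by
  intro Q hfn hcen N hN L _ ι hmodel hinv
  obtain ⟨hfin, ⟨hinj, hreal⟩, ⟨T', hT'⟩, -⟩ := hmodel
  have := hfin
  obtain ⟨H₁, R₁, K₁, hT₁, hns₁⟩ := exists_unstable_of_involves hp hinv
  -- conjugate into `T'`
  obtain ⟨S', hS'⟩ := hT₁.pgroup.exists_le_sylow
  obtain ⟨g, hg⟩ := MulAction.exists_smul_eq L S' T'
  obtain ⟨hT₂, hns₂⟩ := unstable_conj g hT₁ hns₁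
  have hR₂ : R₁.map (MulAut.conj g).toMonoidHom ≤ ι.range := by
    rw [← hT', ← hg, Sylow.coe_subgroup_smul]
    rintro _ ⟨x, hx, rfl⟩
    exact Subgroup.smul_mem_pointwise_smul _ _ _ (hS' hx)
  apply hns₂
  refine stable_of_realized hp hfree (normalizerIn (P : Subgroup G) Q)
    (P.isPGroup'.to_le inf_le_left) ι hinj ?_ hT₂ hR₂
  intro R hR φ hφ l hl
  have h1 : φ ∈ N.Hom R := (hreal R hR φ hφ).mpr ⟨l, hl⟩
  rw [hN R] at h1
  obtain ⟨⟨-, -, g, hg⟩, -⟩ := h1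
  exact ⟨g, hg⟩

/-- **S5206**: for `p` odd, the fusion system of `G` on a Sylow `p`-subgroup is `Qd(p)`-free iff `Qd(p)`
is not involved in `G`. -/
theorem isSectionFree_qd_iff (hp : p ≠ 2) (P : Sylow p G) :
    (groupFusionSystem (P : Subgroup G)).IsSectionFree p ↥(Cfsg.qd p) ↔
      ¬ Cfsg.Involves ↥(Cfsg.qd p) G :=
  ⟨fun h hinv => not_isSectionFree_of_involves hp P hinv h,
    fun h => isSectionFree_of_not_involves hp P h⟩

end main

end Cfsg.Agent.Lib.Helper7.QdLoc
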