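import Mathlib
import Cfsg.Prelude.Def_Solvable
import Cfsg.Prelude.Def_LocalEven
import Cfsg.Agent.Lib.Helper7.SylowLift
import Cfsg.Agent.Lib.Helper7.GroupNormalSubsystem
import Cfsg.Agent.Lib.Helper7.InvolvesLib
import Cfsg.Agent.Lib.Helper7.Core
import Cfsg.Agent.Lib.Lead.PiCore
import Cfsg.Agent.Lib.Lead.PComplement

set_option autoImplicit false

/-!
# Group-theoretic lemmas for quotients of models
-/

namespace Cfsg.Agent.Lib.Helper7.QdQ

open Cfsg Cfsg.Agent.Lib.Helper7 Cfsg.Agent.Lib.Lead.PiCore Cfsg.Agent.Lib.Lead.PComplement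

universe u v w

/-- lifting conjugation between subgroups of the image of a Sylow subgroup through a surjection -/
theorem exists_lift_conj_of_surjective {G : Type u} {G₂ : Type v} [Group G] [Group G₂] [Finite G] {p : ℕ}
    [Fact p.Prime] (π : G →* G₂) (hπ : Function.Surjective π) (P₀ : Sylow p G) (P : Subgroup G)
    (hP : P ≤ (P₀ : Subgroup G)) (γ : G₂) (hγ : ∀ x ∈ P, γ * π x * γ⁻¹ ∈ (P₀ : Subgroup G).map π) :
    ∃ g : G, π g = γ ∧ ∀ x ∈ P, g * x * g⁻¹ ∈ (P₀ : Subgroup G) := by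
  obtain ⟨g₀, rfl⟩ := hπ γ
  have hRp : IsPGroup p ↥(P.map (MulAut.conj g₀).toMonoidHom) := (P₀.isPGroup'.to_le hP).map _
  have hR : P.map (MulAut.conj g₀).toMonoidHom ≤ π.ker ⊔ (P₀ : Subgroup G) := by
    rintro _ ⟨x, hx, rfl⟩
    obtain ⟨s, hs, hsx⟩ := hγ x hx
    have e : (MulAut.conj g₀).toMonoidHom x = ((MulAut.conj g₀).toMonoidHom x * s⁻¹) * s := by group
    rw [e]
    refine Subgroup.mul_mem_sup ?_ hs
    rw [MonoidHom.mem_ker, map_mul, map_inv, hsx]
    simp [MulAut.conj_apply]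
  obtain ⟨n, hn, hnz⟩ := exists_conj_le_sylow_of_le_sup P₀ π.ker _ hRp hR
  refine ⟨n⁻¹ * g₀, ?_, fun x hx => ?_⟩
  · rw [map_mul, map_inv, MonoidHom.mem_ker.mp hn, inv_one, one_mul]
  · have := hnz _ ⟨x, hx, rfl⟩
    have e : n⁻¹ * g₀ * x * (n⁻¹ * g₀)⁻¹ = n⁻¹ * (MulAut.conj g₀).toMonoidHom x * n := by
      simp [MulAut.conj_apply]; group
    rw [e]; exact this

/-- sections of a quotient are sections of the group -/
theorem involves_of_surjective {H : Type w} [Group H] {G : Type u} {G₂ : Type v} [Group G] [Group G₂]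
    (π : G →* G₂) (hπ : Function.Surjective π) (h : Involves H G₂) : Involves H G := by
  rw [involves_iff_exists_surjective] at h ⊢
  obtain ⟨K, φ, hφ⟩ := h
  exact ⟨K.comap π, φ.comp (π.subgroupComap K),
    hφ.comp (π.subgroupComap_surjective_of_surjective K hπ)⟩

/-- a finite group with trivial `p'`-core and a normal `p`-subgroup `R` containing its centralizer in a Sylow
`p`-subgroup is `p`-constrained -/
theorem centralizer_pCore_le_of_pPrimeCore_eq_bot {G : Type u} [Group G] [Finite G] {p : ℕ} [hp : Fact p.Prime]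
    (hbot : pPrimeCore p G = ⊥) (R : Subgroup G) [hRn : R.Normal] (hR : IsPGroup p R)
    (P : Sylow p G) (hcen : (P : Subgroup G) ⊓ Subgroup.centralizer (R : Set G) ≤ R) :
    Subgroup.centralizer ((pCore p G : Subgroup G) : Set G) ≤ pCore p G := by
  obtain ⟨D, hD⟩ : ∃ D : Subgroup G, D = Subgroup.centralizer (R : Set G) := ⟨_, rfl⟩
  have hDn : D.Normal := hD ▸ Subgroup.normal_centralizer
  obtain ⟨PD, hPD⟩ := (isSylowIn_inf_normal p P D).exists_sylow
  have hcentral : (PD : Subgroup ↥D) ≤ Subgroup.center ↥D := by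
    intro x hx
    rw [hPD, Subgroup.mem_subgroupOf] at hx
    have hxR : (x : G) ∈ R := hcen ⟨hx.1, hD ▸ hx.2⟩
    rw [Subgroup.mem_center_iff]
    intro d
    apply Subtype.ext
    have hd : (d : G) ∈ Subgroup.centralizer (R : Set G) := hD ▸ d.2
    exact (Subgroup.mem_centralizer_iff.mp hd x hxR).symm
  have hcard := card_eq_card_pPrimeCore_mul_of_central_sylow PD hcentral
  have hbotD : pPrimeCore p ↥D = ⊥ := by
    have h1 : (pPrimeCore p ↥D).map D.subtype ≤ pPrimeCore p G := by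
      rw [pPrimeCore_eq_piCore hp.out, pPrimeCore_eq_piCore hp.out]
      exact map_subtype_piCore_le_of_normal _ D
    rw [hbot, le_bot_iff] at h1
    exact (Subgroup.map_eq_bot_iff_of_injective _ D.subtype_injective).mp h1
  rw [hbotD, Subgroup.card_bot, one_mul] at hcard
  have hDp : IsPGroup p ↥D := by
    obtain ⟨k, hk⟩ := IsPGroup.iff_card.mp PD.isPGroup'
    exact IsPGroup.of_card (hcard.trans hk)
  have hDle : D ≤ pCore p G := le_pCore hDn hDp
  have hRle : R ≤ pCore p G := le_pCore hRn hR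
  intro x hx
  apply hDle
  rw [hD]
  exact Subgroup.centralizer_le (show (R : Set G) ⊆ (pCore p G : Set G) from hRle) hx

/-- quotient by a normal subgroup `A` followed by the quotient by the `p'`-core: a quotient with trivial `p'`-core in
which exactly the `p`-elements of `A` become trivial among `p`-elements -/
theorem exists_quotient_pPrimeCore_eq_bot {L : Type u} [Group L] [Finite L] {p : ℕ} [hp : Fact p.Prime]
    (A : Subgroup L) [hA : A.Normal] :
    ∃ (L₂ : Type u) (_ : Group L₂) (_ : Finite L₂) (π : L →* L₂), Function.Surjective π ∧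
      pPrimeCore p L₂ = ⊥ ∧ ∀ x : L, (∃ k : ℕ, x ^ p ^ k = 1) → (π x = 1 ↔ x ∈ A) := by
  haveI hn : (pPrimeCore p (L ⧸ A)).Normal := Cfsg.Agent.Lib.Lead.PiCore.pPrimeCore_normal p
  refine ⟨(L ⧸ A) ⧸ pPrimeCore p (L ⧸ A), inferInstance, inferInstance,
    (QuotientGroup.mk' _).comp (QuotientGroup.mk' A),
    (QuotientGroup.mk'_surjective _).comp (QuotientGroup.mk'_surjective _),
    pPrimeCore_quotient_eq_bot hp.out, ?_⟩
  rintro x ⟨k, hk⟩
  rw [MonoidHom.comp_apply, QuotientGroup.mk'_apply, QuotientGroup.eq_one_iff]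
  constructor
  · intro hx
    have hcop : (Nat.card ↥(pPrimeCore p (L ⧸ A))).Coprime p := pPrimeCore_coprime hp.out
    have h1 : orderOf (⟨_, hx⟩ : ↥(pPrimeCore p (L ⧸ A))) ∣ Nat.card ↥(pPrimeCore p (L ⧸ A)) :=
      orderOf_dvd_natCard _
    have h2 : orderOf (⟨_, hx⟩ : ↥(pPrimeCore p (L ⧸ A))) ∣ p ^ k := by
      apply orderOf_dvd_of_pow_eq_one
      apply Subtype.ext
      show (QuotientGroup.mk' A x) ^ p ^ k = 1
      rw [← map_pow, hk, map_one]
    have h3 : orderOf (⟨_, hx⟩ : ↥(pPrimeCore p (L ⧸ A))) = 1 :=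
      Nat.eq_one_of_dvd_coprimes (Nat.Coprime.pow_right k hcop) h1 h2
    have h4 := orderOf_eq_one_iff.mp h3
    have h5 : QuotientGroup.mk' A x = 1 := congrArg Subtype.val h4
    exact (QuotientGroup.eq_one_iff x).mp h5
  · intro hx
    have : QuotientGroup.mk' A x = 1 := (QuotientGroup.eq_one_iff x).mpr hx
    rw [this]
    exact Subgroup.one_mem _

end Cfsg.Agent.Lib.Helper7.QdQ
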