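import Mathlib
import Cfsg.Prelude.Def_FusionSystem
import Cfsg.Prelude.Def_FusionComponents
import Cfsg.Agent.Lib.Helper7.RealizedNormal
import Cfsg.Agent.Lib.Helper7.QdQa
import Cfsg.Agent.Lib.Helper7.QdQb

set_option autoImplicit false

/-!
# A quotient of a model of `N_F(R)` realizes `N_{F/S₀}(R/S₀)`
-/

namespace Cfsg.Agent.Lib.Helper7.QdQ

open Cfsg Cfsg.FusionSystem Cfsg.Agent.Lib.Helper7

universe u v w w'

variable {Ω : Type u} [Group Ω] {S : Subgroup Ω} {Ω' : Type v} [Group Ω'] {S' : Subgroup Ω'}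

theorem isRealizedBy_quotient [Finite S] (p : ℕ) [Fact p.Prime] (hS : IsPGroup p S)
    (F : FusionSystem S) (hF : F.IsSaturated p) (S₀ : Subgroup Ω) (hS₀ : F.StronglyClosed S₀)
    (θ : S →* Ω') (E : FusionSystem S') (hE : F.IsFactorSystem S₀ θ E) {R' : Subgroup Ω'} (hR' : R' ≤ S')
    (N : FusionSystem (normalizerIn S (preimageAlong θ R')))
    (hN : F.IsNormalizerSystem (preimageAlong θ R') N)
    (N' : FusionSystem (normalizerIn S' R')) (hN' : E.IsNormalizerSystem R' N')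
    {L : Type w} [Group L] [Finite L] (ι : ↥(normalizerIn S (preimageAlong θ R')) →* L)
    (hreal : N.IsRealizedBy ι) (P₀ : Sylow p L) (hP₀ : (P₀ : Subgroup L) = ι.range)
    {L₂ : Type w'} [Group L₂] (π : L →* L₂) (hπ : Function.Surjective π)
    (hπker : ∀ t : ↥(normalizerIn S (preimageAlong θ R')), π (ι t) = 1 ↔ (t : Ω) ∈ S₀)
    (ι₂ : ↥(normalizerIn S' R') →* L₂)
    (hι₂ : ∀ (t : ↥(normalizerIn S (preimageAlong θ R'))) (y : ↥(normalizerIn S' R')),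
      θ ⟨t, (inf_le_left : normalizerIn S (preimageAlong θ R') ≤ S) t.2⟩ = (y : Ω') → ι₂ y = π (ι t)) :
    N'.IsRealizedBy ι₂ := by
  have hker := hE.2.1
  have hrange := hE.2.2.1
  have hθ : ∀ s : S, θ s ∈ S' := fun s => hrange ▸ ⟨s, rfl⟩
  obtain ⟨T, hTdef⟩ : ∃ T : Subgroup Ω, T = normalizerIn S (preimageAlong θ R') := ⟨_, rfl⟩
  have hTS : normalizerIn S (preimageAlong θ R') ≤ S := inf_le_left
  have hT'S' : normalizerIn S' R' ≤ S' := inf_le_left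
  have hTpre : normalizerIn S (preimageAlong θ R') = preimageAlong θ (normalizerIn S' R') :=
    normalizerIn_preimage θ hrange hR'
  have hinj := hreal.1
  -- surjectivity of `θ` on the normalizers
  have hsurj : ∀ y : ↥(normalizerIn S' R'), ∃ t : ↥(normalizerIn S (preimageAlong θ R')),
      θ ⟨t, hTS t.2⟩ = (y : Ω') := by
    intro y
    obtain ⟨x, hx, hxy⟩ := exists_preimage_of_mem θ S' hrange hT'S' (y : Ω') y.2
    exact ⟨⟨x, hTpre ▸ hx⟩, hxy⟩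
  have hθT : ∀ t : ↥(normalizerIn S (preimageAlong θ R')), θ ⟨t, hTS t.2⟩ ∈ normalizerIn S' R' := by
    intro t
    have h1 : (t : Ω) ∈ preimageAlong θ (normalizerIn S' R') := hTpre.le t.2
    exact ((mem_preimageAlong θ _ _).mp h1).2
  have hι₂inj : Function.Injective ι₂ := by
    rw [injective_iff_map_eq_one]
    intro y hy
    obtain ⟨t, ht⟩ := hsurj y
    rw [hι₂ t y ht, hπker] at hy
    have := (hker ⟨t, hTS t.2⟩).mpr hy
    apply Subtype.ext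
    rw [← ht, this]
    rfl
  refine ⟨hι₂inj, fun P' hP' φ' hφ' => ?_⟩
  constructor
  · intro h
    rw [hN' P'] at h
    obtain ⟨P₁, ψ, hψ, hlift⟩ := exists_lift_of_normalizerHom F S₀ θ E hE hR' h
    rw [← hN P₁] at hψ
    obtain ⟨hP₁T, hψT⟩ := N.le_of_mem hψ
    obtain ⟨g, hg⟩ := (hreal.2 P₁ hP₁T ψ hψT).mp hψ
    refine ⟨π g, fun x' => ?_⟩
    obtain ⟨x, hx, hψx, h1, h2⟩ := hlift x'
    rw [hι₂ ⟨ψ x, hψT x⟩ ⟨φ' x', hφ' x'⟩ h2, hι₂ ⟨x, hP₁T x.2⟩ ⟨x', hP' x'.2⟩ h1, hg x, map_mul, map_mul,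
      map_inv]
  · rintro ⟨g₂, hg₂⟩
    obtain ⟨P, hPdef⟩ : ∃ P : Subgroup Ω, P = preimageAlong θ P' := ⟨_, rfl⟩
    have hPT : preimageAlong θ P' ≤ normalizerIn S (preimageAlong θ R') := by
      rw [hTpre]
      exact preimageAlong_mono θ hP'
    have hPS : preimageAlong θ P' ≤ S := preimageAlong_le θ P'
    have hPP' : ∀ x : ↥(preimageAlong θ P'), θ ⟨x, hPS x.2⟩ ∈ P' := fun x =>
      ((mem_preimageAlong θ P' _).mp x.2).2
    -- conjugation by `g₂` on the image of `P`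
    have hconj : ∀ x : ↥(preimageAlong θ P'), ∃ t₁ : ↥(normalizerIn S (preimageAlong θ R')),
        θ ⟨t₁, hTS t₁.2⟩ = φ' ⟨θ ⟨x, hPS x.2⟩, hPP' x⟩ ∧
        g₂ * π (ι ⟨x, hPT x.2⟩) * g₂⁻¹ = π (ι t₁) := by
      intro x
      obtain ⟨t₁, ht₁⟩ := hsurj ⟨φ' ⟨θ ⟨x, hPS x.2⟩, hPP' x⟩, hφ' _⟩
      refine ⟨t₁, ht₁, ?_⟩
      rw [← hι₂ t₁ _ ht₁, hg₂, hι₂ ⟨x, hPT x.2⟩ ⟨θ ⟨x, hPS x.2⟩, hP' (hPP' x)⟩ rfl]
    have hPι : ((preimageAlong θ P').subgroupOf (normalizerIn S (preimageAlong θ R'))).map ι ≤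
        (P₀ : Subgroup L) := by
      rw [hP₀]
      rintro _ ⟨t, -, rfl⟩
      exact ⟨t, rfl⟩
    obtain ⟨g, hgπ, hgP⟩ := exists_lift_conj_of_surjective π hπ P₀ _ hPι g₂ (by
      rintro _ ⟨t, ht0, rfl⟩
      have ht : (t : Ω) ∈ preimageAlong θ P' := Subgroup.mem_subgroupOf.mp ht0
      obtain ⟨t₁, -, h2⟩ := hconj ⟨t, ht⟩
      rw [h2, hP₀]
      exact ⟨ι t₁, ⟨t₁, rfl⟩, rfl⟩)
    have hgr : ∀ x : ↥(preimageAlong θ P'), g * ι ⟨x, hPT x.2⟩ * g⁻¹ ∈ ι.range := by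
      intro x
      rw [← hP₀]
      exact hgP _ ⟨⟨x, hPT x.2⟩, Subgroup.mem_subgroupOf.mpr x.2, rfl⟩
    obtain ⟨φ, hφdef⟩ : ∃ φ, φ = pullConj ι hinj g (preimageAlong θ P') hPT hgr := ⟨_, rfl⟩
    have hφT : ∀ x, φ x ∈ normalizerIn S (preimageAlong θ R') := fun x => by
      rw [hφdef]; exact pullConj_mem ι hinj g _ hPT hgr x
    have hφspec : ∀ x, ι ⟨φ x, hφT x⟩ = g * ι ⟨x, hPT x.2⟩ * g⁻¹ := fun x => by
      subst hφdef; exact pullConj_spec ι hinj g _ hPT hgr x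
    have hφN : φ ∈ N.Hom (preimageAlong θ P') := (hreal.2 _ hPT φ hφT).mpr ⟨g, hφspec⟩
    rw [hN] at hφN
    have hφS : ∀ x, φ x ∈ S := fun x => hTS (hφT x)
    have hind : InducedAlong θ φ φ' := by
      refine ⟨hPS, hφS, hPP', fun x => ?_⟩
      obtain ⟨t₁, ht₁, h2⟩ := hconj x
      rw [← ht₁]
      have h3 : π (ι t₁) = π (ι ⟨φ x, hφT x⟩) := by
        rw [← h2, hφspec x, map_mul, map_mul, map_inv, hgπ]
      have h4 : ι₂ ⟨θ ⟨t₁, hTS t₁.2⟩, hθT t₁⟩ = ι₂ ⟨θ ⟨φ x, hφS x⟩, hθT ⟨φ x, hφT x⟩⟩ := by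
        rw [hι₂ t₁ _ rfl, hι₂ ⟨φ x, hφT x⟩ _ rfl, h3]
      exact congrArg (fun t : ↥(normalizerIn S' R') => (t : Ω')) (hι₂inj h4)
    rw [hN' P']
    exact normalizerHom_of_induced p hS F hF S₀ hS₀ θ E hE hR' (hP'.trans hT'S') hφN hind

end Cfsg.Agent.Lib.Helper7.QdQ
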