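import Mathlib
import Cfsg.Prelude.Def_FusionSystem
import Cfsg.Prelude.Def_FusionComponents
import Cfsg.Prelude.Def_FusionReduction
import Cfsg.Agent.Lib.Helper7.QdQc
import Cfsg.Agent.Lib.Helper7.ModelUqC
import Cfsg.Agent.Lib.Helper7.ModelUqE
import Cfsg.Agent.Lib.Helper7.ModelExI
import Cfsg.Agent.Lib.Helper7.NormalizerConstrained
import Cfsg.Agent.Lib.Helper7.FusionNormalizer
import Cfsg.Agent.Lib.Helper7.FusionNormal

set_option autoImplicit false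
set_option linter.style.haveILetI false

/-!
# Factor systems of `H`-free fusion systems are `H`-free
-/

namespace Cfsg.Agent.Lib.Helper7.QdQ

open Cfsg Cfsg.FusionSystem Cfsg.Agent.Lib.Helper7 Cfsg.Agent.Lib.Helper7.ModelUq
  Cfsg.Agent.Lib.Helper7.ModelEx

universe u v w

variable {Ω : Type u} [Group Ω] {S : Subgroup Ω} {Ω' : Type v} [Group Ω'] {S' : Subgroup Ω'}

/-- a suitable quotient of a model of `N_F(R)`, `R` the preimage of the centric subgroup `R'` of the factor system, is a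
model of `N_{F/S₀}(R')` -/
theorem exists_model_quotient [Finite S] (p : ℕ) [Fact p.Prime] (hS : IsPGroup p S)
    (F : FusionSystem S) (hF : F.IsSaturated p) (S₀ : Subgroup Ω) (hS₀ : F.StronglyClosed S₀)
    (θ : S →* Ω') (E : FusionSystem S') (hE : F.IsFactorSystem S₀ θ E) {R' : Subgroup Ω'}
    (hR'c : E.IsCentric R')
    (N : FusionSystem (normalizerIn S (preimageAlong θ R')))
    (hN : F.IsNormalizerSystem (preimageAlong θ R') N)
    (N' : FusionSystem (normalizerIn S' R')) (hN' : E.IsNormalizerSystem R' N')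
    {L : Type w} [Group L] (ι : ↥(normalizerIn S (preimageAlong θ R')) →* L) (hL : N.IsModel p L ι) :
    ∃ (L₂ : Type w) (_ : Group L₂) (ι₂ : ↥(normalizerIn S' R') →* L₂) (π : L →* L₂),
      Function.Surjective π ∧ N'.IsModel p L₂ ι₂ := by
  have hker := hE.2.1
  have hrange := hE.2.2.1
  have hθ : ∀ s : S, θ s ∈ S' := fun s => hrange ▸ ⟨s, rfl⟩
  have hR' : R' ≤ S' := hR'c.1
  have hTS : normalizerIn S (preimageAlong θ R') ≤ S := inf_le_left
  have hT'S' : normalizerIn S' R' ≤ S' := inf_le_left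
  have hTpre : normalizerIn S (preimageAlong θ R') = preimageAlong θ (normalizerIn S' R') :=
    normalizerIn_preimage θ hrange hR'
  haveI : Finite ↥(normalizerIn S (preimageAlong θ R')) := finite_of_le hTS
  have hRS : preimageAlong θ R' ≤ S := preimageAlong_le θ R'
  have h0R : S₀ ≤ preimageAlong θ R' := ker_le_preimage θ S₀ hS₀.1 hker R'
  have hRT : preimageAlong θ R' ≤ normalizerIn S (preimageAlong θ R') := le_inf hRS Subgroup.le_normalizer
  have h0T : S₀ ≤ normalizerIn S (preimageAlong θ R') := h0R.trans hRT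
  have hNR : N.IsNormal (preimageAlong θ R') := isNormal_normalizerSystem F hRS N hN
  have hRn : (imQ ι (preimageAlong θ R')).Normal := imQ_normal p N ι hL hNR
  obtain ⟨hfin, hreal, ⟨P₀, hP₀⟩, hcent⟩ := hL
  haveI := hfin
  have hinj := hreal.1
  have hTp : IsPGroup p ↥(normalizerIn S (preimageAlong θ R')) := hS.to_le hTS
  -- the image of `S₀` is normal in `L`
  haveI hAn : (imQ ι S₀).Normal := by
    constructor
    intro x hx g
    obtain ⟨q, rfl⟩ := (mem_imQ_iff ι h0T x).mp hx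
    have hgr : ∀ r : ↥(preimageAlong θ R'), g * ι ⟨r, hRT r.2⟩ * g⁻¹ ∈ ι.range := by
      intro r
      have h1 : ι ⟨r, hRT r.2⟩ ∈ imQ ι (preimageAlong θ R') := (mem_imQ_iff ι hRT _).mpr ⟨r, rfl⟩
      have h2 := hRn.conj_mem _ h1 g
      obtain ⟨r', hr'⟩ := (mem_imQ_iff ι hRT _).mp h2
      exact ⟨_, hr'.symm⟩
    obtain ⟨φ, hφdef⟩ : ∃ φ, φ = pullConj ι hinj g (preimageAlong θ R') hRT hgr := ⟨_, rfl⟩
    have hφT : ∀ x, φ x ∈ normalizerIn S (preimageAlong θ R') := fun x => by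
      rw [hφdef]; exact pullConj_mem ι hinj g _ hRT hgr x
    have hφspec : ∀ x, ι ⟨φ x, hφT x⟩ = g * ι ⟨x, hRT x.2⟩ * g⁻¹ := fun x => by
      subst hφdef; exact pullConj_spec ι hinj g _ hRT hgr x
    have hφN : φ ∈ N.Hom (preimageAlong θ R') := (hreal.2 _ hRT φ hφT).mpr ⟨g, hφspec⟩
    rw [hN] at hφN
    have hφF : φ ∈ F.Hom (preimageAlong θ R') := hφN.1
    have h3 := hS₀.2 S₀ le_rfl _ (fs_restrict_mem F h0R hφF) q
    refine (mem_imQ_iff ι h0T _).mpr ⟨⟨_, h3⟩, ?_⟩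
    exact (hφspec ⟨q, h0R q.2⟩).symm
  obtain ⟨L₂, hL₂g, hL₂f, π, hπ, hbot, hkerp⟩ := exists_quotient_pPrimeCore_eq_bot (p := p) (imQ ι S₀)
  have hπker : ∀ t : ↥(normalizerIn S (preimageAlong θ R')), π (ι t) = 1 ↔ (t : Ω) ∈ S₀ := by
    intro t
    obtain ⟨k, hk⟩ := hTp t
    rw [hkerp (ι t) ⟨k, by rw [← map_pow, hk, map_one]⟩, mem_imQ_iff ι h0T]
    constructor
    · rintro ⟨q, hq⟩
      have := hinj hq
      rw [this]
      exact q.2
    · intro ht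
      exact ⟨⟨t, ht⟩, rfl⟩
  have hθT : ∀ t : ↥(normalizerIn S (preimageAlong θ R')), θ ⟨t, hTS t.2⟩ ∈ normalizerIn S' R' := by
    intro t
    have h1 : (t : Ω) ∈ preimageAlong θ (normalizerIn S' R') := hTpre.le t.2
    exact ((mem_preimageAlong θ _ _).mp h1).2
  obtain ⟨θT, hθTdef⟩ : ∃ θT : ↥(normalizerIn S (preimageAlong θ R')) →* ↥(normalizerIn S' R'),
      θT = (θ.comp (Subgroup.inclusion hTS)).codRestrict _ hθT := ⟨_, rfl⟩
  have hθTval : ∀ t, ((θT t : ↥(normalizerIn S' R')) : Ω') = θ ⟨t, hTS t.2⟩ := by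
    intro t; rw [hθTdef]; rfl
  have hθTsurj : Function.Surjective θT := by
    intro y
    obtain ⟨x, hx, hxy⟩ := exists_preimage_of_mem θ S' hrange hT'S' (y : Ω') y.2
    refine ⟨⟨x, hTpre.ge hx⟩, Subtype.ext ?_⟩
    rw [hθTval]
    exact hxy
  have hk : θT.ker ≤ (π.comp ι).ker := by
    intro t ht
    rw [MonoidHom.mem_ker] at ht ⊢
    have h1 : θ ⟨t, hTS t.2⟩ = 1 := by
      rw [← hθTval, ht]; rfl
    rw [MonoidHom.comp_apply, hπker]
    exact (hker _).mp h1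
  obtain ⟨ι₂, hι₂def⟩ : ∃ ι₂ : ↥(normalizerIn S' R') →* L₂,
      ι₂ = θT.liftOfSurjective hθTsurj ⟨π.comp ι, hk⟩ := ⟨_, rfl⟩
  have hι₂θ : ∀ t, ι₂ (θT t) = π (ι t) := by
    intro t
    rw [hι₂def]
    exact θT.liftOfRightInverse_comp_apply _ _ ⟨π.comp ι, hk⟩ t
  have hι₂ : ∀ (t : ↥(normalizerIn S (preimageAlong θ R'))) (y : ↥(normalizerIn S' R')),
      θ ⟨t, (inf_le_left : normalizerIn S (preimageAlong θ R') ≤ S) t.2⟩ = (y : Ω') → ι₂ y = π (ι t) := by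
    intro t y hty
    rw [← hι₂θ t]
    congr 1
    apply Subtype.ext
    rw [hθTval]
    exact hty.symm
  have hreal₂ := isRealizedBy_quotient p hS F hF S₀ hS₀ θ E hE hR' N hN N' hN' ι hreal P₀ hP₀ π hπ hπker
    ι₂ hι₂
  have hι₂inj := hreal₂.1
  have hrange₂ : ((P₀.mapSurjective hπ : Sylow p L₂) : Subgroup L₂) = ι₂.range := by
    rw [Sylow.coe_mapSurjective, hP₀]
    ext x
    constructor
    · rintro ⟨_, ⟨t, rfl⟩, rfl⟩
      exact ⟨θT t, hι₂θ t⟩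
    · rintro ⟨y, rfl⟩
      obtain ⟨t, rfl⟩ := hθTsurj y
      exact ⟨ι t, ⟨t, rfl⟩, (hι₂θ t).symm⟩
  refine ⟨L₂, hL₂g, ι₂, π, hπ, hL₂f, hreal₂, ⟨P₀.mapSurjective hπ, hrange₂⟩, ?_⟩
  haveI := hL₂f
  haveI hR₂n : ((imQ ι (preimageAlong θ R')).map π).Normal := Subgroup.Normal.map hRn π hπ
  have hR₂p : IsPGroup p ↥((imQ ι (preimageAlong θ R')).map π) :=
    (imQ_isPGroup p hTp ι _).map π
  refine centralizer_pCore_le_of_pPrimeCore_eq_bot hbot _ hR₂p (P₀.mapSurjective hπ) ?_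
  rintro x ⟨hxP, hxC⟩
  have hxP' : x ∈ ι₂.range := hrange₂ ▸ hxP
  obtain ⟨y, rfl⟩ := hxP'
  obtain ⟨t, rfl⟩ := hθTsurj y
  -- `θ t` centralizes `R'`
  have hcen : (θT t : Ω') ∈ centralizerIn S' R' := by
    refine ⟨hT'S' (θT t).2, ?_⟩
    show (θT t : Ω') ∈ Subgroup.centralizer ((R' : Subgroup Ω') : Set Ω')
    rw [Subgroup.mem_centralizer_iff]
    intro r' hr'
    obtain ⟨r, hr, hrr'⟩ := exists_preimage_of_mem θ S' hrange hR' r' hr'
    have hr'T : r' ∈ normalizerIn S' R' := self_le_normalizerIn hR' hr'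
    have h1 : ι₂ ⟨r', hr'T⟩ = π (ι ⟨r, hRT hr⟩) := hι₂ ⟨r, hRT hr⟩ ⟨r', hr'T⟩ hrr'
    have h2 : π (ι ⟨r, hRT hr⟩) ∈ (imQ ι (preimageAlong θ R')).map π :=
      ⟨_, (mem_imQ_iff ι hRT _).mpr ⟨⟨r, hr⟩, rfl⟩, rfl⟩
    have h3 := Subgroup.mem_centralizer_iff.mp hxC _ h2
    rw [← h1, ← map_mul, ← map_mul] at h3
    exact congrArg (fun t : ↥(normalizerIn S' R') => (t : Ω')) (hι₂inj h3)
  have hmem : (θT t : Ω') ∈ R' := hR'c.2 R' (isConj_refl E hR') hcen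
  rw [hθTval] at hmem
  have htR : (t : Ω) ∈ preimageAlong θ R' := (mem_preimageAlong θ R' _).mpr ⟨hTS t.2, hmem⟩
  rw [hι₂θ t]
  exact ⟨_, (mem_imQ_iff ι hRT _).mpr ⟨⟨t, htR⟩, rfl⟩, rfl⟩

end Cfsg.Agent.Lib.Helper7.QdQ
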