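import Mathlib
import Cfsg.Prelude.Def_FusionSystem
import Cfsg.Prelude.Def_FusionComponents
import Cfsg.Prelude.Def_FusionReduction
import Cfsg.Agent.Lib.Helper7.QdQd
import Cfsg.Agent.Lib.Helper7.FactorSaturated

set_option autoImplicit false
set_option linter.style.haveILetI false

/-!
# Factor systems of `H`-free fusion systems are `H`-free
-/

namespace Cfsg.Agent.Lib.Helper7.QdQ

open Cfsg Cfsg.FusionSystem Cfsg.Agent.Lib.Helper7 Cfsg.Agent.Lib.Helper7.ModelUq
  Cfsg.Agent.Lib.Helper7.ModelEx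

universe u v w

variable {Ω : Type u} [Group Ω] {S : Subgroup Ω} {Ω' : Type v} [Group Ω'] {S' : Subgroup Ω'}

theorem isSectionFree_factor [Finite S] (p : ℕ) [Fact p.Prime] (hS : IsPGroup p S)
    (F : FusionSystem S) (hF : F.IsSaturated p) (Q : Subgroup Ω) (hQ : F.StronglyClosed Q)
    (Y : Type w) [Group Y] (hfree : F.IsSectionFree p Y)
    (θ : S →* Ω') (E : FusionSystem S') (hE : F.IsFactorSystem Q θ E) : E.IsSectionFree p Y := by
  have hrange := hE.2.2.1
  haveI : Finite S' := finite_target θ hrange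
  have hS' : IsPGroup p S' := by
    rw [← hrange]
    intro x
    obtain ⟨s, hs⟩ := x.2
    obtain ⟨k, hk⟩ := hS s
    refine ⟨k, Subtype.ext ?_⟩
    show (x : Ω') ^ p ^ k = 1
    rw [← hs, ← map_pow, hk, map_one]
  have hEsat : E.IsSaturated p := isSaturated_of_isFactorSystem p hS F hF Q hQ θ E hE
  intro R' hR'n hR'c N' hN' L' _ ι' hL' hinv
  have hRn := isFullyNormalized_preimage p hS F hF Q hQ θ E hE hR'n
  have hRc := isCentric_preimage p hS F hF Q hQ θ E hE hR'c
  obtain ⟨N, hN⟩ := exists_normalizerSystem F (preimageAlong θ R') hRn.1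
  have hNc : N.IsConstrained p := normalizerSystem_isConstrained p hS F hF _ hRn hRc N hN
  haveI : Finite ↥(normalizerIn S (preimageAlong θ R')) := finite_of_le inf_le_left
  haveI : Finite ↥(S ⊓ Subgroup.normalizer ((preimageAlong θ R' : Subgroup Ω) : Set Ω)) :=
    finite_of_le inf_le_left
  obtain ⟨L, _, ι, hL⟩ := exists_model p
    (hS.to_le (inf_le_left : normalizerIn S (preimageAlong θ R') ≤ S)) N hNc
  obtain ⟨L₂, _, ι₂, π, hπ, hL₂⟩ := exists_model_quotient p hS F hF Q hQ θ E hE hR'c N hN N' hN' ι hL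
  have hN'c : N'.IsConstrained p := normalizerSystem_isConstrained p hS' E hEsat _ hR'n hR'c N' hN'
  haveI : Finite ↥(normalizerIn S' R') := finite_of_le inf_le_left
  haveI : Finite ↥(S' ⊓ Subgroup.normalizer ((R' : Subgroup Ω') : Set Ω')) := finite_of_le inf_le_left
  obtain ⟨e, -⟩ := model_unique p (hS'.to_le (inf_le_left : normalizerIn S' R' ≤ S')) N' hN'c ι' ι₂ hL' hL₂
  have h1 : Involves Y L₂ := involves_of_injective e.toMonoidHom e.injective hinv
  have h2 : Involves Y L := involves_of_surjective π hπ h1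
  exact hfree _ hRn hRc N hN L ι hL h2

end Cfsg.Agent.Lib.Helper7.QdQ
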