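import Mathlib
import Cfsg.Agent.Lib.Helper7.GTD
import Cfsg.Agent.Lib.Helper4.GTZJ
import Cfsg.Agent.H1.ZJLocal

set_option autoImplicit false
set_option linter.style.haveILetI false
set_option linter.unusedSectionVars false
set_option linter.unusedVariables false

open scoped commutatorElement Pointwise

namespace Cfsg.Agent.Lib.Helper7.QdSolv

open Cfsg

universe u

/-- `N_G(Z(J(P)))` controls strong fusion in `P` when `Qd(p)` is not involved in `G` -/
theorem zj_controls {G : Type u} [Group G] [Finite G] {p : ℕ} [Fact p.Prime] (hp : p ≠ 2)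
    (hqd : ¬ Cfsg.Involves ↥(Cfsg.qd p) G) (P : Sylow p G) (A : Set G) (g : G)
    (hA : A ⊆ ((P : Subgroup G) : Set G)) (hgA : ∀ a ∈ A, g * a * g⁻¹ ∈ (P : Subgroup G)) :
    ∃ x ∈ Subgroup.normalizer ((Cfsg.centerThompsonAOf (P : Subgroup G) : Subgroup G) : Set G),
      ∀ a ∈ A, x * a * x⁻¹ = g * a * g⁻¹ := by
  have hD : Cfsg.IsStronglyClosed (P : Subgroup G) (P : Subgroup G) := ⟨le_rfl, fun x _ g hg => hg⟩
  have h := Cfsg.Agent.Lib.Helper7.GTD.mainD hp (Cfsg.Agent.Lib.Helper4.GTZJ.pFunctor_WAb hp) _ G rfl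
    hqd P (P : Subgroup G) hD A g hA (by
      rintro _ ⟨a, ha, rfl⟩
      exact hgA a ha)
  rw [Cfsg.Agent.S0653.center_eq_zj]
  exact h

theorem zj_comm {G : Type*} [Group G] (P : Subgroup G) :
    ∀ a ∈ Cfsg.centerThompsonAOf P, ∀ b ∈ Cfsg.centerThompsonAOf P, a * b = b * a := by
  intro a ha b hb
  have h1 := Subgroup.mem_centralizer_iff.mp ha.2 b hb.1
  exact h1.symm

/-- In a `Qd(p)`-free group, `p` odd, a Sylow `p`-subgroup has a series of strongly closed subgroups with abelian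
factors. -/
theorem exists_series (p : ℕ) [Fact p.Prime] (hp : p ≠ 2) :
    ∀ (n : ℕ) (G : Type u) [Group G] [Finite G], Nat.card G = n → ¬ Cfsg.Involves ↥(Cfsg.qd p) G →
      ∀ P : Sylow p G, ∃ T : ℕ → Subgroup G, T 0 = ⊥ ∧ (∃ m, T m = (P : Subgroup G)) ∧ Monotone T ∧
        (∀ i, Cfsg.IsStronglyClosed (T i) (P : Subgroup G)) ∧ ∀ i, ⁅T (i + 1), T (i + 1)⁆ ≤ T i := by
  intro n
  induction n using Nat.strong_induction_on with
  | _ n ih =>
  intro G _ _ hn hqd P
  by_cases hP : (P : Subgroup G) = ⊥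
  · refine ⟨fun _ => ⊥, rfl, ⟨0, hP.symm⟩, fun _ _ _ => le_rfl, fun i => ?_, fun i => ?_⟩
    · exact ⟨bot_le, fun x hx g _ => by
        rw [Subgroup.mem_bot] at hx ⊢
        rw [hx]; group⟩
    · rw [Subgroup.commutator_bot_left]
  -- the subgroup `Z = Z(J(P))` and its normalizer
  set Z : Subgroup G := Cfsg.centerThompsonAOf (P : Subgroup G) with hZ
  have hZne : Z ≠ ⊥ := Cfsg.Agent.H1.zj_ne_bot (P : Subgroup G) P.isPGroup' hP
  have hZP : Z ≤ (P : Subgroup G) := Cfsg.Agent.H1.centerThompsonAOf_le _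
  set N : Subgroup G := Subgroup.normalizer (Z : Set G) with hN
  have hPN : (P : Subgroup G) ≤ N :=
    Subgroup.le_normalizer.trans (Cfsg.Agent.H1.normalizer_le_normalizer_zj (P : Subgroup G))
  have hZN : Z ≤ N := hZP.trans hPN
  haveI hZn : (Z.subgroupOf N).Normal := Subgroup.normal_in_normalizer
  have hs := QuotientGroup.mk'_surjective (Z.subgroupOf N)
  -- the quotient is smaller and `Qd(p)`-free
  have hcard : Nat.card (↥N ⧸ Z.subgroupOf N) < n := by
    rw [← hn]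
    have h1 : Nat.card ↥N ≤ Nat.card G := Nat.le_of_dvd Nat.card_pos (Subgroup.card_subgroup_dvd_card N)
    have h2 := Subgroup.card_eq_card_quotient_mul_card_subgroup (Z.subgroupOf N)
    have h3 : 1 < Nat.card ↥(Z.subgroupOf N) := by
      rw [Subgroup.one_lt_card_iff_ne_bot]
      intro h0
      apply hZne
      rw [eq_bot_iff]
      intro z hz
      have : (⟨z, hZN hz⟩ : ↥N) ∈ Z.subgroupOf N := Subgroup.mem_subgroupOf.mpr hz
      rw [h0, Subgroup.mem_bot] at this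
      exact Subgroup.mem_bot.mpr (congrArg Subtype.val this)
    have h4 : 0 < Nat.card (↥N ⧸ Z.subgroupOf N) := Nat.card_pos
    nlinarith
  have hqd' : ¬ Cfsg.Involves ↥(Cfsg.qd p) (↥N ⧸ Z.subgroupOf N) := fun h => hqd
    (Cfsg.Agent.Lib.Helper7.involves_of_injective N.subtype N.subtype_injective
      (Cfsg.Agent.Lib.Helper7.QuadLin.involves_of_surjective (QuotientGroup.mk' _) hs h))
  -- the Sylow subgroup of the quotient
  have hPb : (((P.subtype hPN).mapSurjective hs : Sylow p (↥N ⧸ Z.subgroupOf N)) :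
      Subgroup (↥N ⧸ Z.subgroupOf N)) =
      ((P : Subgroup G).subgroupOf N).map (QuotientGroup.mk' (Z.subgroupOf N)) := by
    rw [Sylow.coe_mapSurjective, Sylow.coe_subtype]
  obtain ⟨Tb, hTb0, ⟨m, hTbm⟩, hTbmono, hTbcl, hTbcomm⟩ :=
    ih _ hcard (↥N ⧸ Z.subgroupOf N) rfl hqd' ((P.subtype hPN).mapSurjective hs)
  rw [hPb] at hTbm hTbcl
  -- the pullback
  set pull : ℕ → Subgroup G := fun i =>
    ((Tb i).comap (QuotientGroup.mk' (Z.subgroupOf N))).map N.subtype with hpull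
  have hmem : ∀ i (x : G), x ∈ pull i ↔ ∃ hx : x ∈ N,
      QuotientGroup.mk' (Z.subgroupOf N) ⟨x, hx⟩ ∈ Tb i := by
    intro i x
    constructor
    · rintro ⟨y, hy, rfl⟩
      exact ⟨y.2, hy⟩
    · rintro ⟨hx, h⟩
      exact ⟨⟨x, hx⟩, h, rfl⟩
  have hpullP : ∀ i, pull i ≤ (P : Subgroup G) := by
    intro i x hx
    obtain ⟨hxN, h⟩ := (hmem i x).mp hx
    have h1 := (hTbcl i).1 h
    obtain ⟨y, hy, hyx⟩ := h1
    have h2 : y⁻¹ * ⟨x, hxN⟩ ∈ Z.subgroupOf N := by
      rw [← QuotientGroup.eq_one_iff, ← QuotientGroup.mk'_apply, map_mul, map_inv, hyx, inv_mul_cancel]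
    have h3 : ((y : G))⁻¹ * x ∈ (P : Subgroup G) := hZP (Subgroup.mem_subgroupOf.mp h2)
    have h4 : (y : G) ∈ (P : Subgroup G) := Subgroup.mem_subgroupOf.mp hy
    have e : x = (y : G) * (((y : G))⁻¹ * x) := by group
    rw [e]
    exact Subgroup.mul_mem _ h4 h3
  have hpull0 : pull 0 = Z := by
    ext x
    rw [hmem, hTb0]
    constructor
    · rintro ⟨hx, h⟩
      rw [Subgroup.mem_bot, QuotientGroup.mk'_apply, QuotientGroup.eq_one_iff] at h
      exact Subgroup.mem_subgroupOf.mp h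
    · intro hx
      refine ⟨hZN hx, ?_⟩
      rw [Subgroup.mem_bot, QuotientGroup.mk'_apply, QuotientGroup.eq_one_iff]
      exact Subgroup.mem_subgroupOf.mpr hx
  have hpullm : pull m = (P : Subgroup G) := by
    apply le_antisymm (hpullP m)
    intro x hx
    rw [hmem, hTbm]
    exact ⟨hPN hx, ⟨⟨x, hPN hx⟩, Subgroup.mem_subgroupOf.mpr hx, rfl⟩⟩
  have hpullmono : Monotone pull := by
    intro i j hij x hx
    rw [hmem] at hx ⊢
    obtain ⟨hxN, h⟩ := hx
    exact ⟨hxN, hTbmono hij h⟩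
  have hpullcl : ∀ i, Cfsg.IsStronglyClosed (pull i) (P : Subgroup G) := by
    intro i
    refine ⟨hpullP i, ?_⟩
    intro x hx g hg
    obtain ⟨hxN, h⟩ := (hmem i x).mp hx
    obtain ⟨y, hyN, hya⟩ := zj_controls hp hqd P {x} g
      (by intro a ha; rw [Set.mem_singleton_iff] at ha; rw [ha]; exact hpullP i hx)
      (by intro a ha; rw [Set.mem_singleton_iff] at ha; rw [ha]; exact hg)
    have hyx := hya x rfl
    rw [← hyx]
    rw [hmem]
    have hyxN : y * x * y⁻¹ ∈ N := Subgroup.mul_mem _ (Subgroup.mul_mem _ hyN hxN) (Subgroup.inv_mem _ hyN)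
    refine ⟨hyxN, ?_⟩
    have e : (⟨y * x * y⁻¹, hyxN⟩ : ↥N) = ⟨y, hyN⟩ * ⟨x, hxN⟩ * ⟨y, hyN⟩⁻¹ := rfl
    rw [e, map_mul, map_mul, map_inv]
    apply (hTbcl i).2 _ h
    rw [← map_inv, ← map_mul, ← map_mul]
    refine ⟨⟨y, hyN⟩ * ⟨x, hxN⟩ * ⟨y, hyN⟩⁻¹, ?_, rfl⟩
    apply Subgroup.mem_subgroupOf.mpr
    show y * x * y⁻¹ ∈ (P : Subgroup G)
    rw [hyx]; exact hg
  have hpullcomm : ∀ i, ⁅pull (i + 1), pull (i + 1)⁆ ≤ pull i := by
    intro i
    rw [Subgroup.commutator_le]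
    intro a ha b hb
    obtain ⟨haN, ha'⟩ := (hmem _ a).mp ha
    obtain ⟨hbN, hb'⟩ := (hmem _ b).mp hb
    rw [hmem]
    have habN : ⁅a, b⁆ ∈ N := by
      rw [commutatorElement_def]
      exact Subgroup.mul_mem _ (Subgroup.mul_mem _ (Subgroup.mul_mem _ haN hbN) (Subgroup.inv_mem _ haN))
        (Subgroup.inv_mem _ hbN)
    refine ⟨habN, ?_⟩
    have e : (⟨⁅a, b⁆, habN⟩ : ↥N) = ⁅(⟨a, haN⟩ : ↥N), ⟨b, hbN⟩⁆ := rfl
    rw [e, map_commutatorElement]
    exact hTbcomm i (Subgroup.commutator_mem_commutator ha' hb')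
  -- the new series
  refine ⟨fun i => Nat.casesOn i ⊥ pull, rfl, ⟨m + 1, hpullm⟩, ?_, ?_, ?_⟩
  · intro i j hij
    cases i with
    | zero => exact bot_le
    | succ i =>
      cases j with
      | zero => omega
      | succ j => exact hpullmono (by omega)
  · intro i
    cases i with
    | zero =>
      show Cfsg.IsStronglyClosed (⊥ : Subgroup G) (P : Subgroup G)
      exact ⟨bot_le, fun x hx g _ => by
        rw [Subgroup.mem_bot] at hx ⊢
        rw [hx]; group⟩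
    | succ i => exact hpullcl i
  · intro i
    cases i with
    | zero =>
      show ⁅pull 0, pull 0⁆ ≤ ⊥
      rw [hpull0, Subgroup.commutator_le]
      intro a ha b hb
      rw [Subgroup.mem_bot, commutatorElement_eq_one_iff_mul_comm]
      exact zj_comm _ a ha b hb
    | succ i => exact hpullcomm i

end Cfsg.Agent.Lib.Helper7.QdSolv

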