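import Mathlib
import Cfsg.Prelude.Def_Transfer
import Cfsg.Prelude.Def_PLocal
import Cfsg.Prelude.Def_LocalEven
import Cfsg.Agent.Lib.Helper7.QuadQdC

set_option autoImplicit false
set_option linter.style.haveILetI false
set_option linter.unusedSectionVars false
set_option linter.unusedVariables false

open scoped commutatorElement Pointwise

namespace Cfsg.Agent.Lib.Helper7.QuadLin
universe u v

section frat
variable {p : ℕ} [Fact p.Prime]

/-- **Frattini lifting**: if `H` is not involved in the normalizer of any nonidentity `p`-subgroup of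
`A`, the same holds for the normalizers of nonidentity `p`-subgroups of every quotient `A ⧸ R`. -/
theorem not_involves_normalizer_quotient {A : Type u} [Group A] [Finite A] {H : Type v} [Group H]
    (R : Subgroup A) [R.Normal]
    (hA : ∀ P : Subgroup A, IsPGroup p P → P ≠ ⊥ →
      ¬ Cfsg.Involves H ↥(Subgroup.normalizer (P : Set A)))
    (Qb : Subgroup (A ⧸ R)) (hQb : IsPGroup p Qb) (hne : Qb ≠ ⊥) :
    ¬ Cfsg.Involves H ↥(Subgroup.normalizer (Qb : Set (A ⧸ R))) := by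
  classical
  intro hinv
  obtain ⟨π, hπ⟩ : ∃ π : A →* A ⧸ R, π = QuotientGroup.mk' R := ⟨_, rfl⟩
  have hπs : Function.Surjective π := by rw [hπ]; exact QuotientGroup.mk'_surjective R
  obtain ⟨N₁, hN₁⟩ : ∃ N₁ : Subgroup A,
    N₁ = (Subgroup.normalizer (Qb : Set (A ⧸ R))).comap π := ⟨_, rfl⟩
  obtain ⟨L, hL⟩ : ∃ L : Subgroup A, L = Qb.comap π := ⟨_, rfl⟩
  have hmemN₁ : ∀ a, a ∈ N₁ ↔ π a ∈ Subgroup.normalizer (Qb : Set (A ⧸ R)) := by
    intro a; rw [hN₁, Subgroup.mem_comap]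
  have hmemL : ∀ a, a ∈ L ↔ π a ∈ Qb := by
    intro a; rw [hL, Subgroup.mem_comap]
  have hLN : L ≤ N₁ := by
    rw [hL, hN₁]; exact Subgroup.comap_mono Subgroup.le_normalizer
  haveI hL'n : (L.subgroupOf N₁).Normal := by
    constructor
    intro l hl n
    rw [Subgroup.mem_subgroupOf] at hl ⊢
    rw [Subgroup.coe_mul, Subgroup.coe_mul, Subgroup.coe_inv, hmemL, map_mul, map_mul, map_inv]
    have hn := (hmemN₁ _).1 n.2
    exact (Subgroup.mem_normalizer_iff.mp hn _).1 ((hmemL _).1 hl)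
  obtain ⟨P⟩ : Nonempty (Sylow p ↥(L.subgroupOf N₁)) := inferInstance
  have hfrat := Sylow.normalizer_sup_eq_top P
  obtain ⟨P₁, hP₁⟩ : ∃ P₁ : Subgroup ↥N₁,
    P₁ = (P : Subgroup ↥(L.subgroupOf N₁)).map (L.subgroupOf N₁).subtype := ⟨_, rfl⟩
  rw [← hP₁] at hfrat
  obtain ⟨M, hM⟩ : ∃ M : Subgroup ↥N₁, M = Subgroup.normalizer (P₁ : Set ↥N₁) := ⟨_, rfl⟩
  rw [← hM] at hfrat
  have hP₁M : P₁ ≤ M := by rw [hM]; exact Subgroup.le_normalizer
  have hP₁p : IsPGroup p P₁ := by rw [hP₁]; exact P.isPGroup'.map _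
  -- `π` maps `P₁` onto `Qb`
  have hfmem : ∀ l : ↥(L.subgroupOf N₁), π ((l : ↥N₁) : A) ∈ Qb := by
    intro l
    exact (hmemL _).1 (Subgroup.mem_subgroupOf.mp l.2)
  obtain ⟨f, hf⟩ : ∃ f : ↥(L.subgroupOf N₁) →* ↥Qb,
      f = (π.comp (N₁.subtype.comp (L.subgroupOf N₁).subtype)).codRestrict Qb hfmem := ⟨_, rfl⟩
  have hfv : ∀ l : ↥(L.subgroupOf N₁), ((f l : ↥Qb) : A ⧸ R) = π ((l : ↥N₁) : A) := by
    intro l; rw [hf]; rfl
  have hfs : Function.Surjective f := by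
    rintro ⟨q, hq⟩
    obtain ⟨a, rfl⟩ := hπs q
    have haL : a ∈ L := (hmemL a).2 hq
    refine ⟨⟨⟨a, hLN haL⟩, Subgroup.mem_subgroupOf.mpr haL⟩, ?_⟩
    apply Subtype.ext
    rw [hfv]
  have htop : ((P.mapSurjective hfs : Sylow p ↥Qb) : Subgroup ↥Qb) = ⊤ :=
    ((P.mapSurjective hfs).is_maximal' (hQb.to_subgroup ⊤) le_top).symm
  rw [Sylow.coe_mapSurjective] at htop
  have hPQ : ∀ l : A, l ∈ L → ∃ q : ↥N₁, q ∈ P₁ ∧ π (q : A) = π l := by
    intro l hl
    have h1 : (⟨π l, (hmemL l).1 hl⟩ : ↥Qb) ∈ (P : Subgroup ↥(L.subgroupOf N₁)).map f := by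
      rw [htop]; exact Subgroup.mem_top _
    obtain ⟨q, hq, hql⟩ := h1
    refine ⟨(q : ↥N₁), ?_, ?_⟩
    · rw [hP₁]; exact ⟨q, hq, rfl⟩
    · rw [← hfv, hql]
  -- the image of `M` is the whole normalizer
  have hsurj : ∀ nb ∈ Subgroup.normalizer (Qb : Set (A ⧸ R)), ∃ m : ↥N₁, m ∈ M ∧ π (m : A) = nb := by
    intro nb hnb
    obtain ⟨n, rfl⟩ := hπs nb
    have hn : n ∈ N₁ := (hmemN₁ n).2 hnb
    have h1 : (⟨n, hn⟩ : ↥N₁) ∈ ((M ⊔ L.subgroupOf N₁ : Subgroup ↥N₁) : Set ↥N₁) := by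
      rw [hfrat]; exact Subgroup.mem_top _
    rw [Subgroup.mul_normal] at h1
    obtain ⟨m, hm, l, hl, hml⟩ := Set.mem_mul.mp h1
    have hl' : ((l : ↥N₁) : A) ∈ L := Subgroup.mem_subgroupOf.mp hl
    obtain ⟨q, hq, hql⟩ := hPQ _ hl'
    refine ⟨m * q, M.mul_mem hm (hP₁M hq), ?_⟩
    rw [Subgroup.coe_mul, map_mul, hql, ← map_mul, ← Subgroup.coe_mul, hml]
  -- the surjection `M → N(Qb)`
  have hψmem : ∀ m : ↥M, π (((m : ↥N₁) : A)) ∈ Subgroup.normalizer (Qb : Set (A ⧸ R)) :=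
    fun m => (hmemN₁ _).1 (m : ↥N₁).2
  obtain ⟨ψ, hψ⟩ : ∃ ψ : ↥M →* ↥(Subgroup.normalizer (Qb : Set (A ⧸ R))),
      ψ = (π.comp (N₁.subtype.comp M.subtype)).codRestrict _ hψmem := ⟨_, rfl⟩
  have hψs : Function.Surjective ψ := by
    rintro ⟨nb, hnb⟩
    obtain ⟨m, hm, hmn⟩ := hsurj nb hnb
    refine ⟨⟨m, hm⟩, ?_⟩
    apply Subtype.ext
    rw [hψ]
    exact hmn
  have hinvM : Cfsg.Involves H ↥M := involves_of_surjective ψ hψs hinv
  -- the injection `M → N_A(PA)`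
  obtain ⟨PA, hPA⟩ : ∃ PA : Subgroup A, PA = P₁.map N₁.subtype := ⟨_, rfl⟩
  have hιmem : ∀ m : ↥M, ((m : ↥N₁) : A) ∈ Subgroup.normalizer (PA : Set A) := by
    intro m
    rw [hPA]
    apply Subgroup.le_normalizer_map N₁.subtype
    have hle : M ≤ Subgroup.normalizer (P₁ : Set ↥N₁) := hM.le
    exact ⟨(m : ↥N₁), hle m.2, rfl⟩
  obtain ⟨ι, hι⟩ : ∃ ι : ↥M →* ↥(Subgroup.normalizer (PA : Set A)),
      ι = (N₁.subtype.comp M.subtype).codRestrict _ hιmem := ⟨_, rfl⟩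
  have hιi : Function.Injective ι := by
    intro a b hab
    have h1 : ((ι a : ↥(Subgroup.normalizer (PA : Set A))) : A) = (ι b : A) := by rw [hab]
    rw [hι] at h1
    apply Subtype.ext
    apply Subtype.ext
    exact h1
  have hinvN : Cfsg.Involves H ↥(Subgroup.normalizer (PA : Set A)) :=
    Cfsg.Agent.Lib.Helper7.involves_of_injective ι hιi hinvM
  have hPAp : IsPGroup p PA := by rw [hPA]; exact hP₁p.map _
  have hPAne : PA ≠ ⊥ := by
    intro hbot
    apply hne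
    rw [eq_bot_iff]
    intro q hq
    obtain ⟨a, rfl⟩ := hπs q
    obtain ⟨q', hq', hqa⟩ := hPQ a ((hmemL a).2 hq)
    have h1 : ((q' : ↥N₁) : A) ∈ PA := by rw [hPA]; exact ⟨q', hq', rfl⟩
    rw [hbot, Subgroup.mem_bot] at h1
    rw [Subgroup.mem_bot, ← hqa, h1, map_one]
  exact hA PA hPAp hPAne hinvN

/-- the hypothesis "`H` is not involved in any `p`-local" passes to subgroups -/
theorem not_involves_normalizer_subgroup {G : Type u} [Group G] {H : Type v} [Group H]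
    (hG : ∀ P : Subgroup G, IsPGroup p P → P ≠ ⊥ →
      ¬ Cfsg.Involves H ↥(Subgroup.normalizer (P : Set G)))
    (K : Subgroup G) (P : Subgroup ↥K) (hP : IsPGroup p P) (hne : P ≠ ⊥) :
    ¬ Cfsg.Involves H ↥(Subgroup.normalizer (P : Set ↥K)) := by
  intro hinv
  have hne' : P.map K.subtype ≠ ⊥ := by
    intro h
    apply hne
    rw [Subgroup.map_eq_bot_iff_of_injective _ K.subtype_injective] at h
    exact h
  apply hG (P.map K.subtype) (hP.map _) hne'
  have hmem : ∀ n : ↥(Subgroup.normalizer (P : Set ↥K)),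
      ((n : ↥K) : G) ∈ Subgroup.normalizer ((P.map K.subtype : Subgroup G) : Set G) :=
    fun n => Subgroup.le_normalizer_map K.subtype ⟨n, n.2, rfl⟩
  obtain ⟨ι, hι⟩ : ∃ ι : ↥(Subgroup.normalizer (P : Set ↥K)) →*
      ↥(Subgroup.normalizer ((P.map K.subtype : Subgroup G) : Set G)),
      ι = (K.subtype.comp (Subgroup.normalizer (P : Set ↥K)).subtype).codRestrict _ hmem :=
    ⟨_, rfl⟩
  have hιi : Function.Injective ι := by
    intro a b hab
    have h1 : ((ι a : ↥(Subgroup.normalizer ((P.map K.subtype : Subgroup G) : Set G))) : G) =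
        (ι b : G) := by rw [hab]
    rw [hι] at h1
    apply Subtype.ext
    apply Subtype.ext
    exact h1
  exact Cfsg.Agent.Lib.Helper7.involves_of_injective ι hιi hinv

/-- if `SL₂(p)` is not involved in any `p`-local subgroup of `G`, then all sections of `G` are
`p`-stable in the normalizer form (`p` odd) -/
theorem isNormalizerPStable_section_of_local_free {G : Type u} [Group G] [Finite G] (hp : p ≠ 2)
    (h : ∀ P : Subgroup G, IsPGroup p ↥P → P ≠ ⊥ →
      ¬ Cfsg.Involves (Matrix.SpecialLinearGroup (Fin 2) (ZMod p))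
        ↥(Subgroup.normalizer ((P : Subgroup G) : Set G)))
    (K R : Subgroup G) [hR : (R.subgroupOf K).Normal] :
    Cfsg.IsNormalizerPStable p (↥K ⧸ R.subgroupOf K) := by
  intro Qb hQb x hx hq
  by_cases hne : Qb = ⊥
  · apply normalizerForm_of_isPStableOn Qb _ x hx hq
    intro a _
    have ha : a ∈ Subgroup.centralizer ((Qb.subgroupOf (Subgroup.normalizer
        (Qb : Set (↥K ⧸ R.subgroupOf K))) : Subgroup ↥(Subgroup.normalizer
        (Qb : Set (↥K ⧸ R.subgroupOf K)))) : Set ↥(Subgroup.normalizer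
        (Qb : Set (↥K ⧸ R.subgroupOf K)))) := by
      rw [Subgroup.mem_centralizer_iff]
      intro y hy
      have hy' : (y : ↥K ⧸ R.subgroupOf K) ∈ Qb := Subgroup.mem_subgroupOf.mp hy
      have hle : Qb ≤ ⊥ := hne.le
      have hy'' : (y : ↥K ⧸ R.subgroupOf K) = 1 := Subgroup.mem_bot.mp (hle hy')
      have : y = 1 := Subtype.ext hy''
      rw [this, one_mul, mul_one]
    rw [(QuotientGroup.eq_one_iff a).mpr ha]
    exact one_mem _
  · have hfree := not_involves_normalizer_quotient (p := p) (R.subgroupOf K)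
      (not_involves_normalizer_subgroup h K) Qb hQb hne
    have hst := isPStableOn_of_free hp hfree
      (Qb.subgroupOf (Subgroup.normalizer (Qb : Set (↥K ⧸ R.subgroupOf K)))) (hQb.comap_subtype)
    exact normalizerForm_of_isPStableOn Qb hst x hx hq

end frat
end Cfsg.Agent.Lib.Helper7.QuadLin

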