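import Mathlib
import Cfsg.Agent.Lib.Helper7.T64B

/-!
# S1237, part A: fixed-point-free automorphisms of `3`-power order of finite `2`-groups

Basic tools: the Lang map, invariant subgroups, restriction and quotient, the congruence for the
number of fixed points, groups of order four.
-/

set_option autoImplicit false

namespace Cfsg.Agent.Lib.Helper7.R2

open scoped commutatorElement

variable {G : Type*} [Group G]

/-- a fixed-point-free automorphism of `3`-power order of a finite `2`-group -/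
structure Act (G : Type*) [Group G] (ξ : MulAut G) : Prop where
  fin : Finite G
  two : IsPGroup 2 G
  ord : ∃ k : ℕ, ξ ^ (3 ^ k) = 1
  fpf : ∀ x : G, ξ x = x → x = 1

theorem pow_fix (η : MulAut G) {x : G} (hx : η x = x) (n : ℕ) : (η ^ n) x = x := by
  induction n with
  | zero => simp
  | succ n ih => rw [pow_succ, MulAut.mul_apply, hx, ih]

/-- a non-trivial element of a `2`-group has a power which is an involution -/
theorem exists_pow_invol (h2 : IsPGroup 2 G) {x : G} (hx : x ≠ 1) :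
    ∃ j : ℕ, x ^ (2 ^ j) ≠ 1 ∧ x ^ (2 ^ j) * x ^ (2 ^ j) = 1 := by
  classical
  have hex : ∃ k : ℕ, x ^ (2 ^ k) = 1 := h2 x
  have hspec := Nat.find_spec hex
  have hpos : Nat.find hex ≠ 0 := by
    intro h0
    rw [h0] at hspec
    apply hx
    simpa using hspec
  obtain ⟨j, hj⟩ := Nat.exists_eq_succ_of_ne_zero hpos
  refine ⟨j, ?_, ?_⟩
  · intro h1
    exact Nat.find_min hex (m := j) (by omega) h1
  · rw [← pow_add, ← two_mul, ← pow_succ', ← Nat.succ_eq_add_one, ← hj]
    exact hspec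

namespace Act

variable {ξ : MulAut G}

theorem fpf2 (h : Act G ξ) {x : G} (hx : ξ (ξ x) = x) : x = 1 := by
  obtain ⟨k, hk⟩ := h.ord
  apply h.fpf
  have hodd : Odd (3 ^ k) := Odd.pow (by decide)
  obtain ⟨m, hm⟩ := hodd
  have h2 : (ξ ^ 2) x = x := by rw [pow_two, MulAut.mul_apply]; exact hx
  have h3 : ((ξ ^ 2) ^ (m + 1)) x = x := pow_fix _ h2 _
  have h4 : (ξ ^ 2) ^ (m + 1) = ξ := by
    rw [← pow_mul]
    have : 2 * (m + 1) = 3 ^ k + 1 := by omega
    rw [this, pow_succ, hk, one_mul]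
  rw [h4] at h3
  exact h3

theorem ne_one (h : Act G ξ) {x : G} (hx : x ≠ 1) : ξ x ≠ 1 := by
  intro h1
  apply hx
  have : ξ x = ξ 1 := by rw [h1, map_one]
  exact ξ.injective this

theorem lang_inj (h : Act G ξ) : Function.Injective (fun y : G => y⁻¹ * ξ y) := by
  intro a b hab
  simp only at hab
  have h1 : ξ a = a * (b⁻¹ * ξ b) := by rw [← hab]; group
  have h2 : ξ (a * b⁻¹) = a * b⁻¹ := by
    rw [map_mul, map_inv, h1]; group
  exact mul_inv_eq_one.mp (h.fpf _ h2)

/-- an invariant subgroup containing `y⁻¹ ξ(y)` contains `y` -/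
theorem mem_of_lang (h : Act G ξ) (N : Subgroup G) (hN : ∀ n ∈ N, ξ n ∈ N)
    (y : G) (hy : y⁻¹ * ξ y ∈ N) : y ∈ N := by
  haveI := h.fin
  let f : N → N := fun n => ⟨(n : G)⁻¹ * ξ n, N.mul_mem (N.inv_mem n.2) (hN n n.2)⟩
  have hf : Function.Injective f := by
    intro a b hab
    apply Subtype.ext
    apply h.lang_inj
    exact congrArg Subtype.val hab
  obtain ⟨n, hn⟩ := (Finite.injective_iff_surjective.mp hf) ⟨_, hy⟩
  have e : (n : G)⁻¹ * ξ n = y⁻¹ * ξ y := congrArg Subtype.val hn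
  have e2 : (n : G) = y := h.lang_inj e
  rw [← e2]; exact n.2

theorem inv_iff (h : Act G ξ) (H : Subgroup G) (hH : ∀ x ∈ H, ξ x ∈ H) (x : G) :
    ξ x ∈ H ↔ x ∈ H := by
  haveI := h.fin
  refine ⟨fun hx => ?_, hH x⟩
  let f : H → H := fun n => ⟨ξ n, hH n n.2⟩
  have hf : Function.Injective f := by
    intro a b hab
    apply Subtype.ext
    exact ξ.injective (congrArg Subtype.val hab)
  obtain ⟨n, hn⟩ := (Finite.injective_iff_surjective.mp hf) ⟨_, hx⟩
  have e : ξ (n : G) = ξ x := congrArg Subtype.val hn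
  rw [← ξ.injective e]; exact n.2

theorem symm_mem (h : Act G ξ) (H : Subgroup G) (hH : ∀ x ∈ H, ξ x ∈ H) {x : G} (hx : x ∈ H) :
    ξ.symm x ∈ H := by
  rw [← h.inv_iff H hH]
  simpa using hx

theorem map_eq (h : Act G ξ) (H : Subgroup G) (hH : ∀ x ∈ H, ξ x ∈ H) :
    H.map (ξ : G →* G) = H := by
  ext x
  rw [Subgroup.mem_map]
  constructor
  · rintro ⟨y, hy, rfl⟩
    exact hH y hy
  · intro hx
    exact ⟨ξ.symm x, h.symm_mem H hH hx, by simp⟩

end Act

/-- restriction of an automorphism to an invariant subgroup -/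
def restr (ξ : MulAut G) (H : Subgroup G) (hH : ∀ x, ξ x ∈ H ↔ x ∈ H) : MulAut H where
  toFun x := ⟨ξ x, (hH x).2 x.2⟩
  invFun x := ⟨ξ.symm x, (hH _).1 (by simp)⟩
  left_inv x := by ext; simp
  right_inv x := by ext; simp
  map_mul' x y := by ext; simp

@[simp]
theorem restr_apply (ξ : MulAut G) (H : Subgroup G) (hH : ∀ x, ξ x ∈ H ↔ x ∈ H) (x : H) :
    ((restr ξ H hH x : H) : G) = ξ x := rfl

theorem restr_pow (ξ : MulAut G) (H : Subgroup G) (hH : ∀ x, ξ x ∈ H ↔ x ∈ H) (n : ℕ) (x : H) :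
    (((restr ξ H hH ^ n) x : H) : G) = (ξ ^ n) x := by
  induction n generalizing x with
  | zero => simp
  | succ n ih =>
    rw [pow_succ, pow_succ, MulAut.mul_apply, MulAut.mul_apply, ih, restr_apply]

theorem quot_pow (ξ : MulAut G) (N : Subgroup G) [N.Normal] (hN : N.map (ξ : G →* G) = N)
    (n : ℕ) (x : G) :
    (T64.Fpf.quot ξ N hN ^ n) (QuotientGroup.mk x) = QuotientGroup.mk ((ξ ^ n) x) := by
  induction n generalizing x with
  | zero => simp
  | succ n ih =>
    rw [pow_succ, pow_succ, MulAut.mul_apply, MulAut.mul_apply, T64.Fpf.quot_mk, ih]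

namespace Act

variable {ξ : MulAut G}

/-- restriction to an invariant subgroup -/
theorem sub (h : Act G ξ) (H : Subgroup G) (hH : ∀ x, ξ x ∈ H ↔ x ∈ H) :
    Act H (restr ξ H hH) := by
  haveI := h.fin
  refine ⟨inferInstance, h.two.to_subgroup H, ?_, ?_⟩
  · obtain ⟨k, hk⟩ := h.ord
    refine ⟨k, ?_⟩
    ext x
    rw [restr_pow, hk]
    rfl
  · intro x hx
    apply Subtype.ext
    apply h.fpf
    exact congrArg Subtype.val hx

/-- the coset lemma: the induced automorphism of an invariant quotient is fixed-point-free -/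
theorem quot (h : Act G ξ) (N : Subgroup G) [N.Normal] (hN : N.map (ξ : G →* G) = N) :
    Act (G ⧸ N) (T64.Fpf.quot ξ N hN) := by
  haveI := h.fin
  have hinv : ∀ n ∈ N, ξ n ∈ N := by
    intro n hn
    rw [← hN]
    exact Subgroup.mem_map_of_mem _ hn
  refine ⟨inferInstance, h.two.to_quotient N, ?_, ?_⟩
  · obtain ⟨k, hk⟩ := h.ord
    refine ⟨k, ?_⟩
    ext x
    induction x using QuotientGroup.induction_on with
    | H x => rw [quot_pow, hk]; rfl
  · intro y
    induction y using QuotientGroup.induction_on with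
    | H y =>
      rw [T64.Fpf.quot_mk]
      intro hy
      have h1 : y⁻¹ * ξ y ∈ N := QuotientGroup.eq.1 hy.symm
      have h2 := h.mem_of_lang N hinv y h1
      exact (QuotientGroup.eq_one_iff y).2 h2

end Act

/-- fixed points of a `3`-power order automorphism on an invariant set -/
theorem card_modEq_fixed [Finite G] (η : MulAut G) {k : ℕ} (hη : η ^ 3 ^ k = 1) (S : Set G)
    (hS : ∀ x ∈ S, η x ∈ S) :
    Nat.card S ≡ Nat.card (S ∩ {x | η x = x} : Set G) [MOD 3] := by
  classical
  haveI : Fintype S := Fintype.ofFinite S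
  haveI : Fact (Nat.Prime 3) := ⟨by norm_num⟩
  let f : Function.End S := fun n => ⟨η n, hS n n.2⟩
  have hpow : ∀ n : ℕ, ∀ s : S, (((f ^ n) s : S) : G) = (η ^ n) (s : G) := by
    intro n
    induction n with
    | zero => intro s; rfl
    | succ n ih =>
      intro s
      rw [pow_succ, pow_succ]
      show (((f ^ n) (f s) : S) : G) = (η ^ n) (η s)
      rw [ih]
  have hf : f ^ 3 ^ k = 1 := by
    funext s
    apply Subtype.ext
    rw [hpow, hη]
    rfl
  have h1 := Equiv.Perm.card_fixedPoints_modEq (p := 3) (n := k) hf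
  rw [Nat.card_eq_fintype_card]
  refine h1.trans ?_
  rw [← Nat.card_eq_fintype_card]
  have e : Function.fixedPoints f ≃ (S ∩ {x | η x = x} : Set G) :=
    { toFun := fun s => ⟨(s : S), (s : S).2, congrArg Subtype.val s.2⟩
      invFun := fun s => ⟨⟨s, s.2.1⟩, Subtype.ext s.2.2⟩
      left_inv := fun s => rfl
      right_inv := fun s => rfl }
  rw [Nat.card_congr e]

namespace Act

variable {ξ : MulAut G}

/-- an invariant set without fixed points has cardinality divisible by three -/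
theorem three_dvd_card (h : Act G ξ) (S : Set G) (hS : ∀ x ∈ S, ξ x ∈ S) (h1 : (1 : G) ∉ S) :
    3 ∣ Nat.card S := by
  haveI := h.fin
  obtain ⟨k, hk⟩ := h.ord
  have h2 := card_modEq_fixed ξ hk S hS
  have h3 : (S ∩ {x | ξ x = x} : Set G) = ∅ := by
    ext x
    simp only [Set.mem_inter_iff, Set.mem_setOf_eq, Set.mem_empty_iff_false, iff_false, not_and]
    intro hx hfx
    rw [h.fpf x hfx] at hx
    exact h1 hx
  rw [h3] at h2
  have h4 : Nat.card (∅ : Set G) = 0 := by simp
  rw [h4] at h2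
  exact (Nat.modEq_zero_iff_dvd).1 h2

/-- an invariant subgroup has order `≡ 1 mod 3` -/
theorem card_modEq (h : Act G ξ) (H : Subgroup G) (hH : ∀ n ∈ H, ξ n ∈ H) :
    Nat.card H ≡ 1 [MOD 3] := by
  haveI := h.fin
  obtain ⟨k, hk⟩ := h.ord
  have h2 := card_modEq_fixed ξ hk (H : Set G) hH
  have h3 : ((H : Set G) ∩ {x | ξ x = x} : Set G) = {1} := by
    ext x
    simp only [Set.mem_inter_iff, SetLike.mem_coe, Set.mem_setOf_eq, Set.mem_singleton_iff]
    constructor
    · rintro ⟨_, hfx⟩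
      exact h.fpf x hfx
    · rintro rfl
      exact ⟨H.one_mem, map_one ξ⟩
  rw [h3] at h2
  simpa using h2

end Act

end Cfsg.Agent.Lib.Helper7.R2
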