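import Mathlib
import Cfsg.Agent.Lib.Helper7.R2A

/-!
# S1237, part B: groups of order four, centre of index four, the hypothesis `Hyp`
-/

set_option autoImplicit false

namespace Cfsg.Agent.Lib.Helper7.R2

open scoped commutatorElement

variable {G : Type*} [Group G]

namespace Act

variable {ξ : MulAut G}

/-- a group of order four with a fixed-point-free automorphism -/
theorem card4 (h : Act G ξ) (h4 : Nat.card G = 4) {k : G} (hk : k ≠ 1) :
    ξ (ξ k) = k * ξ k ∧ k * k = 1 ∧ (∀ x : G, x = 1 ∨ x = k ∨ x = ξ k ∨ x = k * ξ k) ∧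
      ∀ a b : G, a * b = b * a := by
  classical
  haveI := h.fin
  haveI : Fintype G := Fintype.ofFinite G
  have hk1 : ξ k ≠ 1 := h.ne_one hk
  have hk2 : ξ (ξ k) ≠ 1 := h.ne_one hk1
  have d1 : k ≠ ξ k := fun e => hk (h.fpf k e.symm)
  have d2 : ξ k ≠ ξ (ξ k) := fun e => d1 (ξ.injective e)
  have d3 : k ≠ ξ (ξ k) := fun e => hk (h.fpf2 e.symm)
  have hall : ∀ x : G, x = 1 ∨ x = k ∨ x = ξ k ∨ x = ξ (ξ k) := by
    intro x
    have hcard : ({1, k, ξ k, ξ (ξ k)} : Finset G).card = 4 := by
      rw [Finset.card_insert_of_notMem, Finset.card_insert_of_notMem, Finset.card_insert_of_notMem,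
        Finset.card_singleton]
      · simp [d2]
      · simp [d1, d3]
      · simp [hk.symm, hk1.symm, hk2.symm]
    have huniv : ({1, k, ξ k, ξ (ξ k)} : Finset G) = Finset.univ := by
      apply Finset.eq_univ_of_card
      rw [hcard, ← h4, Nat.card_eq_fintype_card]
    have hx : x ∈ ({1, k, ξ k, ξ (ξ k)} : Finset G) := by rw [huniv]; exact Finset.mem_univ x
    simpa using hx
  have hcomm : ∀ a b : G, a * b = b * a :=
    (IsPGroup.isMulCommutative_of_card_eq_prime_sq (p := 2) (by rw [h4]; norm_num)).is_comm.comm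
  have hkk : k * k = 1 := by
    obtain ⟨j, hj1, hj2⟩ := exists_pow_invol h.two hk
    have hmap : ∀ y : G, ξ y * ξ y = 1 → y * y = 1 := by
      intro y hy
      apply ξ.injective
      rw [map_mul, hy, map_one]
    -- every non-trivial element is `k`, `ξ k` or `ξ (ξ k)`; so is the involution `t`
    set t := k ^ 2 ^ j with ht
    rcases hall t with e | e | e | e
    · exact absurd e hj1
    · rw [e] at hj2; exact hj2
    · rw [e] at hj2; exact hmap _ hj2
    · rw [e] at hj2; exact hmap _ (hmap _ hj2)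
  have hprod : ξ (ξ k) = k * ξ k := by
    rcases hall (k * ξ k) with e | e | e | e
    · exfalso
      have : ξ k = k := by
        have h1 : ξ k = k⁻¹ := eq_inv_of_mul_eq_one_right e
        rw [h1]; exact inv_eq_of_mul_eq_one_left hkk
      exact d1 this.symm
    · exfalso
      have : ξ k = 1 := by
        have := congrArg (fun y => k⁻¹ * y) e
        simpa using this
      exact hk1 this
    · exfalso
      have : k = 1 := by
        have := congrArg (fun y => y * (ξ k)⁻¹) e
        simpa using this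
      exact hk this
    · exact e.symm
  refine ⟨hprod, hkk, ?_, hcomm⟩
  intro x
  rw [← hprod]
  exact hall x

/-- if the centre has index dividing four then the group is abelian -/
theorem comm_of_index_center (h : Act G ξ) (hidx : (Subgroup.center G).index ∣ 4) :
    ∀ a b : G, a * b = b * a := by
  haveI := h.fin
  have hmap : (Subgroup.center G).map (ξ : G →* G) = Subgroup.center G := T64.map_center_eq ξ
  have hq := h.quot (Subgroup.center G) hmap
  by_contra hne
  push_neg at hne
  obtain ⟨y, b, hyb⟩ := hne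
  have hyZ : y ∉ Subgroup.center G := by
    intro hy
    exact hyb ((Subgroup.mem_center_iff.1 hy b).symm)
  have hmod := hq.card_modEq ⊤ (fun _ _ => trivial)
  have hcard : Nat.card (G ⧸ Subgroup.center G) = 4 := by
    have h1 : Nat.card (G ⧸ Subgroup.center G) = (Subgroup.center G).index := rfl
    have h2 : Nat.card (⊤ : Subgroup (G ⧸ Subgroup.center G)) = (Subgroup.center G).index := by
      rw [Subgroup.card_top]; rfl
    rw [h2] at hmod
    rw [h1]
    have hle : (Subgroup.center G).index ≤ 4 := Nat.le_of_dvd (by norm_num) hidx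
    have h1' : (Subgroup.center G).index ≠ 1 := by
      intro h1
      rw [Subgroup.index_eq_one] at h1
      apply hyZ; rw [h1]; trivial
    unfold Nat.ModEq at hmod
    interval_cases (Subgroup.center G).index <;> simp_all
  have hy1 : (QuotientGroup.mk y : G ⧸ Subgroup.center G) ≠ 1 := by
    intro h1
    exact hyZ ((QuotientGroup.eq_one_iff y).1 h1)
  obtain ⟨e1, _, e3, _⟩ := hq.card4 hcard hy1
  rw [T64.Fpf.quot_mk, T64.Fpf.quot_mk, ← QuotientGroup.mk_mul] at e1
  -- `ξ (ξ y) = y * ξ y * c` with `c` central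
  have hc : (y * ξ y)⁻¹ * ξ (ξ y) ∈ Subgroup.center G := QuotientGroup.eq.1 e1.symm
  set c := (y * ξ y)⁻¹ * ξ (ξ y) with hcdef
  have hξξ : ξ (ξ y) = y * ξ y * c := by rw [hcdef]; group
  have hcc : ∀ g : G, c * g = g * c := fun g => (Subgroup.mem_center_iff.1 hc g).symm
  -- the commutator `κ = ⁅y, ξ y⁆` is inverted by `ξ`
  have hκ : ξ ⁅y, ξ y⁆ = ⁅y, ξ y⁆⁻¹ := by
    rw [map_commutatorElement, hξξ]
    rw [commutatorElement_def, commutatorElement_def]
    have : ξ y * (y * ξ y * c) * (ξ y)⁻¹ * (y * ξ y * c)⁻¹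
        = ξ y * y * (ξ y * (c * (ξ y)⁻¹)) * c⁻¹ * (ξ y)⁻¹ * y⁻¹ := by group
    rw [this, hcc]
    group
  have hκ1 : ⁅y, ξ y⁆ = 1 := by
    apply h.fpf2
    rw [hκ, map_inv, hκ, inv_inv]
  have hyc : y * ξ y = ξ y * y := by
    rw [commutatorElement_eq_one_iff_mul_comm] at hκ1
    exact hκ1
  -- every element commutes with `y`
  apply hyZ
  rw [Subgroup.mem_center_iff]
  intro x
  have key : ∀ a : G, a * y = y * a → (QuotientGroup.mk x : G ⧸ Subgroup.center G) = QuotientGroup.mk a →
      x * y = y * x := by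
    intro a ha hxa
    have hd : a⁻¹ * x ∈ Subgroup.center G := QuotientGroup.eq.1 hxa.symm
    have hd' := Subgroup.mem_center_iff.1 hd y
    have : x = a * (a⁻¹ * x) := by group
    rw [this]
    calc a * (a⁻¹ * x) * y = a * ((a⁻¹ * x) * y) := by group
      _ = a * (y * (a⁻¹ * x)) := by rw [hd']
      _ = (a * y) * (a⁻¹ * x) := by group
      _ = (y * a) * (a⁻¹ * x) := by rw [ha]
      _ = y * (a * (a⁻¹ * x)) := by group
  rcases e3 (QuotientGroup.mk x) with e | e | e | e
  · exact key 1 (by group) e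
  · exact key y rfl e
  · rw [T64.Fpf.quot_mk] at e
    exact key (ξ y) hyc.symm e
  · rw [T64.Fpf.quot_mk, ← QuotientGroup.mk_mul] at e
    refine key (y * ξ y) ?_ e
    calc y * ξ y * y = y * (ξ y * y) := by group
      _ = y * (y * ξ y) := by rw [hyc]

end Act

end Cfsg.Agent.Lib.Helper7.R2
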