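import Mathlib
import Cfsg.Agent.Lib.Helper7.R2B

/-!
# S1237, part C: relative groups of order four; the hypothesis `Hyp`
-/

set_option autoImplicit false

namespace Cfsg.Agent.Lib.Helper7.R2

open scoped commutatorElement

variable {G : Type*} [Group G]

namespace Act

variable {ξ : MulAut G}

/-- a section `H / N` of order four -/
theorem card4_rel (h : Act G ξ) (H N : Subgroup G) (hNH : N ≤ H) (hH : ∀ x ∈ H, ξ x ∈ H)
    (hN : ∀ x ∈ N, ξ x ∈ N) (hnorm : ∀ g ∈ H, ∀ n ∈ N, g * n * g⁻¹ ∈ N)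
    (hcard : Nat.card H = 4 * Nat.card N) {a : G} (haH : a ∈ H) (haN : a ∉ N) :
    (a * ξ a)⁻¹ * ξ (ξ a) ∈ N ∧ a * a ∈ N ∧
      (∀ x ∈ H, x ∈ N ∨ a⁻¹ * x ∈ N ∨ (ξ a)⁻¹ * x ∈ N ∨ (a * ξ a)⁻¹ * x ∈ N) ∧
      ∀ x ∈ H, ∀ y ∈ H, (x * y)⁻¹ * (y * x) ∈ N := by
  haveI := h.fin
  have hK := h.sub H (h.inv_iff H hH)
  set ξK := restr ξ H (h.inv_iff H hH) with hξK
  haveI : (N.subgroupOf H).Normal := by
    constructor
    intro n hn g
    rw [Subgroup.mem_subgroupOf] at hn ⊢
    exact hnorm g g.2 n hn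
  have hN' : ∀ x ∈ N.subgroupOf H, ξK x ∈ N.subgroupOf H := by
    intro x hx
    rw [Subgroup.mem_subgroupOf] at hx ⊢
    exact hN x hx
  have hmap := hK.map_eq (N.subgroupOf H) hN'
  have hQ := hK.quot (N.subgroupOf H) hmap
  have hcQ : Nat.card (H ⧸ N.subgroupOf H) = 4 := by
    have h1 : Nat.card (N.subgroupOf H) * (N.subgroupOf H).index = Nat.card H :=
      Subgroup.card_mul_index _
    have h2 : Nat.card (N.subgroupOf H) = Nat.card N :=
      Nat.card_congr (Subgroup.subgroupOfEquivOfLe hNH).toEquiv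
    have h3 : 0 < Nat.card N := Nat.card_pos
    have h4 : (N.subgroupOf H).index = 4 := by
      rw [h2, hcard, mul_comm] at h1
      exact Nat.eq_of_mul_eq_mul_right h3 h1
    exact h4
  have ha1 : (QuotientGroup.mk (⟨a, haH⟩ : H) : H ⧸ N.subgroupOf H) ≠ 1 := by
    intro h1
    have := (QuotientGroup.eq_one_iff _).1 h1
    rw [Subgroup.mem_subgroupOf] at this
    exact haN this
  obtain ⟨e1, e2, e3, e4⟩ := hQ.card4 hcQ ha1
  refine ⟨?_, ?_, ?_, ?_⟩
  · rw [T64.Fpf.quot_mk, T64.Fpf.quot_mk, ← QuotientGroup.mk_mul] at e1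
    have := QuotientGroup.eq.1 e1.symm
    rw [Subgroup.mem_subgroupOf] at this
    exact this
  · rw [← QuotientGroup.mk_mul] at e2
    have := (QuotientGroup.eq_one_iff _).1 e2
    rw [Subgroup.mem_subgroupOf] at this
    exact this
  · intro x hx
    rcases e3 (QuotientGroup.mk (⟨x, hx⟩ : H)) with e | e | e | e
    · left
      have := (QuotientGroup.eq_one_iff _).1 e
      rw [Subgroup.mem_subgroupOf] at this
      exact this
    · right; left
      have := QuotientGroup.eq.1 e.symm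
      rw [Subgroup.mem_subgroupOf] at this
      exact this
    · right; right; left
      rw [T64.Fpf.quot_mk] at e
      have := QuotientGroup.eq.1 e.symm
      rw [Subgroup.mem_subgroupOf] at this
      exact this
    · right; right; right
      rw [T64.Fpf.quot_mk, ← QuotientGroup.mk_mul] at e
      have := QuotientGroup.eq.1 e.symm
      rw [Subgroup.mem_subgroupOf] at this
      exact this
  · intro x hx y hy
    have := e4 (QuotientGroup.mk (⟨x, hx⟩ : H)) (QuotientGroup.mk (⟨y, hy⟩ : H))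
    rw [← QuotientGroup.mk_mul, ← QuotientGroup.mk_mul] at this
    have := QuotientGroup.eq.1 this
    rw [Subgroup.mem_subgroupOf] at this
    exact this

end Act

/-- the subgroup of central involutions -/
def Om (G : Type*) [Group G] : Subgroup G where
  carrier := {x | x ∈ Subgroup.center G ∧ x * x = 1}
  one_mem' := ⟨one_mem _, by simp⟩
  mul_mem' := by
    rintro a b ⟨ha, ha2⟩ ⟨hb, hb2⟩
    refine ⟨mul_mem ha hb, ?_⟩
    have := Subgroup.mem_center_iff.1 hb a
    calc a * b * (a * b) = a * (b * a) * b := by group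
      _ = a * (a * b) * b := by rw [this]
      _ = (a * a) * (b * b) := by group
      _ = 1 := by rw [ha2, hb2, one_mul]
  inv_mem' := by
    rintro a ⟨ha, ha2⟩
    refine ⟨inv_mem ha, ?_⟩
    rw [← mul_inv_rev, ha2, inv_one]

theorem mem_Om_iff {x : G} : x ∈ Om G ↔ x ∈ Subgroup.center G ∧ x * x = 1 := Iff.rfl

theorem Om_le_center : Om G ≤ Subgroup.center G := fun _ hx => hx.1

theorem Om_comm {z : G} (hz : z ∈ Om G) (g : G) : z * g = g * z :=
  (Subgroup.mem_center_iff.1 hz.1 g).symm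

theorem Om_sq {z : G} (hz : z ∈ Om G) : z * z = 1 := hz.2

theorem Om_inv_eq {z : G} (hz : z ∈ Om G) : z⁻¹ = z := inv_eq_of_mul_eq_one_left hz.2

instance Om_normal : (Om G).Normal := by
  constructor
  intro n hn g
  have : g * n * g⁻¹ = n := by
    rw [← Om_comm hn g]; group
  rw [this]; exact hn

theorem Om_invariant (ξ : MulAut G) : ∀ x ∈ Om G, ξ x ∈ Om G := by
  intro x hx
  refine ⟨(T64.aut_mem_center_iff ξ x).2 hx.1, ?_⟩
  rw [← map_mul, hx.2, map_one]

/-- the main hypothesis: the involutions form a central subgroup of order four on which `ξ`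
acts without fixed points -/
structure Hyp (G : Type*) [Group G] (ξ : MulAut G) : Prop where
  act : Act G ξ
  cen : ∀ x : G, x * x = 1 → x ∈ Subgroup.center G
  four : Nat.card (Om G) = 4

namespace Hyp

variable {ξ : MulAut G}

theorem mem_Om (h : Hyp G ξ) {x : G} : x ∈ Om G ↔ x * x = 1 :=
  ⟨fun hx => hx.2, fun hx => ⟨h.cen x hx, hx⟩⟩

theorem exists_ne_one (h : Hyp G ξ) : ∃ z ∈ Om G, z ≠ 1 := by
  by_contra hcon
  push_neg at hcon
  have : Om G = ⊥ := by
    rw [Subgroup.eq_bot_iff_forall]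
    exact hcon
  have h4 := h.four
  rw [this] at h4
  simp at h4

theorem Om_cases (h : Hyp G ξ) {z : G} (hz : z ∈ Om G) (hz1 : z ≠ 1) :
    ξ (ξ z) = z * ξ z ∧ ξ (ξ (ξ z)) = z ∧
      ∀ x ∈ Om G, x = 1 ∨ x = z ∨ x = ξ z ∨ x = z * ξ z := by
  have hA := h.act.sub (Om G) (h.act.inv_iff (Om G) (Om_invariant ξ))
  have hz1' : (⟨z, hz⟩ : Om G) ≠ 1 := by
    intro e
    exact hz1 (congrArg Subtype.val e)
  obtain ⟨e1, _, e3, _⟩ := hA.card4 h.four hz1'
  have e1' : ξ (ξ z) = z * ξ z := congrArg Subtype.val e1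
  refine ⟨e1', ?_, ?_⟩
  · rw [e1', map_mul, e1']
    have hξz := Om_invariant ξ z hz
    calc ξ z * (z * ξ z) = z * (ξ z * ξ z) := by
          rw [← mul_assoc, ← Om_comm hz (ξ z), mul_assoc]
      _ = z := by rw [hξz.2, mul_one]
  · intro x hx
    rcases e3 ⟨x, hx⟩ with e | e | e | e
    · left; exact congrArg Subtype.val e
    · right; left; exact congrArg Subtype.val e
    · right; right; left; exact congrArg Subtype.val e
    · right; right; right; exact congrArg Subtype.val e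

/-- a non-trivial invariant subgroup contains all involutions -/
theorem Om_le (h : Hyp G ξ) (H : Subgroup G) (hH : ∀ x ∈ H, ξ x ∈ H) (hne : H ≠ ⊥) :
    Om G ≤ H := by
  obtain ⟨x', hx'⟩ := (Subgroup.ne_bot_iff_exists_ne_one).1 hne
  obtain ⟨x, hxH, hx1⟩ : ∃ x : G, x ∈ H ∧ x ≠ 1 :=
    ⟨(x' : G), x'.2, fun e => hx' (Subtype.ext e)⟩
  obtain ⟨j, hj1, hj2⟩ := exists_pow_invol h.act.two hx1
  have hzH : x ^ 2 ^ j ∈ H := H.pow_mem hxH _
  have hz : x ^ 2 ^ j ∈ Om G := h.mem_Om.2 hj2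
  obtain ⟨_, _, hall⟩ := h.Om_cases hz hj1
  intro y hy
  rcases hall y hy with e | e | e | e
  · rw [e]; exact H.one_mem
  · rw [e]; exact hzH
  · rw [e]; exact hH _ hzH
  · rw [e]; exact H.mul_mem hzH (hH _ hzH)

/-- restriction to a non-trivial invariant subgroup -/
theorem sub (h : Hyp G ξ) (H : Subgroup G) (hH : ∀ x, ξ x ∈ H ↔ x ∈ H) (hne : H ≠ ⊥) :
    Hyp H (restr ξ H hH) := by
  have hle := h.Om_le H (fun x hx => (hH x).2 hx) hne
  have hcen : ∀ x : H, x * x = 1 → x ∈ Subgroup.center H := by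
    intro x hx
    have h1 : (x : G) * (x : G) = 1 := congrArg Subtype.val hx
    have h2 := h.cen _ h1
    rw [Subgroup.mem_center_iff] at h2 ⊢
    intro g
    apply Subtype.ext
    exact h2 g
  refine ⟨h.act.sub H hH, hcen, ?_⟩
  rw [← h.four]
  refine Nat.card_congr
    { toFun := fun x => ⟨((x : H) : G), h.mem_Om.2 (congrArg Subtype.val x.2.2)⟩
      invFun := fun x => ⟨⟨(x : G), hle x.2⟩, ?_⟩
      left_inv := fun x => rfl
      right_inv := fun x => rfl }
  have hx2 : (⟨(x : G), hle x.2⟩ : H) * ⟨(x : G), hle x.2⟩ = 1 := Subtype.ext x.2.2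
  exact ⟨hcen _ hx2, hx2⟩

end Hyp

end Cfsg.Agent.Lib.Helper7.R2
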