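import Mathlib
import Cfsg.Agent.Lib.Helper7.R2C
import Cfsg.Agent.Lib.Helper7.T64C

/-!
# S1237, part D: the Gauss sum

If all squares and commutators are central involutions then the group has order 4, 16 or 64.
-/

set_option autoImplicit false

namespace Cfsg.Agent.Lib.Helper7.R2

open scoped commutatorElement

variable {G : Type*} [Group G]

theorem arith_gauss (a b : ℕ) (hb : b ≤ a) (h : ((16 : ℤ) - 2 ^ a) ^ 2 = 9 * 2 ^ a * 2 ^ b) :
    a = 2 ∨ a = 6 := by
  have hd : (2 : ℤ) ^ a ∣ 2 ^ 8 := ⟨9 * 2 ^ b + 32 - 2 ^ a, by linear_combination h⟩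
  have ha : a ≤ 8 := (pow_dvd_pow_iff (by norm_num) (by decide)).mp hd
  interval_cases a <;> interval_cases b <;> simp_all

/-- all squares and commutators are central involutions -/
structure Sp (G : Type*) [Group G] (ξ : MulAut G) : Prop where
  hyp : Hyp G ξ
  sq : ∀ x : G, x * x ∈ Om G
  cm : ∀ x y : G, ⁅x, y⁆ ∈ Om G

namespace Sp

variable {ξ : MulAut G}

theorem hc (s : Sp G ξ) : ∀ a b : G, ⁅a, b⁆ ∈ Subgroup.center G := fun a b => (s.cm a b).1

theorem comm_mul_right (s : Sp G ξ) (a b c : G) : ⁅a, b * c⁆ = ⁅a, b⁆ * ⁅a, c⁆ :=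
  T64.c2_mul_right s.hc a b c

theorem comm_mul_left (s : Sp G ξ) (a b c : G) : ⁅a * b, c⁆ = ⁅a, c⁆ * ⁅b, c⁆ :=
  T64.c2_mul_left s.hc a b c

theorem comm_inv_left (s : Sp G ξ) (a c : G) : ⁅a⁻¹, c⁆ = ⁅a, c⁆ := by
  rw [T64.c2_inv_left s.hc, Om_inv_eq (s.cm a c)]

theorem comm_inv_right (s : Sp G ξ) (a c : G) : ⁅a, c⁻¹⁆ = ⁅a, c⁆ := by
  rw [T64.c2_inv_right s.hc, Om_inv_eq (s.cm a c)]

theorem comm_symm (s : Sp G ξ) (a c : G) : ⁅a, c⁆ = ⁅c, a⁆ := by
  rw [← commutatorElement_inv, Om_inv_eq (s.cm c a)]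

/-- `(g k)² = ⁅k, g⁆ g² k²` -/
theorem mul_sq (s : Sp G ξ) (g k : G) : (g * k) * (g * k) = ⁅k, g⁆ * (g * g) * (k * k) := by
  have h1 : k * g = ⁅k, g⁆ * g * k := T64.mul_eq_comm_mul k g
  have h2 := Om_comm (s.cm k g) g
  calc (g * k) * (g * k) = g * (k * g) * k := by group
    _ = g * (⁅k, g⁆ * g * k) * k := by rw [h1]
    _ = (g * ⁅k, g⁆) * g * k * k := by group
    _ = (⁅k, g⁆ * g) * g * k * k := by rw [h2]
    _ = ⁅k, g⁆ * (g * g) * (k * k) := by group

end Sp

/-- the two-element subgroup generated by an involution -/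
def pairSub (z : G) (hz : z * z = 1) : Subgroup G where
  carrier := {x | x = 1 ∨ x = z}
  one_mem' := Or.inl rfl
  mul_mem' := by
    rintro a b (rfl | rfl) (rfl | rfl)
    · left; simp
    · right; simp
    · right; simp
    · left; exact hz
  inv_mem' := by
    rintro a (rfl | rfl)
    · left; simp
    · right; exact inv_eq_of_mul_eq_one_left hz

theorem mem_pairSub (z : G) (hz : z * z = 1) (x : G) : x ∈ pairSub z hz ↔ x = 1 ∨ x = z := Iff.rfl

theorem card_pairSub (z : G) (hz : z * z = 1) (h1 : z ≠ 1) : Nat.card (pairSub z hz) = 2 := by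
  rw [Nat.card_eq_two_iff]
  refine ⟨⟨1, Or.inl rfl⟩, ⟨z, Or.inr rfl⟩, ?_, ?_⟩
  · intro e
    exact h1 (congrArg Subtype.val e).symm
  · ext ⟨x, hx⟩
    simp only [Set.mem_insert_iff, Set.mem_singleton_iff, Set.mem_univ, iff_true]
    rcases hx with rfl | rfl
    · left; rfl
    · right; rfl

open Classical in
/-- the non-trivial character of `Om G` with kernel `{1, z}` -/
noncomputable def ell (z : G) (x : G) : ℤ := if x = 1 ∨ x = z then 1 else -1

theorem ell_sq (z x : G) : ell z x * ell z x = 1 := by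
  unfold ell
  split_ifs <;> norm_num

theorem ell_cases (z x : G) : ell z x = 1 ∨ ell z x = -1 := by
  unfold ell
  split_ifs
  · left; rfl
  · right; rfl

theorem ell_one (z : G) : ell z 1 = 1 := by
  unfold ell
  rw [if_pos (Or.inl rfl)]

theorem ell_self (z : G) : ell z z = 1 := by
  unfold ell
  rw [if_pos (Or.inr rfl)]

theorem ell_eq_one_iff (z x : G) : ell z x = 1 ↔ x = 1 ∨ x = z := by
  unfold ell
  split_ifs with h
  · simp [h]
  · simp [h]

namespace Hyp

variable {ξ : MulAut G}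

theorem ell_mul (h : Hyp G ξ) {z : G} (hz : z ∈ Om G) (hz1 : z ≠ 1) {x y : G} (hx : x ∈ Om G)
    (hy : y ∈ Om G) : ell z (x * y) = ell z x * ell z y := by
  have hle : pairSub z hz.2 ≤ Om G := by
    rintro a (rfl | rfl)
    · exact one_mem _
    · exact hz
  have hidx : ((pairSub z hz.2).subgroupOf (Om G)).index = 2 := by
    have h1 : Nat.card ((pairSub z hz.2).subgroupOf (Om G)) *
        ((pairSub z hz.2).subgroupOf (Om G)).index = Nat.card (Om G) := Subgroup.card_mul_index _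
    have h2 : Nat.card ((pairSub z hz.2).subgroupOf (Om G)) = 2 := by
      rw [Nat.card_congr (Subgroup.subgroupOfEquivOfLe hle).toEquiv, card_pairSub z hz.2 hz1]
    rw [h2, h.four] at h1
    omega
  have key := Subgroup.mul_mem_iff_of_index_two hidx (a := (⟨x, hx⟩ : Om G)) (b := ⟨y, hy⟩)
  rw [Subgroup.mem_subgroupOf, Subgroup.mem_subgroupOf, Subgroup.mem_subgroupOf] at key
  have key' : (x * y = 1 ∨ x * y = z) ↔ ((x = 1 ∨ x = z) ↔ (y = 1 ∨ y = z)) := key
  unfold ell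
  by_cases hx' : x = 1 ∨ x = z <;> by_cases hy' : y = 1 ∨ y = z
  · rw [if_pos hx', if_pos hy', if_pos (key'.2 (iff_of_true hx' hy'))]; norm_num
  · rw [if_pos hx', if_neg hy', if_neg (fun hc => hy' ((key'.1 hc).1 hx'))]; norm_num
  · rw [if_neg hx', if_pos hy', if_neg (fun hc => hx' ((key'.1 hc).2 hy'))]; norm_num
  · rw [if_neg hx', if_neg hy', if_pos (key'.2 (iff_of_false hx' hy'))]; norm_num

end Hyp

end Cfsg.Agent.Lib.Helper7.R2
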