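import Mathlib
import Cfsg.Agent.Lib.Helper7.R2D

/-!
# S1237, part E: the Gauss sum computation
-/

set_option autoImplicit false

namespace Cfsg.Agent.Lib.Helper7.R2

open scoped commutatorElement

variable {G : Type*} [Group G]

namespace Sp

variable {ξ : MulAut G}

/-- the pointwise identity behind the Gauss sum -/
theorem ell_key (s : Sp G ξ) {z : G} (hz : z ∈ Om G) (hz1 : z ≠ 1) (x y : G) :
    ell z (x * x) * ell z ((x * y) * (x * y)) = ell z (y * y) * ell z ⁅y, x⁆ := by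
  rw [s.mul_sq x y, s.hyp.ell_mul hz hz1 (mul_mem (s.cm y x) (s.sq x)) (s.sq y),
    s.hyp.ell_mul hz hz1 (s.cm y x) (s.sq x)]
  have := ell_sq z (x * x)
  linear_combination (ell z ⁅y, x⁆ * ell z (y * y)) * this

/-- the radical of the form `ell ∘ ⁅ , ⁆` -/
def radical (s : Sp G ξ) {z : G} (hz : z ∈ Om G) (hz1 : z ≠ 1) : Subgroup G where
  carrier := {y | ∀ x, ell z ⁅y, x⁆ = 1}
  one_mem' := fun x => by rw [commutatorElement_one_left, ell_one]
  mul_mem' := by
    intro a b ha hb x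
    rw [s.comm_mul_left, s.hyp.ell_mul hz hz1 (s.cm a x) (s.cm b x), ha x, hb x]; norm_num
  inv_mem' := by
    intro a ha x
    rw [s.comm_inv_left]; exact ha x

theorem mem_radical (s : Sp G ξ) {z : G} (hz : z ∈ Om G) (hz1 : z ≠ 1) (y : G) :
    y ∈ s.radical hz hz1 ↔ ∀ x, ell z ⁅y, x⁆ = 1 := Iff.rfl

theorem inner_sum (s : Sp G ξ) {z : G} (hz : z ∈ Om G) (hz1 : z ≠ 1) [Fintype G]
    [DecidablePred (· ∈ s.radical hz hz1)] (y : G) :
    ∑ x : G, ell z ⁅y, x⁆ = if y ∈ s.radical hz hz1 then (Fintype.card G : ℤ) else 0 := by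
  split_ifs with hy
  · rw [Finset.sum_congr rfl (fun x _ => hy x)]; simp
  · have hex : ∃ x₀, ell z ⁅y, x₀⁆ = -1 := by
      by_contra hcon
      push_neg at hcon
      apply hy
      intro x
      rcases ell_cases z ⁅y, x⁆ with e | e
      · exact e
      · exact absurd e (hcon x)
    obtain ⟨x₀, hx₀⟩ := hex
    have h1 : ∑ x : G, ell z ⁅y, x⁆ = ∑ x : G, ell z ⁅y, x₀ * x⁆ :=
      (Equiv.sum_comp (Equiv.mulLeft x₀) (fun x => ell z ⁅y, x⁆)).symm
    have h2 : ∑ x : G, ell z ⁅y, x₀ * x⁆ = - ∑ x : G, ell z ⁅y, x⁆ := by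
      rw [← Finset.sum_neg_distrib]
      apply Finset.sum_congr rfl
      intro x _
      rw [s.comm_mul_right, s.hyp.ell_mul hz hz1 (s.cm _ _) (s.cm _ _), hx₀]; ring
    linarith [h1.trans h2]

theorem gauss_sq (s : Sp G ξ) {z : G} (hz : z ∈ Om G) (hz1 : z ≠ 1) [Fintype G]
    [DecidablePred (· ∈ s.radical hz hz1)] :
    (∑ x : G, ell z (x * x)) * (∑ x : G, ell z (x * x)) =
      (Fintype.card G : ℤ) * ∑ y ∈ Finset.univ.filter (· ∈ s.radical hz hz1), ell z (y * y) := by
  rw [Finset.sum_mul_sum]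
  have h1 : ∀ x : G, ∑ y : G, ell z (x * x) * ell z (y * y) =
      ∑ y : G, ell z (y * y) * ell z ⁅y, x⁆ := by
    intro x
    rw [← Equiv.sum_comp (Equiv.mulLeft x) (fun y => ell z (x * x) * ell z (y * y))]
    apply Finset.sum_congr rfl
    intro y _
    simp only [Equiv.coe_mulLeft]
    exact s.ell_key hz hz1 x y
  rw [Finset.sum_congr rfl (fun x _ => h1 x), Finset.sum_comm]
  simp_rw [← Finset.mul_sum, s.inner_sum hz hz1]
  rw [Finset.mul_sum, Finset.sum_filter]
  apply Finset.sum_congr rfl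
  intro y _
  split_ifs <;> ring

theorem radical_sum (s : Sp G ξ) {z : G} (hz : z ∈ Om G) (hz1 : z ≠ 1) [Fintype G]
    [DecidablePred (· ∈ s.radical hz hz1)] :
    (∑ y ∈ Finset.univ.filter (· ∈ s.radical hz hz1), ell z (y * y)) = 0 ∨
      (∑ y ∈ Finset.univ.filter (· ∈ s.radical hz hz1), ell z (y * y)) =
        (Nat.card (s.radical hz hz1) : ℤ) := by
  haveI : Fintype (s.radical hz hz1) := Fintype.ofFinite _
  have hsub : (∑ y ∈ Finset.univ.filter (· ∈ s.radical hz hz1), ell z (y * y)) =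
      ∑ y : s.radical hz hz1, ell z ((y : G) * (y : G)) :=
    Finset.sum_subtype (Finset.univ.filter (· ∈ s.radical hz hz1)) (by simp)
      (fun y => ell z (y * y))
  rw [hsub]
  by_cases hall : ∀ y : s.radical hz hz1, ell z ((y : G) * (y : G)) = 1
  · right
    rw [Finset.sum_congr rfl (fun y _ => hall y)]
    simp [Nat.card_eq_fintype_card]
  · left
    push_neg at hall
    obtain ⟨y₀, hy₀⟩ := hall
    have hy₀' : ell z ((y₀ : G) * (y₀ : G)) = -1 := by
      rcases ell_cases z ((y₀ : G) * (y₀ : G)) with e | e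
      · exact absurd e hy₀
      · exact e
    have h1 : ∑ y : s.radical hz hz1, ell z ((y : G) * (y : G)) =
        ∑ y : s.radical hz hz1, ell z (((y₀ * y : s.radical hz hz1) : G) * ((y₀ * y : s.radical hz hz1) : G)) :=
      (Equiv.sum_comp (Equiv.mulLeft y₀) (fun y : s.radical hz hz1 => ell z ((y : G) * (y : G)))).symm
    have h2 : ∑ y : s.radical hz hz1, ell z (((y₀ * y : s.radical hz hz1) : G) * ((y₀ * y : s.radical hz hz1) : G)) =
        - ∑ y : s.radical hz hz1, ell z ((y : G) * (y : G)) := by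
      rw [← Finset.sum_neg_distrib]
      apply Finset.sum_congr rfl
      intro y _
      rw [Subgroup.coe_mul, s.mul_sq, s.hyp.ell_mul hz hz1 (mul_mem (s.cm _ _) (s.sq _)) (s.sq _),
        s.hyp.ell_mul hz hz1 (s.cm _ _) (s.sq _), hy₀', y.2 (y₀ : G)]
      ring
    linarith [h1.trans h2]

end Sp

end Cfsg.Agent.Lib.Helper7.R2
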