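import Mathlib
import Cfsg.Agent.Lib.Helper7.R2E

/-!
# S1237, part F: the order is 4, 16 or 64
-/

set_option autoImplicit false

namespace Cfsg.Agent.Lib.Helper7.R2

open scoped commutatorElement

variable {G : Type*} [Group G]

namespace Sp

variable {ξ : MulAut G}

theorem card_cases (s : Sp G ξ) : Nat.card G = 4 ∨ Nat.card G = 16 ∨ Nat.card G = 64 := by
  classical
  haveI := s.hyp.act.fin
  haveI : Fintype G := Fintype.ofFinite G
  obtain ⟨z, hz, hz1⟩ := s.hyp.exists_ne_one
  obtain ⟨e2, e3, hall⟩ := s.hyp.Om_cases hz hz1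
  have hz₁ : ξ z ∈ Om G := Om_invariant ξ z hz
  have d01 : z ≠ ξ z := fun e => hz1 (s.hyp.act.fpf z e.symm)
  have hz₁1 : ξ z ≠ 1 := s.hyp.act.ne_one hz1
  have d02 : z ≠ z * ξ z := by
    intro e
    apply hz₁1
    have := congrArg (fun y => z⁻¹ * y) e
    simpa using this.symm
  have d12 : ξ z ≠ z * ξ z := by
    intro e
    apply hz1
    have := congrArg (fun y => y * (ξ z)⁻¹) e
    simpa using this.symm
  have hz₂1 : z * ξ z ≠ 1 := by
    intro e
    apply d01
    have h1 : ξ z = z⁻¹ := eq_inv_of_mul_eq_one_right e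
    rw [h1, Om_inv_eq hz]
  let N : G → ℕ := fun b => (Finset.univ.filter (fun x : G => x * x = b)).card
  have hN : ∀ b, N b ≤ N (ξ b) := by
    intro b
    apply Finset.card_le_card_of_injOn (fun x => ξ x)
    · intro x hx
      simp only [Finset.coe_filter, Finset.mem_univ, true_and, Set.mem_setOf_eq] at hx ⊢
      rw [← map_mul, hx]
    · intro x _ y _ hxy
      exact ξ.injective hxy
  have hn1 : N z ≤ N (ξ z) := hN z
  have hn2 : N (ξ z) ≤ N (z * ξ z) := by
    have := hN (ξ z)
    rwa [e2] at this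
  have hn3 : N (z * ξ z) ≤ N z := by
    have e4 : ξ (z * ξ z) = z := by rw [← e2]; exact e3
    have := hN (z * ξ z)
    rwa [e4] at this
  have hNeq1 : N (ξ z) = N z := by omega
  have hNeq2 : N (z * ξ z) = N z := by omega
  have hN1 : N 1 = 4 := by
    rw [← s.hyp.four]
    have h1 : Nat.card (Om G) = Nat.card {x : G // x * x = 1} :=
      Nat.card_congr (Equiv.subtypeEquivRight (fun x => s.hyp.mem_Om))
    rw [h1, Nat.card_eq_fintype_card, Fintype.card_subtype]
  have hH : ∀ x ∈ (Finset.univ : Finset G),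
      (fun x : G => x * x) x ∈ ({1, z, ξ z, z * ξ z} : Finset G) := by
    intro x _
    rcases hall (x * x) (s.sq x) with e | e | e | e <;> simp [e]
  have hn12 : ξ z ∉ ({z * ξ z} : Finset G) := by simp [d12]
  have hn02 : z ∉ ({ξ z, z * ξ z} : Finset G) := by simp [d01, d02]
  have hn1' : (1 : G) ∉ ({z, ξ z, z * ξ z} : Finset G) := by
    simp [hz1.symm, hz₁1.symm, hz₂1.symm]
  have hpart : Fintype.card G = N 1 + (N z + (N (ξ z) + N (z * ξ z))) := by
    have := Finset.card_eq_sum_card_fiberwise hH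
    rw [Finset.sum_insert hn1', Finset.sum_insert hn02, Finset.sum_insert hn12,
      Finset.sum_singleton] at this
    exact this
  have hcard : Fintype.card G = 4 + 3 * N z := by
    rw [hpart, hN1, hNeq1, hNeq2]; ring
  have hin : ∀ b, ∑ x ∈ Finset.univ.filter (fun x : G => x * x = b), ell z (x * x) =
      (N b : ℤ) * ell z b := by
    intro b
    rw [Finset.sum_congr rfl (fun x hx => by rw [(Finset.mem_filter.1 hx).2])]
    rw [Finset.sum_const, nsmul_eq_mul]
  have hl1 : ell z (ξ z) = -1 := by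
    rcases ell_cases z (ξ z) with e | e
    · rcases (ell_eq_one_iff z (ξ z)).1 e with e' | e'
      · exact absurd e' hz₁1
      · exact absurd e'.symm d01
    · exact e
  have hl2 : ell z (z * ξ z) = -1 := by
    rcases ell_cases z (z * ξ z) with e | e
    · rcases (ell_eq_one_iff z (z * ξ z)).1 e with e' | e'
      · exact absurd e' hz₂1
      · exact absurd e'.symm d02
    · exact e
  have hS : ∑ x : G, ell z (x * x) = 4 - (N z : ℤ) := by
    rw [← Finset.sum_fiberwise_of_maps_to hH]
    rw [Finset.sum_insert hn1', Finset.sum_insert hn02, Finset.sum_insert hn12,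
      Finset.sum_singleton, hin, hin, hin, hin, ell_one, ell_self, hl1, hl2, hN1, hNeq1, hNeq2]
    push_cast
    ring
  have hG := s.gauss_sq hz hz1
  rw [hS] at hG
  obtain ⟨a, ha⟩ := IsPGroup.iff_card.1 s.hyp.act.two
  have hR : Nat.card (s.radical hz hz1) ∣ 2 ^ a := by
    rw [← ha]; exact Subgroup.card_subgroup_dvd_card _
  obtain ⟨b, hb, hRb⟩ := (Nat.dvd_prime_pow Nat.prime_two).1 hR
  have hcard' : (2 : ℤ) ^ a = 4 + 3 * (N z : ℤ) := by
    have : (Fintype.card G : ℤ) = 4 + 3 * (N z : ℤ) := by rw [hcard]; push_cast; ring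
    rw [← this, ← Nat.card_eq_fintype_card, ha]; push_cast; ring
  have hFa : (Fintype.card G : ℤ) = 2 ^ a := by
    rw [← Nat.card_eq_fintype_card, ha]; push_cast; ring
  rcases s.radical_sum hz hz1 with hJ | hJ
  · rw [hJ, mul_zero] at hG
    have h0 : (4 : ℤ) - (N z : ℤ) = 0 := by
      rcases mul_eq_zero.1 hG with h | h <;> exact h
    have hn : N z = 4 := by omega
    right; left
    rw [Nat.card_eq_fintype_card, hcard, hn]
  · rw [hJ, hRb, hFa] at hG
    have h9 : ((16 : ℤ) - 2 ^ a) ^ 2 = 9 * 2 ^ a * 2 ^ b := by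
      push_cast at hG
      linear_combination 9 * hG - (28 - 2 ^ a - 3 * (N z : ℤ)) * hcard'
    rcases arith_gauss a b hb h9 with rfl | rfl
    · left; rw [ha]; norm_num
    · right; right; rw [ha]; norm_num

end Sp

end Cfsg.Agent.Lib.Helper7.R2
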