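import Mathlib
import Cfsg.Agent.Lib.Helper7.R2F
import Cfsg.Agent.Lib.Lead.PGroup

/-!
# S1237, part G: the subgroup `Xs` (the preimage of `Ω₁(Z(G/Z))`)
-/

set_option autoImplicit false

namespace Cfsg.Agent.Lib.Helper7.R2

open scoped commutatorElement

variable {G : Type*} [Group G]

/-- `⁅a, g * k⁆ = ⁅a, g⁆ * ⁅a, k⁆` when `⁅a, k⁆` is central -/
theorem comm_mul_right_of {a g k : G} (hk : ⁅a, k⁆ ∈ Subgroup.center G) :
    ⁅a, g * k⁆ = ⁅a, g⁆ * ⁅a, k⁆ := by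
  have h1 := Subgroup.mem_center_iff.1 hk g
  calc ⁅a, g * k⁆ = ⁅a, g⁆ * (g * ⁅a, k⁆) * g⁻¹ := by
        simp only [commutatorElement_def]; group
    _ = ⁅a, g⁆ * (⁅a, k⁆ * g) * g⁻¹ := by rw [h1]
    _ = ⁅a, g⁆ * ⁅a, k⁆ := by group

/-- `⁅a * b, g⁆ = ⁅a, g⁆ * ⁅b, g⁆` when `⁅b, g⁆` is central -/
theorem comm_mul_left_of {a b g : G} (hb : ⁅b, g⁆ ∈ Subgroup.center G) :
    ⁅a * b, g⁆ = ⁅a, g⁆ * ⁅b, g⁆ := by
  have h1 := Subgroup.mem_center_iff.1 hb a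
  have h2 := Subgroup.mem_center_iff.1 hb ⁅a, g⁆
  calc ⁅a * b, g⁆ = (a * ⁅b, g⁆) * a⁻¹ * ⁅a, g⁆ := by
        simp only [commutatorElement_def]; group
    _ = (⁅b, g⁆ * a) * a⁻¹ * ⁅a, g⁆ := by rw [h1]
    _ = ⁅b, g⁆ * ⁅a, g⁆ := by group
    _ = ⁅a, g⁆ * ⁅b, g⁆ := h2.symm

/-- `(g k)² = ⁅k, g⁆ g² k²` when `⁅k, g⁆` is central -/
theorem mul_sq_of {g k : G} (hk : ⁅k, g⁆ ∈ Subgroup.center G) :
    (g * k) * (g * k) = ⁅k, g⁆ * (g * g) * (k * k) := by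
  have h1 : k * g = ⁅k, g⁆ * g * k := T64.mul_eq_comm_mul k g
  have h2 := (Subgroup.mem_center_iff.1 hk g)
  calc (g * k) * (g * k) = g * (k * g) * k := by group
    _ = g * (⁅k, g⁆ * g * k) * k := by rw [h1]
    _ = (g * ⁅k, g⁆) * g * k * k := by group
    _ = (⁅k, g⁆ * g) * g * k * k := by rw [h2]
    _ = ⁅k, g⁆ * (g * g) * (k * k) := by group

/-- the preimage of `Ω₁(Z(G / Om G))` -/
def Xs (G : Type*) [Group G] : Subgroup G where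
  carrier := {x | x * x ∈ Om G ∧ ∀ g, ⁅x, g⁆ ∈ Om G}
  one_mem' := ⟨by simp [one_mem], fun g => by simp [one_mem]⟩
  mul_mem' := by
    rintro a b ⟨ha, ha'⟩ ⟨hb, hb'⟩
    refine ⟨?_, fun g => ?_⟩
    · rw [mul_sq_of (hb' a).1]
      exact mul_mem (mul_mem (hb' a) ha) hb
    · rw [comm_mul_left_of (hb' g).1]
      exact mul_mem (ha' g) (hb' g)
  inv_mem' := by
    rintro a ⟨ha, ha'⟩
    refine ⟨?_, fun g => ?_⟩
    · rw [← mul_inv_rev]; exact inv_mem ha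
    · have h1 : ⁅a⁻¹, g⁆ = a⁻¹ * ⁅a, g⁆⁻¹ * a := by
        simp only [commutatorElement_def]; group
      have h2 := Om_comm (inv_mem (ha' g)) a
      rw [h1, mul_assoc, h2, ← mul_assoc, inv_mul_cancel, one_mul]
      exact inv_mem (ha' g)

theorem mem_Xs {x : G} : x ∈ Xs G ↔ x * x ∈ Om G ∧ ∀ g, ⁅x, g⁆ ∈ Om G := Iff.rfl

theorem Om_le_Xs : Om G ≤ Xs G := by
  intro x hx
  refine ⟨by rw [hx.2]; exact one_mem _, fun g => ?_⟩
  have : ⁅x, g⁆ = 1 := by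
    rw [commutatorElement_eq_one_iff_mul_comm]; exact Om_comm hx g
  rw [this]; exact one_mem _

theorem Xs_invariant (ξ : MulAut G) : ∀ x ∈ Xs G, ξ x ∈ Xs G := by
  rintro x ⟨h1, h2⟩
  refine ⟨?_, fun g => ?_⟩
  · rw [← map_mul]; exact Om_invariant ξ _ h1
  · have : ⁅ξ x, g⁆ = ξ ⁅x, ξ.symm g⁆ := by
      rw [map_commutatorElement]; simp
    rw [this]
    exact Om_invariant ξ _ (h2 _)

instance Xs_normal : (Xs G).Normal := by
  constructor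
  rintro x ⟨h1, h2⟩ g
  refine ⟨?_, fun k => ?_⟩
  · have e : g * x * g⁻¹ * (g * x * g⁻¹) = g * (x * x) * g⁻¹ := by group
    rw [e]
    exact Om_normal.conj_mem _ h1 g
  · have e : ⁅g * x * g⁻¹, k⁆ = g * ⁅x, g⁻¹ * k * g⁆ * g⁻¹ := by
      simp only [commutatorElement_def]; group
    rw [e]
    exact Om_normal.conj_mem _ (h2 _) g

/-- `g ↦ ⁅x, g⁆` is multiplicative for `x ∈ Xs G` -/
theorem Xs_comm_mul {x : G} (hx : x ∈ Xs G) (g k : G) : ⁅x, g * k⁆ = ⁅x, g⁆ * ⁅x, k⁆ :=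
  comm_mul_right_of (hx.2 k).1

theorem Xs_comm_inv {x : G} (hx : x ∈ Xs G) (g : G) : ⁅x, g⁻¹⁆ = ⁅x, g⁆ := by
  have h1 := Xs_comm_mul hx g g⁻¹
  rw [mul_inv_cancel, commutatorElement_one_right] at h1
  have h2 : ⁅x, g⁻¹⁆ = ⁅x, g⁆⁻¹ := by
    rw [eq_inv_iff_mul_eq_one, mul_comm_of_Om]
    exact h1.symm
  rw [h2, Om_inv_eq (hx.2 g)]
where
  mul_comm_of_Om : ⁅x, g⁻¹⁆ * ⁅x, g⁆ = ⁅x, g⁆ * ⁅x, g⁻¹⁆ := Om_comm (hx.2 _) _

namespace Hyp

variable {ξ : MulAut G}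

theorem Xs_ne_bot (h : Hyp G ξ) : Xs G ≠ ⊥ := by
  obtain ⟨z, hz, hz1⟩ := h.exists_ne_one
  intro e
  have : z ∈ Xs G := Om_le_Xs hz
  rw [e, Subgroup.mem_bot] at this
  exact hz1 this

theorem Xs_inv_iff (h : Hyp G ξ) : ∀ x, ξ x ∈ Xs G ↔ x ∈ Xs G :=
  h.act.inv_iff (Xs G) (Xs_invariant ξ)

/-- `Xs G` satisfies the hypotheses of the Gauss sum lemma -/
theorem Xs_sp (h : Hyp G ξ) : Sp (Xs G) (restr ξ (Xs G) h.Xs_inv_iff) := by
  have hs := h.sub (Xs G) h.Xs_inv_iff h.Xs_ne_bot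
  have key : ∀ x : Xs G, (x : G) ∈ Om G → x ∈ Om (Xs G) := by
    intro x hx
    refine ⟨?_, Subtype.ext hx.2⟩
    rw [Subgroup.mem_center_iff]
    intro g
    apply Subtype.ext
    exact (Om_comm hx (g : G)).symm
  refine ⟨hs, fun x => key _ x.2.1, fun x y => key _ ?_⟩
  exact x.2.2 (y : G)

theorem card_Xs (h : Hyp G ξ) :
    Nat.card (Xs G) = 4 ∨ Nat.card (Xs G) = 16 ∨ Nat.card (Xs G) = 64 :=
  h.Xs_sp.card_cases

/-- a lift of a central involution of `G / Om G` lies in `Xs G` -/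
theorem mem_Xs_of_mk (x : G) (h1 : (QuotientGroup.mk x : G ⧸ Om G) ∈ Subgroup.center (G ⧸ Om G))
    (h2 : (QuotientGroup.mk x : G ⧸ Om G) * QuotientGroup.mk x = 1) : x ∈ Xs G := by
  refine ⟨?_, fun g => ?_⟩
  · rw [← QuotientGroup.mk_mul] at h2
    exact (QuotientGroup.eq_one_iff _).1 h2
  · rw [← QuotientGroup.eq_one_iff]
    have : (QuotientGroup.mk ⁅x, g⁆ : G ⧸ Om G) = ⁅(QuotientGroup.mk x : G ⧸ Om G), QuotientGroup.mk g⁆ := by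
      simp only [commutatorElement_def, QuotientGroup.mk_mul, QuotientGroup.mk_inv]
    rw [this, commutatorElement_eq_one_iff_mul_comm]
    exact (Subgroup.mem_center_iff.1 h1 _).symm

/-- if `G` is not abelian then `Xs G` is strictly bigger than `Om G` -/
theorem exists_mem_Xs (h : Hyp G ξ) (hna : ¬ ∀ a b : G, a * b = b * a) :
    ∃ x ∈ Xs G, x ∉ Om G := by
  haveI := h.act.fin
  haveI : Fact (Nat.Prime 2) := ⟨Nat.prime_two⟩
  haveI : Nontrivial (G ⧸ Om G) := by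
    by_contra hnt
    rw [not_nontrivial_iff_subsingleton] at hnt
    apply hna
    intro a b
    have ha : a ∈ Om G := by
      rw [← QuotientGroup.eq_one_iff]; exact Subsingleton.elim _ _
    exact Om_comm ha b
  have hq : IsPGroup 2 (G ⧸ Om G) := h.act.two.to_quotient (Om G)
  haveI := hq.center_nontrivial
  obtain ⟨w, hw⟩ := exists_ne (1 : Subgroup.center (G ⧸ Om G))
  have hw1 : (w : G ⧸ Om G) ≠ 1 := fun e => hw (Subtype.ext e)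
  obtain ⟨j, hj1, hj2⟩ := exists_pow_invol hq hw1
  obtain ⟨x, hx⟩ := QuotientGroup.mk_surjective ((w : G ⧸ Om G) ^ 2 ^ j)
  have hc : (QuotientGroup.mk x : G ⧸ Om G) ∈ Subgroup.center (G ⧸ Om G) := by
    rw [hx]; exact Subgroup.pow_mem _ w.2 _
  refine ⟨x, mem_Xs_of_mk x hc (by rw [hx]; exact hj2), ?_⟩
  intro hxO
  apply hj1
  rw [← hx]
  exact (QuotientGroup.eq_one_iff x).2 hxO

theorem card_Xs_ne (h : Hyp G ξ) (hna : ¬ ∀ a b : G, a * b = b * a) : Nat.card (Xs G) ≠ 4 := by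
  haveI := h.act.fin
  intro h4
  obtain ⟨x, hx, hxO⟩ := h.exists_mem_Xs hna
  have : Om G = Xs G := by
    apply Subgroup.eq_of_le_of_card_ge Om_le_Xs
    rw [h4, h.four]
  rw [this] at hxO
  exact hxO hx

end Hyp

end Cfsg.Agent.Lib.Helper7.R2
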