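import Mathlib
import Cfsg.Agent.Lib.Helper7.R2G

/-!
# S1237, part H: the case `|Xs G| = 64`
-/

set_option autoImplicit false

namespace Cfsg.Agent.Lib.Helper7.R2

open scoped commutatorElement

variable {G : Type*} [Group G]

namespace Sp

variable {ξ : MulAut G}

/-- an abelian group all of whose squares are involutions has order at most 16 -/
theorem card_le_of_comm (s : Sp G ξ) (hc : ∀ a b : G, a * b = b * a) : Nat.card G ≤ 16 := by
  haveI := s.hyp.act.fin
  let f : G →* G :=
    { toFun := fun x => x * x
      map_one' := by simp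
      map_mul' := fun a b => by
        calc a * b * (a * b) = a * (b * a) * b := by group
          _ = a * (a * b) * b := by rw [hc b a]
          _ = a * a * (b * b) := by group }
  have hker : f.ker = Om G := by
    ext x
    rw [MonoidHom.mem_ker, s.hyp.mem_Om]
    rfl
  have hrange : f.range ≤ Om G := by
    rintro y ⟨x, rfl⟩
    exact s.sq x
  have h1 : Nat.card f.ker * f.ker.index = Nat.card G := Subgroup.card_mul_index _
  rw [Subgroup.index_ker, hker, s.hyp.four] at h1
  have h2 : Nat.card f.range ≤ 4 := by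
    rw [← s.hyp.four]; exact Subgroup.card_le_of_le hrange
  rw [← h1]
  omega

/-- in the group of order 64 the centre consists of involutions -/
theorem center_eq (s : Sp G ξ) (h64 : Nat.card G = 64) : Subgroup.center G = Om G := by
  haveI := s.hyp.act.fin
  have hinv : ∀ x ∈ Subgroup.center G, ξ x ∈ Subgroup.center G :=
    fun x hx => (T64.aut_mem_center_iff ξ x).2 hx
  have hmod := s.hyp.act.card_modEq (Subgroup.center G) hinv
  have hdvd : Nat.card (Subgroup.center G) ∣ 64 := by
    rw [← h64]; exact Subgroup.card_subgroup_dvd_card _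
  have hle : 4 ≤ Nat.card (Subgroup.center G) := by
    rw [← s.hyp.four]; exact Subgroup.card_le_of_le Om_le_center
  have hnc : ¬ ∀ a b : G, a * b = b * a := by
    intro hc
    have := s.card_le_of_comm hc
    omega
  rcases T64.dvd_sixty_four_modEq hdvd hmod with e | e | e | e
  · omega
  · symm
    apply Subgroup.eq_of_le_of_card_ge Om_le_center
    rw [e, s.hyp.four]
  · exfalso
    apply hnc
    apply s.hyp.act.comm_of_index_center
    have h1 : Nat.card (Subgroup.center G) * (Subgroup.center G).index = Nat.card G :=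
      Subgroup.card_mul_index _
    rw [e, h64] at h1
    have : (Subgroup.center G).index = 4 := by omega
    rw [this]
  · exfalso
    apply hnc
    have htop : Subgroup.center G = ⊤ := by
      apply Subgroup.eq_top_of_card_eq
      rw [e, h64]
    intro a b
    have : b ∈ Subgroup.center G := by rw [htop]; trivial
    exact Subgroup.mem_center_iff.1 this a

end Sp

namespace Hyp

variable {ξ : MulAut G}

/-- if `Xs G` has order 64 then it is the whole group -/
theorem Xs_eq_top (h : Hyp G ξ) (h64 : Nat.card (Xs G) = 64) : Xs G = ⊤ := by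
  haveI := h.act.fin
  haveI : Fact (Nat.Prime 2) := ⟨Nat.prime_two⟩
  have hcen := h.Xs_sp.center_eq h64
  -- (c1) an element of `Xs G` centralizing `Xs G` is an involution
  have c1 : ∀ x ∈ Xs G, (∀ y ∈ Xs G, y * x = x * y) → x ∈ Om G := by
    intro x hx hxy
    have hxc : (⟨x, hx⟩ : Xs G) ∈ Subgroup.center (Xs G) := by
      rw [Subgroup.mem_center_iff]
      intro y
      apply Subtype.ext
      exact hxy y y.2
    rw [hcen] at hxc
    have := hxc.2
    exact h.mem_Om.2 (congrArg Subtype.val this)
  -- (c2) the centralizer of `Xs G` is `Om G`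
  have c2 : Subgroup.centralizer (Xs G : Set G) ≤ Om G := by
    by_contra hcon
    obtain ⟨c, hcC, hcO⟩ := SetLike.not_le_iff_exists.1 hcon
    have hq : IsPGroup 2 (G ⧸ Om G) := h.act.two.to_quotient (Om G)
    have hnorm : ((Subgroup.centralizer (Xs G : Set G)).map (QuotientGroup.mk' (Om G))).Normal :=
      Subgroup.Normal.map inferInstance _ (QuotientGroup.mk'_surjective _)
    have hne : (Subgroup.centralizer (Xs G : Set G)).map (QuotientGroup.mk' (Om G)) ≠ ⊥ := by
      intro e
      have : (QuotientGroup.mk' (Om G)) c ∈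
          (Subgroup.centralizer (Xs G : Set G)).map (QuotientGroup.mk' (Om G)) :=
        Subgroup.mem_map_of_mem _ hcC
      rw [e, Subgroup.mem_bot] at this
      exact hcO ((QuotientGroup.eq_one_iff c).1 this)
    obtain ⟨w, hwC, hwZ, hw1⟩ :=
      Cfsg.Agent.Lib.Lead.PGroup.exists_mem_center_of_normal hq _ hne
    obtain ⟨j, hj1, hj2⟩ := exists_pow_invol hq hw1
    have hwC' := Subgroup.pow_mem _ hwC (2 ^ j)
    have hwZ' := Subgroup.pow_mem _ hwZ (2 ^ j)
    obtain ⟨c', hc'C, hc'⟩ := Subgroup.mem_map.1 hwC'
    have hc'' : (QuotientGroup.mk c' : G ⧸ Om G) = w ^ 2 ^ j := hc'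
    have hc'X : c' ∈ Xs G := mem_Xs_of_mk c' (by rw [hc'']; exact hwZ') (by rw [hc'']; exact hj2)
    have hc'O : c' ∈ Om G := by
      apply c1 c' hc'X
      intro y hy
      exact (Subgroup.mem_centralizer_iff.1 hc'C y hy)
    apply hj1
    rw [← hc'']
    exact (QuotientGroup.eq_one_iff c').2 hc'O
  -- (c3) all squares and commutators centralize `Xs G`
  rw [eq_top_iff]
  intro g _
  refine ⟨?_, fun k => ?_⟩
  · apply c2
    rw [Subgroup.mem_centralizer_iff]
    intro x hx
    have h1 : ⁅x, g * g⁆ = 1 := by
      rw [Xs_comm_mul hx, Om_sq (hx.2 g)]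
    exact commutatorElement_eq_one_iff_mul_comm.1 h1
  · apply c2
    rw [Subgroup.mem_centralizer_iff]
    intro x hx
    have h1 : ⁅x, ⁅g, k⁆⁆ = 1 := by
      rw [commutatorElement_def g k, Xs_comm_mul hx, Xs_comm_mul hx, Xs_comm_mul hx,
        Xs_comm_inv hx, Xs_comm_inv hx]
      have hm : ⁅x, g⁆ * ⁅x, k⁆ ∈ Om G := mul_mem (hx.2 g) (hx.2 k)
      have := Om_sq hm
      rw [← this]; group
    exact commutatorElement_eq_one_iff_mul_comm.1 h1

/-- the conclusion in the case `|Xs G| = 64` -/
theorem sp_of_card_Xs (h : Hyp G ξ) (h64 : Nat.card (Xs G) = 64) :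
    Nat.card G = 64 ∧ Sp G ξ := by
  have htop := h.Xs_eq_top h64
  refine ⟨?_, h, fun x => ?_, fun x y => ?_⟩
  · rw [← h64, htop, Subgroup.card_top]
  · have : x ∈ Xs G := by rw [htop]; trivial
    exact this.1
  · have : x ∈ Xs G := by rw [htop]; trivial
    exact this.2 y

end Hyp

end Cfsg.Agent.Lib.Helper7.R2
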