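import Mathlib
import Cfsg.Agent.Lib.Helper7.R2H

/-!
# S1237, part I: the case `|Xs G| = 16`, first part (`Xs G` is abelian, Lemma Q)
-/

set_option autoImplicit false

universe u

namespace Cfsg.Agent.Lib.Helper7.R2

open scoped commutatorElement

variable {G : Type u} [Group G]

/-- the situation of case (d): `Xs G` has order 16, with the induction hypothesis -/
structure D16 (G : Type u) [Group G] (ξ : MulAut G) : Prop where
  hyp : Hyp G ξ
  nab : ¬ ∀ a b : G, a * b = b * a
  h16 : Nat.card (Xs G) = 16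
  ih : ∀ (K : Type u) [Group K] (η : MulAut K), Nat.card K < Nat.card G → Hyp K η →
    (∀ a b : K, a * b = b * a) ∨ (Nat.card K = 64 ∧ Sp K η)

namespace D16

variable {ξ : MulAut G}

/-- `Xs G` is abelian -/
theorem xs_comm (d : D16 G ξ) : ∀ x ∈ Xs G, ∀ y ∈ Xs G, x * y = y * x := by
  haveI := d.hyp.act.fin
  have s := d.hyp.Xs_sp
  have hle : Om (Xs G) ≤ Subgroup.center (Xs G) := Om_le_center
  have h1 : Nat.card (Subgroup.center (Xs G)) * (Subgroup.center (Xs G)).index = Nat.card (Xs G) :=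
    Subgroup.card_mul_index _
  have h2 : Nat.card (Om (Xs G)) ∣ Nat.card (Subgroup.center (Xs G)) :=
    Subgroup.card_dvd_of_le hle
  rw [s.hyp.four] at h2
  rw [d.h16] at h1
  have hidx : (Subgroup.center (Xs G)).index ∣ 4 := by
    obtain ⟨c, hc⟩ := h2
    rw [hc] at h1
    have : c * (Subgroup.center (Xs G)).index = 4 := by nlinarith
    exact ⟨c, by rw [← this, mul_comm]⟩
  have hc := s.hyp.act.comm_of_index_center hidx
  intro x hx y hy
  exact congrArg Subtype.val (hc ⟨x, hx⟩ ⟨y, hy⟩)

/-- every involution is a square in `Xs G` -/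
theorem sq_surj (d : D16 G ξ) : ∀ z ∈ Om G, ∃ x ∈ Xs G, x * x = z := by
  haveI := d.hyp.act.fin
  have hc := d.xs_comm
  let f : Xs G →* Om G :=
    { toFun := fun x => ⟨(x : G) * (x : G), x.2.1⟩
      map_one' := by ext; simp
      map_mul' := fun a b => by
        ext
        show ((a : G) * b) * ((a : G) * b) = (a : G) * a * ((b : G) * b)
        calc ((a : G) * b) * ((a : G) * b) = (a : G) * ((b : G) * a) * b := by group
          _ = (a : G) * ((a : G) * b) * b := by rw [hc b b.2 a a.2]
          _ = (a : G) * a * ((b : G) * b) := by group }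
  have hker : Nat.card f.ker = 4 := by
    rw [← d.hyp.four]
    refine Nat.card_congr
      { toFun := fun x => ⟨((x : Xs G) : G), d.hyp.mem_Om.2 ?_⟩
        invFun := fun x => ⟨⟨(x : G), Om_le_Xs x.2⟩, ?_⟩
        left_inv := fun x => rfl
        right_inv := fun x => rfl }
    · have := x.2
      rw [MonoidHom.mem_ker] at this
      exact congrArg Subtype.val this
    · rw [MonoidHom.mem_ker]
      apply Subtype.ext
      exact x.2.2
  have h1 : Nat.card f.ker * f.ker.index = Nat.card (Xs G) := Subgroup.card_mul_index _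
  rw [Subgroup.index_ker, hker, d.h16] at h1
  have h2 : Nat.card f.range = 4 := by omega
  have htop : f.range = ⊤ := by
    apply Subgroup.eq_top_of_card_eq
    rw [h2, d.hyp.four]
  intro z hz
  have : (⟨z, hz⟩ : Om G) ∈ f.range := by rw [htop]; trivial
  obtain ⟨x, hx⟩ := this
  exact ⟨x, x.2, congrArg Subtype.val hx⟩

/-- there is an element of `Xs G` outside `Om G` -/
theorem exists_a (d : D16 G ξ) : ∃ a ∈ Xs G, a ∉ Om G := d.hyp.exists_mem_Xs d.nab

/-- the coset decomposition of `Xs G` -/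
theorem xs_cases (d : D16 G ξ) {a : G} (ha : a ∈ Xs G) (haO : a ∉ Om G) :
    (a * ξ a)⁻¹ * ξ (ξ a) ∈ Om G ∧
      ∀ x ∈ Xs G, x ∈ Om G ∨ a⁻¹ * x ∈ Om G ∨ (ξ a)⁻¹ * x ∈ Om G ∨ (a * ξ a)⁻¹ * x ∈ Om G := by
  have h := d.hyp.act.card4_rel (Xs G) (Om G) Om_le_Xs (Xs_invariant ξ) (Om_invariant ξ)
    (fun g _ n hn => Om_normal.conj_mem n hn g) (by rw [d.h16, d.hyp.four]) ha haO
  exact ⟨h.1, h.2.2.1⟩

/-- Lemma Q: not all commutators are involutions -/
theorem lemmaQ (d : D16 G ξ) (hcm : ∀ g k : G, ⁅g, k⁆ ∈ Om G) : False := by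
  haveI := d.hyp.act.fin
  have hc : ∀ a b : G, ⁅a, b⁆ ∈ Subgroup.center G := fun a b => (hcm a b).1
  -- squares are central
  have hsq : ∀ g : G, g * g ∈ Subgroup.center G := by
    intro g
    rw [Subgroup.mem_center_iff]
    intro k
    have h1 : ⁅g * g, k⁆ = 1 := by
      rw [T64.c2_mul_left hc, Om_sq (hcm g k)]
    exact (commutatorElement_eq_one_iff_mul_comm.1 h1).symm
  -- the squaring map modulo `Om G`
  let f : G →* G ⧸ Om G :=
    { toFun := fun g => QuotientGroup.mk (g * g)
      map_one' := by simp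
      map_mul' := fun a b => by
        rw [mul_sq_of (hc b a), ← QuotientGroup.mk_mul, QuotientGroup.eq]
        have : (⁅b, a⁆ * (a * a) * (b * b))⁻¹ * (a * a * (b * b)) =
            (b * b)⁻¹ * ((a * a)⁻¹ * ⁅b, a⁆⁻¹ * (a * a)) * (b * b) := by group
        rw [this]
        have h2 : (a * a)⁻¹ * ⁅b, a⁆⁻¹ * (a * a) = ⁅b, a⁆⁻¹ := by
          rw [mul_assoc, Om_comm (inv_mem (hcm b a)) (a * a), ← mul_assoc, inv_mul_cancel, one_mul]
        rw [h2, mul_assoc, Om_comm (inv_mem (hcm b a)) (b * b), ← mul_assoc, inv_mul_cancel,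
          one_mul]
        exact inv_mem (hcm b a) }
  have hker : f.ker = Xs G := by
    ext g
    rw [MonoidHom.mem_ker]
    show (QuotientGroup.mk (g * g) : G ⧸ Om G) = 1 ↔ _
    rw [QuotientGroup.eq_one_iff]
    exact ⟨fun hg => ⟨hg, fun k => hcm g k⟩, fun hg => hg.1⟩
  have hrange : f.range ≤ (Subgroup.center G).map (QuotientGroup.mk' (Om G)) := by
    rintro _ ⟨g, rfl⟩
    exact Subgroup.mem_map_of_mem _ (hsq g)
  -- cardinalities
  have e1 : Nat.card (Xs G) * (Xs G).index = Nat.card G := Subgroup.card_mul_index _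
  have e2 : (Xs G).index = Nat.card f.range := by rw [← hker, Subgroup.index_ker]
  have e3 : Nat.card (Om G) * (Om G).index = Nat.card G := Subgroup.card_mul_index _
  have e4 : Nat.card ((Subgroup.center G).map (QuotientGroup.mk' (Om G))) *
      ((Subgroup.center G).map (QuotientGroup.mk' (Om G))).index = Nat.card (G ⧸ Om G) :=
    Subgroup.card_mul_index _
  have e5 : ((Subgroup.center G).map (QuotientGroup.mk' (Om G))).index =
      (Subgroup.center G).index :=
    Subgroup.index_map_eq (H := Subgroup.center G) (f := QuotientGroup.mk' (Om G))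
      (QuotientGroup.mk'_surjective _) (by rw [QuotientGroup.ker_mk']; exact Om_le_center)
  have e6 : Nat.card f.range ≤
      Nat.card ((Subgroup.center G).map (QuotientGroup.mk' (Om G))) :=
    Subgroup.card_le_of_le hrange
  have e7 : Nat.card (G ⧸ Om G) = (Om G).index := rfl
  rw [d.h16, e2] at e1
  rw [d.hyp.four] at e3
  rw [e5, e7] at e4
  have hrpos : 0 < Nat.card f.range := Nat.card_pos
  have hidx_le : (Subgroup.center G).index ≤ 4 := by
    by_contra hgt
    push_neg at hgt
    have : Nat.card f.range * 5 ≤ Nat.card ((Subgroup.center G).map (QuotientGroup.mk' (Om G))) *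
        (Subgroup.center G).index := Nat.mul_le_mul e6 hgt
    nlinarith
  obtain ⟨n, hn⟩ := IsPGroup.iff_card.1 d.hyp.act.two
  have hdvd : (Subgroup.center G).index ∣ 2 ^ n := by
    rw [← hn]; exact Subgroup.index_dvd_card _
  obtain ⟨c, _, hc2⟩ := (Nat.dvd_prime_pow Nat.prime_two).1 hdvd
  have hidx : (Subgroup.center G).index ∣ 4 := by
    rw [hc2] at hidx_le ⊢
    have hc3 : c ≤ 2 := by
      by_contra hc3
      push_neg at hc3
      have : 2 ^ 3 ≤ 2 ^ c := Nat.pow_le_pow_right (by norm_num) hc3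
      omega
    exact pow_dvd_pow 2 hc3
  exact d.nab (d.hyp.act.comm_of_index_center hidx)

end D16

end Cfsg.Agent.Lib.Helper7.R2
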