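import Mathlib
import Cfsg.Agent.Lib.Helper7.R2I

/-!
# S1237, part J: the case `|Xs G| = 16`, `Xs G` central
-/

set_option autoImplicit false

universe u

namespace Cfsg.Agent.Lib.Helper7.R2

open scoped commutatorElement

variable {G : Type u} [Group G]

/-- the central involutions of `G / Om G` are the image of `Xs G` -/
theorem Om_quot_eq : Om (G ⧸ Om G) = (Xs G).map (QuotientGroup.mk' (Om G)) := by
  ext w
  constructor
  · intro hw
    obtain ⟨x, rfl⟩ := QuotientGroup.mk_surjective w
    exact Subgroup.mem_map_of_mem _ (Hyp.mem_Xs_of_mk x hw.1 hw.2)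
  · rintro ⟨x, hx, rfl⟩
    refine ⟨?_, ?_⟩
    · rw [Subgroup.mem_center_iff]
      intro k
      obtain ⟨g, rfl⟩ := QuotientGroup.mk_surjective k
      show (QuotientGroup.mk g : G ⧸ Om G) * QuotientGroup.mk x = QuotientGroup.mk x * QuotientGroup.mk g
      rw [← QuotientGroup.mk_mul, ← QuotientGroup.mk_mul, QuotientGroup.eq]
      have : (g * x)⁻¹ * (x * g) = ⁅x⁻¹, g⁻¹⁆ := by
        simp only [commutatorElement_def]; group
      rw [this]
      have hx' : x⁻¹ ∈ Xs G := inv_mem hx
      exact hx'.2 g⁻¹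
    · show (QuotientGroup.mk x : G ⧸ Om G) * QuotientGroup.mk x = 1
      rw [← QuotientGroup.mk_mul]
      exact (QuotientGroup.eq_one_iff _).2 hx.1

namespace Hyp

variable {ξ : MulAut G}

theorem card_quot (h : Hyp G ξ) : 4 * Nat.card (G ⧸ Om G) = Nat.card G := by
  have e3 : Nat.card (Om G) * (Om G).index = Nat.card G := Subgroup.card_mul_index _
  rw [h.four] at e3
  exact e3

theorem card_map_Xs (h : Hyp G ξ) :
    4 * Nat.card ((Xs G).map (QuotientGroup.mk' (Om G))) = Nat.card (Xs G) := by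
  haveI := h.act.fin
  have e1 : Nat.card (Xs G) * (Xs G).index = Nat.card G := Subgroup.card_mul_index _
  have e4 : Nat.card ((Xs G).map (QuotientGroup.mk' (Om G))) *
      ((Xs G).map (QuotientGroup.mk' (Om G))).index = Nat.card (G ⧸ Om G) :=
    Subgroup.card_mul_index _
  have e5 : ((Xs G).map (QuotientGroup.mk' (Om G))).index = (Xs G).index :=
    Subgroup.index_map_eq (H := Xs G) (f := QuotientGroup.mk' (Om G))
      (QuotientGroup.mk'_surjective _) (by rw [QuotientGroup.ker_mk']; exact Om_le_Xs)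
  have e3 := h.card_quot
  rw [e5] at e4
  have hpos : 0 < (Xs G).index := by
    rcases Nat.eq_zero_or_pos (Xs G).index with h0 | h0
    · rw [h0, mul_zero] at e1
      have : 0 < Nat.card G := Nat.card_pos
      omega
    · exact h0
  have : 4 * Nat.card ((Xs G).map (QuotientGroup.mk' (Om G))) * (Xs G).index =
      Nat.card (Xs G) * (Xs G).index := by
    rw [e1, ← e3, ← e4]; ring
  exact Nat.eq_of_mul_eq_mul_right hpos this

end Hyp

namespace D16

variable {ξ : MulAut G}

/-- case (d1): `Xs G` is not central -/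
theorem not_central (d : D16 G ξ) : ¬ Xs G ≤ Subgroup.center G := by
  intro hXc
  haveI := d.hyp.act.fin
  have hmap := d.hyp.act.map_eq (Om G) (Om_invariant ξ)
  have hact := d.hyp.act.quot (Om G) hmap
  -- every element whose square is an involution lies in `Xs G`
  have hin : ∀ g : G, g * g ∈ Om G → g ∈ Xs G := by
    intro g hg
    obtain ⟨x, hx, hxx⟩ := d.sq_surj _ hg
    have hxc := hXc hx
    have hxc' : ∀ k : G, x⁻¹ * k = k * x⁻¹ := fun k =>
      (Subgroup.mem_center_iff.1 (inv_mem hxc) k).symm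
    have h1 : (g * x⁻¹) * (g * x⁻¹) = 1 := by
      calc (g * x⁻¹) * (g * x⁻¹) = g * (x⁻¹ * g) * x⁻¹ := by group
        _ = g * (g * x⁻¹) * x⁻¹ := by rw [hxc']
        _ = (g * g) * (x * x)⁻¹ := by group
        _ = 1 := by rw [hxx, mul_inv_cancel]
    have h2 : g * x⁻¹ ∈ Xs G := Om_le_Xs (d.hyp.mem_Om.2 h1)
    have : g = (g * x⁻¹) * x := by group
    rw [this]
    exact mul_mem h2 hx
  have hQ : Hyp (G ⧸ Om G) (T64.Fpf.quot ξ (Om G) hmap) := by
    refine ⟨hact, ?_, ?_⟩
    · intro w hw
      obtain ⟨g, rfl⟩ := QuotientGroup.mk_surjective w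
      have hg : g * g ∈ Om G := by
        rw [← QuotientGroup.mk_mul] at hw
        exact (QuotientGroup.eq_one_iff _).1 hw
      have hgc := hXc (hin g hg)
      rw [Subgroup.mem_center_iff] at hgc ⊢
      intro k
      obtain ⟨k, rfl⟩ := QuotientGroup.mk_surjective k
      show (QuotientGroup.mk k : G ⧸ Om G) * QuotientGroup.mk g = QuotientGroup.mk g * QuotientGroup.mk k
      rw [← QuotientGroup.mk_mul, ← QuotientGroup.mk_mul, hgc k]
    · rw [Om_quot_eq]
      have := d.hyp.card_map_Xs
      rw [d.h16] at this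
      omega
  have hlt : Nat.card (G ⧸ Om G) < Nat.card G := by
    have := d.hyp.card_quot
    have hpos : 0 < Nat.card (G ⧸ Om G) := Nat.card_pos
    omega
  rcases d.ih (G ⧸ Om G) _ hlt hQ with hab | ⟨_, hsp⟩
  · apply d.lemmaQ
    intro g k
    rw [← QuotientGroup.eq_one_iff]
    have : (QuotientGroup.mk ⁅g, k⁆ : G ⧸ Om G) =
        ⁅(QuotientGroup.mk g : G ⧸ Om G), QuotientGroup.mk k⁆ := by
      simp only [commutatorElement_def, QuotientGroup.mk_mul, QuotientGroup.mk_inv]
    rw [this, commutatorElement_eq_one_iff_mul_comm]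
    exact hab _ _
  · -- commutators and squares of `G` lie in `Xs G`, which is central
    have hcomap : ∀ y : G, (QuotientGroup.mk y : G ⧸ Om G) ∈ Om (G ⧸ Om G) → y ∈ Xs G := by
      intro y hy
      exact Hyp.mem_Xs_of_mk y hy.1 hy.2
    have hcX : ∀ g k : G, ⁅g, k⁆ ∈ Xs G := by
      intro g k
      apply hcomap
      have : (QuotientGroup.mk ⁅g, k⁆ : G ⧸ Om G) =
          ⁅(QuotientGroup.mk g : G ⧸ Om G), QuotientGroup.mk k⁆ := by
        simp only [commutatorElement_def, QuotientGroup.mk_mul, QuotientGroup.mk_inv]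
      rw [this]
      exact hsp.cm _ _
    have hsX : ∀ g : G, g * g ∈ Xs G := by
      intro g
      apply hcomap
      rw [QuotientGroup.mk_mul]
      exact hsp.sq _
    have hc : ∀ a b : G, ⁅a, b⁆ ∈ Subgroup.center G := fun a b => hXc (hcX a b)
    apply d.lemmaQ
    intro g k
    rw [d.hyp.mem_Om, ← T64.c2_mul_left hc]
    rw [commutatorElement_eq_one_iff_mul_comm]
    exact (Subgroup.mem_center_iff.1 (hXc (hsX g)) k).symm

end D16

end Cfsg.Agent.Lib.Helper7.R2
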