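import Mathlib
import Cfsg.Agent.Lib.Helper7.R2J

/-!
# S1237, part K: the case `|Xs G| = 16`, the centralizer of `Xs G`
-/

set_option autoImplicit false

universe u

namespace Cfsg.Agent.Lib.Helper7.R2

open scoped commutatorElement

variable {G : Type u} [Group G]

theorem pow_four_eq (y : G) : y ^ 4 = (y * y) * (y * y) := by
  rw [show (4 : ℕ) = 2 + 2 from rfl, pow_add, pow_two]

/-- the centralizer of `Xs G` -/
def Cx (G : Type u) [Group G] : Subgroup G := Subgroup.centralizer (Xs G : Set G)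

theorem mem_Cx {g : G} : g ∈ Cx G ↔ ∀ x ∈ Xs G, x * g = g * x := Subgroup.mem_centralizer_iff

instance Cx_normal : (Cx G).Normal := by
  unfold Cx; infer_instance

namespace D16

variable {ξ : MulAut G}

theorem xs_le_cx (d : D16 G ξ) : Xs G ≤ Cx G := by
  intro x hx
  rw [mem_Cx]
  intro y hy
  exact d.xs_comm y hy x hx

theorem cx_ne_top (d : D16 G ξ) : Cx G ≠ ⊤ := by
  intro htop
  apply d.not_central
  intro x hx
  rw [Subgroup.mem_center_iff]
  intro g
  have : g ∈ Cx G := by rw [htop]; trivial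
  exact (mem_Cx.1 this x hx).symm

theorem cx_inv (d : D16 G ξ) : ∀ c ∈ Cx G, ξ c ∈ Cx G := by
  intro c hc
  rw [mem_Cx] at hc ⊢
  intro x hx
  have hx' : ξ.symm x ∈ Xs G := d.hyp.act.symm_mem (Xs G) (Xs_invariant ξ) hx
  have := congrArg ξ (hc _ hx')
  simpa using this

theorem cx_inv_iff (d : D16 G ξ) : ∀ c, ξ c ∈ Cx G ↔ c ∈ Cx G :=
  d.hyp.act.inv_iff (Cx G) d.cx_inv

theorem cx_ne_bot (d : D16 G ξ) : Cx G ≠ ⊥ := by
  intro e
  apply d.hyp.Xs_ne_bot
  rw [eq_bot_iff, ← e]
  exact d.xs_le_cx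

theorem card_cx_lt (d : D16 G ξ) : Nat.card (Cx G) < Nat.card G := by
  haveI := d.hyp.act.fin
  apply lt_of_le_of_ne (Subgroup.card_le_card_group _)
  intro e
  exact d.cx_ne_top (Subgroup.eq_top_of_card_eq _ e)

/-- (C1) the centralizer of `Xs G` is abelian -/
theorem cx_comm (d : D16 G ξ) : ∀ a ∈ Cx G, ∀ b ∈ Cx G, a * b = b * a := by
  haveI := d.hyp.act.fin
  have hC := d.hyp.sub (Cx G) d.cx_inv_iff d.cx_ne_bot
  rcases d.ih (Cx G) _ d.card_cx_lt hC with hab | ⟨h64, hsp⟩
  · intro a ha b hb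
    exact congrArg Subtype.val (hab ⟨a, ha⟩ ⟨b, hb⟩)
  · exfalso
    have hcen := hsp.center_eq h64
    have hle : (Xs G).subgroupOf (Cx G) ≤ Subgroup.center (Cx G) := by
      intro x hx
      rw [Subgroup.mem_subgroupOf] at hx
      rw [Subgroup.mem_center_iff]
      intro c
      apply Subtype.ext
      exact (mem_Cx.1 c.2 _ hx).symm
    have h1 := Subgroup.card_le_of_le hle
    rw [hcen, hsp.hyp.four,
      Nat.card_congr (Subgroup.subgroupOfEquivOfLe d.xs_le_cx).toEquiv, d.h16] at h1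
    omega

/-- (C3) `Xs G` does not have index four -/
theorem index_xs_ne (d : D16 G ξ) : (Xs G).index ≠ 4 := by
  intro h4
  haveI := d.hyp.act.fin
  have hmap := d.hyp.act.map_eq (Om G) (Om_invariant ξ)
  have hact := d.hyp.act.quot (Om G) hmap
  have e5 : ((Xs G).map (QuotientGroup.mk' (Om G))).index = (Xs G).index :=
    Subgroup.index_map_eq (H := Xs G) (f := QuotientGroup.mk' (Om G))
      (QuotientGroup.mk'_surjective _) (by rw [QuotientGroup.ker_mk']; exact Om_le_Xs)
  have hle : (Xs G).map (QuotientGroup.mk' (Om G)) ≤ Subgroup.center (G ⧸ Om G) := by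
    rw [← Om_quot_eq]; exact Om_le_center
  have hidx : (Subgroup.center (G ⧸ Om G)).index ∣ 4 := by
    rw [← h4, ← e5]
    exact Subgroup.index_dvd_of_le hle
  have hab := hact.comm_of_index_center hidx
  apply d.lemmaQ
  intro g k
  rw [← QuotientGroup.eq_one_iff]
  have : (QuotientGroup.mk ⁅g, k⁆ : G ⧸ Om G) =
      ⁅(QuotientGroup.mk g : G ⧸ Om G), QuotientGroup.mk k⁆ := by
    simp only [commutatorElement_def, QuotientGroup.mk_mul, QuotientGroup.mk_inv]
  rw [this, commutatorElement_eq_one_iff_mul_comm]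
  exact hab _ _

/-- the subgroup of elements of `Cx G` of order dividing four -/
def om2 (d : D16 G ξ) : Subgroup G where
  carrier := {y | y ∈ Cx G ∧ y ^ 4 = 1}
  one_mem' := ⟨one_mem _, one_pow _⟩
  mul_mem' := by
    rintro a b ⟨ha, ha4⟩ ⟨hb, hb4⟩
    refine ⟨mul_mem ha hb, ?_⟩
    have hc : Commute a b := d.cx_comm a ha b hb
    rw [hc.mul_pow, ha4, hb4, one_mul]
  inv_mem' := by
    rintro a ⟨ha, ha4⟩
    exact ⟨inv_mem ha, by rw [inv_pow, ha4, inv_one]⟩

/-- (ii.1) the elements of order dividing four of `Cx G` lie in `Xs G` -/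
theorem mem_xs_of_pow_four (d : D16 G ξ) {y : G} (hy : y ∈ Cx G) (hy4 : (y * y) * (y * y) = 1) :
    y ∈ Xs G := by
  haveI := d.hyp.act.fin
  have hle : Xs G ≤ d.om2 := by
    intro x hx
    refine ⟨d.xs_le_cx hx, ?_⟩
    rw [pow_four_eq]
    exact Om_sq hx.1
  have hinv : ∀ x ∈ d.om2, ξ x ∈ d.om2 := by
    rintro x ⟨hx, hx4⟩
    exact ⟨d.cx_inv x hx, by rw [← map_pow, hx4, map_one]⟩
  have hne : d.om2 ≠ ⊥ := by
    intro e
    apply d.hyp.Xs_ne_bot
    rw [eq_bot_iff, ← e]
    exact hle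
  have hS := d.hyp.sub d.om2 (d.hyp.act.inv_iff _ hinv) hne
  have hcomm : ∀ a b : d.om2, a * b = b * a := by
    intro a b
    apply Subtype.ext
    exact d.cx_comm a a.2.1 b b.2.1
  have hsp : Sp d.om2 (restr ξ d.om2 (d.hyp.act.inv_iff _ hinv)) := by
    refine ⟨hS, fun x => ?_, fun x y => ?_⟩
    · refine ⟨?_, ?_⟩
      · rw [Subgroup.mem_center_iff]
        intro g
        exact hcomm _ _
      · apply Subtype.ext
        have := x.2.2
        rw [pow_four_eq] at this
        exact this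
    · have : ⁅x, y⁆ = 1 := by
        rw [commutatorElement_eq_one_iff_mul_comm]; exact hcomm x y
      rw [this]; exact one_mem _
  have hcard := hsp.card_le_of_comm hcomm
  have heq : Xs G = d.om2 := by
    apply Subgroup.eq_of_le_of_card_ge hle
    rw [d.h16]; exact hcard
  rw [heq]
  exact ⟨hy, by rw [pow_four_eq]; exact hy4⟩

end D16

end Cfsg.Agent.Lib.Helper7.R2
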