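import Mathlib
import Cfsg.Agent.Lib.Helper7.R2K

/-!
# S1237, part L: the case `|Xs G| = 16`, the centralizer of `Xs G` has index four
-/

set_option autoImplicit false

universe u

namespace Cfsg.Agent.Lib.Helper7.R2

open scoped commutatorElement

variable {G : Type u} [Group G]

/-- `g ↦ ⁅x, g⁆` as a homomorphism into `Om G`, for `x ∈ Xs G` -/
def psi {x : G} (hx : x ∈ Xs G) : G →* Om G where
  toFun g := ⟨⁅x, g⁆, hx.2 g⟩
  map_one' := by ext; simp
  map_mul' g k := by ext; exact Xs_comm_mul hx g k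

theorem psi_apply {x : G} (hx : x ∈ Xs G) (g : G) : ((psi hx g : Om G) : G) = ⁅x, g⁆ := rfl

/-- `x ↦ ⁅x, g⁆` is multiplicative on `Xs G` -/
theorem Xs_comm_mul_left {x y : G} (hy : y ∈ Xs G) (g : G) : ⁅x * y, g⁆ = ⁅x, g⁆ * ⁅y, g⁆ :=
  comm_mul_left_of (hy.2 g).1

theorem comm_Om_left {z : G} (hz : z ∈ Om G) (g : G) : ⁅z, g⁆ = 1 := by
  rw [commutatorElement_eq_one_iff_mul_comm]; exact Om_comm hz g

theorem arith_idx {n : ℕ} (hd : n ∣ 16) (hm : n ≡ 1 [MOD 3]) (h1 : n ≠ 1) : n = 4 ∨ n = 16 := by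
  have hle : n ≤ 16 := Nat.le_of_dvd (by norm_num) hd
  unfold Nat.ModEq at hm
  interval_cases n <;> simp_all

namespace D16

variable {ξ : MulAut G}

/-- an element commuting with `a` and `ξ a` centralizes `Xs G` -/
theorem mem_cx_of_comm (d : D16 G ξ) {a : G} (ha : a ∈ Xs G) (haO : a ∉ Om G) {g : G}
    (h1 : ⁅a, g⁆ = 1) (h2 : ⁅ξ a, g⁆ = 1) : g ∈ Cx G := by
  rw [mem_Cx]
  intro x hx
  obtain ⟨_, hall⟩ := d.xs_cases ha haO
  have h1' : a ∈ Subgroup.centralizer {g} := by
    rw [Subgroup.mem_centralizer_singleton_iff]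
    exact commutatorElement_eq_one_iff_mul_comm.1 h1
  have h2' : ξ a ∈ Subgroup.centralizer {g} := by
    rw [Subgroup.mem_centralizer_singleton_iff]
    exact commutatorElement_eq_one_iff_mul_comm.1 h2
  have h3 : ∀ z ∈ Om G, z ∈ Subgroup.centralizer {g} := by
    intro z hz
    rw [Subgroup.mem_centralizer_singleton_iff]
    exact Om_comm hz g
  have hx' : x ∈ Subgroup.centralizer {g} := by
    rcases hall x hx with e | e | e | e
    · exact h3 x e
    · have : x = a * (a⁻¹ * x) := by group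
      rw [this]; exact mul_mem h1' (h3 _ e)
    · have : x = ξ a * ((ξ a)⁻¹ * x) := by group
      rw [this]; exact mul_mem h2' (h3 _ e)
    · have : x = a * ξ a * ((a * ξ a)⁻¹ * x) := by group
      rw [this]; exact mul_mem (mul_mem h1' h2') (h3 _ e)
  rw [Subgroup.mem_centralizer_singleton_iff] at hx'
  exact hx'

/-- (C2) the centralizer of `Xs G` has index four -/
theorem index_cx (d : D16 G ξ) : (Cx G).index = 4 := by
  haveI := d.hyp.act.fin
  obtain ⟨a, ha, haO⟩ := d.exists_a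
  have ha' : ξ a ∈ Xs G := Xs_invariant ξ a ha
  obtain ⟨hz, hall⟩ := d.xs_cases ha haO
  let Ψ : G →* Om G × Om G := (psi ha).prod (psi ha')
  have hker : Ψ.ker = Cx G := by
    ext g
    rw [MonoidHom.mem_ker]
    constructor
    · intro hg
      have h1 : ⁅a, g⁆ = 1 := congrArg (fun p : Om G × Om G => (p.1 : G)) hg
      have h2 : ⁅ξ a, g⁆ = 1 := congrArg (fun p : Om G × Om G => (p.2 : G)) hg
      exact d.mem_cx_of_comm ha haO h1 h2
    · intro hg
      rw [mem_Cx] at hg
      apply Prod.ext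
      · apply Subtype.ext
        show ⁅a, g⁆ = 1
        rw [commutatorElement_eq_one_iff_mul_comm]; exact hg a ha
      · apply Subtype.ext
        show ⁅ξ a, g⁆ = 1
        rw [commutatorElement_eq_one_iff_mul_comm]; exact hg _ ha'
  have hidx : (Cx G).index = Nat.card Ψ.range := by rw [← hker, Subgroup.index_ker]
  have hcard16 : Nat.card (Om G × Om G) = 16 := by
    rw [Nat.card_prod, d.hyp.four]
  have hdvd : (Cx G).index ∣ 16 := by
    rw [hidx, ← hcard16]
    exact Subgroup.card_subgroup_dvd_card _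
  -- the index is `≡ 1 mod 3`
  have hmapC := d.hyp.act.map_eq (Cx G) d.cx_inv
  have hactC := d.hyp.act.quot (Cx G) hmapC
  have hmod := hactC.card_modEq ⊤ (fun _ _ => trivial)
  have hmod' : (Cx G).index ≡ 1 [MOD 3] := by
    have : Nat.card (⊤ : Subgroup (G ⧸ Cx G)) = (Cx G).index := by
      rw [Subgroup.card_top]; rfl
    rw [this] at hmod
    exact hmod
  have hne1 : (Cx G).index ≠ 1 := by
    intro h1
    exact d.cx_ne_top (Subgroup.index_eq_one.1 h1)
  have hle : (Cx G).index ≤ 16 := Nat.le_of_dvd (by norm_num) hdvd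
  have hcases : (Cx G).index = 4 ∨ (Cx G).index = 16 := arith_idx hdvd hmod' hne1
  rcases hcases with h4 | h16
  · exact h4
  · exfalso
    have htop : Ψ.range = ⊤ := by
      apply Subgroup.eq_top_of_card_eq
      rw [← hidx, h16, hcard16]
    have hsurj : (⟨⟨a * a, ha.1⟩, ⟨ξ a * ξ a, ha'.1⟩⟩ : Om G × Om G) ∈ Ψ.range := by
      rw [htop]; trivial
    obtain ⟨g, hg⟩ := hsurj
    have h1 : ⁅a, g⁆ = a * a := congrArg (fun p : Om G × Om G => (p.1 : G)) hg
    have h2 : ⁅ξ a, g⁆ = ξ a * ξ a := congrArg (fun p : Om G × Om G => (p.2 : G)) hg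
    -- the same holds for `ξ g`
    have h2' : ⁅ξ a, ξ g⁆ = ξ a * ξ a := by
      rw [← map_commutatorElement, h1, map_mul]
    have h3 : ⁅ξ (ξ a), ξ g⁆ = ξ (ξ a) * ξ (ξ a) := by
      rw [← map_commutatorElement, h2, map_mul]
    set z := (a * ξ a)⁻¹ * ξ (ξ a) with hzdef
    have hξξ : ξ (ξ a) = a * ξ a * z := by rw [hzdef]; group
    have hcomm : a * ξ a = ξ a * a := d.xs_comm a ha _ ha'
    have h1' : ⁅a, ξ g⁆ = a * a := by
      have e1 : ⁅ξ (ξ a), ξ g⁆ = ⁅a, ξ g⁆ * (ξ a * ξ a) := by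
        rw [hξξ, comm_mul_left_of (by rw [comm_Om_left hz]; exact one_mem _), comm_Om_left hz,
          mul_one, Xs_comm_mul_left ha', h2']
      have e2 : ξ (ξ a) * ξ (ξ a) = (a * a) * (ξ a * ξ a) := by
        rw [hξξ]
        have hzc := Om_comm hz
        calc a * ξ a * z * (a * ξ a * z) = a * ξ a * (z * (a * ξ a)) * z := by group
          _ = a * ξ a * ((a * ξ a) * z) * z := by rw [hzc]
          _ = a * (ξ a * a) * ξ a * (z * z) := by group
          _ = a * (a * ξ a) * ξ a * (z * z) := by rw [hcomm]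
          _ = (a * a) * (ξ a * ξ a) := by rw [Om_sq hz]; group
      rw [e1, e2] at h3
      exact mul_right_cancel h3
    have hΨ : Ψ (ξ g) = Ψ g := by
      rw [hg]
      apply Prod.ext
      · apply Subtype.ext; exact h1'
      · apply Subtype.ext; exact h2'
    have hmem : g⁻¹ * ξ g ∈ Cx G := by
      rw [← hker, MonoidHom.mem_ker, map_mul, map_inv, hΨ, inv_mul_cancel]
    have hgC : g ∈ Cx G := d.hyp.act.mem_of_lang (Cx G) d.cx_inv g hmem
    have h1'' : ⁅a, g⁆ = 1 := by
      rw [commutatorElement_eq_one_iff_mul_comm]; exact mem_Cx.1 hgC a ha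
    rw [h1] at h1''
    exact haO (d.hyp.mem_Om.2 h1'')

end D16

end Cfsg.Agent.Lib.Helper7.R2
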