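import Mathlib
import Cfsg.Agent.Lib.Helper7.R2L

/-!
# S1237, part M: the case `|Xs G| = 16`, square roots in the centralizer of `Xs G`
-/

set_option autoImplicit false

universe u

namespace Cfsg.Agent.Lib.Helper7.R2

open scoped commutatorElement

variable {G : Type u} [Group G]

namespace D16

variable {ξ : MulAut G}

theorem cx_not_le (d : D16 G ξ) : ¬ Cx G ≤ Xs G := by
  intro hle
  have : Xs G = Cx G := le_antisymm d.xs_le_cx hle
  apply d.index_xs_ne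
  rw [this]
  exact d.index_cx

theorem card_top_eq (d : D16 G ξ) : Nat.card (⊤ : Subgroup G) = 4 * Nat.card (Cx G) := by
  have h1 : Nat.card (Cx G) * (Cx G).index = Nat.card G := Subgroup.card_mul_index _
  rw [d.index_cx] at h1
  rw [Subgroup.card_top, ← h1, mul_comm]

/-- the structure of `G / Cx G` -/
theorem g_cases (d : D16 G ξ) {g : G} (hg : g ∉ Cx G) :
    (g * ξ g)⁻¹ * ξ (ξ g) ∈ Cx G ∧ g * g ∈ Cx G := by
  have h := d.hyp.act.card4_rel ⊤ (Cx G) le_top (fun _ _ => trivial) d.cx_inv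
    (fun g _ n hn => Cx_normal.conj_mem n hn g) d.card_top_eq (Subgroup.mem_top g) hg
  exact ⟨h.1, h.2.1⟩

theorem mul_xi_not_mem (d : D16 G ξ) {g : G} (hg : g ∉ Cx G) : g * ξ g ∉ Cx G := by
  intro h
  apply hg
  apply d.hyp.act.mem_of_lang (Cx G) d.cx_inv g
  have h2 := (d.g_cases hg).2
  have : g⁻¹ * ξ g = (g * g)⁻¹ * (g * ξ g) := by group
  rw [this]
  exact mul_mem (inv_mem h2) h

/-- the subgroup of squares of the abelian group `Cx G` -/
def sqC (d : D16 G ξ) : Subgroup G where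
  carrier := {x | ∃ y ∈ Cx G, y * y = x}
  one_mem' := ⟨1, one_mem _, by simp⟩
  mul_mem' := by
    rintro _ _ ⟨y, hy, rfl⟩ ⟨y', hy', rfl⟩
    refine ⟨y * y', mul_mem hy hy', ?_⟩
    have hc := d.cx_comm y' hy' y hy
    calc y * y' * (y * y') = y * (y' * y) * y' := by group
      _ = y * (y * y') * y' := by rw [hc]
      _ = y * y * (y' * y') := by group
  inv_mem' := by
    rintro _ ⟨y, hy, rfl⟩
    exact ⟨y⁻¹, inv_mem hy, by group⟩

theorem exists_y0 (d : D16 G ξ) : ∃ y₀ ∈ Cx G, y₀ ∉ Xs G ∧ y₀ * y₀ ∈ Xs G := by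
  classical
  obtain ⟨y, hyC, hyX⟩ := SetLike.not_le_iff_exists.1 d.cx_not_le
  have hex : ∃ i : ℕ, y ^ (2 ^ i) ∈ Xs G := by
    obtain ⟨k, hk⟩ := d.hyp.act.two y
    exact ⟨k, by rw [hk]; exact one_mem _⟩
  have hspec := Nat.find_spec hex
  have hpos : Nat.find hex ≠ 0 := by
    intro h0
    rw [h0] at hspec
    apply hyX
    simpa using hspec
  obtain ⟨j, hj⟩ := Nat.exists_eq_succ_of_ne_zero hpos
  refine ⟨y ^ 2 ^ j, Subgroup.pow_mem _ hyC _, ?_, ?_⟩
  · intro h1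
    exact Nat.find_min hex (m := j) (by omega) h1
  · rw [← pow_add, ← two_mul, ← pow_succ', ← Nat.succ_eq_add_one, ← hj]
    exact hspec

/-- (ii.2) every element of `Xs G` is a square in `Cx G` -/
theorem exists_sqrt (d : D16 G ξ) : ∀ x ∈ Xs G, ∃ y ∈ Cx G, y * y = x := by
  haveI := d.hyp.act.fin
  obtain ⟨y₀, hy₀C, hy₀X, hy₀⟩ := d.exists_y0
  have hwO : y₀ * y₀ ∉ Om G := by
    intro hO
    exact hy₀X (d.mem_xs_of_pow_four hy₀C (Om_sq hO))
  have hwI : y₀ * y₀ ∈ d.sqC ⊓ Xs G := Subgroup.mem_inf.2 ⟨⟨y₀, hy₀C, rfl⟩, hy₀⟩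
  have hinv : ∀ x ∈ d.sqC ⊓ Xs G, ξ x ∈ d.sqC ⊓ Xs G := by
    intro x hx
    obtain ⟨⟨y, hy, rfl⟩, hx2⟩ := Subgroup.mem_inf.1 hx
    exact Subgroup.mem_inf.2 ⟨⟨ξ y, d.cx_inv y hy, by rw [map_mul]⟩, Xs_invariant ξ _ hx2⟩
  have hne : d.sqC ⊓ Xs G ≠ ⊥ := by
    intro e
    rw [e, Subgroup.mem_bot] at hwI
    apply hwO
    rw [hwI]; exact one_mem _
  have hOm := d.hyp.Om_le _ hinv hne
  have hdvd : Nat.card (d.sqC ⊓ Xs G : Subgroup G) ∣ 16 := by
    rw [← d.h16]; exact Subgroup.card_dvd_of_le inf_le_right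
  have hmod := d.hyp.act.card_modEq _ hinv
  have hne1 : Nat.card (d.sqC ⊓ Xs G : Subgroup G) ≠ 1 := by
    intro h1
    exact hne (Subgroup.eq_bot_of_card_eq _ h1)
  rcases arith_idx hdvd hmod hne1 with h4 | h16
  · exfalso
    have : Om G = d.sqC ⊓ Xs G := by
      apply Subgroup.eq_of_le_of_card_ge hOm
      rw [h4, d.hyp.four]
    rw [← this] at hwI
    exact hwO hwI
  · have : d.sqC ⊓ Xs G = Xs G := by
      apply Subgroup.eq_of_le_of_card_ge inf_le_right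
      rw [h16, d.h16]
    intro x hx
    rw [← this] at hx
    exact (Subgroup.mem_inf.1 hx).1

/-- (ii.3) -/
theorem exists_t (d : D16 G ξ) {g : G} (hgg : g * g ∈ Cx G) {x : G} (hx : x ∈ Xs G) :
    ∃ t ∈ Xs G, t * t = ⁅x, g⁆ ∧ ⁅t, g⁆ = t * t := by
  obtain ⟨y, hy, rfl⟩ := d.exists_sqrt x hx
  have hu : g * y⁻¹ * g⁻¹ ∈ Cx G := Cx_normal.conj_mem _ (inv_mem hy) g
  set u := g * y⁻¹ * g⁻¹ with hudef
  have ht : ⁅y, g⁆ = y * u := by
    simp only [commutatorElement_def, hudef]; group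
  have hyu : u * y = y * u := d.cx_comm u hu y hy
  have hgy : (g * g) * y = y * (g * g) := d.cx_comm _ hgg y hy
  have htC : y * u ∈ Cx G := mul_mem hy hu
  have htt : (y * u) * (y * u) = ⁅y * y, g⁆ := by
    calc (y * u) * (y * u) = y * (u * y) * u := by group
      _ = y * (y * u) * u := by rw [hyu]
      _ = (y * y) * (u * u) := by group
      _ = ⁅y * y, g⁆ := by simp only [commutatorElement_def, hudef]; group
  have hO : ⁅y * y, g⁆ ∈ Om G := hx.2 g
  have htX : y * u ∈ Xs G := by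
    apply d.mem_xs_of_pow_four htC
    rw [htt]; exact Om_sq hO
  refine ⟨y * u, htX, htt, ?_⟩
  have h1 : g * (y * u)⁻¹ * g⁻¹ = y * u := by
    have e1 : g * (y * u)⁻¹ * g⁻¹ = ((g * g) * y * (g * g)⁻¹) * u := by
      simp only [hudef]; group
    rw [e1, hgy]; group
  calc ⁅y * u, g⁆ = (y * u) * (g * (y * u)⁻¹ * g⁻¹) := by
        simp only [commutatorElement_def]; group
    _ = (y * u) * (y * u) := by rw [h1]

end D16

end Cfsg.Agent.Lib.Helper7.R2
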