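import Mathlib
import Cfsg.Agent.Lib.Helper7.R2M

/-!
# S1237, part N: the case `|Xs G| = 16` is impossible
-/

set_option autoImplicit false

universe u

namespace Cfsg.Agent.Lib.Helper7.R2

open scoped commutatorElement

variable {G : Type u} [Group G]

namespace D16

variable {ξ : MulAut G}

/-- multiplying by an involution changes neither the commutator nor the square -/
theorem mul_om (_d : D16 G ξ) {x z : G} (hz : z ∈ Om G) (k : G) :
    ⁅x * z, k⁆ = ⁅x, k⁆ ∧ (x * z) * (x * z) = x * x := by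
  constructor
  · rw [Xs_comm_mul_left (Om_le_Xs hz), comm_Om_left hz, mul_one]
  · calc (x * z) * (x * z) = x * (z * x) * z := by group
      _ = x * (x * z) * z := by rw [Om_comm hz x]
      _ = x * x * (z * z) := by group
      _ = x * x := by rw [Om_sq hz, mul_one]

theorem mul_xs (d : D16 G ξ) {x y : G} (hx : x ∈ Xs G) (hy : y ∈ Xs G) (k : G) :
    ⁅x * y, k⁆ = ⁅x, k⁆ * ⁅y, k⁆ ∧ (x * y) * (x * y) = (x * x) * (y * y) := by
  constructor
  · exact Xs_comm_mul_left hy k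
  · calc (x * y) * (x * y) = x * (y * x) * y := by group
      _ = x * (x * y) * y := by rw [d.xs_comm y hy x hx]
      _ = (x * x) * (y * y) := by group

/-- if `k` inverts `t` and `ξ t` then it inverts all of `Xs G` -/
theorem inv_all (d : D16 G ξ) {t : G} (ht : t ∈ Xs G) (htO : t ∉ Om G) {k : G}
    (h1 : ⁅t, k⁆ = t * t) (h2 : ⁅ξ t, k⁆ = ξ t * ξ t) : ∀ x ∈ Xs G, ⁅x, k⁆ = x * x := by
  have ht' : ξ t ∈ Xs G := Xs_invariant ξ t ht
  obtain ⟨_, hall⟩ := d.xs_cases ht htO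
  intro x hx
  rcases hall x hx with e | e | e | e
  · rw [comm_Om_left e, Om_sq e]
  · have hx' : x = t * (t⁻¹ * x) := by group
    rw [hx', (d.mul_om e k).1, (d.mul_om e k).2, h1]
  · have hx' : x = ξ t * ((ξ t)⁻¹ * x) := by group
    rw [hx', (d.mul_om e k).1, (d.mul_om e k).2, h2]
  · have hx' : x = t * ξ t * ((t * ξ t)⁻¹ * x) := by group
    rw [hx', (d.mul_om e k).1, (d.mul_om e k).2, (d.mul_xs ht ht' k).1, (d.mul_xs ht ht' k).2,
      h1, h2]

/-- no element outside `Cx G` inverts all of `Xs G` -/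
theorem not_inv_all (d : D16 G ξ) {k : G} (hk : k ∉ Cx G) : ¬ ∀ x ∈ Xs G, ⁅x, k⁆ = x * x := by
  intro hall
  apply d.mul_xi_not_mem hk
  rw [mem_Cx]
  intro x hx
  have hx' : ξ.symm x ∈ Xs G := d.hyp.act.symm_mem (Xs G) (Xs_invariant ξ) hx
  have h2 : ⁅x, ξ k⁆ = x * x := by
    have := congrArg ξ (hall _ hx')
    rw [map_commutatorElement, map_mul] at this
    simpa using this
  have h3 : ⁅x, k * ξ k⁆ = 1 := by
    rw [Xs_comm_mul hx, hall x hx, h2, Om_sq hx.1]
  exact commutatorElement_eq_one_iff_mul_comm.1 h3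

/-- Steps A and B -/
theorem exists_tk (d : D16 G ξ) {k : G} (hk : k ∉ Cx G) :
    ∃ t ∈ Xs G, t ∉ Om G ∧ ⁅t, k⁆ = t * t ∧ ∀ x ∈ Xs G, ⁅x, k⁆ = 1 ∨ ⁅x, k⁆ = t * t := by
  have hkk := (d.g_cases hk).2
  have hex : ∃ x ∈ Xs G, ⁅x, k⁆ ≠ 1 := by
    by_contra hcon
    push_neg at hcon
    apply hk
    rw [mem_Cx]
    intro x hx
    exact commutatorElement_eq_one_iff_mul_comm.1 (hcon x hx)
  obtain ⟨x, hx, hxk⟩ := hex
  obtain ⟨t, ht, htt, htk⟩ := d.exists_t hkk hx
  have htO : t ∉ Om G := by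
    intro hO
    apply hxk
    rw [← htt, Om_sq hO]
  have ht' : ξ t ∈ Xs G := Xs_invariant ξ t ht
  refine ⟨t, ht, htO, htk, ?_⟩
  intro x' hx'
  by_cases h1 : ⁅x', k⁆ = 1
  · left; exact h1
  · right
    obtain ⟨s, hs, hss, hsk⟩ := d.exists_t hkk hx'
    rw [← hss]
    obtain ⟨_, hall⟩ := d.xs_cases ht htO
    rcases hall s hs with e | e | e | e
    · exfalso
      apply h1
      rw [← hss, Om_sq e]
    · have hs' : s = t * (t⁻¹ * s) := by group
      rw [hs', (d.mul_om e k).2]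
    · exfalso
      apply d.not_inv_all hk
      apply d.inv_all ht htO htk
      have hs' : s = ξ t * ((ξ t)⁻¹ * s) := by group
      rw [hs', (d.mul_om e k).1, (d.mul_om e k).2] at hsk
      exact hsk
    · exfalso
      apply d.not_inv_all hk
      apply d.inv_all ht htO htk
      have hs' : s = t * ξ t * ((t * ξ t)⁻¹ * s) := by group
      rw [hs', (d.mul_om e k).1, (d.mul_om e k).2, (d.mul_xs ht ht' k).1, (d.mul_xs ht ht' k).2,
        htk] at hsk
      exact mul_left_cancel hsk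

/-- case (d) is impossible -/
theorem false_of (d : D16 G ξ) : False := by
  obtain ⟨g, -, hg⟩ := SetLike.exists_of_lt (lt_top_iff_ne_top.2 d.cx_ne_top)
  obtain ⟨t, ht, htO, htg, hallg⟩ := d.exists_tk hg
  have hg'' : g * ξ g ∉ Cx G := d.mul_xi_not_mem hg
  obtain ⟨t'', _, _, _, hall''⟩ := d.exists_tk hg''
  have ht' : ξ t ∈ Xs G := Xs_invariant ξ t ht
  have hA : t * t ∈ Om G := ht.1
  have hA' : ξ t * ξ t ∈ Om G := ht'.1
  have hA1 : t * t ≠ 1 := fun e => htO (d.hyp.mem_Om.2 e)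
  have hA'1 : ξ t * ξ t ≠ 1 := by
    rw [← map_mul]; exact d.hyp.act.ne_one hA1
  have hAA' : t * t ≠ ξ t * ξ t := by
    intro e
    apply hA1
    apply d.hyp.act.fpf
    rw [map_mul]; exact e.symm
  -- equivariance
  have hE1 : ⁅ξ t, ξ g⁆ = ξ t * ξ t := by
    rw [← map_commutatorElement, htg, map_mul]
  have hE2 : ∀ x ∈ Xs G, ⁅x, ξ g⁆ = 1 ∨ ⁅x, ξ g⁆ = ξ t * ξ t := by
    intro x hx
    have hx' : ξ.symm x ∈ Xs G := d.hyp.act.symm_mem (Xs G) (Xs_invariant ξ) hx
    have e : ⁅x, ξ g⁆ = ξ ⁅ξ.symm x, g⁆ := by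
      rw [map_commutatorElement]; simp
    rcases hallg _ hx' with h | h
    · left; rw [e, h, map_one]
    · right; rw [e, h, map_mul]
  have hc1 : ⁅t, g * ξ g⁆ = t * t * ⁅t, ξ g⁆ := by rw [Xs_comm_mul ht, htg]
  have hc2 : ⁅ξ t, g * ξ g⁆ = ⁅ξ t, g⁆ * (ξ t * ξ t) := by rw [Xs_comm_mul ht', hE1]
  have hB1 := hall'' t ht
  have hB2 := hall'' (ξ t) ht'
  rw [hc1] at hB1
  rw [hc2] at hB2
  have hp : ⁅ξ t, g⁆ = t * t ∧ ⁅t, ξ g⁆ = ξ t * ξ t := by
    rcases hallg (ξ t) ht' with hp | hp <;> rcases hE2 t ht with hq | hq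
    · exfalso
      rw [hp, one_mul] at hB2
      rw [hq, mul_one] at hB1
      rcases hB1 with h | h
      · exact hA1 h
      · rcases hB2 with h' | h'
        · exact hA'1 h'
        · exact hAA' (h.trans h'.symm)
    · exfalso
      rw [hp, one_mul] at hB2
      rw [hq] at hB1
      rcases hB2 with h' | h'
      · exact hA'1 h'
      · rcases hB1 with h | h
        · apply hAA'
          have := eq_inv_of_mul_eq_one_left h
          rw [this, Om_inv_eq hA']
        · apply hA1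
          have := h.trans h'.symm
          exact mul_right_cancel (this.trans (one_mul _).symm)
    · exfalso
      rw [hp] at hB2
      rw [hq, mul_one] at hB1
      rcases hB1 with h | h
      · exact hA1 h
      · rcases hB2 with h' | h'
        · apply hAA'
          have := eq_inv_of_mul_eq_one_left h'
          rw [this, Om_inv_eq hA']
        · apply hA'1
          have := h'.trans h.symm
          exact mul_left_cancel (this.trans (mul_one _).symm)
    · exact ⟨hp, hq⟩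
  obtain ⟨hp, hq⟩ := hp
  -- now `⁅t * ξ t, g⁆ = 1`
  have h1 : ⁅t * ξ t, g⁆ = 1 := by
    rw [Xs_comm_mul_left ht', htg, hp, Om_sq hA]
  have h2 : ⁅ξ (t * ξ t), ξ g⁆ = 1 := by
    rw [← map_commutatorElement, h1, map_one]
  obtain ⟨hz, _⟩ := d.xs_cases ht htO
  set z := (t * ξ t)⁻¹ * ξ (ξ t) with hzdef
  have hξξ : ξ (ξ t) = t * ξ t * z := by rw [hzdef]; group
  have h3 : ⁅ξ (t * ξ t), ξ g⁆ = ξ t * ξ t := by
    rw [map_mul, hξξ, Xs_comm_mul_left (mul_mem (mul_mem ht ht') (Om_le_Xs hz)), hE1,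
      (d.mul_om hz _).1, Xs_comm_mul_left ht', hq, hE1, Om_sq hA', mul_one]
  rw [h3] at h2
  exact hA'1 h2

end D16

end Cfsg.Agent.Lib.Helper7.R2
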