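import Mathlib
import Cfsg.Agent.Lib.Helper7.R2N

/-!
# S1237, part O: Theorem M

A finite `2`-group whose involutions form a central subgroup of order four, with an automorphism of
`3`-power order fixing no involution, is abelian or of order 64 with all squares and commutators
involutions.
-/

set_option autoImplicit false

universe u

namespace Cfsg.Agent.Lib.Helper7.R2

open scoped commutatorElement

theorem thmM_aux : ∀ n : ℕ, ∀ (G : Type u) [Group G] (ξ : MulAut G), Nat.card G = n → Hyp G ξ →
    (∀ a b : G, a * b = b * a) ∨ (Nat.card G = 64 ∧ Sp G ξ) := by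
  intro n
  induction n using Nat.strong_induction_on with
  | _ n ih =>
    intro G _ ξ hn h
    by_cases hna : ∀ a b : G, a * b = b * a
    · left; exact hna
    · right
      rcases h.card_Xs with h4 | h16 | h64
      · exact absurd h4 (h.card_Xs_ne hna)
      · exfalso
        have d : D16 G ξ :=
          ⟨h, hna, h16, fun K _ η hlt hK => ih (Nat.card K) (hn ▸ hlt) K η rfl hK⟩
        exact d.false_of
      · exact h.sp_of_card_Xs h64

/-- **Theorem M** -/
theorem thmM {G : Type u} [Group G] {ξ : MulAut G} (h : Hyp G ξ) :
    (∀ a b : G, a * b = b * a) ∨ (Nat.card G = 64 ∧ Sp G ξ) :=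
  thmM_aux (Nat.card G) G ξ rfl h

end Cfsg.Agent.Lib.Helper7.R2
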