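import Mathlib
import Cfsg.Agent.Lib.Helper7.R2O

/-!
# S1237, part P: the abelian case — the group is homocyclic of rank two
-/

set_option autoImplicit false

universe u

namespace Cfsg.Agent.Lib.Helper7.R2

open scoped commutatorElement

/-- an abelian `2`-group with at most four solutions of `x² = 1` and exponent dividing `2ⁿ` has order
at most `4ⁿ` -/
theorem card_le_of_exp : ∀ n : ℕ, ∀ (B : Type u) [Group B] [Finite B], (∀ a b : B, a * b = b * a) →
    Nat.card {x : B // x * x = 1} ≤ 4 → (∀ x : B, x ^ (2 ^ n) = 1) → Nat.card B ≤ 4 ^ n := by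
  intro n
  induction n with
  | zero =>
    intro B _ _ _ _ hexp
    have : Subsingleton B := by
      constructor
      intro x y
      have hx := hexp x
      have hy := hexp y
      simp at hx hy
      rw [hx, hy]
    rw [pow_zero]
    exact Finite.card_le_one_iff_subsingleton.2 this
  | succ n ih =>
    intro B _ _ hc h4 hexp
    let f : B →* B :=
      { toFun := fun x => x * x
        map_one' := by simp
        map_mul' := fun a b => by
          calc a * b * (a * b) = a * (b * a) * b := by group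
            _ = a * (a * b) * b := by rw [hc b a]
            _ = a * a * (b * b) := by group }
    have hfx : ∀ x, f x = x * x := fun x => rfl
    have hker : Nat.card f.ker ≤ 4 := by
      refine le_trans (le_of_eq ?_) h4
      exact Nat.card_congr (Equiv.subtypeEquivRight (fun x => by rw [MonoidHom.mem_ker, hfx]))
    have hrc : ∀ a b : f.range, a * b = b * a := fun a b => Subtype.ext (hc _ _)
    have hr4 : Nat.card {y : f.range // y * y = 1} ≤ 4 := by
      refine le_trans ?_ h4
      apply Nat.card_le_card_of_injective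
        (fun y : {y : f.range // y * y = 1} =>
          (⟨((y : f.range) : B), congrArg Subtype.val y.2⟩ : {x : B // x * x = 1}))
      intro y y' hyy'
      apply Subtype.ext
      apply Subtype.ext
      have : (⟨((y : f.range) : B), congrArg Subtype.val y.2⟩ : {x : B // x * x = 1}) =
          ⟨((y' : f.range) : B), congrArg Subtype.val y'.2⟩ := hyy'
      exact Subtype.mk.inj this
    have hrexp : ∀ y : f.range, y ^ (2 ^ n) = 1 := by
      rintro ⟨_, x, rfl⟩
      apply Subtype.ext
      show (f x) ^ (2 ^ n) = 1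
      rw [hfx, ← pow_two, ← pow_mul, ← pow_succ']
      exact hexp x
    have hr := ih f.range hrc hr4 hrexp
    have h1 : Nat.card f.ker * f.ker.index = Nat.card B := Subgroup.card_mul_index _
    rw [Subgroup.index_ker] at h1
    rw [← h1, pow_succ, mul_comm]
    exact Nat.mul_le_mul hr hker

namespace Hyp

variable {G : Type u} [Group G] {ξ : MulAut G}

/-- two cyclic subgroups exchanged by `ξ` meet trivially -/
theorem zpowers_disjoint (h : Hyp G ξ) (a : G) {x : G} (hxa : x ∈ Subgroup.zpowers a)
    (hxb : x ∈ Subgroup.zpowers (ξ a)) : x = 1 := by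
  classical
  haveI := h.act.fin
  by_contra hx1
  obtain ⟨j, hj1, hj2⟩ := exists_pow_invol h.act.two hx1
  set w := x ^ 2 ^ j with hw
  have hwa : w ∈ Subgroup.zpowers a := Subgroup.pow_mem _ hxa _
  have hwb : w ∈ Subgroup.zpowers (ξ a) := Subgroup.pow_mem _ hxb _
  have hξw : ξ w ∈ Subgroup.zpowers (ξ a) := by
    obtain ⟨k, hk⟩ := Subgroup.mem_zpowers_iff.1 hwa
    rw [← hk, map_zpow]
    exact Subgroup.zpow_mem_zpowers _ _
  have hne : ξ w ≠ w := fun e => hj1 (h.act.fpf w e)
  have hξ1 : ξ w ≠ 1 := h.act.ne_one hj1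
  have hξ2 : ξ w * ξ w = 1 := by rw [← map_mul, hj2, map_one]
  haveI : Fintype (Subgroup.zpowers (ξ a)) := Fintype.ofFinite _
  have hle := IsCyclic.card_pow_eq_one_le (α := Subgroup.zpowers (ξ a)) (n := 2) (by norm_num)
  have hsub : ({1, ⟨w, hwb⟩, ⟨ξ w, hξw⟩} : Finset (Subgroup.zpowers (ξ a))) ⊆
      Finset.univ.filter (fun y : Subgroup.zpowers (ξ a) => y ^ 2 = 1) := by
    intro y hy
    simp only [Finset.mem_insert, Finset.mem_singleton] at hy
    simp only [Finset.mem_filter, Finset.mem_univ, true_and]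
    rcases hy with rfl | rfl | rfl
    · simp
    · apply Subtype.ext; rw [pow_two]; exact hj2
    · apply Subtype.ext; rw [pow_two]; exact hξ2
  have hcard : ({1, ⟨w, hwb⟩, ⟨ξ w, hξw⟩} : Finset (Subgroup.zpowers (ξ a))).card = 3 := by
    rw [Finset.card_insert_of_notMem, Finset.card_insert_of_notMem, Finset.card_singleton]
    · simp only [Finset.mem_singleton, Subtype.mk.injEq]
      exact fun e => hne e.symm
    · simp only [Finset.mem_insert, Finset.mem_singleton]
      rintro (e | e)
      · exact hj1 (congrArg Subtype.val e).symm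
      · exact hξ1 (congrArg Subtype.val e).symm
  have := Finset.card_le_card hsub
  omega

/-- **the abelian case** -/
theorem homocyclic (h : Hyp G ξ) (hc : ∀ a b : G, a * b = b * a) :
    ∃ n : ℕ, 1 ≤ n ∧ Nonempty (G ≃* Multiplicative (ZMod (2 ^ n) × ZMod (2 ^ n))) := by
  haveI := h.act.fin
  haveI : Fact (Nat.Prime 2) := ⟨Nat.prime_two⟩
  obtain ⟨a, hamax⟩ := Finite.exists_max (fun x : G => orderOf x)
  obtain ⟨n, hn⟩ := (IsPGroup.iff_orderOf.1 h.act.two) a
  have hexp : ∀ x : G, x ^ (2 ^ n) = 1 := by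
    intro x
    obtain ⟨m, hm⟩ := (IsPGroup.iff_orderOf.1 h.act.two) x
    have hle : 2 ^ m ≤ 2 ^ n := by
      rw [← hm, ← hn]; exact hamax x
    have hmn : m ≤ n := (Nat.pow_le_pow_iff_right (by norm_num)).1 hle
    rw [← orderOf_dvd_iff_pow_eq_one, hm]
    exact pow_dvd_pow 2 hmn
  have hn1 : 1 ≤ n := by
    by_contra hcon
    have hn0 : n = 0 := by omega
    obtain ⟨z, _, hz1⟩ := h.exists_ne_one
    apply hz1
    have := hexp z
    rw [hn0] at this
    simpa using this
  refine ⟨n, hn1, ?_⟩
  have hb : orderOf (ξ a) = 2 ^ n := by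
    rw [← hn]
    exact MulEquiv.orderOf_eq ξ a
  haveI : NeZero (2 ^ n) := ⟨by positivity⟩
  have hpa : ∀ m : ℕ, a ^ (m % 2 ^ n) = a ^ m := by
    intro m; rw [← hn]; exact pow_mod_orderOf a m
  have hpb : ∀ m : ℕ, (ξ a) ^ (m % 2 ^ n) = (ξ a) ^ m := by
    intro m; rw [← hb]; exact pow_mod_orderOf (ξ a) m
  let Φ : Multiplicative (ZMod (2 ^ n) × ZMod (2 ^ n)) →* G :=
    MonoidHom.mk'
      (fun p => a ^ (Multiplicative.toAdd p).1.val * (ξ a) ^ (Multiplicative.toAdd p).2.val)
      (by
        intro p q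
        show a ^ (Multiplicative.toAdd p + Multiplicative.toAdd q).1.val *
            (ξ a) ^ (Multiplicative.toAdd p + Multiplicative.toAdd q).2.val = _
        rw [Prod.fst_add, Prod.snd_add, ZMod.val_add, ZMod.val_add, hpa, hpb, pow_add, pow_add]
        generalize a ^ (Multiplicative.toAdd p).1.val = x1
        generalize a ^ (Multiplicative.toAdd q).1.val = x2
        generalize (ξ a) ^ (Multiplicative.toAdd p).2.val = y1
        generalize (ξ a) ^ (Multiplicative.toAdd q).2.val = y2
        calc x1 * x2 * (y1 * y2) = x1 * (x2 * y1) * y2 := by group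
          _ = x1 * (y1 * x2) * y2 := by rw [hc x2 y1]
          _ = x1 * y1 * (x2 * y2) := by group)
  have hΦ : ∀ p, Φ p =
      a ^ (Multiplicative.toAdd p).1.val * (ξ a) ^ (Multiplicative.toAdd p).2.val := fun p => rfl
  have hinj : Function.Injective Φ := by
    rw [injective_iff_map_eq_one]
    intro p hp
    rw [hΦ] at hp
    have e1 : a ^ (Multiplicative.toAdd p).1.val = ((ξ a) ^ (Multiplicative.toAdd p).2.val)⁻¹ :=
      eq_inv_of_mul_eq_one_left hp
    have h1 : a ^ (Multiplicative.toAdd p).1.val = 1 := by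
      apply h.zpowers_disjoint a (Subgroup.pow_mem _ (Subgroup.mem_zpowers a) _)
      rw [e1]
      exact inv_mem (Subgroup.pow_mem _ (Subgroup.mem_zpowers _) _)
    have h2 : (ξ a) ^ (Multiplicative.toAdd p).2.val = 1 := by
      rw [h1, one_mul] at hp
      exact hp
    have z1 : (Multiplicative.toAdd p).1 = 0 := by
      rw [← orderOf_dvd_iff_pow_eq_one, hn] at h1
      have hlt := ZMod.val_lt (Multiplicative.toAdd p).1
      have := Nat.eq_zero_of_dvd_of_lt h1 hlt
      exact (ZMod.val_eq_zero _).1 this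
    have z2 : (Multiplicative.toAdd p).2 = 0 := by
      rw [← orderOf_dvd_iff_pow_eq_one, hb] at h2
      have hlt := ZMod.val_lt (Multiplicative.toAdd p).2
      have := Nat.eq_zero_of_dvd_of_lt h2 hlt
      exact (ZMod.val_eq_zero _).1 this
    have : Multiplicative.toAdd p = 0 := Prod.ext z1 z2
    exact this
  have hcardS : Nat.card (Multiplicative (ZMod (2 ^ n) × ZMod (2 ^ n))) = 4 ^ n := by
    have : (4 : ℕ) ^ n = 2 ^ n * 2 ^ n := by
      rw [← mul_pow]; norm_num
    rw [this]
    simp [Nat.card_eq_fintype_card, ZMod.card]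
  have h4 : Nat.card {x : G // x * x = 1} ≤ 4 := by
    rw [← h.four]
    exact le_of_eq (Nat.card_congr (Equiv.subtypeEquivRight (fun x => h.mem_Om.symm)))
  have hle : Nat.card G ≤ 4 ^ n := card_le_of_exp n G hc h4 hexp
  have hge : 4 ^ n ≤ Nat.card G := by
    rw [← hcardS]
    exact Nat.card_le_card_of_injective Φ hinj
  have hbij : Function.Bijective Φ :=
    (Nat.bijective_iff_injective_and_card Φ).2 ⟨hinj, by rw [hcardS]; omega⟩
  exact ⟨(MulEquiv.ofBijective Φ hbij).symm⟩

end Hyp

end Cfsg.Agent.Lib.Helper7.R2
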