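import Mathlib
import Cfsg.Prelude.Def_CaseTheorems
import Cfsg.Agent.Lib.Helper7.R2P

/-!
# S1237, part Q: Step 0 — from the hypotheses of the statement to `Hyp`
-/

set_option autoImplicit false

universe u

namespace Cfsg.Agent.Lib.Helper7.R2

open scoped commutatorElement

variable {T : Type u} [Group T]

/-- the orbit structure of `φ` on the three involutions -/
theorem three_dvd_of_fix [Finite T] (φ : MulAut T)
    (hcen : ∀ x : T, x * x = 1 → x ∈ Subgroup.center T) (h4 : Nat.card (Om T) = 4)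
    (htrans : ∀ s t : T, orderOf s = 2 → orderOf t = 2 → ∃ k : ℕ, (φ ^ k) s = t)
    {s : T} (hs1 : s ≠ 1) (hs2 : s * s = 1) {m : ℕ} (hm : (φ ^ m) s = s) : 3 ∣ m := by
  classical
  haveI : Fact (Nat.Prime 2) := ⟨Nat.prime_two⟩
  haveI : Fintype (Om T) := Fintype.ofFinite _
  have hO : ∀ x : T, x * x = 1 → x ∈ Om T := fun x hx => ⟨hcen x hx, hx⟩
  have hord : ∀ x : T, x ≠ 1 → x * x = 1 → orderOf x = 2 := by
    intro x hx1 hx2
    exact orderOf_eq_prime (by rw [pow_two]; exact hx2) hx1
  have hcardU : (Finset.univ : Finset (Om T)).card = 4 := by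
    rw [Finset.card_univ, ← Nat.card_eq_fintype_card, h4]
  -- every involution is in the orbit of `s`
  have horb : ∀ x : T, x ≠ 1 → x * x = 1 → ∃ k : ℕ, (φ ^ k) s = x := fun x hx1 hx2 =>
    htrans s x (hord s hs1 hs2) (hord x hx1 hx2)
  have hφ2 : ∀ x : T, x * x = 1 → φ x * φ x = 1 := by
    intro x hx; rw [← map_mul, hx, map_one]
  have hφ1 : ∀ x : T, x ≠ 1 → φ x ≠ 1 := by
    intro x hx e
    apply hx
    have : φ x = φ 1 := by rw [e, map_one]
    exact φ.injective this
  -- a set of involutions closed under `φ` and containing `s` contains all involutions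
  have hclosed : ∀ P : T → Prop, P s → (∀ x, P x → P (φ x)) → ∀ x : T, x ≠ 1 → x * x = 1 → P x := by
    intro P hPs hPφ x hx1 hx2
    obtain ⟨k, hk⟩ := horb x hx1 hx2
    rw [← hk]
    clear hk
    induction k with
    | zero => simpa using hPs
    | succ k ih => rw [pow_succ', MulAut.mul_apply]; exact hPφ _ ih
  set t := φ s with ht
  set r := φ t with hr
  have ht1 : t ≠ 1 := hφ1 s hs1
  have ht2 : t * t = 1 := hφ2 s hs2
  have hr1 : r ≠ 1 := hφ1 t ht1
  have hr2 : r * r = 1 := hφ2 t ht2
  -- `φ s ≠ s`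
  have hts : t ≠ s := by
    intro e
    have hall := hclosed (fun x => x = s) rfl (fun x hx => by rw [hx]; exact e)
    -- then `Om T ⊆ {1, s}`
    have hsub : (Finset.univ : Finset (Om T)) ⊆ {1, ⟨s, hO s hs2⟩} := by
      intro x _
      by_cases hx1 : (x : T) = 1
      · simp only [Finset.mem_insert, Finset.mem_singleton]
        left; exact Subtype.ext hx1
      · simp only [Finset.mem_insert, Finset.mem_singleton]
        right; exact Subtype.ext (hall x hx1 x.2.2)
    have := Finset.card_le_card hsub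
    have h2 : ({1, ⟨s, hO s hs2⟩} : Finset (Om T)).card ≤ 2 := Finset.card_le_two
    omega
  have hrt : r ≠ t := fun e => hts (φ.injective e)
  -- `φ (φ s) ≠ s`
  have hrs : r ≠ s := by
    intro e
    have hall := hclosed (fun x => x = s ∨ x = t) (Or.inl rfl) (fun x hx => by
      rcases hx with rfl | rfl
      · right; rfl
      · left; exact e)
    have hsub : (Finset.univ : Finset (Om T)) ⊆ {1, ⟨s, hO s hs2⟩, ⟨t, hO t ht2⟩} := by
      intro x _
      simp only [Finset.mem_insert, Finset.mem_singleton]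
      by_cases hx1 : (x : T) = 1
      · left; exact Subtype.ext hx1
      · rcases hall x hx1 x.2.2 with e' | e'
        · right; left; exact Subtype.ext e'
        · right; right; exact Subtype.ext e'
    have := Finset.card_le_card hsub
    have h2 : ({1, ⟨s, hO s hs2⟩, ⟨t, hO t ht2⟩} : Finset (Om T)).card ≤ 3 :=
      Finset.card_le_three
    omega
  -- `φ r = s`
  have hφr : φ r = s := by
    have hall : ∀ x : T, x ≠ 1 → x * x = 1 → x = s ∨ x = t ∨ x = r := by
      intro x hx1 hx2
      by_contra hcon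
      push_neg at hcon
      have hcard : ({1, ⟨s, hO s hs2⟩, ⟨t, hO t ht2⟩, ⟨r, hO r hr2⟩, ⟨x, hO x hx2⟩} :
          Finset (Om T)).card = 5 := by
        rw [Finset.card_insert_of_notMem, Finset.card_insert_of_notMem,
          Finset.card_insert_of_notMem, Finset.card_insert_of_notMem, Finset.card_singleton]
        · simp only [Finset.mem_singleton, Subtype.mk.injEq]
          exact fun e => hcon.2.2 e.symm
        · simp only [Finset.mem_insert, Finset.mem_singleton, Subtype.mk.injEq]
          rintro (e | e)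
          · exact hrt e.symm
          · exact hcon.2.1 e.symm
        · simp only [Finset.mem_insert, Finset.mem_singleton, Subtype.mk.injEq]
          rintro (e | e | e)
          · exact hts e.symm
          · exact hrs e.symm
          · exact hcon.1 e.symm
        · simp only [Finset.mem_insert, Finset.mem_singleton]
          rintro (e | e | e | e)
          · exact hs1 (congrArg Subtype.val e).symm
          · exact ht1 (congrArg Subtype.val e).symm
          · exact hr1 (congrArg Subtype.val e).symm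
          · exact hx1 (congrArg Subtype.val e).symm
      have := Finset.card_le_card (Finset.subset_univ
        ({1, ⟨s, hO s hs2⟩, ⟨t, hO t ht2⟩, ⟨r, hO r hr2⟩, ⟨x, hO x hx2⟩} : Finset (Om T)))
      omega
    rcases hall (φ r) (hφ1 r hr1) (hφ2 r hr2) with e | e | e
    · exact e
    · exfalso
      exact hrs (φ.injective e)
    · exfalso
      exact hrt (φ.injective e)
  -- the orbit has period three
  have hper : ∀ q : ℕ, (φ ^ (3 * q)) s = s ∧ (φ ^ (3 * q + 1)) s = t ∧ (φ ^ (3 * q + 2)) s = r := by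
    intro q
    induction q with
    | zero => simp [ht, hr, pow_succ, MulAut.mul_apply]
    | succ q ih =>
      obtain ⟨i0, i1, i2⟩ := ih
      have e0 : (φ ^ (3 * (q + 1))) s = s := by
        have : 3 * (q + 1) = (3 * q + 2) + 1 := by ring
        rw [this, pow_succ', MulAut.mul_apply, i2, hφr]
      have e1 : (φ ^ (3 * (q + 1) + 1)) s = t := by
        rw [pow_succ', MulAut.mul_apply, e0]
      have e2 : (φ ^ (3 * (q + 1) + 2)) s = r := by
        have : 3 * (q + 1) + 2 = (3 * (q + 1) + 1) + 1 := by ring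
        rw [this, pow_succ', MulAut.mul_apply, e1]
      exact ⟨e0, e1, e2⟩
  obtain ⟨i0, i1, i2⟩ := hper (m / 3)
  have hmod : m % 3 = 0 ∨ m % 3 = 1 ∨ m % 3 = 2 := by omega
  rcases hmod with h | h | h
  · exact Nat.dvd_of_mod_eq_zero h
  · exfalso
    have : m = 3 * (m / 3) + 1 := by omega
    rw [this, i1] at hm
    exact hts hm
  · exfalso
    have : m = 3 * (m / 3) + 2 := by omega
    rw [this, i2] at hm
    exact hrs hm

/-- **Step 0** -/
theorem hyp_of_trans [Finite T] (hT : IsPGroup 2 T) (h2 : Cfsg.PRankLE 2 2 T)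
    (h1 : ¬ Cfsg.PRankLE 2 1 T) (φ : MulAut T)
    (htrans : ∀ s t : T, orderOf s = 2 → orderOf t = 2 → ∃ k : ℕ, (φ ^ k) s = t) :
    ∃ ξ : MulAut T, Hyp T ξ := by
  classical
  haveI : Fact (Nat.Prime 2) := ⟨Nat.prime_two⟩
  unfold Cfsg.PRankLE at h1
  push_neg at h1
  obtain ⟨A, hAc, hA2, hAcard⟩ := h1
  have hord : ∀ x : T, x ≠ 1 → x * x = 1 → orderOf x = 2 := by
    intro x hx1 hx2
    exact orderOf_eq_prime (by rw [pow_two]; exact hx2) hx1
  -- `T` is non-trivial
  haveI : Nontrivial T := by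
    by_contra hnt
    rw [not_nontrivial_iff_subsingleton] at hnt
    have : Nat.card A ≤ 1 := Finite.card_le_one_iff_subsingleton.2 inferInstance
    omega
  -- a central involution
  haveI := hT.center_nontrivial
  obtain ⟨w, hw⟩ := exists_ne (1 : Subgroup.center T)
  have hw1 : (w : T) ≠ 1 := fun e => hw (Subtype.ext e)
  obtain ⟨j, hj1, hj2⟩ := exists_pow_invol hT hw1
  have hzc : (w : T) ^ 2 ^ j ∈ Subgroup.center T := Subgroup.pow_mem _ w.2 _
  set z₀ := (w : T) ^ 2 ^ j with hz₀
  -- all involutions are central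
  have hcen : ∀ x : T, x * x = 1 → x ∈ Subgroup.center T := by
    intro x hx
    by_cases hx1 : x = 1
    · rw [hx1]; exact one_mem _
    · obtain ⟨k, hk⟩ := htrans z₀ x (hord z₀ hj1 hj2) (hord x hx1 hx)
      rw [← hk]
      exact (T64.aut_mem_center_iff (φ ^ k) z₀).2 hzc
  have hO : ∀ x : T, x ∈ Om T ↔ x * x = 1 := fun x => ⟨fun hx => hx.2, fun hx => ⟨hcen x hx, hx⟩⟩
  -- `Om T` has order four
  have hOc : IsMulCommutative (Om T) := ⟨⟨fun a b => Subtype.ext (Om_comm a.2 (b : T))⟩⟩
  have hle4 : Nat.card (Om T) ≤ 2 ^ 2 := by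
    apply h2 (Om T) hOc
    intro a ha
    rw [pow_two]; exact ha.2
  have hAle : A ≤ Om T := by
    intro a ha
    rw [hO]
    have := hA2 a ha
    rwa [pow_two] at this
  have hge : 2 ^ 1 < Nat.card (Om T) := lt_of_lt_of_le hAcard (Subgroup.card_le_of_le hAle)
  have h4 : Nat.card (Om T) = 4 := by
    obtain ⟨n, hn⟩ := IsPGroup.iff_card.1 (hT.to_subgroup (Om T))
    rw [hn] at hle4 hge ⊢
    have h1 : n ≤ 2 := (Nat.pow_le_pow_iff_right (by norm_num)).1 hle4
    have h2 : 1 < n := (Nat.pow_lt_pow_iff_right (by norm_num)).1 hge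
    have : n = 2 := by omega
    rw [this]; norm_num
  -- the automorphism `ξ`
  have hφ0 : orderOf φ ≠ 0 := (orderOf_pos φ).ne'
  obtain ⟨k, m, hm3, hkm⟩ := Nat.exists_eq_pow_mul_and_not_dvd hφ0 3 (by norm_num)
  have hξord : (φ ^ m) ^ 3 ^ k = 1 := by
    rw [← pow_mul, mul_comm, ← hkm, pow_orderOf_eq_one]
  have hfpf2 : ∀ x : T, x * x = 1 → (φ ^ m) x = x → x = 1 := by
    intro x hx2 hfix
    by_contra hx1
    exact hm3 (three_dvd_of_fix φ hcen h4 htrans hx1 hx2 hfix)
  have hfpf : ∀ x : T, (φ ^ m) x = x → x = 1 := by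
    intro x hfix
    by_contra hx1
    obtain ⟨i, hi1, hi2⟩ := exists_pow_invol hT hx1
    apply hi1
    apply hfpf2 _ hi2
    rw [map_pow, hfix]
  exact ⟨φ ^ m, ⟨inferInstance, hT, ⟨k, hξord⟩, hfpf⟩, hcen, h4⟩

end Cfsg.Agent.Lib.Helper7.R2
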