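import Mathlib
import Cfsg.Agent.Lib.Helper7.R2Q

/-!
# S1237, part R: in the group of order 64 the automorphism has order three
-/

set_option autoImplicit false

universe u

namespace Cfsg.Agent.Lib.Helper7.R2

open scoped commutatorElement

variable {G : Type u} [Group G]

namespace Sp

variable {ξ : MulAut G}

/-- restriction to a non-trivial invariant subgroup -/
theorem sub (s : Sp G ξ) (H : Subgroup G) (hH : ∀ x, ξ x ∈ H ↔ x ∈ H) (hne : H ≠ ⊥) :
    Sp H (restr ξ H hH) := by
  have hs := s.hyp.sub H hH hne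
  have key : ∀ x : H, (x : G) ∈ Om G → x ∈ Om H := by
    intro x hx
    refine ⟨?_, Subtype.ext hx.2⟩
    rw [Subgroup.mem_center_iff]
    intro g
    apply Subtype.ext
    exact (Om_comm hx (g : G)).symm
  exact ⟨hs, fun x => key _ (s.sq x), fun x y => key _ (s.cm x y)⟩

/-- the number of square roots of a non-trivial involution -/
theorem fibre_count (s : Sp G ξ) {z : G} (hz : z ∈ Om G) (hz1 : z ≠ 1) :
    Nat.card G = 4 + 3 * Nat.card {x : G // x * x = z} := by
  classical
  haveI := s.hyp.act.fin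
  haveI : Fintype G := Fintype.ofFinite G
  obtain ⟨e2, e3, hall⟩ := s.hyp.Om_cases hz hz1
  have d01 : z ≠ ξ z := fun e => hz1 (s.hyp.act.fpf z e.symm)
  have hz₁1 : ξ z ≠ 1 := s.hyp.act.ne_one hz1
  have d02 : z ≠ z * ξ z := by
    intro e
    apply hz₁1
    have := congrArg (fun y => z⁻¹ * y) e
    simpa using this.symm
  have d12 : ξ z ≠ z * ξ z := by
    intro e
    apply hz1
    have := congrArg (fun y => y * (ξ z)⁻¹) e
    simpa using this.symm
  have hz₂1 : z * ξ z ≠ 1 := by
    intro e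
    apply d01
    have h1 : ξ z = z⁻¹ := eq_inv_of_mul_eq_one_right e
    rw [h1, Om_inv_eq hz]
  let N : G → ℕ := fun b => (Finset.univ.filter (fun x : G => x * x = b)).card
  have hN : ∀ b, N b ≤ N (ξ b) := by
    intro b
    apply Finset.card_le_card_of_injOn (fun x => ξ x)
    · intro x hx
      simp only [Finset.coe_filter, Finset.mem_univ, true_and, Set.mem_setOf_eq] at hx ⊢
      rw [← map_mul, hx]
    · intro x _ y _ hxy
      exact ξ.injective hxy
  have hn1 : N z ≤ N (ξ z) := hN z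
  have hn2 : N (ξ z) ≤ N (z * ξ z) := by
    have := hN (ξ z)
    rwa [e2] at this
  have hn3 : N (z * ξ z) ≤ N z := by
    have e4 : ξ (z * ξ z) = z := by rw [← e2]; exact e3
    have := hN (z * ξ z)
    rwa [e4] at this
  have hNeq1 : N (ξ z) = N z := by omega
  have hNeq2 : N (z * ξ z) = N z := by omega
  have hN1 : N 1 = 4 := by
    rw [← s.hyp.four]
    have h1 : Nat.card (Om G) = Nat.card {x : G // x * x = 1} :=
      Nat.card_congr (Equiv.subtypeEquivRight (fun x => s.hyp.mem_Om))
    rw [h1, Nat.card_eq_fintype_card, Fintype.card_subtype]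
  have hH : ∀ x ∈ (Finset.univ : Finset G),
      (fun x : G => x * x) x ∈ ({1, z, ξ z, z * ξ z} : Finset G) := by
    intro x _
    rcases hall (x * x) (s.sq x) with e | e | e | e <;> simp [e]
  have hn12 : ξ z ∉ ({z * ξ z} : Finset G) := by simp [d12]
  have hn02 : z ∉ ({ξ z, z * ξ z} : Finset G) := by simp [d01, d02]
  have hn1' : (1 : G) ∉ ({z, ξ z, z * ξ z} : Finset G) := by
    simp [hz1.symm, hz₁1.symm, hz₂1.symm]
  have hpart : Fintype.card G = N 1 + (N z + (N (ξ z) + N (z * ξ z))) := by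
    have := Finset.card_eq_sum_card_fiberwise hH
    rw [Finset.sum_insert hn1', Finset.sum_insert hn02, Finset.sum_insert hn12,
      Finset.sum_singleton] at this
    exact this
  have hcard : Fintype.card G = 4 + 3 * N z := by
    rw [hpart, hN1, hNeq1, hNeq2]; ring
  rw [Nat.card_eq_fintype_card, hcard, Nat.card_eq_fintype_card, Fintype.card_subtype]

end Sp

/-- the subgroup of fixed points of an automorphism -/
def fixSub (η : MulAut G) : Subgroup G where
  carrier := {x | η x = x}
  one_mem' := map_one η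
  mul_mem' := by
    intro a b ha hb
    show η (a * b) = a * b
    rw [map_mul, ha, hb]
  inv_mem' := by
    intro a ha
    show η a⁻¹ = a⁻¹
    rw [map_inv, ha]

theorem mem_fixSub (η : MulAut G) (x : G) : x ∈ fixSub η ↔ η x = x := Iff.rfl

namespace Sp

variable {ξ : MulAut G}

/-- (5a) in the group of order 64 the automorphism `ξ` has order three -/
theorem cube (s : Sp G ξ) (h64 : Nat.card G = 64) : ∀ x : G, ξ (ξ (ξ x)) = x := by
  haveI := s.hyp.act.fin
  obtain ⟨k, hk⟩ := s.hyp.act.ord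
  have hη : (ξ ^ 3) ^ 3 ^ k = 1 := by
    rw [← pow_mul, mul_comm, pow_mul, hk, one_pow]
  have hηx : ∀ x : G, (ξ ^ 3) x = ξ (ξ (ξ x)) := by
    intro x
    simp [pow_succ, MulAut.mul_apply]
  obtain ⟨z, hz, hz1⟩ := s.hyp.exists_ne_one
  obtain ⟨_, e3, hall⟩ := s.hyp.Om_cases hz hz1
  -- `ξ³` fixes the involutions
  have hfixO : ∀ w ∈ Om G, (ξ ^ 3) w = w := by
    intro w hw
    rw [hηx]
    by_cases hw1 : w = 1
    · rw [hw1]; simp
    · exact (s.hyp.Om_cases hw hw1).2.1
  set K := fixSub (ξ ^ 3) with hK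
  have hKinv : ∀ x ∈ K, ξ x ∈ K := by
    intro x hx
    rw [hK, mem_fixSub] at hx ⊢
    rw [hηx] at hx ⊢
    rw [hx]
  have hOK : Om G ≤ K := fun w hw => hfixO w hw
  have hKne : K ≠ ⊥ := by
    intro e
    have : z ∈ K := hOK hz
    rw [e, Subgroup.mem_bot] at this
    exact hz1 this
  have hsK := s.sub K (s.hyp.act.inv_iff K hKinv) hKne
  have hzK : (⟨z, hOK hz⟩ : K) ∈ Om K := by
    refine ⟨?_, Subtype.ext hz.2⟩
    rw [Subgroup.mem_center_iff]
    intro g
    apply Subtype.ext
    exact (Om_comm hz (g : G)).symm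
  have hzK1 : (⟨z, hOK hz⟩ : K) ≠ 1 := fun e => hz1 (congrArg Subtype.val e)
  have hcK := hsK.fibre_count hzK hzK1
  have hcG := s.fibre_count hz hz1
  -- the fixed points of `ξ³` on the square roots of `z`
  have hA : ∀ x ∈ {x : G | x * x = z}, (ξ ^ 3) x ∈ {x : G | x * x = z} := by
    intro x hx
    simp only [Set.mem_setOf_eq] at hx ⊢
    rw [← map_mul, hx, hfixO z hz]
  have hmod := card_modEq_fixed (ξ ^ 3) hη {x : G | x * x = z} hA
  have e1 : Nat.card ({x : G | x * x = z} : Set G) = Nat.card {x : G // x * x = z} := rfl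
  have e2 : Nat.card (({x : G | x * x = z} ∩ {x | (ξ ^ 3) x = x} : Set G)) =
      Nat.card {x : K // x * x = (⟨z, hOK hz⟩ : K)} := by
    refine Nat.card_congr
      { toFun := fun x => ⟨⟨(x : G), x.2.2⟩, Subtype.ext x.2.1⟩
        invFun := fun x => ⟨((x : K) : G), congrArg Subtype.val x.2, (x : K).2⟩
        left_inv := fun x => rfl
        right_inv := fun x => rfl }
  rw [e1, e2] at hmod
  -- the order of `K`
  have hmodK := s.hyp.act.card_modEq K hKinv
  have hdvd : Nat.card K ∣ 64 := by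
    rw [← h64]; exact Subgroup.card_subgroup_dvd_card _
  have hK64 : Nat.card K = 64 := by
    unfold Nat.ModEq at hmod
    rcases T64.dvd_sixty_four_modEq hdvd hmodK with e | e | e | e <;> omega
  have htop : K = ⊤ := Subgroup.eq_top_of_card_eq _ (by rw [hK64, h64])
  intro x
  have : x ∈ K := by rw [htop]; trivial
  rw [hK, mem_fixSub, hηx] at this
  exact this

/-- the square of `ξ` also satisfies the hypotheses -/
theorem sq_aut (s : Sp G ξ) : Sp G (ξ * ξ) := by
  refine ⟨⟨⟨s.hyp.act.fin, s.hyp.act.two, ?_, ?_⟩, s.hyp.cen, s.hyp.four⟩, s.sq, s.cm⟩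
  · obtain ⟨k, hk⟩ := s.hyp.act.ord
    exact ⟨k, by rw [mul_pow_self_comm ξ k]⟩
  · intro x hx
    exact s.hyp.act.fpf2 hx
where
  mul_pow_self_comm (ξ : MulAut G) (k : ℕ) (hk : ξ ^ 3 ^ k = 1 := by assumption) :
      (ξ * ξ) ^ 3 ^ k = 1 := by
    rw [← pow_two, ← pow_mul, mul_comm, pow_mul, hk, one_pow]

end Sp

end Cfsg.Agent.Lib.Helper7.R2
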