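import Mathlib
import Cfsg.Agent.Lib.Helper7.R2R
import Cfsg.Agent.Lib.Helper7.T64D

/-!
# S1237, part S: the normal form of the group of order 64
-/

set_option autoImplicit false

universe u

namespace Cfsg.Agent.Lib.Helper7.R2

open scoped commutatorElement

/-- generators and relations of the group of order 64 -/
structure NF (G : Type*) [Group G] (z₀ z₁ u u' v v' : G) : Prop where
  card : Nat.card G = 64
  z₀c : z₀ ∈ Subgroup.center G
  z₁c : z₁ ∈ Subgroup.center G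
  z₀2 : z₀ * z₀ = 1
  z₁2 : z₁ * z₁ = 1
  uu : u * u = z₀
  vv : v * v = z₀
  uu' : u' * u' = z₁
  vv' : v' * v' = z₁
  c1 : ⁅u, u'⁆ = 1
  c2 : ⁅v, v'⁆ = 1
  c3 : ⁅u, v⁆ = z₁
  c4 : ⁅u', v'⁆ = z₀ * z₁
  c5 : ⁅u, v'⁆ = z₀
  c6 : ⁅u', v⁆ = z₀
  gen : Subgroup.closure {u, u', v, v'} = ⊤

variable {G : Type u} [Group G]

theorem mul_om_sq {x z : G} (hz : z ∈ Om G) : (x * z) * (x * z) = x * x := by
  calc (x * z) * (x * z) = x * (z * x) * z := by group
    _ = x * (x * z) * z := by rw [Om_comm hz x]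
    _ = x * x * (z * z) := by group
    _ = x * x := by rw [Om_sq hz, mul_one]

namespace Sp

variable {ρ : MulAut G}

theorem hyp64 (s : Sp G ρ) (h64 : Nat.card G = 64) (h3 : ∀ x, ρ (ρ (ρ x)) = x) :
    T64.Hyp64 G ρ := by
  refine ⟨s.hyp.act.fin, h64, ⟨h3, s.hyp.act.fpf⟩, ?_⟩
  intro hc
  have := s.card_le_of_comm hc
  omega

/-- the normal form, once the commutator `⁅u, v⁆` is `ρ z₀` -/
theorem nf_of (s : Sp G ρ) (h64 : Nat.card G = 64) (h3 : ∀ x, ρ (ρ (ρ x)) = x) {z₀ u v : G}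
    (hz : z₀ ∈ Om G) (hz1 : z₀ ≠ 1) (hu : u * u = z₀) (hv : v * v = z₀) (huv : u⁻¹ * v ∉ Om G)
    (hγ : ⁅u, v⁆ = ρ z₀) : NF G z₀ (ρ z₀) u (ρ u) v (ρ v) := by
  haveI := s.hyp.act.fin
  have h := s.hyp64 h64 h3
  obtain ⟨e2, _, _⟩ := s.hyp.Om_cases hz hz1
  have hz' : ρ z₀ ∈ Om G := Om_invariant ρ z₀ hz
  have hρz1 : ρ z₀ ≠ 1 := s.hyp.act.ne_one hz1
  have hρz0 : ρ z₀ ≠ z₀ := fun e => hz1 (s.hyp.act.fpf z₀ e)
  refine ⟨h64, hz.1, hz'.1, hz.2, hz'.2, hu, hv, by rw [← map_mul, hu], by rw [← map_mul, hv],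
    h.comm_self_rho u, h.comm_self_rho v, hγ, ?_, ?_, ?_, ?_⟩
  · rw [T64.Hyp64.comm_rho_rho, hγ, e2]
  · rw [h.comm_rho_right, hγ, h3]
  · rw [h.comm_rho_left, hγ, h3]
  · -- generation
    set K := Subgroup.closure ({u, ρ u, v, ρ v} : Set G) with hK
    have huK : u ∈ K := Subgroup.subset_closure (by simp)
    have hρuK : ρ u ∈ K := Subgroup.subset_closure (by simp)
    have hvK : v ∈ K := Subgroup.subset_closure (by simp)
    have hρvK : ρ v ∈ K := Subgroup.subset_closure (by simp)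
    have hKinv : ∀ x ∈ K, ρ x ∈ K := by
      have hle : K ≤ K.comap (ρ : G →* G) := by
        rw [hK, Subgroup.closure_le]
        intro x hx
        simp only [Set.mem_insert_iff, Set.mem_singleton_iff] at hx
        simp only [Subgroup.coe_comap, Set.mem_preimage, SetLike.mem_coe]
        rcases hx with rfl | rfl | rfl | rfl
        · exact hρuK
        · show ρ (ρ u) ∈ K
          rw [h.fpf.rho_rho]; exact inv_mem (mul_mem huK hρuK)
        · exact hρvK
        · show ρ (ρ v) ∈ K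
          rw [h.fpf.rho_rho]; exact inv_mem (mul_mem hvK hρvK)
      intro x hx
      exact hle hx
    have huO : u ∉ Om G := by
      intro hO
      apply hz1
      rw [← hu]; exact Om_sq hO
    have hKne : K ≠ ⊥ := by
      intro e
      rw [e, Subgroup.mem_bot] at huK
      apply huO
      rw [huK]; exact one_mem _
    have hOK := s.hyp.Om_le K hKinv hKne
    have hmod := s.hyp.act.card_modEq K hKinv
    have hdvd : Nat.card K ∣ 64 := by
      rw [← h64]; exact Subgroup.card_subgroup_dvd_card _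
    have hge : 4 ≤ Nat.card K := by
      rw [← s.hyp.four]; exact Subgroup.card_le_of_le hOK
    rcases T64.dvd_sixty_four_modEq hdvd hmod with e | e | e | e
    · omega
    · exfalso
      have : Om G = K := Subgroup.eq_of_le_of_card_ge hOK (by rw [e, s.hyp.four])
      rw [← this] at huK
      exact huO huK
    · exfalso
      have h4 := s.hyp.act.card4_rel K (Om G) hOK hKinv (Om_invariant ρ)
        (fun g _ n hn => Om_normal.conj_mem n hn g) (by rw [e, s.hyp.four]) huK huO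
      rcases h4.2.2.1 v hvK with c | c | c | c
      · apply hz1
        rw [← hv]; exact Om_sq c
      · exact huv c
      · apply hρz0
        have hv' : v = ρ u * ((ρ u)⁻¹ * v) := by group
        have h2 : v * v = ρ z₀ := by
          rw [hv', mul_om_sq c, ← map_mul, hu]
        rw [hv] at h2
        exact h2.symm
      · apply hρz1
        have hv' : v = u * ρ u * ((u * ρ u)⁻¹ * v) := by group
        have h1 : (u * ρ u) * (u * ρ u) = z₀ * ρ z₀ := by
          rw [s.mul_sq, s.comm_symm, h.comm_self_rho, one_mul, hu, ← map_mul, hu]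
        have h2 : v * v = z₀ * ρ z₀ := by
          rw [hv', mul_om_sq c, h1]
        rw [hv] at h2
        have := congrArg (fun y => z₀⁻¹ * y) h2
        simpa using this.symm
    · exact Subgroup.eq_top_of_card_eq _ (by rw [e, h64])

/-- existence of the normal form -/
theorem exists_nf {ξ : MulAut G} (s : Sp G ξ) (h64 : Nat.card G = 64) :
    ∃ z₀ z₁ u u' v v' : G, NF G z₀ z₁ u u' v v' := by
  haveI := s.hyp.act.fin
  have h3 := s.cube h64
  have h := s.hyp64 h64 h3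
  obtain ⟨z₀, hz, hz1⟩ := s.hyp.exists_ne_one
  obtain ⟨e2, _, hall⟩ := s.hyp.Om_cases hz hz1
  have hcount := s.fibre_count hz hz1
  rw [h64] at hcount
  have h20 : Nat.card {x : G // x * x = z₀} = 20 := by omega
  haveI : Nonempty {x : G // x * x = z₀} := (Nat.card_pos_iff.1 (by omega)).1
  obtain ⟨⟨u, hu⟩⟩ := ‹Nonempty {x : G // x * x = z₀}›
  have hex : ∃ v : G, v * v = z₀ ∧ u⁻¹ * v ∉ Om G := by
    by_contra hcon
    push_neg at hcon
    have hinj : Function.Injective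
        (fun v : {x : G // x * x = z₀} => (⟨u⁻¹ * (v : G), hcon v v.2⟩ : Om G)) := by
      intro a b hab
      apply Subtype.ext
      have : u⁻¹ * (a : G) = u⁻¹ * (b : G) := congrArg Subtype.val hab
      exact mul_left_cancel this
    have := Nat.card_le_card_of_injective _ hinj
    rw [h20, s.hyp.four] at this
    omega
  obtain ⟨v, hv, huv⟩ := hex
  have hγO : ⁅u, v⁆ ∈ Om G := s.cm u v
  -- `γ ≠ 1`
  have hγ1 : ⁅u, v⁆ ≠ 1 := by
    intro e
    have h1 : (u * v) * (u * v) = 1 := by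
      rw [s.mul_sq, s.comm_symm, e, one_mul, hu, hv, hz.2]
    apply huv
    have h2 : u * v ∈ Om G := s.hyp.mem_Om.2 h1
    have : u⁻¹ * v = (u * u)⁻¹ * (u * v) := by group
    rw [this, hu]
    exact mul_mem (inv_mem hz) h2
  -- `γ ≠ z₀`
  have hγz : ⁅u, v⁆ ≠ z₀ := by
    intro e
    have hδ : ⁅u, ξ v⁆ = z₀ * ξ z₀ := by rw [h.comm_rho_right, e, e2]
    have hO : z₀ * ξ z₀ ∈ Om G := mul_mem hz (Om_invariant ξ z₀ hz)
    have h1 : (u * ξ v) * (u * ξ v) = 1 := by
      rw [s.mul_sq, s.comm_symm, hδ, hu, ← map_mul, hv, mul_assoc]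
      exact hO.2
    have h2 : u * ξ v ∈ Om G := s.hyp.mem_Om.2 h1
    have h3' : ξ v = u⁻¹ * (u * ξ v) := by group
    have h4 : ξ v * ξ v = u⁻¹ * u⁻¹ := by
      rw [h3', mul_om_sq h2]
    rw [← map_mul, hv, ← mul_inv_rev, hu, Om_inv_eq hz] at h4
    exact hz1 (s.hyp.act.fpf z₀ h4)
  rcases hall _ hγO with e | e | e | e
  · exact absurd e hγ1
  · exact absurd e hγz
  · exact ⟨z₀, ξ z₀, u, ξ u, v, ξ v, s.nf_of h64 h3 hz hz1 hu hv huv e⟩
  · have h3'' : ∀ x : G, (ξ * ξ) ((ξ * ξ) ((ξ * ξ) x)) = x := by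
      intro x
      simp only [MulAut.mul_apply]
      rw [h3, h3]
    have e' : ⁅u, v⁆ = (ξ * ξ) z₀ := by
      rw [e, MulAut.mul_apply, e2]
    exact ⟨z₀, (ξ * ξ) z₀, u, (ξ * ξ) u, v, (ξ * ξ) v, s.sq_aut.nf_of h64 h3'' hz hz1 hu hv huv e'⟩

end Sp

end Cfsg.Agent.Lib.Helper7.R2
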