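import Mathlib
import Cfsg.Agent.Lib.Helper7.R2S

/-!
# S1237, part T: a bound for groups generated by elements whose squares and commutators lie in a
central subgroup
-/

set_option autoImplicit false

namespace Cfsg.Agent.Lib.Helper7.R2

open scoped commutatorElement

variable {H : Type*} [Group H]

/-- the elements commuting with `a` modulo the central subgroup `Δ` -/
def commSub (Δ : Subgroup H) (hΔ : Δ ≤ Subgroup.center H) (a : H) : Subgroup H where
  carrier := {x | ⁅a, x⁆ ∈ Δ}
  one_mem' := by simp [one_mem]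
  mul_mem' := by
    intro x y hx hy
    show ⁅a, x * y⁆ ∈ Δ
    rw [comm_mul_right_of (hΔ hy)]
    exact mul_mem hx hy
  inv_mem' := by
    intro x hx
    show ⁅a, x⁻¹⁆ ∈ Δ
    have h1 : ⁅a, x⁻¹⁆ = x⁻¹ * ⁅a, x⁆⁻¹ * x := by
      simp only [commutatorElement_def]; group
    have hc := Subgroup.mem_center_iff.1 (hΔ (inv_mem hx)) x⁻¹
    rw [h1, hc, mul_assoc, inv_mul_cancel, mul_one]
    exact inv_mem hx

theorem mem_commSub (Δ : Subgroup H) (hΔ : Δ ≤ Subgroup.center H) (a x : H) :
    x ∈ commSub Δ hΔ a ↔ ⁅a, x⁆ ∈ Δ := Iff.rfl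

/-- the subgroup `L ∪ a L` -/
def stepSub (L : Subgroup H) (a : H) (hconj : ∀ l ∈ L, a⁻¹ * l * a ∈ L) (haa : a * a ∈ L) :
    Subgroup H where
  carrier := {x | x ∈ L ∨ a⁻¹ * x ∈ L}
  one_mem' := Or.inl (one_mem _)
  mul_mem' := by
    rintro x y (hx | hx) (hy | hy)
    · exact Or.inl (mul_mem hx hy)
    · right
      have : a⁻¹ * (x * y) = (a⁻¹ * x * a) * (a⁻¹ * y) := by group
      rw [this]; exact mul_mem (hconj x hx) hy
    · right
      have : a⁻¹ * (x * y) = (a⁻¹ * x) * y := by group
      rw [this]; exact mul_mem hx hy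
    · left
      have : x * y = (a * a) * (a⁻¹ * (a⁻¹ * x) * a) * (a⁻¹ * y) := by group
      rw [this]; exact mul_mem (mul_mem haa (hconj _ hx)) hy
  inv_mem' := by
    rintro x (hx | hx)
    · exact Or.inl (inv_mem hx)
    · right
      have : a⁻¹ * x⁻¹ = (a⁻¹ * (a⁻¹ * x)⁻¹ * a) * (a * a)⁻¹ := by group
      rw [this]; exact mul_mem (hconj _ (inv_mem hx)) (inv_mem haa)

theorem card_stepSub_le [Finite H] (L : Subgroup H) (a : H)
    (hconj : ∀ l ∈ L, a⁻¹ * l * a ∈ L) (haa : a * a ∈ L) :
    Nat.card (stepSub L a hconj haa) ≤ 2 * Nat.card L := by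
  have hsub : ((stepSub L a hconj haa : Subgroup H) : Set H) ⊆
      (L : Set H) ∪ (fun l => a * l) '' (L : Set H) := by
    rintro x (hx | hx)
    · exact Or.inl hx
    · right
      exact ⟨a⁻¹ * x, hx, by group⟩
  have h1 : Nat.card (stepSub L a hconj haa) =
      ((stepSub L a hconj haa : Subgroup H) : Set H).ncard := Nat.card_coe_set_eq _
  have h2 : Nat.card L = (L : Set H).ncard := Nat.card_coe_set_eq _
  rw [h1, h2]
  calc ((stepSub L a hconj haa : Subgroup H) : Set H).ncard
      ≤ ((L : Set H) ∪ (fun l => a * l) '' (L : Set H)).ncard :=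
        Set.ncard_le_ncard hsub (Set.toFinite _)
    _ ≤ (L : Set H).ncard + ((fun l => a * l) '' (L : Set H)).ncard := Set.ncard_union_le _ _
    _ ≤ (L : Set H).ncard + (L : Set H).ncard :=
        Nat.add_le_add_left (Set.ncard_image_le (Set.toFinite _)) _
    _ = 2 * (L : Set H).ncard := by ring

/-- **Lemma B** -/
theorem card_closure_le [Finite H] (Δ : Subgroup H) (hΔ : Δ ≤ Subgroup.center H) (S : Finset H)
    (hsq : ∀ g ∈ S, g * g ∈ Δ) (hcm : ∀ g ∈ S, ∀ k ∈ S, ⁅g, k⁆ ∈ Δ) :
    Nat.card (Subgroup.closure (S : Set H) ⊔ Δ : Subgroup H) ≤ 2 ^ S.card * Nat.card Δ := by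
  classical
  revert hsq hcm
  refine Finset.induction_on S ?_ ?_
  · intro _ _
    simp
  · intro a S haS ih hsq hcm
    have ihL := ih (fun g hg => hsq g (Finset.mem_insert_of_mem hg))
      (fun g hg k hk => hcm g (Finset.mem_insert_of_mem hg) k (Finset.mem_insert_of_mem hk))
    set L := Subgroup.closure (S : Set H) ⊔ Δ with hL
    have hΔL : Δ ≤ L := le_sup_right
    have hLle : L ≤ commSub Δ hΔ a := by
      apply sup_le
      · rw [Subgroup.closure_le]
        intro x hx
        exact hcm a (Finset.mem_insert_self a S) x (Finset.mem_insert_of_mem hx)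
      · intro x hx
        rw [mem_commSub]
        have : ⁅a, x⁆ = 1 := by
          rw [commutatorElement_eq_one_iff_mul_comm]
          exact Subgroup.mem_center_iff.1 (hΔ hx) a
        rw [this]; exact one_mem _
    have hconj : ∀ l ∈ L, a⁻¹ * l * a ∈ L := by
      intro l hl
      have hc : ⁅a, l⁆ ∈ Δ := hLle hl
      have hcc := Subgroup.mem_center_iff.1 (hΔ (inv_mem hc)) a⁻¹
      have e : a⁻¹ * l * a = ⁅a, l⁆⁻¹ * l := by
        calc a⁻¹ * l * a = a⁻¹ * (⁅a, l⁆⁻¹ * (a * l)) := by
              simp only [commutatorElement_def]; group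
          _ = (a⁻¹ * ⁅a, l⁆⁻¹) * (a * l) := by group
          _ = (⁅a, l⁆⁻¹ * a⁻¹) * (a * l) := by rw [hcc]
          _ = ⁅a, l⁆⁻¹ * l := by group
      rw [e]
      exact mul_mem (hΔL (inv_mem hc)) hl
    have haa : a * a ∈ L := hΔL (hsq a (Finset.mem_insert_self a S))
    have hle : Subgroup.closure ((insert a S : Finset H) : Set H) ⊔ Δ ≤ stepSub L a hconj haa := by
      apply sup_le
      · rw [Subgroup.closure_le]
        intro x hx
        rw [Finset.coe_insert] at hx
        rcases hx with rfl | hx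
        · right
          show x⁻¹ * x ∈ L
          rw [inv_mul_cancel]; exact one_mem _
        · left
          exact (le_sup_left : Subgroup.closure (S : Set H) ≤ L) (Subgroup.subset_closure hx)
      · intro x hx
        exact Or.inl (hΔL hx)
    calc Nat.card (Subgroup.closure ((insert a S : Finset H) : Set H) ⊔ Δ : Subgroup H)
        ≤ Nat.card (stepSub L a hconj haa) := Subgroup.card_le_of_le hle
      _ ≤ 2 * Nat.card L := card_stepSub_le L a hconj haa
      _ ≤ 2 * (2 ^ S.card * Nat.card Δ) := Nat.mul_le_mul_left 2 ihL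
      _ = 2 ^ (insert a S).card * Nat.card Δ := by
          rw [Finset.card_insert_of_notMem haS, pow_succ]; ring

end Cfsg.Agent.Lib.Helper7.R2
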