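import Mathlib
import Cfsg.Agent.Lib.Helper7.R2T

/-!
# S1237, part U: two groups with the same normal form are isomorphic
-/

set_option autoImplicit false

universe u v

namespace Cfsg.Agent.Lib.Helper7.R2

open scoped commutatorElement

theorem prod_comm {G : Type u} {G' : Type v} [Group G] [Group G'] (x y : G × G') :
    ⁅x, y⁆ = (⁅x.1, y.1⁆, ⁅x.2, y.2⁆) := by
  apply Prod.ext <;> simp [commutatorElement_def]

theorem prod_mem_center {G : Type u} {G' : Type v} [Group G] [Group G'] {z : G} {y : G'}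
    (hz : z ∈ Subgroup.center G) (hy : y ∈ Subgroup.center G') :
    ((z, y) : G × G') ∈ Subgroup.center (G × G') := by
  rw [Subgroup.mem_center_iff]
  rintro ⟨g, g'⟩
  apply Prod.ext
  · exact Subgroup.mem_center_iff.1 hz g
  · exact Subgroup.mem_center_iff.1 hy g'

/-- **the gluing step**: groups with the same normal form are isomorphic -/
theorem iso_of_nf {G : Type u} {G' : Type v} [Group G] [Group G'] {z₀ z₁ a a' b b' : G}
    {y₀ y₁ p p' q q' : G'} (n : NF G z₀ z₁ a a' b b') (n' : NF G' y₀ y₁ p p' q q') :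
    Nonempty (G ≃* G') := by
  classical
  haveI : Finite G := Nat.finite_of_card_ne_zero (by rw [n.card]; norm_num)
  haveI : Finite G' := Nat.finite_of_card_ne_zero (by rw [n'.card]; norm_num)
  set Z0 : G × G' := (z₀, y₀) with hZ0
  set Z1 : G × G' := (z₁, y₁) with hZ1
  set A : G × G' := (a, p) with hA
  set A' : G × G' := (a', p') with hA'
  set B : G × G' := (b, q) with hB
  set B' : G × G' := (b', q') with hB'
  have hZ0c : Z0 ∈ Subgroup.center (G × G') := prod_mem_center n.z₀c n'.z₀c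
  have hZ1c : Z1 ∈ Subgroup.center (G × G') := prod_mem_center n.z₁c n'.z₁c
  set Δ : Subgroup (G × G') := Subgroup.closure ((({Z0, Z1} : Finset (G × G')) : Set (G × G')))
    with hΔ
  have hΔc : Δ ≤ Subgroup.center (G × G') := by
    rw [hΔ, Subgroup.closure_le]
    intro x hx
    simp only [Finset.coe_insert, Finset.coe_singleton, Set.mem_insert_iff,
      Set.mem_singleton_iff] at hx
    rcases hx with rfl | rfl
    · exact hZ0c
    · exact hZ1c
  have hZ0Δ : Z0 ∈ Δ := Subgroup.subset_closure (by simp)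
  have hZ1Δ : Z1 ∈ Δ := Subgroup.subset_closure (by simp)
  -- `Δ` has order at most four
  have hcardΔ : Nat.card Δ ≤ 4 := by
    have hcen : ∀ g ∈ ({Z0, Z1} : Finset (G × G')), g ∈ Subgroup.center (G × G') := by
      intro g hg
      simp only [Finset.mem_insert, Finset.mem_singleton] at hg
      rcases hg with rfl | rfl
      · exact hZ0c
      · exact hZ1c
    have h1 := card_closure_le (⊥ : Subgroup (G × G')) bot_le ({Z0, Z1} : Finset (G × G'))
      (by
        intro g hg
        simp only [Finset.mem_insert, Finset.mem_singleton] at hg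
        rw [Subgroup.mem_bot]
        rcases hg with rfl | rfl
        · apply Prod.ext
          · exact n.z₀2
          · exact n'.z₀2
        · apply Prod.ext
          · exact n.z₁2
          · exact n'.z₁2)
      (by
        intro g hg k _
        rw [Subgroup.mem_bot, commutatorElement_eq_one_iff_mul_comm]
        exact (Subgroup.mem_center_iff.1 (hcen g hg) k).symm)
    rw [sup_bot_eq, Subgroup.card_bot, mul_one] at h1
    have h2 : ({Z0, Z1} : Finset (G × G')).card ≤ 2 := Finset.card_le_two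
    calc Nat.card Δ ≤ 2 ^ ({Z0, Z1} : Finset (G × G')).card := h1
      _ ≤ 2 ^ 2 := Nat.pow_le_pow_right (by norm_num) h2
      _ = 4 := by norm_num
  -- squares and commutators of the generators
  have sA : A * A = Z0 := Prod.ext n.uu n'.uu
  have sA' : A' * A' = Z1 := Prod.ext n.uu' n'.uu'
  have sB : B * B = Z0 := Prod.ext n.vv n'.vv
  have sB' : B' * B' = Z1 := Prod.ext n.vv' n'.vv'
  have c1 : ⁅A, A'⁆ ∈ Δ := by
    rw [prod_comm]
    have : ((⁅A.1, A'.1⁆, ⁅A.2, A'.2⁆) : G × G') = 1 := Prod.ext n.c1 n'.c1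
    rw [this]; exact one_mem _
  have c2 : ⁅B, B'⁆ ∈ Δ := by
    rw [prod_comm]
    have : ((⁅B.1, B'.1⁆, ⁅B.2, B'.2⁆) : G × G') = 1 := Prod.ext n.c2 n'.c2
    rw [this]; exact one_mem _
  have c3 : ⁅A, B⁆ ∈ Δ := by
    rw [prod_comm]
    have : ((⁅A.1, B.1⁆, ⁅A.2, B.2⁆) : G × G') = Z1 := Prod.ext n.c3 n'.c3
    rw [this]; exact hZ1Δ
  have c4 : ⁅A', B'⁆ ∈ Δ := by
    rw [prod_comm]
    have : ((⁅A'.1, B'.1⁆, ⁅A'.2, B'.2⁆) : G × G') = Z0 * Z1 := Prod.ext n.c4 n'.c4
    rw [this]; exact mul_mem hZ0Δ hZ1Δ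
  have c5 : ⁅A, B'⁆ ∈ Δ := by
    rw [prod_comm]
    have : ((⁅A.1, B'.1⁆, ⁅A.2, B'.2⁆) : G × G') = Z0 := Prod.ext n.c5 n'.c5
    rw [this]; exact hZ0Δ
  have c6 : ⁅A', B⁆ ∈ Δ := by
    rw [prod_comm]
    have : ((⁅A'.1, B.1⁆, ⁅A'.2, B.2⁆) : G × G') = Z0 := Prod.ext n.c6 n'.c6
    rw [this]; exact hZ0Δ
  have hsymm : ∀ g k : G × G', ⁅g, k⁆ ∈ Δ → ⁅k, g⁆ ∈ Δ := by
    intro g k h
    rw [← commutatorElement_inv]; exact inv_mem h
  have hself : ∀ g : G × G', ⁅g, g⁆ ∈ Δ := by
    intro g
    rw [commutatorElement_self]; exact one_mem _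
  set S : Finset (G × G') := {A, A', B, B'} with hS
  have hsq : ∀ g ∈ S, g * g ∈ Δ := by
    intro g hg
    simp only [hS, Finset.mem_insert, Finset.mem_singleton] at hg
    rcases hg with rfl | rfl | rfl | rfl
    · rw [sA]; exact hZ0Δ
    · rw [sA']; exact hZ1Δ
    · rw [sB]; exact hZ0Δ
    · rw [sB']; exact hZ1Δ
  have hcm : ∀ g ∈ S, ∀ k ∈ S, ⁅g, k⁆ ∈ Δ := by
    intro g hg k hk
    simp only [hS, Finset.mem_insert, Finset.mem_singleton] at hg hk
    rcases hg with rfl | rfl | rfl | rfl <;> rcases hk with rfl | rfl | rfl | rfl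
    · exact hself _
    · exact c1
    · exact c3
    · exact c5
    · exact hsymm _ _ c1
    · exact hself _
    · exact c6
    · exact c4
    · exact hsymm _ _ c3
    · exact hsymm _ _ c6
    · exact hself _
    · exact c2
    · exact hsymm _ _ c5
    · exact hsymm _ _ c4
    · exact hsymm _ _ c2
    · exact hself _
  set D : Subgroup (G × G') := Subgroup.closure (S : Set (G × G')) with hD
  have hcardD : Nat.card D ≤ 64 := by
    have h1 := card_closure_le Δ hΔc S hsq hcm
    have h2 : S.card ≤ 4 := Finset.card_le_four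
    have h3 : Nat.card D ≤ Nat.card (D ⊔ Δ : Subgroup (G × G')) :=
      Subgroup.card_le_of_le le_sup_left
    calc Nat.card D ≤ Nat.card (D ⊔ Δ : Subgroup (G × G')) := h3
      _ ≤ 2 ^ S.card * Nat.card Δ := h1
      _ ≤ 2 ^ 4 * 4 := Nat.mul_le_mul (Nat.pow_le_pow_right (by norm_num) h2) hcardΔ
      _ = 64 := by norm_num
  -- the projections are surjective
  have hfst : D.map (MonoidHom.fst G G') = ⊤ := by
    rw [hD, MonoidHom.map_closure, ← n.gen]
    congr 1
    simp [hS, Set.image_insert_eq, hA, hA', hB, hB']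
  have hsnd : D.map (MonoidHom.snd G G') = ⊤ := by
    rw [hD, MonoidHom.map_closure, ← n'.gen]
    congr 1
    simp [hS, Set.image_insert_eq, hA, hA', hB, hB']
  let f₁ : D →* G := (MonoidHom.fst G G').comp D.subtype
  let f₂ : D →* G' := (MonoidHom.snd G G').comp D.subtype
  have hs₁ : Function.Surjective f₁ := by
    intro g
    have : g ∈ D.map (MonoidHom.fst G G') := by rw [hfst]; trivial
    obtain ⟨d, hd, rfl⟩ := this
    exact ⟨⟨d, hd⟩, rfl⟩
  have hs₂ : Function.Surjective f₂ := by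
    intro g
    have : g ∈ D.map (MonoidHom.snd G G') := by rw [hsnd]; trivial
    obtain ⟨d, hd, rfl⟩ := this
    exact ⟨⟨d, hd⟩, rfl⟩
  have hb₁ : Function.Bijective f₁ := by
    rw [Nat.bijective_iff_surjective_and_card]
    refine ⟨hs₁, ?_⟩
    have := Nat.card_le_card_of_surjective f₁ hs₁
    rw [n.card] at this ⊢
    omega
  have hb₂ : Function.Bijective f₂ := by
    rw [Nat.bijective_iff_surjective_and_card]
    refine ⟨hs₂, ?_⟩
    have := Nat.card_le_card_of_surjective f₂ hs₂
    rw [n'.card] at this ⊢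
    omega
  exact ⟨(MulEquiv.ofBijective f₁ hb₁).symm.trans (MulEquiv.ofBijective f₂ hb₂)⟩

end Cfsg.Agent.Lib.Helper7.R2
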