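import Mathlib
import Cfsg.Agent.Lib.Helper7.R2U
import Cfsg.Agent.Lib.Helper5.U3Even.Sylow

/-!
# S1237, part V: the Sylow `2`-subgroup of `PSU₃(4)` satisfies the hypotheses
-/

set_option autoImplicit false

namespace Cfsg.Agent.Lib.Helper7.R2

open scoped commutatorElement
open Cfsg.Agent.Lib.Helper5.U3Even

/-- a group with unitary coordinates over the field with 16 elements satisfies `Sp` -/
theorem sp_of_coords {F : Type*} [Field F] [Fintype F] (hF : Fintype.card F = 4 ^ 2)
    {X : Type*} [Group X] [Finite X] (c : Coords F 4 X) :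
    ∃ ξ : MulAut X, Sp X ξ ∧ Nat.card X = 64 := by
  classical
  have hq : Even 4 := by decide
  haveI : Fact (Nat.Prime 3) := ⟨by norm_num⟩
  have hcard : Nat.card X = 64 := by
    rw [c.card_eq hq hF]; norm_num
  have hfrob : ∀ z : F, (z ^ 4) ^ 4 = z := by
    intro z
    rw [← pow_mul]
    have := FiniteField.pow_card z
    rw [hF] at this
    exact this
  -- an element of order three
  have hU : Nat.card Fˣ = 15 := by
    rw [Nat.card_eq_fintype_card, Fintype.card_units, hF]; norm_num
  obtain ⟨l, hl⟩ := exists_prime_orderOf_dvd_card' (G := Fˣ) 3 (by rw [hU]; norm_num)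
  have hl3 : l ^ 3 = 1 := by rw [← hl]; exact pow_orderOf_eq_one l
  have hl1 : l ≠ 1 := by
    intro e
    rw [e, orderOf_one] at hl
    omega
  have hl1' : (l : F) ≠ 1 := fun e => hl1 (Units.ext e)
  have hl3' : (l : F) ^ 3 = 1 := by
    have := congrArg Units.val hl3
    simpa using this
  have hl5 : (l : F) * (l : F) ^ 4 ≠ 1 := by
    intro e
    apply hl1'
    have e2 : (l : F) ^ 2 = 1 := by
      have : (l : F) * (l : F) ^ 4 = (l : F) ^ 3 * (l : F) ^ 2 := by ring
      rw [this, hl3', one_mul] at e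
      exact e
    have : (l : F) ^ 3 = (l : F) ^ 2 * (l : F) := by ring
    rw [this, e2, one_mul] at hl3'
    exact hl3'
  set ξ : MulAut X := c.phiAut hfrob l with hξ
  have hξ3 : ξ ^ 3 ^ 1 = 1 := by
    have h1 : ξ = c.phiHom hfrob l := rfl
    rw [pow_one, h1, ← map_pow, hl3, map_one]
  have hfpf : ∀ x : X, ξ x = x → x = 1 := by
    intro x hx
    have ha := congrArg c.a hx
    have hb := congrArg c.b hx
    rw [hξ, c.phiAut_apply, c.phi_a] at ha
    rw [hξ, c.phiAut_apply, c.phi_b] at hb
    apply c.eq_one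
    · have h1 : ((l : F) - 1) * c.a x = 0 := by linear_combination ha
      rcases mul_eq_zero.1 h1 with h | h
      · exact absurd (sub_eq_zero.1 h) hl1'
      · exact h
    · have h1 : ((l : F) * (l : F) ^ 4 - 1) * c.b x = 0 := by linear_combination hb
      rcases mul_eq_zero.1 h1 with h | h
      · exact absurd (sub_eq_zero.1 h) hl5
      · exact h
  have h2 : IsPGroup 2 X := IsPGroup.of_card (n := 6) (by rw [hcard]; norm_num)
  have hact : Act X ξ := ⟨inferInstance, h2, ⟨1, hξ3⟩, hfpf⟩
  have hcen : ∀ x : X, x * x = 1 → x ∈ Subgroup.center X := by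
    intro x hx
    rw [c.mem_center_iff hq hF]
    exact (c.sq_eq_one_iff hq hF x).1 hx
  have hOm : Om X = Subgroup.center X := by
    ext x
    constructor
    · intro hx; exact hx.1
    · intro hx
      refine ⟨hx, ?_⟩
      rw [c.sq_eq_one_iff hq hF]
      exact (c.mem_center_iff hq hF x).1 hx
  have hfour : Nat.card (Om X) = 4 := by
    rw [hOm]; exact c.card_center hq hF
  have hmemO : ∀ x : X, c.a x = 0 → x ∈ Om X := by
    intro x hx
    rw [hOm, c.mem_center_iff hq hF]
    exact hx
  refine ⟨ξ, ⟨⟨hact, hcen, hfour⟩, ?_, ?_⟩, hcard⟩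
  · intro x
    apply hmemO
    rw [c.ha]
    exact dbl hq hF _
  · intro x y
    apply hmemO
    rw [← c.mem_alpha_ker, MonoidHom.mem_ker, map_commutatorElement,
      commutatorElement_eq_one_iff_mul_comm]
    exact mul_comm _ _

end Cfsg.Agent.Lib.Helper7.R2
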