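import Mathlib
import Cfsg.Prelude.Def_Characters
import Cfsg.Prelude.Def_Blocks
import Cfsg.Agent.Lib.helper3.RealOddI2
import Cfsg.Agent.Lib.helper3.Irr15
import Cfsg.Agent.Lib.helper3.FullyRam
import Cfsg.Agent.Lib.helper3.Clifford
import Cfsg.Agent.Lib.Helper4.RealOddIA
import Cfsg.Agent.S0161

set_option autoImplicit false
set_option linter.style.haveILetI false
set_option linter.unusedSectionVars false

/-! S4581 P1-(B1) (helper7). -/

namespace Cfsg.Agent.Lib.Helper7.RealOddB

open Cfsg Cfsg.Agent.Lib.helper3.Irr Cfsg.Agent.Lib.helper3.CharBasic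
open Cfsg.Agent.Lib.helper3.IndFun
open scoped ComplexConjugate

universe u

/-- (B1) = L4. -/
theorem kernel_of_real_odd {X : Type u} [Group X] [Finite X] (K : Subgroup X) [hKn : K.Normal]
    (hK : Odd (Nat.card K)) (χ : IrrCharacter X) (hr : ∀ g : X, ((χ : X → ℂ) g).im = 0)
    (hodd : Odd (charDegree (χ : X → ℂ))) : ∀ k ∈ K, (χ : X → ℂ) k = (χ : X → ℂ) 1 := by
  classical
  letI : Fintype X := Fintype.ofFinite X
  letI : Fintype K := Fintype.ofFinite K
  obtain ⟨θ, hθ⟩ := exists_constituent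
    (isCharacter_restrict (isCharacter_of_isIrrCharacter χ.2) K) (fun h0 =>
      apply_one_ne_zero χ.2 (by simpa using congrFun h0 1))
  have hreal := Cfsg.Agent.Lib.Helper4.RealOddIA.real_of_real_odd_over K χ hr hodd θ hθ
  have h1 : (θ : K → ℂ) = fun _ => 1 := Cfsg.Agent.S0161.result hK θ hreal
  have hres := restrict_eq_smul_of_invariant K (χ : X → ℂ) χ.2 (θ : K → ℂ) θ.2 hθ
    (fun g n => by rw [h1])
  intro k hk
  have e1 := congrFun hres 1
  have ek := congrFun hres ⟨k, hk⟩
  simp only [Pi.smul_apply, smul_eq_mul, h1, mul_one, Subgroup.coe_one] at e1 ek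
  rw [ek, e1]

end Cfsg.Agent.Lib.Helper7.RealOddB
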