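import Mathlib

set_option autoImplicit false

/-! S4581 P1-(B2): the normalizer of the image of a Sylow subgroup under a surjection (helper7). -/

namespace Cfsg.Agent.Lib.Helper7.RealOddB

universe u

open scoped Pointwise

theorem normalizer_map_eq {X Y : Type u} [Group X] [Group Y] [Finite X] (p : ℕ) [Fact p.Prime]
    (f : X →* Y) (hf : Function.Surjective f) (P : Sylow p X) :
    Subgroup.normalizer (((P : Subgroup X).map f : Subgroup Y) : Set Y)
      = (Subgroup.normalizer ((P : Subgroup X) : Set X)).map f := by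
  apply le_antisymm
  · intro y hy
    obtain ⟨x, rfl⟩ := hf y
    set L : Subgroup X := ((P : Subgroup X).map f).comap f with hL
    have hPL : (P : Subgroup X) ≤ L := Subgroup.le_comap_map f _
    have hxPL : ((x • P : Sylow p X) : Subgroup X) ≤ L := by
      intro z hz
      change z ∈ MulAut.conj x • (P : Subgroup X) at hz
      rw [Subgroup.mem_pointwise_smul_iff_inv_smul_mem] at hz
      rw [hL, Subgroup.mem_comap]
      have h1 : f (x⁻¹ * z * x) ∈ (P : Subgroup X).map f := by
        refine ⟨_, ?_, rfl⟩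
        have hz' : x⁻¹ * z * x ∈ (P : Subgroup X) := by
          simpa [MulAut.smul_def] using hz
        exact hz'
      have h2 := ((Subgroup.mem_normalizer_iff.mp hy) (f (x⁻¹ * z * x))).mp h1
      simpa [mul_assoc] using h2
    obtain ⟨h, hh⟩ := MulAction.exists_smul_eq L ((x • P).subtype hxPL) (P.subtype hPL)
    simp_rw [Sylow.smul_subtype, Subgroup.smul_def, smul_smul] at hh
    have hn : (h : X) * x ∈ Subgroup.normalizer ((P : Subgroup X) : Set X) :=
      Sylow.smul_eq_iff_mem_normalizer.mp (Sylow.subtype_injective hh)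
    have hhL : f (h : X) ∈ (P : Subgroup X).map f := h.2
    obtain ⟨p₀, hp₀, hp₀h⟩ := hhL
    refine ⟨p₀⁻¹ * ((h : X) * x), ?_, ?_⟩
    · exact Subgroup.mul_mem _ (Subgroup.inv_mem _ (Subgroup.le_normalizer hp₀)) hn
    · rw [map_mul, map_inv, hp₀h, map_mul, inv_mul_cancel_left]
  · rintro _ ⟨n, hn, rfl⟩
    have hn' := Subgroup.mem_normalizer_iff.mp hn
    rw [Subgroup.mem_normalizer_iff]
    intro y
    constructor
    · rintro ⟨z, hz, rfl⟩
      exact ⟨n * z * n⁻¹, (hn' z).mp hz, by simp⟩
    · rintro ⟨z, hz, hzy⟩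
      refine ⟨n⁻¹ * z * n, ?_, ?_⟩
      · refine (hn' (n⁻¹ * z * n)).mpr ?_
        have : n * (n⁻¹ * z * n) * n⁻¹ = z := by group
        rw [this]; exact hz
      · rw [map_mul, map_mul, hzy, map_inv]
        group

end Cfsg.Agent.Lib.Helper7.RealOddB
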