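import Cfsg.Agent.Lib.RegUni.Core

/-!
# A transvection calculus for a unipotent element and one of its conjugates (helper7)

For `u` in `SL`, a vector `a` and a covector `ψ`, put `a_k = u^k a`, `ψ_j = ψ u^(-j)` and
`Γ d = ψ (u^d a)`.  If `Γ` vanishes on `0, …, Z` with `2 ≤ Z`, the subgroup generated by `u` and
its conjugate under the transvection `1 + a ψ` contains many transvections `1 + c a_k ψ_j`.
-/
set_option autoImplicit false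

namespace Cfsg.Agent.Lib.Helper7.Reg2

open Matrix Cfsg.Agent.RegUni

variable {F : Type*} [Field F] {ι : Type*} [Fintype ι] [DecidableEq ι]

/-- conjugating a transvection by a transvection -/
theorem conj_tv_tv {b β x α : ι → F} (hb : β ⬝ᵥ b = 0) (hx : α ⬝ᵥ x = 0) :
    tv b β * tv x α * (tv b β)⁻¹ = tv (x + (β ⬝ᵥ x) • b) (α - (α ⬝ᵥ b) • β) := by
  have hb' : β ⬝ᵥ (-b) = 0 := by rw [dotProduct_neg, hb, neg_zero]
  rw [conj_tv _ hx, tv_val hb, tv_inv hb, tv_val hb', Tm_mulVec, vecMul_Tm, dotProduct_neg,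
    neg_smul, sub_eq_add_neg]

section seq

variable (u : Matrix.SpecialLinearGroup ι F) (a ψ : ι → F)

/-- the vectors `u ^ k • a` -/
def av (k : ℤ) : ι → F := (u ^ k).1 *ᵥ a

/-- the covectors `ψ • u ^ (-j)` -/
def pv (j : ℤ) : ι → F := ψ ᵥ* (u ^ (-j)).1

/-- the pairing `Γ d = ψ (u ^ d a)` -/
def Gm (d : ℤ) : F := ψ ⬝ᵥ av u a d

theorem av_zero : av u a 0 = a := by
  unfold av; rw [zpow_zero, Matrix.SpecialLinearGroup.coe_one, one_mulVec]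

theorem pv_zero : pv u ψ 0 = ψ := by
  unfold pv; rw [neg_zero, zpow_zero, Matrix.SpecialLinearGroup.coe_one, vecMul_one]

theorem pv_dot_av (j k : ℤ) : pv u ψ j ⬝ᵥ av u a k = Gm u a ψ (k - j) := by
  unfold Gm pv av
  rw [← dotProduct_mulVec, mulVec_mulVec, ← Matrix.SpecialLinearGroup.coe_mul, ← _root_.zpow_add]
  congr 4
  ring

theorem pv_dot_smul_av (j k : ℤ) (c : F) :
    pv u ψ j ⬝ᵥ (c • av u a k) = c * Gm u a ψ (k - j) := by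
  rw [dotProduct_smul, pv_dot_av, smul_eq_mul]

theorem pow_mulVec_av (m k : ℤ) : (u ^ m).1 *ᵥ av u a k = av u a (k + m) := by
  unfold av
  rw [mulVec_mulVec, ← Matrix.SpecialLinearGroup.coe_mul, ← _root_.zpow_add, add_comm]

theorem pv_vecMul_pow_inv (m j : ℤ) : pv u ψ j ᵥ* ((u ^ m)⁻¹).1 = pv u ψ (j + m) := by
  unfold pv
  rw [vecMul_vecMul, ← Matrix.SpecialLinearGroup.coe_mul, ← _root_.zpow_neg, ← _root_.zpow_add]
  congr 3
  ring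

/-- the transvection `1 + c a_k ψ_j` -/
noncomputable def Tk (k j : ℤ) (c : F) : Matrix.SpecialLinearGroup ι F :=
  tv (c • av u a k) (pv u ψ j)

theorem conj_pow_Tk (m k j : ℤ) (c : F) (h : Gm u a ψ (k - j) = 0) :
    u ^ m * Tk u a ψ k j c * (u ^ m)⁻¹ = Tk u a ψ (k + m) (j + m) c := by
  unfold Tk
  rw [conj_tv _ (by rw [pv_dot_smul_av, h, mul_zero]), mulVec_smul, pow_mulVec_av,
    pv_vecMul_pow_inv]

theorem Tk_add (k j : ℤ) (c c' : F) (h : Gm u a ψ (k - j) = 0) :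
    Tk u a ψ k j c * Tk u a ψ k j c' = Tk u a ψ k j (c + c') := by
  unfold Tk
  rw [tv_mul_same_covec (by rw [pv_dot_smul_av, h, mul_zero]) (by rw [pv_dot_smul_av, h, mul_zero]),
    add_smul]

theorem Tk_inv (k j : ℤ) (c : F) (h : Gm u a ψ (k - j) = 0) :
    (Tk u a ψ k j c)⁻¹ = Tk u a ψ k j (-c) := by
  unfold Tk
  rw [tv_inv (by rw [pv_dot_smul_av, h, mul_zero]), neg_smul]

theorem Tk_zero (k j : ℤ) : Tk u a ψ k j 0 = 1 := by
  unfold Tk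
  rw [zero_smul, tv_zero_left]

variable (H : Subgroup (Matrix.SpecialLinearGroup ι F))

/-- the coefficient group `R_d` -/
def Rg (d : ℤ) (hd : Gm u a ψ d = 0) : AddSubgroup F where
  carrier := {c | Tk u a ψ d 0 c ∈ H}
  zero_mem' := by
    show Tk u a ψ d 0 0 ∈ H
    rw [Tk_zero]; exact H.one_mem
  add_mem' := by
    intro c c' hc hc'
    show Tk u a ψ d 0 (c + c') ∈ H
    rw [← Tk_add u a ψ d 0 c c' (by rw [sub_zero]; exact hd)]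
    exact H.mul_mem hc hc'
  neg_mem' := by
    intro c hc
    show Tk u a ψ d 0 (-c) ∈ H
    rw [← Tk_inv u a ψ d 0 c (by rw [sub_zero]; exact hd)]
    exact H.inv_mem hc

theorem mem_Rg {d : ℤ} (hd : Gm u a ψ d = 0) (c : F) :
    c ∈ Rg u a ψ H d hd ↔ Tk u a ψ d 0 c ∈ H := Iff.rfl

variable {u a ψ H}

theorem Tk_mem_iff (hu : u ∈ H) {k j d : ℤ} (e : k - j = d) (hd : Gm u a ψ d = 0) (c : F) :
    Tk u a ψ k j c ∈ H ↔ c ∈ Rg u a ψ H d hd := by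
  subst e
  rw [mem_Rg]
  have e := conj_pow_Tk u a ψ (-j) k j c hd
  rw [add_neg_cancel, ← sub_eq_add_neg] at e
  rw [← e]
  constructor
  · intro hT
    exact H.mul_mem (H.mul_mem (H.zpow_mem hu _) hT) (H.inv_mem (H.zpow_mem hu _))
  · intro hT
    have := H.mul_mem (H.mul_mem (H.inv_mem (H.zpow_mem hu (-j))) hT) (H.zpow_mem hu (-j))
    convert this using 1
    group

/-- rule F1: conjugating `T(d,0;c)` by `T(d'',d''-d';c')`. -/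
theorem F1 (hu : u ∈ H) {d d' d'' : ℤ} (hd : Gm u a ψ d = 0) (hd' : Gm u a ψ d' = 0)
    (hd'' : Gm u a ψ d'' = 0) {c c' : F} (hc : c ∈ Rg u a ψ H d hd)
    (hc' : c' ∈ Rg u a ψ H d' hd') :
    Gm u a ψ (d + d' - d'') * c * c' ∈ Rg u a ψ H d'' hd'' := by
  have ht : Tk u a ψ d 0 c ∈ H := hc
  have ht' : Tk u a ψ d'' (d'' - d') c' ∈ H :=
    (Tk_mem_iff hu (sub_sub_cancel d'' d') hd' c').mpr hc'
  have hb : pv u ψ (d'' - d') ⬝ᵥ (c' • av u a d'') = 0 := by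
    rw [pv_dot_smul_av, sub_sub_cancel, hd', mul_zero]
  have hx : pv u ψ 0 ⬝ᵥ (c • av u a d) = 0 := by
    rw [pv_dot_smul_av, sub_zero, hd, mul_zero]
  have hx'' : pv u ψ 0 ⬝ᵥ (c' • av u a d'') = 0 := by
    rw [pv_dot_smul_av, sub_zero, hd'', mul_zero]
  have hconj := conj_tv_tv hb hx
  rw [hx'', zero_smul, sub_zero, pv_dot_smul_av] at hconj
  have hw : d - (d'' - d') = d + d' - d'' := by ring
  rw [hw, smul_smul] at hconj
  have hx3 : pv u ψ 0 ⬝ᵥ ((c * Gm u a ψ (d + d' - d'') * c') • av u a d'') = 0 := by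
    rw [pv_dot_smul_av, sub_zero, hd'', mul_zero]
  rw [← tv_mul_same_covec hx hx3] at hconj
  have hmem : Tk u a ψ d'' (d'' - d') c' * Tk u a ψ d 0 c * (Tk u a ψ d'' (d'' - d') c')⁻¹ ∈ H :=
    H.mul_mem (H.mul_mem ht' ht) (H.inv_mem ht')
  unfold Tk at hmem ht
  rw [hconj] at hmem
  have h2 := H.mul_mem (H.inv_mem ht) hmem
  rw [inv_mul_cancel_left] at h2
  rw [mem_Rg]
  unfold Tk
  have e3 : Gm u a ψ (d + d' - d'') * c * c' = c * Gm u a ψ (d + d' - d'') * c' := by ring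
  rw [e3]
  exact h2

/-- rule F2: conjugating `T(k,1;c)` by `r₀ = T(0,0;1) T(1,1;1)⁻¹`. -/
theorem F2 (hu : u ∈ H) (hr : Tk u a ψ 0 0 1 * (Tk u a ψ 1 1 1)⁻¹ ∈ H) {k : ℤ}
    (h0 : Gm u a ψ 0 = 0) (hk1 : Gm u a ψ (k - 1) = 0)
    (hk : Gm u a ψ k = 0) {c : F} (hc : c ∈ Rg u a ψ H (k - 1) hk1) :
    -(Gm u a ψ (-1)) * c ∈ Rg u a ψ H k hk := by
  have hT : Tk u a ψ k 1 c ∈ H := (Tk_mem_iff hu rfl hk1 c).mpr hc
  have h11 : Gm u a ψ (1 - 1) = 0 := by rw [sub_self]; exact h0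
  have h00 : Gm u a ψ (0 - 0) = 0 := by rw [sub_self]; exact h0
  have hb1 : pv u ψ 1 ⬝ᵥ ((-1 : F) • av u a 1) = 0 := by
    rw [pv_dot_smul_av, h11, mul_zero]
  have hb0 : pv u ψ 0 ⬝ᵥ ((1 : F) • av u a 0) = 0 := by
    rw [pv_dot_smul_av, h00, mul_zero]
  have hx : pv u ψ 1 ⬝ᵥ (c • av u a k) = 0 := by
    rw [pv_dot_smul_av, hk1, mul_zero]
  have hx0 : pv u ψ 0 ⬝ᵥ (c • av u a k) = 0 := by
    rw [pv_dot_smul_av, sub_zero, hk, mul_zero]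
  -- inner conjugation
  have e1 := conj_tv_tv hb1 hx
  rw [hx, zero_smul, add_zero, hb1, zero_smul, sub_zero] at e1
  -- outer conjugation
  have e2 := conj_tv_tv hb0 hx
  rw [hx0, zero_smul, add_zero, pv_dot_smul_av, one_mul, zero_sub] at e2
  have hinv : (Tk u a ψ 1 1 1)⁻¹ = tv ((-1 : F) • av u a 1) (pv u ψ 1) := by
    rw [Tk_inv u a ψ 1 1 1 h11]; rfl
  have hmem : (Tk u a ψ 0 0 1 * (Tk u a ψ 1 1 1)⁻¹) * Tk u a ψ k 1 c *
      (Tk u a ψ 0 0 1 * (Tk u a ψ 1 1 1)⁻¹)⁻¹ ∈ H :=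
    H.mul_mem (H.mul_mem hr hT) (H.inv_mem hr)
  have hgrp : (Tk u a ψ 0 0 1 * (Tk u a ψ 1 1 1)⁻¹) * Tk u a ψ k 1 c *
      (Tk u a ψ 0 0 1 * (Tk u a ψ 1 1 1)⁻¹)⁻¹
      = Tk u a ψ 0 0 1 * ((Tk u a ψ 1 1 1)⁻¹ * Tk u a ψ k 1 c * ((Tk u a ψ 1 1 1)⁻¹)⁻¹) *
        (Tk u a ψ 0 0 1)⁻¹ := by group
  rw [hgrp, hinv] at hmem
  unfold Tk at hmem hT
  rw [e1, e2] at hmem
  have hs : (-(Gm u a ψ (-1)) • pv u ψ 0) ⬝ᵥ (c • av u a k) = 0 := by
    rw [smul_dotProduct, hx0, smul_zero]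
  rw [sub_eq_add_neg, ← neg_smul, ← tv_mul_same_vec hx hs] at hmem
  have h2 := H.mul_mem (H.inv_mem hT) hmem
  rw [inv_mul_cancel_left, ← tv_smul_comm, smul_smul] at h2
  exact h2

end seq

section start

variable {a0 a1 a2 p0 p1 p2 : ι → F} {ε δ : F}

/-- conjugation by `r = tv a0 p0 * (tv a1 p1)⁻¹`. -/
theorem conj_r (h00 : p0 ⬝ᵥ a0 = 0) (h01 : p0 ⬝ᵥ a1 = 0) (h10 : p1 ⬝ᵥ a0 = ε)
    (h11 : p1 ⬝ᵥ a1 = 0) {x φ : ι → F} (hx : φ ⬝ᵥ x = 0) :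
    (tv a0 p0 * (tv a1 p1)⁻¹) * tv x φ * (tv a0 p0 * (tv a1 p1)⁻¹)⁻¹
      = tv (x - (p1 ⬝ᵥ x) • a1 + (p0 ⬝ᵥ x) • a0)
          (φ + (φ ⬝ᵥ a1) • p1 - (φ ⬝ᵥ a0 + (φ ⬝ᵥ a1) * ε) • p0) := by
  have h11' : p1 ⬝ᵥ (-a1) = 0 := by rw [dotProduct_neg, h11, neg_zero]
  have hgrp : (tv a0 p0 * (tv a1 p1)⁻¹) * tv x φ * (tv a0 p0 * (tv a1 p1)⁻¹)⁻¹
      = tv a0 p0 * ((tv a1 p1)⁻¹ * tv x φ * ((tv a1 p1)⁻¹)⁻¹) * (tv a0 p0)⁻¹ := by group
  rw [hgrp, tv_inv h11, conj_tv_tv h11' hx]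
  have hx' : (φ - (φ ⬝ᵥ (-a1)) • p1) ⬝ᵥ (x + (p1 ⬝ᵥ x) • (-a1)) = 0 := by
    simp only [sub_dotProduct, dotProduct_add, dotProduct_smul, smul_dotProduct, dotProduct_neg,
      smul_eq_mul, hx, h11]
    ring
  rw [conj_tv_tv h00 hx']
  congr 1
  · simp only [dotProduct_add, dotProduct_smul, dotProduct_neg, smul_eq_mul, h01]
    module
  · simp only [sub_dotProduct, smul_dotProduct, dotProduct_neg, smul_eq_mul, h10]
    module

/-- the double commutator `[[r₀, r₁], r₀]` is a single transvection. -/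
theorem start_aux (H : Subgroup (Matrix.SpecialLinearGroup ι F))
    (h00 : p0 ⬝ᵥ a0 = 0) (h01 : p0 ⬝ᵥ a1 = 0) (h02 : p0 ⬝ᵥ a2 = 0)
    (h10 : p1 ⬝ᵥ a0 = ε) (h11 : p1 ⬝ᵥ a1 = 0) (h12 : p1 ⬝ᵥ a2 = 0)
    (h20 : p2 ⬝ᵥ a0 = δ) (h21 : p2 ⬝ᵥ a1 = ε) (h22 : p2 ⬝ᵥ a2 = 0)
    (hr0 : tv a0 p0 * (tv a1 p1)⁻¹ ∈ H) (hr1 : tv a1 p1 * (tv a2 p2)⁻¹ ∈ H) :
    tv a2 ((-(ε * ε)) • p0) ∈ H := by
  set r0 := tv a0 p0 * (tv a1 p1)⁻¹ with hr0def
  set r1 := tv a1 p1 * (tv a2 p2)⁻¹ with hr1def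
  -- conjugates of t1, t2 by r0
  have e1 : r0 * tv a1 p1 * r0⁻¹ = tv a1 (p1 - ε • p0) := by
    rw [hr0def, conj_r h00 h01 h10 h11 h11]
    congr 1
    · rw [h11, h01]; module
    · rw [h11, h10]; module
  have e2 : r0 * tv a2 p2 * r0⁻¹ = tv a2 (p2 + ε • p1 - (δ + ε * ε) • p0) := by
    rw [hr0def, conj_r h00 h01 h10 h11 h22]
    congr 1
    · rw [h12, h02]; module
    · rw [h21, h20]
  -- the commutator c = [r0, r1]
  set θ : ι → F := p2 + ε • p1 - (δ + ε * ε) • p0 with hθ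
  have hθ2 : θ ⬝ᵥ a2 = 0 := by
    simp only [hθ, sub_dotProduct, add_dotProduct, smul_dotProduct, h22, h12, h02]
    simp
  set β' : ι → F := -(ε • p1) + (δ + ε * ε) • p0 with hβ'
  have hβ2 : β' ⬝ᵥ a2 = 0 := by
    simp only [hβ', add_dotProduct, neg_dotProduct, smul_dotProduct, h12, h02]
    simp
  have hβ1 : β' ⬝ᵥ a1 = 0 := by
    simp only [hβ', add_dotProduct, neg_dotProduct, smul_dotProduct, h11, h01]
    simp
  have hβ0 : β' ⬝ᵥ a0 = -(ε * ε) := by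
    simp only [hβ', add_dotProduct, neg_dotProduct, smul_dotProduct, h10, h00]
    simp
  set α' : ι → F := p1 - ε • p0 with hα'
  have hα1 : α' ⬝ᵥ a1 = 0 := by
    simp only [hα', sub_dotProduct, smul_dotProduct, h11, h01]
    simp
  have hα2 : α' ⬝ᵥ a2 = 0 := by
    simp only [hα', sub_dotProduct, smul_dotProduct, h12, h02]
    simp
  have hnegp1 : (-p1) ⬝ᵥ a1 = 0 := by rw [neg_dotProduct, h11, neg_zero]
  have hinv_t : ∀ {x φ : ι → F}, φ ⬝ᵥ x = 0 → (tv x φ)⁻¹ = tv x (-φ) := by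
    intro x φ h
    rw [tv_inv h]
    have := tv_smul_comm (-1 : F) x φ
    rwa [neg_one_smul, neg_one_smul] at this
  have hc : r0 * r1 * r0⁻¹ * r1⁻¹ = tv a2 β' * tv a1 ((-ε) • p0) := by
    have hg : r0 * r1 * r0⁻¹ * r1⁻¹
        = (r0 * tv a1 p1 * r0⁻¹) * ((r0 * tv a2 p2 * r0⁻¹)⁻¹ * tv a2 p2) * (tv a1 p1)⁻¹ := by
      rw [hr1def]; group
    rw [hg, e1, e2, hinv_t hθ2, hinv_t h11]
    have hnθ : (-θ) ⬝ᵥ a2 = 0 := by rw [neg_dotProduct, hθ2, neg_zero]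
    rw [tv_mul_same_vec hnθ h22]
    have hβeq : -θ + p2 = β' := by rw [hθ, hβ']; module
    rw [hβeq]
    -- move tv a2 β' to the front
    have hconj := conj_tv_tv hα1 hβ2
    rw [hα2, zero_smul, add_zero, hβ1, zero_smul, sub_zero] at hconj
    have hg2 : tv a1 α' * tv a2 β' * tv a1 (-p1)
        = (tv a1 α' * tv a2 β' * (tv a1 α')⁻¹) * (tv a1 α' * tv a1 (-p1)) := by group
    rw [hg2, hconj, tv_mul_same_vec hα1 hnegp1]
    congr 2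
    rw [hα']; module
  have hcH : tv a2 β' * tv a1 ((-ε) • p0) ∈ H := by
    rw [← hc]
    exact H.mul_mem (H.mul_mem (H.mul_mem hr0 hr1) (H.inv_mem hr0)) (H.inv_mem hr1)
  -- conjugate c by r0
  have hε0 : ((-ε) • p0) ⬝ᵥ a1 = 0 := by rw [smul_dotProduct, h01, smul_zero]
  have f1 : r0 * tv a2 β' * r0⁻¹ = tv a2 (β' + (ε * ε) • p0) := by
    rw [hr0def, conj_r h00 h01 h10 h11 hβ2]
    congr 1
    · rw [h12, h02]; module
    · rw [hβ1, hβ0]; module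
  have f2 : r0 * tv a1 ((-ε) • p0) * r0⁻¹ = tv a1 ((-ε) • p0) := by
    rw [hr0def, conj_r h00 h01 h10 h11 hε0]
    congr 1
    · rw [h11, h01]; module
    · rw [hε0, smul_dotProduct, h00]; module
  have hconjH : tv a2 (β' + (ε * ε) • p0) * tv a1 ((-ε) • p0) ∈ H := by
    have := H.mul_mem (H.mul_mem hr0 hcH) (H.inv_mem hr0)
    have hg3 : r0 * (tv a2 β' * tv a1 ((-ε) • p0)) * r0⁻¹
        = (r0 * tv a2 β' * r0⁻¹) * (r0 * tv a1 ((-ε) • p0) * r0⁻¹) := by group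
    rwa [hg3, f1, f2] at this
  have hβ2' : (β' + (ε * ε) • p0) ⬝ᵥ a2 = 0 := by
    rw [add_dotProduct, hβ2, smul_dotProduct, h02, smul_zero, add_zero]
  have hW := H.mul_mem hcH (H.inv_mem hconjH)
  have hg4 : tv a2 β' * tv a1 ((-ε) • p0) * (tv a2 (β' + (ε * ε) • p0) * tv a1 ((-ε) • p0))⁻¹
      = tv a2 β' * (tv a2 (β' + (ε * ε) • p0))⁻¹ := by group
  rw [hg4, hinv_t hβ2'] at hW
  have hn : (-(β' + (ε * ε) • p0)) ⬝ᵥ a2 = 0 := by rw [neg_dotProduct, hβ2', neg_zero]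
  rw [tv_mul_same_vec hβ2 hn] at hW
  have hfin : β' + -(β' + (ε * ε) • p0) = (-(ε * ε)) • p0 := by module
  rwa [hfin] at hW

end start

section main

variable {u : Matrix.SpecialLinearGroup ι F} {a ψ : ι → F}
  {H : Subgroup (Matrix.SpecialLinearGroup ι F)}

theorem Tk_one_eq (i : ℤ) : Tk u a ψ i i 1 = tv (av u a i) (pv u ψ i) := by
  unfold Tk; rw [one_smul]

theorem r1_mem (hu : u ∈ H) (h0 : Gm u a ψ 0 = 0)
    (hr : Tk u a ψ 0 0 1 * (Tk u a ψ 1 1 1)⁻¹ ∈ H) :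
    Tk u a ψ 1 1 1 * (Tk u a ψ 2 2 1)⁻¹ ∈ H := by
  have h00 : Gm u a ψ (0 - 0) = 0 := by rw [sub_self]; exact h0
  have h11 : Gm u a ψ (1 - 1) = 0 := by rw [sub_self]; exact h0
  have e0 := conj_pow_Tk u a ψ 1 0 0 1 h00
  have e1 := conj_pow_Tk u a ψ 1 1 1 1 h11
  rw [zpow_one] at e0 e1
  norm_num at e0 e1
  have := H.mul_mem (H.mul_mem hu hr) (H.inv_mem hu)
  have hg : u * (Tk u a ψ 0 0 1 * (Tk u a ψ 1 1 1)⁻¹) * u⁻¹
      = (u * Tk u a ψ 0 0 1 * u⁻¹) * (u * Tk u a ψ 1 1 1 * u⁻¹)⁻¹ := by group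
  rwa [hg, e0, e1] at this

/-- the starting element of `R₂`. -/
theorem start (hu : u ∈ H) (hr : Tk u a ψ 0 0 1 * (Tk u a ψ 1 1 1)⁻¹ ∈ H)
    (h0 : Gm u a ψ 0 = 0) (h1 : Gm u a ψ 1 = 0) (h2 : Gm u a ψ 2 = 0) :
    Tk u a ψ 2 0 (-(Gm u a ψ (-1) * Gm u a ψ (-1))) ∈ H := by
  have hr1 := r1_mem hu h0 hr
  rw [Tk_one_eq, Tk_one_eq] at hr hr1
  have key := start_aux (ε := Gm u a ψ (-1)) (δ := Gm u a ψ (-2)) H
    (a0 := av u a 0) (a1 := av u a 1) (a2 := av u a 2)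
    (p0 := pv u ψ 0) (p1 := pv u ψ 1) (p2 := pv u ψ 2)
    (by rw [pv_dot_av, sub_self]; exact h0)
    (by rw [pv_dot_av, sub_zero]; exact h1)
    (by rw [pv_dot_av, sub_zero]; exact h2)
    (by rw [pv_dot_av, zero_sub])
    (by rw [pv_dot_av, sub_self]; exact h0)
    (by rw [pv_dot_av]; norm_num; exact h1)
    (by rw [pv_dot_av, zero_sub])
    (by rw [pv_dot_av]; norm_num)
    (by rw [pv_dot_av, sub_self]; exact h0)
    hr hr1
  unfold Tk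
  rw [tv_smul_comm]
  exact key

end main

section sarg

variable (u : Matrix.SpecialLinearGroup ι F) (a ψ : ι → F)
  (H : Subgroup (Matrix.SpecialLinearGroup ι F))

/-- the hypotheses of the calculus: the pairing vanishes on `0, …, Z` (with `2 ≤ Z`). -/
structure Cal (Z : ℕ) : Prop where
  hu : u ∈ H
  hr : Tk u a ψ 0 0 1 * (Tk u a ψ 1 1 1)⁻¹ ∈ H
  hZ : 2 ≤ Z
  zero : ∀ d : ℕ, d ≤ Z → Gm u a ψ (d : ℤ) = 0
  eps : Gm u a ψ (-1) ≠ 0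

variable {u a ψ H} {Z : ℕ}

theorem Cal.F2iter (h : Cal u a ψ H Z) (j k : ℕ) (hjk : j + k ≤ Z) {c : F}
    (hc : Tk u a ψ (j : ℤ) 0 c ∈ H) :
    Tk u a ψ ((j + k : ℕ) : ℤ) 0 ((-(Gm u a ψ (-1))) ^ k * c) ∈ H := by
  induction k with
  | zero => simpa using hc
  | succ k ih =>
    have ih' := ih (by omega)
    have e : ((j + (k + 1) : ℕ) : ℤ) - 1 = ((j + k : ℕ) : ℤ) := by push_cast; ring
    have hk1 : Gm u a ψ (((j + (k + 1) : ℕ) : ℤ) - 1) = 0 := by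
      rw [e]; exact h.zero _ (by omega)
    have hk : Gm u a ψ ((j + (k + 1) : ℕ) : ℤ) = 0 := h.zero _ hjk
    have h0 : Gm u a ψ 0 = 0 := by simpa using h.zero 0 (by omega)
    have hc1 : (-(Gm u a ψ (-1))) ^ k * c ∈ Rg u a ψ H (((j + (k + 1) : ℕ) : ℤ) - 1) hk1 := by
      rw [mem_Rg]
      rw [e]; exact ih'
    have := F2 h.hu h.hr h0 hk1 hk hc1
    rw [mem_Rg] at this
    rw [pow_succ, mul_assoc, mul_comm ((-(Gm u a ψ (-1))) ^ k), ]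
    convert this using 2
    ring

theorem Cal.zero' (h : Cal u a ψ H Z) : Gm u a ψ 0 = 0 := by
  simpa using h.zero 0 (by omega)

theorem Cal.mem2 (h : Cal u a ψ H Z) :
    Tk u a ψ ((2 : ℕ) : ℤ) 0 (-(Gm u a ψ (-1) * Gm u a ψ (-1))) ∈ H := by
  have h1 : Gm u a ψ 1 = 0 := by simpa using h.zero 1 (by have := h.hZ; omega)
  have h2 : Gm u a ψ 2 = 0 := by simpa using h.zero 2 h.hZ
  simpa using start h.hu h.hr h.zero' h1 h2

/-- rule F1 in terms of natural indices, with target index `d''`. -/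
theorem Cal.F1 (h : Cal u a ψ H Z) {d d' d'' : ℕ} (hd : d ≤ Z) (hd' : d' ≤ Z) (hd'' : d'' ≤ Z)
    (w : ℤ) (hw : w = (d : ℤ) + d' - d'') {c c' : F}
    (hc : Tk u a ψ (d : ℤ) 0 c ∈ H) (hc' : Tk u a ψ (d' : ℤ) 0 c' ∈ H) :
    Tk u a ψ (d'' : ℤ) 0 (Gm u a ψ w * c * c') ∈ H := by
  subst hw
  exact Reg2.F1 h.hu (h.zero d hd) (h.zero d' hd') (h.zero d'' hd'') hc hc'

/-- the multipliers of `R₀`. -/
def Sg (h0 : Gm u a ψ 0 = 0) : Subring F where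
  carrier := {s | ∀ c : F, Tk u a ψ 0 0 c ∈ H → Tk u a ψ 0 0 (s * c) ∈ H}
  mul_mem' := by
    intro s t hs ht c hc
    rw [mul_assoc]
    exact hs _ (ht _ hc)
  one_mem' := by
    intro c hc
    rwa [one_mul]
  add_mem' := by
    intro s t hs ht c hc
    rw [add_mul, ← Tk_add u a ψ 0 0 _ _ (by rw [sub_self]; exact h0)]
    exact H.mul_mem (hs _ hc) (ht _ hc)
  zero_mem' := by
    intro c _
    rw [zero_mul, Tk_zero]
    exact H.one_mem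
  neg_mem' := by
    intro s hs c hc
    rw [neg_mul, ← Tk_inv u a ψ 0 0 _ (by rw [sub_self]; exact h0)]
    exact H.inv_mem (hs _ hc)

theorem mem_Sg (h0 : Gm u a ψ 0 = 0) (s : F) :
    s ∈ Sg (H := H) h0 ↔ ∀ c : F, Tk u a ψ 0 0 c ∈ H → Tk u a ψ 0 0 (s * c) ∈ H := Iff.rfl

/-- cycles `R₀ → R_d → R₀` give multipliers. -/
theorem Cal.cycle (h : Cal u a ψ H Z) {d d' : ℕ} (hd : d ≤ Z) (hd' : d' ≤ Z) {c' : F}
    (hc' : Tk u a ψ (d' : ℤ) 0 c' ∈ H) :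
    Gm u a ψ ((d : ℤ) + d') * (-(Gm u a ψ (-1))) ^ d * c' ∈ Sg (H := H) h.zero' := by
  rw [mem_Sg]
  intro c hc
  have h1 := h.F2iter 0 d (by omega) (c := c) (by simpa using hc)
  rw [Nat.zero_add] at h1
  have h2 := h.F1 hd hd' (Nat.zero_le Z) ((d : ℤ) + d') (by push_cast; ring) h1 hc'
  rw [Nat.cast_zero] at h2
  have e : Gm u a ψ ((d : ℤ) + d') * (-(Gm u a ψ (-1))) ^ d * c' * c
      = Gm u a ψ ((d : ℤ) + d') * ((-(Gm u a ψ (-1))) ^ d * c) * c' := by ring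
  rw [e]
  exact h2

theorem Cal.nonzero (h : Cal u a ψ H Z) (hwrap : Gm u a ψ ((Z : ℤ) + 1) ≠ 0) :
    ∃ c : F, c ≠ 0 ∧ Tk u a ψ 0 0 c ∈ H := by
  have hZ := h.hZ
  set ε := Gm u a ψ (-1) with hε
  have hε0 : ε ≠ 0 := h.eps
  have m2 := h.mem2
  -- R_Z
  have mZ := h.F2iter 2 (Z - 2) (by omega) m2
  have e : 2 + (Z - 2) = Z := by omega
  rw [e] at mZ
  -- R_1
  have m1 := h.F1 (le_refl Z) hZ (by omega : 1 ≤ Z) ((Z : ℤ) + 1) (by push_cast; ring) mZ m2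
  -- R_0
  have m0 := h.F1 (le_refl Z) (by omega : 1 ≤ Z) (Nat.zero_le Z) ((Z : ℤ) + 1)
    (by push_cast; ring) mZ m1
  rw [Nat.cast_zero] at m0
  refine ⟨_, ?_, m0⟩
  have hc2 : -(ε * ε) ≠ 0 := neg_ne_zero.mpr (mul_ne_zero hε0 hε0)
  have hcZ : (-ε) ^ (Z - 2) * -(ε * ε) ≠ 0 :=
    mul_ne_zero (pow_ne_zero _ (neg_ne_zero.mpr hε0)) hc2
  exact mul_ne_zero (mul_ne_zero hwrap hcZ) (mul_ne_zero (mul_ne_zero hwrap hcZ) hc2)

/-- if every scalar is a multiplier of `R₀` then all `R_d`, `d ≤ Z`, are everything. -/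
theorem Cal.all_of_Sg_top (h : Cal u a ψ H Z) (hwrap : Gm u a ψ ((Z : ℤ) + 1) ≠ 0)
    (hS : Sg (H := H) h.zero' = ⊤) (d : ℕ) (hd : d ≤ Z) (c : F) :
    Tk u a ψ (d : ℤ) 0 c ∈ H := by
  obtain ⟨c0, hc0, hm0⟩ := h.nonzero hwrap
  have h0 : ∀ c : F, Tk u a ψ 0 0 c ∈ H := by
    intro c
    have hs : c * c0⁻¹ ∈ Sg (H := H) h.zero' := by rw [hS]; trivial
    have := (mem_Sg _ _).mp hs c0 hm0
    rwa [mul_assoc, inv_mul_cancel₀ hc0, mul_one] at this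
  have hε0 : -(Gm u a ψ (-1)) ≠ 0 := neg_ne_zero.mpr h.eps
  have := h.F2iter 0 d (by omega) (c := ((-(Gm u a ψ (-1))) ^ d)⁻¹ * c) (by simpa using h0 _)
  rw [Nat.zero_add, ← mul_assoc, mul_inv_cancel₀ (pow_ne_zero _ hε0), one_mul] at this
  exact this

end sarg


section closure

variable {u : Matrix.SpecialLinearGroup ι F} {a ψ : ι → F}
  {H : Subgroup (Matrix.SpecialLinearGroup ι F)}

/-- `r₀ = v u⁻¹` for `v = g u g⁻¹`, `g = T(0,0;1)`. -/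
theorem hr_of_mem (hu : u ∈ H) (hv : Tk u a ψ 0 0 1 * u * (Tk u a ψ 0 0 1)⁻¹ ∈ H)
    (h0 : Gm u a ψ 0 = 0) : Tk u a ψ 0 0 1 * (Tk u a ψ 1 1 1)⁻¹ ∈ H := by
  have h00 : Gm u a ψ (0 - 0) = 0 := by rw [sub_self]; exact h0
  have e0 := conj_pow_Tk u a ψ 1 0 0 1 h00
  rw [zpow_one] at e0
  norm_num at e0
  have := H.mul_mem hv (H.inv_mem hu)
  have hg : Tk u a ψ 0 0 1 * u * (Tk u a ψ 0 0 1)⁻¹ * u⁻¹
      = Tk u a ψ 0 0 1 * (u * Tk u a ψ 0 0 1 * u⁻¹)⁻¹ := by group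
  rwa [hg, e0] at this

theorem Tk_zero_zero_one : Tk u a ψ 0 0 1 = tv a ψ := by
  unfold Tk
  rw [one_smul, av_zero, pv_zero]

end closure

section finite

variable [Fintype F]

/-- a subring of a finite field is closed under inverses. -/
theorem inv_mem_subring (S : Subring F) {x : F} (hx : x ∈ S) : x⁻¹ ∈ S := by
  by_cases h0 : x = 0
  · rw [h0, _root_.inv_zero]; exact S.zero_mem
  · have hq : 2 ≤ Fintype.card F := Fintype.one_lt_card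
    have h1 : x ^ (Fintype.card F - 1) = 1 := FiniteField.pow_card_sub_one_eq_one x h0
    have h2 : x * x ^ (Fintype.card F - 2) = 1 := by
      rw [← pow_succ', show Fintype.card F - 2 + 1 = Fintype.card F - 1 by omega, h1]
    have h3 : x⁻¹ = x ^ (Fintype.card F - 2) := by
      rw [← mul_one x⁻¹, ← h2, ← mul_assoc, inv_mul_cancel₀ h0, one_mul]
    rw [h3]
    exact S.pow_mem hx _

omit [Fintype F] in
/-- a subring containing a generator of the multiplicative group is everything. -/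
theorem subring_top_of_gen (S : Subring F) {μ : F} (hμ : μ ∈ S)
    (hgen : ∀ x : F, x ≠ 0 → ∃ k : ℕ, x = μ ^ k) : S = ⊤ := by
  rw [eq_top_iff]
  intro x _
  by_cases h0 : x = 0
  · rw [h0]; exact S.zero_mem
  · obtain ⟨k, rfl⟩ := hgen x h0
    exact S.pow_mem hμ k

/-- in a field of prime order every subring is everything. -/
theorem subring_top_of_prime (hp : (Fintype.card F).Prime) (S : Subring F) : S = ⊤ := by
  have : Fact (Nat.card F).Prime := ⟨by rw [Nat.card_eq_fintype_card]; exact hp⟩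
  rcases AddSubgroup.eq_bot_or_eq_top_of_prime_card S.toAddSubgroup with h | h
  · exfalso
    have h1 : (1 : F) ∈ S.toAddSubgroup := S.one_mem
    rw [h] at h1
    exact one_ne_zero (AddSubgroup.mem_bot.mp h1)
  · rw [eq_top_iff]
    intro x _
    have : x ∈ S.toAddSubgroup := by rw [h]; trivial
    exact this

end finite

end Cfsg.Agent.Lib.Helper7.Reg2
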