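import Cfsg.Agent.Lib.Helper7.Reg2A
import Cfsg.Agent.Lib.Helper7.RegUnipE

/-!
# Coordinates of the powers of the Jordan block (helper7)
-/

set_option autoImplicit false

namespace Cfsg.Agent.Lib.Helper7.Reg2

open Matrix Cfsg.Agent.RegUni

variable {n : ℕ} {F : Type*} [Field F]

/-- coordinates indexed by natural numbers (zero out of range). -/
def co (x : Fin n → F) (i : ℕ) : F := (RegUnip.ev i : Fin n → F) ⬝ᵥ x

theorem co_apply (x : Fin n → F) (i : Fin n) : co x i.val = x i := by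
  unfold co
  rw [RegUnip.ev_dot x i.val i.isLt]

theorem co_of_le (x : Fin n → F) (i : ℕ) (hi : n ≤ i) : co x i = 0 := by
  unfold co
  rw [RegUnip.ev_eq_zero i hi, zero_dotProduct]

theorem ext_co {x y : Fin n → F} (h : ∀ i, i < n → co x i = co y i) : x = y := by
  ext i
  rw [← co_apply x i, ← co_apply y i]
  exact h i.val i.isLt

theorem co_add (x y : Fin n → F) (i : ℕ) : co (x + y) i = co x i + co y i := by
  unfold co; rw [dotProduct_add]

theorem co_sub (x y : Fin n → F) (i : ℕ) : co (x - y) i = co x i - co y i := by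
  unfold co; rw [dotProduct_sub]

theorem co_smul (c : F) (x : Fin n → F) (i : ℕ) : co (c • x) i = c * co x i := by
  unfold co; rw [dotProduct_smul, smul_eq_mul]

theorem co_Jm_mulVec (x : Fin n → F) (i : ℕ) :
    co ((RegUnip.Jm : Matrix (Fin n) (Fin n) F) *ᵥ x) i = co x i + co x (i + 1) := by
  unfold co
  rw [dotProduct_mulVec, RegUnip.ev_vecMul_Jm, add_dotProduct]

theorem co_ev (k i : ℕ) (hk : k < n) :
    co (RegUnip.ev k : Fin n → F) i = if i = k then 1 else 0 := by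
  unfold co
  by_cases h : i = k
  · rw [if_pos h, h, RegUnip.ev_dot_ev_self hk]
  · rw [if_neg h, RegUnip.ev_dot_ev_ne h]

/-- `J ^ k e_{n-1}` -/
def xk (n : ℕ) (F : Type*) [Field F] (k : ℕ) : Fin n → F :=
  ((RegUnip.Jm : Matrix (Fin n) (Fin n) F) ^ k) *ᵥ RegUnip.ev (n - 1)

theorem xk_zero : xk n F 0 = RegUnip.ev (n - 1) := by
  unfold xk; rw [pow_zero, one_mulVec]

theorem xk_succ (k : ℕ) :
    xk n F (k + 1) = (RegUnip.Jm : Matrix (Fin n) (Fin n) F) *ᵥ xk n F k := by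
  unfold xk; rw [pow_succ', mulVec_mulVec]

theorem co_xk (k i : ℕ) (hi : i < n) : co (xk n F k) i = (Nat.choose k (n - 1 - i) : F) := by
  induction k generalizing i with
  | zero =>
    rw [xk_zero, co_ev _ _ (by omega)]
    by_cases h : i = n - 1
    · rw [if_pos h, h, Nat.sub_self, Nat.choose_self, Nat.cast_one]
    · rw [if_neg h]
      obtain ⟨m, hm⟩ : ∃ m, n - 1 - i = m + 1 := ⟨n - 1 - i - 1, by omega⟩
      rw [hm, Nat.choose_zero_succ, Nat.cast_zero]
  | succ k ih =>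
    rw [xk_succ, co_Jm_mulVec, ih i hi]
    by_cases h : i + 1 < n
    · rw [ih (i + 1) h]
      obtain ⟨m, hm⟩ : ∃ m, n - 1 - i = m + 1 := ⟨n - 1 - i - 1, by omega⟩
      have hm' : n - 1 - (i + 1) = m := by omega
      rw [hm, hm', Nat.choose_succ_succ', Nat.cast_add, add_comm]
    · rw [co_of_le _ _ (by omega)]
      have : n - 1 - i = 0 := by omega
      rw [this, Nat.choose_zero_right, Nat.choose_zero_right, add_zero]

/-- the Jordan block in `SL`. -/
def uJ (n : ℕ) (F : Type*) [Field F] : Matrix.SpecialLinearGroup (Fin n) F :=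
  ⟨RegUnip.Jm, RegUnip.det_Jm⟩

theorem uJ_val : (uJ n F).1 = RegUnip.Jm := rfl

theorem av_nat (a : Fin n → F) (d : ℕ) :
    av (uJ n F) a (d : ℤ) = ((RegUnip.Jm : Matrix (Fin n) (Fin n) F) ^ d) *ᵥ a := by
  unfold av
  rw [zpow_natCast, Matrix.SpecialLinearGroup.coe_pow, uJ_val]

theorem av_nat_smul_ev (s : F) (d : ℕ) :
    av (uJ n F) (s • (RegUnip.ev (n - 1) : Fin n → F)) (d : ℤ) = s • xk n F d := by
  rw [av_nat, mulVec_smul]; rfl

/-- the alternating vector `J⁻¹ e_{n-1}`. -/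
def yv (n : ℕ) (F : Type*) [Field F] : Fin n → F := fun i => (-1) ^ (n - 1 - i.val)

theorem co_yv (i : ℕ) (hi : i < n) : co (yv n F) i = (-1) ^ (n - 1 - i) := by
  have := co_apply (yv n F) ⟨i, hi⟩
  rw [this]; rfl

theorem Jm_mulVec_yv (hn : 1 ≤ n) :
    (RegUnip.Jm : Matrix (Fin n) (Fin n) F) *ᵥ yv n F = RegUnip.ev (n - 1) := by
  apply ext_co
  intro i hi
  rw [co_Jm_mulVec, co_yv i hi, co_ev _ _ (by omega)]
  by_cases h : i + 1 < n
  · rw [co_yv (i + 1) h, if_neg (by omega)]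
    obtain ⟨m, hm⟩ : ∃ m, n - 1 - i = m + 1 := ⟨n - 1 - i - 1, by omega⟩
    have hm' : n - 1 - (i + 1) = m := by omega
    rw [hm, hm', pow_succ]
    ring
  · rw [co_of_le _ _ (by omega), if_pos (by omega)]
    have : n - 1 - i = 0 := by omega
    rw [this, pow_zero, add_zero]

theorem av_neg_one (hn : 1 ≤ n) :
    av (uJ n F) (RegUnip.ev (n - 1) : Fin n → F) (-1) = yv n F := by
  unfold av
  rw [_root_.zpow_neg_one, ← Jm_mulVec_yv hn, ← uJ_val, mulVec_mulVec, inv_val_mul, one_mulVec]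

theorem av_neg_one_smul (hn : 1 ≤ n) (s : F) :
    av (uJ n F) (s • (RegUnip.ev (n - 1) : Fin n → F)) (-1) = s • yv n F := by
  have := av_neg_one (F := F) hn
  unfold av at this ⊢
  rw [mulVec_smul, this]

end Cfsg.Agent.Lib.Helper7.Reg2
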