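import Cfsg.Agent.Lib.Helper7.Reg2B

/-!
# Completion arguments: from many transvections to the whole of `SL` (helper7)
-/

set_option autoImplicit false

namespace Cfsg.Agent.Lib.Helper7.Reg2

open Matrix Cfsg.Agent.RegUni

section general

variable {F : Type*} [Field F] {ι : Type*} [Fintype ι] [DecidableEq ι]
  {H : Subgroup (Matrix.SpecialLinearGroup ι F)}

theorem Qin_smul {φ : ι → F} (h : Qin H φ) {c : F} (hc : c ≠ 0) : Qin H (c • φ) := by
  intro x hx
  rw [smul_dotProduct, smul_eq_mul] at hx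
  have hx' : φ ⬝ᵥ x = 0 := by
    rcases mul_eq_zero.mp hx with h1 | h1
    · exact absurd h1 hc
    · exact h1
  rw [← tv_smul_comm]
  apply h
  rw [dotProduct_smul, hx', smul_zero]

/-- two covectors with nested kernels are proportional. -/
theorem exists_smul_of_ker {φ φ' : ι → F} (h0 : φ' ≠ 0)
    (h : ∀ b : ι → F, φ' ⬝ᵥ b = 0 → φ ⬝ᵥ b = 0) : ∃ c : F, φ = c • φ' := by
  obtain ⟨i, hi⟩ : ∃ i, φ' i ≠ 0 := by
    by_contra hcon
    push Not at hcon
    exact h0 (funext hcon)
  refine ⟨φ i / φ' i, ?_⟩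
  ext k
  have hb := h (Pi.single k 1 - (φ' k / φ' i) • Pi.single i 1) (by
    rw [dotProduct_sub, dotProduct_smul, dotProduct_single, dotProduct_single, mul_one, mul_one,
      smul_eq_mul, div_mul_cancel₀ _ hi, sub_self])
  rw [dotProduct_sub, dotProduct_smul, dotProduct_single, dotProduct_single, mul_one, mul_one,
    smul_eq_mul, sub_eq_zero] at hb
  rw [Pi.smul_apply, smul_eq_mul, hb]
  field_simp

variable (H)

/-- the covectors all of whose transvections lie in `H`, together with `0`, form a subspace. -/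
def Sq : Submodule F (ι → F) where
  carrier := {φ | φ = 0 ∨ Qin H φ}
  zero_mem' := Or.inl rfl
  smul_mem' := by
    intro c φ hφ
    by_cases hc : c = 0
    · left; rw [hc, zero_smul]
    · rcases hφ with h | h
      · left; rw [h, smul_zero]
      · right; exact Qin_smul h hc
  add_mem' := by
    intro φ φ' hφ hφ'
    rcases hφ with h | h
    · rw [h, zero_add]; exact hφ'
    rcases hφ' with h' | h'
    · rw [h', add_zero]; exact Or.inr h
    by_cases hex : ∃ b : ι → F, φ' ⬝ᵥ b = 0 ∧ φ ⬝ᵥ b ≠ 0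
    · obtain ⟨b, hb0, hb1⟩ := hex
      right
      have hb0' : φ' ⬝ᵥ ((φ ⬝ᵥ b)⁻¹ • b) = 0 := by rw [dotProduct_smul, hb0, smul_zero]
      have hg : tv ((φ ⬝ᵥ b)⁻¹ • b) φ' ∈ H := h' _ hb0'
      have := Qin_conj hg h
      rw [tv_val hb0', vecMul_Tm, dotProduct_smul, smul_eq_mul, inv_mul_cancel₀ hb1, one_smul]
        at this
      exact this
    · push Not at hex
      by_cases h0 : φ' = 0
      · rw [h0, add_zero]; exact Or.inr h
      obtain ⟨c, hc⟩ := exists_smul_of_ker h0 hex
      by_cases hc1 : c + 1 = 0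
      · left
        rw [hc, ← one_smul F φ', smul_smul, ← add_smul, mul_one, hc1, zero_smul]
      · right
        have : φ + φ' = (c + 1) • φ' := by rw [hc, add_smul, one_smul]
        rw [this]
        exact Qin_smul h' hc1

variable {H}

theorem mem_Sq (φ : ι → F) : φ ∈ Sq H ↔ φ = 0 ∨ Qin H φ := Iff.rfl

theorem Sq_vecMul {g : Matrix.SpecialLinearGroup ι F} (hg : g ∈ H) {φ : ι → F} (h : φ ∈ Sq H) :
    φ ᵥ* g.1 ∈ Sq H := by
  rcases h with h | h
  · left; rw [h, zero_vecMul]
  · right; exact Qin_conj hg h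

end general

section jordan

variable {n : ℕ} {F : Type*} [Field F] {H : Subgroup (Matrix.SpecialLinearGroup (Fin n) F)}

/-- the triangular spanning argument. -/
theorem tri {φ : Fin n → F} (K : ℕ) (hK : K + 1 ≤ n)
    (hφ : ∀ d, d ≤ K → φ ⬝ᵥ xk n F d = 0)
    (hH : ∀ d, d ≤ K → ∀ c : F, tv (c • xk n F d) φ ∈ H) :
    ∀ y : Fin n → F, (∀ i, i + K + 1 < n → co y i = 0) → φ ⬝ᵥ y = 0 ∧ tv y φ ∈ H := by
  induction K with
  | zero =>
    intro y hy
    have e : y = co y (n - 1) • xk n F 0 := by
      apply ext_co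
      intro i hi
      rw [co_smul, xk_zero, co_ev _ _ (by omega)]
      by_cases h : i = n - 1
      · rw [if_pos h, mul_one, h]
      · rw [if_neg h, mul_zero]
        exact hy i (by omega)
    rw [e]
    exact ⟨by rw [dotProduct_smul, hφ 0 (le_refl 0), smul_zero], hH 0 (le_refl 0) _⟩
  | succ K ih =>
    intro y hy
    set j := n - 2 - K with hj
    set c := co y j with hc
    set y' := y - c • xk n F (K + 1) with hy'
    have hy'0 : ∀ i, i + K + 1 < n → co y' i = 0 := by
      intro i hi
      rw [hy', co_sub, co_smul, co_xk _ _ (by omega)]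
      by_cases h : i = j
      · have e : n - 1 - i = K + 1 := by omega
        rw [e, Nat.choose_self, Nat.cast_one, mul_one, h, sub_self]
      · have h1 : co y i = 0 := hy i (by omega)
        have h2 : K + 1 < n - 1 - i := by omega
        rw [h1, Nat.choose_eq_zero_of_lt h2, Nat.cast_zero, mul_zero, sub_zero]
    obtain ⟨h1, h2⟩ := ih (by omega) (fun d hd => hφ d (by omega)) (fun d hd => hH d (by omega))
      y' hy'0
    have e : y = y' + c • xk n F (K + 1) := by rw [hy']; abel
    have h3 : φ ⬝ᵥ (c • xk n F (K + 1)) = 0 := by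
      rw [dotProduct_smul, hφ (K + 1) (le_refl _), smul_zero]
    rw [e]
    refine ⟨by rw [dotProduct_add, h1, h3, add_zero], ?_⟩
    rw [← tv_mul_same_covec h1 h3]
    exact H.mul_mem h2 (hH (K + 1) (le_refl _) c)

/-- `SL` is generated by the Jordan block and the transvections with covector `e₀`. -/
theorem gen_of_Qin_ev0 (hn : 2 ≤ n) (hu : uJ n F ∈ H)
    (h0 : Qin H (RegUnip.ev 0 : Fin n → F)) : H = ⊤ := by
  have hall : ∀ j, j < n → Qin H (RegUnip.ev j : Fin n → F) := by
    intro j
    induction j with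
    | zero => intro _; exact h0
    | succ j ih =>
      intro hj
      have hq := ih (by omega)
      have h1 := Qin_conj hu hq
      rw [uJ_val, RegUnip.ev_vecMul_Jm] at h1
      have hd : (RegUnip.ev j : Fin n → F) ⬝ᵥ (-(RegUnip.ev (j + 1) : Fin n → F)) = 0 := by
        rw [dotProduct_neg, RegUnip.ev_dot_ev_ne (by omega), neg_zero]
      have hg : tv (-(RegUnip.ev (j + 1) : Fin n → F)) (RegUnip.ev j) ∈ H := hq _ hd
      have h2 := Qin_conj hg h1
      rw [tv_val hd, vecMul_Tm, add_dotProduct, hd, zero_add, dotProduct_neg,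
        RegUnip.ev_dot_ev_self hj, neg_one_smul, add_comm, neg_add_cancel_left] at h2
      exact h2
  have : Nontrivial (Fin n) := Fin.nontrivial_iff_two_le.mpr hn
  apply eq_top_of_Qin
  intro j
  have := hall j.val j.isLt
  rwa [RegUnip.ev_eq_single j.val j.isLt] at this

/-- `SL` is generated by the Jordan block and the transvections with covector
`(1 + μ) e₀ + μ e₁`, if `1 + μ ≠ 0`. -/
theorem gen_of_Qin_psi (hn : 2 ≤ n) (hu : uJ n F ∈ H) {μ : F} (hμ1 : 1 + μ ≠ 0)
    (h0 : Qin H ((1 + μ) • (RegUnip.ev 0 : Fin n → F) + μ • RegUnip.ev 1)) : H = ⊤ := by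
  have hθ : ∀ i : ℕ, (1 + μ) • (RegUnip.ev i : Fin n → F) + μ • RegUnip.ev (i + 1) ∈ Sq H := by
    intro i
    induction i with
    | zero => exact Or.inr h0
    | succ i ih =>
      have h1 := Sq_vecMul hu ih
      have h2 := (Sq H).sub_mem h1 ih
      rw [uJ_val, add_vecMul, smul_vecMul, smul_vecMul, RegUnip.ev_vecMul_Jm,
        RegUnip.ev_vecMul_Jm] at h2
      convert h2 using 1
      module
  have hlast : (RegUnip.ev (n - 1) : Fin n → F) ∈ Sq H := by
    have h1 := hθ (n - 1)
    rw [RegUnip.ev_eq_zero (n - 1 + 1) (by omega), smul_zero, add_zero] at h1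
    have h2 := (Sq H).smul_mem (1 + μ)⁻¹ h1
    rwa [smul_smul, inv_mul_cancel₀ hμ1, one_smul] at h2
  have hdown : ∀ k, k < n → (RegUnip.ev (n - 1 - k) : Fin n → F) ∈ Sq H := by
    intro k
    induction k with
    | zero => intro _; exact hlast
    | succ k ih =>
      intro hk
      have h1 := ih (by omega)
      have h2 := hθ (n - 1 - (k + 1))
      have e : n - 1 - (k + 1) + 1 = n - 1 - k := by omega
      rw [e] at h2
      have h3 := (Sq H).sub_mem h2 ((Sq H).smul_mem μ h1)
      rw [add_sub_cancel_right] at h3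
      have h4 := (Sq H).smul_mem (1 + μ)⁻¹ h3
      rwa [smul_smul, inv_mul_cancel₀ hμ1, one_smul] at h4
  have h00 := hdown (n - 1) (by omega)
  have e : n - 1 - (n - 1) = 0 := by omega
  rw [e] at h00
  rcases h00 with h | h
  · exfalso
    have := congrFun h ⟨0, by omega⟩
    rw [RegUnip.ev_apply] at this
    simp at this
  · exact gen_of_Qin_ev0 hn hu h

end jordan

end Cfsg.Agent.Lib.Helper7.Reg2
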