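import Cfsg.Agent.Lib.Helper7.Reg2C

/-!
# The Jordan block and its conjugate under the lowest root element (helper7)

`X`-variant: `a = s e_{n-1}`, `ψ = e₀`, the pairing vanishes on `0, …, n - 2`.
-/

set_option autoImplicit false

namespace Cfsg.Agent.Lib.Helper7.Reg2

open Matrix Cfsg.Agent.RegUni

variable {n : ℕ} {F : Type*} [Field F]

theorem av_nat_ev (d : ℕ) :
    av (uJ n F) (RegUnip.ev (n - 1) : Fin n → F) (d : ℤ) = xk n F d := by
  rw [av_nat]; rfl

theorem GmX_nat (s : F) (d : ℕ) (hn : 1 ≤ n) :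
    Gm (uJ n F) (s • (RegUnip.ev (n - 1) : Fin n → F)) (RegUnip.ev 0) (d : ℤ)
      = s * (Nat.choose d (n - 1) : F) := by
  unfold Gm
  rw [av_nat_smul_ev, dotProduct_smul, smul_eq_mul]
  show s * co (xk n F d) 0 = _
  rw [co_xk _ _ (by omega), Nat.sub_zero]

theorem GmX_neg_one (s : F) (hn : 1 ≤ n) :
    Gm (uJ n F) (s • (RegUnip.ev (n - 1) : Fin n → F)) (RegUnip.ev 0) (-1)
      = s * (-1) ^ (n - 1) := by
  unfold Gm
  rw [av_neg_one_smul hn, dotProduct_smul, smul_eq_mul]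
  show s * co (yv n F) 0 = _
  rw [co_yv _ (by omega), Nat.sub_zero]

variable {H : Subgroup (Matrix.SpecialLinearGroup (Fin n) F)}

theorem calX (hn : 4 ≤ n) {s : F} (hs : s ≠ 0) (hu : uJ n F ∈ H)
    (hv : tv (s • (RegUnip.ev (n - 1) : Fin n → F)) (RegUnip.ev 0) * uJ n F *
      (tv (s • (RegUnip.ev (n - 1) : Fin n → F)) (RegUnip.ev 0))⁻¹ ∈ H) :
    Cal (uJ n F) (s • (RegUnip.ev (n - 1) : Fin n → F)) (RegUnip.ev 0) H (n - 2) := by
  have hzero : ∀ d : ℕ, d ≤ n - 2 →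
      Gm (uJ n F) (s • (RegUnip.ev (n - 1) : Fin n → F)) (RegUnip.ev 0) (d : ℤ) = 0 := by
    intro d hd
    rw [GmX_nat s d (by omega), Nat.choose_eq_zero_of_lt (by omega), Nat.cast_zero, mul_zero]
  refine ⟨hu, ?_, by omega, hzero, ?_⟩
  · apply hr_of_mem hu
    · rw [Tk_zero_zero_one]; exact hv
    · simpa using hzero 0 (by omega)
  · rw [GmX_neg_one s (by omega)]
    exact mul_ne_zero hs (pow_ne_zero _ (neg_ne_zero.mpr one_ne_zero))

theorem X_wrap (hn : 4 ≤ n) {s : F} (hs : s ≠ 0) :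
    Gm (uJ n F) (s • (RegUnip.ev (n - 1) : Fin n → F)) (RegUnip.ev 0) (((n - 2 : ℕ) : ℤ) + 1)
      ≠ 0 := by
  have e : ((n - 2 : ℕ) : ℤ) + 1 = ((n - 1 : ℕ) : ℤ) := by omega
  rw [e, GmX_nat s _ (by omega), Nat.choose_self, Nat.cast_one, mul_one]
  exact hs

/-- the `X`-variant generates `SL` as soon as every scalar is a multiplier of `R₀`. -/
theorem X_top (hn : 4 ≤ n) {s : F} (hs : s ≠ 0)
    (h : Cal (uJ n F) (s • (RegUnip.ev (n - 1) : Fin n → F)) (RegUnip.ev 0) H (n - 2))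
    (hS : Sg (H := H) h.zero' = ⊤) : H = ⊤ := by
  have hall := h.all_of_Sg_top (X_wrap hn hs) hS
  apply gen_of_Qin_ev0 (by omega) h.hu
  have htri := tri (H := H) (φ := (RegUnip.ev 0 : Fin n → F)) (n - 2) (by omega)
    (by
      intro d hd
      show co (xk n F d) 0 = 0
      rw [co_xk _ _ (by omega), Nat.choose_eq_zero_of_lt (by omega), Nat.cast_zero])
    (by
      intro d hd c
      have := hall d hd (c / s)
      unfold Tk at this
      rwa [av_nat_smul_ev, pv_zero, smul_smul, div_mul_cancel₀ _ hs] at this)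
  intro y hy
  refine (htri y ?_).2
  intro i hi
  have : i = 0 := by omega
  rw [this]
  exact hy

end Cfsg.Agent.Lib.Helper7.Reg2
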