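import Cfsg.Agent.Lib.Helper7.Reg2D

/-!
# The `X`-variant: prime fields (all `n ≥ 4`) and `n = 4` (all finite fields) (helper7)
-/

set_option autoImplicit false

namespace Cfsg.Agent.Lib.Helper7.Reg2

open Matrix Cfsg.Agent.RegUni

variable {n : ℕ} {F : Type*} [Field F] [Fintype F]

/-- over a prime field, the Jordan block and its conjugate under the lowest root element
generate `SL_n`, `n ≥ 4`. -/
theorem closure_X_prime (hp : (Fintype.card F).Prime) (hn : 4 ≤ n) :
    Subgroup.closure ({uJ n F,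
      tv ((1 : F) • (RegUnip.ev (n - 1) : Fin n → F)) (RegUnip.ev 0) * uJ n F *
        (tv ((1 : F) • (RegUnip.ev (n - 1) : Fin n → F)) (RegUnip.ev 0))⁻¹} :
      Set (Matrix.SpecialLinearGroup (Fin n) F)) = ⊤ := by
  set H := Subgroup.closure ({uJ n F,
      tv ((1 : F) • (RegUnip.ev (n - 1) : Fin n → F)) (RegUnip.ev 0) * uJ n F *
        (tv ((1 : F) • (RegUnip.ev (n - 1) : Fin n → F)) (RegUnip.ev 0))⁻¹} :
      Set (Matrix.SpecialLinearGroup (Fin n) F)) with hH
  have hu : uJ n F ∈ H := Subgroup.subset_closure (by simp)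
  have hv : tv ((1 : F) • (RegUnip.ev (n - 1) : Fin n → F)) (RegUnip.ev 0) * uJ n F *
        (tv ((1 : F) • (RegUnip.ev (n - 1) : Fin n → F)) (RegUnip.ev 0))⁻¹ ∈ H :=
    Subgroup.subset_closure (by simp)
  have h := calX hn one_ne_zero hu hv
  exact X_top hn one_ne_zero h (subring_top_of_prime hp _)

/-- for `n = 4` and a generator `μ` of the multiplicative group of a finite field which is not
a prime field, the Jordan block and its conjugate under `1 + μ e₃ e₀ᵀ` generate `SL₄`. -/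
theorem closure_X_four (hnp : ¬ (Fintype.card F).Prime) {μ : F} (hμ0 : μ ≠ 0)
    (hgen : ∀ x : F, x ≠ 0 → ∃ k : ℕ, x = μ ^ k) :
    Subgroup.closure ({uJ 4 F,
      tv (μ • (RegUnip.ev (4 - 1) : Fin 4 → F)) (RegUnip.ev 0) * uJ 4 F *
        (tv (μ • (RegUnip.ev (4 - 1) : Fin 4 → F)) (RegUnip.ev 0))⁻¹} :
      Set (Matrix.SpecialLinearGroup (Fin 4) F)) = ⊤ := by
  set H := Subgroup.closure ({uJ 4 F,
      tv (μ • (RegUnip.ev (4 - 1) : Fin 4 → F)) (RegUnip.ev 0) * uJ 4 F *
        (tv (μ • (RegUnip.ev (4 - 1) : Fin 4 → F)) (RegUnip.ev 0))⁻¹} :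
      Set (Matrix.SpecialLinearGroup (Fin 4) F)) with hH
  have hu : uJ 4 F ∈ H := Subgroup.subset_closure (by simp)
  have hv : tv (μ • (RegUnip.ev (4 - 1) : Fin 4 → F)) (RegUnip.ev 0) * uJ 4 F *
        (tv (μ • (RegUnip.ev (4 - 1) : Fin 4 → F)) (RegUnip.ev 0))⁻¹ ∈ H :=
    Subgroup.subset_closure (by simp)
  have h := calX (n := 4) (le_refl 4) hμ0 hu hv
  apply X_top (le_refl 4) hμ0 h
  set S := Sg (H := H) h.zero' with hS
  -- the values of the pairing
  have hε : Gm (uJ 4 F) (μ • (RegUnip.ev (4 - 1) : Fin 4 → F)) (RegUnip.ev 0) (-1) = -μ := by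
    rw [GmX_neg_one μ (by norm_num)]
    norm_num
  have h3 : Gm (uJ 4 F) (μ • (RegUnip.ev (4 - 1) : Fin 4 → F)) (RegUnip.ev 0)
      (((1 : ℕ) : ℤ) + ((2 : ℕ) : ℤ)) = μ := by
    have e : ((1 : ℕ) : ℤ) + ((2 : ℕ) : ℤ) = ((3 : ℕ) : ℤ) := by norm_num
    rw [e, GmX_nat μ 3 (by norm_num)]
    norm_num
  have h4 : Gm (uJ 4 F) (μ • (RegUnip.ev (4 - 1) : Fin 4 → F)) (RegUnip.ev 0)
      (((2 : ℕ) : ℤ) + ((2 : ℕ) : ℤ)) = μ * 4 := by
    have e : ((2 : ℕ) : ℤ) + ((2 : ℕ) : ℤ) = ((4 : ℕ) : ℤ) := by norm_num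
    rw [e, GmX_nat μ 4 (by norm_num)]
    norm_num [Nat.choose]
  have m2 := h.mem2
  have cA := h.cycle (d := 1) (d' := 2) (by norm_num) (by norm_num) m2
  have cB := h.cycle (d := 2) (d' := 2) (by norm_num) (by norm_num) m2
  rw [h3, hε] at cA
  rw [h4, hε] at cB
  have hA : μ ^ 4 ∈ S := by
    have := S.neg_mem cA
    convert this using 1
    ring
  have hB : 4 * μ ^ 5 ∈ S := by
    have := S.neg_mem cB
    convert this using 1
    ring
  have hμS : μ ∈ S := by
    by_cases h2 : (2 : F) = 0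
    · -- characteristic two
      have : CharP F 2 := (CharP.charP_iff_prime_eq_zero Nat.prime_two).mpr (by exact_mod_cast h2)
      obtain ⟨k, -, hk⟩ := FiniteField.card F 2
      have hk2 : 2 ≤ (k : ℕ) := by
        by_contra hlt
        have hk1 : (k : ℕ) = 1 := by have := k.pos; omega
        rw [hk1, pow_one] at hk
        exact hnp (hk ▸ Nat.prime_two)
      have hq : Fintype.card F = 4 * 2 ^ ((k : ℕ) - 2) := by
        rw [hk]
        have : (k : ℕ) = 2 + ((k : ℕ) - 2) := by omega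
        conv_lhs => rw [this, pow_add]
        norm_num
      have := FiniteField.pow_card μ
      rw [hq, pow_mul] at this
      rw [← this]
      exact S.pow_mem hA _
    · have h4ne : (4 : F) ≠ 0 := by
        have : (4 : F) = 2 * 2 := by norm_num
        rw [this]
        exact mul_ne_zero h2 h2
      have h4S : (4 : F) ∈ S := by
        have := natCast_mem S 4
        exact_mod_cast this
      have h5 : μ ^ 5 ∈ S := by
        have := S.mul_mem (inv_mem_subring S h4S) hB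
        rwa [← mul_assoc, inv_mul_cancel₀ h4ne, one_mul] at this
      have h1 := S.mul_mem h5 (inv_mem_subring S hA)
      have e : μ ^ 5 * (μ ^ 4)⁻¹ = μ := by
        rw [pow_succ, mul_comm (μ ^ 4) μ, mul_assoc, mul_inv_cancel₀ (pow_ne_zero _ hμ0), mul_one]
      rwa [e] at h1
  exact subring_top_of_gen S hμS hgen

end Cfsg.Agent.Lib.Helper7.Reg2
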