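import Cfsg.Agent.Lib.Helper7.Reg2D

/-!
# The `Y`-variant: `a = e_{n-1}`, `ψ = (1 + μ) e₀ + μ e₁`, `n ≥ 5` (helper7)

The pairing vanishes on `0, …, n - 3`, `Γ (n - 2) = μ`, `Γ (-1) = ± 1`.
-/

set_option autoImplicit false

namespace Cfsg.Agent.Lib.Helper7.Reg2

open Matrix Cfsg.Agent.RegUni

variable {n : ℕ} {F : Type*} [Field F]

/-- the covector `(1 + μ) e₀ + μ e₁`. -/
def psiY (n : ℕ) {F : Type*} [Field F] (μ : F) : Fin n → F :=
  (1 + μ) • (RegUnip.ev 0 : Fin n → F) + μ • RegUnip.ev 1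

theorem psiY_dot (μ : F) (x : Fin n → F) :
    psiY n μ ⬝ᵥ x = (1 + μ) * co x 0 + μ * co x 1 := by
  unfold psiY co
  rw [add_dotProduct, smul_dotProduct, smul_dotProduct, smul_eq_mul, smul_eq_mul]

theorem GmY_nat (μ : F) (d : ℕ) (hn : 2 ≤ n) :
    Gm (uJ n F) (RegUnip.ev (n - 1) : Fin n → F) (psiY n μ) (d : ℤ)
      = (1 + μ) * (Nat.choose d (n - 1) : F) + μ * (Nat.choose d (n - 2) : F) := by
  unfold Gm
  rw [av_nat_ev, psiY_dot, co_xk _ _ (by omega), co_xk _ _ (by omega), Nat.sub_zero]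
  rfl

theorem GmY_neg_one (μ : F) (hn : 2 ≤ n) :
    Gm (uJ n F) (RegUnip.ev (n - 1) : Fin n → F) (psiY n μ) (-1) = (-1) ^ (n - 1) := by
  unfold Gm
  rw [av_neg_one (by omega), psiY_dot, co_yv _ (by omega), co_yv _ (by omega), Nat.sub_zero]
  obtain ⟨m, hm⟩ : ∃ m, n - 1 = m + 1 := ⟨n - 2, by omega⟩
  have hm' : n - 1 - 1 = m := by omega
  rw [hm', hm, pow_succ]
  ring

variable {H : Subgroup (Matrix.SpecialLinearGroup (Fin n) F)}

theorem GmY_zero (μ : F) (hn : 5 ≤ n) (d : ℕ) (hd : d ≤ n - 3) :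
    Gm (uJ n F) (RegUnip.ev (n - 1) : Fin n → F) (psiY n μ) (d : ℤ) = 0 := by
  rw [GmY_nat μ d (by omega), Nat.choose_eq_zero_of_lt (by omega),
    Nat.choose_eq_zero_of_lt (by omega), Nat.cast_zero, mul_zero, mul_zero, add_zero]

theorem calY (hn : 5 ≤ n) (μ : F) (hu : uJ n F ∈ H)
    (hv : tv (RegUnip.ev (n - 1) : Fin n → F) (psiY n μ) * uJ n F *
      (tv (RegUnip.ev (n - 1) : Fin n → F) (psiY n μ))⁻¹ ∈ H) :
    Cal (uJ n F) (RegUnip.ev (n - 1) : Fin n → F) (psiY n μ) H (n - 3) := by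
  refine ⟨hu, ?_, by omega, GmY_zero μ hn, ?_⟩
  · apply hr_of_mem hu
    · rw [Tk_zero_zero_one]; exact hv
    · simpa using GmY_zero μ hn 0 (by omega)
  · rw [GmY_neg_one μ (by omega)]
    exact pow_ne_zero _ (neg_ne_zero.mpr one_ne_zero)

theorem Y_wrap (hn : 5 ≤ n) {μ : F} (hμ0 : μ ≠ 0) :
    Gm (uJ n F) (RegUnip.ev (n - 1) : Fin n → F) (psiY n μ) (((n - 3 : ℕ) : ℤ) + 1) ≠ 0 := by
  have e : ((n - 3 : ℕ) : ℤ) + 1 = ((n - 2 : ℕ) : ℤ) := by omega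
  rw [e, GmY_nat μ _ (by omega), Nat.choose_eq_zero_of_lt (by omega), Nat.choose_self,
    Nat.cast_zero, Nat.cast_one, mul_zero, zero_add, mul_one]
  exact hμ0

/-- every scalar is a multiplier of `R₀`, if `μ` generates the multiplicative group. -/
theorem Y_Sg (hn : 5 ≤ n) {μ : F}
    (hgen : ∀ x : F, x ≠ 0 → ∃ k : ℕ, x = μ ^ k)
    (h : Cal (uJ n F) (RegUnip.ev (n - 1) : Fin n → F) (psiY n μ) H (n - 3)) :
    Sg (H := H) h.zero' = ⊤ := by
  set S := Sg (H := H) h.zero' with hS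
  set ε : F := (-1) ^ (n - 1) with hε
  have hεval : Gm (uJ n F) (RegUnip.ev (n - 1) : Fin n → F) (psiY n μ) (-1) = ε :=
    GmY_neg_one μ (by omega)
  have m2 := h.mem2
  have c1 := h.cycle (d := n - 4) (d' := 2) (by omega) (by omega) m2
  have e : ((n - 4 : ℕ) : ℤ) + ((2 : ℕ) : ℤ) = ((n - 2 : ℕ) : ℤ) := by omega
  rw [e, GmY_nat μ _ (by omega), Nat.choose_eq_zero_of_lt (by omega), Nat.choose_self,
    Nat.cast_zero, Nat.cast_one, mul_zero, zero_add, mul_one, hεval] at c1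
  have hm1 : (-1 : F) ∈ S := S.neg_mem S.one_mem
  have hεS : ε ∈ S := S.pow_mem hm1 _
  set η : F := (-ε) ^ (n - 4) * -(ε * ε) with hη
  have hηS : η ∈ S := S.mul_mem (S.pow_mem (S.neg_mem hεS) _) (S.neg_mem (S.mul_mem hεS hεS))
  have hεε : ε * ε = 1 := by
    rw [hε, ← mul_pow]
    norm_num
  have hηη : η * η = 1 := by
    have h1 : (-ε) * (-ε) = 1 := by rw [neg_mul_neg, hεε]
    calc η * η = ((-ε) * (-ε)) ^ (n - 4) * ((ε * ε) * (ε * ε)) := by rw [hη, mul_pow]; ring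
      _ = 1 := by rw [h1, hεε, one_pow, one_mul, one_mul]
  have hμS : μ ∈ S := by
    have h1 : μ * (-ε) ^ (n - 4) * -(ε * ε) = μ * η := by rw [hη]; ring
    rw [h1] at c1
    have := S.mul_mem c1 hηS
    rwa [mul_assoc, hηη, mul_one] at this
  exact subring_top_of_gen S hμS hgen

/-- completion for the `Y`-variant. -/
theorem Y_Qin (hn : 5 ≤ n) {μ : F} (hμ0 : μ ≠ 0)
    (h : Cal (uJ n F) (RegUnip.ev (n - 1) : Fin n → F) (psiY n μ) H (n - 3))
    (hall : ∀ d : ℕ, d ≤ n - 3 → ∀ c : F,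
      Tk (uJ n F) (RegUnip.ev (n - 1) : Fin n → F) (psiY n μ) (d : ℤ) 0 c ∈ H) :
    Qin H (psiY n μ) := by
  set u := uJ n F with hu_def
  set a : Fin n → F := RegUnip.ev (n - 1) with ha
  set ψ := psiY n μ with hψ
  have hu : u ∈ H := h.hu
  have hz : ∀ d : ℕ, d ≤ n - 3 → Gm u a ψ (d : ℤ) = 0 := h.zero
  -- (A) the triangular part
  have htri := tri (H := H) (φ := ψ) (n - 3) (by omega)
    (by
      intro d hd
      have := hz d hd
      unfold Gm at this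
      rwa [av_nat_ev] at this)
    (by
      intro d hd c
      have := hall d hd c
      unfold Tk at this
      rwa [av_nat_ev, pv_zero] at this)
  -- (B) the extra vector
  set Γ1 := Gm u a ψ ((n - 1 : ℕ) : ℤ) with hΓ1
  set Γ2 := Gm u a ψ ((n - 2 : ℕ) : ℤ) with hΓ2
  have hΓ2v : Γ2 = μ := by
    rw [hΓ2, GmY_nat μ _ (by omega), Nat.choose_eq_zero_of_lt (by omega), Nat.choose_self,
      Nat.cast_zero, Nat.cast_one, mul_zero, zero_add, mul_one]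
  set b : Fin n → F := Γ1 • av u a ((n - 2 : ℕ) : ℤ) - Γ2 • av u a ((n - 1 : ℕ) : ℤ) with hb
  have hψb : pv u ψ 0 ⬝ᵥ b = 0 := by
    rw [hb, dotProduct_sub, pv_dot_smul_av, pv_dot_smul_av, sub_zero, sub_zero, ← hΓ1, ← hΓ2,
      mul_comm, sub_self]
  have e4 : ((n - 2 : ℕ) : ℤ) - 2 = ((n - 4 : ℕ) : ℤ) := by omega
  have e3 : ((n - 1 : ℕ) : ℤ) - 2 = ((n - 3 : ℕ) : ℤ) := by omega
  have hp2a : ∀ c : F, pv u ψ 2 ⬝ᵥ (c • av u a ((n - 2 : ℕ) : ℤ)) = 0 := by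
    intro c
    rw [pv_dot_smul_av, e4, hz _ (by omega), mul_zero]
  have hp2b : ∀ c : F, pv u ψ 2 ⬝ᵥ (c • av u a ((n - 1 : ℕ) : ℤ)) = 0 := by
    intro c
    rw [pv_dot_smul_av, e3, hz _ (by omega), mul_zero]
  have hb2 : ∀ c : F, pv u ψ 2 ⬝ᵥ (c • b) = 0 ∧ tv (c • b) (pv u ψ 2) ∈ H := by
    intro c
    have m1 : Tk u a ψ ((n - 2 : ℕ) : ℤ) 2 (c * Γ1) ∈ H :=
      (Tk_mem_iff hu e4 (hz _ (by omega)) _).mpr (hall _ (by omega) _)
    have m2 : Tk u a ψ ((n - 1 : ℕ) : ℤ) 2 (-(c * Γ2)) ∈ H :=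
      (Tk_mem_iff hu e3 (hz _ (by omega)) _).mpr (hall _ (by omega) _)
    have hm := H.mul_mem m1 m2
    unfold Tk at hm
    rw [tv_mul_same_covec (hp2a _) (hp2b _)] at hm
    have e : (c * Γ1) • av u a ((n - 2 : ℕ) : ℤ) + -(c * Γ2) • av u a ((n - 1 : ℕ) : ℤ)
        = c • b := by rw [hb]; module
    rw [e] at hm
    refine ⟨?_, hm⟩
    rw [← e, dotProduct_add, hp2a, hp2b, add_zero]
  have hεne : Gm u a ψ (-1) ≠ 0 := h.eps
  have hbψ : ∀ c : F, tv (c • b) ψ ∈ H := by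
    intro c
    obtain ⟨hd2, hm2⟩ := hb2 ((Gm u a ψ (-1))⁻¹ * c)
    have m1 : Tk u a ψ ((1 : ℕ) : ℤ) 0 1 ∈ H := hall 1 (by omega) 1
    rw [Nat.cast_one] at m1
    unfold Tk at m1
    have hx : pv u ψ 0 ⬝ᵥ ((1 : F) • av u a 1) = 0 := by
      rw [pv_dot_smul_av, sub_zero]
      have := hz 1 (by omega)
      rw [Nat.cast_one] at this
      rw [this, mul_zero]
    have hconj := conj_tv_tv hd2 hx
    have hd0 : pv u ψ 0 ⬝ᵥ (((Gm u a ψ (-1))⁻¹ * c) • b) = 0 := by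
      rw [dotProduct_smul, hψb, smul_zero]
    rw [hd0, zero_smul, sub_zero, pv_dot_smul_av, one_mul] at hconj
    have e12 : (1 : ℤ) - 2 = -1 := by norm_num
    rw [e12, smul_smul, ← mul_assoc, mul_inv_cancel₀ hεne, one_mul] at hconj
    have hcb : pv u ψ 0 ⬝ᵥ (c • b) = 0 := by rw [dotProduct_smul, hψb, smul_zero]
    rw [← tv_mul_same_covec hx hcb] at hconj
    have hmem := H.mul_mem (H.mul_mem hm2 m1) (H.inv_mem hm2)
    rw [hconj] at hmem
    have := H.mul_mem (H.inv_mem m1) hmem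
    rw [inv_mul_cancel_left, pv_zero] at this
    exact this
  -- (C) every vector of the kernel
  have hav2 : av u a ((n - 2 : ℕ) : ℤ) = xk n F (n - 2) := av_nat_ev _
  have hav1 : av u a ((n - 1 : ℕ) : ℤ) = xk n F (n - 1) := av_nat_ev _
  have hcb0 : co b 0 = -μ := by
    rw [hb, co_sub, co_smul, co_smul, hav2, hav1, co_xk _ _ (by omega), co_xk _ _ (by omega),
      Nat.sub_zero, Nat.choose_eq_zero_of_lt (by omega), Nat.choose_self, Nat.cast_zero,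
      Nat.cast_one, mul_zero, mul_one, zero_sub, hΓ2v]
  have hψb' : ψ ⬝ᵥ b = 0 := by rw [← pv_zero u ψ]; exact hψb
  intro y hy
  set lam : F := co y 0 / (-μ) with hlam
  set y' : Fin n → F := y - lam • b with hy'
  have hψy' : ψ ⬝ᵥ y' = 0 := by
    rw [hy', dotProduct_sub, dotProduct_smul, hy, hψb', smul_zero, sub_zero]
  have hy0 : co y' 0 = 0 := by
    rw [hy', co_sub, co_smul, hcb0, hlam, div_mul_cancel₀ _ (neg_ne_zero.mpr hμ0), sub_self]
  have hy1 : co y' 1 = 0 := by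
    have := hψy'
    rw [hψ, psiY_dot, hy0, mul_zero, zero_add] at this
    rcases mul_eq_zero.mp this with h1 | h1
    · exact absurd h1 hμ0
    · exact h1
  obtain ⟨-, hmem⟩ := htri y' (by
    intro i hi
    have : i = 0 ∨ i = 1 := by omega
    rcases this with rfl | rfl
    · exact hy0
    · exact hy1)
  have hlb : ψ ⬝ᵥ (lam • b) = 0 := by rw [dotProduct_smul, hψb', smul_zero]
  have e : y = y' + lam • b := by rw [hy']; abel
  rw [e, ← tv_mul_same_covec hψy' hlb]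
  exact H.mul_mem hmem (hbψ lam)

/-- for `n ≥ 5` and a generator `μ ≠ -1` of the multiplicative group of a finite field, the
Jordan block and its conjugate under `1 + e_{n-1} ((1 + μ) e₀ + μ e₁)ᵀ` generate `SL_n`. -/
theorem closure_Y (hn : 5 ≤ n) {μ : F} (hμ0 : μ ≠ 0) (hμ1 : 1 + μ ≠ 0)
    (hgen : ∀ x : F, x ≠ 0 → ∃ k : ℕ, x = μ ^ k) :
    Subgroup.closure ({uJ n F,
      tv (RegUnip.ev (n - 1) : Fin n → F) (psiY n μ) * uJ n F *
        (tv (RegUnip.ev (n - 1) : Fin n → F) (psiY n μ))⁻¹} :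
      Set (Matrix.SpecialLinearGroup (Fin n) F)) = ⊤ := by
  set H := Subgroup.closure ({uJ n F,
      tv (RegUnip.ev (n - 1) : Fin n → F) (psiY n μ) * uJ n F *
        (tv (RegUnip.ev (n - 1) : Fin n → F) (psiY n μ))⁻¹} :
      Set (Matrix.SpecialLinearGroup (Fin n) F)) with hH
  have hu : uJ n F ∈ H := Subgroup.subset_closure (by simp)
  have hv : tv (RegUnip.ev (n - 1) : Fin n → F) (psiY n μ) * uJ n F *
        (tv (RegUnip.ev (n - 1) : Fin n → F) (psiY n μ))⁻¹ ∈ H :=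
    Subgroup.subset_closure (by simp)
  have h := calY hn μ hu hv
  have hall := h.all_of_Sg_top (Y_wrap hn hμ0) (Y_Sg hn hgen h)
  have hq := Y_Qin hn hμ0 h hall
  exact gen_of_Qin_psi (by omega) hu hμ1 hq

end Cfsg.Agent.Lib.Helper7.Reg2
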