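import Cfsg.Agent.Lib.Helper7.Reg2E
import Cfsg.Agent.Lib.Helper7.Reg2F

/-!
# `SL_n(F)`, `n ≥ 4`, `F` finite, is generated by two conjugate regular unipotent elements (helper7)
-/

set_option autoImplicit false

namespace Cfsg.Agent.Lib.Helper7.Reg2

open Matrix Cfsg.Agent.RegUni

section conj

variable {F : Type*} [Field F] {ι : Type*} [Fintype ι] [DecidableEq ι]

theorem conj_pow_aux (A B M : Matrix ι ι F) (hAB : A * B = 1) (hBA : B * A = 1) (k : ℕ) :
    (A * M * B) ^ k = A * M ^ k * B := by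
  induction k with
  | zero => rw [pow_zero, pow_zero, Matrix.mul_one, hAB]
  | succ k ih =>
    rw [pow_succ, ih, pow_succ]
    calc A * M ^ k * B * (A * M * B) = A * M ^ k * (B * A) * M * B := by
          simp only [Matrix.mul_assoc]
      _ = A * (M ^ k * M) * B := by rw [hBA, Matrix.mul_one]; simp only [Matrix.mul_assoc]

/-- conjugates of regular unipotent elements are regular unipotent. -/
theorem regular_conj (g u : Matrix.SpecialLinearGroup ι F) (k : ℕ)
    (h : IsNilpotent (u.1 - 1) ∧ (u.1 - 1) ^ k ≠ 0) :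
    IsNilpotent ((g * u * g⁻¹).1 - 1) ∧ ((g * u * g⁻¹).1 - 1) ^ k ≠ 0 := by
  have e : (g * u * g⁻¹).1 - 1 = g.1 * (u.1 - 1) * (g⁻¹).1 := by
    rw [Matrix.SpecialLinearGroup.coe_mul, Matrix.SpecialLinearGroup.coe_mul, Matrix.mul_sub,
      Matrix.sub_mul, Matrix.mul_one, val_mul_inv]
  rw [e]
  have hp := conj_pow_aux g.1 (g⁻¹).1 (u.1 - 1) (val_mul_inv g) (inv_val_mul g)
  constructor
  · obtain ⟨m, hm⟩ := h.1
    exact ⟨m, by rw [hp, hm, Matrix.mul_zero, Matrix.zero_mul]⟩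
  · intro h0
    rw [hp] at h0
    apply h.2
    have : (u.1 - 1) ^ k = (g⁻¹).1 * (g.1 * (u.1 - 1) ^ k * (g⁻¹).1) * g.1 := by
      calc (u.1 - 1) ^ k = ((g⁻¹).1 * g.1) * (u.1 - 1) ^ k * ((g⁻¹).1 * g.1) := by
            rw [inv_val_mul, Matrix.one_mul, Matrix.mul_one]
        _ = (g⁻¹).1 * (g.1 * (u.1 - 1) ^ k * (g⁻¹).1) * g.1 := by
            simp only [Matrix.mul_assoc]
    rw [this, h0, Matrix.mul_zero, Matrix.zero_mul]

end conj

variable {F : Type*} [Field F] [Fintype F]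

omit [Fintype F] in
theorem uJ_regular (n : ℕ) (hn : 1 ≤ n) :
    IsNilpotent ((uJ n F).1 - 1) ∧ ((uJ n F).1 - 1) ^ (n - 1) ≠ 0 :=
  ⟨RegUnip.isNilpotent_Jm_sub_one, RegUnip.Jm_sub_one_pow_ne_zero hn⟩

/-- a generator of the multiplicative group. -/
theorem exists_gen_field : ∃ μ : F, μ ≠ 0 ∧ ∀ x : F, x ≠ 0 → ∃ k : ℕ, x = μ ^ k := by
  obtain ⟨ζ, hζ⟩ : ∃ ζ : Fˣ, ∀ y : Fˣ, y ∈ Submonoid.powers ζ :=
    IsCyclic.exists_monoid_generator
  refine ⟨(ζ : F), ζ.ne_zero, ?_⟩
  intro x hx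
  obtain ⟨k, hk⟩ := (Submonoid.mem_powers_iff _ _).mp (hζ (Units.mk0 x hx))
  refine ⟨k, ?_⟩
  have := congrArg Units.val hk
  simpa using this.symm

/-- a generator of the multiplicative group of a field which is not a prime field is not `-1`. -/
theorem one_add_gen_ne_zero (hnp : ¬ (Fintype.card F).Prime) {μ : F}
    (hgen : ∀ x : F, x ≠ 0 → ∃ k : ℕ, x = μ ^ k) : 1 + μ ≠ 0 := by
  classical
  intro h
  have hμ : μ = -1 := by
    rw [add_comm] at h
    exact eq_neg_of_add_eq_zero_left h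
  have hsub : (Finset.univ : Finset F) ⊆ {0, 1, -1} := by
    intro x _
    by_cases hx : x = 0
    · simp [hx]
    · obtain ⟨k, hk⟩ := hgen x hx
      rw [hμ] at hk
      rcases neg_one_pow_eq_or F k with h1 | h1
      · simp [hk, h1]
      · simp [hk, h1]
  have hcard : Fintype.card F ≤ 3 := by
    calc Fintype.card F = (Finset.univ : Finset F).card := rfl
      _ ≤ ({0, 1, -1} : Finset F).card := Finset.card_le_card hsub
      _ ≤ 3 := Finset.card_le_three
  have h2 : 2 ≤ Fintype.card F := Fintype.one_lt_card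
  apply hnp
  have : Fintype.card F = 2 ∨ Fintype.card F = 3 := by omega
  rcases this with h' | h'
  · rw [h']; exact Nat.prime_two
  · rw [h']; exact Nat.prime_three

/-- `SL_n(F)`, `n ≥ 4`, is generated by two regular unipotent elements which are conjugate
in `SL_n(F)`. -/
theorem exists_conj_gen (n : ℕ) (hn : 4 ≤ n) :
    ∃ u g : Matrix.SpecialLinearGroup (Fin n) F,
      (IsNilpotent ((u : Matrix (Fin n) (Fin n) F) - 1) ∧
        ((u : Matrix (Fin n) (Fin n) F) - 1) ^ (n - 1) ≠ 0) ∧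
      Subgroup.closure ({u, g * u * g⁻¹} : Set (Matrix.SpecialLinearGroup (Fin n) F)) = ⊤ := by
  by_cases hp : (Fintype.card F).Prime
  · exact ⟨uJ n F, _, uJ_regular n (by omega), closure_X_prime hp hn⟩
  · obtain ⟨μ, hμ0, hgen⟩ := exists_gen_field (F := F)
    by_cases h4 : n = 4
    · subst h4
      exact ⟨uJ 4 F, _, uJ_regular 4 (by omega), closure_X_four hp hμ0 hgen⟩
    · exact ⟨uJ n F, _, uJ_regular n (by omega),
        closure_Y (by omega) hμ0 (one_add_gen_ne_zero hp hgen) hgen⟩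

end Cfsg.Agent.Lib.Helper7.Reg2
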