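import Mathlib
import Cfsg.Agent.Lib.RegUni.Core

/-!
# `SL₃(F)` is generated by two conjugate regular unipotent elements: basics (helper7)

Upper unitriangular matrices of size three, and the criterion that a subgroup containing all
elementary transvections is everything.
-/

set_option autoImplicit false

namespace Cfsg.Agent.Lib.Helper7.Reg3

open Matrix

variable {F : Type*} [Field F]

/-- the upper unitriangular matrix with entries `s, s', w` -/
def uni (s s' w : F) : Matrix.SpecialLinearGroup (Fin 3) F :=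
  ⟨!![1, s, w; 0, 1, s'; 0, 0, 1], by simp [Matrix.det_fin_three]⟩

theorem uni_val (s s' w : F) : (uni s s' w).1 = !![1, s, w; 0, 1, s'; 0, 0, 1] := rfl

theorem uni_mul (s s' w t t' w' : F) :
    uni s s' w * uni t t' w' = uni (s + t) (s' + t') (w + w' + s * t') := by
  apply Subtype.ext
  rw [Matrix.SpecialLinearGroup.coe_mul, uni_val, uni_val, uni_val]
  ext i j
  fin_cases i <;> fin_cases j <;> simp [Matrix.mul_apply, Fin.sum_univ_three] <;> ring

theorem uni_zero : uni (0 : F) 0 0 = 1 := by
  apply Subtype.ext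
  rw [uni_val, Matrix.SpecialLinearGroup.coe_one]
  ext i j
  fin_cases i <;> fin_cases j <;> simp

theorem uni_inv (s s' w : F) : (uni s s' w)⁻¹ = uni (-s) (-s') (s * s' - w) := by
  rw [inv_eq_iff_mul_eq_one, uni_mul, ← uni_zero]
  congr 1 <;> ring

/-- the lower unitriangular matrix with entries `a, b, c` -/
def lni (a b c : F) : Matrix.SpecialLinearGroup (Fin 3) F :=
  ⟨!![1, 0, 0; a, 1, 0; c, b, 1], by simp [Matrix.det_fin_three]⟩

theorem lni_val (a b c : F) : (lni a b c).1 = !![1, 0, 0; a, 1, 0; c, b, 1] := rfl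

/-- `uni 1 1 r` is regular unipotent -/
theorem uni_regular (r : F) :
    IsNilpotent (((uni 1 1 r : Matrix.SpecialLinearGroup (Fin 3) F) : Matrix (Fin 3) (Fin 3) F) - 1) ∧
    (((uni 1 1 r : Matrix.SpecialLinearGroup (Fin 3) F) : Matrix (Fin 3) (Fin 3) F) - 1) ^ (3 - 1)
      ≠ 0 := by
  have h1 : ((uni 1 1 r : Matrix.SpecialLinearGroup (Fin 3) F) : Matrix (Fin 3) (Fin 3) F) - 1
      = !![0, 1, r; 0, 0, 1; 0, 0, 0] := by
    rw [uni_val]
    ext i j
    fin_cases i <;> fin_cases j <;> simp
  have h2 : (!![0, 1, r; 0, 0, 1; 0, 0, 0] : Matrix (Fin 3) (Fin 3) F) ^ 2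
      = !![0, 0, 1; 0, 0, 0; 0, 0, 0] := by
    rw [pow_two]
    ext i j
    fin_cases i <;> fin_cases j <;> simp [Matrix.mul_apply, Fin.sum_univ_three]
  rw [h1]
  refine ⟨⟨3, ?_⟩, ?_⟩
  · rw [pow_succ, h2]
    ext i j
    fin_cases i <;> fin_cases j <;> simp [Matrix.mul_apply, Fin.sum_univ_three]
  · show (!![0, 1, r; 0, 0, 1; 0, 0, 0] : Matrix (Fin 3) (Fin 3) F) ^ 2 ≠ 0
    rw [h2]
    intro h
    have := congrFun (congrFun h 0) 2
    simp at this

/-- a subgroup containing all elementary transvections is everything -/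
theorem eq_top_of_transv {H : Subgroup (Matrix.SpecialLinearGroup (Fin 3) F)}
    (htr : ∀ (i j : Fin 3) (hij : i ≠ j) (s : F),
      Matrix.SpecialLinearGroup.transvection hij s ∈ H) : H = ⊤ := by
  refine le_antisymm le_top (fun A _ ↦ ?_)
  refine Matrix.SpecialLinearGroup.diagonal_transvection_induction' (fun A => A ∈ H) A
    ?_ htr (fun _ _ ↦ H.mul_mem)
  intro i j hij c hc
  rw [Cfsg.Agent.Lib.Helper5.SLn.diag2n_decompose hij c hc]
  exact H.mul_mem (H.mul_mem (H.mul_mem (H.mul_mem (H.mul_mem (htr _ _ _ _) (htr _ _ _ _))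
    (htr _ _ _ _)) (htr _ _ _ _)) (htr _ _ _ _)) (htr _ _ _ _)

/-- elementary transvections as explicit matrices -/
theorem transv_val (i j : Fin 3) (hij : i ≠ j) (s : F) :
    (Matrix.SpecialLinearGroup.transvection hij s).1 = 1 + Matrix.single i j s := by
  rw [Matrix.SpecialLinearGroup.transvection_coe]

theorem transv_pow (i j : Fin 3) (hij : i ≠ j) (s : F) (n : ℕ) :
    (Matrix.SpecialLinearGroup.transvection hij s) ^ n
      = Matrix.SpecialLinearGroup.transvection hij ((n : F) * s) := by
  induction n with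
  | zero =>
    rw [pow_zero, Nat.cast_zero, zero_mul, Matrix.SpecialLinearGroup.transvection_coeff_zero]
  | succ n ih =>
    rw [pow_succ, ih]
    apply Subtype.ext
    rw [Matrix.SpecialLinearGroup.coe_mul, Matrix.SpecialLinearGroup.transvection_coe,
      Matrix.SpecialLinearGroup.transvection_coe, Matrix.SpecialLinearGroup.transvection_coe]
    show Matrix.transvection i j _ * Matrix.transvection i j _ = Matrix.transvection i j _
    rw [Matrix.transvection_mul_transvection_same i j hij]
    congr 1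
    push_cast
    ring

end Cfsg.Agent.Lib.Helper7.Reg3
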