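import Mathlib
import Cfsg.Agent.Lib.Helper7.Reg3A

/-!
# `SL₃(F)` is generated by two conjugate regular unipotent elements: prime fields (helper7)

Over the integers, six words of length `13` in the Jordan block `J` and its transpose are the
elementary matrices `1 ± 3 E_ij`; modulo `3` other words do the same job.
-/

set_option autoImplicit false
set_option maxRecDepth 100000

namespace Cfsg.Agent.Lib.Helper7.Reg3

open Matrix

/-- the integral Jordan block, its inverse, its transpose and the inverse of the transpose -/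
def uZ : Matrix (Fin 3) (Fin 3) ℤ := !![1, 1, 0; 0, 1, 1; 0, 0, 1]
def iuZ : Matrix (Fin 3) (Fin 3) ℤ := !![1, -1, 1; 0, 1, -1; 0, 0, 1]
def vZ : Matrix (Fin 3) (Fin 3) ℤ := !![1, 0, 0; 1, 1, 0; 0, 1, 1]
def ivZ : Matrix (Fin 3) (Fin 3) ℤ := !![1, 0, 0; -1, 1, 0; 1, -1, 1]

theorem zw13 : uZ * uZ * vZ * iuZ * vZ * uZ * ivZ * ivZ * ivZ * uZ * vZ * iuZ * vZ
    = !![1, 0, 3; 0, 1, 0; 0, 0, 1] := by decide
theorem zw12 : uZ * vZ * iuZ * iuZ * iuZ * vZ * uZ * ivZ * uZ * vZ * vZ * uZ * ivZ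
    = !![1, 3, 0; 0, 1, 0; 0, 0, 1] := by decide
theorem zw31 : uZ * ivZ * uZ * vZ * iuZ * iuZ * iuZ * vZ * uZ * ivZ * uZ * vZ * vZ
    = !![1, 0, 0; 0, 1, 0; 3, 0, 1] := by decide
theorem zw32 : uZ * ivZ * iuZ * iuZ * ivZ * uZ * ivZ * iuZ * vZ * vZ * vZ * iuZ * ivZ
    = !![1, 0, 0; 0, 1, 0; 0, -3, 1] := by decide
theorem zw21 : iuZ * vZ * uZ * uZ * vZ * iuZ * vZ * uZ * ivZ * ivZ * ivZ * uZ * vZ
    = !![1, 0, 0; 3, 1, 0; 0, 0, 1] := by decide
theorem zw23 : iuZ * ivZ * uZ * uZ * uZ * ivZ * iuZ * vZ * iuZ * ivZ * ivZ * iuZ * vZ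
    = !![1, 0, 0; 0, 1, -3; 0, 0, 1] := by decide

/-! modulo `3` -/

theorem tw12 : uZ * vZ * uZ * vZ * uZ * vZ * iuZ * ivZ * iuZ * ivZ * uZ * vZ
    = !![1, 1, 0; 0, 1, 0; 0, 0, 1] + 3 • !![30, -2, -8; 18, 0, -4; 1, 1, 0] := by decide
theorem tw23 : vZ * uZ * ivZ * iuZ * ivZ * iuZ * vZ * uZ * vZ * uZ * vZ * uZ
    = !![1, 0, 0; 0, 1, 1; 0, 0, 1] + 3 • !![0, -4, -8; 1, 0, -2; 1, 18, 30] := by decide
theorem tw21 : uZ * vZ * iuZ * ivZ * iuZ * ivZ * uZ * vZ * uZ * vZ * uZ * vZ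
    = !![1, 0, 0; 1, 1, 0; 0, 0, 1] + 3 • !![30, 18, 1; -2, 0, 1; -8, -4, 0] := by decide
theorem tw32 : vZ * uZ * vZ * uZ * vZ * uZ * ivZ * iuZ * ivZ * iuZ * vZ * uZ
    = !![1, 0, 0; 0, 1, 0; 0, 1, 1] + 3 • !![0, 1, 1; -4, 0, 18; -8, -2, 30] := by decide
theorem tw13 : iuZ * ivZ * iuZ * ivZ * iuZ * vZ * uZ * vZ * uZ * vZ * iuZ * ivZ * iuZ * ivZ
    = !![1, 0, 1; 0, 1, 0; 0, 0, 1] + 3 • !![-174, 140, -73; 141, -114, 59; -78, 63, -33] := by
  decide
theorem tw31 : iuZ * ivZ * iuZ * ivZ * uZ * vZ * uZ * vZ * uZ * ivZ * iuZ * ivZ * iuZ * ivZ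
    = !![1, 0, 0; 0, 1, 0; 1, 0, 1] + 3 • !![-174, 141, -78; 140, -114, 63; -73, 59, -33] := by
  decide

section field

variable {F : Type*} [Field F]

/-- reduction of integral matrices -/
def cm (A : Matrix (Fin 3) (Fin 3) ℤ) : Matrix (Fin 3) (Fin 3) F := A.map (Int.castRingHom F)

theorem cm_mul (A B : Matrix (Fin 3) (Fin 3) ℤ) : (cm (A * B) : Matrix (Fin 3) (Fin 3) F)
    = cm A * cm B := Matrix.map_mul

theorem uni_one_val : (uni (1 : F) 1 0).1 = cm uZ := by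
  rw [uni_val]
  ext i j
  fin_cases i <;> fin_cases j <;> simp [cm, uZ]

theorem uni_one_inv_val : ((uni (1 : F) 1 0)⁻¹).1 = cm iuZ := by
  rw [uni_inv, uni_val]
  ext i j
  fin_cases i <;> fin_cases j <;> simp [cm, iuZ]

theorem lni_one_val : (lni (1 : F) 1 0).1 = cm vZ := by
  rw [lni_val]
  ext i j
  fin_cases i <;> fin_cases j <;> simp [cm, vZ]

theorem lni_one_inv : (lni (1 : F) 1 0)⁻¹ = lni (-1) (-1) 1 := by
  rw [inv_eq_iff_mul_eq_one]
  apply Subtype.ext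
  rw [Matrix.SpecialLinearGroup.coe_mul, lni_val, lni_val, Matrix.SpecialLinearGroup.coe_one]
  ext i j
  fin_cases i <;> fin_cases j <;> simp [Matrix.mul_apply, Fin.sum_univ_three]

theorem lni_one_inv_val : ((lni (1 : F) 1 0)⁻¹).1 = cm ivZ := by
  rw [lni_one_inv, lni_val]
  ext i j
  fin_cases i <;> fin_cases j <;> simp [cm, ivZ]

/-- the conjugating element -/
def gJ : Matrix.SpecialLinearGroup (Fin 3) F :=
  ⟨!![0, 0, -1; 0, -1, 0; -1, 0, 0], by simp [Matrix.det_fin_three]⟩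

theorem gJ_conj : gJ * uni (1 : F) 1 0 * gJ⁻¹ = lni 1 1 0 := by
  rw [mul_inv_eq_iff_eq_mul]
  apply Subtype.ext
  rw [Matrix.SpecialLinearGroup.coe_mul, Matrix.SpecialLinearGroup.coe_mul, uni_val, lni_val]
  show !![0, 0, -1; 0, -1, 0; -1, 0, 0] * !![1, 1, 0; 0, 1, 1; 0, 0, 1]
    = !![1, 0, 0; 1, 1, 0; 0, 1, 1] * (!![0, 0, -1; 0, -1, 0; -1, 0, 0] : Matrix (Fin 3) (Fin 3) F)
  ext i j
  fin_cases i <;> fin_cases j <;> simp [Matrix.mul_apply, Fin.sum_univ_three]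


/-- an elementary matrix from an integral word -/
theorem transv_of_word (i j : Fin 3) (hij : i ≠ j) (n : ℤ)
    (w : Matrix.SpecialLinearGroup (Fin 3) F) (A : Matrix (Fin 3) (Fin 3) ℤ) (hw : w.1 = cm A)
    (hA : A = 1 + Matrix.single i j n) :
    w = Matrix.SpecialLinearGroup.transvection hij (n : F) := by
  apply Subtype.ext
  rw [hw, hA, transv_val]
  ext k l
  simp [cm, Matrix.single_apply, Matrix.one_apply]

/-- an elementary matrix from an integral word, modulo three -/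
theorem transv_of_word' (i j : Fin 3) (hij : i ≠ j) (h3 : (3 : F) = 0)
    (w : Matrix.SpecialLinearGroup (Fin 3) F) (A M : Matrix (Fin 3) (Fin 3) ℤ) (hw : w.1 = cm A)
    (hA : A = 1 + Matrix.single i j 1 + (3 : ℤ) • M) :
    w = Matrix.SpecialLinearGroup.transvection hij (1 : F) := by
  apply Subtype.ext
  rw [hw, hA, transv_val]
  ext k l
  have h3' : ((3 : ℤ) : F) = 0 := by exact_mod_cast h3
  simp only [cm, Matrix.map_apply, Matrix.add_apply, Matrix.smul_apply, smul_eq_mul,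
    Int.coe_castRingHom, Int.cast_add, Int.cast_mul]
  rw [h3', zero_mul, add_zero]
  simp [Matrix.single_apply, Matrix.one_apply]

theorem mem_zw13 {H : Subgroup (Matrix.SpecialLinearGroup (Fin 3) F)}
    (hu : uni (1 : F) 1 0 ∈ H) (hv : lni (1 : F) 1 0 ∈ H) :
    Matrix.SpecialLinearGroup.transvection (show (0 : Fin 3) ≠ 2 by decide) ((3 : ℤ) : F) ∈ H := by
  have hui := H.inv_mem hu
  have hvi := H.inv_mem hv
  set U := uni (1 : F) 1 0 with hU
  set V := lni (1 : F) 1 0 with hV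
  have h1 : (U * U * V * U⁻¹ * V * U * V⁻¹ * V⁻¹ * V⁻¹ * U * V * U⁻¹ * V) ∈ H := by
    repeat' (first | assumption | apply Subgroup.mul_mem)
  have h2 : (U * U * V * U⁻¹ * V * U * V⁻¹ * V⁻¹ * V⁻¹ * U * V * U⁻¹ * V).1
      = cm (uZ * uZ * vZ * iuZ * vZ * uZ * ivZ * ivZ * ivZ * uZ * vZ * iuZ * vZ) := by
    simp only [Matrix.SpecialLinearGroup.coe_mul, hU, hV, uni_one_val, uni_one_inv_val,
      lni_one_val, lni_one_inv_val, ← cm_mul]
  have h3 := transv_of_word 0 2 (by decide) (3) _ _ h2 (by rw [zw13]; decide)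
  rw [h3] at h1
  exact h1

theorem mem_zw12 {H : Subgroup (Matrix.SpecialLinearGroup (Fin 3) F)}
    (hu : uni (1 : F) 1 0 ∈ H) (hv : lni (1 : F) 1 0 ∈ H) :
    Matrix.SpecialLinearGroup.transvection (show (0 : Fin 3) ≠ 1 by decide) ((3 : ℤ) : F) ∈ H := by
  have hui := H.inv_mem hu
  have hvi := H.inv_mem hv
  set U := uni (1 : F) 1 0 with hU
  set V := lni (1 : F) 1 0 with hV
  have h1 : (U * V * U⁻¹ * U⁻¹ * U⁻¹ * V * U * V⁻¹ * U * V * V * U * V⁻¹) ∈ H := by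
    repeat' (first | assumption | apply Subgroup.mul_mem)
  have h2 : (U * V * U⁻¹ * U⁻¹ * U⁻¹ * V * U * V⁻¹ * U * V * V * U * V⁻¹).1
      = cm (uZ * vZ * iuZ * iuZ * iuZ * vZ * uZ * ivZ * uZ * vZ * vZ * uZ * ivZ) := by
    simp only [Matrix.SpecialLinearGroup.coe_mul, hU, hV, uni_one_val, uni_one_inv_val,
      lni_one_val, lni_one_inv_val, ← cm_mul]
  have h3 := transv_of_word 0 1 (by decide) (3) _ _ h2 (by rw [zw12]; decide)
  rw [h3] at h1
  exact h1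

theorem mem_zw31 {H : Subgroup (Matrix.SpecialLinearGroup (Fin 3) F)}
    (hu : uni (1 : F) 1 0 ∈ H) (hv : lni (1 : F) 1 0 ∈ H) :
    Matrix.SpecialLinearGroup.transvection (show (2 : Fin 3) ≠ 0 by decide) ((3 : ℤ) : F) ∈ H := by
  have hui := H.inv_mem hu
  have hvi := H.inv_mem hv
  set U := uni (1 : F) 1 0 with hU
  set V := lni (1 : F) 1 0 with hV
  have h1 : (U * V⁻¹ * U * V * U⁻¹ * U⁻¹ * U⁻¹ * V * U * V⁻¹ * U * V * V) ∈ H := by
    repeat' (first | assumption | apply Subgroup.mul_mem)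
  have h2 : (U * V⁻¹ * U * V * U⁻¹ * U⁻¹ * U⁻¹ * V * U * V⁻¹ * U * V * V).1
      = cm (uZ * ivZ * uZ * vZ * iuZ * iuZ * iuZ * vZ * uZ * ivZ * uZ * vZ * vZ) := by
    simp only [Matrix.SpecialLinearGroup.coe_mul, hU, hV, uni_one_val, uni_one_inv_val,
      lni_one_val, lni_one_inv_val, ← cm_mul]
  have h3 := transv_of_word 2 0 (by decide) (3) _ _ h2 (by rw [zw31]; decide)
  rw [h3] at h1
  exact h1

theorem mem_zw32 {H : Subgroup (Matrix.SpecialLinearGroup (Fin 3) F)}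
    (hu : uni (1 : F) 1 0 ∈ H) (hv : lni (1 : F) 1 0 ∈ H) :
    Matrix.SpecialLinearGroup.transvection (show (2 : Fin 3) ≠ 1 by decide) ((-3 : ℤ) : F) ∈ H := by
  have hui := H.inv_mem hu
  have hvi := H.inv_mem hv
  set U := uni (1 : F) 1 0 with hU
  set V := lni (1 : F) 1 0 with hV
  have h1 : (U * V⁻¹ * U⁻¹ * U⁻¹ * V⁻¹ * U * V⁻¹ * U⁻¹ * V * V * V * U⁻¹ * V⁻¹) ∈ H := by
    repeat' (first | assumption | apply Subgroup.mul_mem)
  have h2 : (U * V⁻¹ * U⁻¹ * U⁻¹ * V⁻¹ * U * V⁻¹ * U⁻¹ * V * V * V * U⁻¹ * V⁻¹).1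
      = cm (uZ * ivZ * iuZ * iuZ * ivZ * uZ * ivZ * iuZ * vZ * vZ * vZ * iuZ * ivZ) := by
    simp only [Matrix.SpecialLinearGroup.coe_mul, hU, hV, uni_one_val, uni_one_inv_val,
      lni_one_val, lni_one_inv_val, ← cm_mul]
  have h3 := transv_of_word 2 1 (by decide) (-3) _ _ h2 (by rw [zw32]; decide)
  rw [h3] at h1
  exact h1

theorem mem_zw21 {H : Subgroup (Matrix.SpecialLinearGroup (Fin 3) F)}
    (hu : uni (1 : F) 1 0 ∈ H) (hv : lni (1 : F) 1 0 ∈ H) :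
    Matrix.SpecialLinearGroup.transvection (show (1 : Fin 3) ≠ 0 by decide) ((3 : ℤ) : F) ∈ H := by
  have hui := H.inv_mem hu
  have hvi := H.inv_mem hv
  set U := uni (1 : F) 1 0 with hU
  set V := lni (1 : F) 1 0 with hV
  have h1 : (U⁻¹ * V * U * U * V * U⁻¹ * V * U * V⁻¹ * V⁻¹ * V⁻¹ * U * V) ∈ H := by
    repeat' (first | assumption | apply Subgroup.mul_mem)
  have h2 : (U⁻¹ * V * U * U * V * U⁻¹ * V * U * V⁻¹ * V⁻¹ * V⁻¹ * U * V).1
      = cm (iuZ * vZ * uZ * uZ * vZ * iuZ * vZ * uZ * ivZ * ivZ * ivZ * uZ * vZ) := by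
    simp only [Matrix.SpecialLinearGroup.coe_mul, hU, hV, uni_one_val, uni_one_inv_val,
      lni_one_val, lni_one_inv_val, ← cm_mul]
  have h3 := transv_of_word 1 0 (by decide) (3) _ _ h2 (by rw [zw21]; decide)
  rw [h3] at h1
  exact h1

theorem mem_zw23 {H : Subgroup (Matrix.SpecialLinearGroup (Fin 3) F)}
    (hu : uni (1 : F) 1 0 ∈ H) (hv : lni (1 : F) 1 0 ∈ H) :
    Matrix.SpecialLinearGroup.transvection (show (1 : Fin 3) ≠ 2 by decide) ((-3 : ℤ) : F) ∈ H := by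
  have hui := H.inv_mem hu
  have hvi := H.inv_mem hv
  set U := uni (1 : F) 1 0 with hU
  set V := lni (1 : F) 1 0 with hV
  have h1 : (U⁻¹ * V⁻¹ * U * U * U * V⁻¹ * U⁻¹ * V * U⁻¹ * V⁻¹ * V⁻¹ * U⁻¹ * V) ∈ H := by
    repeat' (first | assumption | apply Subgroup.mul_mem)
  have h2 : (U⁻¹ * V⁻¹ * U * U * U * V⁻¹ * U⁻¹ * V * U⁻¹ * V⁻¹ * V⁻¹ * U⁻¹ * V).1
      = cm (iuZ * ivZ * uZ * uZ * uZ * ivZ * iuZ * vZ * iuZ * ivZ * ivZ * iuZ * vZ) := by
    simp only [Matrix.SpecialLinearGroup.coe_mul, hU, hV, uni_one_val, uni_one_inv_val,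
      lni_one_val, lni_one_inv_val, ← cm_mul]
  have h3 := transv_of_word 1 2 (by decide) (-3) _ _ h2 (by rw [zw23]; decide)
  rw [h3] at h1
  exact h1

theorem mem_tw12 {H : Subgroup (Matrix.SpecialLinearGroup (Fin 3) F)} (h3 : (3 : F) = 0)
    (hu : uni (1 : F) 1 0 ∈ H) (hv : lni (1 : F) 1 0 ∈ H) :
    Matrix.SpecialLinearGroup.transvection (show (0 : Fin 3) ≠ 1 by decide) (1 : F) ∈ H := by
  have hui := H.inv_mem hu
  have hvi := H.inv_mem hv
  set U := uni (1 : F) 1 0 with hU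
  set V := lni (1 : F) 1 0 with hV
  have h1 : (U * V * U * V * U * V * U⁻¹ * V⁻¹ * U⁻¹ * V⁻¹ * U * V) ∈ H := by
    repeat' (first | assumption | apply Subgroup.mul_mem)
  have h2 : (U * V * U * V * U * V * U⁻¹ * V⁻¹ * U⁻¹ * V⁻¹ * U * V).1
      = cm (uZ * vZ * uZ * vZ * uZ * vZ * iuZ * ivZ * iuZ * ivZ * uZ * vZ) := by
    simp only [Matrix.SpecialLinearGroup.coe_mul, hU, hV, uni_one_val, uni_one_inv_val,
      lni_one_val, lni_one_inv_val, ← cm_mul]
  have h4 := transv_of_word' 0 1 (by decide) h3 _ _ !![30, -2, -8; 18, 0, -4; 1, 1, 0] h2 (by rw [tw12]; decide)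
  rw [h4] at h1
  exact h1

theorem mem_tw23 {H : Subgroup (Matrix.SpecialLinearGroup (Fin 3) F)} (h3 : (3 : F) = 0)
    (hu : uni (1 : F) 1 0 ∈ H) (hv : lni (1 : F) 1 0 ∈ H) :
    Matrix.SpecialLinearGroup.transvection (show (1 : Fin 3) ≠ 2 by decide) (1 : F) ∈ H := by
  have hui := H.inv_mem hu
  have hvi := H.inv_mem hv
  set U := uni (1 : F) 1 0 with hU
  set V := lni (1 : F) 1 0 with hV
  have h1 : (V * U * V⁻¹ * U⁻¹ * V⁻¹ * U⁻¹ * V * U * V * U * V * U) ∈ H := by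
    repeat' (first | assumption | apply Subgroup.mul_mem)
  have h2 : (V * U * V⁻¹ * U⁻¹ * V⁻¹ * U⁻¹ * V * U * V * U * V * U).1
      = cm (vZ * uZ * ivZ * iuZ * ivZ * iuZ * vZ * uZ * vZ * uZ * vZ * uZ) := by
    simp only [Matrix.SpecialLinearGroup.coe_mul, hU, hV, uni_one_val, uni_one_inv_val,
      lni_one_val, lni_one_inv_val, ← cm_mul]
  have h4 := transv_of_word' 1 2 (by decide) h3 _ _ !![0, -4, -8; 1, 0, -2; 1, 18, 30] h2 (by rw [tw23]; decide)
  rw [h4] at h1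
  exact h1

theorem mem_tw21 {H : Subgroup (Matrix.SpecialLinearGroup (Fin 3) F)} (h3 : (3 : F) = 0)
    (hu : uni (1 : F) 1 0 ∈ H) (hv : lni (1 : F) 1 0 ∈ H) :
    Matrix.SpecialLinearGroup.transvection (show (1 : Fin 3) ≠ 0 by decide) (1 : F) ∈ H := by
  have hui := H.inv_mem hu
  have hvi := H.inv_mem hv
  set U := uni (1 : F) 1 0 with hU
  set V := lni (1 : F) 1 0 with hV
  have h1 : (U * V * U⁻¹ * V⁻¹ * U⁻¹ * V⁻¹ * U * V * U * V * U * V) ∈ H := by
    repeat' (first | assumption | apply Subgroup.mul_mem)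
  have h2 : (U * V * U⁻¹ * V⁻¹ * U⁻¹ * V⁻¹ * U * V * U * V * U * V).1
      = cm (uZ * vZ * iuZ * ivZ * iuZ * ivZ * uZ * vZ * uZ * vZ * uZ * vZ) := by
    simp only [Matrix.SpecialLinearGroup.coe_mul, hU, hV, uni_one_val, uni_one_inv_val,
      lni_one_val, lni_one_inv_val, ← cm_mul]
  have h4 := transv_of_word' 1 0 (by decide) h3 _ _ !![30, 18, 1; -2, 0, 1; -8, -4, 0] h2 (by rw [tw21]; decide)
  rw [h4] at h1
  exact h1

theorem mem_tw32 {H : Subgroup (Matrix.SpecialLinearGroup (Fin 3) F)} (h3 : (3 : F) = 0)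
    (hu : uni (1 : F) 1 0 ∈ H) (hv : lni (1 : F) 1 0 ∈ H) :
    Matrix.SpecialLinearGroup.transvection (show (2 : Fin 3) ≠ 1 by decide) (1 : F) ∈ H := by
  have hui := H.inv_mem hu
  have hvi := H.inv_mem hv
  set U := uni (1 : F) 1 0 with hU
  set V := lni (1 : F) 1 0 with hV
  have h1 : (V * U * V * U * V * U * V⁻¹ * U⁻¹ * V⁻¹ * U⁻¹ * V * U) ∈ H := by
    repeat' (first | assumption | apply Subgroup.mul_mem)
  have h2 : (V * U * V * U * V * U * V⁻¹ * U⁻¹ * V⁻¹ * U⁻¹ * V * U).1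
      = cm (vZ * uZ * vZ * uZ * vZ * uZ * ivZ * iuZ * ivZ * iuZ * vZ * uZ) := by
    simp only [Matrix.SpecialLinearGroup.coe_mul, hU, hV, uni_one_val, uni_one_inv_val,
      lni_one_val, lni_one_inv_val, ← cm_mul]
  have h4 := transv_of_word' 2 1 (by decide) h3 _ _ !![0, 1, 1; -4, 0, 18; -8, -2, 30] h2 (by rw [tw32]; decide)
  rw [h4] at h1
  exact h1

theorem mem_tw13 {H : Subgroup (Matrix.SpecialLinearGroup (Fin 3) F)} (h3 : (3 : F) = 0)
    (hu : uni (1 : F) 1 0 ∈ H) (hv : lni (1 : F) 1 0 ∈ H) :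
    Matrix.SpecialLinearGroup.transvection (show (0 : Fin 3) ≠ 2 by decide) (1 : F) ∈ H := by
  have hui := H.inv_mem hu
  have hvi := H.inv_mem hv
  set U := uni (1 : F) 1 0 with hU
  set V := lni (1 : F) 1 0 with hV
  have h1 : (U⁻¹ * V⁻¹ * U⁻¹ * V⁻¹ * U⁻¹ * V * U * V * U * V * U⁻¹ * V⁻¹ * U⁻¹ * V⁻¹) ∈ H := by
    repeat' (first | assumption | apply Subgroup.mul_mem)
  have h2 : (U⁻¹ * V⁻¹ * U⁻¹ * V⁻¹ * U⁻¹ * V * U * V * U * V * U⁻¹ * V⁻¹ * U⁻¹ * V⁻¹).1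
      = cm (iuZ * ivZ * iuZ * ivZ * iuZ * vZ * uZ * vZ * uZ * vZ * iuZ * ivZ * iuZ * ivZ) := by
    simp only [Matrix.SpecialLinearGroup.coe_mul, hU, hV, uni_one_val, uni_one_inv_val,
      lni_one_val, lni_one_inv_val, ← cm_mul]
  have h4 := transv_of_word' 0 2 (by decide) h3 _ _ !![-174, 140, -73; 141, -114, 59; -78, 63, -33] h2 (by rw [tw13]; decide)
  rw [h4] at h1
  exact h1

theorem mem_tw31 {H : Subgroup (Matrix.SpecialLinearGroup (Fin 3) F)} (h3 : (3 : F) = 0)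
    (hu : uni (1 : F) 1 0 ∈ H) (hv : lni (1 : F) 1 0 ∈ H) :
    Matrix.SpecialLinearGroup.transvection (show (2 : Fin 3) ≠ 0 by decide) (1 : F) ∈ H := by
  have hui := H.inv_mem hu
  have hvi := H.inv_mem hv
  set U := uni (1 : F) 1 0 with hU
  set V := lni (1 : F) 1 0 with hV
  have h1 : (U⁻¹ * V⁻¹ * U⁻¹ * V⁻¹ * U * V * U * V * U * V⁻¹ * U⁻¹ * V⁻¹ * U⁻¹ * V⁻¹) ∈ H := by
    repeat' (first | assumption | apply Subgroup.mul_mem)
  have h2 : (U⁻¹ * V⁻¹ * U⁻¹ * V⁻¹ * U * V * U * V * U * V⁻¹ * U⁻¹ * V⁻¹ * U⁻¹ * V⁻¹).1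
      = cm (iuZ * ivZ * iuZ * ivZ * uZ * vZ * uZ * vZ * uZ * ivZ * iuZ * ivZ * iuZ * ivZ) := by
    simp only [Matrix.SpecialLinearGroup.coe_mul, hU, hV, uni_one_val, uni_one_inv_val,
      lni_one_val, lni_one_inv_val, ← cm_mul]
  have h4 := transv_of_word' 2 0 (by decide) h3 _ _ !![-174, 141, -78; 140, -114, 63; -73, 59, -33] h2 (by rw [tw31]; decide)
  rw [h4] at h1
  exact h1

theorem transv_mul (i j : Fin 3) (hij : i ≠ j) (s t : F) :
    Matrix.SpecialLinearGroup.transvection hij s * Matrix.SpecialLinearGroup.transvection hij t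
      = Matrix.SpecialLinearGroup.transvection hij (s + t) := by
  apply Subtype.ext
  rw [Matrix.SpecialLinearGroup.coe_mul, Matrix.SpecialLinearGroup.transvection_coe,
    Matrix.SpecialLinearGroup.transvection_coe, Matrix.SpecialLinearGroup.transvection_coe]
  show Matrix.transvection i j _ * Matrix.transvection i j _ = Matrix.transvection i j _
  rw [Matrix.transvection_mul_transvection_same i j hij]

theorem transv_zero (i j : Fin 3) (hij : i ≠ j) :
    Matrix.SpecialLinearGroup.transvection hij (0 : F) = 1 :=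
  Matrix.SpecialLinearGroup.transvection_coeff_zero _

theorem transv_inv (i j : Fin 3) (hij : i ≠ j) (s : F) :
    (Matrix.SpecialLinearGroup.transvection hij s)⁻¹
      = Matrix.SpecialLinearGroup.transvection hij (-s) := by
  rw [inv_eq_iff_mul_eq_one, transv_mul, add_neg_cancel, transv_zero]

/-- the coefficients of the elementary matrices in position `(i, j)` of a subgroup -/
def coeffs (H : Subgroup (Matrix.SpecialLinearGroup (Fin 3) F)) (i j : Fin 3) (hij : i ≠ j) :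
    AddSubgroup F where
  carrier := {s | Matrix.SpecialLinearGroup.transvection hij s ∈ H}
  add_mem' := by
    intro s t hs ht
    show Matrix.SpecialLinearGroup.transvection hij (s + t) ∈ H
    rw [← transv_mul]
    exact H.mul_mem hs ht
  zero_mem' := by
    show Matrix.SpecialLinearGroup.transvection hij (0 : F) ∈ H
    rw [transv_zero]
    exact H.one_mem
  neg_mem' := by
    intro s hs
    show Matrix.SpecialLinearGroup.transvection hij (-s) ∈ H
    rw [← transv_inv]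
    exact H.inv_mem hs

theorem mem_coeffs {H : Subgroup (Matrix.SpecialLinearGroup (Fin 3) F)} {i j : Fin 3}
    {hij : i ≠ j} {s : F} :
    s ∈ coeffs H i j hij ↔ Matrix.SpecialLinearGroup.transvection hij s ∈ H := Iff.rfl

/-- the Jordan block and its transpose give the elementary matrices with entry three -/
theorem transv_three_mem {H : Subgroup (Matrix.SpecialLinearGroup (Fin 3) F)}
    (hu : uni (1 : F) 1 0 ∈ H) (hv : lni (1 : F) 1 0 ∈ H) (i j : Fin 3) (hij : i ≠ j) :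
    Matrix.SpecialLinearGroup.transvection hij (3 : F) ∈ H := by
  have h13 := mem_zw13 hu hv
  have h12 := mem_zw12 hu hv
  have h31 := mem_zw31 hu hv
  have h32 := H.inv_mem (mem_zw32 hu hv)
  have h21 := mem_zw21 hu hv
  have h23 := H.inv_mem (mem_zw23 hu hv)
  rw [transv_inv] at h32 h23
  push_cast at h13 h12 h31 h32 h21 h23
  rw [neg_neg] at h32 h23
  fin_cases i <;> fin_cases j <;> first | exact absurd rfl hij | assumption

/-- in characteristic three they give the elementary matrices with entry one -/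
theorem transv_one_mem {H : Subgroup (Matrix.SpecialLinearGroup (Fin 3) F)} (h3 : (3 : F) = 0)
    (hu : uni (1 : F) 1 0 ∈ H) (hv : lni (1 : F) 1 0 ∈ H) (i j : Fin 3) (hij : i ≠ j) :
    Matrix.SpecialLinearGroup.transvection hij (1 : F) ∈ H := by
  have h13 := mem_tw13 h3 hu hv
  have h12 := mem_tw12 h3 hu hv
  have h31 := mem_tw31 h3 hu hv
  have h32 := mem_tw32 h3 hu hv
  have h21 := mem_tw21 h3 hu hv
  have h23 := mem_tw23 h3 hu hv
  fin_cases i <;> fin_cases j <;> first | exact absurd rfl hij | assumption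

/-- some nonzero coefficient occurs in every position -/
theorem exists_coeff_ne_zero {H : Subgroup (Matrix.SpecialLinearGroup (Fin 3) F)}
    (hu : uni (1 : F) 1 0 ∈ H) (hv : lni (1 : F) 1 0 ∈ H) (i j : Fin 3) (hij : i ≠ j) :
    ∃ s : F, s ≠ 0 ∧ s ∈ coeffs H i j hij := by
  by_cases h3 : (3 : F) = 0
  · exact ⟨1, one_ne_zero, transv_one_mem h3 hu hv i j hij⟩
  · exact ⟨3, h3, transv_three_mem hu hv i j hij⟩

/-- **prime fields**: the Jordan block and its transpose generate -/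
theorem prime_case [Fintype F] (hcard : (Fintype.card F).Prime) :
    ∃ u g : Matrix.SpecialLinearGroup (Fin 3) F,
      IsNilpotent ((u : Matrix (Fin 3) (Fin 3) F) - 1) ∧
      ((u : Matrix (Fin 3) (Fin 3) F) - 1) ^ (3 - 1) ≠ 0 ∧
      Subgroup.closure ({u, g * u * g⁻¹} : Set (Matrix.SpecialLinearGroup (Fin 3) F)) = ⊤ := by
  refine ⟨uni 1 1 0, gJ, (uni_regular 0).1, (uni_regular 0).2, ?_⟩
  rw [gJ_conj]
  set H : Subgroup (Matrix.SpecialLinearGroup (Fin 3) F) :=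
    Subgroup.closure {uni 1 1 0, lni 1 1 0} with hH
  have hu : uni (1 : F) 1 0 ∈ H := Subgroup.subset_closure (by simp)
  have hv : lni (1 : F) 1 0 ∈ H := Subgroup.subset_closure (by simp)
  have : Fact (Nat.card F).Prime := ⟨by rw [Nat.card_eq_fintype_card]; exact hcard⟩
  apply eq_top_of_transv
  intro i j hij s
  obtain ⟨t, ht0, ht⟩ := exists_coeff_ne_zero hu hv i j hij
  rcases (coeffs H i j hij).eq_bot_or_eq_top_of_prime_card with h | h
  · rw [h, AddSubgroup.mem_bot] at ht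
    exact absurd ht ht0
  · have : s ∈ coeffs H i j hij := by rw [h]; exact AddSubgroup.mem_top s
    exact this

end field

end Cfsg.Agent.Lib.Helper7.Reg3
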