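import Mathlib
import Cfsg.Agent.Lib.Helper7.Reg3B
import Cfsg.Agent.Lib.Helper7.Pres2I

/-!
# `SL₃(F)` is generated by two conjugate regular unipotent elements: characteristic two (helper7)

In characteristic two the square of a regular unipotent element of `SL₃` is a root element; this
gives the group over the prime field, and one more root element with a generating parameter.
-/

set_option autoImplicit false

namespace Cfsg.Agent.Lib.Helper7.Reg3

open Matrix

variable {F : Type*} [Field F]

/-- the commutator formula for elementary matrices -/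
theorem transv_comm (i j k : Fin 3) (hij : i ≠ j) (hjk : j ≠ k) (hik : i ≠ k) (s t : F) :
    Matrix.SpecialLinearGroup.transvection hij s * Matrix.SpecialLinearGroup.transvection hjk t *
      (Matrix.SpecialLinearGroup.transvection hij s)⁻¹ *
      (Matrix.SpecialLinearGroup.transvection hjk t)⁻¹
      = Matrix.SpecialLinearGroup.transvection hik (s * t) := by
  rw [transv_inv, transv_inv]
  apply Subtype.ext
  simp only [Matrix.SpecialLinearGroup.coe_mul, transv_val]
  fin_cases i <;> fin_cases j <;> fin_cases k <;>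
    first
    | exact absurd rfl hij
    | exact absurd rfl hjk
    | exact absurd rfl hik
    | (ext a b
       fin_cases a <;> fin_cases b <;>
         simp [Matrix.mul_apply, Fin.sum_univ_three, Matrix.single_apply, Matrix.one_apply])


/-- all elementary matrices with the entry `s` lie in `H` -/
def AllPos (H : Subgroup (Matrix.SpecialLinearGroup (Fin 3) F)) (s : F) : Prop :=
  ∀ (i j : Fin 3) (hij : i ≠ j), Matrix.SpecialLinearGroup.transvection hij s ∈ H

variable {H : Subgroup (Matrix.SpecialLinearGroup (Fin 3) F)}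

theorem comm_mem {x y : Matrix.SpecialLinearGroup (Fin 3) F} (hx : x ∈ H) (hy : y ∈ H) :
    x * y * x⁻¹ * y⁻¹ ∈ H :=
  H.mul_mem (H.mul_mem (H.mul_mem hx hy) (H.inv_mem hx)) (H.inv_mem hy)

theorem AllPos.mul {s t : F} (hs : AllPos H s) (ht : AllPos H t) : AllPos H (s * t) := by
  intro i k hik
  obtain ⟨j, hij, hjk⟩ : ∃ j : Fin 3, i ≠ j ∧ j ≠ k := by
    fin_cases i <;> fin_cases k <;> first | exact absurd rfl hik | decide
  rw [← transv_comm i j k hij hjk hik]
  exact comm_mem (hs i j hij) (ht j k hjk)

theorem AllPos.pow {s : F} (h1 : AllPos H 1) (hs : AllPos H s) (n : ℕ) : AllPos H (s ^ n) := by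
  induction n with
  | zero => rw [pow_zero]; exact h1
  | succ n ih => rw [pow_succ]; exact ih.mul hs

theorem AllPos.zero : AllPos H 0 := by
  intro i j hij
  rw [transv_zero]
  exact H.one_mem

/-- one position suffices -/
theorem AllPos.of_one {s : F} (h1 : AllPos H 1)
    (hs : Matrix.SpecialLinearGroup.transvection (show (0 : Fin 3) ≠ 2 by decide) s ∈ H) :
    AllPos H s := by
  have h01 : Matrix.SpecialLinearGroup.transvection (show (0 : Fin 3) ≠ 1 by decide) s ∈ H := by
    have := comm_mem hs (h1 2 1 (by decide))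
    rwa [transv_comm 0 2 1 (by decide) (by decide) (by decide), mul_one] at this
  have h12 : Matrix.SpecialLinearGroup.transvection (show (1 : Fin 3) ≠ 2 by decide) s ∈ H := by
    have := comm_mem (h1 1 0 (by decide)) hs
    rwa [transv_comm 1 0 2 (by decide) (by decide) (by decide), one_mul] at this
  have h21 : Matrix.SpecialLinearGroup.transvection (show (2 : Fin 3) ≠ 1 by decide) s ∈ H := by
    have := comm_mem (h1 2 0 (by decide)) h01
    rwa [transv_comm 2 0 1 (by decide) (by decide) (by decide), one_mul] at this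
  have h10 : Matrix.SpecialLinearGroup.transvection (show (1 : Fin 3) ≠ 0 by decide) s ∈ H := by
    have := comm_mem h12 (h1 2 0 (by decide))
    rwa [transv_comm 1 2 0 (by decide) (by decide) (by decide), mul_one] at this
  have h20 : Matrix.SpecialLinearGroup.transvection (show (2 : Fin 3) ≠ 0 by decide) s ∈ H := by
    have := comm_mem h21 (h1 1 0 (by decide))
    rwa [transv_comm 2 1 0 (by decide) (by decide) (by decide), mul_one] at this
  intro i j hij
  fin_cases i <;> fin_cases j <;> first | exact absurd rfl hij | assumption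

theorem lni_mul (a b c a' b' c' : F) :
    lni a b c * lni a' b' c' = lni (a + a') (b + b') (c + c' + b * a') := by
  apply Subtype.ext
  rw [Matrix.SpecialLinearGroup.coe_mul, lni_val, lni_val, lni_val]
  ext i j
  fin_cases i <;> fin_cases j <;> simp [Matrix.mul_apply, Fin.sum_univ_three] <;> ring

theorem uni_eq_transv (s : F) :
    uni 0 0 s = Matrix.SpecialLinearGroup.transvection (show (0 : Fin 3) ≠ 2 by decide) s := by
  apply Subtype.ext
  rw [uni_val, transv_val]
  ext i j
  fin_cases i <;> fin_cases j <;> simp [Matrix.single_apply, Matrix.one_apply]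

/-- the reversal, in characteristic two -/
theorem rev_conj (h2 : (2 : F) = 0) :
    (uni (0 : F) 0 1 * lni 0 0 1 * uni 0 0 1) * lni 1 1 0
      = uni 1 1 0 * (uni (0 : F) 0 1 * lni 0 0 1 * uni 0 0 1) := by
  have h11 : (1 : F) + 1 = 0 := by rw [one_add_one_eq_two]; exact h2
  apply Subtype.ext
  simp only [Matrix.SpecialLinearGroup.coe_mul, uni_val, lni_val]
  ext i j
  fin_cases i <;> fin_cases j <;> simp [Matrix.mul_apply, Fin.sum_univ_three, h11]

/-- **characteristic two** -/
theorem char_two_case [Fintype F] (h2 : (2 : F) = 0) :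
    ∃ u g : Matrix.SpecialLinearGroup (Fin 3) F,
      IsNilpotent ((u : Matrix (Fin 3) (Fin 3) F) - 1) ∧
      ((u : Matrix (Fin 3) (Fin 3) F) - 1) ^ (3 - 1) ≠ 0 ∧
      Subgroup.closure ({u, g * u * g⁻¹} : Set (Matrix.SpecialLinearGroup (Fin 3) F)) = ⊤ := by
  classical
  obtain ⟨ζ, hζ⟩ := IsCyclic.exists_generator (α := Fˣ)
  have hgen := Cfsg.Agent.Lib.Helper7.Pres2.gen_nat ζ hζ
  set τ : F := (ζ : F) with hτ
  have h11 : (1 : F) + 1 = 0 := by rw [one_add_one_eq_two]; exact h2
  have hconj : (gJ * (uni τ 0 0)⁻¹) * uni 1 1 τ * (gJ * (uni τ 0 0)⁻¹)⁻¹ = lni 1 1 0 := by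
    rw [← gJ_conj]
    have : uni (1 : F) 1 τ = uni τ 0 0 * uni 1 1 0 * (uni τ 0 0)⁻¹ := by
      rw [uni_inv, uni_mul, uni_mul]
      congr 1 <;> ring
    rw [this]
    group
  refine ⟨uni 1 1 τ, gJ * (uni τ 0 0)⁻¹, (uni_regular τ).1, (uni_regular τ).2, ?_⟩
  rw [hconj]
  set H : Subgroup (Matrix.SpecialLinearGroup (Fin 3) F) :=
    Subgroup.closure {uni 1 1 τ, lni 1 1 0} with hH
  have hu : uni (1 : F) 1 τ ∈ H := Subgroup.subset_closure (by simp)
  have hv : lni (1 : F) 1 0 ∈ H := Subgroup.subset_closure (by simp)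
  -- squares
  have hu2 : uni (0 : F) 0 1 ∈ H := by
    have := H.mul_mem hu hu
    rw [uni_mul] at this
    have e1 : (1 : F) + 1 = 0 := h11
    have e2 : τ + τ + 1 * 1 = 1 := by linear_combination τ * h2
    rwa [e1, e2] at this
  have hv2 : lni (0 : F) 0 1 ∈ H := by
    have := H.mul_mem hv hv
    rw [lni_mul] at this
    have e2 : (0 : F) + 0 + 1 * 1 = 1 := by ring
    rwa [h11, e2] at this
  have hw : uni (0 : F) 0 1 * lni 0 0 1 * uni 0 0 1 ∈ H := H.mul_mem (H.mul_mem hu2 hv2) hu2
  have hJ : uni (1 : F) 1 0 ∈ H := by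
    have := H.mul_mem (H.mul_mem hw hv) (H.inv_mem hw)
    rwa [rev_conj h2, mul_inv_cancel_right] at this
  have hτH : uni (0 : F) 0 τ ∈ H := by
    have := H.mul_mem (H.inv_mem hJ) hu
    rw [uni_inv, uni_mul] at this
    have e1 : (-1 : F) + 1 = 0 := by ring
    have e2 : (1 : F) * 1 - 0 + τ + -1 * 1 = τ := by ring
    rwa [e1, e2] at this
  have h3 : (3 : F) = 1 := by linear_combination h2
  have hone : AllPos H 1 := by
    intro i j hij
    have := transv_three_mem hJ hv i j hij
    rwa [h3] at this
  have hτ' : AllPos H τ := by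
    apply AllPos.of_one hone
    rw [← uni_eq_transv]
    exact hτH
  apply eq_top_of_transv
  intro i j hij s
  by_cases hs : s = 0
  · rw [hs]; exact AllPos.zero i j hij
  · obtain ⟨n, hn⟩ := hgen s hs
    rw [hn]
    exact AllPos.pow hone hτ' n i j hij

end Cfsg.Agent.Lib.Helper7.Reg3
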