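import Mathlib
import Cfsg.Agent.Lib.Helper7.Reg3C
import Cfsg.Agent.Lib.RegUni.Core

/-!
# `SL₃(F)` is generated by two conjugate regular unipotent elements: a one-parameter family (helper7)

For `u` upper and `v` lower unitriangular in a suitable one-parameter family the product `v u v`
is upper triangular with diagonal `(D, D⁻², D)`.  Conjugation by it makes the image of the
subgroup in `U / Z(U)` a module over `ℤ[D³, D⁻³]`, which is everything as soon as `D³` generates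
the field and is not conjugate to its inverse.
-/

set_option autoImplicit false

namespace Cfsg.Agent.Lib.Helper7.Reg3

open Matrix Polynomial Cfsg.Agent.RegUni

variable {F : Type*} [Field F]

/-- the parameters of the family -/
def pa (D : F) : F := -(D + 1) ^ 2 / D
def pc (D : F) : F := (D + 1) ^ 3 / D
def pr (D : F) : F := (2 * (D + 1) ^ 2 - 3 * (D + 1) + 2) / (D + 1) ^ 3
def pp (D : F) : F := -((D + 1) ^ 2 - 2 * (D + 1) + 2) / ((D + 1) * D)

theorem pa_ne_zero {D : F} (hD : D ≠ 0) (hE : D + 1 ≠ 0) : pa D ≠ 0 := by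
  unfold pa
  exact div_ne_zero (neg_ne_zero.mpr (pow_ne_zero _ hE)) hD

theorem pc_ne_zero {D : F} (hD : D ≠ 0) (hE : D + 1 ≠ 0) : pc D ≠ 0 := by
  unfold pc
  exact div_ne_zero (pow_ne_zero _ hE) hD

/-- `v u v` is upper triangular -/
theorem vuv_val {D : F} (hD : D ≠ 0) (hE : D + 1 ≠ 0) :
    (lni (pa D) (pa D) (pc D) * uni 1 1 (pr D) * lni (pa D) (pa D) (pc D)).1
      = !![D, pp D, pr D; 0, (D ^ 2)⁻¹, pp D; 0, 0, D] := by
  simp only [Matrix.SpecialLinearGroup.coe_mul, uni_val, lni_val]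
  ext i j
  fin_cases i <;> fin_cases j <;>
    simp [Matrix.mul_apply, Fin.sum_univ_three, pa, pc, pr, pp] <;> field_simp <;> ring

/-- conjugation of the upper unitriangular group by an upper triangular element -/
theorem z_conj {D p r : F} (hD : D ≠ 0) {z : Matrix.SpecialLinearGroup (Fin 3) F}
    (hz : z.1 = !![D, p, r; 0, (D ^ 2)⁻¹, p; 0, 0, D]) (s s' w : F) :
    z * uni s s' w * z⁻¹
      = uni (D ^ 3 * s) ((D ^ 3)⁻¹ * s') (w + (p * s' - D ^ 3 * s * p) / D) := by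
  rw [mul_inv_eq_iff_eq_mul]
  apply Subtype.ext
  simp only [Matrix.SpecialLinearGroup.coe_mul, hz, uni_val]
  ext i j
  fin_cases i <;> fin_cases j <;>
    simp [Matrix.mul_apply, Fin.sum_univ_three] <;> field_simp <;> ring

/-- the conjugating element -/
def gconj (a k : F) (ha : a ≠ 0) : Matrix.SpecialLinearGroup (Fin 3) F :=
  ⟨!![0, 0, -a⁻¹; 0, -1, 0; -a, k, 0], by simp [Matrix.det_fin_three, ha]⟩

theorem gconj_val (a k : F) (ha : a ≠ 0) :
    (gconj a k ha).1 = !![0, 0, -a⁻¹; 0, -1, 0; -a, k, 0] := rfl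

theorem gconj_conj (a c r : F) (ha : a ≠ 0) :
    gconj a (a * r - c / a) ha * uni 1 1 r * (gconj a (a * r - c / a) ha)⁻¹ = lni a a c := by
  rw [mul_inv_eq_iff_eq_mul]
  apply Subtype.ext
  simp only [Matrix.SpecialLinearGroup.coe_mul, uni_val, lni_val, gconj_val]
  ext i j
  fin_cases i <;> fin_cases j <;>
    simp [Matrix.mul_apply, Fin.sum_univ_three] <;> field_simp <;> ring


/-- the image of `H ∩ U` in `U / Z(U)` -/
def Kbar (H : Subgroup (Matrix.SpecialLinearGroup (Fin 3) F)) : AddSubgroup (F × F) where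
  carrier := {x | ∃ w : F, uni x.1 x.2 w ∈ H}
  add_mem' := by
    rintro x y ⟨w, hw⟩ ⟨w', hw'⟩
    refine ⟨w + w' + x.1 * y.2, ?_⟩
    have := H.mul_mem hw hw'
    rwa [uni_mul] at this
  zero_mem' := ⟨0, by
    show uni (0 : F) 0 0 ∈ H
    rw [uni_zero]; exact H.one_mem⟩
  neg_mem' := by
    rintro x ⟨w, hw⟩
    refine ⟨x.1 * x.2 - w, ?_⟩
    have := H.inv_mem hw
    rwa [uni_inv] at this

theorem mem_Kbar {H : Subgroup (Matrix.SpecialLinearGroup (Fin 3) F)} {x : F × F} :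
    x ∈ Kbar H ↔ ∃ w : F, uni x.1 x.2 w ∈ H := Iff.rfl

section closure

variable {H : Subgroup (Matrix.SpecialLinearGroup (Fin 3) F)} {D p r : F} (hD : D ≠ 0)
  {z : Matrix.SpecialLinearGroup (Fin 3) F} (hzH : z ∈ H)
  (hz : z.1 = !![D, p, r; 0, (D ^ 2)⁻¹, p; 0, 0, D])

include hD hzH hz

theorem Kbar_T {x : F × F} (hx : x ∈ Kbar H) : (D ^ 3 * x.1, (D ^ 3)⁻¹ * x.2) ∈ Kbar H := by
  obtain ⟨w, hw⟩ := hx
  refine ⟨w + (p * x.2 - D ^ 3 * x.1 * p) / D, ?_⟩
  show uni (D ^ 3 * x.1) ((D ^ 3)⁻¹ * x.2) _ ∈ H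
  rw [← z_conj hD hz]
  exact H.mul_mem (H.mul_mem hzH hw) (H.inv_mem hzH)

theorem Kbar_poly (f : ℤ[X]) : ∀ x ∈ Kbar H,
    (aeval (D ^ 3) f * x.1, aeval (D ^ 3)⁻¹ f * x.2) ∈ Kbar H := by
  induction f using Polynomial.induction_on with
  | C a =>
    intro x hx
    have h1 := (Kbar H).zsmul_mem hx a
    have h2 : a • x = (aeval (D ^ 3) (C a : ℤ[X]) * x.1, aeval (D ^ 3)⁻¹ (C a : ℤ[X]) * x.2) := by
      rw [aeval_C, aeval_C]
      ext
      · simp
      · simp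
    rwa [h2] at h1
  | add f g hf hg =>
    intro x hx
    have h1 := (Kbar H).add_mem (hf x hx) (hg x hx)
    have h2 : (aeval (D ^ 3) f * x.1, aeval (D ^ 3)⁻¹ f * x.2)
        + (aeval (D ^ 3) g * x.1, aeval (D ^ 3)⁻¹ g * x.2)
        = (aeval (D ^ 3) (f + g) * x.1, aeval (D ^ 3)⁻¹ (f + g) * x.2) := by
      rw [map_add, map_add]
      ext
      · simp [add_mul]
      · simp [add_mul]
    rwa [h2] at h1
  | monomial n a ih =>
    intro x hx
    have h1 := Kbar_T hD hzH hz (ih x hx)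
    have h2 : (D ^ 3 * (aeval (D ^ 3) (C a * X ^ n : ℤ[X]) * x.1),
        (D ^ 3)⁻¹ * (aeval (D ^ 3)⁻¹ (C a * X ^ n : ℤ[X]) * x.2))
        = (aeval (D ^ 3) (C a * X ^ (n + 1) : ℤ[X]) * x.1,
          aeval (D ^ 3)⁻¹ (C a * X ^ (n + 1) : ℤ[X]) * x.2) := by
      simp only [map_mul, map_pow, aeval_X, aeval_C]
      ext
      · simp only; ring
      · simp only; ring
    rwa [h2] at h1

end closure


/-- the upper unitriangular matrices with zero first superdiagonal entry are transvections -/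
theorem tv_bv_two (a : Fin 3 → F) (ha : a 2 = 0) :
    tv a (bv 2 : Fin 3 → F) = uni 0 (a 1) (a 0) := by
  have h0 : (bv 2 : Fin 3 → F) ⬝ᵥ a = 0 := by rw [bv_dot]; exact ha
  apply Subtype.ext
  rw [tv_val h0, uni_val]
  unfold Tm
  ext i j
  fin_cases i <;> fin_cases j <;> simp [vecMulVec_apply, bv, ha]

theorem Qin_add {H : Subgroup (Matrix.SpecialLinearGroup (Fin 3) F)} {φ ψ : Fin 3 → F}
    (hφ : Qin H φ) (hψ : Qin H ψ) (b : Fin 3 → F) (hb : ψ ⬝ᵥ b = 0) :
    Qin H (φ + (φ ⬝ᵥ b) • ψ) := by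
  have h1 := Qin_conj (hψ b hb) hφ
  rwa [tv_val hb, vecMul_Tm] at h1

/-- the main step: the family generates as soon as `D ^ 3` generates the field and is not
conjugate to its inverse -/
theorem vuv_main (D : F) (hD : D ≠ 0) (hE : D + 1 ≠ 0)
    (hA : Function.Surjective (fun f : ℤ[X] => aeval (D ^ 3) f))
    (hA' : Function.Surjective (fun f : ℤ[X] => aeval (D ^ 3)⁻¹ f))
    (hB : ∃ f : ℤ[X], aeval (D ^ 3) f = 0 ∧ aeval (D ^ 3)⁻¹ f ≠ 0) :
    ∃ u g : Matrix.SpecialLinearGroup (Fin 3) F,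
      IsNilpotent ((u : Matrix (Fin 3) (Fin 3) F) - 1) ∧
      ((u : Matrix (Fin 3) (Fin 3) F) - 1) ^ (3 - 1) ≠ 0 ∧
      Subgroup.closure ({u, g * u * g⁻¹} : Set (Matrix.SpecialLinearGroup (Fin 3) F)) = ⊤ := by
  have ha : pa D ≠ 0 := pa_ne_zero hD hE
  have hc : pc D ≠ 0 := pc_ne_zero hD hE
  set a := pa D with ha_def
  set c := pc D with hc_def
  set r := pr D with hr_def
  refine ⟨uni 1 1 r, gconj a (a * r - c / a) ha, (uni_regular r).1, (uni_regular r).2, ?_⟩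
  rw [gconj_conj]
  set H : Subgroup (Matrix.SpecialLinearGroup (Fin 3) F) :=
    Subgroup.closure {uni 1 1 r, lni a a c} with hH
  have hu : uni 1 1 r ∈ H := Subgroup.subset_closure (by simp)
  have hv : lni a a c ∈ H := Subgroup.subset_closure (by simp)
  have hzH : lni a a c * uni 1 1 r * lni a a c ∈ H := H.mul_mem (H.mul_mem hv hu) hv
  have hz := vuv_val hD hE
  rw [← ha_def, ← hc_def, ← hr_def] at hz
  have hpoly := Kbar_poly hD hzH hz
  have h11 : ((1 : F), (1 : F)) ∈ Kbar H := ⟨r, hu⟩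
  -- the second coordinate
  obtain ⟨f₀, hf₀, hf₀'⟩ := hB
  have h0t : ∀ t : F, ((0 : F), t) ∈ Kbar H := by
    intro t
    have h1 := hpoly f₀ _ h11
    rw [hf₀] at h1
    obtain ⟨g, hg⟩ := hA' (t / aeval (D ^ 3)⁻¹ f₀)
    have h2 := hpoly g _ h1
    have e : (aeval (D ^ 3) g * ((0 : F) * 1), aeval (D ^ 3)⁻¹ g * (aeval (D ^ 3)⁻¹ f₀ * 1))
        = ((0 : F), t) := by
      have hg' : aeval (D ^ 3)⁻¹ g = t / aeval (D ^ 3)⁻¹ f₀ := hg
      rw [hg']
      ext
      · simp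
      · show t / aeval (D ^ 3)⁻¹ f₀ * (aeval (D ^ 3)⁻¹ f₀ * 1) = t
        rw [mul_one, div_mul_cancel₀ _ hf₀']
    rwa [e] at h2
  have hs0 : ∀ s : F, (s, (0 : F)) ∈ Kbar H := by
    intro s
    obtain ⟨f, hf⟩ := hA s
    have hf' : aeval (D ^ 3) f = s := hf
    have h1 := hpoly f _ h11
    have h2 := (Kbar H).sub_mem h1 (h0t (aeval (D ^ 3)⁻¹ f * 1))
    have e : (aeval (D ^ 3) f * 1, aeval (D ^ 3)⁻¹ f * 1) - ((0 : F), aeval (D ^ 3)⁻¹ f * 1)
        = (s, (0 : F)) := by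
      rw [hf']
      ext
      · simp
      · simp
    rwa [e] at h2
  -- the centre of the unitriangular group
  have hcen : ∀ x : F, uni 0 0 x ∈ H := by
    intro x
    obtain ⟨w₁, hw₁⟩ := hs0 x
    obtain ⟨w₂, hw₂⟩ := h0t 1
    have h1 := comm_mem hw₁ hw₂
    have e : uni x 0 w₁ * uni 0 1 w₂ * (uni x 0 w₁)⁻¹ * (uni 0 1 w₂)⁻¹ = uni 0 0 x := by
      rw [uni_inv, uni_inv, uni_mul, uni_mul, uni_mul]
      congr 1 <;> ring
    rwa [e] at h1
  have hall : ∀ s s' w : F, uni s s' w ∈ H := by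
    intro s s' w
    obtain ⟨w₀, hw₀⟩ := (Kbar H).add_mem (hs0 s) (h0t s')
    have hw₀' : uni (s + 0) (0 + s') w₀ ∈ H := hw₀
    have h1 := H.mul_mem hw₀' (hcen (w - w₀))
    rw [uni_mul] at h1
    have e1 : s + 0 + 0 = s := by ring
    have e2 : 0 + s' + 0 = s' := by ring
    have e3 : w₀ + (w - w₀) + (s + 0) * 0 = w := by ring
    rwa [e1, e2, e3] at h1
  -- the covectors
  have hQ2 : Qin H (bv 2 : Fin 3 → F) := by
    intro b hb
    rw [bv_dot] at hb
    rw [tv_bv_two b hb]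
    exact hall _ _ _
  have hQ0 : Qin H (bv 0 : Fin 3 → F) := by
    have h1 := Qin_conj (H.mul_mem hv (hall (-a / c) 0 (-1 / c))) hQ2
    have e : (bv 2 : Fin 3 → F) ᵥ* (lni a a c * uni (-a / c) 0 (-1 / c)).1 = c • bv 0 := by
      rw [Matrix.SpecialLinearGroup.coe_mul, lni_val, uni_val]
      ext j
      fin_cases j <;>
        simp [Matrix.vecMul, dotProduct, Fin.sum_univ_three, Matrix.mul_apply, bv] <;>
        field_simp <;> ring
    rw [e] at h1
    exact Qin_of_smul hc h1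
  have hQ1 : Qin H (bv 1 : Fin 3 → F) := by
    have h1 := Qin_conj (H.mul_mem (H.mul_mem hv (hall ((-c / a - a) / c) 0 (-1 / c))) hv) hQ2
    have e : (bv 2 : Fin 3 → F) ᵥ* (lni a a c * uni ((-c / a - a) / c) 0 (-1 / c) * lni a a c).1
        = (-c / a) • bv 1 := by
      rw [Matrix.SpecialLinearGroup.coe_mul, Matrix.SpecialLinearGroup.coe_mul, lni_val, uni_val]
      ext j
      fin_cases j <;>
        simp [Matrix.vecMul, dotProduct, Fin.sum_univ_three, Matrix.mul_apply, bv] <;>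
        field_simp <;> ring
    rw [e] at h1
    exact Qin_of_smul (div_ne_zero (neg_ne_zero.mpr hc) ha) h1
  apply eq_top_of_Qin
  intro j
  fin_cases j
  · exact hQ0
  · exact hQ1
  · exact hQ2

end Cfsg.Agent.Lib.Helper7.Reg3
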