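import Mathlib
import Cfsg.Agent.Lib.Helper7.Reg3D

/-!
# `SL₃(F)` is generated by two conjugate regular unipotent elements: odd non-prime fields (helper7)

The cube of a generator of the multiplicative group generates the field and is not conjugate to
its inverse, as soon as the field is not a prime field and has odd characteristic.
-/

set_option autoImplicit false

namespace Cfsg.Agent.Lib.Helper7.Reg3

open Matrix Polynomial

variable {F : Type*} [Field F] [Fintype F]

/-- a polynomial separating `δ` from `δ⁻¹` -/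
theorem exists_poly_sep (p : ℕ) [Fact p.Prime] [Algebra (ZMod p) F] (e : ℕ)
    (hcard : Fintype.card F = p ^ e) (δ : F)
    (hB : ∀ n : ℕ, n < e → δ ^ (p ^ n) ≠ δ⁻¹) :
    ∃ f : ℤ[X], aeval δ f = 0 ∧ aeval δ⁻¹ f ≠ 0 := by
  classical
  have hp : p.Prime := Fact.out
  obtain ⟨f, hf⟩ := Polynomial.map_surjective (Int.castRingHom (ZMod p)) ZMod.intCast_surjective
    (minpoly (ZMod p) δ)
  have hFcard : p ^ Module.finrank (ZMod p) F = Nat.card F :=
    FiniteField.pow_finrank_eq_natCard p F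
  have hFe : Module.finrank (ZMod p) F = e := by
    rw [Nat.card_eq_fintype_card, hcard] at hFcard
    exact Nat.pow_right_injective hp.two_le hFcard
  refine ⟨f, ?_, ?_⟩
  · rw [← Cfsg.Agent.Lib.Helper7.Pres2.aeval_map_zmod p, hf]
    exact minpoly.aeval _ _
  · rw [← Cfsg.Agent.Lib.Helper7.Pres2.aeval_map_zmod p, hf]
    intro h0
    obtain ⟨σ, hσ⟩ := minpoly.exists_algEquiv_of_root (K := ZMod p) (x := δ⁻¹) (y := δ)
      (IsAlgebraic.of_finite _ δ) h0
    obtain ⟨⟨n, hn⟩, hσn⟩ :=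
      (FiniteField.bijective_frobeniusAlgEquivOfAlgebraic_pow (ZMod p) F).2 σ
    rw [hFe] at hn
    have hσn' : σ = FiniteField.frobeniusAlgEquivOfAlgebraic (ZMod p) F ^ n := hσn.symm
    have h1 : σ δ⁻¹ = δ⁻¹ ^ (p ^ n) := by
      rw [hσn', AlgEquiv.coe_pow, FiniteField.coe_frobeniusAlgEquivOfAlgebraic_iterate, ZMod.card]
    rw [hσ] at h1
    have h2 : δ⁻¹ = δ ^ (p ^ n) := by
      rw [inv_pow] at h1
      rw [← _root_.inv_inj, inv_inv]
      exact h1
    exact hB n hn h2.symm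


/-- **odd non-prime fields** -/
theorem odd_case (p : ℕ) [Fact p.Prime] [Algebra (ZMod p) F] (e : ℕ)
    (hcard : Fintype.card F = p ^ e) (hp2 : p ≠ 2) (he : 2 ≤ e) :
    ∃ u g : Matrix.SpecialLinearGroup (Fin 3) F,
      IsNilpotent ((u : Matrix (Fin 3) (Fin 3) F) - 1) ∧
      ((u : Matrix (Fin 3) (Fin 3) F) - 1) ^ (3 - 1) ≠ 0 ∧
      Subgroup.closure ({u, g * u * g⁻¹} : Set (Matrix.SpecialLinearGroup (Fin 3) F)) = ⊤ := by
  classical
  have hp : p.Prime := Fact.out
  have hp3 : 3 ≤ p := by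
    have := hp.two_le
    omega
  obtain ⟨ζ, hζ⟩ := IsCyclic.exists_generator (α := Fˣ)
  have hdvd := Cfsg.Agent.Lib.Helper7.Pres2.gen_pow_eq_one ζ hζ
  rw [hcard] at hdvd
  set D : F := (ζ : F) with hD_def
  have hD : D ≠ 0 := ζ.ne_zero
  -- sizes
  obtain ⟨e', rfl⟩ : ∃ e' : ℕ, e = e' + 1 := ⟨e - 1, by omega⟩
  have he' : 1 ≤ e' := by omega
  set m : ℕ := p ^ e' with hm_def
  have hq : p ^ (e' + 1) = m * p := pow_succ p e'
  have hmp : p ≤ m := by
    calc p = p ^ 1 := (pow_one p).symm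
      _ ≤ p ^ e' := Nat.pow_le_pow_right hp.pos he'
  have hq3 : 3 * m ≤ p ^ (e' + 1) := by
    rw [hq, mul_comm]; exact Nat.mul_le_mul_left m hp3
  have hle : ∀ n : ℕ, n < e' + 1 → p ^ n ≤ m := fun n hn =>
    Nat.pow_le_pow_right hp.pos (by omega)
  -- `D + 1 ≠ 0`
  have hE : D + 1 ≠ 0 := by
    intro h
    have h1 : D ^ 2 = 1 := by
      have : D = -1 := eq_neg_of_add_eq_zero_left h
      rw [this]; ring
    have h2 := Nat.le_of_dvd (by norm_num) (hdvd 2 h1)
    omega
  -- Frobenius conditions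
  have hAfrob : ∀ r : ℕ, 0 < r → r < e' + 1 → (D ^ 3) ^ (p ^ r) ≠ D ^ 3 := by
    intro r hr0 hr h
    have hpr : p ≤ p ^ r := by
      calc p = p ^ 1 := (pow_one p).symm
        _ ≤ p ^ r := Nat.pow_le_pow_right hp.pos hr0
    have h1 : D ^ (3 * (p ^ r - 1)) = 1 := by
      have h2 : D ^ (3 * (p ^ r - 1)) * D ^ 3 = 1 * D ^ 3 := by
        rw [← pow_add, one_mul, ← h, ← pow_mul]
        congr 1
        have : 1 ≤ p ^ r := by omega
        rw [Nat.mul_sub, mul_one, Nat.sub_add_cancel (by omega)]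
      exact mul_right_cancel₀ (pow_ne_zero 3 hD) h2
    have h3 := Nat.le_of_dvd (by omega) (hdvd _ h1)
    have h4 := hle r hr
    omega
  have hAfrob' : ∀ r : ℕ, 0 < r → r < e' + 1 → ((D ^ 3)⁻¹) ^ (p ^ r) ≠ (D ^ 3)⁻¹ := by
    intro r hr0 hr h
    rw [inv_pow, _root_.inv_inj] at h
    exact hAfrob r hr0 hr h
  have hBfrob : ∀ n : ℕ, n < e' + 1 → (D ^ 3) ^ (p ^ n) ≠ (D ^ 3)⁻¹ := by
    intro n hn h
    have h1 : D ^ (3 * p ^ n + 3) = 1 := by
      rw [pow_add, pow_mul, h, inv_mul_cancel₀ (pow_ne_zero 3 hD)]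
    have h3 := Nat.le_of_dvd (by omega) (hdvd _ h1)
    have h4 := hle n hn
    have hpn : 1 ≤ p ^ n := Nat.one_le_pow _ _ hp.pos
    by_cases hp5 : 5 ≤ p
    · have hq5 : 5 * m ≤ p ^ (e' + 1) := by
        rw [hq, mul_comm]; exact Nat.mul_le_mul_left m hp5
      omega
    · have hp3' : p = 3 := by
        have : p ≠ 4 := by
          intro h4'
          rw [h4'] at hp
          exact absurd hp (by decide)
        omega
      by_cases hn' : n + 1 < e' + 1
      · have h5 : 3 * p ^ n ≤ m := by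
          have : p ^ (n + 1) ≤ m := Nat.pow_le_pow_right hp.pos (by omega)
          rw [pow_succ, hp3'] at this
          rw [hp3']; omega
        omega
      · have hne : n = e' := by omega
        rw [hne] at h1 h3
        have hq' : p ^ (e' + 1) = 3 * p ^ e' := by rw [pow_succ, hp3']; ring
        have h6 : p ^ (e' + 1) - 1 ∣ 4 := by
          have h7 := hdvd _ h1
          have h8 : 3 * p ^ e' + 3 = (p ^ (e' + 1) - 1) + 4 := by omega
          rw [h8] at h7
          exact (Nat.dvd_add_right (dvd_refl _)).mp h7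
        have h9 := Nat.le_of_dvd (by norm_num) h6
        omega
  have hA := Cfsg.Agent.Lib.Helper7.Pres2.aeval_surjective_of_frob p (e' + 1) hcard (D ^ 3) hAfrob
  have hA' := Cfsg.Agent.Lib.Helper7.Pres2.aeval_surjective_of_frob p (e' + 1) hcard (D ^ 3)⁻¹
    hAfrob'
  have hB := exists_poly_sep p (e' + 1) hcard (D ^ 3) hBfrob
  exact vuv_main D hD hE hA hA' hB

end Cfsg.Agent.Lib.Helper7.Reg3
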