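import Mathlib
import Cfsg.Agent.H9.SUm

/-!
# `SU₃(q)` is generated by two conjugate regular unipotent elements: basics (helper7)

We work in the special unitary group `GG 3 σ` of the antidiagonal Hermitian form (helper9's model):
unitriangular elements, the torus, the reversal.
-/

set_option autoImplicit false

namespace Cfsg.Agent.Lib.Helper7.RegU3

open Matrix Cfsg.Agent.H9.SUa

variable {K : Type*} [Field K]

/-- the adjoint of an explicit matrix -/
theorem adj3 (σ : K →+* K) (a b c d e f g h i : K) :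
    adj σ (!![a, b, c; d, e, f; g, h, i] : Matrix (Fin 3) (Fin 3) K)
      = !![σ i, σ f, σ c; σ h, σ e, σ b; σ g, σ d, σ a] := by
  ext x y
  fin_cases x <;> fin_cases y <;> simp [adj_apply, Fin.rev]

/-- upper unitriangular matrices -/
def upM (s s' y : K) : Matrix (Fin 3) (Fin 3) K := !![1, s, y; 0, 1, s'; 0, 0, 1]

/-- lower unitriangular matrices -/
def loM (a a' y : K) : Matrix (Fin 3) (Fin 3) K := !![1, 0, 0; a, 1, 0; y, a', 1]

theorem upM_mul (s s' y t t' w : K) :
    upM s s' y * upM t t' w = upM (s + t) (s' + t') (y + w + s * t') := by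
  unfold upM
  ext i j
  fin_cases i <;> fin_cases j <;> simp [Matrix.mul_apply, Fin.sum_univ_three] <;> ring

theorem loM_mul (a a' y b b' w : K) :
    loM a a' y * loM b b' w = loM (a + b) (a' + b') (y + w + a' * b) := by
  unfold loM
  ext i j
  fin_cases i <;> fin_cases j <;> simp [Matrix.mul_apply, Fin.sum_univ_three] <;> ring

theorem upM_zero : upM (0 : K) 0 0 = 1 := by
  unfold upM
  ext i j
  fin_cases i <;> fin_cases j <;> simp

theorem adj_upM (σ : K →+* K) (s s' y : K) : adj σ (upM s s' y) = upM (σ s') (σ s) (σ y) := by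
  unfold upM
  rw [adj3]
  simp

theorem adj_loM (σ : K →+* K) (a a' y : K) : adj σ (loM a a' y) = loM (σ a') (σ a) (σ y) := by
  unfold loM
  rw [adj3]
  simp

theorem upM_inj {s s' y t t' w : K} (h : upM s s' y = upM t t' w) : s = t ∧ s' = t' ∧ y = w := by
  unfold upM at h
  refine ⟨?_, ?_, ?_⟩
  · simpa using congrFun (congrFun h 0) 1
  · simpa using congrFun (congrFun h 1) 2
  · simpa using congrFun (congrFun h 0) 2

theorem loM_inj {s s' y t t' w : K} (h : loM s s' y = loM t t' w) : s = t ∧ s' = t' ∧ y = w := by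
  unfold loM at h
  refine ⟨?_, ?_, ?_⟩
  · simpa using congrFun (congrFun h 1) 0
  · simpa using congrFun (congrFun h 2) 1
  · simpa using congrFun (congrFun h 2) 0

section finite

variable [Finite K] {σ : K →+* K}

/-- the shape of a unitary upper unitriangular matrix -/
theorem up_shape (hσ : ∀ x, σ (σ x) = x) {g : GG 3 σ} {s s' y : K} (hg : mt g = upM s s' y) :
    s' = -σ s ∧ y + σ y + s * σ s = 0 := by
  have h1 := mt_unit g
  rw [hg, adj_upM, upM_mul, ← upM_zero] at h1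
  obtain ⟨e1, -, e3⟩ := upM_inj h1
  have e4 : s' = -σ s := by
    have : σ (σ s') = σ (-s) := by rw [eq_neg_of_add_eq_zero_right e1]
    rw [hσ, map_neg] at this
    exact this
  refine ⟨e4, ?_⟩
  linear_combination e3

/-- the shape of a unitary lower unitriangular matrix -/
theorem lo_shape (hσ : ∀ x, σ (σ x) = x) {g : GG 3 σ} {a a' y : K} (hg : mt g = loM a a' y) :
    a' = -σ a ∧ y + σ y + a * σ a = 0 := by
  have h1 := mt_unit g
  have h0 : loM (0 : K) 0 0 = 1 := by
    unfold loM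
    ext i j
    fin_cases i <;> fin_cases j <;> simp
  rw [hg, adj_loM, loM_mul, ← h0] at h1
  obtain ⟨e1, -, e3⟩ := loM_inj h1
  have e4 : a' = -σ a := by
    have : σ (σ a') = σ (-a) := by rw [eq_neg_of_add_eq_zero_right e1]
    rw [hσ, map_neg] at this
    exact this
  refine ⟨e4, ?_⟩
  rw [e4, map_neg, hσ] at e3
  linear_combination e3

/-- upper unitriangular elements -/
def uu (hσ : ∀ x, σ (σ x) = x) (a b : K) (h : b + σ b + a * σ a = 0) : GG 3 σ :=
  mk (upM a (-σ a) b) (by unfold upM; simp [Matrix.det_fin_three]) (by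
    rw [adj_upM, upM_mul, ← upM_zero, map_neg, hσ]
    congr 1 <;> first | ring1 | linear_combination h)

theorem mt_uu (hσ : ∀ x, σ (σ x) = x) (a b : K) (h : b + σ b + a * σ a = 0) :
    mt (uu hσ a b h) = upM a (-σ a) b := rfl

/-- lower unitriangular elements -/
def ll (hσ : ∀ x, σ (σ x) = x) (a b : K) (h : b + σ b + a * σ a = 0) : GG 3 σ :=
  mk (loM a (-σ a) b) (by unfold loM; simp [Matrix.det_fin_three]) (by
    have h0 : loM (0 : K) 0 0 = 1 := by
      unfold loM
      ext i j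
      fin_cases i <;> fin_cases j <;> simp
    rw [adj_loM, loM_mul, ← h0, map_neg, hσ]
    congr 1 <;> first | ring1 | linear_combination h)

theorem mt_ll (hσ : ∀ x, σ (σ x) = x) (a b : K) (h : b + σ b + a * σ a = 0) :
    mt (ll hσ a b h) = loM a (-σ a) b := rfl

/-- the torus -/
def hh (hσ : ∀ x, σ (σ x) = x) (t : K) (ht : t ≠ 0) : GG 3 σ :=
  mk (!![t, 0, 0; 0, σ t / t, 0; 0, 0, (σ t)⁻¹]) (by
    have hst : σ t ≠ 0 := (map_ne_zero σ).mpr ht
    simp [Matrix.det_fin_three]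
    field_simp) (by
    have hst : σ t ≠ 0 := (map_ne_zero σ).mpr ht
    rw [adj3]
    ext i j
    fin_cases i <;> fin_cases j <;>
      simp [Matrix.mul_apply, Fin.sum_univ_three, map_div₀, map_inv₀, hσ] <;> field_simp)

theorem mt_hh (hσ : ∀ x, σ (σ x) = x) (t : K) (ht : t ≠ 0) :
    mt (hh hσ t ht) = !![t, 0, 0; 0, σ t / t, 0; 0, 0, (σ t)⁻¹] := rfl

/-- the reversal -/
def w0 : GG 3 σ :=
  mk (!![0, 0, 1; 0, -1, 0; 1, 0, 0]) (by simp [Matrix.det_fin_three]) (by
    rw [adj3]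
    ext i j
    fin_cases i <;> fin_cases j <;> simp [Matrix.mul_apply, Fin.sum_univ_three])

theorem mt_w0 : mt (w0 : GG 3 σ) = !![0, 0, 1; 0, -1, 0; 1, 0, 0] := rfl

theorem mt_w0_inv : mt (w0 : GG 3 σ)⁻¹ = !![0, 0, 1; 0, -1, 0; 1, 0, 0] := by
  rw [mt_inv, mt_w0, adj3]
  simp

/-- conjugation by the reversal -/
theorem w0_conj_lo (g : GG 3 σ) (a a' y : K) (hg : mt g = loM a a' y) :
    mt (w0 * g * w0⁻¹) = upM (-a') (-a) y := by
  rw [mt_mul, mt_mul, mt_w0_inv, mt_w0, hg]
  unfold loM upM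
  ext i j
  fin_cases i <;> fin_cases j <;> simp [Matrix.mul_apply, Fin.sum_univ_three]

theorem w0_conj_up (g : GG 3 σ) (s s' y : K) (hg : mt g = upM s s' y) :
    mt (w0⁻¹ * g * w0) = loM (-s') (-s) y := by
  rw [mt_mul, mt_mul, mt_w0_inv, mt_w0, hg]
  unfold loM upM
  ext i j
  fin_cases i <;> fin_cases j <;> simp [Matrix.mul_apply, Fin.sum_univ_three]

theorem w0_conj_hh (hσ : ∀ x, σ (σ x) = x) (t : K) (ht : t ≠ 0) :
    w0 * hh hσ t ht * w0⁻¹ = hh hσ (σ t)⁻¹ (inv_ne_zero ((map_ne_zero σ).mpr ht)) := by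
  have hst : σ t ≠ 0 := (map_ne_zero σ).mpr ht
  apply mt_injective
  rw [mt_mul, mt_mul, mt_w0_inv, mt_w0, mt_hh, mt_hh]
  ext i j
  fin_cases i <;> fin_cases j <;>
    simp [Matrix.mul_apply, Fin.sum_univ_three, map_inv₀, hσ] <;> field_simp

/-- a unitary matrix whose first column is a multiple of the first basis vector is upper
triangular, with diagonal `(t, σ t / t, (σ t)⁻¹)` -/
theorem tri_of_col (hσ : ∀ x, σ (σ x) = x) (z : GG 3 σ) (h1 : mt z 1 0 = 0) (h2 : mt z 2 0 = 0) :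
    mt z 0 0 ≠ 0 ∧ mt z 2 1 = 0 ∧ mt z 2 2 = (σ (mt z 0 0))⁻¹ ∧
      mt z 1 1 = σ (mt z 0 0) / mt z 0 0 := by
  have hu := mt_unit' z
  have hd := mt_det z
  obtain ⟨M, hM⟩ : ∃ M : Matrix (Fin 3) (Fin 3) K, M = mt z := ⟨_, rfl⟩
  rw [← hM] at hu hd h1 h2 ⊢
  have e : M = !![M 0 0, M 0 1, M 0 2; M 1 0, M 1 1, M 1 2; M 2 0, M 2 1, M 2 2] := by
    ext i j
    fin_cases i <;> fin_cases j <;> rfl
  rw [h1, h2] at e
  have hu00 := congrFun (congrFun hu 0) 0
  have hu10 := congrFun (congrFun hu 1) 0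
  rw [e, adj3] at hu00 hu10
  simp [Matrix.mul_apply, Fin.sum_univ_three] at hu00 hu10
  have ht : M 0 0 ≠ 0 := by
    intro h0
    rw [h0, mul_zero] at hu00
    exact zero_ne_one hu00
  have h21 : M 2 1 = 0 := by
    rcases hu10 with h | h
    · exact h
    · exact absurd h ht
  have hst : σ (M 0 0) ≠ 0 := (map_ne_zero σ).mpr ht
  have h22 : M 2 2 = (σ (M 0 0))⁻¹ := by
    have : σ (σ (M 2 2)) = σ ((M 0 0)⁻¹) := by
      rw [eq_inv_of_mul_eq_one_left hu00]
    rw [hσ, map_inv₀] at this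
    exact this
  refine ⟨ht, h21, h22, ?_⟩
  rw [e, h21] at hd
  simp [Matrix.det_fin_three] at hd
  rw [h22] at hd
  field_simp at hd ⊢
  linear_combination hd

end finite

end Cfsg.Agent.Lib.Helper7.RegU3
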