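import Mathlib
import Cfsg.Agent.Lib.Helper7.RegU3A

/-!
# `SU₃(q)`: a subgroup containing a triangular element with a generic diagonal (helper7)

If a subgroup `H` of `SU₃` contains an upper triangular element `z` with diagonal
`(t, σ t / t, (σ t)⁻¹)`, then the `(0,1)`-entries of the upper unitriangular elements of `H` form a
module over `ℤ[t² / σ t]`.  If this ring is the whole field, `H` contains all upper unitriangular
elements as soon as it contains a regular one.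
-/

set_option autoImplicit false

namespace Cfsg.Agent.Lib.Helper7.RegU3

open Matrix Polynomial Cfsg.Agent.H9.SUa

variable {K : Type*} [Field K] [Finite K] {σ : K →+* K}

/-- the `(0,1)`-entries of the upper unitriangular elements of a subgroup -/
def Kup (hσ : ∀ x, σ (σ x) = x) (H : Subgroup (GG 3 σ)) : AddSubgroup K where
  carrier := {s | ∃ g ∈ H, ∃ s' y : K, mt g = upM s s' y}
  add_mem' := by
    rintro s t ⟨g, hg, s', y, hgm⟩ ⟨g', hg', t', w, hgm'⟩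
    exact ⟨g * g', H.mul_mem hg hg', s' + t', y + w + s * t', by rw [mt_mul, hgm, hgm', upM_mul]⟩
  zero_mem' := ⟨1, H.one_mem, 0, 0, by rw [mt_one, upM_zero]⟩
  neg_mem' := by
    rintro s ⟨g, hg, s', y, hgm⟩
    obtain ⟨e1, -⟩ := up_shape hσ hgm
    refine ⟨g⁻¹, H.inv_mem hg, σ s, σ y, ?_⟩
    rw [mt_inv, hgm, adj_upM, e1, map_neg, hσ]

theorem mem_Kup (hσ : ∀ x, σ (σ x) = x) {H : Subgroup (GG 3 σ)} {s : K} :
    s ∈ Kup hσ H ↔ ∃ g ∈ H, ∃ s' y : K, mt g = upM s s' y := Iff.rfl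

/-- conjugation of an upper unitriangular element by an upper triangular one -/
theorem tri_conj (hσ : ∀ x, σ (σ x) = x) (z g : GG 3 σ) (h1 : mt z 1 0 = 0) (h2 : mt z 2 0 = 0)
    (s s' y : K) (hg : mt g = upM s s' y) :
    ∃ s'' y' : K, mt (z * g * z⁻¹) = upM ((mt z 0 0) ^ 2 / σ (mt z 0 0) * s) s'' y' := by
  obtain ⟨ht, h21, h22, h11⟩ := tri_of_col hσ z h1 h2
  obtain ⟨M, hM⟩ : ∃ M : Matrix (Fin 3) (Fin 3) K, M = mt z := ⟨_, rfl⟩
  rw [← hM] at h1 h2 ht h21 h22 h11 ⊢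
  have hst : σ (M 0 0) ≠ 0 := (map_ne_zero σ).mpr ht
  have e : M = !![M 0 0, M 0 1, M 0 2; 0, σ (M 0 0) / M 0 0, M 1 2; 0, 0, (σ (M 0 0))⁻¹] := by
    ext i j
    fin_cases i <;> fin_cases j <;> first | rfl | exact h1 | exact h2 | exact h21 | exact h22 | exact h11
  obtain ⟨t, htt⟩ : ∃ t : K, t = M 0 0 := ⟨_, rfl⟩
  obtain ⟨b, hb⟩ : ∃ b : K, b = M 0 1 := ⟨_, rfl⟩
  obtain ⟨c, hc⟩ : ∃ c : K, c = M 0 2 := ⟨_, rfl⟩
  obtain ⟨d, hd⟩ : ∃ d : K, d = M 1 2 := ⟨_, rfl⟩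
  rw [← htt, ← hb, ← hc, ← hd] at e
  rw [← htt] at ht hst
  refine ⟨(σ t / t) * s' * σ t, (t * y + b * s' - t ^ 2 / σ t * s * d) * σ t, ?_⟩
  have key : upM (t ^ 2 / σ t * s) ((σ t / t) * s' * σ t)
      ((t * y + b * s' - t ^ 2 / σ t * s * d) * σ t) * M = M * upM s s' y := by
    rw [e]
    unfold upM
    ext i j
    fin_cases i <;> fin_cases j <;>
      simp [Matrix.mul_apply, Fin.sum_univ_three] <;> field_simp <;> ring
  rw [mt_conj, hg, ← hM, ← key, Matrix.mul_assoc]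
  have hu : M * adj σ M = 1 := by rw [hM]; exact mt_unit z
  rw [hu, Matrix.mul_one, ← htt]

section closure

variable (hσ : ∀ x, σ (σ x) = x) {H : Subgroup (GG 3 σ)} {z : GG 3 σ} (hzH : z ∈ H)
  (h1 : mt z 1 0 = 0) (h2 : mt z 2 0 = 0)

include hzH h1 h2

theorem Kup_T {s : K} (hs : s ∈ Kup hσ H) : (mt z 0 0) ^ 2 / σ (mt z 0 0) * s ∈ Kup hσ H := by
  obtain ⟨g, hg, s', y, hgm⟩ := hs
  obtain ⟨s'', y', h⟩ := tri_conj hσ z g h1 h2 s s' y hgm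
  exact ⟨z * g * z⁻¹, H.mul_mem (H.mul_mem hzH hg) (H.inv_mem hzH), s'', y', h⟩

theorem Kup_poly (f : ℤ[X]) : ∀ s ∈ Kup hσ H,
    aeval ((mt z 0 0) ^ 2 / σ (mt z 0 0)) f * s ∈ Kup hσ H := by
  induction f using Polynomial.induction_on with
  | C a =>
    intro s hs
    have h := (Kup hσ H).zsmul_mem hs a
    rw [aeval_C]
    have e : a • s = (algebraMap ℤ K) a * s := by simp
    rwa [e] at h
  | add f g hf hg =>
    intro s hs
    rw [map_add, add_mul]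
    exact (Kup hσ H).add_mem (hf s hs) (hg s hs)
  | monomial n a ih =>
    intro s hs
    have h := Kup_T hσ hzH h1 h2 (ih s hs)
    have e : (mt z 0 0) ^ 2 / σ (mt z 0 0) *
        (aeval ((mt z 0 0) ^ 2 / σ (mt z 0 0)) (C a * X ^ n : ℤ[X]) * s)
        = aeval ((mt z 0 0) ^ 2 / σ (mt z 0 0)) (C a * X ^ (n + 1) : ℤ[X]) * s := by
      simp only [map_mul, map_pow, aeval_X, aeval_C]
      ring
    rwa [e] at h

end closure

/-- upper unitriangular elements -/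
def IsUp (g : GG 3 σ) : Prop := ∃ s s' y : K, mt g = upM s s' y

/-- lower unitriangular elements -/
def IsLo (g : GG 3 σ) : Prop := ∃ a a' y : K, mt g = loM a a' y

/-- all upper unitriangular elements lie in `H` -/
theorem up_le (hσ : ∀ x, σ (σ x) = x) (hx0 : ∃ x, σ x ≠ x) {H : Subgroup (GG 3 σ)} {z : GG 3 σ}
    (hzH : z ∈ H) (h1 : mt z 1 0 = 0) (h2 : mt z 2 0 = 0)
    (hA : Function.Surjective (fun f : ℤ[X] => aeval ((mt z 0 0) ^ 2 / σ (mt z 0 0)) f))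
    {s₀ : K} (hs₀ : s₀ ∈ Kup hσ H) (hne : s₀ ≠ 0) : ∀ g : GG 3 σ, IsUp g → g ∈ H := by
  have hall : ∀ x : K, x ∈ Kup hσ H := by
    intro x
    obtain ⟨f, hf⟩ := hA (x / s₀)
    have hf' : aeval ((mt z 0 0) ^ 2 / σ (mt z 0 0)) f = x / s₀ := hf
    have := Kup_poly hσ hzH h1 h2 f s₀ hs₀
    rwa [hf', div_mul_cancel₀ _ hne] at this
  obtain ⟨θ, hθ⟩ := Cfsg.Agent.H9.SUd.exists_theta hσ hx0
  -- the centre
  have hcen : ∀ c : K, c + σ c = 0 → ∀ g : GG 3 σ, mt g = upM 0 0 c → g ∈ H := by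
    intro c hc g hg
    obtain ⟨g₁, hg₁, s', y, hm₁⟩ := hall (-(c * θ))
    obtain ⟨g₂, hg₂, t', w, hm₂⟩ := hall 1
    obtain ⟨e1, -⟩ := up_shape hσ hm₁
    obtain ⟨e2, -⟩ := up_shape hσ hm₂
    have hσc : σ c = -c := by linear_combination hc
    have hval : -(c * θ) * t' - 1 * s' = c := by
      rw [e1, e2, map_neg, map_mul, map_one, hσc]
      linear_combination c * hθ
    have hprod : mt (g₂ * g₁) * upM 0 0 c = mt (g₁ * g₂) := by
      rw [mt_mul, mt_mul, hm₁, hm₂, upM_mul, upM_mul, upM_mul]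
      congr 1
      · ring
      · ring
      · linear_combination (-1 : K) * hval
    have hg' : g = (g₂ * g₁)⁻¹ * (g₁ * g₂) := by
      apply mt_injective
      rw [mt_mul, ← hprod, ← Matrix.mul_assoc, ← mt_mul, inv_mul_cancel, mt_one, Matrix.one_mul, hg]
    rw [hg']
    exact H.mul_mem (H.inv_mem (H.mul_mem hg₂ hg₁)) (H.mul_mem hg₁ hg₂)
  rintro g ⟨s, s', y, hg⟩
  obtain ⟨g', hg'H, s'', y', hg'⟩ := hall s
  obtain ⟨e1, -⟩ := up_shape hσ hg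
  obtain ⟨e2, -⟩ := up_shape hσ hg'
  have hc : mt (g'⁻¹ * g) = upM 0 0 (σ y' + y + σ s'' * s') := by
    rw [mt_mul, mt_inv, hg, hg', adj_upM, upM_mul, e1, e2, map_neg, hσ]
    congr 1 <;> ring
  obtain ⟨-, e3⟩ := up_shape hσ hc
  have e4 : σ y' + y + σ s'' * s' + σ (σ y' + y + σ s'' * s') = 0 := by
    rw [map_zero, mul_zero, add_zero] at e3
    exact e3
  have := hcen _ e4 _ hc
  have h5 : g = g' * (g'⁻¹ * g) := by group
  rw [h5]
  exact H.mul_mem hg'H this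

/-- all lower unitriangular elements lie in `H` -/
theorem lo_le (hσ : ∀ x, σ (σ x) = x) (hx0 : ∃ x, σ x ≠ x) {H : Subgroup (GG 3 σ)} {t : K}
    (ht : t ≠ 0) (hhH : hh hσ t ht ∈ H)
    (hA : Function.Surjective (fun f : ℤ[X] => aeval (((σ t)⁻¹) ^ 2 / σ ((σ t)⁻¹)) f))
    {v : GG 3 σ} (hvH : v ∈ H) {α α' y : K} (hv : mt v = loM α α' y) (hα : α ≠ 0) :
    ∀ g : GG 3 σ, IsLo g → g ∈ H := by
  set H' : Subgroup (GG 3 σ) := H.comap (MulAut.conj (w0⁻¹ : GG 3 σ)).toMonoidHom with hH'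
  have hmem : ∀ x : GG 3 σ, x ∈ H' ↔ w0⁻¹ * x * w0 ∈ H := by
    intro x
    rw [hH', Subgroup.mem_comap, MulEquiv.coe_toMonoidHom, MulAut.conj_apply, inv_inv]
  have hst : (σ t)⁻¹ ≠ 0 := inv_ne_zero ((map_ne_zero σ).mpr ht)
  have hz' : hh hσ (σ t)⁻¹ hst ∈ H' := by
    rw [← w0_conj_hh hσ t ht, hmem]
    have : w0⁻¹ * (w0 * hh hσ t ht * w0⁻¹) * w0 = hh hσ t ht := by group
    rw [this]
    exact hhH
  have h1 : mt (hh hσ (σ t)⁻¹ hst) 1 0 = 0 := by rw [mt_hh]; simp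
  have h2 : mt (hh hσ (σ t)⁻¹ hst) 2 0 = 0 := by rw [mt_hh]; simp
  have h00 : mt (hh hσ (σ t)⁻¹ hst) 0 0 = (σ t)⁻¹ := by rw [mt_hh]; simp
  obtain ⟨e1, -⟩ := lo_shape hσ hv
  have hs₀ : σ α ∈ Kup hσ H' := by
    refine ⟨w0 * v * w0⁻¹, ?_, -α, y, ?_⟩
    · rw [hmem]
      have : w0⁻¹ * (w0 * v * w0⁻¹) * w0 = v := by group
      rw [this]
      exact hvH
    · rw [w0_conj_lo v α α' y hv, e1, neg_neg]
  have hne : σ α ≠ 0 := (map_ne_zero σ).mpr hα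
  have hup := up_le hσ hx0 hz' h1 h2 (by rw [h00]; exact hA) hs₀ hne
  rintro g ⟨a, a', w, hg⟩
  have h3 : w0 * g * w0⁻¹ ∈ H' := hup _ ⟨-a', -a, w, w0_conj_lo g a a' w hg⟩
  rw [hmem] at h3
  have : w0⁻¹ * (w0 * g * w0⁻¹) * w0 = g := by group
  rwa [this] at h3

/-- an upper triangular element is a torus element times an upper unitriangular one -/
theorem tri_factor (hσ : ∀ x, σ (σ x) = x) (z : GG 3 σ) (h1 : mt z 1 0 = 0) (h2 : mt z 2 0 = 0)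
    (ht : mt z 0 0 ≠ 0) : IsUp ((hh hσ (mt z 0 0) ht)⁻¹ * z) := by
  obtain ⟨-, h21, h22, h11⟩ := tri_of_col hσ z h1 h2
  obtain ⟨M, hM⟩ : ∃ M : Matrix (Fin 3) (Fin 3) K, M = mt z := ⟨_, rfl⟩
  have hst : σ (M 0 0) ≠ 0 := (map_ne_zero σ).mpr (by rw [hM]; exact ht)
  have ht' : M 0 0 ≠ 0 := by rw [hM]; exact ht
  have e : M = !![M 0 0, M 0 1, M 0 2; 0, σ (M 0 0) / M 0 0, M 1 2; 0, 0, (σ (M 0 0))⁻¹] := by
    rw [hM]
    ext i j
    fin_cases i <;> fin_cases j <;>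
      first | rfl | exact h1 | exact h2 | exact h21 | exact h22 | exact h11
  refine ⟨M 0 1 / M 0 0, M 1 2 * M 0 0 / σ (M 0 0), M 0 2 / M 0 0, ?_⟩
  rw [mt_mul, mt_inv, mt_hh, adj3, ← hM]
  conv_lhs => rw [e]
  unfold upM
  ext i j
  fin_cases i <;> fin_cases j <;>
    simp [Matrix.mul_apply, Fin.sum_univ_three, map_div₀, map_inv₀, hσ] <;> field_simp

/-- **the generation criterion** -/
theorem gen_of_tri (hσ : ∀ x, σ (σ x) = x) (hx0 : ∃ x, σ x ≠ x)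
    (bruhat : ∀ H : Subgroup (GG 3 σ), (∀ g, IsUp g → g ∈ H) → (∀ g, IsLo g → g ∈ H) → H = ⊤)
    {H : Subgroup (GG 3 σ)} {z u v : GG 3 σ} (hzH : z ∈ H) (huH : u ∈ H) (hvH : v ∈ H)
    (h1 : mt z 1 0 = 0) (h2 : mt z 2 0 = 0)
    (hA : Function.Surjective (fun f : ℤ[X] => aeval ((mt z 0 0) ^ 2 / σ (mt z 0 0)) f))
    (hA' : Function.Surjective
      (fun f : ℤ[X] => aeval (((σ (mt z 0 0))⁻¹) ^ 2 / σ ((σ (mt z 0 0))⁻¹)) f))
    {s s' y : K} (hu : mt u = upM s s' y) (hs : s ≠ 0)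
    {α α' w : K} (hv : mt v = loM α α' w) (hα : α ≠ 0) : H = ⊤ := by
  have hup := up_le hσ hx0 hzH h1 h2 hA (⟨u, huH, s', y, hu⟩ : s ∈ Kup hσ H) hs
  obtain ⟨ht, h21, h22, h11⟩ := tri_of_col hσ z h1 h2
  -- the torus element
  have hhH : hh hσ (mt z 0 0) ht ∈ H := by
    have hn : IsUp ((hh hσ (mt z 0 0) ht)⁻¹ * z) := tri_factor hσ z h1 h2 ht
    have h3 := hup _ hn
    have h4 : hh hσ (mt z 0 0) ht = z * ((hh hσ (mt z 0 0) ht)⁻¹ * z)⁻¹ := by group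
    rw [h4]
    exact H.mul_mem hzH (H.inv_mem h3)
  have hlo := lo_le hσ hx0 ht hhH hA' hvH hv hα
  exact bruhat H hup hlo

end Cfsg.Agent.Lib.Helper7.RegU3
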