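import Mathlib
import Cfsg.Agent.Lib.Helper7.RegU3B

/-!
# `SU₃(q)` is generated by its upper and lower unitriangular elements (helper7)

A rank one Bruhat argument: monomial and torus elements are products of unitriangular elements, and
every element is carried into the Borel subgroup by an upper unitriangular element and the reversal.
-/

set_option autoImplicit false

namespace Cfsg.Agent.Lib.Helper7.RegU3

open Matrix Cfsg.Agent.H9.SUa

variable {K : Type*} [Field K] [Finite K] {σ : K →+* K}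

/-- the monomial element attached to an upper unitriangular one -/
theorem mono_mat (hσ : ∀ x, σ (σ x) = x) (t s : K) (hs : s ≠ 0) (h : s + σ s + t * σ t = 0) :
    loM (σ t / s) (-(t / σ s)) (σ s)⁻¹ * upM t (-σ t) s * loM (σ t / σ s) (-(t / s)) (σ s)⁻¹
      = !![0, 0, s; 0, -(σ s / s), 0; (σ s)⁻¹, 0, 0] := by
  have hss : σ s ≠ 0 := (map_ne_zero σ).mpr hs
  unfold loM upM
  ext i j
  fin_cases i <;> fin_cases j <;>
    simp [Matrix.mul_apply, Fin.sum_univ_three] <;>
    first | done | (field_simp; done) | (field_simp; ring1) | (field_simp; linear_combination h) |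
      (field_simp; linear_combination -h) | (field_simp; linear_combination (t) * h) |
      (field_simp; linear_combination (σ t) * h) | (field_simp; linear_combination (-t) * h) |
      (field_simp; linear_combination (-σ t) * h)

theorem lo_valid (hσ : ∀ x, σ (σ x) = x) (t s : K) (hs : s ≠ 0) (h : s + σ s + t * σ t = 0) :
    (σ s)⁻¹ + σ ((σ s)⁻¹) + (σ t / s) * σ (σ t / s) = 0 := by
  have hss : σ s ≠ 0 := (map_ne_zero σ).mpr hs
  rw [map_inv₀, map_div₀, hσ, hσ]
  field_simp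
  linear_combination h

theorem lo_valid' (hσ : ∀ x, σ (σ x) = x) (t s : K) (hs : s ≠ 0) (h : s + σ s + t * σ t = 0) :
    (σ s)⁻¹ + σ ((σ s)⁻¹) + (σ t / σ s) * σ (σ t / σ s) = 0 := by
  have hss : σ s ≠ 0 := (map_ne_zero σ).mpr hs
  rw [map_inv₀, map_div₀, hσ, hσ]
  field_simp
  linear_combination h

/-- the isotropy of the first column -/
theorem col_isotropic (g : GG 3 σ) :
    σ (mt g 2 0) * mt g 0 0 + σ (mt g 1 0) * mt g 1 0 + σ (mt g 0 0) * mt g 2 0 = 0 := by
  have h := congrFun (congrFun (mt_unit' g) 2) 0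
  rw [Matrix.mul_apply, Fin.sum_univ_three] at h
  simpa [adj_apply, Fin.rev] using h

/-- **the rank one Bruhat argument** -/
theorem bruhat (hσ : ∀ x, σ (σ x) = x) (hN : ∀ y : K, σ y = y → ∃ t : K, t * σ t = y)
    (H : Subgroup (GG 3 σ)) (hup : ∀ g, IsUp g → g ∈ H) (hlo : ∀ g, IsLo g → g ∈ H) : H = ⊤ := by
  -- monomial elements
  have hmono : ∀ s : K, s ≠ 0 →
      ∃ n ∈ H, mt n = !![0, 0, s; 0, -(σ s / s), 0; (σ s)⁻¹, 0, 0] := by
    intro s hs
    obtain ⟨t, ht⟩ := hN (-(s + σ s)) (by rw [map_neg, map_add, hσ]; ring)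
    have h : s + σ s + t * σ t = 0 := by rw [ht]; ring
    refine ⟨ll hσ (σ t / s) (σ s)⁻¹ (lo_valid hσ t s hs h) * uu hσ t s h *
      ll hσ (σ t / σ s) (σ s)⁻¹ (lo_valid' hσ t s hs h), ?_, ?_⟩
    · exact H.mul_mem (H.mul_mem (hlo _ ⟨_, _, _, mt_ll hσ _ _ _⟩) (hup _ ⟨_, _, _, mt_uu hσ _ _ _⟩))
        (hlo _ ⟨_, _, _, mt_ll hσ _ _ _⟩)
    · rw [mt_mul, mt_mul, mt_ll, mt_uu, mt_ll, ← mono_mat hσ t s hs h, map_div₀, map_div₀, hσ, hσ]
  -- the reversal
  have hw0 : (w0 : GG 3 σ) ∈ H := by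
    obtain ⟨n, hn, hm⟩ := hmono 1 one_ne_zero
    have : n = w0 := by
      apply mt_injective
      rw [hm, mt_w0]
      simp
    rw [← this]
    exact hn
  -- the torus
  have htor : ∀ (x : K) (hx : x ≠ 0), hh hσ x hx ∈ H := by
    intro x hx
    obtain ⟨n, hn, hm⟩ := hmono x hx
    have hsx : σ x ≠ 0 := (map_ne_zero σ).mpr hx
    have : hh hσ x hx = n * w0⁻¹ := by
      apply mt_injective
      rw [mt_mul, hm, mt_w0_inv, mt_hh]
      ext i j
      fin_cases i <;> fin_cases j <;> simp [Matrix.mul_apply, Fin.sum_univ_three]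
    rw [this]
    exact H.mul_mem hn (H.inv_mem hw0)
  -- the Borel subgroup
  have hbor : ∀ g : GG 3 σ, mt g 1 0 = 0 → mt g 2 0 = 0 → g ∈ H := by
    intro g h1 h2
    obtain ⟨ht, -⟩ := tri_of_col hσ g h1 h2
    have h3 := hup _ (tri_factor hσ g h1 h2 ht)
    have h4 : g = hh hσ (mt g 0 0) ht * ((hh hσ (mt g 0 0) ht)⁻¹ * g) := by group
    rw [h4]
    exact H.mul_mem (htor _ ht) h3
  -- the general element
  refine le_antisymm le_top (fun g _ => ?_)
  have hiso := col_isotropic g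
  by_cases hw : mt g 2 0 = 0
  · have h1 : mt g 1 0 = 0 := by
      rw [hw, map_zero, zero_mul, mul_zero, zero_add, add_zero] at hiso
      rcases mul_eq_zero.mp hiso with h | h
      · exact (map_eq_zero σ).mp h
      · exact h
    exact hbor g h1 hw
  · obtain ⟨x, hx⟩ : ∃ x : K, x = mt g 0 0 := ⟨_, rfl⟩
    obtain ⟨y, hy⟩ : ∃ y : K, y = mt g 1 0 := ⟨_, rfl⟩
    obtain ⟨w, hww⟩ : ∃ w : K, w = mt g 2 0 := ⟨_, rfl⟩
    rw [← hx, ← hy, ← hww] at hiso
    rw [← hww] at hw
    have hsw : σ w ≠ 0 := (map_ne_zero σ).mpr hw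
    have hval : -(x + σ (y / w) * y) / w + σ (-(x + σ (y / w) * y) / w)
        + σ (y / w) * σ (σ (y / w)) = 0 := by
      simp only [map_div₀, map_neg, map_add, map_mul, hσ]
      field_simp
      linear_combination (-1 : K) * hiso
    set u : GG 3 σ := uu hσ (σ (y / w)) (-(x + σ (y / w) * y) / w) hval with hu
    have huH : u ∈ H := hup _ ⟨_, _, _, mt_uu hσ _ _ _⟩
    have hP : ∀ a a' b : K, (!![0, 0, 1; 0, -1, 0; 1, 0, 0] : Matrix (Fin 3) (Fin 3) K) * upM a a' b
        = !![0, 0, 1; 0, -1, -a'; 1, a, b] := by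
      intro a a' b
      unfold upM
      ext i j
      fin_cases i <;> fin_cases j <;> simp [Matrix.mul_apply, Fin.sum_univ_three]
    have h1 : mt (w0 * (u * g)) 1 0 = 0 := by
      rw [mt_mul, mt_mul, ← Matrix.mul_assoc, mt_w0, hu, mt_uu, hP, Matrix.mul_apply,
        Fin.sum_univ_three, ← hx, ← hy, ← hww]
      simp [hσ]
      field_simp
      ring
    have h2 : mt (w0 * (u * g)) 2 0 = 0 := by
      rw [mt_mul, mt_mul, ← Matrix.mul_assoc, mt_w0, hu, mt_uu, hP, Matrix.mul_apply,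
        Fin.sum_univ_three, ← hx, ← hy, ← hww]
      simp
      field_simp
      ring
    have h3 := hbor _ h1 h2
    have h4 : g = u⁻¹ * (w0⁻¹ * (w0 * (u * g))) := by group
    rw [h4]
    exact H.mul_mem (H.inv_mem huH) (H.mul_mem (H.inv_mem hw0) h3)

end Cfsg.Agent.Lib.Helper7.RegU3
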