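import Mathlib
import Cfsg.Agent.Lib.Helper7.RegU3C

/-!
# `SU₃(q)`: conjugacy of regular unipotent elements, and regularity (helper7)
-/

set_option autoImplicit false

namespace Cfsg.Agent.Lib.Helper7.RegU3

open Matrix Cfsg.Agent.H9.SUa

variable {K : Type*} [Field K] [Finite K] {σ : K →+* K}

/-- an upper and a lower regular unipotent element are conjugate as soon as a torus element
matches their off-diagonal entries -/
theorem exists_conj (hσ : ∀ x, σ (σ x) = x) (hx0 : ∃ x, σ x ≠ x) (u v : GG 3 σ)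
    {s s' y : K} (hu : mt u = upM s s' y) {α α' w : K} (hv : mt v = loM α α' w) (hα : α ≠ 0)
    (t : K) (ht : t ≠ 0) (hts : t ^ 2 / σ t * s = σ α) :
    ∃ g : GG 3 σ, g * u * g⁻¹ = v := by
  obtain ⟨θ, hθ⟩ := Cfsg.Agent.H9.SUd.exists_theta hσ hx0
  have hsα : σ α ≠ 0 := (map_ne_zero σ).mpr hα
  -- the torus conjugate
  have h1 : mt (hh hσ t ht) 1 0 = 0 := by rw [mt_hh]; simp
  have h2 : mt (hh hσ t ht) 2 0 = 0 := by rw [mt_hh]; simp
  have h00 : mt (hh hσ t ht) 0 0 = t := by rw [mt_hh]; simp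
  obtain ⟨s₁', y₁, hu₁⟩ := tri_conj hσ (hh hσ t ht) u h1 h2 s s' y hu
  rw [h00, hts] at hu₁
  obtain ⟨e1, e1'⟩ := up_shape hσ hu₁
  -- the reversal conjugate
  obtain ⟨e2, e2'⟩ := lo_shape hσ hv
  have hu₂ := w0_conj_lo v α α' w hv
  rw [e2, neg_neg] at hu₂
  -- the unitriangular conjugator
  obtain ⟨c, hc⟩ : ∃ c : K, c = w - y₁ := ⟨_, rfl⟩
  have hcσ : σ c = -c := by
    rw [hc, map_sub]
    rw [hσ] at e1'
    linear_combination e2' - e1'
  obtain ⟨k, hk⟩ : ∃ k : K, k = -(c / (α * σ α) * θ) := ⟨_, rfl⟩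
  have hkσ : σ k - k = c / (α * σ α) := by
    rw [hk, map_neg, map_mul, map_div₀, map_mul, hσ, hcσ]
    field_simp
    linear_combination (c) * hθ
  obtain ⟨a', ha'⟩ : ∃ a' : K, a' = σ α * k := ⟨_, rfl⟩
  obtain ⟨b', hb'⟩ : ∃ b' : K, b' + σ b' + a' * σ a' = 0 := by
    refine ⟨-(θ * (a' * σ a')), ?_⟩
    rw [map_neg, map_mul, map_mul, hσ]
    linear_combination (-(a' * σ a')) * hθ
  obtain ⟨x, hx⟩ : ∃ x : GG 3 σ, x = uu hσ a' b' hb' := ⟨_, rfl⟩
  have hxu : x * (hh hσ t ht * u * (hh hσ t ht)⁻¹) = (w0 * v * w0⁻¹) * x := by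
    apply mt_injective
    rw [mt_mul, mt_mul (w0 * v * w0⁻¹), hu₁, hu₂, hx, mt_uu, upM_mul, upM_mul, e1, hσ]
    congr 1
    · ring
    · ring
    · have : -a' * α + σ α * σ a' = c := by
        rw [ha', map_mul, hσ]
        have : σ k = k + c / (α * σ α) := by linear_combination hkσ
        rw [this]
        field_simp
        ring
      rw [hc] at this
      linear_combination this
  refine ⟨w0⁻¹ * x * hh hσ t ht, ?_⟩
  have e : w0⁻¹ * x * hh hσ t ht * u * (w0⁻¹ * x * hh hσ t ht)⁻¹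
      = w0⁻¹ * (x * (hh hσ t ht * u * (hh hσ t ht)⁻¹)) * x⁻¹ * w0 := by group
  rw [e, hxu]
  group

/-- regularity of upper unitriangular elements -/
theorem up_regular (hσ : ∀ x, σ (σ x) = x) (u : GG 3 σ) {s s' y : K} (hu : mt u = upM s s' y)
    (hs : s ≠ 0) : IsNilpotent (mt u - 1) ∧ (mt u - 1) ^ 2 ≠ 0 := by
  obtain ⟨e1, -⟩ := up_shape hσ hu
  have hs' : s' ≠ 0 := by
    rw [e1]
    exact neg_ne_zero.mpr ((map_ne_zero σ).mpr hs)
  have h1 : mt u - 1 = !![0, s, y; 0, 0, s'; 0, 0, 0] := by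
    rw [hu]
    unfold upM
    ext i j
    fin_cases i <;> fin_cases j <;> simp
  have h2 : (!![0, s, y; 0, 0, s'; 0, 0, 0] : Matrix (Fin 3) (Fin 3) K) ^ 2
      = !![0, 0, s * s'; 0, 0, 0; 0, 0, 0] := by
    rw [pow_two]
    ext i j
    fin_cases i <;> fin_cases j <;> simp [Matrix.mul_apply, Fin.sum_univ_three]
  rw [h1]
  refine ⟨⟨3, ?_⟩, ?_⟩
  · rw [pow_succ, h2]
    ext i j
    fin_cases i <;> fin_cases j <;> simp [Matrix.mul_apply, Fin.sum_univ_three]
  · rw [h2]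
    intro h
    have := congrFun (congrFun h 0) 2
    simp at this
    rcases this with h | h
    · exact hs h
    · exact hs' h

end Cfsg.Agent.Lib.Helper7.RegU3
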