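import Mathlib
import Cfsg.Agent.Lib.Helper7.RegU3D
import Cfsg.Agent.Lib.Helper7.Reg3D

/-!
# `SU₃(q)` is generated by two conjugate regular unipotent elements: the generic case (helper7)

The one-parameter family of `Reg3D` has unitary members: those with `σ D = D⁻¹`.
-/

set_option autoImplicit false

namespace Cfsg.Agent.Lib.Helper7.RegU3

open Matrix Polynomial Cfsg.Agent.H9.SUa Cfsg.Agent.Lib.Helper7.Reg3

theorem arith_aux (p e r : ℕ) (hp : p.Prime) (hq3 : 3 ≤ p ^ e) (hq5 : p ^ e ≠ 5)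
    (hq8 : p ^ e ≠ 8) (hr0 : 0 < r) (hr : r < 2 * e) (hdvd : (p ^ e + 1) ∣ 3 * (p ^ r - 1)) :
    False := by
  have hp2 := hp.two_le
  have hpos : ∀ k : ℕ, 1 ≤ p ^ k := fun k => Nat.one_le_pow _ _ hp.pos
  have hmono : ∀ a b : ℕ, a ≤ b → p ^ a ≤ p ^ b := fun a b h => Nat.pow_le_pow_right hp.pos h
  have hsucc : ∀ k : ℕ, p ^ (k + 1) = p ^ k * p := fun k => pow_succ p k
  have hpr : p ≤ p ^ r := by
    calc p = p ^ 1 := (pow_one p).symm
      _ ≤ p ^ r := hmono 1 r hr0
  obtain ⟨q, hq⟩ : ∃ q : ℕ, q = p ^ e := ⟨_, rfl⟩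
  rw [← hq] at hq3 hq5 hq8 hdvd
  rcases Nat.lt_trichotomy r e with hlt | heq | hgt
  · -- r < e
    obtain ⟨P, hP⟩ : ∃ P : ℕ, P = p ^ r := ⟨_, rfl⟩
    rw [← hP] at hdvd hpr
    have h1 : P * p ≤ q := by
      rw [hP, hq, ← hsucc]
      exact hmono _ _ hlt
    by_cases hp3 : 3 ≤ p
    · have h2 : P * 3 ≤ P * p := Nat.mul_le_mul_left P hp3
      have h3 := Nat.le_of_dvd (by omega) hdvd
      omega
    · have hp2' : p = 2 := by omega
      rw [hp2'] at h1 hpr
      by_cases h4 : r + 2 ≤ e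
      · have h5 : P * 2 * 2 ≤ q := by
          rw [hP, hq, hp2', ← pow_succ, ← pow_succ]
          rw [hp2'] at hmono
          exact hmono _ _ h4
        have h3 := Nat.le_of_dvd (by omega) hdvd
        omega
      · have h5 : e = r + 1 := by omega
        have h6 : q = P * 2 := by rw [hq, hP, h5, hp2', pow_succ]
        obtain ⟨k, hk⟩ := hdvd
        rcases Nat.lt_trichotomy k 1 with hk0 | hk1 | hk2
        · have : k = 0 := by omega
          rw [this, mul_zero] at hk
          omega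
        · rw [hk1, mul_one] at hk
          omega
        · have h7 : (q + 1) * 2 ≤ (q + 1) * k := Nat.mul_le_mul_left _ hk2
          omega
  · -- r = e
    rw [heq, ← hq] at hdvd
    have h1 : (q + 1) ∣ 3 * (q + 1) := Dvd.intro_left 3 rfl
    have h2 : (q + 1) ∣ 3 * (q + 1) - 3 * (q - 1) := Nat.dvd_sub h1 hdvd
    have h3 : 3 * (q + 1) - 3 * (q - 1) = 6 := by omega
    rw [h3] at h2
    have h4 := Nat.le_of_dvd (by norm_num) h2
    have h5 : q = 3 ∨ q = 4 ∨ q = 5 := by omega
    rcases h5 with h | h | h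
    · rw [h] at h2; omega
    · rw [h] at h2; omega
    · exact hq5 h
  · -- e < r < 2e
    obtain ⟨r', hr'⟩ : ∃ r' : ℕ, r = e + r' := ⟨r - e, by omega⟩
    have hr'0 : 0 < r' := by omega
    have hr'e : r' < e := by omega
    obtain ⟨P, hP⟩ : ∃ P : ℕ, P = p ^ r' := ⟨_, rfl⟩
    have hpP : p ≤ P := by
      rw [hP]
      calc p = p ^ 1 := (pow_one p).symm
        _ ≤ p ^ r' := hmono 1 r' hr'0
    have h0 : p ^ r = q * P := by rw [hr', pow_add, ← hq, ← hP]
    rw [h0] at hdvd
    have h1 : (q + 1) ∣ 3 * (P + 1) := by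
      have h2 : (q + 1) ∣ 3 * P * (q + 1) := Dvd.intro_left _ rfl
      have h3 : 3 * P * (q + 1) - 3 * (q * P - 1) = 3 * (P + 1) := by
        have : 1 ≤ q * P := Nat.mul_pos (by omega) (by omega)
        have e1 : 3 * P * (q + 1) = 3 * (q * P) + 3 * P := by ring
        rw [e1]
        omega
      rw [← h3]
      exact Nat.dvd_sub h2 hdvd
    have h4 : P * p ≤ q := by
      rw [hP, hq, ← hsucc]
      exact hmono _ _ hr'e
    have h5 := Nat.le_of_dvd (by omega) h1
    by_cases hp5 : 5 ≤ p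
    · have h6 : P * 5 ≤ P * p := Nat.mul_le_mul_left P hp5
      omega
    · have hp4 : p ≠ 4 := by
        intro h
        rw [h] at hp
        exact absurd hp (by decide)
      by_cases hp3 : p = 3
      · rw [hp3] at h4 hpP
        by_cases h7 : r' + 2 ≤ e
        · have h8 : P * 3 * 3 ≤ q := by
            rw [hP, hq, hp3, ← pow_succ, ← pow_succ]
            rw [hp3] at hmono
            exact hmono _ _ h7
          omega
        · have h8 : e = r' + 1 := by omega
          have h9 : q = P * 3 := by rw [hq, hP, h8, hp3, pow_succ]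
          have h10 : (q + 1) ∣ 2 := by
            have : 3 * (P + 1) = (q + 1) + 2 := by omega
            rw [this] at h1
            exact (Nat.dvd_add_right (dvd_refl _)).mp h1
          have := Nat.le_of_dvd (by norm_num) h10
          omega
      · have hp2' : p = 2 := by omega
        rw [hp2'] at h4 hpP
        by_cases h7 : r' + 3 ≤ e
        · have h8 : P * 2 * 2 * 2 ≤ q := by
            rw [hP, hq, hp2', ← pow_succ, ← pow_succ, ← pow_succ]
            rw [hp2'] at hmono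
            exact hmono _ _ h7
          omega
        · by_cases h7' : r' + 2 = e
          · have h9 : q = P * 2 * 2 := by rw [hq, hP, ← h7', hp2', pow_succ, pow_succ]
            omega
          · have h8 : e = r' + 1 := by omega
            have h9 : q = P * 2 := by rw [hq, hP, h8, hp2', pow_succ]
            have h10 : (q + 1) ∣ P + 2 := by
              have : 3 * (P + 1) = (q + 1) + (P + 2) := by omega
              rw [this] at h1
              exact (Nat.dvd_add_right (dvd_refl _)).mp h1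
            have := Nat.le_of_dvd (by omega) h10
            omega

variable {K : Type*} [Field K] [Finite K] {σ : K →+* K}

/-- the unitary members of the family generate -/
theorem family_gen (hσ : ∀ x, σ (σ x) = x) (hx0 : ∃ x, σ x ≠ x)
    (hN : ∀ y : K, σ y = y → ∃ t : K, t * σ t = y) (D : K) (hD : D ≠ 0) (hE : D + 1 ≠ 0)
    (hσD : σ D = D⁻¹) (hA : Function.Surjective (fun f : ℤ[X] => aeval (D ^ 3) f)) :
    ∃ u g : GG 3 σ, (IsNilpotent (mt u - 1) ∧ (mt u - 1) ^ 2 ≠ 0) ∧
      Subgroup.closure ({u, g * u * g⁻¹} : Set (GG 3 σ)) = ⊤ := by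
  have ha0 : pa D ≠ 0 := pa_ne_zero hD hE
  have hσE : σ (D + 1) = (D + 1) / D := by
    rw [map_add, map_one, hσD]
    field_simp
    ring
  have hσa : σ (pa D) = pa D := by
    unfold pa
    obtain ⟨E, hE'⟩ : ∃ E, E = D + 1 := ⟨_, rfl⟩
    rw [← hE'] at hσE hE ⊢
    rw [map_div₀, map_neg, map_pow, hσE, hσD]
    field_simp
  have hc : pc D + σ (pc D) = pa D ^ 2 := by
    unfold pc pa
    obtain ⟨E, hE'⟩ : ∃ E, E = D + 1 := ⟨_, rfl⟩
    rw [← hE'] at hσE hE ⊢
    rw [map_div₀, map_pow, hσE, hσD]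
    field_simp
    subst hE'
    ring
  have hr : pr D + σ (pr D) = 1 := by
    unfold pr
    obtain ⟨E, hE'⟩ : ∃ E, E = D + 1 := ⟨_, rfl⟩
    rw [← hE'] at hσE hE ⊢
    simp only [map_div₀, map_add, map_sub, map_mul, map_pow, map_ofNat, hσE]
    field_simp
    subst hE'
    ring
  have hu_valid : -pr D + σ (-pr D) + 1 * σ 1 = 0 := by
    rw [map_neg, map_one]
    linear_combination (-1 : K) * hr
  have hv_valid : -pc D + σ (-pc D) + pa D * σ (pa D) = 0 := by
    rw [map_neg, hσa]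
    linear_combination (-1 : K) * hc
  obtain ⟨u, hu⟩ : ∃ u : GG 3 σ, u = uu hσ 1 (-pr D) hu_valid := ⟨_, rfl⟩
  obtain ⟨v, hv⟩ : ∃ v : GG 3 σ, v = ll hσ (pa D) (-pc D) hv_valid := ⟨_, rfl⟩
  have hum : mt u = upM 1 (-1) (-pr D) := by rw [hu, mt_uu, map_one]
  have hvm : mt v = loM (pa D) (-pa D) (-pc D) := by rw [hv, mt_ll, hσa]
  have hz : mt (v * u * v) = !![D, pp D, -pr D; 0, (D ^ 2)⁻¹, -pp D; 0, 0, D] := by
    rw [mt_mul, mt_mul, hum, hvm]
    unfold loM upM
    ext i j
    fin_cases i <;> fin_cases j <;>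
      simp [Matrix.mul_apply, Fin.sum_univ_three, pa, pc, pr, pp] <;> field_simp <;> ring
  obtain ⟨g, hg⟩ := exists_conj hσ hx0 u v hum hvm ha0 (pa D) ha0 (by
    rw [hσa, mul_one, pow_two, mul_div_assoc, div_self ha0, mul_one])
  refine ⟨u, g, up_regular hσ u hum one_ne_zero, ?_⟩
  rw [hg]
  have huH : u ∈ Subgroup.closure ({u, v} : Set (GG 3 σ)) := Subgroup.subset_closure (by simp)
  have hvH : v ∈ Subgroup.closure ({u, v} : Set (GG 3 σ)) := Subgroup.subset_closure (by simp)
  have hzH : v * u * v ∈ Subgroup.closure ({u, v} : Set (GG 3 σ)) :=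
    Subgroup.mul_mem _ (Subgroup.mul_mem _ hvH huH) hvH
  have h1 : mt (v * u * v) 1 0 = 0 := by rw [hz]; simp
  have h2 : mt (v * u * v) 2 0 = 0 := by rw [hz]; simp
  have h00 : mt (v * u * v) 0 0 = D := by rw [hz]; simp
  have hχ : D ^ 2 / σ D = D ^ 3 := by
    rw [hσD]
    field_simp
  have hχ' : ((σ D)⁻¹) ^ 2 / σ ((σ D)⁻¹) = D ^ 3 := by
    rw [hσD, inv_inv, hσD]
    field_simp
  exact gen_of_tri hσ hx0 (bruhat hσ hN) hzH huH hvH h1 h2 (by rw [h00, hχ]; exact hA)
    (by rw [h00, hχ']; exact hA) hum one_ne_zero hvm ha0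

end Cfsg.Agent.Lib.Helper7.RegU3
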