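import Mathlib
import Cfsg.Agent.Lib.Helper7.RegU3E
import Cfsg.Agent.Lib.Helper7.Pres2I
import Cfsg.Agent.H9.SUm

/-!
# `SU₃(q)`, two conjugate regular unipotents: the generic case `q ≠ 5, 8` (helper7)
-/

set_option autoImplicit false

namespace Cfsg.Agent.Lib.Helper7.RegU3

open Matrix Polynomial Cfsg.Agent.H9.SUa Cfsg.Agent.H9.SUm Cfsg.Agent.Lib.Helper7.Pres2

theorem sq_sub_one_nat (q : ℕ) (hq : 1 ≤ q) : (q - 1) * (q + 1) = q ^ 2 - 1 := by
  obtain ⟨k, rfl⟩ : ∃ k, q = k + 1 := ⟨q - 1, by omega⟩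
  have h1 : (k + 1) ^ 2 = k * (k + 2) + 1 := by ring
  rw [h1]
  simp only [Nat.add_sub_cancel]

theorem generic_case {K : Type*} [Field K] [Fintype K] {q : ℕ} (hK : Fintype.card K = q ^ 2)
    (hq3 : 3 ≤ q) (hq5 : q ≠ 5) (hq8 : q ≠ 8) :
    ∃ u g : GG 3 (frob hK), (IsNilpotent (mt u - 1) ∧ (mt u - 1) ^ 2 ≠ 0) ∧
      Subgroup.closure ({u, g * u * g⁻¹} : Set (GG 3 (frob hK))) = ⊤ := by
  classical
  obtain ⟨p, hchar⟩ := CharP.exists K
  have := hchar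
  have hp : Fact p.Prime := ⟨CharP.char_is_prime K p⟩
  letI : Algebra (ZMod p) K := ZMod.algebra K p
  obtain ⟨n, -, hcard⟩ := FiniteField.card K p
  have hqn : q ^ 2 = p ^ (n : ℕ) := by rw [← hK, hcard]
  have hqdvd : q ∣ p ^ (n : ℕ) := by
    rw [← hqn]
    exact Dvd.intro_left q (by ring)
  obtain ⟨e, -, hqe⟩ := (Nat.dvd_prime_pow hp.out).1 hqdvd
  have hn : (n : ℕ) = 2 * e := by
    rw [hqe, ← pow_mul] at hqn
    have := Nat.pow_right_injective hp.out.two_le hqn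
    omega
  have hcard' : Fintype.card K = p ^ (2 * e) := by rw [hcard, hn]
  obtain ⟨ζ, hζgen⟩ := IsCyclic.exists_generator (α := Kˣ)
  have hζ0 : (ζ : K) ≠ 0 := Units.ne_zero ζ
  have hζ1 : (ζ : K) ^ (q ^ 2 - 1) = 1 := by
    rw [← hK]
    exact FiniteField.pow_card_sub_one_eq_one _ hζ0
  have hqq : (q - 1) * (q + 1) = q ^ 2 - 1 := sq_sub_one_nat q (by omega)
  obtain ⟨D, hDdef⟩ : ∃ D : K, D = (ζ : K) ^ (q - 1) := ⟨_, rfl⟩
  have hD : D ≠ 0 := by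
    rw [hDdef]
    exact pow_ne_zero _ hζ0
  have hσD : frob hK D = D⁻¹ := by
    rw [frob_apply]
    apply eq_inv_of_mul_eq_one_left
    rw [← pow_succ, hDdef, ← pow_mul, hqq, hζ1]
  have hE : D + 1 ≠ 0 := by
    intro h
    have h1 : D = -1 := eq_neg_of_add_eq_zero_left h
    have h2 : (ζ : K) ^ ((q - 1) * 2) = 1 := by
      rw [pow_mul, ← hDdef, h1]
      ring
    have h3 := gen_pow_eq_one ζ hζgen _ h2
    rw [hK, ← hqq] at h3
    have h4 : q + 1 ∣ 2 := Nat.dvd_of_mul_dvd_mul_left (by omega) h3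
    have := Nat.le_of_dvd (by norm_num) h4
    omega
  have hfrob : ∀ r : ℕ, 0 < r → r < 2 * e → (D ^ 3) ^ (p ^ r) ≠ D ^ 3 := by
    intro r hr0 hr h
    have hpr : 1 ≤ p ^ r := Nat.one_le_pow _ _ hp.out.pos
    have h1 : D ^ (3 * (p ^ r - 1)) = 1 := by
      have h2 : D ^ (3 * (p ^ r - 1)) * D ^ 3 = 1 * D ^ 3 := by
        rw [← pow_add, one_mul, ← h, ← pow_mul]
        congr 1
        have : 3 * (p ^ r - 1) + 3 = 3 * p ^ r := by omega
        exact this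
      exact mul_right_cancel₀ (pow_ne_zero 3 hD) h2
    rw [hDdef, ← pow_mul] at h1
    have h3 := gen_pow_eq_one ζ hζgen _ h1
    rw [hK, ← hqq] at h3
    have h4 : q + 1 ∣ 3 * (p ^ r - 1) := Nat.dvd_of_mul_dvd_mul_left (by omega) h3
    rw [hqe] at h4 hq3 hq5 hq8
    exact arith_aux p e r hp.out hq3 hq5 hq8 hr0 hr h4
  have hA := aeval_surjective_of_frob p (2 * e) hcard' (D ^ 3) hfrob
  exact family_gen (frob_invol hK) (exists_frob_ne hK) (norm_surj hK) D hD hE hσD hA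

end Cfsg.Agent.Lib.Helper7.RegU3
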