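import Mathlib
import Cfsg.Agent.Lib.Helper7.RegU3E
import Cfsg.Agent.Lib.Helper7.Pres2I

/-!
# `SU₃(q)`, two conjugate regular unipotents: a criterion for explicit pairs (helper7)

First columns of words in unitriangular matrices, and the packaged criterion used for the two
exceptional fields.
-/

set_option autoImplicit false

namespace Cfsg.Agent.Lib.Helper7.RegU3

open Matrix Polynomial Cfsg.Agent.H9.SUa Cfsg.Agent.Lib.Helper7.Pres2

section cols

variable {K : Type*} [Field K]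

theorem lo_col0 (a a' w : K) (M : Matrix (Fin 3) (Fin 3) K) : (loM a a' w * M) 0 0 = M 0 0 := by
  simp [loM, Matrix.mul_apply, Fin.sum_univ_three]

theorem lo_col1 (a a' w : K) (M : Matrix (Fin 3) (Fin 3) K) :
    (loM a a' w * M) 1 0 = a * M 0 0 + M 1 0 := by
  simp [loM, Matrix.mul_apply, Fin.sum_univ_three]

theorem lo_col2 (a a' w : K) (M : Matrix (Fin 3) (Fin 3) K) :
    (loM a a' w * M) 2 0 = w * M 0 0 + a' * M 1 0 + M 2 0 := by
  simp [loM, Matrix.mul_apply, Fin.sum_univ_three]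

theorem up_col0 (s s' y : K) (M : Matrix (Fin 3) (Fin 3) K) :
    (upM s s' y * M) 0 0 = M 0 0 + s * M 1 0 + y * M 2 0 := by
  simp [upM, Matrix.mul_apply, Fin.sum_univ_three]

theorem up_col1 (s s' y : K) (M : Matrix (Fin 3) (Fin 3) K) :
    (upM s s' y * M) 1 0 = M 1 0 + s' * M 2 0 := by
  simp [upM, Matrix.mul_apply, Fin.sum_univ_three]

theorem up_col2 (s s' y : K) (M : Matrix (Fin 3) (Fin 3) K) : (upM s s' y * M) 2 0 = M 2 0 := by
  simp [upM, Matrix.mul_apply, Fin.sum_univ_three]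

theorem lo_e0 (a a' w : K) : loM a a' w 0 0 = 1 := by simp [loM]

theorem lo_e1 (a a' w : K) : loM a a' w 1 0 = a := by simp [loM]

theorem lo_e2 (a a' w : K) : loM a a' w 2 0 = w := by simp [loM]

end cols

variable {K : Type*} [Field K] [Fintype K] {σ : K →+* K}

/-- the packaged criterion: an upper and a lower regular unipotent element, conjugate by a torus
element and the reversal, with a word in them that is upper triangular with a diagonal entry
generating the field -/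
theorem gen_of_word (p e : ℕ) [Fact p.Prime] [Algebra (ZMod p) K]
    (hcard : Fintype.card K = p ^ e) (hσ : ∀ x, σ (σ x) = x) (hx0 : ∃ x, σ x ≠ x)
    (hN : ∀ y : K, σ y = y → ∃ t : K, t * σ t = y)
    {u v z : GG 3 σ} (hzH : z ∈ Subgroup.closure ({u, v} : Set (GG 3 σ)))
    {s s' y : K} (hu : mt u = upM s s' y) (hs : s ≠ 0)
    {α α' w : K} (hv : mt v = loM α α' w) (hα : α ≠ 0)
    (t χ : K) (h0 : mt z 0 0 = t) (h1 : mt z 1 0 = 0) (h2 : mt z 2 0 = 0)
    (hχ : t ^ 2 = χ * σ t)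
    (hfrob : ∀ r : ℕ, 0 < r → r < e → χ ^ (p ^ r) ≠ χ)
    (t' : K) (ht' : t' ≠ 0) (hconj : t' ^ 2 * s = σ α * σ t') :
    ∃ u g : GG 3 σ, (IsNilpotent (mt u - 1) ∧ (mt u - 1) ^ 2 ≠ 0) ∧
      Subgroup.closure ({u, g * u * g⁻¹} : Set (GG 3 σ)) = ⊤ := by
  have hσinj : Function.Injective σ := fun a b hab => by rw [← hσ a, ← hσ b, hab]
  have hσt' : σ t' ≠ 0 := (map_ne_zero σ).mpr ht'
  obtain ⟨g, hg⟩ := exists_conj hσ hx0 u v hu hv hα t' ht' (by
    rw [div_mul_eq_mul_div, hconj, mul_div_assoc, div_self hσt', mul_one])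
  refine ⟨u, g, up_regular hσ u hu hs, ?_⟩
  rw [hg]
  have huH : u ∈ Subgroup.closure ({u, v} : Set (GG 3 σ)) := Subgroup.subset_closure (by simp)
  have hvH : v ∈ Subgroup.closure ({u, v} : Set (GG 3 σ)) := Subgroup.subset_closure (by simp)
  obtain ⟨ht, -, -, -⟩ := tri_of_col hσ z h1 h2
  rw [h0] at ht
  have hσt : σ t ≠ 0 := (map_ne_zero σ).mpr ht
  have hχ1 : t ^ 2 / σ t = χ := by
    rw [hχ, mul_div_assoc, div_self hσt, mul_one]
  have hχ2 : ((σ t)⁻¹) ^ 2 / σ ((σ t)⁻¹) = (σ χ)⁻¹ := by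
    rw [← hχ1, map_inv₀, hσ, map_div₀, map_pow, hσ]
    field_simp
  have hA : Function.Surjective (fun f : ℤ[X] => aeval χ f) :=
    aeval_surjective_of_frob p e hcard χ hfrob
  have hA' : Function.Surjective (fun f : ℤ[X] => aeval ((σ χ)⁻¹) f) := by
    apply aeval_surjective_of_frob p e hcard
    intro r hr0 hr h
    apply hfrob r hr0 hr
    apply hσinj
    rw [map_pow]
    rw [inv_pow] at h
    exact _root_.inv_inj.mp h
  exact gen_of_tri hσ hx0 (bruhat hσ hN) hzH huH hvH h1 h2 (by rw [h0, hχ1]; exact hA)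
    (by rw [h0, hχ2]; exact hA') hu hs hv hα

end Cfsg.Agent.Lib.Helper7.RegU3
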