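import Mathlib
import Cfsg.Agent.Lib.Helper7.RegU3G
import Cfsg.Agent.H9.SUm

/-!
# `SU₃(5)` is generated by two conjugate regular unipotent elements (helper7)

`𝔽₂₅ = 𝔽₅(θ)`, `θ² = 2`; `u = u(1, 2 + θ)`, `v = l(θ, 1 + 2θ)`, and `v³uv` is upper triangular with
corner entry `2 + θ`.
-/

set_option autoImplicit false

namespace Cfsg.Agent.Lib.Helper7.RegU3

open Matrix Polynomial Cfsg.Agent.H9.SUa Cfsg.Agent.H9.SUm

theorem case5 {K : Type*} [Field K] [Fintype K] (hK : Fintype.card K = 5 ^ 2) :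
    ∃ u g : GG 3 (frob hK), (IsNilpotent (mt u - 1) ∧ (mt u - 1) ^ 2 ≠ 0) ∧
      Subgroup.closure ({u, g * u * g⁻¹} : Set (GG 3 (frob hK))) = ⊤ := by
  classical
  have h25 : ((5 ^ 2 : ℕ) : K) = 0 := by
    rw [← hK]
    exact Nat.cast_card_eq_zero K
  have h5 : (5 : K) = 0 := by
    have h1 : (5 : K) * 5 = 0 := by
      have : ((5 ^ 2 : ℕ) : K) = 5 * 5 := by norm_num
      rw [← this]
      exact h25
    exact mul_self_eq_zero.mp h1
  obtain ⟨p, hchar⟩ := CharP.exists K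
  have hp : p.Prime := CharP.char_is_prime K p
  have hp5 : p = 5 := by
    have h1 : ((5 : ℕ) : K) = 0 := by exact_mod_cast h5
    have h2 : p ∣ 5 := (CharP.cast_eq_zero_iff K p 5).mp h1
    exact (Nat.prime_dvd_prime_iff_eq hp (by norm_num)).mp h2
  subst hp5
  haveI : Fact (Nat.Prime 5) := ⟨hp⟩
  letI : Algebra (ZMod 5) K := ZMod.algebra K 5
  have h2ne : (2 : K) ≠ 0 := by
    intro h
    have : (1 : K) = 0 := by linear_combination h5 - 2 * h
    exact one_ne_zero this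
  have h2sq : IsSquare (2 : K) := by
    rw [FiniteField.isSquare_iff (by rw [ringChar.eq K 5]; norm_num) h2ne, hK]
    have : (5 ^ 2 / 2 : ℕ) = 12 := by norm_num
    rw [this]
    linear_combination (819 : K) * h5
  obtain ⟨θ, hθ'⟩ := h2sq
  have hθ : θ ^ 2 = 2 := by rw [hθ', sq]
  have hθ0 : θ ≠ 0 := by
    intro h
    rw [h] at hθ
    exact h2ne (by rw [← hθ]; ring)
  have hσ := frob_invol hK
  have hσθ : frob hK θ = -θ := by
    rw [frob_apply]
    linear_combination ((2)*θ + (1)*θ^3) * hθ + ((1)*θ) * h5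
  have hu_valid : (2 + θ) + frob hK (2 + θ) + 1 * frob hK 1 = 0 := by
    rw [map_add, map_ofNat, hσθ, map_one]
    linear_combination ((1)) * h5
  have hv_valid : (1 + 2 * θ) + frob hK (1 + 2 * θ) + θ * frob hK θ = 0 := by
    rw [map_add, map_mul, map_ofNat, hσθ, map_one]
    linear_combination ((-1)) * hθ
  obtain ⟨u, hu⟩ : ∃ u : GG 3 (frob hK), u = uu hσ 1 (2 + θ) hu_valid := ⟨_, rfl⟩
  obtain ⟨v, hv⟩ : ∃ v : GG 3 (frob hK), v = ll hσ θ (1 + 2 * θ) hv_valid := ⟨_, rfl⟩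
  have hum : mt u = upM 1 (-1) (2 + θ) := by rw [hu, mt_uu, map_one]
  have hvm : mt v = loM θ θ (1 + 2 * θ) := by rw [hv, mt_ll, hσθ, neg_neg]
  have huH : u ∈ Subgroup.closure ({u, v} : Set (GG 3 (frob hK))) :=
    Subgroup.subset_closure (by simp)
  have hvH : v ∈ Subgroup.closure ({u, v} : Set (GG 3 (frob hK))) :=
    Subgroup.subset_closure (by simp)
  have hzH : v * (v * (v * (u * v))) ∈ Subgroup.closure ({u, v} : Set (GG 3 (frob hK))) :=
    Subgroup.mul_mem _ hvH (Subgroup.mul_mem _ hvH (Subgroup.mul_mem _ hvH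
      (Subgroup.mul_mem _ huH hvH)))
  have hzm : mt (v * (v * (v * (u * v)))) = loM θ θ (1 + 2 * θ) * (loM θ θ (1 + 2 * θ) *
      (loM θ θ (1 + 2 * θ) * (upM 1 (-1) (2 + θ) * loM θ θ (1 + 2 * θ)))) := by
    rw [mt_mul, mt_mul, mt_mul, mt_mul, hum, hvm]
  have h0 : mt (v * (v * (v * (u * v)))) 0 0 = 2 + θ := by
    rw [hzm]
    simp only [lo_col0, lo_col1, lo_col2, up_col0, up_col1, up_col2, lo_e0, lo_e1, lo_e2]
    linear_combination ((2)) * hθ + ((1) + (1)*θ) * h5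
  have h1 : mt (v * (v * (v * (u * v)))) 1 0 = 0 := by
    rw [hzm]
    simp only [lo_col0, lo_col1, lo_col2, up_col0, up_col1, up_col2, lo_e0, lo_e1, lo_e2]
    linear_combination ((18) + (6)*θ) * hθ + ((7) + (4)*θ) * h5
  have h2 : mt (v * (v * (v * (u * v)))) 2 0 = 0 := by
    rw [hzm]
    simp only [lo_col0, lo_col1, lo_col2, up_col0, up_col1, up_col2, lo_e0, lo_e1, lo_e2]
    linear_combination ((60) + (30)*θ + (6)*θ^2) * hθ + ((26) + (19)*θ) * h5
  have hχ : (2 + θ) ^ 2 = (2 * θ) * frob hK (2 + θ) := by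
    rw [map_add, map_ofNat, hσθ]
    linear_combination ((3)) * hθ + ((2)) * h5
  have hfrob : ∀ r : ℕ, 0 < r → r < 2 → (2 * θ) ^ (5 ^ r) ≠ 2 * θ := by
    intro r hr0 hr h
    have hr1 : r = 1 := by omega
    subst hr1
    rw [pow_one] at h
    apply hθ0
    linear_combination h - ((64)*θ + (32)*θ^3) * hθ - ((25)*θ) * h5
  have hconj : θ ^ 2 * 1 = frob hK θ * frob hK θ := by
    rw [hσθ]
    ring
  exact gen_of_word 5 2 hK hσ (exists_frob_ne hK) (norm_surj hK) hzH hum one_ne_zero hvm hθ0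
    (2 + θ) (2 * θ) h0 h1 h2 hχ hfrob θ hθ0 hconj

end Cfsg.Agent.Lib.Helper7.RegU3
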