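import Mathlib
import Cfsg.Agent.Lib.Helper7.RegU3G
import Cfsg.Agent.H9.SUm

/-!
# `SU₃(8)` is generated by two conjugate regular unipotent elements (helper7)

`𝔽₆₄ = 𝔽₂(ω, η)`, `ω² + ω + 1 = 0`, `η³ + η + 1 = 0`; `u = u(1, 1 + η + ω)`,
`v = l(ωη², η² + ωη + ωη²)`, and `v u v u² v` is upper triangular with corner entry
`η² + ω + ωη`.
-/

set_option autoImplicit false

namespace Cfsg.Agent.Lib.Helper7.RegU3

open Matrix Polynomial Cfsg.Agent.H9.SUa Cfsg.Agent.H9.SUm Cfsg.Agent.Lib.Helper7.Pres2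

/-- generators of the field with 64 elements -/
theorem exists_omega_eta {K : Type*} [Field K] [Fintype K] (hK : Fintype.card K = 8 ^ 2)
    (h2 : (2 : K) = 0) : ∃ ω η : K, ω ^ 2 + ω + 1 = 0 ∧ η ^ 3 + η + 1 = 0 := by
  classical
  obtain ⟨ζ, hζgen⟩ := IsCyclic.exists_generator (α := Kˣ)
  have hζ0 : (ζ : K) ≠ 0 := Units.ne_zero ζ
  have hc : Fintype.card K - 1 = 63 := by rw [hK]; norm_num
  have hζ1 : (ζ : K) ^ 63 = 1 := by
    rw [← hc]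
    exact FiniteField.pow_card_sub_one_eq_one _ hζ0
  obtain ⟨ω, hωdef⟩ : ∃ ω : K, ω = (ζ : K) ^ 21 := ⟨_, rfl⟩
  obtain ⟨ρ, hρdef⟩ : ∃ ρ : K, ρ = (ζ : K) ^ 9 := ⟨_, rfl⟩
  have hω3 : ω ^ 3 = 1 := by rw [hωdef, ← pow_mul]; exact hζ1
  have hω1 : ω ≠ 1 := by
    intro h
    rw [hωdef] at h
    have := gen_pow_eq_one ζ hζgen 21 h
    rw [hc] at this
    omega
  have hρ7 : ρ ^ 7 = 1 := by rw [hρdef, ← pow_mul]; exact hζ1
  have hρ1 : ρ ≠ 1 := by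
    intro h
    rw [hρdef] at h
    have := gen_pow_eq_one ζ hζgen 9 h
    rw [hc] at this
    omega
  have hρ0 : ρ ≠ 0 := by rw [hρdef]; exact pow_ne_zero _ hζ0
  have hω : ω ^ 2 + ω + 1 = 0 := by
    have h : (ω - 1) * (ω ^ 2 + ω + 1) = 0 := by linear_combination hω3
    rcases mul_eq_zero.mp h with h | h
    · exact absurd (sub_eq_zero.mp h) hω1
    · exact h
  have hρ : (ρ ^ 3 + ρ + 1) * (ρ ^ 3 + ρ ^ 2 + 1) = 0 := by
    have h : (ρ - 1) * ((ρ ^ 3 + ρ + 1) * (ρ ^ 3 + ρ ^ 2 + 1)) = 0 := by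
      linear_combination hρ7 + (ρ ^ 4 - ρ ^ 3) * h2
    rcases mul_eq_zero.mp h with h | h
    · exact absurd (sub_eq_zero.mp h) hρ1
    · exact h
  rcases mul_eq_zero.mp hρ with h | h
  · exact ⟨ω, ρ, hω, h⟩
  · refine ⟨ω, ρ⁻¹, hω, ?_⟩
    have h3 : ρ ^ 3 * (ρ⁻¹ ^ 3 + ρ⁻¹ + 1) = 0 := by
      have : ρ ^ 3 * (ρ⁻¹ ^ 3 + ρ⁻¹ + 1) = ρ ^ 3 + ρ ^ 2 + 1 := by
        field_simp
        ring
      rw [this, h]
    rcases mul_eq_zero.mp h3 with h4 | h4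
    · exact absurd h4 (pow_ne_zero 3 hρ0)
    · exact h4

theorem case8 {K : Type*} [Field K] [Fintype K] (hK : Fintype.card K = 8 ^ 2) :
    ∃ u g : GG 3 (frob hK), (IsNilpotent (mt u - 1) ∧ (mt u - 1) ^ 2 ≠ 0) ∧
      Subgroup.closure ({u, g * u * g⁻¹} : Set (GG 3 (frob hK))) = ⊤ := by
  classical
  have h64 : ((8 ^ 2 : ℕ) : K) = 0 := by
    rw [← hK]
    exact Nat.cast_card_eq_zero K
  have h2 : (2 : K) = 0 := by
    have h1 : (2 : K) ^ 6 = 0 := by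
      have : ((8 ^ 2 : ℕ) : K) = 2 ^ 6 := by norm_num
      rw [← this]
      exact h64
    exact pow_eq_zero_iff (by norm_num) |>.mp h1
  obtain ⟨p, hchar⟩ := CharP.exists K
  have hp : p.Prime := CharP.char_is_prime K p
  have hp2 : p = 2 := by
    have h1 : ((2 : ℕ) : K) = 0 := by exact_mod_cast h2
    have h3 : p ∣ 2 := (CharP.cast_eq_zero_iff K p 2).mp h1
    exact (Nat.prime_dvd_prime_iff_eq hp (by norm_num)).mp h3
  subst hp2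
  have : Fact (Nat.Prime 2) := ⟨hp⟩
  let _ : Algebra (ZMod 2) K := ZMod.algebra K 2
  have hcard : Fintype.card K = 2 ^ 6 := by rw [hK]; norm_num
  obtain ⟨ω, η, hω, hη⟩ := exists_omega_eta hK h2
  have hω0 : ω ≠ 0 := by
    intro h
    have h1 : ω * (ω + 1) = 1 := by linear_combination ((1)) * hω + ((-1)) * h2
    rw [h, zero_mul] at h1
    exact zero_ne_one h1
  have hη0 : η ≠ 0 := by
    intro h
    have h1 : η * (η ^ 2 + 1) = 1 := by linear_combination ((1)) * hη + ((-1)) * h2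
    rw [h, zero_mul] at h1
    exact zero_ne_one h1
  have hσ := frob_invol hK
  have hσω : frob hK ω = ω + 1 := by
    rw [frob_apply]
    linear_combination ((1) + (-1)*ω^2 + (1)*ω^3 + (-1)*ω^5 + (1)*ω^6) * hω + ((-1) + (-1)*ω) * h2
  have hση : frob hK η = η := by
    rw [frob_apply]
    linear_combination ((2) + (1)*η + (-1)*η^2 + (-1)*η^3 + (1)*η^5) * hη + ((-1) + (-2)*η) * h2
  have hσα : frob hK (ω * η ^ 2) = (ω + 1) * η ^ 2 := by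
    rw [map_mul, map_pow, hσω, hση]
  have hu_valid : (1 + η + ω) + frob hK (1 + η + ω) + 1 * frob hK 1 = 0 := by
    rw [map_add, map_add, hσω, hση, map_one]
    linear_combination ((2) + (1)*η + (1)*ω) * h2
  have hv_valid : (η ^ 2 + ω * η + ω * η ^ 2) + frob hK (η ^ 2 + ω * η + ω * η ^ 2)
      + (ω * η ^ 2) * frob hK (ω * η ^ 2) = 0 := by
    rw [hσα, map_add, map_add, map_mul, map_mul, map_pow, hσω, hση]
    linear_combination ((1)*η^4) * hω + ((-1)*η) * hη + ((1)*η + (2)*η^2 + (1)*ω*η + (1)*ω*η^2) * h2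
  obtain ⟨u, hu⟩ : ∃ u : GG 3 (frob hK), u = uu hσ 1 (1 + η + ω) hu_valid := ⟨_, rfl⟩
  obtain ⟨v, hv⟩ : ∃ v : GG 3 (frob hK),
    v = ll hσ (ω * η ^ 2) (η ^ 2 + ω * η + ω * η ^ 2) hv_valid := ⟨_, rfl⟩
  have hum : mt u = upM 1 (-1) (1 + η + ω) := by rw [hu, mt_uu, map_one]
  have hvm : mt v = loM (ω * η ^ 2) (-((ω + 1) * η ^ 2)) (η ^ 2 + ω * η + ω * η ^ 2) := by
    rw [hv, mt_ll, hσα]
  have huH : u ∈ Subgroup.closure ({u, v} : Set (GG 3 (frob hK))) :=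
    Subgroup.subset_closure (by simp)
  have hvH : v ∈ Subgroup.closure ({u, v} : Set (GG 3 (frob hK))) :=
    Subgroup.subset_closure (by simp)
  have hzH : v * (u * (v * (u * (u * v)))) ∈ Subgroup.closure ({u, v} : Set (GG 3 (frob hK))) :=
    Subgroup.mul_mem _ hvH (Subgroup.mul_mem _ huH (Subgroup.mul_mem _ hvH
      (Subgroup.mul_mem _ huH (Subgroup.mul_mem _ huH hvH))))
  have hzm : mt (v * (u * (v * (u * (u * v))))) =
      loM (ω * η ^ 2) (-((ω + 1) * η ^ 2)) (η ^ 2 + ω * η + ω * η ^ 2) *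
      (upM 1 (-1) (1 + η + ω) *
      (loM (ω * η ^ 2) (-((ω + 1) * η ^ 2)) (η ^ 2 + ω * η + ω * η ^ 2) *
      (upM 1 (-1) (1 + η + ω) * (upM 1 (-1) (1 + η + ω) *
      loM (ω * η ^ 2) (-((ω + 1) * η ^ 2)) (η ^ 2 + ω * η + ω * η ^ 2))))) := by
    rw [mt_mul, mt_mul, mt_mul, mt_mul, mt_mul, hum, hvm]
  have h0 : mt (v * (u * (v * (u * (u * v))))) 0 0 = η ^ 2 + ω + ω * η := by
    rw [hzm]
    simp only [lo_col0, lo_col1, lo_col2, up_col0, up_col1, up_col2, lo_e0, lo_e1, lo_e2]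
    linear_combination ((4)*η + (2)*η^2 + (-2)*η^3 + (1)*ω*η^2 + (24)*η^4 + (16)*ω*η^3 + (2)*ω^2*η^2 + (16)*η^5 + (18)*ω*η^4 + (4)*ω^2*η^3 + (2)*η^6 + (4)*ω*η^5 + (2)*ω^2*η^4) * hω + ((17) + (-21)*η + (-9)*ω + (-11)*η^2 + (-23)*ω*η + (1)*ω*η^2 + (2)*ω*η^3) * hη + ((-8) + (4)*ω + (15)*η^2 + (14)*ω*η + (16)*ω*η^2) * h2
  have h1 : mt (v * (u * (v * (u * (u * v))))) 1 0 = 0 := by
    rw [hzm]
    simp only [lo_col0, lo_col1, lo_col2, up_col0, up_col1, up_col2, lo_e0, lo_e1, lo_e2]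
    linear_combination ((1)*η^2 + (-12)*η^3 + (-2)*ω*η^2 + (5)*η^4 + (2)*ω*η^3 + (-6)*η^5 + (2)*ω*η^4 + (-21)*η^6 + (-2)*ω*η^5 + (1)*ω^2*η^4 + (1)*η^7 + (24)*ω*η^6 + (16)*ω^2*η^5 + (2)*ω^3*η^4 + (2)*η^8 + (16)*ω*η^7 + (18)*ω^2*η^6 + (4)*ω^3*η^5 + (2)*ω*η^8 + (4)*ω^2*η^7 + (2)*ω^3*η^6) * hω + ((-18) + (-30)*η + (-20)*ω + (7)*η^2 + (-8)*ω*η + (23)*η^3 + (24)*ω*η^2 + (-1)*η^4 + (2)*ω*η^3 + (-2)*η^5 + (-12)*ω*η^4 + (-2)*ω*η^5) * hη + ((9) + (24)*η + (10)*ω + (9)*η^2 + (12)*ω*η + (-8)*ω*η^2) * h2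
  have h2' : mt (v * (u * (v * (u * (u * v))))) 2 0 = 0 := by
    rw [hzm]
    simp only [lo_col0, lo_col1, lo_col2, up_col0, up_col1, up_col2, lo_e0, lo_e1, lo_e2]
    linear_combination ((-4)*η^2 + (23)*η^3 + (6)*ω*η^2 + (16)*η^4 + (10)*ω*η^3 + (-25)*η^5 + (4)*ω*η^4 + (1)*ω^2*η^3 + (16)*η^6 + (49)*ω*η^5 + (21)*ω^2*η^4 + (2)*ω^3*η^3 + (21)*η^7 + (63)*ω*η^6 + (40)*ω^2*η^5 + (6)*ω^3*η^4 + (4)*η^8 + (22)*ω*η^7 + (24)*ω^2*η^6 + (6)*ω^3*η^5 + (2)*ω*η^8 + (4)*ω^2*η^7 + (2)*ω^3*η^6) * hω + ((-62) + (14)*η + (2)*ω + (47)*η^2 + (63)*ω*η + (-8)*η^3 + (10)*ω*η^2 + (-14)*η^4 + (-35)*ω*η^3 + (-2)*η^5 + (-11)*ω*η^4) * hη + ((31) + (24)*η + (-1)*ω + (-27)*η^2 + (-31)*ω*η + (-36)*ω*η^2) * h2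
  have hχ : (η ^ 2 + ω + ω * η) ^ 2 = (η + ω * η) * frob hK (η ^ 2 + ω + ω * η) := by
    rw [map_add, map_add, map_mul, map_pow, hσω, hση]
    linear_combination ((1) + (1)*η) * hω + ((-1) + (1)*η + (1)*ω) * hη + ((-1)*η + (-1)*ω + (-1)*η^2 + (-2)*ω*η) * h2
  -- the Frobenius orbit of `χ = η + ωη`
  have e1 : (η + ω * η) ^ 2 = ω * η ^ 2 := by
    linear_combination ((1)*η^2) * hω
  have e2 : (η + ω * η) ^ 4 = η + η ^ 2 + ω * η + ω * η ^ 2 := by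
    have : (η + ω * η) ^ 4 = ((η + ω * η) ^ 2) ^ 2 := by ring
    rw [this, e1]
    linear_combination ((1)*η^4) * hω + ((-1)*η + (-1)*ω*η) * hη
  have e3 : (η + ω * η) ^ 8 = ω * η := by
    have : (η + ω * η) ^ 8 = ((η + ω * η) ^ 4) ^ 2 := by ring
    rw [this, e2]
    linear_combination ((1)*η^2 + (2)*η^3 + (1)*η^4) * hω + ((2)*ω + (1)*ω*η) * hη + ((-1)*ω + (-2)*ω*η) * h2
  have e4 : (η + ω * η) ^ 16 = η ^ 2 + ω * η ^ 2 := by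
    have : (η + ω * η) ^ 16 = ((η + ω * η) ^ 8) ^ 2 := by ring
    rw [this, e3]
    linear_combination ((1)*η^2) * hω + ((-1)*η^2 + (-1)*ω*η^2) * h2
  have e5 : (η + ω * η) ^ 32 = ω * η + ω * η ^ 2 := by
    have : (η + ω * η) ^ 32 = ((η + ω * η) ^ 16) ^ 2 := by ring
    rw [this, e4]
    linear_combination ((1)*η^4) * hω + ((1)*ω*η) * hη + ((-1)*ω*η + (-1)*ω*η^2) * h2
  have hfrob : ∀ r : ℕ, 0 < r → r < 6 → (η + ω * η) ^ (2 ^ r) ≠ η + ω * η := by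
    intro r hr0 hr h
    have h10 : (1 : K) ≠ 0 := one_ne_zero
    apply h10
    interval_cases r
    · have h' : (η + ω * η) ^ 2 = η + ω * η := h
      rw [e1] at h'
      linear_combination (η^2 + ω*η + ω*η^2) * h' - (((-1)*η^2 + (1)*η^4) * hω + ((-1) + (-1)*η + (-2)*ω) * hη + ((1)*η + (1)*ω + (1)*η^2 + (1)*ω*η) * h2)
    · have h' : (η + ω * η) ^ 4 = η + ω * η := h
      rw [e2] at h'
      linear_combination (ω + ω*η + ω*η^2) * h' - (((1)*η^2 + (1)*η^3 + (1)*η^4) * hω + ((-1) + (-1)*η) * hη + ((1)*η) * h2)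
    · have h' : (η + ω * η) ^ 8 = η + ω * η := h
      rw [e3] at h'
      linear_combination (1 + η^2) * h' - (((-1)) * hη)
    · have h' : (η + ω * η) ^ 16 = η + ω * η := h
      rw [e4] at h'
      linear_combination (ω + ω*η) * h' - (((-1)*η + (1)*η^3) * hω + ((-1)) * hη + ((1)*η) * h2)
    · have h' : (η + ω * η) ^ 32 = η + ω * η := h
      rw [e5] at h'
      linear_combination (η + η^2 + ω*η^2) * h' - (((1)*η^4) * hω + ((-1) + (-1)*η) * hη + ((1)*η) * h2)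
  have ht'0 : 1 + η + ω * η + ω * η ^ 2 ≠ 0 := by
    intro h
    have h1 : (1 + η + ω * η + ω * η ^ 2) * (ω + η ^ 2) = 1 := by
      linear_combination ((1)*η + (1)*η^2) * hω + ((1) + (1)*ω + (1)*ω*η) * hη + ((-1) + (-1)*η + (-1)*ω*η + (-1)*ω*η^2) * h2
    rw [h, zero_mul] at h1
    exact zero_ne_one h1
  have hconj : (1 + η + ω * η + ω * η ^ 2) ^ 2 * 1 =
      frob hK (ω * η ^ 2) * frob hK (1 + η + ω * η + ω * η ^ 2) := by
    rw [hσα, map_add, map_add, map_add, map_mul, map_mul, map_pow, hσω, hση, map_one]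
    linear_combination ((1)*η^2 + (1)*η^3) * hω + ((-3) + (-1)*η + (-2)*ω + (-2)*ω*η) * hη + ((2) + (3)*η + (1)*ω + (3)*ω*η + (2)*ω*η^2) * h2
  exact gen_of_word 2 6 hcard hσ (exists_frob_ne hK) (norm_surj hK) hzH hum one_ne_zero hvm
    (mul_ne_zero hω0 (pow_ne_zero 2 hη0)) (η ^ 2 + ω + ω * η) (η + ω * η) h0 h1 h2' hχ hfrob
    (1 + η + ω * η + ω * η ^ 2) ht'0 hconj

end Cfsg.Agent.Lib.Helper7.RegU3
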