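import Mathlib
import Cfsg.Agent.Lib.Helper7.RegU3F
import Cfsg.Agent.Lib.Helper7.RegU3H
import Cfsg.Agent.Lib.Helper7.RegU3I
import Cfsg.Agent.H9.SUd

/-!
# `SU₃(q)`, two conjugate regular unipotents: transport to the standard form (helper7)
-/

set_option autoImplicit false

namespace Cfsg.Agent.Lib.Helper7.RegU3

open Matrix Cfsg.Agent.H9.SUa Cfsg.Agent.H9.SUm

section conj

variable {K : Type*} [Field K]

theorem conj_sub_one_pow (P Q M : Matrix (Fin 3) (Fin 3) K) (hPQ : P * Q = 1) (hQP : Q * P = 1)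
    (k : ℕ) : (P * M * Q - 1) ^ k = P * (M - 1) ^ k * Q := by
  have h1 : P * M * Q - 1 = P * (M - 1) * Q := by
    rw [Matrix.mul_sub, Matrix.sub_mul, Matrix.mul_one, hPQ]
  rw [h1]
  induction k with
  | zero => rw [pow_zero, pow_zero, Matrix.mul_one, hPQ]
  | succ k ih =>
    rw [pow_succ, ih, pow_succ]
    calc P * (M - 1) ^ k * Q * (P * (M - 1) * Q)
        = P * (M - 1) ^ k * (Q * P) * (M - 1) * Q := by simp only [Matrix.mul_assoc]
      _ = P * ((M - 1) ^ k * (M - 1)) * Q := by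
        rw [hQP, Matrix.mul_one]
        simp only [Matrix.mul_assoc]

end conj

theorem transport {K : Type*} [Field K] [Fintype K] {q : ℕ} (hK : Fintype.card K = q ^ 2)
    (h : ∃ u g : GG 3 (frob hK), (IsNilpotent (mt u - 1) ∧ (mt u - 1) ^ 2 ≠ 0) ∧
      Subgroup.closure ({u, g * u * g⁻¹} : Set (GG 3 (frob hK))) = ⊤) :
    ∃ u g : ↥(Cfsg.SU 3 K q),
      (IsNilpotent (((u : Matrix.SpecialLinearGroup (Fin 3) K) : Matrix (Fin 3) (Fin 3) K) - 1) ∧
        (((u : Matrix.SpecialLinearGroup (Fin 3) K) : Matrix (Fin 3) (Fin 3) K) - 1) ^ (3 - 1)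
          ≠ 0) ∧
      Subgroup.closure ({u, g * u * g⁻¹} : Set ↥(Cfsg.SU 3 K q)) = ⊤ := by
  obtain ⟨u, g, ⟨hnil, hne⟩, hgen⟩ := h
  obtain ⟨l, hl⟩ := norm_surj hK (-1) (by rw [map_neg, map_one])
  obtain ⟨θ, hθ⟩ := Cfsg.Agent.H9.SUd.exists_theta (frob_invol hK) (exists_frob_ne hK)
  obtain ⟨φ, hφ⟩ : ∃ φ : GG 3 (frob hK) →* Cfsg.SU 3 K q, φ = toSU hK l θ hl hθ := ⟨_, rfl⟩
  have hφs : Function.Surjective φ := by rw [hφ]; exact toSU_surjective hK l θ hl hθ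
  have hPQ := PB_mul_inv (n := 3) hK l θ hl hθ
  have hQP := PB_inv_mul (n := 3) hK l θ hl hθ
  have hval : ((φ u : Matrix.SpecialLinearGroup (Fin 3) K) : Matrix (Fin 3) (Fin 3) K) =
      PB (frob hK) l θ * mt u * (PB (frob hK) l θ)⁻¹ := by
    rw [hφ]
    exact toSU_val hK l θ hl hθ u
  refine ⟨φ u, φ g, ⟨?_, ?_⟩, ?_⟩
  · obtain ⟨k, hk⟩ := hnil
    refine ⟨k, ?_⟩
    rw [hval, conj_sub_one_pow _ _ _ hPQ hQP, hk, Matrix.mul_zero, Matrix.zero_mul]
  · intro h0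
    apply hne
    rw [hval, conj_sub_one_pow _ _ _ hPQ hQP] at h0
    have h1 : (mt u - 1) ^ 2 = (PB (frob hK) l θ)⁻¹ *
        (PB (frob hK) l θ * (mt u - 1) ^ (3 - 1) * (PB (frob hK) l θ)⁻¹) * PB (frob hK) l θ := by
      rw [Matrix.mul_assoc, Matrix.mul_assoc, Matrix.mul_assoc, hQP, Matrix.mul_one,
        ← Matrix.mul_assoc, hQP, Matrix.one_mul]
    rw [h1, h0, Matrix.mul_zero, Matrix.zero_mul]
  · have h1 : Subgroup.map φ (Subgroup.closure ({u, g * u * g⁻¹} : Set (GG 3 (frob hK)))) = ⊤ := by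
      rw [hgen]
      exact Subgroup.map_top_of_surjective φ hφs
    rw [MonoidHom.map_closure] at h1
    rw [← h1]
    congr 1
    ext x
    simp only [Set.image_insert_eq, Set.image_singleton, map_mul, map_inv]

end Cfsg.Agent.Lib.Helper7.RegU3
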