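import Mathlib
import Cfsg.Agent.Lib.Helper7.RegUnA

/-!
# `SU_{2m+1}(q)` and regular unipotent elements: the additive group `Acal` (helper7)
-/

set_option autoImplicit false

namespace Cfsg.Agent.Lib.Helper7.RegUn

open Matrix Cfsg.Agent.H9.SUa Cfsg.Agent.H9.SUc Cfsg.Agent.Lib.Helper7.RegUnip

variable {m : ℕ} {K : Type*} [Field K]

local notation "Mn" => Matrix (Fin (2 * m + 1)) (Fin (2 * m + 1)) K

/-! ### the block condition -/

/-- matrices supported on rows `< m` and columns `> m` -/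
def ZW (m : ℕ) (N : Matrix (Fin (2 * m + 1)) (Fin (2 * m + 1)) K) : Prop :=
  ∀ i j : Fin (2 * m + 1), (m ≤ i.val ∨ j.val ≤ m) → N i j = 0

theorem ZW.zero : ZW m (0 : Mn) := fun _ _ _ => rfl

theorem ZW.add {N N' : Mn} (h : ZW m N) (h' : ZW m N') : ZW m (N + N') := by
  intro i j hij
  rw [Matrix.add_apply, h i j hij, h' i j hij, add_zero]

theorem ZW.neg {N : Mn} (h : ZW m N) : ZW m (-N) := by
  intro i j hij
  rw [Matrix.neg_apply, h i j hij, neg_zero]

theorem ZW.sub {N N' : Mn} (h : ZW m N) (h' : ZW m N') : ZW m (N - N') := by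
  rw [sub_eq_add_neg]
  exact h.add h'.neg

theorem ZW.smul {N : Mn} (h : ZW m N) (c : K) : ZW m (c • N) := by
  intro i j hij
  rw [Matrix.smul_apply, h i j hij, smul_zero]

theorem ZW.mul_eq_zero {N N' : Mn} (h : ZW m N) (h' : ZW m N') : N * N' = 0 := by
  ext i k
  rw [Matrix.mul_apply, Matrix.zero_apply]
  apply Finset.sum_eq_zero
  intro j _
  by_cases hj : j.val ≤ m
  · rw [h i j (Or.inr hj), zero_mul]
  · rw [h' j k (Or.inl (by omega)), mul_zero]

/-- vectors in the span of the first `k` basis vectors -/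
def Wk (k : ℕ) (v : Fin (2 * m + 1) → K) : Prop := ∀ j : Fin (2 * m + 1), k ≤ j.val → v j = 0

theorem Wk.mono {k l : ℕ} (hkl : k ≤ l) {v : Fin (2 * m + 1) → K} (h : Wk k v) : Wk l v :=
  fun j hj => h j (hkl.trans hj)

theorem Wk.add {k : ℕ} {v w : Fin (2 * m + 1) → K} (hv : Wk k v) (hw : Wk k w) : Wk k (v + w) := by
  intro j hj
  rw [Pi.add_apply, hv j hj, hw j hj, add_zero]

theorem Wk.smul {k : ℕ} {v : Fin (2 * m + 1) → K} (hv : Wk k v) (c : K) : Wk k (c • v) := by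
  intro j hj
  rw [Pi.smul_apply, hv j hj, smul_zero]

theorem Wk.neg {k : ℕ} {v : Fin (2 * m + 1) → K} (hv : Wk k v) : Wk k (-v) := by
  intro j hj
  rw [Pi.neg_apply, hv j hj, neg_zero]

theorem Wk.sub {k : ℕ} {v w : Fin (2 * m + 1) → K} (hv : Wk k v) (hw : Wk k w) : Wk k (v - w) := by
  rw [sub_eq_add_neg]
  exact hv.add hw.neg

theorem Wk_zero (k : ℕ) : Wk k (0 : Fin (2 * m + 1) → K) := fun _ _ => rfl

theorem Wk_ev {k i : ℕ} (hik : i < k) : Wk k (ev i : Fin (2 * m + 1) → K) := by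
  intro j hj
  rw [ev_apply, if_neg (by omega)]

theorem ZW_VV (σ : K →+* K) {a b : Fin (2 * m + 1) → K} (ha : Wk m a) (hb : Wk m b) :
    ZW m (VV σ a b) := by
  intro i j hij
  rw [VV_apply]
  rcases hij with hi | hj
  · rw [ha i hi, zero_mul]
  · rw [hb j.rev (by rw [Fin.val_rev]; omega), map_zero, mul_zero]

/-- the form vanishes between a vector of `W` and a vector of `W^⊥` -/
theorem hf_Wk_eq_zero (σ : K →+* K) {x b : Fin (2 * m + 1) → K} (hx : Wk (m + 1) x) (hb : Wk m b) :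
    hf σ x b = 0 := by
  unfold hf
  rw [dotProduct]
  apply Finset.sum_eq_zero
  intro j _
  rw [hat_apply]
  by_cases hj : j.val ≤ m
  · rw [hb j.rev (by rw [Fin.val_rev]; omega), map_zero, zero_mul]
  · rw [hx j (by omega), mul_zero]

/-! ### basis vectors -/

theorem hat_ev (σ : K →+* K) (k : ℕ) (hk : k < 2 * m + 1) :
    hat σ (ev k : Fin (2 * m + 1) → K) = ev (2 * m - k) := by
  funext j
  rw [hat_apply, ev_apply, ev_apply, Fin.val_rev]
  by_cases h : j.val = 2 * m - k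
  · rw [if_pos h, if_pos (by omega), map_one]
  · rw [if_neg h, if_neg (by have := j.isLt; omega), map_zero]

theorem hf_ev_ev (σ : K →+* K) (i j : ℕ) (hi : i < 2 * m + 1) (hj : j < 2 * m + 1) :
    hf σ (ev i : Fin (2 * m + 1) → K) (ev j) = if i + j = 2 * m then 1 else 0 := by
  unfold hf
  rw [hat_ev σ j hj]
  by_cases h : i + j = 2 * m
  · rw [if_pos h]
    have : 2 * m - j = i := by omega
    rw [this]
    exact ev_dot_ev_self hi
  · rw [if_neg h]
    exact ev_dot_ev_ne (by omega)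

theorem hf_ev_right (σ : K →+* K) (x : Fin (2 * m + 1) → K) (j : ℕ) (hj : j < 2 * m + 1) :
    hf σ x (ev j) = x ⟨2 * m - j, by omega⟩ := by
  unfold hf
  rw [hat_ev σ j hj]
  exact ev_dot x (2 * m - j) (by omega)

theorem hf_ev_left (σ : K →+* K) (i : ℕ) (hi : i < 2 * m + 1) (y : Fin (2 * m + 1) → K) :
    hf σ (ev i) y = σ (y ⟨2 * m - i, by omega⟩) := by
  unfold hf
  rw [dot_ev _ i hi, hat_apply]
  congr 2
  apply Fin.ext
  rw [Fin.val_rev]
  show 2 * m + 1 - (i + 1) = 2 * m - i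
  omega

section group

variable [Finite K] {σ : K →+* K}

/-! ### membership of matrices -/

/-- a matrix is the matrix of an element of `H` -/
def InG (H : Subgroup (GG (2 * m + 1) σ)) (M : Mn) : Prop := ∃ g ∈ H, mt g = M

theorem InG.of_mem {H : Subgroup (GG (2 * m + 1) σ)} {g : GG (2 * m + 1) σ} (hg : g ∈ H) :
    InG H (mt g) := ⟨g, hg, rfl⟩

theorem InG.one (H : Subgroup (GG (2 * m + 1) σ)) : InG H (1 : Mn) := ⟨1, H.one_mem, rfl⟩

theorem InG.mul {H : Subgroup (GG (2 * m + 1) σ)} {M N : Mn} (hM : InG H M) (hN : InG H N) :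
    InG H (M * N) := by
  obtain ⟨g, hg, rfl⟩ := hM
  obtain ⟨h, hh, rfl⟩ := hN
  exact ⟨g * h, H.mul_mem hg hh, mt_mul g h⟩

theorem InG.of_mul_eq_one {H : Subgroup (GG (2 * m + 1) σ)} {M N : Mn} (hM : InG H M)
    (h : M * N = 1) : InG H N := by
  obtain ⟨g, hg, rfl⟩ := hM
  refine ⟨g⁻¹, H.inv_mem hg, ?_⟩
  rw [mt_inv]
  calc adj σ (mt g) = adj σ (mt g) * (mt g * N) := by rw [h, Matrix.mul_one]
    _ = N := by rw [← Matrix.mul_assoc, mt_unit', Matrix.one_mul]

theorem InG.conj {H : Subgroup (GG (2 * m + 1) σ)} {g : GG (2 * m + 1) σ} (hg : g ∈ H) {M : Mn}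
    (hM : InG H M) : InG H (mt g * M * adj σ (mt g)) := by
  obtain ⟨h, hh, rfl⟩ := hM
  exact ⟨g * h * g⁻¹, H.mul_mem (H.mul_mem hg hh) (H.inv_mem hg), mt_conj g h⟩

theorem InG.conj_inv {H : Subgroup (GG (2 * m + 1) σ)} {g : GG (2 * m + 1) σ} (hg : g ∈ H) {M : Mn}
    (hM : InG H M) : InG H (adj σ (mt g) * M * mt g) := by
  obtain ⟨h, hh, rfl⟩ := hM
  refine ⟨g⁻¹ * h * g, H.mul_mem (H.mul_mem (H.inv_mem hg) hh) hg, ?_⟩
  rw [mt_mul, mt_mul, mt_inv]

theorem InG.mem {H : Subgroup (GG (2 * m + 1) σ)} {g : GG (2 * m + 1) σ} (h : InG H (mt g)) :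
    g ∈ H := by
  obtain ⟨g', hg', e⟩ := h
  rwa [← mt_injective e]

/-! ### the additive group -/

/-- the additive group of all `N` in the block with `1 + N ∈ H` -/
def Acal (m : ℕ) (H : Subgroup (GG (2 * m + 1) σ)) :
    AddSubgroup (Matrix (Fin (2 * m + 1)) (Fin (2 * m + 1)) K) where
  carrier := {N | ZW m N ∧ InG H (1 + N)}
  zero_mem' := ⟨ZW.zero, by rw [add_zero]; exact InG.one H⟩
  add_mem' := by
    rintro N N' ⟨hN, gN⟩ ⟨hN', gN'⟩
    refine ⟨hN.add hN', ?_⟩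
    have e : (1 + N) * (1 + N') = 1 + (N + N') := by
      rw [Matrix.add_mul, Matrix.mul_add, Matrix.mul_add, Matrix.one_mul, Matrix.mul_one,
        Matrix.one_mul, hN.mul_eq_zero hN', add_zero]
      abel
    rw [← e]
    exact gN.mul gN'
  neg_mem' := by
    rintro N ⟨hN, gN⟩
    refine ⟨hN.neg, ?_⟩
    apply gN.of_mul_eq_one
    rw [Matrix.add_mul, Matrix.mul_add, Matrix.mul_add, Matrix.one_mul, Matrix.mul_one,
      Matrix.one_mul, Matrix.mul_neg, hN.mul_eq_zero hN, neg_zero, add_zero]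
    abel

theorem mem_Acal {H : Subgroup (GG (2 * m + 1) σ)} {N : Mn} :
    N ∈ Acal m H ↔ ZW m N ∧ InG H (1 + N) := Iff.rfl

/-- the general conjugation rule -/
theorem Acal_conj {H : Subgroup (GG (2 * m + 1) σ)} {g : GG (2 * m + 1) σ} (hg : g ∈ H) {N : Mn}
    (hN : N ∈ Acal m H) (hZ : ZW m (mt g * N * adj σ (mt g))) :
    mt g * N * adj σ (mt g) ∈ Acal m H := by
  refine ⟨hZ, ?_⟩
  have e : 1 + mt g * N * adj σ (mt g) = mt g * (1 + N) * adj σ (mt g) := by
    rw [Matrix.mul_add, Matrix.add_mul, Matrix.mul_one, mt_unit]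
  rw [e]
  exact hN.2.conj hg

/-- conjugation by the inverse -/
theorem Acal_conj_inv {H : Subgroup (GG (2 * m + 1) σ)} {g : GG (2 * m + 1) σ} (hg : g ∈ H)
    {N : Mn} (hN : N ∈ Acal m H) (hZ : ZW m (adj σ (mt g) * N * mt g)) :
    adj σ (mt g) * N * mt g ∈ Acal m H := by
  refine ⟨hZ, ?_⟩
  have e : 1 + adj σ (mt g) * N * mt g = adj σ (mt g) * (1 + N) * mt g := by
    rw [Matrix.mul_add, Matrix.add_mul, Matrix.mul_one, mt_unit']
  rw [e]
  exact hN.2.conj_inv hg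

/-- conjugation of a rank one operator by the inverse of a unitary matrix -/
theorem conj_inv_VV (hσ : ∀ x, σ (σ x) = x) (g : GG (2 * m + 1) σ)
    (a b : Fin (2 * m + 1) → K) :
    adj σ (mt g) * VV σ a b * mt g = VV σ (adj σ (mt g) *ᵥ a) (adj σ (mt g) *ᵥ b) := by
  have h := conj_VV σ (adj σ (mt g)) a b
  rwa [adj_adj σ hσ] at h

end group

end Cfsg.Agent.Lib.Helper7.RegUn
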