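import Mathlib
import Cfsg.Agent.Lib.Helper7.RegUnB

/-!
# `SU_{2m+1}(q)`: the regular unipotent element `Jel` (helper7)

`Jel = Yel * Lam (m - 1)` where `Lam r = X_r ⋯ X_1` is a product of simple root elements and `Yel`
is the root element of the end node.
-/

set_option autoImplicit false

namespace Cfsg.Agent.Lib.Helper7.RegUn

open Matrix Cfsg.Agent.H9.SUa Cfsg.Agent.H9.SUb Cfsg.Agent.H9.SUc Cfsg.Agent.H9.SUd
  Cfsg.Agent.H9.SUi Cfsg.Agent.H9.SpB Cfsg.Agent.Lib.Helper7.RegUnip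

variable {m : ℕ} {K : Type*} [Field K]

local notation "Mn" => Matrix (Fin (2 * m + 1)) (Fin (2 * m + 1)) K

section group

variable [Finite K] {σ : K →+* K}

/-- fixed vectors of an element are fixed by its inverse -/
theorem inv_mulVec_of_fixed (g : GG (2 * m + 1) σ) (v : Fin (2 * m + 1) → K)
    (h : mt g *ᵥ v = v) : mt g⁻¹ *ᵥ v = v := by
  calc mt g⁻¹ *ᵥ v = mt g⁻¹ *ᵥ (mt g *ᵥ v) := by rw [h]
    _ = v := by rw [Matrix.mulVec_mulVec, ← mt_mul, inv_mul_cancel, mt_one, Matrix.one_mulVec]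

/-- to compute the action of the inverse it suffices to check the action of the element -/
theorem inv_mulVec_eq (g : GG (2 * m + 1) σ) (v w : Fin (2 * m + 1) → K)
    (h : mt g *ᵥ w = v) : mt g⁻¹ *ᵥ v = w := by
  rw [← h, Matrix.mulVec_mulVec, ← mt_mul, inv_mul_cancel, mt_one, Matrix.one_mulVec]

theorem valid_X (k : ℕ) (h : 1 ≤ k ∧ k + 1 ≤ m) :
    Valid σ (⟨k - 1, by omega⟩ : Fin (2 * m + 1)) ⟨k, by omega⟩ 1 0 := by
  refine ⟨?_, ?_, ?_, ?_⟩
  · intro e
    have := congrArg Fin.val e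
    simp only at this
    omega
  · intro e
    have := congrArg Fin.val e
    rw [Fin.val_rev] at this
    simp only at this
    omega
  · intro e
    have := congrArg Fin.val e
    rw [Fin.val_rev] at this
    simp only at this
    omega
  · rw [if_neg, map_zero, add_zero, add_zero]
    intro e
    have := congrArg Fin.val e
    rw [Fin.val_rev] at this
    simp only at this
    omega

/-- the simple root element `X_k = x_{k-1,k}(1)`, `1 ≤ k ≤ m - 1` (and `1` otherwise) -/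
noncomputable def Xel (hσ : ∀ x, σ (σ x) = x) (k : ℕ) : GG (2 * m + 1) σ :=
  if h : 1 ≤ k ∧ k + 1 ≤ m then xx hσ ⟨k - 1, by omega⟩ ⟨k, by omega⟩ 1 0 (valid_X k h) else 1

theorem Xel_mulVec_ev (hσ : ∀ x, σ (σ x) = x) (k : ℕ) (h : 1 ≤ k ∧ k + 1 ≤ m) (l : ℕ)
    (hl : l < 2 * m + 1) :
    mt (Xel (m := m) hσ k) *ᵥ (ev l : Fin (2 * m + 1) → K) =
      ev l + (if l = k then ev (k - 1) else 0) - (if l + k = 2 * m + 1 then ev (2 * m - k) else 0) := by
  unfold Xel
  rw [dif_pos h, mt_xx, xM_mulVec]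
  rw [← ev_eq_single (k - 1) (by omega)]
  have hrev : (Fin.rev (⟨k, by omega⟩ : Fin (2 * m + 1))) = ⟨2 * m - k, by omega⟩ := by
    apply Fin.ext
    rw [Fin.val_rev]
    simp only
    omega
  rw [hrev, ← ev_eq_single (2 * m - k) (by omega)]
  have h1 : (ev l : Fin (2 * m + 1) → K) ⟨k, by omega⟩ = if l = k then 1 else 0 := by
    rw [ev_apply]
    simp only [eq_comm]
  have h2 : (ev l : Fin (2 * m + 1) → K) (Fin.rev ⟨k - 1, by omega⟩) =
      if l + k = 2 * m + 1 then 1 else 0 := by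
    rw [ev_apply, Fin.val_rev]
    simp only
    by_cases e : l + k = 2 * m + 1
    · rw [if_pos e, if_pos (by omega)]
    · rw [if_neg e, if_neg (by omega)]
  rw [h1, h2, map_one, one_mul, one_mul, zero_mul, zero_smul, add_zero]
  by_cases e1 : l = k
  · rw [if_pos e1, if_pos e1, one_smul]
    by_cases e2 : l + k = 2 * m + 1
    · rw [if_pos e2, if_pos e2, one_smul]
    · rw [if_neg e2, if_neg e2, zero_smul]
  · rw [if_neg e1, if_neg e1, zero_smul]
    by_cases e2 : l + k = 2 * m + 1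
    · rw [if_pos e2, if_pos e2, one_smul]
    · rw [if_neg e2, if_neg e2, zero_smul]

theorem Xel_mem_US (hσ : ∀ x, σ (σ x) = x) (k : ℕ) : Xel (m := m) hσ k ∈ US (2 * m + 1) σ := by
  unfold Xel
  by_cases h : 1 ≤ k ∧ k + 1 ≤ m
  · rw [dif_pos h]
    apply xx_mem_US
    · rw [Fin.lt_def]
      simp only
      omega
    · rw [Fin.lt_def, Fin.val_rev]
      simp only
      omega
  · rw [dif_neg h]
    exact (US (2 * m + 1) σ).one_mem

/-- `Lam r = X_r ⋯ X_1` -/
noncomputable def Lam (hσ : ∀ x, σ (σ x) = x) : ℕ → GG (2 * m + 1) σ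
  | 0 => 1
  | r + 1 => Xel hσ (r + 1) * Lam hσ r

theorem Lam_mem_US (hσ : ∀ x, σ (σ x) = x) (r : ℕ) : Lam (m := m) hσ r ∈ US (2 * m + 1) σ := by
  induction r with
  | zero => exact (US (2 * m + 1) σ).one_mem
  | succ r ih => exact (US (2 * m + 1) σ).mul_mem (Xel_mem_US hσ (r + 1)) ih

/-- the action of `Lam r` on the first `m + 2` basis vectors -/
theorem Lam_mulVec_ev (hσ : ∀ x, σ (σ x) = x) (r : ℕ) (hr : r + 1 ≤ m) (l : ℕ) (hl : l ≤ m + 1) :
    mt (Lam (m := m) hσ r) *ᵥ (ev l : Fin (2 * m + 1) → K) =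
      if 1 ≤ l ∧ l ≤ r then ev l + ev (l - 1) else ev l := by
  induction r with
  | zero =>
    rw [if_neg (by omega)]
    show mt (1 : GG (2 * m + 1) σ) *ᵥ _ = _
    rw [mt_one, Matrix.one_mulVec]
  | succ r ih =>
    have ih' := ih (by omega)
    show mt (Xel hσ (r + 1) * Lam hσ r) *ᵥ _ = _
    rw [mt_mul, ← Matrix.mulVec_mulVec, ih']
    have hX : ∀ l' : ℕ, l' ≤ m + 1 → mt (Xel (m := m) hσ (r + 1)) *ᵥ (ev l' : Fin (2 * m + 1) → K) =
        ev l' + (if l' = r + 1 then ev r else 0) := by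
      intro l' hl'
      rw [Xel_mulVec_ev hσ (r + 1) ⟨by omega, by omega⟩ l' (by omega),
        if_neg (show ¬ (l' + (r + 1) = 2 * m + 1) by omega), sub_zero, Nat.add_sub_cancel]
    by_cases h1 : 1 ≤ l ∧ l ≤ r
    · rw [if_pos h1, if_pos (by omega), Matrix.mulVec_add, hX l hl, hX (l - 1) (by omega),
        if_neg (by omega), if_neg (by omega), add_zero, add_zero]
    · rw [if_neg h1, hX l hl]
      by_cases h2 : l = r + 1
      · rw [if_pos h2, if_pos (by omega), h2]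
        rfl
      · rw [if_neg h2, if_neg (by omega), add_zero]

/-- the action of `(Lam r)⁻¹` on the last basis vectors -/
theorem Lam_inv_mulVec_ev (hσ : ∀ x, σ (σ x) = x) (r : ℕ) (hr : r + 1 ≤ m) (l : ℕ)
    (hl1 : m + 1 ≤ l) (hl2 : l ≤ 2 * m) :
    mt (Lam (m := m) hσ r)⁻¹ *ᵥ (ev l : Fin (2 * m + 1) → K) =
      if 2 * m + 1 ≤ l + r then ev l + ev (l - 1) else ev l := by
  induction r generalizing l with
  | zero =>
    rw [if_neg (by omega)]
    show mt (1 : GG (2 * m + 1) σ)⁻¹ *ᵥ _ = _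
    rw [inv_one, mt_one, Matrix.one_mulVec]
  | succ r ih =>
    show mt (Xel hσ (r + 1) * Lam hσ r)⁻¹ *ᵥ _ = _
    rw [_root_.mul_inv_rev, mt_mul, ← Matrix.mulVec_mulVec]
    -- the action of the inverse of `X_{r+1}`
    have hX : ∀ l' : ℕ, m + 1 ≤ l' → l' ≤ 2 * m →
        mt (Xel (m := m) hσ (r + 1))⁻¹ *ᵥ (ev l' : Fin (2 * m + 1) → K) =
        ev l' + (if l' + r = 2 * m then ev (l' - 1) else 0) := by
      intro l' h1 h2
      apply inv_mulVec_eq
      by_cases e : l' + r = 2 * m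
      · rw [if_pos e, Matrix.mulVec_add,
          Xel_mulVec_ev hσ (r + 1) ⟨by omega, by omega⟩ l' (by omega),
          Xel_mulVec_ev hσ (r + 1) ⟨by omega, by omega⟩ (l' - 1) (by omega),
          if_neg (by omega), if_pos (by omega), if_neg (by omega), if_neg (by omega), add_zero,
          add_zero, sub_zero]
        have : 2 * m - (r + 1) = l' - 1 := by omega
        rw [this]
        abel
      · rw [if_neg e, add_zero, Xel_mulVec_ev hσ (r + 1) ⟨by omega, by omega⟩ l' (by omega),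
          if_neg (by omega), if_neg (by omega), add_zero, sub_zero]
    rw [hX l hl1 hl2]
    by_cases e : l + r = 2 * m
    · rw [if_pos e, Matrix.mulVec_add, ih (by omega) l hl1 hl2, ih (by omega) (l - 1) (by omega)
        (by omega), if_neg (by omega), if_neg (by omega), if_pos (by omega)]
    · rw [if_neg e, add_zero, ih (by omega) l hl1 hl2]
      by_cases e2 : 2 * m + 1 ≤ l + r
      · rw [if_pos e2, if_pos (by omega)]
      · rw [if_neg e2, if_neg (by omega)]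

/-! ### the end node -/

theorem valid_Y (hm : 1 ≤ m) (s₁ : K) (hs : s₁ + σ s₁ + 1 = 0) :
    Valid σ (⟨m - 1, by omega⟩ : Fin (2 * m + 1)) ⟨m, by omega⟩ 1 s₁ := by
  refine ⟨?_, ?_, ?_, ?_⟩
  · intro e
    have := congrArg Fin.val e
    simp only at this
    omega
  · intro e
    have := congrArg Fin.val e
    rw [Fin.val_rev] at this
    simp only at this
    omega
  · intro e
    have := congrArg Fin.val e
    rw [Fin.val_rev] at this
    simp only at this
    omega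
  · rw [if_pos, map_one, mul_one]
    · exact hs
    · apply Fin.ext
      rw [Fin.val_rev]
      simp only
      omega

/-- the root element of the end node -/
noncomputable def Yel (hσ : ∀ x, σ (σ x) = x) (hm : 1 ≤ m) (s₁ : K) (hs : s₁ + σ s₁ + 1 = 0) :
    GG (2 * m + 1) σ :=
  xx hσ ⟨m - 1, by omega⟩ ⟨m, by omega⟩ 1 s₁ (valid_Y hm s₁ hs)

theorem Yel_mulVec_ev (hσ : ∀ x, σ (σ x) = x) (hm : 1 ≤ m) (s₁ : K) (hs : s₁ + σ s₁ + 1 = 0)
    (l : ℕ) (hl : l < 2 * m + 1) :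
    mt (Yel hσ hm s₁ hs) *ᵥ (ev l : Fin (2 * m + 1) → K) =
      ev l + (if l = m then ev (m - 1) else 0)
        + (if l = m + 1 then s₁ • ev (m - 1) - ev m else 0) := by
  unfold Yel
  rw [mt_xx, xM_mulVec]
  rw [← ev_eq_single (m - 1) (by omega)]
  have hrev : (Fin.rev (⟨m, by omega⟩ : Fin (2 * m + 1))) = ⟨m, by omega⟩ := by
    apply Fin.ext
    rw [Fin.val_rev]
    simp only
    omega
  rw [hrev, ← ev_eq_single m (by omega)]
  have h1 : (ev l : Fin (2 * m + 1) → K) ⟨m, by omega⟩ = if l = m then 1 else 0 := by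
    rw [ev_apply]
    simp only [eq_comm]
  have h2 : (ev l : Fin (2 * m + 1) → K) (Fin.rev ⟨m - 1, by omega⟩) =
      if l = m + 1 then 1 else 0 := by
    rw [ev_apply, Fin.val_rev]
    simp only
    by_cases e : l = m + 1
    · rw [if_pos e, if_pos (by omega)]
    · rw [if_neg e, if_neg (by omega)]
  rw [h1, h2, map_one, one_mul, one_mul]
  by_cases e1 : l = m
  · rw [if_pos e1, if_pos e1, if_neg (by omega), if_neg (by omega), mul_zero, zero_smul, one_smul,
      zero_smul]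
    abel
  · rw [if_neg e1, if_neg e1, zero_smul]
    by_cases e2 : l = m + 1
    · rw [if_pos e2, if_pos e2, one_smul, mul_one]
      abel
    · rw [if_neg e2, if_neg e2, zero_smul, mul_zero, zero_smul]
      abel

theorem Yel_mem_US (hσ : ∀ x, σ (σ x) = x) (hm : 1 ≤ m) (s₁ : K) (hs : s₁ + σ s₁ + 1 = 0) :
    Yel hσ hm s₁ hs ∈ US (2 * m + 1) σ := by
  unfold Yel
  apply xx_mem_US
  · rw [Fin.lt_def]
    simp only
    omega
  · rw [Fin.lt_def, Fin.val_rev]
    simp only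
    omega

/-! ### the regular unipotent element -/

/-- the regular unipotent element -/
noncomputable def Jel (hσ : ∀ x, σ (σ x) = x) (hm : 1 ≤ m) (s₁ : K) (hs : s₁ + σ s₁ + 1 = 0) :
    GG (2 * m + 1) σ :=
  Yel hσ hm s₁ hs * Lam hσ (m - 1)

theorem Jel_mem_US (hσ : ∀ x, σ (σ x) = x) (hm : 1 ≤ m) (s₁ : K) (hs : s₁ + σ s₁ + 1 = 0) :
    Jel hσ hm s₁ hs ∈ US (2 * m + 1) σ :=
  (US (2 * m + 1) σ).mul_mem (Yel_mem_US hσ hm s₁ hs) (Lam_mem_US hσ (m - 1))

theorem Jel_mulVec_ev_zero (hσ : ∀ x, σ (σ x) = x) (hm : 1 ≤ m) (s₁ : K)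
    (hs : s₁ + σ s₁ + 1 = 0) :
    mt (Jel hσ hm s₁ hs) *ᵥ (ev 0 : Fin (2 * m + 1) → K) = ev 0 := by
  unfold Jel
  rw [mt_mul, ← Matrix.mulVec_mulVec, Lam_mulVec_ev hσ (m - 1) (by omega) 0 (by omega),
    if_neg (by omega), Yel_mulVec_ev hσ hm s₁ hs 0 (by omega), if_neg (by omega), if_neg (by omega),
    add_zero, add_zero]

theorem Jel_mulVec_ev_succ (hσ : ∀ x, σ (σ x) = x) (hm : 1 ≤ m) (s₁ : K)
    (hs : s₁ + σ s₁ + 1 = 0) (k : ℕ) (hk : k + 1 ≤ m) :
    mt (Jel hσ hm s₁ hs) *ᵥ (ev (k + 1) : Fin (2 * m + 1) → K) = ev (k + 1) + ev k := by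
  unfold Jel
  rw [mt_mul, ← Matrix.mulVec_mulVec, Lam_mulVec_ev hσ (m - 1) (by omega) (k + 1) (by omega)]
  by_cases h : k + 1 ≤ m - 1
  · rw [if_pos ⟨by omega, h⟩, Matrix.mulVec_add, Yel_mulVec_ev hσ hm s₁ hs (k + 1) (by omega),
      Yel_mulVec_ev hσ hm s₁ hs (k + 1 - 1) (by omega), if_neg (by omega), if_neg (by omega),
      if_neg (by omega), if_neg (by omega), add_zero, add_zero, add_zero, add_zero]
    rfl
  · rw [if_neg (by omega), Yel_mulVec_ev hσ hm s₁ hs (k + 1) (by omega), if_pos (by omega),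
      if_neg (by omega), add_zero]
    have : m - 1 = k := by omega
    rw [this]

theorem Jel_mulVec_ev_mid (hσ : ∀ x, σ (σ x) = x) (hm : 1 ≤ m) (s₁ : K)
    (hs : s₁ + σ s₁ + 1 = 0) :
    mt (Jel hσ hm s₁ hs) *ᵥ (ev (m + 1) : Fin (2 * m + 1) → K) =
      ev (m + 1) - ev m + s₁ • ev (m - 1) := by
  unfold Jel
  rw [mt_mul, ← Matrix.mulVec_mulVec, Lam_mulVec_ev hσ (m - 1) (by omega) (m + 1) (by omega),
    if_neg (by omega), Yel_mulVec_ev hσ hm s₁ hs (m + 1) (by omega), if_neg (by omega),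
    if_pos rfl, add_zero]
  abel

theorem Jel_inv_mulVec_ev (hσ : ∀ x, σ (σ x) = x) (hm : 1 ≤ m) (s₁ : K)
    (hs : s₁ + σ s₁ + 1 = 0) (l : ℕ) (hl1 : m + 2 ≤ l) (hl2 : l ≤ 2 * m) :
    mt (Jel hσ hm s₁ hs)⁻¹ *ᵥ (ev l : Fin (2 * m + 1) → K) = ev l + ev (l - 1) := by
  unfold Jel
  rw [_root_.mul_inv_rev, mt_mul, ← Matrix.mulVec_mulVec]
  have hY : mt (Yel hσ hm s₁ hs)⁻¹ *ᵥ (ev l : Fin (2 * m + 1) → K) = ev l := by
    apply inv_mulVec_of_fixed
    rw [Yel_mulVec_ev hσ hm s₁ hs l (by omega), if_neg (by omega), if_neg (by omega), add_zero,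
      add_zero]
  rw [hY, Lam_inv_mulVec_ev hσ (m - 1) (by omega) l (by omega) hl2, if_pos (by omega)]

end group

end Cfsg.Agent.Lib.Helper7.RegUn
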