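import Mathlib
import Cfsg.Agent.Lib.Helper7.RegUnC
import Cfsg.Agent.Lib.Helper7.RegUnipC

/-!
# `SU_{2m+1}(q)`: skew Hermitian generators of the Siegel group and the climb (helper7)

`Hc σ a b c = c • (a b̂) - σ c • (b â)`; for a subgroup `H` containing the regular unipotent element
`J` (acting on `e_0, …, e_m` by `e_{k+1} ↦ e_{k+1} + e_k`) and an element `Lt` with
`Lt e_j = e_j + b_j e_{j+1}` for `j ≤ m - 2`: if all `Hc e_i e_j c`, `i, j ≤ 1`, give elements of `H`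
then so do all `Hc a b c` with `a, b` in the span of `e_0, …, e_{m-1}`.
-/

set_option autoImplicit false

namespace Cfsg.Agent.Lib.Helper7.RegUn

open Matrix Cfsg.Agent.H9.SUa Cfsg.Agent.H9.SUc Cfsg.Agent.H9.SLnB Cfsg.Agent.H9.SpB
  Cfsg.Agent.Lib.Helper7.RegUnip

variable {m : ℕ} {K : Type*} [Field K]

local notation "Mn" => Matrix (Fin (2 * m + 1)) (Fin (2 * m + 1)) K
local notation "Vn" => Fin (2 * m + 1) → K

/-! ### the skew Hermitian generators -/

/-- `c • (a b̂) - σ c • (b â)` -/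
def Hc (σ : K →+* K) (a b : Vn) (c : K) : Mn := c • VV σ a b - σ c • VV σ b a

theorem Hc_add_left (σ : K →+* K) (a a' b : Vn) (c : K) :
    Hc σ (a + a') b c = Hc σ a b c + Hc σ a' b c := by
  unfold Hc
  rw [VV_add_left, VV_add_right, smul_add, smul_add]
  abel

theorem Hc_add_right (σ : K →+* K) (a b b' : Vn) (c : K) :
    Hc σ a (b + b') c = Hc σ a b c + Hc σ a b' c := by
  unfold Hc
  rw [VV_add_left, VV_add_right, smul_add, smul_add]
  abel

theorem Hc_smul_left (σ : K →+* K) (t : K) (a b : Vn) (c : K) :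
    Hc σ (t • a) b c = Hc σ a b (c * t) := by
  unfold Hc
  rw [VV_smul_left, VV_smul_right, smul_smul, smul_smul, map_mul]

theorem Hc_smul_right (σ : K →+* K) (hσ : ∀ x, σ (σ x) = x) (t : K) (a b : Vn) (c : K) :
    Hc σ a (t • b) c = Hc σ a b (c * σ t) := by
  unfold Hc
  rw [VV_smul_left, VV_smul_right, smul_smul, smul_smul, map_mul, hσ]

theorem Hc_add_param (σ : K →+* K) (a b : Vn) (c c' : K) :
    Hc σ a b (c + c') = Hc σ a b c + Hc σ a b c' := by
  unfold Hc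
  rw [map_add, add_smul, add_smul]
  abel

theorem Hc_zero_param (σ : K →+* K) (a b : Vn) : Hc σ a b 0 = 0 := by
  unfold Hc
  rw [map_zero, zero_smul, zero_smul, sub_zero]

theorem Hc_neg_param (σ : K →+* K) (a b : Vn) (c : K) : Hc σ a b (-c) = -Hc σ a b c := by
  unfold Hc
  rw [map_neg, neg_smul, neg_smul]
  abel

theorem Hc_sub_param (σ : K →+* K) (a b : Vn) (c c' : K) :
    Hc σ a b (c - c') = Hc σ a b c - Hc σ a b c' := by
  rw [sub_eq_add_neg, Hc_add_param, Hc_neg_param, ← sub_eq_add_neg]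

theorem Hc_zero_left (σ : K →+* K) (b : Vn) (c : K) : Hc σ (0 : Vn) b c = 0 := by
  unfold Hc
  rw [VV_zero_left, VV_zero_right, smul_zero, smul_zero, sub_zero]

theorem Hc_zero_right (σ : K →+* K) (a : Vn) (c : K) : Hc σ a (0 : Vn) c = 0 := by
  unfold Hc
  rw [VV_zero_left, VV_zero_right, smul_zero, smul_zero, sub_zero]

theorem Hc_swap (σ : K →+* K) (hσ : ∀ x, σ (σ x) = x) (a b : Vn) (c : K) :
    Hc σ b a c = Hc σ a b (-σ c) := by
  unfold Hc
  rw [map_neg, hσ, neg_smul, neg_smul]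
  abel

theorem Hc_self (σ : K →+* K) (a : Vn) (c : K) : Hc σ a a c = (c - σ c) • VV σ a a := by
  unfold Hc
  rw [sub_smul]

theorem conj_Hc (σ : K →+* K) (M : Mn) (a b : Vn) (c : K) :
    M * Hc σ a b c * adj σ M = Hc σ (M *ᵥ a) (M *ᵥ b) c := by
  unfold Hc
  rw [Matrix.mul_sub, Matrix.sub_mul, Matrix.mul_smul, Matrix.mul_smul, Matrix.smul_mul,
    Matrix.smul_mul, conj_VV, conj_VV]

theorem ZW_Hc (σ : K →+* K) {a b : Vn} (ha : Wk m a) (hb : Wk m b) (c : K) :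
    ZW m (Hc σ a b c) :=
  ((ZW_VV σ ha hb).smul c).sub ((ZW_VV σ hb ha).smul (σ c))

theorem Hc_sum_left (σ : K →+* K) {ι : Type*} (s : Finset ι) (f : ι → Vn) (b : Vn) (c : K) :
    Hc σ (∑ i ∈ s, f i) b c = ∑ i ∈ s, Hc σ (f i) b c := by
  classical
  induction s using Finset.induction_on with
  | empty => rw [Finset.sum_empty, Finset.sum_empty, Hc_zero_left]
  | insert i s hi ih => rw [Finset.sum_insert hi, Finset.sum_insert hi, Hc_add_left, ih]

theorem Hc_sum_right (σ : K →+* K) {ι : Type*} (s : Finset ι) (a : Vn) (f : ι → Vn) (c : K) :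
    Hc σ a (∑ i ∈ s, f i) c = ∑ i ∈ s, Hc σ a (f i) c := by
  classical
  induction s using Finset.induction_on with
  | empty => rw [Finset.sum_empty, Finset.sum_empty, Hc_zero_right]
  | insert i s hi ih => rw [Finset.sum_insert hi, Finset.sum_insert hi, Hc_add_right, ih]

/-- conjugation by upper triangular matrices preserves the block condition -/
theorem ZW_conj_upper {M M' N : Mn} (hM : IsUpper M) (hM' : IsUpper M') (hN : ZW m N) :
    ZW m (M * N * M') := by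
  intro i j hij
  rw [Matrix.mul_apply]
  apply Finset.sum_eq_zero
  intro l _
  rw [Matrix.mul_apply]
  by_cases hl : j < l
  · rw [hM' l j hl, mul_zero]
  · have hlj : l ≤ j := not_lt.mp hl
    have : ∑ k, M i k * N k l = 0 := by
      apply Finset.sum_eq_zero
      intro k _
      by_cases hk : k < i
      · rw [hM i k hk, zero_mul]
      · have hik : i ≤ k := not_lt.mp hk
        rw [hN k l, mul_zero]
        rcases hij with h | h
        · left
          exact h.trans (Fin.le_def.mp hik)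
        · right
          exact (Fin.le_def.mp hlj).trans h
    rw [this, zero_mul]

section group

variable [Finite K] {σ : K →+* K}

/-- rule R1: conjugation by an upper unitriangular element of `H` -/
theorem Acal_conj_US {H : Subgroup (GG (2 * m + 1) σ)} {g : GG (2 * m + 1) σ} (hg : g ∈ H)
    (hU : g ∈ US (2 * m + 1) σ) {N : Mn} (hN : N ∈ Acal m H) :
    mt g * N * adj σ (mt g) ∈ Acal m H := by
  apply Acal_conj hg hN
  have h1 : IsUpper (mt g) := (mem_US.mp hU).isUpper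
  have h2 : IsUpper (adj σ (mt g)) := by
    rw [← mt_inv]
    exact (mem_US.mp ((US (2 * m + 1) σ).inv_mem hU)).isUpper
  exact ZW_conj_upper h1 h2 hN.1

/-- the hypotheses of the climb -/
structure Climb (H : Subgroup (GG (2 * m + 1) σ)) (J Lt : GG (2 * m + 1) σ) (b : ℕ → K) :
    Prop where
  hσ : ∀ x, σ (σ x) = x
  hm : 2 ≤ m
  hb : ∀ j, b j ≠ 0
  hJ : J ∈ H
  hJU : J ∈ US (2 * m + 1) σ
  hJ0 : mt J *ᵥ (ev 0 : Vn) = ev 0
  hJs : ∀ k, k + 1 ≤ m → mt J *ᵥ (ev (k + 1) : Vn) = ev (k + 1) + ev k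
  hL : Lt ∈ H
  hLs : ∀ j, j + 2 ≤ m → mt Lt *ᵥ (ev j : Vn) = ev j + b j • ev (j + 1)

/-- all generators with indices `≤ k` lie in `Acal` -/
def Known (σ : K →+* K) (H : Subgroup (GG (2 * m + 1) σ)) (k : ℕ) : Prop :=
  ∀ i j, i ≤ k → j ≤ k → ∀ c : K, Hc σ (ev i : Vn) (ev j) c ∈ Acal m H

/-- the difference operator `N ↦ g N g⁻¹ - N` -/
def DJ (g : GG (2 * m + 1) σ) (N : Mn) : Mn := mt g * N * adj σ (mt g) - N

theorem DJ_add (g : GG (2 * m + 1) σ) (N N' : Mn) : DJ g (N + N') = DJ g N + DJ g N' := by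
  unfold DJ
  rw [Matrix.mul_add, Matrix.add_mul]
  abel

theorem DJ_sub (g : GG (2 * m + 1) σ) (N N' : Mn) : DJ g (N - N') = DJ g N - DJ g N' := by
  unfold DJ
  rw [Matrix.mul_sub, Matrix.sub_mul]
  abel

theorem DJ_smul (g : GG (2 * m + 1) σ) (c : K) (N : Mn) : DJ g (c • N) = c • DJ g N := by
  unfold DJ
  rw [Matrix.mul_smul, Matrix.smul_mul, smul_sub]

theorem DJ_Hc (g : GG (2 * m + 1) σ) (a b' : Vn) (c : K) :
    DJ g (Hc σ a b' c) = Hc σ (mt g *ᵥ a) (mt g *ᵥ b') c - Hc σ a b' c := by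
  unfold DJ
  rw [conj_Hc]

theorem DJ_VV (g : GG (2 * m + 1) σ) (a b' : Vn) :
    DJ g (VV σ a b') = VV σ (mt g *ᵥ a) (mt g *ᵥ b') - VV σ a b' := by
  unfold DJ
  rw [conj_VV]

variable {H : Subgroup (GG (2 * m + 1) σ)} {J Lt : GG (2 * m + 1) σ} {b : ℕ → K}

theorem DJ_mem {g : GG (2 * m + 1) σ} (hg : g ∈ H) (hU : g ∈ US (2 * m + 1) σ) {N : Mn}
    (hN : N ∈ Acal m H) : DJ g N ∈ Acal m H :=
  (Acal m H).sub_mem (Acal_conj_US hg hU hN) hN

theorem Climb.D_mem (h : Climb H J Lt b) {N : Mn} (hN : N ∈ Acal m H) : DJ J N ∈ Acal m H :=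
  DJ_mem h.hJ h.hJU hN

theorem Climb.D_succ_succ (h : Climb H J Lt b) (i j : ℕ) (hi : i + 1 ≤ m) (hj : j + 1 ≤ m) (c : K) :
    DJ J (Hc σ (ev (i + 1) : Vn) (ev (j + 1)) c) =
      Hc σ (ev i : Vn) (ev (j + 1)) c + Hc σ (ev (i + 1) : Vn) (ev j) c
        + Hc σ (ev i : Vn) (ev j) c := by
  rw [DJ_Hc, h.hJs i hi, h.hJs j hj, Hc_add_left, Hc_add_right, Hc_add_right]
  abel

theorem Climb.D_zero_succ (h : Climb H J Lt b) (j : ℕ) (hj : j + 1 ≤ m) (c : K) :
    DJ J (Hc σ (ev 0 : Vn) (ev (j + 1)) c) = Hc σ (ev 0 : Vn) (ev j) c := by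
  rw [DJ_Hc, h.hJ0, h.hJs j hj, Hc_add_right]
  abel

theorem Climb.D_succ_zero (h : Climb H J Lt b) (i : ℕ) (hi : i + 1 ≤ m) (c : K) :
    DJ J (Hc σ (ev (i + 1) : Vn) (ev 0) c) = Hc σ (ev i : Vn) (ev 0) c := by
  rw [DJ_Hc, h.hJ0, h.hJs i hi, Hc_add_left]
  abel

theorem Climb.D_zero_zero (h : Climb H J Lt b) (c : K) :
    DJ J (Hc σ (ev 0 : Vn) (ev 0) c) = 0 := by
  rw [DJ_Hc, h.hJ0, sub_self]

/-- rule R3 on generators -/
theorem Climb.R3 (h : Climb H J Lt b) (i j : ℕ) (hi : i + 2 ≤ m) (hj : j + 2 ≤ m) (c : K)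
    (hN : Hc σ (ev i : Vn) (ev j) c ∈ Acal m H) :
    Hc σ (ev i : Vn) (ev (j + 1)) (c * σ (b j))
      + Hc σ (ev (i + 1) : Vn) (ev j) (c * b i)
      + Hc σ (ev (i + 1) : Vn) (ev (j + 1)) (c * b i * σ (b j)) ∈ Acal m H := by
  have h1 := Acal_conj h.hL hN (by
    rw [conj_Hc, h.hLs i hi, h.hLs j hj]
    exact ZW_Hc σ ((Wk_ev (by omega)).add ((Wk_ev (by omega)).smul _))
      ((Wk_ev (by omega)).add ((Wk_ev (by omega)).smul _)) c)
  have h2 := (Acal m H).sub_mem h1 hN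
  rw [conj_Hc, h.hLs i hi, h.hLs j hj, Hc_add_left, Hc_add_right, Hc_add_right, Hc_smul_left,
    Hc_smul_left, Hc_smul_right σ h.hσ, Hc_smul_right σ h.hσ] at h2
  have e : Hc σ (ev i : Vn) (ev j) c + Hc σ (ev i) (ev (j + 1)) (c * σ (b j))
      + (Hc σ (ev (i + 1)) (ev j) (c * b i) + Hc σ (ev (i + 1)) (ev (j + 1)) (c * b i * σ (b j)))
      - Hc σ (ev i : Vn) (ev j) c
      = Hc σ (ev i : Vn) (ev (j + 1)) (c * σ (b j))
      + Hc σ (ev (i + 1) : Vn) (ev j) (c * b i)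
      + Hc σ (ev (i + 1) : Vn) (ev (j + 1)) (c * b i * σ (b j)) := by
    abel
  rwa [e] at h2

end group

end Cfsg.Agent.Lib.Helper7.RegUn
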