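import Mathlib
import Cfsg.Agent.Lib.Helper7.RegUnD

/-!
# `SU_{2m+1}(q)`: the climb (helper7)

From `Known 1` to `Known (m - 1)` and then to all `Hc a b c` with `a, b` in the span of
`e_0, …, e_{m-1}`.
-/

set_option autoImplicit false

namespace Cfsg.Agent.Lib.Helper7.RegUn

open Matrix Cfsg.Agent.H9.SUa Cfsg.Agent.H9.SUc Cfsg.Agent.H9.SLnB Cfsg.Agent.H9.SpB
  Cfsg.Agent.Lib.Helper7.RegUnip

variable {m : ℕ} {K : Type*} [Field K] [Finite K] {σ : K →+* K}

local notation "Mn" => Matrix (Fin (2 * m + 1)) (Fin (2 * m + 1)) K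
local notation "Vn" => Fin (2 * m + 1) → K

variable {H : Subgroup (GG (2 * m + 1) σ)} {J Lt : GG (2 * m + 1) σ} {b : ℕ → K}

/-- rescaling of the parameter -/
theorem Hc_all_of_mul {a a' : Vn} {t : K} (ht : t ≠ 0)
    (h : ∀ c : K, Hc σ a a' (c * t) ∈ Acal m H) (c : K) : Hc σ a a' c ∈ Acal m H := by
  have := h (c / t)
  rwa [div_mul_cancel₀ c ht] at this

/-- the mixed sums -/
theorem Climb.X_mem (h : Climb H J Lt b) (k : ℕ) (hk : k + 2 ≤ m) (hK : Known σ H k) (i : ℕ)
    (hi : i < k) (c : K) :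
    Hc σ (ev i : Vn) (ev (k + 1)) (c * σ (b k))
      + Hc σ (ev (i + 1) : Vn) (ev (k + 1)) (c * b i * σ (b k)) ∈ Acal m H := by
  have h1 := h.R3 i k (by omega) hk c (hK i k hi.le le_rfl c)
  have h2 := hK (i + 1) k (by omega) le_rfl (c * b i)
  have h3 := (Acal m H).sub_mem h1 h2
  have e : Hc σ (ev i : Vn) (ev (k + 1)) (c * σ (b k)) + Hc σ (ev (i + 1) : Vn) (ev k) (c * b i)
      + Hc σ (ev (i + 1) : Vn) (ev (k + 1)) (c * b i * σ (b k))
      - Hc σ (ev (i + 1) : Vn) (ev k) (c * b i)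
      = Hc σ (ev i : Vn) (ev (k + 1)) (c * σ (b k))
      + Hc σ (ev (i + 1) : Vn) (ev (k + 1)) (c * b i * σ (b k)) := by abel
  rwa [e] at h3

theorem Climb.col_mem (h : Climb H J Lt b) (k : ℕ) (hk1 : 1 ≤ k) (hk : k + 2 ≤ m)
    (hK : Known σ H k) (i : ℕ) (hi : i ≤ k) (c : K) :
    Hc σ (ev i : Vn) (ev (k + 1)) c ∈ Acal m H := by
  have hbk : σ (b k) ≠ 0 := fun h0 => h.hb k (by
    have := congrArg σ h0
    rwa [h.hσ, map_zero] at this)
  induction i generalizing c with
  | zero =>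
    have hx : ∀ c : K, Hc σ (ev 0 : Vn) (ev (k + 1)) (c * (b 0 * σ (b k))) ∈ Acal m H := by
      intro c
      have h1 := h.D_mem (h.X_mem k hk hK 0 (by omega) c)
      rw [DJ_add, h.D_zero_succ k (by omega), zero_add, h.D_succ_succ 0 k (by omega) (by omega)]
        at h1
      have h2 := hK 0 k (by omega) le_rfl (c * σ (b k))
      have h3 := hK 1 k hk1 le_rfl (c * b 0 * σ (b k))
      have h4 := hK 0 k (by omega) le_rfl (c * b 0 * σ (b k))
      have h5 := (Acal m H).sub_mem ((Acal m H).sub_mem ((Acal m H).sub_mem h1 h2) h3) h4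
      have e : Hc σ (ev 0 : Vn) (ev k) (c * σ (b k))
          + (Hc σ (ev 0 : Vn) (ev (k + 1)) (c * b 0 * σ (b k))
            + Hc σ (ev (0 + 1) : Vn) (ev k) (c * b 0 * σ (b k))
            + Hc σ (ev 0 : Vn) (ev k) (c * b 0 * σ (b k)))
          - Hc σ (ev 0 : Vn) (ev k) (c * σ (b k))
          - Hc σ (ev 1 : Vn) (ev k) (c * b 0 * σ (b k))
          - Hc σ (ev 0 : Vn) (ev k) (c * b 0 * σ (b k))
          = Hc σ (ev 0 : Vn) (ev (k + 1)) (c * b 0 * σ (b k)) := by
        rw [zero_add]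
        abel
      rw [e] at h5
      rwa [mul_assoc] at h5
    exact Hc_all_of_mul (mul_ne_zero (h.hb 0) hbk) hx c
  | succ i ih =>
    have hx : ∀ c : K, Hc σ (ev (i + 1) : Vn) (ev (k + 1)) (c * (b i * σ (b k))) ∈ Acal m H := by
      intro c
      have h1 := h.X_mem k hk hK i (by omega) c
      have h2 := ih (by omega) (c * σ (b k))
      have h3 := (Acal m H).sub_mem h1 h2
      rw [add_sub_cancel_left] at h3
      rwa [mul_assoc] at h3
    exact Hc_all_of_mul (mul_ne_zero (h.hb i) hbk) hx c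

theorem Climb.diag_mem (h : Climb H J Lt b) (k : ℕ) (hk1 : 1 ≤ k) (hk : k + 2 ≤ m)
    (hK : Known σ H k) (c : K) :
    Hc σ (ev (k + 1) : Vn) (ev (k + 1)) c ∈ Acal m H := by
  have hbk : σ (b k) ≠ 0 := fun h0 => h.hb k (by
    have := congrArg σ h0
    rwa [h.hσ, map_zero] at this)
  have hx : ∀ c : K, Hc σ (ev (k + 1) : Vn) (ev (k + 1)) (c * (b k * σ (b k))) ∈ Acal m H := by
    intro c
    have h1 := h.R3 k k hk hk c (hK k k le_rfl le_rfl c)
    have h2 := h.col_mem k hk1 hk hK k le_rfl (c * σ (b k))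
    have h3 := h.col_mem k hk1 hk hK k le_rfl (-σ (c * b k))
    rw [← Hc_swap σ h.hσ] at h3
    have h4 := (Acal m H).sub_mem ((Acal m H).sub_mem h1 h2) h3
    have e : Hc σ (ev k : Vn) (ev (k + 1)) (c * σ (b k))
        + Hc σ (ev (k + 1) : Vn) (ev k) (c * b k)
        + Hc σ (ev (k + 1) : Vn) (ev (k + 1)) (c * b k * σ (b k))
        - Hc σ (ev k : Vn) (ev (k + 1)) (c * σ (b k))
        - Hc σ (ev (k + 1) : Vn) (ev k) (c * b k)
        = Hc σ (ev (k + 1) : Vn) (ev (k + 1)) (c * b k * σ (b k)) := by abel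
    rw [e] at h4
    rwa [mul_assoc] at h4
  exact Hc_all_of_mul (mul_ne_zero (h.hb k) hbk) hx c

/-- one step of the climb -/
theorem Climb.step (h : Climb H J Lt b) (k : ℕ) (hk1 : 1 ≤ k) (hk : k + 2 ≤ m)
    (hK : Known σ H k) : Known σ H (k + 1) := by
  intro i j hi hj c
  rcases Nat.lt_or_ge i (k + 1) with hi' | hi'
  · rcases Nat.lt_or_ge j (k + 1) with hj' | hj'
    · exact hK i j (by omega) (by omega) c
    · have hj2 : j = k + 1 := by omega
      subst hj2
      exact h.col_mem k hk1 hk hK i (by omega) c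
  · have hi2 : i = k + 1 := by omega
    subst hi2
    rcases Nat.lt_or_ge j (k + 1) with hj' | hj'
    · rw [Hc_swap σ h.hσ]
      exact h.col_mem k hk1 hk hK j (by omega) _
    · have hj2 : j = k + 1 := by omega
      subst hj2
      exact h.diag_mem k hk1 hk hK c

theorem Climb.known (h : Climb H J Lt b) (hK : Known σ H 1) (k : ℕ) (hk1 : 1 ≤ k)
    (hk : k + 1 ≤ m) : Known σ H k := by
  induction k with
  | zero => omega
  | succ k ih =>
    rcases Nat.eq_zero_or_pos k with h0 | h0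
    · subst h0
      exact hK
    · exact h.step k h0 (by omega) (ih h0 (by omega))

/-- everything in the block: all `Hc a b c` with `a, b` in the span of `e_0, …, e_{m-1}` -/
theorem Climb.all (h : Climb H J Lt b) (hK : Known σ H 1) {a a' : Vn} (ha : Wk m a)
    (ha' : Wk m a') (c : K) : Hc σ a a' c ∈ Acal m H := by
  have hm := h.hm
  have hKm : Known σ H (m - 1) := h.known hK (m - 1) (by omega) (by omega)
  rw [sum_smul_ev a, Hc_sum_left]
  apply (Acal m H).sum_mem
  intro i _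
  rw [sum_smul_ev a', Hc_sum_right]
  apply (Acal m H).sum_mem
  intro j _
  rw [Hc_smul_left, Hc_smul_right σ h.hσ]
  by_cases hi : i.val < m
  · by_cases hj : j.val < m
    · exact hKm i.val j.val (by omega) (by omega) _
    · rw [ha' j (by omega), map_zero, mul_zero, Hc_zero_param]
      exact (Acal m H).zero_mem
  · rw [ha i (by omega), mul_zero, zero_mul, Hc_zero_param]
    exact (Acal m H).zero_mem

end Cfsg.Agent.Lib.Helper7.RegUn
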