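import Mathlib
import Cfsg.Agent.Lib.Helper7.RegUnE

/-!
# `SU_{2m+1}(q)`: tools for the base of the climb (helper7)

The rule `∂` (conjugation by `Lt` on generators supported on `e_0, …, e_{m-2}`), and the field
bookkeeping lemmas (`spread`, `decomp`, …).
-/

set_option autoImplicit false

namespace Cfsg.Agent.Lib.Helper7.RegUn

open Matrix Cfsg.Agent.H9.SUa Cfsg.Agent.H9.SUc Cfsg.Agent.H9.SLnB Cfsg.Agent.H9.SpB
  Cfsg.Agent.Lib.Helper7.RegUnip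

variable {m : ℕ} {K : Type*} [Field K] [Finite K] {σ : K →+* K}

local notation "Mn" => Matrix (Fin (2 * m + 1)) (Fin (2 * m + 1)) K
local notation "Vn" => Fin (2 * m + 1) → K

variable {H : Subgroup (GG (2 * m + 1) σ)} {J Lt : GG (2 * m + 1) σ} {b : ℕ → K}

/-! ### the rule `∂` -/

theorem Climb.ZW_L (h : Climb H J Lt b) (i j : ℕ) (hi : i + 2 ≤ m) (hj : j + 2 ≤ m) (c : K) :
    ZW m (mt Lt * Hc σ (ev i : Vn) (ev j) c * adj σ (mt Lt)) := by
  rw [conj_Hc, h.hLs i hi, h.hLs j hj]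
  exact ZW_Hc σ ((Wk_ev (by omega)).add ((Wk_ev (by omega)).smul _))
    ((Wk_ev (by omega)).add ((Wk_ev (by omega)).smul _)) c

theorem Climb.DL_Hc (h : Climb H J Lt b) (i j : ℕ) (hi : i + 2 ≤ m) (hj : j + 2 ≤ m) (c : K) :
    DJ Lt (Hc σ (ev i : Vn) (ev j) c) =
      Hc σ (ev i : Vn) (ev (j + 1)) (c * σ (b j))
      + Hc σ (ev (i + 1) : Vn) (ev j) (c * b i)
      + Hc σ (ev (i + 1) : Vn) (ev (j + 1)) (c * b i * σ (b j)) := by
  rw [DJ_Hc, h.hLs i hi, h.hLs j hj, Hc_add_left, Hc_add_right, Hc_add_right, Hc_smul_left,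
    Hc_smul_left, Hc_smul_right σ h.hσ, Hc_smul_right σ h.hσ]
  abel

theorem Climb.DL_mem (h : Climb H J Lt b) {N : Mn} (hN : N ∈ Acal m H)
    (hZ : ZW m (mt Lt * N * adj σ (mt Lt))) : DJ Lt N ∈ Acal m H :=
  (Acal m H).sub_mem (Acal_conj h.hL hN hZ) hN

theorem ZW_conj_add {M M' N N' : Mn} (h1 : ZW m (M * N * M')) (h2 : ZW m (M * N' * M')) :
    ZW m (M * (N + N') * M') := by
  rw [Matrix.mul_add, Matrix.add_mul]
  exact h1.add h2

/-! ### parameters -/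

omit [Finite K] in
theorem Hc_self_congr (σ : K →+* K) (a : Vn) {c c' : K} (h : c - σ c = c' - σ c') :
    Hc σ a a c = Hc σ a a c' := by
  rw [Hc_self, Hc_self, h]

omit [Finite K] in
theorem Hc_add_swap (σ : K →+* K) (hσ : ∀ x, σ (σ x) = x) (a a' : Vn) (c : K) :
    Hc σ a a' c + Hc σ a' a c = Hc σ a a' (c - σ c) := by
  rw [Hc_swap σ hσ a a' c, ← Hc_add_param, sub_eq_add_neg]

omit [Finite K] in
theorem Hc_add_swap' (σ : K →+* K) (hσ : ∀ x, σ (σ x) = x) (a a' : Vn) (c c' : K) :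
    Hc σ a a' c + Hc σ a' a c' = Hc σ a a' (c - σ c') := by
  rw [Hc_swap σ hσ a a' c', ← Hc_add_param, sub_eq_add_neg]

/-- spreading a seed along the powers of a generator of the fixed field -/
theorem spread (hσ : ∀ x, σ (σ x) = x) {a : Vn} {ν c₀ : K}
    (hgen : ∀ f : K, σ f = f → f ≠ 0 → ∃ k : ℕ, f = ν ^ k) (hc₀ : c₀ - σ c₀ ≠ 0)
    (h0 : Hc σ a a c₀ ∈ Acal m H)
    (hstep : ∀ c, Hc σ a a c ∈ Acal m H → Hc σ a a (c * ν) ∈ Acal m H) (c : K) :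
    Hc σ a a c ∈ Acal m H := by
  have hpow : ∀ k : ℕ, Hc σ a a (c₀ * ν ^ k) ∈ Acal m H := by
    intro k
    induction k with
    | zero => rwa [pow_zero, mul_one]
    | succ k ih =>
      have := hstep _ ih
      rwa [mul_assoc, ← pow_succ] at this
  have hs0 : σ (c₀ - σ c₀) = -(c₀ - σ c₀) := by
    rw [map_sub, hσ]
    ring
  have hs : σ (c - σ c) = -(c - σ c) := by
    rw [map_sub, hσ]
    ring
  obtain ⟨f, hf⟩ : ∃ f : K, f = (c - σ c) / (c₀ - σ c₀) := ⟨_, rfl⟩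
  have hff : σ f = f := by
    rw [hf, map_div₀, hs, hs0, neg_div_neg_eq]
  have hfc : c - σ c = f * (c₀ - σ c₀) := by
    rw [hf, div_mul_cancel₀ _ hc₀]
  by_cases hf0 : f = 0
  · rw [Hc_self, hfc, hf0, zero_mul, zero_smul]
    exact (Acal m H).zero_mem
  · obtain ⟨k, hk⟩ := hgen f hff hf0
    have e : Hc σ a a c = Hc σ a a (c₀ * ν ^ k) := by
      apply Hc_self_congr
      rw [hfc, ← hk, map_mul, hff]
      ring
    rw [e]
    exact hpow k

omit [Finite K] in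
/-- decomposition `K = K⁻ ⊕ Fix(σ) ρ` for `ρ` of nonzero trace -/
theorem decomp (hσ : ∀ x, σ (σ x) = x) {ρ : K} (hρ : ρ + σ ρ ≠ 0) (γ : K) :
    ∃ s f : K, σ s = -s ∧ σ f = f ∧ γ = s + f * ρ := by
  obtain ⟨f, hf⟩ : ∃ f : K, f = (γ + σ γ) / (ρ + σ ρ) := ⟨_, rfl⟩
  have h1 : σ (γ + σ γ) = γ + σ γ := by
    rw [map_add, hσ, add_comm]
  have h2 : σ (ρ + σ ρ) = ρ + σ ρ := by
    rw [map_add, hσ, add_comm]
  have hff : σ f = f := by
    rw [hf, map_div₀, h1, h2]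
  have hfr : f * (ρ + σ ρ) = γ + σ γ := by
    rw [hf, div_mul_cancel₀ _ hρ]
  refine ⟨γ - f * ρ, f, ?_, hff, by ring⟩
  rw [map_sub, map_mul, hff]
  linear_combination -hfr

omit [Finite K] in
/-- every element of `K⁻` is `t (c - σ c)` for a fixed `t ≠ 0` in the fixed field -/
theorem exists_sub_eq (hσ : ∀ x, σ (σ x) = x) (hx0 : ∃ x, σ x ≠ x) {t : K} (ht : t ≠ 0)
    (htt : σ t = t) {s : K} (hs : σ s = -s) : ∃ c : K, t * (c - σ c) = s := by
  obtain ⟨θ, hθ⟩ := Cfsg.Agent.H9.SUd.exists_theta hσ hx0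
  refine ⟨θ * s / t, ?_⟩
  rw [map_div₀, map_mul, hs, htt]
  field_simp
  linear_combination s * hθ

omit [Finite K] in
theorem sigma_ne_zero (hσ : ∀ x, σ (σ x) = x) {x : K} (hx : x ≠ 0) : σ x ≠ 0 := fun h0 => hx (by
  have := congrArg σ h0
  rwa [hσ, map_zero] at this)

omit [Finite K] in
theorem sigma_norm (hσ : ∀ x, σ (σ x) = x) (x : K) : σ (x * σ x) = x * σ x := by
  rw [map_mul, hσ, mul_comm]

end Cfsg.Agent.Lib.Helper7.RegUn
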