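import Mathlib
import Cfsg.Agent.Lib.Helper7.RegUnF

/-!
# `SU_{2m+1}(q)`, `m ≥ 3`: the base of the climb (helper7)

`Known 1` from a seed `Hc e_0 e_0 c₀`, by two closure loops (`D²∂` and `D³∂D∂`).
-/

set_option autoImplicit false

namespace Cfsg.Agent.Lib.Helper7.RegUn

open Matrix Cfsg.Agent.H9.SUa Cfsg.Agent.H9.SUc Cfsg.Agent.H9.SLnB Cfsg.Agent.H9.SpB
  Cfsg.Agent.Lib.Helper7.RegUnip

variable {m : ℕ} {K : Type*} [Field K] [Finite K] {σ : K →+* K}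

local notation "Mn" => Matrix (Fin (2 * m + 1)) (Fin (2 * m + 1)) K
local notation "Vn" => Fin (2 * m + 1) → K

variable {H : Subgroup (GG (2 * m + 1) σ)} {J Lt : GG (2 * m + 1) σ} {b : ℕ → K}

theorem DJ_zero (g : GG (2 * m + 1) σ) : DJ g (0 : Mn) = 0 := by
  unfold DJ
  rw [Matrix.mul_zero, Matrix.zero_mul, sub_zero]

/-! ### the small rules -/

theorem Climb.D00 (h : Climb H J Lt b) (c : K) :
    DJ J (Hc σ (ev 0 : Vn) (ev 0) c) = 0 := h.D_zero_zero c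

theorem Climb.D01 (h : Climb H J Lt b) (c : K) :
    DJ J (Hc σ (ev 0 : Vn) (ev 1) c) = Hc σ (ev 0 : Vn) (ev 0) c :=
  h.D_zero_succ 0 (by have := h.hm; omega) c

theorem Climb.D10 (h : Climb H J Lt b) (c : K) :
    DJ J (Hc σ (ev 1 : Vn) (ev 0) c) = Hc σ (ev 0 : Vn) (ev 0) c :=
  h.D_succ_zero 0 (by have := h.hm; omega) c

theorem Climb.D11 (h : Climb H J Lt b) (c : K) :
    DJ J (Hc σ (ev 1 : Vn) (ev 1) c) =
      Hc σ (ev 0 : Vn) (ev 1) c + Hc σ (ev 1 : Vn) (ev 0) c + Hc σ (ev 0 : Vn) (ev 0) c :=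
  h.D_succ_succ 0 0 (by have := h.hm; omega) (by have := h.hm; omega) c

theorem Climb.D02 (h : Climb H J Lt b) (c : K) :
    DJ J (Hc σ (ev 0 : Vn) (ev 2) c) = Hc σ (ev 0 : Vn) (ev 1) c :=
  h.D_zero_succ 1 (by have := h.hm; omega) c

theorem Climb.D20 (h : Climb H J Lt b) (c : K) :
    DJ J (Hc σ (ev 2 : Vn) (ev 0) c) = Hc σ (ev 1 : Vn) (ev 0) c :=
  h.D_succ_zero 1 (by have := h.hm; omega) c

theorem Climb.D12 (h : Climb H J Lt b) (c : K) :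
    DJ J (Hc σ (ev 1 : Vn) (ev 2) c) =
      Hc σ (ev 0 : Vn) (ev 2) c + Hc σ (ev 1 : Vn) (ev 1) c + Hc σ (ev 0 : Vn) (ev 1) c :=
  h.D_succ_succ 0 1 (by have := h.hm; omega) (by have := h.hm; omega) c

theorem Climb.D21 (h : Climb H J Lt b) (c : K) :
    DJ J (Hc σ (ev 2 : Vn) (ev 1) c) =
      Hc σ (ev 1 : Vn) (ev 1) c + Hc σ (ev 2 : Vn) (ev 0) c + Hc σ (ev 1 : Vn) (ev 0) c :=
  h.D_succ_succ 1 0 (by have := h.hm; omega) (by have := h.hm; omega) c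

theorem Climb.L00 (h : Climb H J Lt b) (c : K) :
    DJ Lt (Hc σ (ev 0 : Vn) (ev 0) c) =
      Hc σ (ev 0 : Vn) (ev 1) (c * σ (b 0)) + Hc σ (ev 1 : Vn) (ev 0) (c * b 0)
        + Hc σ (ev 1 : Vn) (ev 1) (c * b 0 * σ (b 0)) :=
  h.DL_Hc 0 0 (by have := h.hm; omega) (by have := h.hm; omega) c

theorem Climb.L01 (h : Climb H J Lt b) (hm3 : 3 ≤ m) (c : K) :
    DJ Lt (Hc σ (ev 0 : Vn) (ev 1) c) =
      Hc σ (ev 0 : Vn) (ev 2) (c * σ (b 1)) + Hc σ (ev 1 : Vn) (ev 1) (c * b 0)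
        + Hc σ (ev 1 : Vn) (ev 2) (c * b 0 * σ (b 1)) :=
  h.DL_Hc 0 1 (by omega) (by omega) c

theorem Climb.L10 (h : Climb H J Lt b) (hm3 : 3 ≤ m) (c : K) :
    DJ Lt (Hc σ (ev 1 : Vn) (ev 0) c) =
      Hc σ (ev 1 : Vn) (ev 1) (c * σ (b 0)) + Hc σ (ev 2 : Vn) (ev 0) (c * b 1)
        + Hc σ (ev 2 : Vn) (ev 1) (c * b 1 * σ (b 0)) :=
  h.DL_Hc 1 0 (by omega) (by omega) c

/-! ### third differences -/

theorem Climb.K3_00 (h : Climb H J Lt b) (c : K) :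
    DJ J (DJ J (DJ J (Hc σ (ev 0 : Vn) (ev 0) c))) = 0 := by
  rw [h.D00, DJ_zero, DJ_zero]

theorem Climb.K3_01 (h : Climb H J Lt b) (c : K) :
    DJ J (DJ J (DJ J (Hc σ (ev 0 : Vn) (ev 1) c))) = 0 := by
  rw [h.D01, h.D00, DJ_zero]

theorem Climb.K3_10 (h : Climb H J Lt b) (c : K) :
    DJ J (DJ J (DJ J (Hc σ (ev 1 : Vn) (ev 0) c))) = 0 := by
  rw [h.D10, h.D00, DJ_zero]

theorem Climb.K3_11 (h : Climb H J Lt b) (c : K) :
    DJ J (DJ J (DJ J (Hc σ (ev 1 : Vn) (ev 1) c))) = 0 := by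
  simp only [h.D11, DJ_add, h.D01, h.D10, h.D00, add_zero]

theorem Climb.K3_02 (h : Climb H J Lt b) (c : K) :
    DJ J (DJ J (DJ J (Hc σ (ev 0 : Vn) (ev 2) c))) = 0 := by
  rw [h.D02, h.D01, h.D00]

theorem Climb.K3_20 (h : Climb H J Lt b) (c : K) :
    DJ J (DJ J (DJ J (Hc σ (ev 2 : Vn) (ev 0) c))) = 0 := by
  rw [h.D20, h.D10, h.D00]

theorem Climb.K3_12 (h : Climb H J Lt b) (c : K) :
    DJ J (DJ J (DJ J (Hc σ (ev 1 : Vn) (ev 2) c))) =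
      Hc σ (ev 0 : Vn) (ev 0) c + Hc σ (ev 0 : Vn) (ev 0) c + Hc σ (ev 0 : Vn) (ev 0) c := by
  simp only [h.D12, DJ_add, h.D02, h.D11, h.D01, h.D10, h.D00, add_zero]
  abel

theorem Climb.K3_21 (h : Climb H J Lt b) (c : K) :
    DJ J (DJ J (DJ J (Hc σ (ev 2 : Vn) (ev 1) c))) =
      Hc σ (ev 0 : Vn) (ev 0) c + Hc σ (ev 0 : Vn) (ev 0) c + Hc σ (ev 0 : Vn) (ev 0) c := by
  simp only [h.D21, DJ_add, h.D20, h.D11, h.D01, h.D10, h.D00, add_zero]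

/-- `D³ ∂` on the three kinds of generators -/
theorem Climb.Q00 (h : Climb H J Lt b) (c : K) :
    DJ J (DJ J (DJ J (DJ Lt (Hc σ (ev 0 : Vn) (ev 0) c)))) = 0 := by
  rw [h.L00]
  simp only [DJ_add, h.K3_01, h.K3_10, h.K3_11, add_zero]

theorem Climb.Q01 (h : Climb H J Lt b) (hm3 : 3 ≤ m) (c : K) :
    DJ J (DJ J (DJ J (DJ Lt (Hc σ (ev 0 : Vn) (ev 1) c)))) =
      Hc σ (ev 0 : Vn) (ev 0) (c * b 0 * σ (b 1)) + Hc σ (ev 0 : Vn) (ev 0) (c * b 0 * σ (b 1))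
        + Hc σ (ev 0 : Vn) (ev 0) (c * b 0 * σ (b 1)) := by
  rw [h.L01 hm3]
  simp only [DJ_add, h.K3_02, h.K3_11, h.K3_12, zero_add]

theorem Climb.Q10 (h : Climb H J Lt b) (hm3 : 3 ≤ m) (c : K) :
    DJ J (DJ J (DJ J (DJ Lt (Hc σ (ev 1 : Vn) (ev 0) c)))) =
      Hc σ (ev 0 : Vn) (ev 0) (c * b 1 * σ (b 0)) + Hc σ (ev 0 : Vn) (ev 0) (c * b 1 * σ (b 0))
        + Hc σ (ev 0 : Vn) (ev 0) (c * b 1 * σ (b 0)) := by
  rw [h.L10 hm3]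
  simp only [DJ_add, h.K3_11, h.K3_20, h.K3_21, zero_add]

/-! ### the base for `m ≥ 3` -/

/-- `D ∂` of a diagonal generator -/
theorem Climb.N2_eq (h : Climb H J Lt b) (c : K) :
    DJ J (DJ Lt (Hc σ (ev 0 : Vn) (ev 0) c)) =
      Hc σ (ev 0 : Vn) (ev 0) (c * σ (b 0)) + Hc σ (ev 0 : Vn) (ev 0) (c * b 0)
        + (Hc σ (ev 0 : Vn) (ev 1) (c * b 0 * σ (b 0)) + Hc σ (ev 1 : Vn) (ev 0) (c * b 0 * σ (b 0))
          + Hc σ (ev 0 : Vn) (ev 0) (c * b 0 * σ (b 0))) := by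
  rw [h.L00]
  simp only [DJ_add, h.D01, h.D10, h.D11]

theorem Climb.N1_mem (h : Climb H J Lt b) {c : K} (hc : Hc σ (ev 0 : Vn) (ev 0) c ∈ Acal m H) :
    DJ Lt (Hc σ (ev 0 : Vn) (ev 0) c) ∈ Acal m H :=
  h.DL_mem hc (h.ZW_L 0 0 (by have := h.hm; omega) (by have := h.hm; omega) c)

/-- the short loop -/
theorem Climb.short_loop (h : Climb H J Lt b) {c : K} (hc : Hc σ (ev 0 : Vn) (ev 0) c ∈ Acal m H) :
    Hc σ (ev 0 : Vn) (ev 0) (c * b 0 * σ (b 0)) + Hc σ (ev 0 : Vn) (ev 0) (c * b 0 * σ (b 0))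
      ∈ Acal m H := by
  have h1 := h.D_mem (h.D_mem (h.N1_mem hc))
  rw [h.N2_eq] at h1
  simp only [DJ_add, h.D00, h.D01, h.D10, add_zero, zero_add] at h1
  exact h1

/-- the long loop -/
theorem Climb.long_loop (h : Climb H J Lt b) (hm3 : 3 ≤ m) {c : K}
    (hc : Hc σ (ev 0 : Vn) (ev 0) c ∈ Acal m H) :
    Hc σ (ev 0 : Vn) (ev 0) (c * b 0 * σ (b 0) * b 0 * σ (b 1))
      + Hc σ (ev 0 : Vn) (ev 0) (c * b 0 * σ (b 0) * b 0 * σ (b 1))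
      + Hc σ (ev 0 : Vn) (ev 0) (c * b 0 * σ (b 0) * b 0 * σ (b 1))
      + (Hc σ (ev 0 : Vn) (ev 0) (c * b 0 * σ (b 0) * b 1 * σ (b 0))
      + Hc σ (ev 0 : Vn) (ev 0) (c * b 0 * σ (b 0) * b 1 * σ (b 0))
      + Hc σ (ev 0 : Vn) (ev 0) (c * b 0 * σ (b 0) * b 1 * σ (b 0))) ∈ Acal m H := by
  have hm := h.hm
  have h2 := h.D_mem (h.N1_mem hc)
  have hZ : ZW m (mt Lt * DJ J (DJ Lt (Hc σ (ev 0 : Vn) (ev 0) c)) * adj σ (mt Lt)) := by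
    rw [h.N2_eq]
    exact ZW_conj_add (ZW_conj_add (h.ZW_L 0 0 (by omega) (by omega) _)
      (h.ZW_L 0 0 (by omega) (by omega) _))
      (ZW_conj_add (ZW_conj_add (h.ZW_L 0 1 (by omega) (by omega) _)
        (h.ZW_L 1 0 (by omega) (by omega) _)) (h.ZW_L 0 0 (by omega) (by omega) _))
  have h3 := h.D_mem (h.D_mem (h.D_mem (h.DL_mem h2 hZ)))
  rw [h.N2_eq] at h3
  simp only [DJ_add, h.Q00, h.Q01 hm3, h.Q10 hm3, add_zero, zero_add] at h3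
  exact h3

theorem Climb.base3 (h : Climb H J Lt b) (hm3 : 3 ≤ m) (hx0 : ∃ x, σ x ≠ x)
    (hgen : ∀ f : K, σ f = f → f ≠ 0 → ∃ k : ℕ, f = (b 0 * σ (b 0)) ^ k)
    (hω : b 0 * σ (b 1) + σ (b 0 * σ (b 1)) = 1) (hω' : σ (b 0 * σ (b 1)) ≠ b 0 * σ (b 1))
    {c₀ : K} (hc₀ : c₀ - σ c₀ ≠ 0) (hseed : Hc σ (ev 0 : Vn) (ev 0) c₀ ∈ Acal m H) :
    Known σ H 1 := by
  have hσ := h.hσ
  have hm := h.hm
  have hb0 : b 0 ≠ 0 := h.hb 0
  have hν : b 0 * σ (b 0) ≠ 0 := mul_ne_zero hb0 (sigma_ne_zero hσ hb0)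
  have hνν : σ (b 0 * σ (b 0)) = b 0 * σ (b 0) := sigma_norm hσ _
  have hω2 : b 0 * σ (b 1) + σ (b 0) * b 1 = 1 := by
    rw [map_mul, hσ] at hω
    exact hω
  -- the diagonal generators at `e_0`
  have h00 : ∀ c : K, Hc σ (ev 0 : Vn) (ev 0) c ∈ Acal m H := by
    apply spread hσ hgen hc₀ hseed
    intro c hc
    have h1 := h.short_loop hc
    have h2 := h.long_loop hm3 hc
    have e : Hc σ (ev 0 : Vn) (ev 0) (c * b 0 * σ (b 0) * b 0 * σ (b 1))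
        + Hc σ (ev 0 : Vn) (ev 0) (c * b 0 * σ (b 0) * b 1 * σ (b 0))
        = Hc σ (ev 0 : Vn) (ev 0) (c * (b 0 * σ (b 0))) := by
      rw [← Hc_add_param]
      congr 1
      linear_combination (c * b 0 * σ (b 0)) * hω2
    have e2 : Hc σ (ev 0 : Vn) (ev 0) (c * b 0 * σ (b 0)) =
        Hc σ (ev 0 : Vn) (ev 0) (c * (b 0 * σ (b 0))) := by
      rw [mul_assoc]
    rw [e2] at h1
    have h3 := (Acal m H).sub_mem h2 h1
    have e3 : Hc σ (ev 0 : Vn) (ev 0) (c * b 0 * σ (b 0) * b 0 * σ (b 1))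
        + Hc σ (ev 0 : Vn) (ev 0) (c * b 0 * σ (b 0) * b 0 * σ (b 1))
        + Hc σ (ev 0 : Vn) (ev 0) (c * b 0 * σ (b 0) * b 0 * σ (b 1))
        + (Hc σ (ev 0 : Vn) (ev 0) (c * b 0 * σ (b 0) * b 1 * σ (b 0))
        + Hc σ (ev 0 : Vn) (ev 0) (c * b 0 * σ (b 0) * b 1 * σ (b 0))
        + Hc σ (ev 0 : Vn) (ev 0) (c * b 0 * σ (b 0) * b 1 * σ (b 0)))
        - (Hc σ (ev 0 : Vn) (ev 0) (c * (b 0 * σ (b 0)))
          + Hc σ (ev 0 : Vn) (ev 0) (c * (b 0 * σ (b 0))))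
        = Hc σ (ev 0 : Vn) (ev 0) (c * (b 0 * σ (b 0))) := by
      rw [← e]
      abel
    rwa [e3] at h3
  -- the mixed generators with parameter in `K⁻`
  have h01m : ∀ s : K, σ s = -s → Hc σ (ev 0 : Vn) (ev 1) s ∈ Acal m H := by
    intro s hs
    obtain ⟨c, hc⟩ := exists_sub_eq hσ hx0 hν hνν hs
    have h1 := h.D_mem (h.N1_mem (h00 c))
    rw [h.N2_eq] at h1
    have h2 := (Acal m H).sub_mem ((Acal m H).sub_mem ((Acal m H).sub_mem h1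
      (h00 (c * σ (b 0)))) (h00 (c * b 0))) (h00 (c * b 0 * σ (b 0)))
    have e : Hc σ (ev 0 : Vn) (ev 0) (c * σ (b 0)) + Hc σ (ev 0 : Vn) (ev 0) (c * b 0)
        + (Hc σ (ev 0 : Vn) (ev 1) (c * b 0 * σ (b 0)) + Hc σ (ev 1 : Vn) (ev 0) (c * b 0 * σ (b 0))
          + Hc σ (ev 0 : Vn) (ev 0) (c * b 0 * σ (b 0)))
        - Hc σ (ev 0 : Vn) (ev 0) (c * σ (b 0)) - Hc σ (ev 0 : Vn) (ev 0) (c * b 0)
        - Hc σ (ev 0 : Vn) (ev 0) (c * b 0 * σ (b 0))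
        = Hc σ (ev 0 : Vn) (ev 1) (c * b 0 * σ (b 0))
          + Hc σ (ev 1 : Vn) (ev 0) (c * b 0 * σ (b 0)) := by abel
    rw [e, Hc_add_swap σ hσ] at h2
    have e2 : c * b 0 * σ (b 0) - σ (c * b 0 * σ (b 0)) = s := by
      rw [map_mul, map_mul, hσ, ← hc]
      ring
    rwa [e2] at h2
  -- the twisted ones
  have h01w : ∀ s : K, σ s = -s → Hc σ (ev 0 : Vn) (ev 1) (s * (b 0 * σ (b 1))) ∈ Acal m H := by
    intro s hs
    have h0 := h01m s hs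
    have h1 := h.D_mem (h.D_mem (h.DL_mem h0 (h.ZW_L 0 1 (by omega) (by omega) s)))
    rw [h.L01 hm3] at h1
    simp only [DJ_add, h.D00, h.D01, h.D10, h.D11, h.D02, h.D12, add_zero] at h1
    have h2 := (Acal m H).sub_mem ((Acal m H).sub_mem ((Acal m H).sub_mem ((Acal m H).sub_mem
      ((Acal m H).sub_mem h1 (h00 (s * σ (b 1)))) (h00 (s * b 0))) (h00 (s * b 0)))
      (h00 (s * b 0 * σ (b 1)))) (h00 (s * b 0 * σ (b 1)))
    have e : Hc σ (ev 0 : Vn) (ev 0) (s * σ (b 1))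
        + (Hc σ (ev 0 : Vn) (ev 0) (s * b 0) + Hc σ (ev 0 : Vn) (ev 0) (s * b 0))
        + (Hc σ (ev 0 : Vn) (ev 1) (s * b 0 * σ (b 1))
          + (Hc σ (ev 0 : Vn) (ev 1) (s * b 0 * σ (b 1))
            + Hc σ (ev 1 : Vn) (ev 0) (s * b 0 * σ (b 1))
            + Hc σ (ev 0 : Vn) (ev 0) (s * b 0 * σ (b 1)))
          + Hc σ (ev 0 : Vn) (ev 0) (s * b 0 * σ (b 1)))
        - Hc σ (ev 0 : Vn) (ev 0) (s * σ (b 1)) - Hc σ (ev 0 : Vn) (ev 0) (s * b 0)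
        - Hc σ (ev 0 : Vn) (ev 0) (s * b 0) - Hc σ (ev 0 : Vn) (ev 0) (s * b 0 * σ (b 1))
        - Hc σ (ev 0 : Vn) (ev 0) (s * b 0 * σ (b 1))
        = Hc σ (ev 0 : Vn) (ev 1) (s * b 0 * σ (b 1))
          + (Hc σ (ev 0 : Vn) (ev 1) (s * b 0 * σ (b 1))
            + Hc σ (ev 1 : Vn) (ev 0) (s * b 0 * σ (b 1))) := by abel
    rw [e, Hc_add_swap σ hσ, ← Hc_add_param] at h2
    have e2 : s * b 0 * σ (b 1) + (s * b 0 * σ (b 1) - σ (s * b 0 * σ (b 1)))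
        = s * (b 0 * σ (b 1)) + s := by
      rw [map_mul, map_mul, hσ, hs]
      linear_combination s * hω2
    rw [e2, Hc_add_param] at h2
    have h3 := (Acal m H).sub_mem h2 h0
    rwa [add_sub_cancel_right] at h3
  -- all mixed generators
  have h01 : ∀ c : K, Hc σ (ev 0 : Vn) (ev 1) c ∈ Acal m H := by
    intro c
    obtain ⟨ε, hε0, hε⟩ := Cfsg.Agent.H9.SUd.exists_eps hσ hx0
    have hεs : σ ε = -ε := by linear_combination hε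
    have hρ : ε * (b 0 * σ (b 1)) + σ (ε * (b 0 * σ (b 1))) ≠ 0 := by
      rw [map_mul, hεs]
      intro h0
      apply hω'
      have h1 : ε * (b 0 * σ (b 1) - σ (b 0 * σ (b 1))) = 0 := by linear_combination h0
      rcases mul_eq_zero.mp h1 with h2 | h2
      · exact absurd h2 hε0
      · exact (sub_eq_zero.mp h2).symm
    obtain ⟨s, f, hs, hf, hc⟩ := decomp hσ hρ c
    have e : c = s + (f * ε) * (b 0 * σ (b 1)) := by
      rw [hc]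
      ring
    rw [e, Hc_add_param]
    exact (Acal m H).add_mem (h01m s hs) (h01w (f * ε) (by rw [map_mul, hf, hεs]; ring))
  -- the diagonal generators at `e_1`
  have h11 : ∀ c : K, Hc σ (ev 1 : Vn) (ev 1) c ∈ Acal m H := by
    apply Hc_all_of_mul hν
    intro c
    have h1 := h.N1_mem (h00 c)
    rw [h.L00] at h1
    have h2 := (Acal m H).sub_mem ((Acal m H).sub_mem h1 (h01 (c * σ (b 0))))
      (h01 (-σ (c * b 0)))
    rw [← Hc_swap σ hσ] at h2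
    have e : Hc σ (ev 0 : Vn) (ev 1) (c * σ (b 0)) + Hc σ (ev 1 : Vn) (ev 0) (c * b 0)
        + Hc σ (ev 1 : Vn) (ev 1) (c * b 0 * σ (b 0))
        - Hc σ (ev 0 : Vn) (ev 1) (c * σ (b 0)) - Hc σ (ev 1 : Vn) (ev 0) (c * b 0)
        = Hc σ (ev 1 : Vn) (ev 1) (c * b 0 * σ (b 0)) := by abel
    rw [e] at h2
    rwa [mul_assoc] at h2
  intro i j hi hj c
  rcases Nat.eq_zero_or_pos i with hi0 | hi0
  · subst hi0
    rcases Nat.eq_zero_or_pos j with hj0 | hj0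
    · subst hj0
      exact h00 c
    · have : j = 1 := by omega
      subst this
      exact h01 c
  · have : i = 1 := by omega
    subst this
    rcases Nat.eq_zero_or_pos j with hj0 | hj0
    · subst hj0
      rw [Hc_swap σ hσ]
      exact h01 _
    · have : j = 1 := by omega
      subst this
      exact h11 c

end Cfsg.Agent.Lib.Helper7.RegUn
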