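import Mathlib
import Cfsg.Agent.Lib.Helper7.RegUnG

/-!
# `SU_5(q)`: the base of the climb for `m = 2` (helper7)

`Known 1` from a seed `Hc e_0 e_0 c₀`, by a quadratic closure loop through the end node: the
element `L (1 + ∂N + D∂N) L⁻¹` is an Eichler element `E(e_0, s y, 3s)` with `y = L e_1`.
-/

set_option autoImplicit false

namespace Cfsg.Agent.Lib.Helper7.RegUn

open Matrix Cfsg.Agent.H9.SUa Cfsg.Agent.H9.SUc Cfsg.Agent.H9.SUi Cfsg.Agent.H9.SLnB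
  Cfsg.Agent.H9.SpB Cfsg.Agent.Lib.Helper7.RegUnip

variable {m : ℕ} {K : Type*} [Field K] [Finite K] {σ : K →+* K}

local notation "Mn" => Matrix (Fin (2 * m + 1)) (Fin (2 * m + 1)) K
local notation "Vn" => Fin (2 * m + 1) → K

variable {H : Subgroup (GG (2 * m + 1) σ)} {J Lt : GG (2 * m + 1) σ} {b : ℕ → K}

/-! ### difference rules for an element with `e_0 ↦ e_0`, `e_1 ↦ e_1 + τ e_0` -/

theorem DJ_tau01 (hσ : ∀ x, σ (σ x) = x) (g : GG (2 * m + 1) σ) {τ : K}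
    (h0 : mt g *ᵥ (ev 0 : Vn) = ev 0) (h1 : mt g *ᵥ (ev 1 : Vn) = ev 1 + τ • ev 0) (c : K) :
    DJ g (Hc σ (ev 0 : Vn) (ev 1) c) = Hc σ (ev 0 : Vn) (ev 0) (c * σ τ) := by
  rw [DJ_Hc, h0, h1, Hc_add_right, Hc_smul_right σ hσ, add_sub_cancel_left]

theorem DJ_tau10 (g : GG (2 * m + 1) σ) {τ : K}
    (h0 : mt g *ᵥ (ev 0 : Vn) = ev 0) (h1 : mt g *ᵥ (ev 1 : Vn) = ev 1 + τ • ev 0) (c : K) :
    DJ g (Hc σ (ev 1 : Vn) (ev 0) c) = Hc σ (ev 0 : Vn) (ev 0) (c * τ) := by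
  rw [DJ_Hc, h0, h1, Hc_add_left, Hc_smul_left, add_sub_cancel_left]

theorem DJ_tau11 (hσ : ∀ x, σ (σ x) = x) (g : GG (2 * m + 1) σ) {τ : K}
    (h1 : mt g *ᵥ (ev 1 : Vn) = ev 1 + τ • ev 0) (c : K) :
    DJ g (Hc σ (ev 1 : Vn) (ev 1) c) =
      Hc σ (ev 0 : Vn) (ev 1) (c * τ) + Hc σ (ev 1 : Vn) (ev 0) (c * σ τ)
        + Hc σ (ev 0 : Vn) (ev 0) (c * τ * σ τ) := by
  rw [DJ_Hc, h1, Hc_add_left, Hc_add_right, Hc_add_right, Hc_smul_left, Hc_smul_left,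
    Hc_smul_right σ hσ, Hc_smul_right σ hσ]
  abel

/-- the sum `∂N + D∂N` is an Eichler element (for `b 0 = 1`) -/
theorem VU_eq (hσ : ∀ x, σ (σ x) = x) (c : K) :
    1 + (Hc σ (ev 0 : Vn) (ev 1) c + Hc σ (ev 1 : Vn) (ev 0) c + Hc σ (ev 1 : Vn) (ev 1) c
      + (Hc σ (ev 0 : Vn) (ev 0) c + Hc σ (ev 0 : Vn) (ev 0) c
        + (Hc σ (ev 0 : Vn) (ev 1) c + Hc σ (ev 1 : Vn) (ev 0) c + Hc σ (ev 0 : Vn) (ev 0) c)))
      = EM σ (ev 0 + ev 1 : Vn) ((c - σ c) • ev 1) (3 * (c - σ c)) := by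
  rw [EM_eq]
  simp only [Hc, VV_add_left, VV_add_right, VV_smul_left, VV_smul_right, map_sub, hσ]
  module

theorem Climb.base2 (h : Climb H J Lt b) (hx0 : ∃ x, σ x ≠ x) (hb0 : b 0 = 1)
    {L : GG (2 * m + 1) σ} (hL : L ∈ H) (hLLt : mt L * mt Lt = 1) {y : Vn}
    (hy : mt L *ᵥ (ev 1 : Vn) = y) (hy0 : hf σ (ev 0 : Vn) y = 0) {κ : K}
    (hκ : hf σ (ev 1 : Vn) y = κ) (hκ1 : κ + σ κ ≠ 0) {c₀ : K} (hc₀ : c₀ - σ c₀ ≠ 0)
    (hgen : ∀ f : K, σ f = f → f ≠ 0 → ∃ k : ℕ, f = ((c₀ - σ c₀) * (σ κ - κ)) ^ k)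
    (hseed : Hc σ (ev 0 : Vn) (ev 0) c₀ ∈ Acal m H) : Known σ H 1 := by
  have hσ := h.hσ
  have hm := h.hm
  -- `V` and `U`
  have hV : ∀ c : K, DJ Lt (Hc σ (ev 0 : Vn) (ev 0) c) =
      Hc σ (ev 0 : Vn) (ev 1) c + Hc σ (ev 1 : Vn) (ev 0) c + Hc σ (ev 1 : Vn) (ev 1) c := by
    intro c
    rw [h.L00, hb0, map_one, mul_one, mul_one]
  have hU : ∀ c : K, DJ J (DJ Lt (Hc σ (ev 0 : Vn) (ev 0) c)) =
      Hc σ (ev 0 : Vn) (ev 0) c + Hc σ (ev 0 : Vn) (ev 0) c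
        + (Hc σ (ev 0 : Vn) (ev 1) c + Hc σ (ev 1 : Vn) (ev 0) c + Hc σ (ev 0 : Vn) (ev 0) c) := by
    intro c
    rw [h.N2_eq, hb0, map_one, mul_one, mul_one]
  have hLe0 : mt L *ᵥ (ev 0 + ev 1 : Vn) = ev 0 := by
    have h1 := h.hLs 0 (by omega)
    rw [hb0, one_smul, zero_add] at h1
    rw [← h1, Matrix.mulVec_mulVec, hLLt, Matrix.one_mulVec]
  -- the Eichler elements
  have hE : ∀ c : K, Hc σ (ev 0 : Vn) (ev 0) c ∈ Acal m H →
      ∃ g ∈ H, g ∈ US (2 * m + 1) σ ∧ mt g *ᵥ (ev 0 : Vn) = ev 0 ∧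
        mt g *ᵥ (ev 1 : Vn) = ev 1 + (σ (c - σ c) * κ) • ev 0 := by
    intro c hc
    have h1 := h.N1_mem hc
    have h2 := h.D_mem h1
    have h3 := ((Acal m H).add_mem h1 h2).2
    rw [hU, hV, VU_eq hσ] at h3
    have h4 := InG.conj hL h3
    rw [conj_EM σ _ (mt_unit L), hLe0, Matrix.mulVec_smul, hy] at h4
    obtain ⟨g, hg, hgm⟩ := h4
    have hy4 : y ⟨2 * m - 0, by omega⟩ = 0 := by
      rw [hf_ev_left σ 0 (by omega)] at hy0
      have := congrArg σ hy0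
      rwa [hσ, map_zero] at this
    have h00 : hf σ (ev 0 : Vn) (ev 0) = 0 := by
      rw [hf_ev_ev σ 0 0 (by omega) (by omega), if_neg (by omega)]
    have h10 : hf σ (ev 1 : Vn) (ev 0) = 0 := by
      rw [hf_ev_ev σ 1 0 (by omega) (by omega), if_neg (by omega)]
    refine ⟨g, hg, ?_, ?_, ?_⟩
    · rw [Cfsg.Agent.H9.SUa.mem_US, hgm, ev_eq_single 0 (by omega)]
      apply isUT_EM_o σ _ (fun x => Fin.mk_le_of_le_val (Nat.zero_le _))
      · intro h0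
        have := congrArg Fin.val h0
        rw [Fin.val_rev] at this
        simp only at this
        omega
      · rw [Pi.smul_apply]
        have e : (⟨0, by omega⟩ : Fin (2 * m + 1)).rev = ⟨2 * m - 0, by omega⟩ := by
          apply Fin.ext
          rw [Fin.val_rev]
          simp only
          omega
        rw [e, hy4, smul_zero]
    · rw [hgm, EM_mulVec, hf_smul_right, hy0, h00]
      simp only [mul_zero, zero_smul, add_zero, sub_zero]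
    · rw [hgm, EM_mulVec, hf_smul_right, hκ, h10]
      simp only [mul_zero, zero_smul, add_zero, sub_zero]
  -- the closure property
  have hloop : ∀ c c' : K, Hc σ (ev 0 : Vn) (ev 0) c ∈ Acal m H →
      Hc σ (ev 0 : Vn) (ev 0) c' ∈ Acal m H →
      Hc σ (ev 0 : Vn) (ev 0) (c' * ((c - σ c) * (σ κ - κ))) ∈ Acal m H := by
    intro c c' hc hc'
    obtain ⟨g, hg, hgU, hg0, hg1⟩ := hE c hc
    have h1 := h.D_mem (DJ_mem hg hgU (h.N1_mem hc'))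
    rw [hV] at h1
    simp only [DJ_add, DJ_tau01 hσ g hg0 hg1, DJ_tau10 g hg0 hg1, DJ_tau11 hσ g hg1, h.D00, h.D01,
      h.D10, add_zero, zero_add] at h1
    rw [← Hc_add_param] at h1
    have e : c' * (σ (c - σ c) * κ) + c' * σ (σ (c - σ c) * κ)
        = c' * ((c - σ c) * (σ κ - κ)) := by
      rw [map_mul, hσ, map_sub, hσ]
      ring
    rwa [e] at h1
  have h00 : ∀ c : K, Hc σ (ev 0 : Vn) (ev 0) c ∈ Acal m H := by
    apply spread hσ hgen hc₀ hseed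
    intro c hc
    exact hloop c₀ c hseed hc
  -- the mixed generators with parameter in `K⁻`
  have h01m : ∀ s : K, σ s = -s → Hc σ (ev 0 : Vn) (ev 1) s ∈ Acal m H := by
    intro s hs
    obtain ⟨c, hc⟩ := exists_sub_eq hσ hx0 one_ne_zero (map_one σ) hs
    rw [one_mul] at hc
    have h1 := h.D_mem (h.N1_mem (h00 c))
    rw [hU] at h1
    have h2 := (Acal m H).sub_mem ((Acal m H).sub_mem ((Acal m H).sub_mem h1
      (h00 c)) (h00 c)) (h00 c)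
    have e : Hc σ (ev 0 : Vn) (ev 0) c + Hc σ (ev 0 : Vn) (ev 0) c
        + (Hc σ (ev 0 : Vn) (ev 1) c + Hc σ (ev 1 : Vn) (ev 0) c + Hc σ (ev 0 : Vn) (ev 0) c)
        - Hc σ (ev 0 : Vn) (ev 0) c - Hc σ (ev 0 : Vn) (ev 0) c - Hc σ (ev 0 : Vn) (ev 0) c
        = Hc σ (ev 0 : Vn) (ev 1) c + Hc σ (ev 1 : Vn) (ev 0) c := by abel
    rw [e, Hc_add_swap σ hσ, hc] at h2
    exact h2
  -- the twisted ones
  have h01w : ∀ s s' : K, σ s = -s → σ s' = -s' →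
      Hc σ (ev 0 : Vn) (ev 1) (-(s' * s * κ)) ∈ Acal m H := by
    intro s s' hs hs'
    obtain ⟨c, hc⟩ := exists_sub_eq hσ hx0 one_ne_zero (map_one σ) hs
    obtain ⟨c', hc'⟩ := exists_sub_eq hσ hx0 one_ne_zero (map_one σ) hs'
    rw [one_mul] at hc hc'
    obtain ⟨g, hg, hgU, hg0, hg1⟩ := hE c (h00 c)
    have h1 := DJ_mem hg hgU (h.N1_mem (h00 c'))
    rw [hV] at h1
    simp only [DJ_add, DJ_tau01 hσ g hg0 hg1, DJ_tau10 g hg0 hg1, DJ_tau11 hσ g hg1] at h1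
    have h2 := (Acal m H).sub_mem ((Acal m H).sub_mem ((Acal m H).sub_mem h1
      (h00 (c' * σ (σ (c - σ c) * κ)))) (h00 (c' * (σ (c - σ c) * κ))))
      (h00 (c' * (σ (c - σ c) * κ) * σ (σ (c - σ c) * κ)))
    have e : Hc σ (ev 0 : Vn) (ev 0) (c' * σ (σ (c - σ c) * κ))
        + Hc σ (ev 0 : Vn) (ev 0) (c' * (σ (c - σ c) * κ))
        + (Hc σ (ev 0 : Vn) (ev 1) (c' * (σ (c - σ c) * κ))
          + Hc σ (ev 1 : Vn) (ev 0) (c' * σ (σ (c - σ c) * κ))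
          + Hc σ (ev 0 : Vn) (ev 0) (c' * (σ (c - σ c) * κ) * σ (σ (c - σ c) * κ)))
        - Hc σ (ev 0 : Vn) (ev 0) (c' * σ (σ (c - σ c) * κ))
        - Hc σ (ev 0 : Vn) (ev 0) (c' * (σ (c - σ c) * κ))
        - Hc σ (ev 0 : Vn) (ev 0) (c' * (σ (c - σ c) * κ) * σ (σ (c - σ c) * κ))
        = Hc σ (ev 0 : Vn) (ev 1) (c' * (σ (c - σ c) * κ))
          + Hc σ (ev 1 : Vn) (ev 0) (c' * σ (σ (c - σ c) * κ)) := by abel
    rw [e, Hc_add_swap' σ hσ] at h2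
    have e2 : c' * (σ (c - σ c) * κ) - σ (c' * σ (σ (c - σ c) * κ)) = -(s' * s * κ) := by
      rw [map_mul, hσ, hc, hs, ← hc']
      ring
    rwa [e2] at h2
  -- all mixed generators
  have h01 : ∀ c : K, Hc σ (ev 0 : Vn) (ev 1) c ∈ Acal m H := by
    intro c
    obtain ⟨ε, hε0, hε⟩ := Cfsg.Agent.H9.SUd.exists_eps hσ hx0
    have hεs : σ ε = -ε := by linear_combination hε
    obtain ⟨s, f, hs, hf, hc⟩ := decomp hσ hκ1 c
    have e : c = s + -(ε * (-f / ε) * κ) := by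
      rw [hc]
      field_simp
    rw [e, Hc_add_param]
    refine (Acal m H).add_mem (h01m s hs) (h01w (-f / ε) ε ?_ hεs)
    rw [map_div₀, map_neg, hf, hεs]
    field_simp
  -- the diagonal generators at `e_1`
  have h11 : ∀ c : K, Hc σ (ev 1 : Vn) (ev 1) c ∈ Acal m H := by
    intro c
    have h1 := h.N1_mem (h00 c)
    rw [hV] at h1
    have h2 := (Acal m H).sub_mem ((Acal m H).sub_mem h1 (h01 c)) (h01 (-σ c))
    rw [← Hc_swap σ hσ] at h2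
    have e : Hc σ (ev 0 : Vn) (ev 1) c + Hc σ (ev 1 : Vn) (ev 0) c + Hc σ (ev 1 : Vn) (ev 1) c
        - Hc σ (ev 0 : Vn) (ev 1) c - Hc σ (ev 1 : Vn) (ev 0) c
        = Hc σ (ev 1 : Vn) (ev 1) c := by abel
    rwa [e] at h2
  intro i j hi hj c
  rcases Nat.eq_zero_or_pos i with hi0 | hi0
  · subst hi0
    rcases Nat.eq_zero_or_pos j with hj0 | hj0
    · subst hj0
      exact h00 c
    · have : j = 1 := by omega
      subst this
      exact h01 c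
  · have : i = 1 := by omega
    subst this
    rcases Nat.eq_zero_or_pos j with hj0 | hj0
    · subst hj0
      rw [Hc_swap σ hσ]
      exact h01 _
    · have : j = 1 := by omega
      subst this
      exact h11 c

end Cfsg.Agent.Lib.Helper7.RegUn
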