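import Mathlib
import Cfsg.Agent.Lib.Helper7.RegUnH

/-!
# `SU_{2m+1}(q)`: the point radical of `e_0` (helper7)

After the Siegel radical `Z(Q_W)` has been captured in `H`, the full point radical
`{E(e_0, y, s) : y ⊥ e_0}` lies in `H`: use the conjugates by `L^k` and by `J`.
-/

set_option autoImplicit false

namespace Cfsg.Agent.Lib.Helper7.RegUn

open Matrix Cfsg.Agent.H9.SUa Cfsg.Agent.H9.SUc Cfsg.Agent.H9.SUi Cfsg.Agent.H9.SUm
  Cfsg.Agent.H9.SLnB Cfsg.Agent.Lib.Helper7.RegUnip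

variable {m : ℕ} {K : Type*} [Field K] [Finite K] {σ : K →+* K}

local notation "Mn" => Matrix (Fin (2 * m + 1)) (Fin (2 * m + 1)) K
local notation "Vn" => Fin (2 * m + 1) → K

variable {H : Subgroup (GG (2 * m + 1) σ)}

/-! ### Eichler elements of `H` -/

/-- all `E(u, y, s)` with the given `u`, `y` lie in `H` -/
def QE (H : Subgroup (GG (2 * m + 1) σ)) (u y : Vn) : Prop :=
  ∀ s : K, s + σ s + hf σ y y = 0 → InG H (EM σ u y s)

/-- `y ⊥ u` and all `E(u, y, s)` lie in `H` -/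
def Psi (H : Subgroup (GG (2 * m + 1) σ)) (u y : Vn) : Prop := hf σ y u = 0 ∧ QE H u y

theorem Psi.add (hσ : ∀ x, σ (σ x) = x) (hx0 : ∃ x, σ x ≠ x) {u y y' : Vn} (huu : hf σ u u = 0)
    (hy : Psi H u y) (hy' : Psi H u y') : Psi H u (y + y') := by
  refine ⟨by rw [hf_add_left, hy.1, hy'.1, add_zero], ?_⟩
  intro s'' hs''
  obtain ⟨θ, hθ⟩ := Cfsg.Agent.H9.SUd.exists_theta hσ hx0
  have hyy : σ (hf σ y y) = hf σ y y := (hf_symm σ hσ y y).symm
  have hyy' : σ (hf σ y' y) = hf σ y y' := (hf_symm σ hσ y y').symm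
  obtain ⟨s, hs⟩ : ∃ s : K, s = -(θ * hf σ y y) := ⟨_, rfl⟩
  have hsv : s + σ s + hf σ y y = 0 := by
    rw [hs, map_neg, map_mul, hyy]
    linear_combination (-hf σ y y) * hθ
  have hrv : (s'' - s + hf σ y' y) + σ (s'' - s + hf σ y' y) + hf σ y' y' = 0 := by
    rw [hf_add_left, hf_add_right, hf_add_right] at hs''
    rw [map_add, map_sub, hyy']
    linear_combination hs'' - hsv
  have h1 := (hy.2 s hsv).mul (hy'.2 _ hrv)
  rw [EM_mul_EM σ u y y' _ _ huu (hf_eq_zero_symm σ hσ hy.1) hy'.1] at h1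
  have e : s + (s'' - s + hf σ y' y) - hf σ y' y = s'' := by ring
  rwa [e] at h1

theorem Psi.neg (hσ : ∀ x, σ (σ x) = x) {u y : Vn} (hy : Psi H u y) : Psi H u (-y) := by
  refine ⟨by rw [hf_neg_left, hy.1, neg_zero], ?_⟩
  intro s hs
  rw [hf_neg_left, hf_neg_right, neg_neg] at hs
  have hyy : σ (hf σ y y) = hf σ y y := (hf_symm σ hσ y y).symm
  have h1 := hy.2 (σ s) (by rw [hσ]; linear_combination hs)
  obtain ⟨g, hg, hgm⟩ := h1
  refine ⟨g⁻¹, H.inv_mem hg, ?_⟩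
  rw [mt_inv, hgm, adj_EM σ hσ, hσ]

theorem Psi.sub (hσ : ∀ x, σ (σ x) = x) (hx0 : ∃ x, σ x ≠ x) {u y y' : Vn} (huu : hf σ u u = 0)
    (hy : Psi H u y) (hy' : Psi H u y') : Psi H u (y - y') := by
  rw [sub_eq_add_neg]
  exact hy.add hσ hx0 huu (hy'.neg hσ)

theorem Psi.conj {u y : Vn} {g : GG (2 * m + 1) σ} (hg : g ∈ H) (hy : Psi H u y) :
    Psi H (mt g *ᵥ u) (mt g *ᵥ y) := by
  refine ⟨by rw [hf_mulVec σ _ (mt_unit' g), hy.1], ?_⟩
  intro s hs
  rw [hf_mulVec σ _ (mt_unit' g)] at hs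
  have h1 := InG.conj hg (hy.2 s hs)
  rwa [conj_EM σ _ (mt_unit g)] at h1

theorem Psi.of_eq {u u' y y' : Vn} (hy : Psi H u y) (hu : u = u') (hy' : y = y') :
    Psi H u' y' := by
  rw [← hu, ← hy']
  exact hy

/-! ### vectors with bounded support -/

omit [Finite K] in
theorem Wk_sub_smul {j : ℕ} (hj : j < 2 * m + 1) {y z : Vn} (hy : Wk (j + 1) y)
    (hz : Wk (j + 1) z) (hz0 : z ⟨j, hj⟩ ≠ 0) :
    Wk j (y - (y ⟨j, hj⟩ / z ⟨j, hj⟩) • z) := by
  intro l hl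
  rw [Pi.sub_apply, Pi.smul_apply, smul_eq_mul]
  rcases Nat.eq_or_lt_of_le hl with h1 | h1
  · have : l = ⟨j, hj⟩ := Fin.ext h1.symm
    rw [this, div_mul_cancel₀ _ hz0, sub_self]
  · rw [hy l (by omega), hz l (by omega), mul_zero, sub_zero]

omit [Finite K] in
theorem ev_self_apply {j : ℕ} (hj : j < 2 * m + 1) : (ev j : Vn) ⟨j, hj⟩ = 1 := by
  rw [ev_apply, if_pos rfl]

/-- the hypotheses of the second stage -/
structure Frame (H : Subgroup (GG (2 * m + 1) σ)) (J L Lt : GG (2 * m + 1) σ) (b : ℕ → K)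
    (s₁ a' κ : K) : Prop where
  climb : Climb H J Lt b
  hx0 : ∃ x, σ x ≠ x
  hLH : L ∈ H
  hLLt : Lt = L⁻¹
  hJm : mt J *ᵥ (ev (m + 1) : Vn) = ev (m + 1) - ev m + s₁ • ev (m - 1)
  hLm : mt L *ᵥ (ev (m - 1) : Vn) = ev (m - 1) + a' • ev m + κ • ev (m + 1)
  hκ : κ ≠ 0
  hall : ∀ a a' : Vn, Wk m a → Wk m a' → ∀ c : K, Hc σ a a' c ∈ Acal m H

variable {J L Lt : GG (2 * m + 1) σ} {b : ℕ → K} {s₁ a' κ : K}

theorem Frame.hσ (F : Frame H J L Lt b s₁ a' κ) : ∀ x, σ (σ x) = x := F.climb.hσ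

theorem Frame.hm (F : Frame H J L Lt b s₁ a' κ) : 2 ≤ m := F.climb.hm

theorem Frame.L_mul_Lt (F : Frame H J L Lt b s₁ a' κ) : mt L * mt Lt = 1 := by
  rw [← mt_mul, F.hLLt, mul_inv_cancel, mt_one]

theorem Frame.Lpow_mul (F : Frame H J L Lt b s₁ a' κ) (k : ℕ) :
    mt (L ^ k) * mt (Lt ^ k) = 1 := by
  rw [← mt_mul, F.hLLt, inv_pow, mul_inv_cancel, mt_one]

theorem hf_ev_self_zero (σ : K →+* K) (hm : 1 ≤ m) (i : ℕ) (hi : i < m) :
    hf σ (ev i : Vn) (ev i) = 0 := by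
  rw [hf_ev_ev σ i i (by omega) (by omega), if_neg (by omega)]

/-- the Siegel part -/
theorem Frame.Psi_W (F : Frame H J L Lt b s₁ a' κ) {u y : Vn} (hu : Wk m u) (hy : Wk m y) :
    Psi H u y := by
  have hσ := F.hσ
  refine ⟨hf_Wk_eq_zero σ (hy.mono (by omega)) hu, ?_⟩
  intro s hs
  rw [hf_Wk_eq_zero σ (hy.mono (by omega)) hy, add_zero] at hs
  obtain ⟨θ, hθ⟩ := Cfsg.Agent.H9.SUd.exists_theta hσ F.hx0
  have h1 := ((Acal m H).add_mem (F.hall u y hu hy 1) (F.hall u u hu hu (θ * s))).2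
  have e : 1 + (Hc σ u y 1 + Hc σ u u (θ * s)) = EM σ u y s := by
    rw [EM_eq, Hc_self, Hc, map_one, one_smul, one_smul, map_mul]
    have : θ * s - σ θ * σ s = s := by
      have hs' : σ s = -s := by linear_combination hs
      rw [hs']
      linear_combination s * hθ
    rw [this]
    abel
  rwa [e] at h1

/-- `Lt` raises the support by one, on the lower half -/
theorem Frame.Lt_Wk (F : Frame H J L Lt b s₁ a' κ) {j : ℕ} (hj : j + 1 ≤ m) {v : Vn}
    (hv : Wk j v) : Wk (j + 1) (mt Lt *ᵥ v) := by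
  rw [sum_smul_ev v, Matrix.mulVec_sum]
  intro l hl
  rw [Finset.sum_apply]
  apply Finset.sum_eq_zero
  intro i _
  rw [Matrix.mulVec_smul, Pi.smul_apply]
  by_cases hi : i.val < j
  · rw [F.climb.hLs i.val (by omega)]
    have h1 : Wk (j + 1) ((ev i.val : Vn) + b i.val • ev (i.val + 1)) :=
      (Wk_ev (by omega)).add ((Wk_ev (by omega)).smul _)
    rw [h1 l hl, smul_zero]
  · rw [hv i (by omega), zero_smul]

theorem Frame.Ltpow_Wk (F : Frame H J L Lt b s₁ a' κ) (k : ℕ) (hk : k + 1 ≤ m) :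
    Wk (k + 1) (mt (Lt ^ k) *ᵥ (ev 0 : Vn)) := by
  induction k with
  | zero =>
    rw [pow_zero, mt_one, Matrix.one_mulVec]
    exact Wk_ev (by omega)
  | succ k ih =>
    rw [pow_succ', mt_mul, ← Matrix.mulVec_mulVec]
    exact F.Lt_Wk (by omega) (ih (by omega))

/-- the rows of `L` in the upper half -/
theorem Frame.row (F : Frame H J L Lt b s₁ a' κ) (l : ℕ) (hl1 : m + 2 ≤ l) (hl2 : l ≤ 2 * m)
    (y : Vn) :
    (mt L *ᵥ y) ⟨l, by omega⟩ = y ⟨l, by omega⟩ + σ (b (2 * m - l)) * y ⟨l - 1, by omega⟩ := by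
  have e1 : (mt L *ᵥ y) ⟨l, by omega⟩ = hf σ (mt L *ᵥ y) (ev (2 * m - l)) := by
    rw [hf_ev_right σ _ (2 * m - l) (by omega)]
    congr 1
    apply Fin.ext
    simp only
    omega
  have e2 : hf σ (mt L *ᵥ y) (ev (2 * m - l)) = hf σ y (mt Lt *ᵥ ev (2 * m - l)) := by
    calc hf σ (mt L *ᵥ y) (ev (2 * m - l))
        = hf σ (mt L *ᵥ y) (mt L *ᵥ (mt Lt *ᵥ ev (2 * m - l))) := by
          rw [Matrix.mulVec_mulVec, F.L_mul_Lt, Matrix.one_mulVec]
      _ = hf σ y (mt Lt *ᵥ ev (2 * m - l)) := hf_mulVec σ _ (mt_unit' L) _ _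
  rw [e1, e2, F.climb.hLs (2 * m - l) (by omega), hf_add_right, hf_smul_right,
    hf_ev_right σ _ (2 * m - l) (by omega), hf_ev_right σ _ (2 * m - l + 1) (by omega)]
  congr 2
  · apply Fin.ext
    simp only
    omega
  · congr 1
    apply Fin.ext
    simp only
    omega

theorem Frame.L_Wk (F : Frame H J L Lt b s₁ a' κ) {j : ℕ} (hj1 : m + 1 ≤ j) (hj2 : j + 1 ≤ 2 * m)
    {y : Vn} (hy : Wk (j + 1) y) :
    Wk (j + 2) (mt L *ᵥ y) ∧
      (mt L *ᵥ y) ⟨j + 1, by omega⟩ = σ (b (2 * m - (j + 1))) * y ⟨j, by omega⟩ := by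
  constructor
  · intro l hl
    have h1 := F.row l.val (by omega) (by have := l.isLt; omega) y
    have e : l = ⟨l.val, by have := l.isLt; omega⟩ := Fin.ext rfl
    rw [e, h1, hy _ (by simp only; omega), hy _ (by simp only; omega), mul_zero, add_zero]
  · rw [F.row (j + 1) (by omega) (by omega) y, hy _ (by simp only; omega), zero_add]
    rfl

/-- the vectors `z_k = L^k e_{m-1}` -/
theorem Frame.z_Wk (F : Frame H J L Lt b s₁ a' κ) (k : ℕ) (hk1 : 1 ≤ k) (hk2 : k + 1 ≤ m) :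
    Wk (m + k + 1) (mt (L ^ k) *ᵥ (ev (m - 1) : Vn)) ∧
      ∀ h : m + k < 2 * m + 1, (mt (L ^ k) *ᵥ (ev (m - 1) : Vn)) ⟨m + k, h⟩ ≠ 0 := by
  have hm := F.hm
  induction k with
  | zero => omega
  | succ k ih =>
    rcases Nat.eq_zero_or_pos k with h0 | h0
    · subst h0
      rw [zero_add, pow_one, F.hLm]
      constructor
      · exact ((Wk_ev (by omega)).add ((Wk_ev (by omega)).smul _)).add ((Wk_ev (by omega)).smul _)
      · intro h
        rw [Pi.add_apply, Pi.add_apply, Pi.smul_apply, Pi.smul_apply, ev_apply, ev_apply, ev_apply,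
          if_neg (by simp only; omega), if_neg (by simp only; omega), if_pos rfl, smul_zero,
          add_zero, zero_add, smul_eq_mul, mul_one]
        exact F.hκ
    · obtain ⟨ih1, ih2⟩ := ih h0 (by omega)
      rw [pow_succ', mt_mul, ← Matrix.mulVec_mulVec]
      obtain ⟨h1, h2⟩ := F.L_Wk (j := m + k) (by omega) (by omega) ih1
      refine ⟨h1, ?_⟩
      intro h
      have e : (⟨m + (k + 1), h⟩ : Fin (2 * m + 1)) = ⟨m + k + 1, by omega⟩ := Fin.ext (by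
        simp only
        omega)
      rw [e, h2]
      exact mul_ne_zero (sigma_ne_zero F.hσ (F.climb.hb _)) (ih2 (by omega))

theorem Frame.hf00 (F : Frame H J L Lt b s₁ a' κ) : hf σ (ev 0 : Vn) (ev 0) = 0 :=
  hf_ev_self_zero σ (by have := F.hm; omega) 0 (by have := F.hm; omega)

/-- the multiples of `z_k` -/
theorem Frame.Psi_z (F : Frame H J L Lt b s₁ a' κ) (k : ℕ) (hk2 : k + 1 ≤ m) (c : K) :
    Psi H (ev 0 : Vn) (c • (mt (L ^ k) *ᵥ (ev (m - 1) : Vn))) := by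
  have hm := F.hm
  have h1 : Psi H (mt (Lt ^ k) *ᵥ (ev 0 : Vn)) (c • (ev (m - 1) : Vn)) :=
    F.Psi_W ((F.Ltpow_Wk k hk2).mono (by omega)) ((Wk_ev (by omega)).smul c)
  have h2 := h1.conj (H.pow_mem F.hLH k)
  rw [Matrix.mulVec_mulVec, F.Lpow_mul, Matrix.one_mulVec, Matrix.mulVec_smul] at h2
  exact h2

theorem Frame.J_ev0 (F : Frame H J L Lt b s₁ a' κ) : mt J *ᵥ (ev 0 : Vn) = ev 0 := F.climb.hJ0

/-- the multiples of `e_m` -/
theorem Frame.Psi_mid' (F : Frame H J L Lt b s₁ a' κ) (d : K) :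
    Psi H (ev 0 : Vn) ((d * κ) • (ev m : Vn)) := by
  have hm := F.hm
  have hσ := F.hσ
  have hy := F.Psi_z 1 (by omega) (-d)
  rw [pow_one, F.hLm] at hy
  have hJy := (hy.conj F.climb.hJ).of_eq F.J_ev0 rfl
  have h1 := hJy.sub hσ F.hx0 F.hf00 hy
  have hJ1 : mt J *ᵥ (ev (m - 1) : Vn) = ev (m - 1) + ev (m - 2) := by
    have := F.climb.hJs (m - 2) (by omega)
    rwa [show m - 2 + 1 = m - 1 by omega] at this
  have hJ2 : mt J *ᵥ (ev m : Vn) = ev m + ev (m - 1) := by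
    have := F.climb.hJs (m - 1) (by omega)
    rwa [show m - 1 + 1 = m by omega] at this
  have e : mt J *ᵥ (-d • ((ev (m - 1) : Vn) + a' • ev m + κ • ev (m + 1)))
      - -d • ((ev (m - 1) : Vn) + a' • ev m + κ • ev (m + 1))
      = (d * κ) • (ev m : Vn) - (d • ev (m - 2) + (d * a' + d * κ * s₁) • (ev (m - 1) : Vn)) := by
    rw [Matrix.mulVec_smul, Matrix.mulVec_add, Matrix.mulVec_add, Matrix.mulVec_smul,
      Matrix.mulVec_smul, hJ1, hJ2, F.hJm]
    module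
  rw [e] at h1
  have h2 : Psi H (ev 0 : Vn) (d • (ev (m - 2) : Vn) + (d * a' + d * κ * s₁) • ev (m - 1)) :=
    F.Psi_W (Wk_ev (by omega)) (((Wk_ev (by omega)).smul _).add ((Wk_ev (by omega)).smul _))
  have h3 := h1.add hσ F.hx0 F.hf00 h2
  rwa [sub_add_cancel] at h3

theorem Frame.Psi_mid (F : Frame H J L Lt b s₁ a' κ) (c : K) :
    Psi H (ev 0 : Vn) (c • (ev m : Vn)) := by
  have h := F.Psi_mid' (c / κ)
  rwa [div_mul_cancel₀ _ F.hκ] at h

/-- the point radical of `e_0` -/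
theorem Frame.Psi_all (F : Frame H J L Lt b s₁ a' κ) {y : Vn} (hy : hf σ y (ev 0 : Vn) = 0) :
    Psi H (ev 0 : Vn) y := by
  have hm := F.hm
  have hσ := F.hσ
  have hstep : ∀ k : ℕ, k + 1 ≤ m → ∀ y : Vn, Wk (m + k + 1) y → Psi H (ev 0 : Vn) y := by
    intro k
    induction k with
    | zero =>
      intro _ y hy
      have h1 := Wk_sub_smul (j := m) (by omega) hy (Wk_ev (i := m) (by omega)) (by
        rw [ev_self_apply]
        exact one_ne_zero)
      have h2 := (F.Psi_W (Wk_ev (by omega)) h1).add hσ F.hx0 F.hf00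
        (F.Psi_mid (y ⟨m, by omega⟩ / (ev m : Vn) ⟨m, by omega⟩))
      rwa [sub_add_cancel] at h2
    | succ k ih =>
      intro hk y hy
      obtain ⟨hz1, hz2⟩ := F.z_Wk (k + 1) (by omega) hk
      have h1 := Wk_sub_smul (j := m + (k + 1)) (by omega) hy hz1 (hz2 (by omega))
      have h2 := (ih (by omega) _ h1).add hσ F.hx0 F.hf00 (F.Psi_z (k + 1) hk
        (y ⟨m + (k + 1), by omega⟩ /
          (mt (L ^ (k + 1)) *ᵥ (ev (m - 1) : Vn)) ⟨m + (k + 1), by omega⟩))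
      rwa [sub_add_cancel] at h2
  apply hstep (m - 1) (by omega) y
  intro l hl
  have hl2 : l.val = 2 * m := by have := l.isLt; omega
  rw [hf_ev_right σ y 0 (by omega)] at hy
  rw [← hy]
  congr 1
  apply Fin.ext
  simp only
  omega

end Cfsg.Agent.Lib.Helper7.RegUn
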