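import Mathlib
import Cfsg.Agent.Lib.Helper7.RegUnI

/-!
# `SU_{2m+1}(q)`: a hyperbolic pair with both point radicals in `H` (helper7)

The plane trick moves the point radical of `e_0` to `e_1, …, e_{m-1}`, and `L` moves that of
`e_{m-1}` to `L e_{m-1}`, which is not orthogonal to `e_{m-1}`.
-/

set_option autoImplicit false

namespace Cfsg.Agent.Lib.Helper7.RegUn

open Matrix Cfsg.Agent.H9.SUa Cfsg.Agent.H9.SUc Cfsg.Agent.H9.SUi Cfsg.Agent.H9.SUm
  Cfsg.Agent.H9.SLnB Cfsg.Agent.Lib.Helper7.RegUnip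

variable {m : ℕ} {K : Type*} [Field K] [Finite K] {σ : K →+* K}

local notation "Mn" => Matrix (Fin (2 * m + 1)) (Fin (2 * m + 1)) K
local notation "Vn" => Fin (2 * m + 1) → K

variable {H : Subgroup (GG (2 * m + 1) σ)}

/-- `u` is isotropic and its whole point radical lies in `H` -/
def Iso (H : Subgroup (GG (2 * m + 1) σ)) (u : Vn) : Prop :=
  hf σ u u = 0 ∧ ∀ y : Vn, hf σ y u = 0 → QE H u y

theorem Iso.conj {u : Vn} {g : GG (2 * m + 1) σ} (hg : g ∈ H) (hu : Iso H u) :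
    Iso H (mt g *ᵥ u) := by
  refine ⟨by rw [hf_mulVec σ _ (mt_unit' g), hu.1], ?_⟩
  intro y hy
  have e : mt g *ᵥ (mt g⁻¹ *ᵥ y) = y := by
    rw [Matrix.mulVec_mulVec, ← mt_mul, mul_inv_cancel, mt_one, Matrix.one_mulVec]
  have h1 : hf σ (mt g⁻¹ *ᵥ y) u = 0 := by
    rw [← hf_mulVec σ _ (mt_unit' g), e, hy]
  have h2 : Psi H u (mt g⁻¹ *ᵥ y) := ⟨h1, hu.2 _ h1⟩
  have h3 := (h2.conj hg).2
  rwa [e] at h3

theorem Iso.smul (hσ : ∀ x, σ (σ x) = x) {u : Vn} {t : K} (ht : t ≠ 0) (hu : Iso H u) :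
    Iso H (t • u) := by
  refine ⟨by rw [hf_smul_left, hf_smul_right, hu.1, mul_zero, mul_zero], ?_⟩
  intro y hy s hs
  rw [hf_smul_right] at hy
  have hy' : hf σ y u = 0 := by
    rcases mul_eq_zero.mp hy with h | h
    · exact absurd h (sigma_ne_zero hσ ht)
    · exact h
  rw [EM_smul_left σ hσ]
  apply hu.2 (σ t • y) (by rw [hf_smul_left, hy', mul_zero])
  rw [hf_smul_left, hf_smul_right, hσ, map_mul, map_mul, hσ]
  linear_combination (t * σ t) * hs

variable {J L Lt : GG (2 * m + 1) σ} {b : ℕ → K} {s₁ a' κ : K}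

theorem Frame.Iso_zero (F : Frame H J L Lt b s₁ a' κ) : Iso H (ev 0 : Vn) :=
  ⟨F.hf00, fun _ hy => (F.Psi_all hy).2⟩

/-- the plane trick -/
theorem Frame.Iso_succ (F : Frame H J L Lt b s₁ a' κ) (k : ℕ) (hk : k + 2 ≤ m)
    (h : Iso H (ev k : Vn)) : Iso H (ev (k + 1) : Vn) := by
  have hσ := F.hσ
  have hbk := F.climb.hb k
  obtain ⟨c, hc⟩ : ∃ c : K, c = -(1 / b k) := ⟨_, rfl⟩
  have hv1 : hf σ (σ c • (ev (2 * m - k - 1) : Vn)) (ev k) = 0 := by
    rw [hf_smul_left, hf_ev_ev σ _ _ (by omega) (by omega), if_neg (by omega), mul_zero]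
  have hv2 : hf σ (σ c • (ev (2 * m - k - 1) : Vn)) (σ c • (ev (2 * m - k - 1) : Vn)) = 0 := by
    rw [hf_smul_left, hf_smul_right, hf_ev_ev σ _ _ (by omega) (by omega), if_neg (by omega),
      mul_zero, mul_zero]
  obtain ⟨x, hx, hxm⟩ := h.2 _ hv1 0 (by rw [map_zero, hv2]; ring)
  have h1 := (h.conj F.climb.hL).conj hx
  have e : mt x *ᵥ (mt Lt *ᵥ (ev k : Vn)) = b k • ev (k + 1) := by
    rw [F.climb.hLs k hk, hxm, EM_mulVec, hf_add_left, hf_add_left, hf_smul_left, hf_smul_left,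
      hf_smul_right, hf_smul_right, hσ, hf_ev_ev σ k _ (by omega) (by omega),
      hf_ev_ev σ (k + 1) _ (by omega) (by omega), hf_ev_ev σ k k (by omega) (by omega),
      hf_ev_ev σ (k + 1) k (by omega) (by omega), if_neg (by omega), if_pos (by omega),
      if_neg (by omega), if_neg (by omega), hc]
    have e1 : -(1 / b k) * 0 + b k * (-(1 / b k) * 1) = -1 := by
      rw [mul_zero, zero_add, mul_one, mul_neg, mul_one_div_cancel hbk]
    rw [e1]
    simp only [mul_zero, add_zero, zero_smul, sub_zero]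
    module
  rw [e] at h1
  have h2 := h1.smul hσ (t := (b k)⁻¹) (inv_ne_zero hbk)
  rwa [smul_smul, inv_mul_cancel₀ hbk, one_smul] at h2

theorem Frame.Iso_ev (F : Frame H J L Lt b s₁ a' κ) (k : ℕ) (hk : k + 1 ≤ m) :
    Iso H (ev k : Vn) := by
  induction k with
  | zero => exact F.Iso_zero
  | succ k ih => exact F.Iso_succ k (by omega) (ih (by omega))

/-- a hyperbolic pair whose point radicals lie in `H` -/
theorem Frame.pair (F : Frame H J L Lt b s₁ a' κ) :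
    ∃ u w : Vn, hf σ u u = 0 ∧ hf σ w w = 0 ∧ hf σ w u ≠ 0 ∧
      (∀ y s, hf σ y u = 0 → s + σ s + hf σ y y = 0 → ∃ g ∈ H, mt g = EM σ u y s) ∧
      (∀ y s, hf σ y w = 0 → s + σ s + hf σ y y = 0 → ∃ g ∈ H, mt g = EM σ w y s) := by
  have hm := F.hm
  have h1 := F.Iso_ev (m - 1) (by omega)
  have h2 := h1.conj F.hLH
  refine ⟨ev (m - 1), mt L *ᵥ ev (m - 1), h1.1, h2.1, ?_, fun y s hy hs => h1.2 y hy s hs,
    fun y s hy hs => h2.2 y hy s hs⟩
  rw [F.hLm, hf_add_left, hf_add_left, hf_smul_left, hf_smul_left,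
    hf_ev_ev σ _ _ (by omega) (by omega), hf_ev_ev σ _ _ (by omega) (by omega),
    hf_ev_ev σ _ _ (by omega) (by omega), if_neg (by omega), if_neg (by omega),
    if_pos (by omega), mul_zero, mul_one, zero_add, zero_add]
  exact F.hκ

end Cfsg.Agent.Lib.Helper7.RegUn
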