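import Mathlib
import Cfsg.Agent.Lib.Helper7.RegUnJ

/-!
# `SU_{2m+1}(q)`: the monomial element and the third conjugate (helper7)

`gmon` has the antidiagonal matrix `Hm d`; the conjugate `L = gmon J gmon⁻¹` of the regular
unipotent element `J` acts on the lower half of the basis through `L⁻¹ e_j = e_j + b_j e_{j+1}`.
-/

set_option autoImplicit false

namespace Cfsg.Agent.Lib.Helper7.RegUn

open Matrix Cfsg.Agent.H9.SUa Cfsg.Agent.H9.SUc Cfsg.Agent.H9.SUi Cfsg.Agent.H9.SUm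
  Cfsg.Agent.H9.SLnB Cfsg.Agent.Lib.Helper7.RegUnip

variable {m : ℕ} {K : Type*} [Field K]

local notation "Mn" => Matrix (Fin (2 * m + 1)) (Fin (2 * m + 1)) K
local notation "Vn" => Fin (2 * m + 1) → K

/-! ### antidiagonal matrices -/

theorem det_adjG {n : ℕ} (σ : K →+* K) (A : Matrix (Fin n) (Fin n) K) :
    (adj σ A).det = σ A.det := by
  have e : adj σ A = ((σ.mapMatrix A).submatrix (Fin.revPerm : Equiv.Perm (Fin n))
      (Fin.revPerm : Equiv.Perm (Fin n)))ᵀ := by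
    ext i j
    rw [adj_apply, Matrix.transpose_apply, Matrix.submatrix_apply, RingHom.mapMatrix_apply,
      Matrix.map_apply, Fin.revPerm_apply, Fin.revPerm_apply]
  rw [e, Matrix.det_transpose, Matrix.det_submatrix_equiv_self, ← RingHom.map_det]

theorem adj_Hm (σ : K →+* K) (d : ℕ → K) :
    adj σ (Hm d : Mn) = Hm (fun j => σ (d j)) := by
  ext i j
  rw [adj_apply]
  simp only [Hm, Matrix.of_apply, Fin.val_rev]
  have hi := i.isLt
  have hj := j.isLt
  by_cases h : i.val + j.val + 1 = 2 * m + 1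
  · rw [if_pos (by omega), if_pos h]
    congr 2
    omega
  · rw [if_neg (by omega), if_neg h, map_zero]

theorem Hm_mulVec_ev' (d : ℕ → K) (j : ℕ) (hj : j ≤ 2 * m) :
    (Hm d : Mn) *ᵥ ev j = d j • ev (2 * m - j) := by
  rw [Hm_mulVec_ev d j (by omega)]
  congr 2

theorem Hm_mul_Hm (d d' : ℕ → K) (h : ∀ j, j ≤ 2 * m → d (2 * m - j) * d' j = 1) :
    (Hm d : Mn) * Hm d' = 1 := by
  apply Matrix.ext_of_mulVec_single
  intro j
  have hj := j.isLt
  rw [← ev_eq_single j.val j.isLt, ← Matrix.mulVec_mulVec, Hm_mulVec_ev' d' j.val (by omega),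
    Matrix.mulVec_smul, Hm_mulVec_ev' d (2 * m - j.val) (by omega), smul_smul,
    mul_comm (d' j.val), h j.val (by omega), one_smul, Matrix.one_mulVec]
  congr 1
  omega

/-- the entries of the monomial element: `a` on the upper half, `δ` in the middle -/
def dd (m : ℕ) (σ : K →+* K) (a : ℕ → K) (δ : K) : ℕ → K := fun j =>
  if j < m then (σ (a (2 * m - j)))⁻¹ else if j = m then δ else a j

theorem dd_unit (σ : K →+* K) (hσ : ∀ x, σ (σ x) = x) (a : ℕ → K) (ha : ∀ j, a j ≠ 0) (δ : K)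
    (hδ : δ * σ δ = 1) (j : ℕ) (hj : j ≤ 2 * m) :
    dd m σ a δ (2 * m - j) * σ (dd m σ a δ j) = 1 := by
  unfold dd
  rcases Nat.lt_trichotomy j m with h | h | h
  · rw [if_neg (by omega), if_neg (by omega), if_pos h, map_inv₀, hσ]
    exact mul_inv_cancel₀ (ha _)
  · subst h
    rw [if_neg (by omega), if_pos (by omega), if_neg (by omega), if_pos rfl]
    exact hδ
  · rw [if_pos (by omega), if_neg (by omega), if_neg (by omega)]
    have : 2 * m - (2 * m - j) = j := by omega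
    rw [this]
    exact inv_mul_cancel₀ (sigma_ne_zero hσ (ha j))

theorem Hm_dd_unit (σ : K →+* K) (hσ : ∀ x, σ (σ x) = x) (a : ℕ → K) (ha : ∀ j, a j ≠ 0) (δ : K)
    (hδ : δ * σ δ = 1) :
    (Hm (dd m σ a δ) : Mn) * adj σ (Hm (dd m σ a δ)) = 1 := by
  rw [adj_Hm]
  exact Hm_mul_Hm _ _ (fun j hj => dd_unit σ hσ a ha δ hδ j hj)

theorem prod_dd (σ : K →+* K) (a : ℕ → K) (δ : K) :
    ∏ j : Fin (2 * m + 1), dd m σ a δ j.val = δ * ∏ j : Fin (2 * m + 1), dd m σ a 1 j.val := by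
  have e : ∀ j : Fin (2 * m + 1), dd m σ a δ j.val =
      (if j = ⟨m, by omega⟩ then δ else 1) * dd m σ a 1 j.val := by
    intro j
    unfold dd
    by_cases h1 : j.val < m
    · rw [if_pos h1, if_pos h1, if_neg (fun h => by rw [h] at h1; simp only at h1; omega), one_mul]
    · rw [if_neg h1, if_neg h1]
      by_cases h2 : j.val = m
      · rw [if_pos h2, if_pos h2, if_pos (Fin.ext h2), mul_one]
      · rw [if_neg h2, if_neg h2, if_neg (fun h => h2 (by rw [h])), one_mul]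
  rw [Finset.prod_congr rfl (fun j _ => e j), Finset.prod_mul_distrib,
    Finset.prod_ite_eq' Finset.univ (⟨m, by omega⟩ : Fin (2 * m + 1)) (fun _ => δ),
    if_pos (Finset.mem_univ _)]

/-- a middle entry of norm one making the determinant one -/
theorem exists_delta (σ : K →+* K) (hσ : ∀ x, σ (σ x) = x) (a : ℕ → K) (ha : ∀ j, a j ≠ 0) :
    ∃ δ : K, δ * σ δ = 1 ∧ (Hm (dd m σ a δ) : Mn).det = 1 := by
  obtain ⟨D, hD⟩ : ∃ D : K, D = (Hm (dd m σ a 1) : Mn).det := ⟨_, rfl⟩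
  have h1 : D * σ D = 1 := by
    have := congrArg Matrix.det (Hm_dd_unit (m := m) σ hσ a ha 1 (by rw [map_one, mul_one]))
    rwa [Matrix.det_mul, det_adjG, Matrix.det_one, ← hD] at this
  have hD0 : D ≠ 0 := left_ne_zero_of_mul_eq_one h1
  refine ⟨D⁻¹, ?_, ?_⟩
  · rw [map_inv₀, ← mul_inv, h1, inv_one]
  · rw [det_Hm, prod_dd, mul_left_comm, ← det_Hm, ← hD, inv_mul_cancel₀ hD0]

section group

variable [Finite K] {σ : K →+* K}

/-- the monomial element -/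
noncomputable def gmon (hσ : ∀ x, σ (σ x) = x) (a : ℕ → K) (ha : ∀ j, a j ≠ 0) (δ : K)
    (hδ : δ * σ δ = 1) (hdet : (Hm (dd m σ a δ) : Mn).det = 1) : GG (2 * m + 1) σ :=
  mk (Hm (dd m σ a δ)) hdet (Hm_dd_unit σ hσ a ha δ hδ)

theorem gmon_mulVec_ev (hσ : ∀ x, σ (σ x) = x) (a : ℕ → K) (ha : ∀ j, a j ≠ 0) (δ : K)
    (hδ : δ * σ δ = 1) (hdet : (Hm (dd m σ a δ) : Mn).det = 1) (j : ℕ) (hj : j ≤ 2 * m) :
    mt (gmon hσ a ha δ hδ hdet) *ᵥ (ev j : Vn) = dd m σ a δ j • ev (2 * m - j) := by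
  unfold gmon
  rw [mt_mk, Hm_mulVec_ev' _ j hj]

theorem dd_ne_zero (hσ : ∀ x, σ (σ x) = x) (a : ℕ → K) (ha : ∀ j, a j ≠ 0) (δ : K)
    (hδ : δ * σ δ = 1) (j : ℕ) : dd m σ a δ j ≠ 0 := by
  unfold dd
  by_cases h1 : j < m
  · rw [if_pos h1]
    exact inv_ne_zero (sigma_ne_zero hσ (ha _))
  · rw [if_neg h1]
    by_cases h2 : j = m
    · rw [if_pos h2]
      exact left_ne_zero_of_mul_eq_one hδ
    · rw [if_neg h2]
      exact ha j

theorem gmon_inv_mulVec_ev (hσ : ∀ x, σ (σ x) = x) (a : ℕ → K) (ha : ∀ j, a j ≠ 0) (δ : K)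
    (hδ : δ * σ δ = 1) (hdet : (Hm (dd m σ a δ) : Mn).det = 1) (j : ℕ) (hj : j ≤ 2 * m) :
    mt (gmon hσ a ha δ hδ hdet)⁻¹ *ᵥ (ev j : Vn) =
      (dd m σ a δ (2 * m - j))⁻¹ • ev (2 * m - j) := by
  have h1 := gmon_mulVec_ev hσ a ha δ hδ hdet (2 * m - j) (by omega)
  rw [show 2 * m - (2 * m - j) = j by omega] at h1
  have h2 : mt (gmon hσ a ha δ hδ hdet) *ᵥ ((dd m σ a δ (2 * m - j))⁻¹ • (ev (2 * m - j) : Vn))
      = ev j := by
    rw [Matrix.mulVec_smul, h1, smul_smul, inv_mul_cancel₀ (dd_ne_zero hσ a ha δ hδ _), one_smul]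
  exact inv_mulVec_eq _ _ _ h2

end group

end Cfsg.Agent.Lib.Helper7.RegUn
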