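import Mathlib
import Cfsg.Agent.Lib.Helper7.RegUnK
import Cfsg.Agent.H9.SUe

/-!
# `SU_{2m+1}(q)`: regularity of `J`, the third conjugate and the seed (helper7)
-/

set_option autoImplicit false

namespace Cfsg.Agent.Lib.Helper7.RegUn

open Matrix Cfsg.Agent.H9.SUa Cfsg.Agent.H9.SUc Cfsg.Agent.H9.SUi Cfsg.Agent.H9.SUm
  Cfsg.Agent.H9.SUe Cfsg.Agent.H9.SLnB Cfsg.Agent.H9.SpB Cfsg.Agent.Lib.Helper7.RegUnip

/-! ### unitriangular matrices with nonzero superdiagonal are regular -/

section regular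

variable {n : ℕ} {K : Type*} [Field K]

theorem Vk_pow_mulVec {u : Matrix (Fin n) (Fin n) K} (hu : IsUT u) (v : Fin n → K) (k j : ℕ)
    (hv : Vk (j + k) v) : Vk j ((u - 1) ^ k *ᵥ v) := by
  induction k generalizing j with
  | zero =>
    rw [pow_zero, Matrix.one_mulVec]
    exact hv
  | succ k ih =>
    rw [pow_succ', ← Matrix.mulVec_mulVec]
    apply Vk_sub_one_mulVec hu
    apply ih
    rw [add_assoc, add_comm 1 k]
    exact hv

theorem isNilpotent_sub_one_of_isUT {u : Matrix (Fin n) (Fin n) K} (hu : IsUT u) :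
    IsNilpotent (u - 1) := by
  refine ⟨n, ?_⟩
  apply Matrix.ext_of_mulVec_single
  intro j
  rw [Matrix.zero_mulVec]
  have h := Vk_pow_mulVec hu (Pi.single j 1) n 0 (fun l hl => by have := l.isLt; omega)
  funext l
  exact h l (Nat.zero_le _)

theorem sub_one_pow_ne_zero {u : Matrix (Fin n) (Fin n) K} (hu : IsUT u)
    (hs : ∀ (j : ℕ) (hj : j + 1 < n), u ⟨j, by omega⟩ ⟨j + 1, hj⟩ ≠ 0) (hn : 1 ≤ n) :
    (u - 1) ^ (n - 1) ≠ 0 := by
  have key : ∀ k j : ℕ, ∀ hj : j + k = n - 1,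
      ((u - 1) ^ k *ᵥ (ev (n - 1) : Fin n → K)) ⟨j, by omega⟩ ≠ 0 := by
    intro k
    induction k with
    | zero =>
      intro j hj
      rw [pow_zero, Matrix.one_mulVec, ev_apply, if_pos (by simp only; omega)]
      exact one_ne_zero
    | succ k ih =>
      intro j hj
      have h1 := ih (j + 1) (by omega)
      have h2 : Vk (j + 2) ((u - 1) ^ k *ᵥ (ev (n - 1) : Fin n → K)) := by
        apply Vk_pow_mulVec hu
        intro l hl
        have := l.isLt
        omega
      rw [pow_succ', ← Matrix.mulVec_mulVec]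
      have e : ((u - 1) *ᵥ ((u - 1) ^ k *ᵥ (ev (n - 1) : Fin n → K))) ⟨j, by omega⟩ =
          u ⟨j, by omega⟩ ⟨j + 1, by omega⟩ *
            ((u - 1) ^ k *ᵥ (ev (n - 1) : Fin n → K)) ⟨j + 1, by omega⟩ := by
        show ∑ l, (u - 1) ⟨j, by omega⟩ l * ((u - 1) ^ k *ᵥ (ev (n - 1) : Fin n → K)) l = _
        rw [Finset.sum_eq_single (⟨j + 1, by omega⟩ : Fin n)]
        · rw [Matrix.sub_apply, Matrix.one_apply, if_neg (by
            intro h
            have := congrArg Fin.val h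
            simp only at this
            omega), sub_zero]
        · intro l _ hl
          by_cases hlj : l.val ≤ j
          · rw [Matrix.sub_apply, hu ⟨j, by omega⟩ l (by rw [Fin.le_def]; exact hlj),
              Matrix.one_apply, sub_self, zero_mul]
          · have hl2 : j + 2 ≤ l.val := by
              rcases Nat.lt_or_ge l.val (j + 2) with h | h
              · exfalso
                apply hl
                apply Fin.ext
                simp only
                omega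
              · exact h
            rw [h2 l hl2, mul_zero]
        · intro h
          exact absurd (Finset.mem_univ _) h
      rw [e]
      exact mul_ne_zero (hs j (by omega)) h1
  intro h0
  have := key (n - 1) 0 (by omega)
  rw [h0, Matrix.zero_mulVec] at this
  exact this rfl

end regular

variable {m : ℕ} {K : Type*} [Field K] [Finite K] {σ : K →+* K}

local notation "Mn" => Matrix (Fin (2 * m + 1)) (Fin (2 * m + 1)) K
local notation "Vn" => Fin (2 * m + 1) → K

/-! ### regularity of `Jel` -/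

theorem Jel_superdiag (hσ : ∀ x, σ (σ x) = x) (hm : 1 ≤ m) (s₁ : K) (hs : s₁ + σ s₁ + 1 = 0)
    (j : ℕ) (hj : j + 1 < 2 * m + 1) :
    mt (Jel hσ hm s₁ hs) ⟨j, by omega⟩ ⟨j + 1, hj⟩ ≠ 0 := by
  have hcol : ∀ (l : ℕ) (hl : l < 2 * m + 1) (i : Fin (2 * m + 1)),
      mt (Jel hσ hm s₁ hs) i ⟨l, hl⟩ = (mt (Jel hσ hm s₁ hs) *ᵥ (ev l : Vn)) i := by
    intro l hl i
    rw [mulVec_ev _ l hl]
    rfl
  rw [hcol]
  rcases Nat.lt_or_ge j m with h1 | h1
  · rw [Jel_mulVec_ev_succ hσ hm s₁ hs j (by omega), Pi.add_apply, ev_apply, ev_apply,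
      if_neg (by simp only; omega), if_pos rfl, zero_add]
    exact one_ne_zero
  · rcases Nat.eq_or_lt_of_le h1 with h2 | h2
    · subst h2
      rw [Jel_mulVec_ev_mid hσ hm s₁ hs, Pi.add_apply, Pi.sub_apply, Pi.smul_apply, ev_apply,
        ev_apply, ev_apply, if_neg (by simp only; omega), if_pos rfl,
        if_neg (by simp only; omega), smul_zero, add_zero, zero_sub]
      exact neg_ne_zero.mpr one_ne_zero
    · have h3 := Jel_inv_mulVec_ev hσ hm s₁ hs (j + 1) (by omega) (by omega)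
      have h4 : mt (Jel hσ hm s₁ hs) *ᵥ (ev (j + 1) : Vn) =
          ev (j + 1) - mt (Jel hσ hm s₁ hs) *ᵥ ev (j + 1 - 1) := by
        have h5 := congrArg (fun v => mt (Jel hσ hm s₁ hs) *ᵥ v) h3
        beta_reduce at h5
        rw [Matrix.mulVec_mulVec, ← mt_mul, mul_inv_cancel, mt_one, Matrix.one_mulVec,
          Matrix.mulVec_add] at h5
        exact eq_sub_of_add_eq h5.symm
      rw [h4, Pi.sub_apply, ev_apply, if_neg (by simp only; omega), zero_sub,
        show j + 1 - 1 = j by omega, ← hcol j (by omega),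
        (Cfsg.Agent.H9.SUa.mem_US.mp (Jel_mem_US hσ hm s₁ hs)).diag]
      exact neg_ne_zero.mpr one_ne_zero

theorem Jel_regular (hσ : ∀ x, σ (σ x) = x) (hm : 1 ≤ m) (s₁ : K) (hs : s₁ + σ s₁ + 1 = 0) :
    IsNilpotent (mt (Jel hσ hm s₁ hs) - 1) ∧ (mt (Jel hσ hm s₁ hs) - 1) ^ (2 * m + 1 - 1) ≠ 0 :=
  ⟨isNilpotent_sub_one_of_isUT (Cfsg.Agent.H9.SUa.mem_US.mp (Jel_mem_US hσ hm s₁ hs)),
    sub_one_pow_ne_zero (Cfsg.Agent.H9.SUa.mem_US.mp (Jel_mem_US hσ hm s₁ hs))
      (fun j hj => Jel_superdiag hσ hm s₁ hs j hj) (by omega)⟩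

end Cfsg.Agent.Lib.Helper7.RegUn
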