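import Mathlib
import Cfsg.Agent.Lib.Helper7.RegUnL

/-!
# `SU_{2m+1}(q)`: conjugates by monomial elements and the seed (helper7)
-/

set_option autoImplicit false

namespace Cfsg.Agent.Lib.Helper7.RegUn

open Matrix Cfsg.Agent.H9.SUa Cfsg.Agent.H9.SUb Cfsg.Agent.H9.SUc Cfsg.Agent.H9.SUd
  Cfsg.Agent.H9.SUi
  Cfsg.Agent.H9.SUm Cfsg.Agent.H9.SLnB Cfsg.Agent.Lib.Helper7.RegUnip

variable {m : ℕ} {K : Type*} [Field K] [Finite K] {σ : K →+* K}

local notation "Mn" => Matrix (Fin (2 * m + 1)) (Fin (2 * m + 1)) K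
local notation "Vn" => Fin (2 * m + 1) → K

/-! ### conjugation by a monomial element -/

theorem conj_low {g J : GG (2 * m + 1) σ} {d : ℕ → K} (hd0 : ∀ j, d j ≠ 0)
    (hg : ∀ j, j ≤ 2 * m → mt g *ᵥ (ev j : Vn) = d j • ev (2 * m - j))
    (hginv : ∀ j, j ≤ 2 * m → mt g⁻¹ *ᵥ (ev j : Vn) = (d (2 * m - j))⁻¹ • ev (2 * m - j))
    (hJinv : ∀ l, m + 2 ≤ l → l ≤ 2 * m → mt J⁻¹ *ᵥ (ev l : Vn) = ev l + ev (l - 1))
    (j : ℕ) (hj : j + 2 ≤ m) :
    mt (g * J * g⁻¹)⁻¹ *ᵥ (ev j : Vn) =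
      ev j + (d (2 * m - j - 1) / d (2 * m - j)) • ev (j + 1) := by
  have e : (g * J * g⁻¹)⁻¹ = g * J⁻¹ * g⁻¹ := by group
  rw [e, mt_mul, mt_mul, ← Matrix.mulVec_mulVec, ← Matrix.mulVec_mulVec, hginv j (by omega),
    Matrix.mulVec_smul, hJinv (2 * m - j) (by omega) (by omega), Matrix.mulVec_smul,
    Matrix.mulVec_add, hg (2 * m - j) (by omega), hg (2 * m - j - 1) (by omega),
    show 2 * m - (2 * m - j) = j by omega, show 2 * m - (2 * m - j - 1) = j + 1 by omega,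
    smul_add, smul_smul, smul_smul, inv_mul_cancel₀ (hd0 _), one_smul, div_eq_inv_mul]

theorem conj_mid (hm : 1 ≤ m) {g J : GG (2 * m + 1) σ} {d : ℕ → K} (hd0 : ∀ j, d j ≠ 0)
    (hg : ∀ j, j ≤ 2 * m → mt g *ᵥ (ev j : Vn) = d j • ev (2 * m - j))
    (hginv : ∀ j, j ≤ 2 * m → mt g⁻¹ *ᵥ (ev j : Vn) = (d (2 * m - j))⁻¹ • ev (2 * m - j))
    {s₁ : K} (hJmid : mt J *ᵥ (ev (m + 1) : Vn) = ev (m + 1) - ev m + s₁ • ev (m - 1)) :
    mt (g * J * g⁻¹) *ᵥ (ev (m - 1) : Vn) =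
      ev (m - 1) + (-(d m / d (m + 1))) • ev m + (s₁ * d (m - 1) / d (m + 1)) • ev (m + 1) := by
  rw [mt_mul, mt_mul, ← Matrix.mulVec_mulVec, ← Matrix.mulVec_mulVec, hginv (m - 1) (by omega),
    show 2 * m - (m - 1) = m + 1 by omega, Matrix.mulVec_smul, hJmid, Matrix.mulVec_smul,
    Matrix.mulVec_add, Matrix.mulVec_sub, Matrix.mulVec_smul, hg (m + 1) (by omega),
    hg m (by omega), hg (m - 1) (by omega), show 2 * m - (m + 1) = m - 1 by omega,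
    show 2 * m - m = m by omega, show 2 * m - (m - 1) = m + 1 by omega]
  have h0 := hd0 (m + 1)
  have e1 : (d (m + 1))⁻¹ * d (m + 1) = 1 := inv_mul_cancel₀ h0
  rw [smul_add, smul_sub, smul_smul, smul_smul, smul_smul, smul_smul, e1, one_smul, neg_smul,
    div_eq_inv_mul, div_eq_inv_mul, ← sub_eq_add_neg]
  congr 2
  ring

/-! ### the products of the parameters -/

/-- the product of the first `k` parameters -/
def pr (b : ℕ → K) (k : ℕ) : K := ∏ i ∈ Finset.range k, b i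

omit [Finite K] in
theorem pr_succ (b : ℕ → K) (k : ℕ) : pr b (k + 1) = pr b k * b k := Finset.prod_range_succ _ _

omit [Finite K] in
theorem pr_ne_zero {b : ℕ → K} (hb : ∀ j, b j ≠ 0) (k : ℕ) : pr b k ≠ 0 :=
  Finset.prod_ne_zero_iff.mpr (fun i _ => hb i)

omit [Finite K] in
theorem pr_zero (b : ℕ → K) : pr b 0 = 1 := Finset.prod_range_zero _

/-- the upper half of the entries of the monomial element -/
def aa (m : ℕ) (b : ℕ → K) : ℕ → K := fun j => pr b (2 * m - j)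

omit [Finite K] in
theorem dd_upper (σ : K →+* K) (b : ℕ → K) (δ : K) (j : ℕ) (hj : m < j) :
    dd m σ (aa m b) δ j = pr b (2 * m - j) := by
  unfold dd aa
  rw [if_neg (by omega), if_neg (by omega)]

omit [Finite K] in
theorem dd_ratio (σ : K →+* K) {b : ℕ → K} (hb : ∀ j, b j ≠ 0) (δ : K) (j : ℕ) (hj : j + 2 ≤ m) :
    dd m σ (aa m b) δ (2 * m - j - 1) / dd m σ (aa m b) δ (2 * m - j) = b j := by
  rw [dd_upper σ b δ _ (by omega), dd_upper σ b δ _ (by omega),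
    show 2 * m - (2 * m - j - 1) = j + 1 by omega, show 2 * m - (2 * m - j) = j by omega, pr_succ,
    mul_div_cancel_left₀ _ (pr_ne_zero hb j)]

/-! ### the seed -/

theorem valid_seed (hm : 2 ≤ m) (γ : K) :
    Valid σ (⟨0, by omega⟩ : Fin (2 * m + 1)) ⟨2 * m - 1, by omega⟩ γ 0 := by
  refine ⟨?_, ?_, ?_, ?_⟩
  · intro e
    have := congrArg Fin.val e
    simp only at this
    omega
  · intro e
    have := congrArg Fin.val e
    rw [Fin.val_rev] at this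
    simp only at this
    omega
  · intro e
    have := congrArg Fin.val e
    rw [Fin.val_rev] at this
    simp only at this
    omega
  · rw [if_neg, map_zero, add_zero, add_zero]
    intro e
    have := congrArg Fin.val e
    rw [Fin.val_rev] at this
    simp only at this
    omega

/-- the conjugating element of the second conjugate -/
noncomputable def vel (hσ : ∀ x, σ (σ x) = x) (hm : 2 ≤ m) (γ : K) : GG (2 * m + 1) σ :=
  xx hσ ⟨0, by omega⟩ ⟨2 * m - 1, by omega⟩ γ 0 (valid_seed hm γ)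

theorem mt_vel (hσ : ∀ x, σ (σ x) = x) (hm : 2 ≤ m) (γ : K) :
    mt (vel hσ hm γ) = 1 + Hc σ (ev 0 : Vn) (ev 1) γ := by
  unfold vel
  rw [mt_xx, xM_eq_EM σ hσ, EM_eq, ← ev_eq_single 0 (by omega)]
  have e : (Pi.single (Fin.rev (⟨2 * m - 1, by omega⟩ : Fin (2 * m + 1))) (σ γ) : Vn)
      = σ γ • ev 1 := by
    rw [ev_eq_single 1 (by omega)]
    funext x
    rw [Pi.smul_apply, smul_eq_mul, Pi.single_apply, Pi.single_apply]
    have hr : (Fin.rev (⟨2 * m - 1, by omega⟩ : Fin (2 * m + 1))) = ⟨1, by omega⟩ := by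
      apply Fin.ext
      rw [Fin.val_rev]
      simp only
      omega
    rw [hr]
    by_cases hx : x = ⟨1, by omega⟩
    · rw [if_pos hx, if_pos hx, mul_one]
    · rw [if_neg hx, if_neg hx, mul_zero]
  rw [e, VV_smul_right, VV_smul_left, hσ, zero_smul, add_zero, Hc]
  abel

omit [Finite K] in
theorem adj_Hc (hσ : ∀ x, σ (σ x) = x) (a a' : Vn) (c : K) :
    adj σ (Hc σ a a' c) = -Hc σ a a' c := by
  unfold Hc
  rw [adj_sub, adj_smul, adj_smul, adj_VV σ hσ, adj_VV σ hσ, hσ]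
  abel

/-- the commutator of the seed element with `J` -/
theorem seed_mem {H : Subgroup (GG (2 * m + 1) σ)} (hσ : ∀ x, σ (σ x) = x) (hm : 2 ≤ m)
    {J : GG (2 * m + 1) σ} (hJ : J ∈ H) (hJ0 : mt J *ᵥ (ev 0 : Vn) = ev 0)
    (hJ1 : mt J *ᵥ (ev 1 : Vn) = ev 1 + ev 0) (γ : K)
    (hv : vel hσ hm γ * J * (vel hσ hm γ)⁻¹ ∈ H) :
    Hc σ (ev 0 : Vn) (ev 0) (-γ) ∈ Acal m H := by
  refine ⟨ZW_Hc σ (Wk_ev (by omega)) (Wk_ev (by omega)) _, ?_⟩
  refine ⟨vel hσ hm γ * J * (vel hσ hm γ)⁻¹ * J⁻¹, H.mul_mem hv (H.inv_mem hJ), ?_⟩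
  have hN : ZW m (Hc σ (ev 0 : Vn) (ev 1) γ) := ZW_Hc σ (Wk_ev (by omega)) (Wk_ev (by omega)) _
  have hN0 : ZW m (Hc σ (ev 0 : Vn) (ev 0) γ) := ZW_Hc σ (Wk_ev (by omega)) (Wk_ev (by omega)) _
  have e1 : mt J * (1 - Hc σ (ev 0 : Vn) (ev 1) γ) * adj σ (mt J)
      = 1 - (Hc σ (ev 0 : Vn) (ev 1) γ + Hc σ (ev 0 : Vn) (ev 0) γ) := by
    rw [Matrix.mul_sub, Matrix.sub_mul, Matrix.mul_one, mt_unit, conj_Hc, hJ0, hJ1, Hc_add_right]
  rw [mt_mul, mt_mul, mt_mul, mt_inv, mt_inv, mt_vel, adj_add, adj_one, adj_Hc hσ,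
    ← sub_eq_add_neg, Matrix.mul_assoc, Matrix.mul_assoc, ← Matrix.mul_assoc (mt J), e1,
    Matrix.add_mul, Matrix.one_mul, Matrix.mul_sub, Matrix.mul_one, Matrix.mul_add,
    hN.mul_eq_zero hN, hN.mul_eq_zero hN0, Hc_neg_param]
  abel

end Cfsg.Agent.Lib.Helper7.RegUn
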