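import Mathlib
import Cfsg.Agent.Lib.Helper7.RegUnM
import Cfsg.Agent.Lib.Helper5.SUTransB

/-!
# `SU_{2m+1}(q)`, `m ≥ 2`: three conjugate regular unipotent elements generate (helper7)

The assembly in helper9's model `GG (2m+1) σ`.
-/

set_option autoImplicit false

namespace Cfsg.Agent.Lib.Helper7.RegUn

open Matrix Cfsg.Agent.H9.SUa Cfsg.Agent.H9.SUb Cfsg.Agent.H9.SUc Cfsg.Agent.H9.SUd
  Cfsg.Agent.H9.SUi Cfsg.Agent.H9.SUm Cfsg.Agent.H9.SLnB Cfsg.Agent.Lib.Helper7.RegUnip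

variable {m : ℕ} {K : Type*} [Field K] [Finite K] {σ : K →+* K}

local notation "Mn" => Matrix (Fin (2 * m + 1)) (Fin (2 * m + 1)) K
local notation "Vn" => Fin (2 * m + 1) → K

omit [Finite K] in
theorem exists_omega (hσ : ∀ x, σ (σ x) = x) (hx0 : ∃ x, σ x ≠ x) :
    ∃ ω : K, ω + σ ω = 1 ∧ σ ω ≠ ω := by
  obtain ⟨θ, hθ⟩ := exists_theta hσ hx0
  by_cases h : σ θ = θ
  · obtain ⟨ε, hε0, hε⟩ := exists_eps hσ hx0
    refine ⟨θ + ε, ?_, ?_⟩
    · rw [map_add]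
      linear_combination hθ + hε
    · rw [map_add, h]
      intro h1
      have h2 : σ ε = ε := add_left_cancel h1
      have h3 : (2 : K) * ε = 0 := by
        rw [h2] at hε
        linear_combination hε
      have h4 : (2 : K) * θ = 1 := by
        rw [h] at hθ
        linear_combination hθ
      have h5 : (2 : K) ≠ 0 := left_ne_zero_of_mul_eq_one h4
      rcases mul_eq_zero.mp h3 with h6 | h6
      · exact h5 h6
      · exact hε0 h6
  · exact ⟨θ, hθ, h⟩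

/-- the long root elements of the subgroup generated by three conjugates of `J` -/
theorem gen_transvections (hσ : ∀ x, σ (σ x) = x) (hx0 : ∃ x, σ x ≠ x) (hm : 2 ≤ m) {ζ : K}
    (hζ0 : ζ ≠ 0) (hζ : ∀ f : K, σ f = f → f ≠ 0 → ∃ k : ℕ, f = (ζ * σ ζ) ^ k) :
    ∃ u g h : GG (2 * m + 1) σ,
      (IsNilpotent (mt u - 1) ∧ (mt u - 1) ^ (2 * m + 1 - 1) ≠ 0) ∧
      ∀ (v : Vn) (s : K), hf σ v v = 0 → s + σ s = 0 →
        ∃ x ∈ Subgroup.closure ({u, g * u * g⁻¹, h * u * h⁻¹} : Set (GG (2 * m + 1) σ)),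
          mt x = EM σ v 0 s := by
  obtain ⟨ω, hω1, hω2⟩ := exists_omega hσ hx0
  have hω0 : ω ≠ 0 := by
    intro h0
    apply hω2
    rw [h0, map_zero]
  obtain ⟨s₁, hs₁⟩ : ∃ s₁ : K, s₁ = -ω := ⟨_, rfl⟩
  have hs : s₁ + σ s₁ + 1 = 0 := by
    rw [hs₁, map_neg]
    linear_combination -hω1
  have hs0 : s₁ ≠ 0 := by
    rw [hs₁]
    exact neg_ne_zero.mpr hω0
  have hsd : s₁ - σ s₁ ≠ 0 := by
    rw [hs₁, map_neg]
    intro h0
    apply hω2
    linear_combination h0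
  -- the parameters of the third conjugate
  obtain ⟨b, hbdef⟩ : ∃ b : ℕ → K, b = if m = 2 then (fun _ => (1 : K)) else
      (fun j => if j = 0 then ζ else if j = 1 then σ (ω / ζ) else 1) := ⟨_, rfl⟩
  have hb : ∀ j, b j ≠ 0 := by
    intro j
    rw [hbdef]
    by_cases h2 : m = 2
    · rw [if_pos h2]
      exact one_ne_zero
    · rw [if_neg h2]
      by_cases h0 : j = 0
      · rw [if_pos h0]
        exact hζ0
      · rw [if_neg h0]
        by_cases h1 : j = 1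
        · rw [if_pos h1]
          exact sigma_ne_zero hσ (div_ne_zero hω0 hζ0)
        · rw [if_neg h1]
          exact one_ne_zero
  have ha : ∀ j, aa m b j ≠ 0 := fun j => pr_ne_zero hb _
  obtain ⟨δ, hδ, hdet⟩ := exists_delta (m := m) σ hσ (aa m b) ha
  obtain ⟨d, hd⟩ : ∃ d : ℕ → K, d = dd m σ (aa m b) δ := ⟨_, rfl⟩
  have hd0 : ∀ j, d j ≠ 0 := by
    intro j
    rw [hd]
    exact dd_ne_zero hσ _ ha δ hδ j
  obtain ⟨g, hg, hginv⟩ : ∃ g : GG (2 * m + 1) σ,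
      (∀ j, j ≤ 2 * m → mt g *ᵥ (ev j : Vn) = d j • ev (2 * m - j)) ∧
      (∀ j, j ≤ 2 * m → mt g⁻¹ *ᵥ (ev j : Vn) = (d (2 * m - j))⁻¹ • ev (2 * m - j)) := by
    refine ⟨gmon hσ (aa m b) ha δ hδ hdet, ?_, ?_⟩
    · intro j hj
      rw [hd]
      exact gmon_mulVec_ev hσ _ ha δ hδ hdet j hj
    · intro j hj
      rw [hd]
      exact gmon_inv_mulVec_ev hσ _ ha δ hδ hdet j hj
  have hm1 : 1 ≤ m := by omega
  obtain ⟨J, hJU, hJ0, hJs, hJmid, hJinv, hJreg⟩ : ∃ J : GG (2 * m + 1) σ,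
      J ∈ US (2 * m + 1) σ ∧ mt J *ᵥ (ev 0 : Vn) = ev 0 ∧
      (∀ k, k + 1 ≤ m → mt J *ᵥ (ev (k + 1) : Vn) = ev (k + 1) + ev k) ∧
      mt J *ᵥ (ev (m + 1) : Vn) = ev (m + 1) - ev m + s₁ • ev (m - 1) ∧
      (∀ l, m + 2 ≤ l → l ≤ 2 * m → mt J⁻¹ *ᵥ (ev l : Vn) = ev l + ev (l - 1)) ∧
      (IsNilpotent (mt J - 1) ∧ (mt J - 1) ^ (2 * m + 1 - 1) ≠ 0) :=
    ⟨Jel hσ hm1 s₁ hs, Jel_mem_US hσ hm1 s₁ hs, Jel_mulVec_ev_zero hσ hm1 s₁ hs,
      Jel_mulVec_ev_succ hσ hm1 s₁ hs, Jel_mulVec_ev_mid hσ hm1 s₁ hs,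
      Jel_inv_mulVec_ev hσ hm1 s₁ hs, Jel_regular hσ hm1 s₁ hs⟩
  -- the seed
  obtain ⟨r, hr⟩ : ∃ r : K, r = (ζ * σ ζ) / (s₁ - σ s₁) := ⟨_, rfl⟩
  have hr0 : r ≠ 0 := by
    rw [hr]
    exact div_ne_zero (mul_ne_zero hζ0 (sigma_ne_zero hσ hζ0)) hsd
  have hrσ : σ r = -r := by
    rw [hr, map_div₀, sigma_norm hσ, map_sub, hσ, ← neg_sub s₁ (σ s₁), div_neg]
  obtain ⟨c₀, hc₀⟩ : ∃ c₀ : K, c₀ = ω * r := ⟨_, rfl⟩
  have hc₀r : c₀ - σ c₀ = r := by
    rw [hc₀, map_mul, hrσ]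
    linear_combination r * hω1
  have hrs : r * (s₁ - σ s₁) = ζ * σ ζ := by
    rw [hr, div_mul_cancel₀ _ hsd]
  obtain ⟨v, hv⟩ : ∃ v : GG (2 * m + 1) σ, v = vel hσ hm (-c₀) := ⟨_, rfl⟩
  refine ⟨J, v, g, hJreg, ?_⟩
  obtain ⟨H, hH⟩ : ∃ H : Subgroup (GG (2 * m + 1) σ),
      H = Subgroup.closure ({J, v * J * v⁻¹, g * J * g⁻¹} : Set (GG (2 * m + 1) σ)) := ⟨_, rfl⟩
  rw [← hH]
  have hJH : J ∈ H := by
    rw [hH]
    exact Subgroup.subset_closure (by simp)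
  have hvH : v * J * v⁻¹ ∈ H := by
    rw [hH]
    exact Subgroup.subset_closure (by simp)
  have hLH : g * J * g⁻¹ ∈ H := by
    rw [hH]
    exact Subgroup.subset_closure (by simp)
  have hJ1 : mt J *ᵥ (ev 1 : Vn) = ev 1 + ev 0 := by
    have := hJs 0 (by omega)
    rwa [zero_add] at this
  have hseed : Hc σ (ev 0 : Vn) (ev 0) c₀ ∈ Acal m H := by
    have := seed_mem hσ hm hJH hJ0 hJ1 (-c₀) (by rw [← hv]; exact hvH)
    rwa [neg_neg] at this
  -- the climb structure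
  have hclimb : Climb H J (g * J * g⁻¹)⁻¹ b :=
    { hσ := hσ
      hm := hm
      hb := hb
      hJ := hJH
      hJU := hJU
      hJ0 := hJ0
      hJs := hJs
      hL := H.inv_mem hLH
      hLs := by
        intro j hj
        rw [conj_low hd0 hg hginv hJinv j hj, hd, dd_ratio σ hb δ j hj] }
  -- the middle vector
  have hLm := conj_mid hm1 hd0 hg hginv hJmid
  have hκ0 : s₁ * d (m - 1) / d (m + 1) ≠ 0 :=
    div_ne_zero (mul_ne_zero hs0 (hd0 _)) (hd0 _)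
  -- the base of the climb
  have hK1 : Known σ H 1 := by
    by_cases h2 : m = 2
    · have hb0 : b 0 = 1 := by rw [hbdef, if_pos h2]
      have hLLt : mt (g * J * g⁻¹) * mt (g * J * g⁻¹)⁻¹ = 1 := by
        rw [← mt_mul, mul_inv_cancel, mt_one]
      have e1 : m - 1 = 1 := by omega
      rw [e1] at hLm
      have hd3 : d (m + 1) = 1 := by
        rw [hd, dd_upper σ b δ _ (by omega), show 2 * m - (m + 1) = 1 by omega, pr_succ, pr_zero,
          hb0, one_mul]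
      have hd1 : d 1 = 1 := by
        rw [hd]
        unfold dd aa
        rw [if_pos (by omega), show 2 * m - (2 * m - 1) = 1 by omega, pr_succ, pr_zero, hb0, one_mul,
          map_one, inv_one]
      rw [hd3, hd1, mul_one, div_one, div_one] at hLm
      have hy0 : hf σ (ev 0 : Vn) (mt (g * J * g⁻¹) *ᵥ (ev 1 : Vn)) = 0 := by
        rw [hLm, hf_add_right, hf_add_right, hf_smul_right, hf_smul_right,
          hf_ev_ev σ _ _ (by omega) (by omega), hf_ev_ev σ _ _ (by omega) (by omega),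
          hf_ev_ev σ _ _ (by omega) (by omega), if_neg (by omega), if_neg (by omega),
          if_neg (by omega), mul_zero, mul_zero, add_zero, add_zero]
      have hκ : hf σ (ev 1 : Vn) (mt (g * J * g⁻¹) *ᵥ (ev 1 : Vn)) = σ s₁ := by
        rw [hLm, hf_add_right, hf_add_right, hf_smul_right, hf_smul_right,
          hf_ev_ev σ _ _ (by omega) (by omega), hf_ev_ev σ _ _ (by omega) (by omega),
          hf_ev_ev σ _ _ (by omega) (by omega), if_neg (by omega), if_neg (by omega),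
          if_pos (by omega), mul_zero, mul_one, add_zero, zero_add]
      refine hclimb.base2 hx0 hb0 hLH hLLt rfl hy0 hκ ?_ (c₀ := c₀) ?_ ?_ hseed
      · rw [hσ]
        intro h0
        have : (1 : K) = 0 := by linear_combination hs - h0
        exact one_ne_zero this
      · rw [hc₀r]
        exact hr0
      · rw [hc₀r, hσ, hrs]
        exact hζ
    · have hm3 : 3 ≤ m := by omega
      have hb0 : b 0 = ζ := by
        rw [hbdef, if_neg h2, if_pos rfl]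
      have hb1 : b 1 = σ (ω / ζ) := by
        rw [hbdef, if_neg h2, if_neg (by omega), if_pos rfl]
      have hbω : b 0 * σ (b 1) = ω := by
        rw [hb0, hb1, hσ, mul_div_cancel₀ _ hζ0]
      refine hclimb.base3 hm3 hx0 ?_ ?_ ?_ (c₀ := c₀) ?_ hseed
      · rw [hb0]
        exact hζ
      · rw [hbω]
        exact hω1
      · rw [hbω]
        exact hω2
      · rw [hc₀r]
        exact hr0
  -- the second stage
  have hF : Frame H J (g * J * g⁻¹) (g * J * g⁻¹)⁻¹ b s₁ (-(d m / d (m + 1)))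
      (s₁ * d (m - 1) / d (m + 1)) :=
    { climb := hclimb
      hx0 := hx0
      hLH := hLH
      hLLt := rfl
      hJm := hJmid
      hLm := hLm
      hκ := hκ0
      hall := fun a a' ha ha' c => hclimb.all hK1 ha ha' c }
  obtain ⟨u, w, huu, hww, hwu, hu, hw⟩ := hF.pair
  exact Cfsg.Agent.Lib.Helper5.SUTrans.trans_all hσ hx0 H u w huu hww hwu hu hw

end Cfsg.Agent.Lib.Helper7.RegUn
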