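import Mathlib
import Cfsg.Agent.Lib.Helper7.RegUnN

/-!
# `SU_n(q)`, `n = 2m+1 ≥ 5`: three conjugate regular unipotents, in the standard form (helper7)
-/

set_option autoImplicit false

namespace Cfsg.Agent.Lib.Helper7.RegUn

open Matrix Cfsg.Agent.H9.SUa Cfsg.Agent.H9.SUc Cfsg.Agent.H9.SUm

section conj

variable {n : ℕ} {K : Type*} [Field K]

theorem conj_sub_one_powN (P Q M : Matrix (Fin n) (Fin n) K) (hPQ : P * Q = 1) (hQP : Q * P = 1)
    (k : ℕ) : (P * M * Q - 1) ^ k = P * (M - 1) ^ k * Q := by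
  have h1 : P * M * Q - 1 = P * (M - 1) * Q := by
    rw [Matrix.mul_sub, Matrix.sub_mul, Matrix.mul_one, hPQ]
  rw [h1]
  induction k with
  | zero => rw [pow_zero, pow_zero, Matrix.mul_one, hPQ]
  | succ k ih =>
    rw [pow_succ, ih, pow_succ]
    calc P * (M - 1) ^ k * Q * (P * (M - 1) * Q)
        = P * (M - 1) ^ k * (Q * P) * (M - 1) * Q := by simp only [Matrix.mul_assoc]
      _ = P * ((M - 1) ^ k * (M - 1)) * Q := by
        rw [hQP, Matrix.mul_one]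
        simp only [Matrix.mul_assoc]

end conj

/-- a generator of the multiplicative group gives a generator of the fixed field by the norm -/
theorem exists_norm_gen {K : Type*} [Field K] [Fintype K] {q : ℕ}
    (hK : Fintype.card K = q ^ 2) :
    ∃ ζ : K, ζ ≠ 0 ∧ ∀ f : K, frob hK f = f → f ≠ 0 → ∃ k : ℕ, f = (ζ * frob hK ζ) ^ k := by
  obtain ⟨ζ, hζ⟩ := IsCyclic.exists_generator (α := Kˣ)
  refine ⟨(ζ : K), ζ.ne_zero, ?_⟩
  intro f hf hf0
  obtain ⟨t, ht⟩ := norm_surj hK f hf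
  have ht0 : t ≠ 0 := by
    intro h0
    apply hf0
    rw [← ht, h0, zero_mul]
  have h1 := hζ (Units.mk0 t ht0)
  rw [← mem_powers_iff_mem_zpowers] at h1
  obtain ⟨k, hk⟩ := h1
  refine ⟨k, ?_⟩
  have h2 : ((ζ : K)) ^ k = t := by
    have := congrArg (fun u : Kˣ => (u : K)) hk
    simpa using this
  rw [mul_pow, ← map_pow, h2, ht]

theorem transportN {K : Type*} [Field K] [Fintype K] {q : ℕ} (hK : Fintype.card K = q ^ 2)
    (n : ℕ)
    (h : ∃ u g h : GG n (frob hK), (IsNilpotent (mt u - 1) ∧ (mt u - 1) ^ (n - 1) ≠ 0) ∧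
      Subgroup.closure ({u, g * u * g⁻¹, h * u * h⁻¹} : Set (GG n (frob hK))) = ⊤) :
    ∃ u g h : ↥(Cfsg.SU n K q),
      (IsNilpotent (((u : Matrix.SpecialLinearGroup (Fin n) K) : Matrix (Fin n) (Fin n) K) - 1) ∧
        (((u : Matrix.SpecialLinearGroup (Fin n) K) : Matrix (Fin n) (Fin n) K) - 1) ^ (n - 1)
          ≠ 0) ∧
      Subgroup.closure ({u, g * u * g⁻¹, h * u * h⁻¹} : Set ↥(Cfsg.SU n K q)) = ⊤ := by
  obtain ⟨u, g, h', ⟨hnil, hne⟩, hgen⟩ := h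
  obtain ⟨l, hl⟩ := norm_surj hK (-1) (by rw [map_neg, map_one])
  obtain ⟨θ, hθ⟩ := Cfsg.Agent.H9.SUd.exists_theta (frob_invol hK) (exists_frob_ne hK)
  obtain ⟨φ, hφ⟩ : ∃ φ : GG n (frob hK) →* Cfsg.SU n K q, φ = toSU hK l θ hl hθ := ⟨_, rfl⟩
  have hφs : Function.Surjective φ := by rw [hφ]; exact toSU_surjective hK l θ hl hθ
  have hPQ := PB_mul_inv (n := n) hK l θ hl hθ
  have hQP := PB_inv_mul (n := n) hK l θ hl hθ
  have hval : ((φ u : Matrix.SpecialLinearGroup (Fin n) K) : Matrix (Fin n) (Fin n) K) =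
      PB (frob hK) l θ * mt u * (PB (frob hK) l θ)⁻¹ := by
    rw [hφ]
    exact toSU_val hK l θ hl hθ u
  refine ⟨φ u, φ g, φ h', ⟨?_, ?_⟩, ?_⟩
  · obtain ⟨k, hk⟩ := hnil
    refine ⟨k, ?_⟩
    rw [hval, conj_sub_one_powN _ _ _ hPQ hQP, hk, Matrix.mul_zero, Matrix.zero_mul]
  · intro h0
    apply hne
    rw [hval, conj_sub_one_powN _ _ _ hPQ hQP] at h0
    have h1 : (mt u - 1) ^ (n - 1) = (PB (frob hK) l θ)⁻¹ *
        (PB (frob hK) l θ * (mt u - 1) ^ (n - 1) * (PB (frob hK) l θ)⁻¹) * PB (frob hK) l θ := by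
      rw [Matrix.mul_assoc, Matrix.mul_assoc, Matrix.mul_assoc, hQP, Matrix.mul_one,
        ← Matrix.mul_assoc, hQP, Matrix.one_mul]
    rw [h1, h0, Matrix.mul_zero, Matrix.zero_mul]
  · have h1 : Subgroup.map φ (Subgroup.closure
        ({u, g * u * g⁻¹, h' * u * h'⁻¹} : Set (GG n (frob hK)))) = ⊤ := by
      rw [hgen]
      exact Subgroup.map_top_of_surjective φ hφs
    rw [MonoidHom.map_closure] at h1
    rw [← h1]
    congr 1
    ext x
    simp only [Set.image_insert_eq, Set.image_singleton, map_mul, map_inv]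

/-- the main theorem for `n = 2m + 1 ≥ 5` -/
theorem main_odd {K : Type*} [Field K] [Fintype K] {q : ℕ} (hK : Fintype.card K = q ^ 2)
    (m : ℕ) (hm : 2 ≤ m) :
    ∃ u g h : ↥(Cfsg.SU (2 * m + 1) K q),
      (IsNilpotent (((u : Matrix.SpecialLinearGroup (Fin (2 * m + 1)) K) :
          Matrix (Fin (2 * m + 1)) (Fin (2 * m + 1)) K) - 1) ∧
        (((u : Matrix.SpecialLinearGroup (Fin (2 * m + 1)) K) :
          Matrix (Fin (2 * m + 1)) (Fin (2 * m + 1)) K) - 1) ^ (2 * m + 1 - 1) ≠ 0) ∧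
      Subgroup.closure ({u, g * u * g⁻¹, h * u * h⁻¹} : Set ↥(Cfsg.SU (2 * m + 1) K q)) = ⊤ := by
  apply transportN hK
  obtain ⟨ζ, hζ0, hζ⟩ := exists_norm_gen hK
  obtain ⟨u, g, h, hreg, hgen⟩ := gen_transvections (m := m) (frob_invol hK) (exists_frob_ne hK)
    hm hζ0 hζ
  refine ⟨u, g, h, hreg, ?_⟩
  apply Cfsg.Agent.Lib.Helper5.SUTrans.link hK (2 * m + 1) (by omega) (by omega)
  exact hgen

end Cfsg.Agent.Lib.Helper7.RegUn
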