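import Mathlib
import Cfsg.Agent.Lib.Helper7.Ord2A
import Cfsg.Agent.Lib.Helper7.OrdC

/-!
# S4274: no simple group of order `19 * m` for the easy divisors `m` of `9240`

(author: helper7; the case list is generated by a script.)  For `m ∣ 9240`, `m ≠ 1, 9240` and
`m ∉ {420, 840, 924, 1848, 3080, 4620}` there is no simple group of order `19 * m`: Burnside's
`p^a q^b` theorem, the Sylow-counting engine `Ord.kb` (index bound, `N = C` transfer, the
`n_p = p + 1` test), the parity kill, and the four-group transfer `S0992`.
-/

set_option autoImplicit false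
set_option maxRecDepth 100000
set_option maxHeartbeats 4000000

namespace Cfsg.Agent.Lib.Helper7.S4274

open Cfsg.Agent.Lib.Helper7.Ord Cfsg.Agent.Lib.Helper7.Ord2

section
variable {H : Type*} [Group H] [Finite H] [IsSimpleGroup H]

omit [Finite H] in
/-- a simple group of non-prime order is not commutative -/
theorem not_comm_of_not_prime (hnp : ¬ (Nat.card H).Prime) : ¬ IsMulCommutative H := by
  intro hc
  have hcomm : ∀ a b : H, a * b = b * a := fun a b => hc.is_comm.comm a b
  let _ : CommGroup H := { (inferInstance : Group H) with mul_comm := hcomm }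
  exact hnp (IsSimpleGroup.prime_card (α := H))

/-- no simple group of order `2 * odd` (other than `2`) -/
theorem kill_two_odd (m : ℕ) (hn : Nat.card H = 2 ^ 1 * m) (hpm : ¬ 2 ∣ m) (hm : m ≠ 1) : False :=
  haveI : Fact (Nat.Prime 2) := ⟨Nat.prime_two⟩
  false_of_killed 2 1 m hn hpm one_pos hm (Or.inr (Or.inl ⟨rfl, Nat.coprime_one_right _⟩))

theorem no_simple_19m (m : ℕ) (hm : m ∣ 9240) (h1 : m ≠ 1) (h2 : m ≠ 9240)
    (hs : m ∉ ({420, 840, 924, 1848, 3080, 4620} : Finset ℕ)) : Nat.card H ≠ 19 * m := by
  intro hn
  have hG : ¬ IsMulCommutative H := by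
    apply not_comm_of_not_prime
    rw [hn]
    exact Nat.not_prime_mul (by norm_num) h1
  have h : m ∈ Nat.divisors 9240 := Nat.mem_divisors.mpr ⟨hm, by norm_num⟩
  simp only [Nat.divisors_ofNat, Finset.mem_insert, Finset.mem_singleton] at h
  rcases h with rfl | rfl | rfl | rfl | rfl | rfl | rfl | rfl | rfl | rfl | rfl | rfl | rfl | rfl | rfl | rfl | rfl | rfl | rfl | rfl | rfl | rfl | rfl | rfl | rfl | rfl | rfl | rfl | rfl | rfl | rfl | rfl | rfl | rfl | rfl | rfl | rfl | rfl | rfl | rfl | rfl | rfl | rfl | rfl | rfl | rfl | rfl | rfl | rfl | rfl | rfl | rfl | rfl | rfl | rfl | rfl | rfl | rfl | rfl | rfl | rfl | rfl | rfl | rfl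
  · -- m = 1, order 19
    exact h1 rfl
  · -- m = 2, order 38
    have hn' : Nat.card H = 38 := by rw [hn]
    exact two_prime_kill hG 2 19 1 1 (by norm_num) (by norm_num) (by rw [hn']; norm_num) (by rw [hn']; decide)
  · -- m = 3, order 57
    have hn' : Nat.card H = 57 := by rw [hn]
    exact two_prime_kill hG 3 19 1 1 (by norm_num) (by norm_num) (by rw [hn']; norm_num) (by rw [hn']; decide)
  · -- m = 4, order 76
    have hn' : Nat.card H = 76 := by rw [hn]
    exact two_prime_kill hG 2 19 2 1 (by norm_num) (by norm_num) (by rw [hn']; norm_num) (by rw [hn']; decide)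
  · -- m = 5, order 95
    have hn' : Nat.card H = 95 := by rw [hn]
    exact two_prime_kill hG 5 19 1 1 (by norm_num) (by norm_num) (by rw [hn']; norm_num) (by rw [hn']; decide)
  · -- m = 6, order 114
    have hn' : Nat.card H = 114 := by rw [hn]
    exact kill_two_odd 57 (by rw [hn']; norm_num) (by decide) (by decide)
  · -- m = 7, order 133
    have hn' : Nat.card H = 133 := by rw [hn]
    exact two_prime_kill hG 7 19 1 1 (by norm_num) (by norm_num) (by rw [hn']; norm_num) (by rw [hn']; decide)
  · -- m = 8, order 152
    have hn' : Nat.card H = 152 := by rw [hn]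
    exact two_prime_kill hG 2 19 3 1 (by norm_num) (by norm_num) (by rw [hn']; norm_num) (by rw [hn']; decide)
  · -- m = 10, order 190
    have hn' : Nat.card H = 190 := by rw [hn]
    exact kill_two_odd 95 (by rw [hn']; norm_num) (by decide) (by decide)
  · -- m = 11, order 209
    have hn' : Nat.card H = 209 := by rw [hn]
    exact two_prime_kill hG 11 19 1 1 (by norm_num) (by norm_num) (by rw [hn']; norm_num) (by rw [hn']; decide)
  · -- m = 12, order 228
    have hn' : Nat.card H = 228 := by rw [hn]
    exact kb 19 1 12 (by norm_num) (by rw [hn']; norm_num) (by norm_num) (by norm_num) (by norm_num) (by decide)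
  · -- m = 14, order 266
    have hn' : Nat.card H = 266 := by rw [hn]
    exact kill_two_odd 133 (by rw [hn']; norm_num) (by decide) (by decide)
  · -- m = 15, order 285
    have hn' : Nat.card H = 285 := by rw [hn]
    exact kb 19 1 15 (by norm_num) (by rw [hn']; norm_num) (by norm_num) (by norm_num) (by norm_num) (by decide)
  · -- m = 20, order 380
    have hn' : Nat.card H = 380 := by rw [hn]
    exact kb 19 1 20 (by norm_num) (by rw [hn']; norm_num) (by norm_num) (by norm_num) (by norm_num) (by decide)
  · -- m = 21, order 399
    have hn' : Nat.card H = 399 := by rw [hn]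
    exact kb 19 1 21 (by norm_num) (by rw [hn']; norm_num) (by norm_num) (by norm_num) (by norm_num) (by decide)
  · -- m = 22, order 418
    have hn' : Nat.card H = 418 := by rw [hn]
    exact kill_two_odd 209 (by rw [hn']; norm_num) (by decide) (by decide)
  · -- m = 24, order 456
    have hn' : Nat.card H = 456 := by rw [hn]
    exact kb 19 1 24 (by norm_num) (by rw [hn']; norm_num) (by norm_num) (by norm_num) (by norm_num) (by decide)
  · -- m = 28, order 532
    have hn' : Nat.card H = 532 := by rw [hn]
    exact kb 19 1 28 (by norm_num) (by rw [hn']; norm_num) (by norm_num) (by norm_num) (by norm_num) (by decide)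
  · -- m = 30, order 570
    have hn' : Nat.card H = 570 := by rw [hn]
    exact kill_two_odd 285 (by rw [hn']; norm_num) (by decide) (by decide)
  · -- m = 33, order 627
    have hn' : Nat.card H = 627 := by rw [hn]
    exact kb 19 1 33 (by norm_num) (by rw [hn']; norm_num) (by norm_num) (by norm_num) (by norm_num) (by decide)
  · -- m = 35, order 665
    have hn' : Nat.card H = 665 := by rw [hn]
    exact kb 19 1 35 (by norm_num) (by rw [hn']; norm_num) (by norm_num) (by norm_num) (by norm_num) (by decide)
  · -- m = 40, order 760
    have hn' : Nat.card H = 760 := by rw [hn]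
    exact kb 19 1 40 (by norm_num) (by rw [hn']; norm_num) (by norm_num) (by norm_num) (by norm_num) (by decide)
  · -- m = 42, order 798
    have hn' : Nat.card H = 798 := by rw [hn]
    exact kill_two_odd 399 (by rw [hn']; norm_num) (by decide) (by decide)
  · -- m = 44, order 836
    have hn' : Nat.card H = 836 := by rw [hn]
    exact kb 19 1 44 (by norm_num) (by rw [hn']; norm_num) (by norm_num) (by norm_num) (by norm_num) (by decide)
  · -- m = 55, order 1045
    have hn' : Nat.card H = 1045 := by rw [hn]
    exact kb 19 1 55 (by norm_num) (by rw [hn']; norm_num) (by norm_num) (by norm_num) (by norm_num) (by decide)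
  · -- m = 56, order 1064
    have hn' : Nat.card H = 1064 := by rw [hn]
    exact kb 19 1 56 (by norm_num) (by rw [hn']; norm_num) (by norm_num) (by norm_num) (by norm_num) (by decide)
  · -- m = 60, order 1140
    have hn' : Nat.card H = 1140 := by rw [hn]
    exact kb 5 1 228 (by norm_num) (by rw [hn']; norm_num) (by norm_num) (by norm_num) (by norm_num) (by decide)
  · -- m = 66, order 1254
    have hn' : Nat.card H = 1254 := by rw [hn]
    exact kill_two_odd 627 (by rw [hn']; norm_num) (by decide) (by decide)
  · -- m = 70, order 1330
    have hn' : Nat.card H = 1330 := by rw [hn]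
    exact kill_two_odd 665 (by rw [hn']; norm_num) (by decide) (by decide)
  · -- m = 77, order 1463
    have hn' : Nat.card H = 1463 := by rw [hn]
    exact kb 19 1 77 (by norm_num) (by rw [hn']; norm_num) (by norm_num) (by norm_num) (by norm_num) (by decide)
  · -- m = 84, order 1596
    have hn' : Nat.card H = 1596 := by rw [hn]
    exact kb 19 1 84 (by norm_num) (by rw [hn']; norm_num) (by norm_num) (by norm_num) (by norm_num) (by decide)
  · -- m = 88, order 1672
    have hn' : Nat.card H = 1672 := by rw [hn]
    exact kb 19 1 88 (by norm_num) (by rw [hn']; norm_num) (by norm_num) (by norm_num) (by norm_num) (by decide)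
  · -- m = 105, order 1995
    have hn' : Nat.card H = 1995 := by rw [hn]
    exact kb 19 1 105 (by norm_num) (by rw [hn']; norm_num) (by norm_num) (by norm_num) (by norm_num) (by decide)
  · -- m = 110, order 2090
    have hn' : Nat.card H = 2090 := by rw [hn]
    exact kill_two_odd 1045 (by rw [hn']; norm_num) (by decide) (by decide)
  · -- m = 120, order 2280
    have hn' : Nat.card H = 2280 := by rw [hn]
    exact kb 19 1 120 (by norm_num) (by rw [hn']; norm_num) (by norm_num) (by norm_num) (by norm_num) (by decide)
  · -- m = 132, order 2508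
    have hn' : Nat.card H = 2508 := by rw [hn]
    exact kb 19 1 132 (by norm_num) (by rw [hn']; norm_num) (by norm_num) (by norm_num) (by norm_num) (by decide)
  · -- m = 140, order 2660
    have hn' : Nat.card H = 2660 := by rw [hn]
    exact kb 19 1 140 (by norm_num) (by rw [hn']; norm_num) (by norm_num) (by norm_num) (by norm_num) (by decide)
  · -- m = 154, order 2926
    have hn' : Nat.card H = 2926 := by rw [hn]
    exact kill_two_odd 1463 (by rw [hn']; norm_num) (by decide) (by decide)
  · -- m = 165, order 3135
    have hn' : Nat.card H = 3135 := by rw [hn]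
    exact kb 19 1 165 (by norm_num) (by rw [hn']; norm_num) (by norm_num) (by norm_num) (by norm_num) (by decide)
  · -- m = 168, order 3192
    have hn' : Nat.card H = 3192 := by rw [hn]
    exact kb 19 1 168 (by norm_num) (by rw [hn']; norm_num) (by norm_num) (by norm_num) (by norm_num) (by decide)
  · -- m = 210, order 3990
    have hn' : Nat.card H = 3990 := by rw [hn]
    exact kill_two_odd 1995 (by rw [hn']; norm_num) (by decide) (by decide)
  · -- m = 220, order 4180
    have hn' : Nat.card H = 4180 := by rw [hn]
    exact kb 19 1 220 (by norm_num) (by rw [hn']; norm_num) (by norm_num) (by norm_num) (by norm_num) (by decide)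
  · -- m = 231, order 4389
    have hn' : Nat.card H = 4389 := by rw [hn]
    exact kb 11 1 399 (by norm_num) (by rw [hn']; norm_num) (by norm_num) (by norm_num) (by norm_num) (by decide)
  · -- m = 264, order 5016
    have hn' : Nat.card H = 5016 := by rw [hn]
    exact kb 19 1 264 (by norm_num) (by rw [hn']; norm_num) (by norm_num) (by norm_num) (by norm_num) (by decide)
  · -- m = 280, order 5320
    have hn' : Nat.card H = 5320 := by rw [hn]
    exact kb 19 1 280 (by norm_num) (by rw [hn']; norm_num) (by norm_num) (by norm_num) (by norm_num) (by decide)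
  · -- m = 308, order 5852
    have hn' : Nat.card H = 5852 := by rw [hn]
    exact absurd (three_dvd_of_not_eight hG (by rw [hn']; decide) (by rw [hn']; decide)) (by rw [hn']; decide)
  · -- m = 330, order 6270
    have hn' : Nat.card H = 6270 := by rw [hn]
    exact kill_two_odd 3135 (by rw [hn']; norm_num) (by decide) (by decide)
  · -- m = 385, order 7315
    have hn' : Nat.card H = 7315 := by rw [hn]
    exact kb 19 1 385 (by norm_num) (by rw [hn']; norm_num) (by norm_num) (by norm_num) (by norm_num) (by decide)
  · -- m = 420, order 7980
    exact hs (by decide)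
  · -- m = 440, order 8360
    have hn' : Nat.card H = 8360 := by rw [hn]
    exact kb 19 1 440 (by norm_num) (by rw [hn']; norm_num) (by norm_num) (by norm_num) (by norm_num) (by decide)
  · -- m = 462, order 8778
    have hn' : Nat.card H = 8778 := by rw [hn]
    exact kill_two_odd 4389 (by rw [hn']; norm_num) (by decide) (by decide)
  · -- m = 616, order 11704
    have hn' : Nat.card H = 11704 := by rw [hn]
    exact sylow_kill_parity 7 1672 (by norm_num) (by rw [hn']; norm_num) (by norm_num) (by norm_num) (by decide)
  · -- m = 660, order 12540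
    have hn' : Nat.card H = 12540 := by rw [hn]
    exact kb 19 1 660 (by norm_num) (by rw [hn']; norm_num) (by norm_num) (by norm_num) (by norm_num) (by decide)
  · -- m = 770, order 14630
    have hn' : Nat.card H = 14630 := by rw [hn]
    exact kill_two_odd 7315 (by rw [hn']; norm_num) (by decide) (by decide)
  · -- m = 840, order 15960
    exact hs (by decide)
  · -- m = 924, order 17556
    exact hs (by decide)
  · -- m = 1155, order 21945
    have hn' : Nat.card H = 21945 := by rw [hn]
    exact kb 7 1 3135 (by norm_num) (by rw [hn']; norm_num) (by norm_num) (by norm_num) (by norm_num) (by decide)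
  · -- m = 1320, order 25080
    have hn' : Nat.card H = 25080 := by rw [hn]
    exact kb 19 1 1320 (by norm_num) (by rw [hn']; norm_num) (by norm_num) (by norm_num) (by norm_num) (by decide)
  · -- m = 1540, order 29260
    have hn' : Nat.card H = 29260 := by rw [hn]
    exact absurd (three_dvd_of_not_eight hG (by rw [hn']; decide) (by rw [hn']; decide)) (by rw [hn']; decide)
  · -- m = 1848, order 35112
    exact hs (by decide)
  · -- m = 2310, order 43890
    have hn' : Nat.card H = 43890 := by rw [hn]
    exact kill_two_odd 21945 (by rw [hn']; norm_num) (by decide) (by decide)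
  · -- m = 3080, order 58520
    exact hs (by decide)
  · -- m = 4620, order 87780
    exact hs (by decide)
  · -- m = 9240, order 175560
    exact h2 rfl

end

end Cfsg.Agent.Lib.Helper7.S4274
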