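import Mathlib
import Cfsg.Agent.Lib.Helper5.Ord2.Kit3
import Cfsg.Agent.Lib.Helper4.SylowPrime

/-!
# S4274, reduction step: a Sylow `p`-subgroup of prime order centralizes a normal `p'`-subgroup
all of whose Sylow subgroups have order at most `p`

(author: helper7)  `N ⊴ X`, `p ∤ |N|`, the Sylow `p`-subgroups of `X` have order `p`, and every
Sylow subgroup of `N` has order `≤ p`.  By the Frattini argument an element `c` of order `p`
normalizes a Sylow `q`-subgroup `R` of `N`; the orbits of `⟨c⟩` on `R` have size `1` or `p`, and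
`1` is a fixed point, so `c` centralizes `R`.  Hence `C_N(P)` contains a Sylow `q`-subgroup of `N`
for every `q`, and `C_N(P) = N`.
-/

set_option autoImplicit false
set_option linter.style.haveILetI false

namespace Cfsg.Agent.Lib.Helper7.S4274R1

variable {X : Type*} [Group X] [Finite X]

/-- an element of order `p` normalizing a subgroup `R` with `|R| ≤ p` centralizes it -/
theorem commute_of_normalizes (p : ℕ) [hp : Fact p.Prime] (R : Subgroup X) (c : X)
    (hc : orderOf c = p) (hnorm : ∀ y ∈ R, c * y * c⁻¹ ∈ R) (hR : Nat.card R ≤ p) :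
    ∀ y ∈ R, c * y = y * c := by
  classical
  let K := Subgroup.zpowers c
  have hKcard : Nat.card K = p := by rw [Nat.card_zpowers, hc]
  have hKp : IsPGroup p K := IsPGroup.of_card (n := 1) (by rw [hKcard, pow_one])
  have hnormK : ∀ (k : K) (y : X), y ∈ R → (k : X) * y * (k : X)⁻¹ ∈ R := by
    intro k y hy
    obtain ⟨j, hj⟩ := Subgroup.mem_zpowers_iff.1 k.2
    rw [← hj]
    have hpos : ∀ (i : ℕ) (z : X), z ∈ R → c ^ i * z * (c ^ i)⁻¹ ∈ R := by
      intro i
      induction i with
      | zero => intro z hz; simpa using hz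
      | succ i ih =>
        intro z hz
        have h1 := hnorm _ (ih z hz)
        have h2 : c ^ (i + 1) * z * (c ^ (i + 1))⁻¹ = c * (c ^ i * z * (c ^ i)⁻¹) * c⁻¹ := by
          rw [pow_succ']; group
        rw [h2]; exact h1
    -- negative powers are positive powers since `c ^ p = 1`
    have hcp : c ^ p = 1 := by rw [← hc]; exact pow_orderOf_eq_one c
    have hmod : c ^ j = c ^ (j % (p : ℤ)).toNat := by
      have h0 : (0 : ℤ) ≤ j % (p : ℤ) :=
        Int.emod_nonneg _ (by exact_mod_cast hp.out.pos.ne')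
      have h1 : c ^ (j % (p : ℤ)) = c ^ j := by
        rw [← hc]; exact zpow_mod_orderOf c j
      rw [← h1, ← zpow_natCast, Int.toNat_of_nonneg h0]
    rw [hmod]
    exact hpos _ y hy
  letI : MulAction K R :=
    { smul := fun k y => ⟨(k : X) * y.1 * (k : X)⁻¹, hnormK k y.1 y.2⟩
      one_smul := by
        intro y
        apply Subtype.ext
        show ((1 : K) : X) * y.1 * ((1 : K) : X)⁻¹ = y.1
        simp
      mul_smul := by
        intro k l y
        apply Subtype.ext
        show ((k * l : K) : X) * y.1 * ((k * l : K) : X)⁻¹ =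
          (k : X) * ((l : X) * y.1 * (l : X)⁻¹) * (k : X)⁻¹
        simp only [Subgroup.coe_mul, mul_inv_rev]
        group }
  have hsmul : ∀ (k : K) (y : R), ((k • y : R) : X) = (k : X) * y.1 * (k : X)⁻¹ :=
    fun _ _ => rfl
  have hmodeq := hKp.card_modEq_card_fixedPoints (α := R)
  have hone : (1 : R) ∈ MulAction.fixedPoints K R := by
    intro k
    apply Subtype.ext
    rw [hsmul]
    simp
  have hfixpos : 0 < Nat.card (MulAction.fixedPoints K R) :=
    Nat.card_pos_iff.2 ⟨⟨⟨1, hone⟩⟩, inferInstance⟩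
  have hfixle : Nat.card (MulAction.fixedPoints K R) ≤ Nat.card R :=
    Nat.card_le_card_of_injective (fun y => y.1) Subtype.val_injective
  have hfixeq : Nat.card (MulAction.fixedPoints K R) = Nat.card R := by
    unfold Nat.ModEq at hmodeq
    by_contra hne
    have hlt : Nat.card (MulAction.fixedPoints K R) < Nat.card R := lt_of_le_of_ne hfixle hne
    -- `|R| ≡ |Fix| mod p`, `0 < |Fix| < |R| ≤ p`: impossible
    have h1 : Nat.card R % p = Nat.card (MulAction.fixedPoints K R) % p := hmodeq
    have h2 : Nat.card (MulAction.fixedPoints K R) % p =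
        Nat.card (MulAction.fixedPoints K R) := Nat.mod_eq_of_lt (by omega)
    rcases Nat.lt_or_ge (Nat.card R) p with h3 | h3
    · rw [Nat.mod_eq_of_lt h3, h2] at h1
      omega
    · have h4 : Nat.card R = p := le_antisymm hR h3
      rw [h4, Nat.mod_self, h2] at h1
      omega
  have hall : ∀ y : R, y ∈ MulAction.fixedPoints K R := by
    intro y
    have hinj : Function.Injective (fun z : MulAction.fixedPoints K R => (z.1 : R)) :=
      Subtype.val_injective
    have hbij := hinj.bijective_of_nat_card_le (le_of_eq hfixeq.symm)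
    obtain ⟨z, hz⟩ := hbij.2 y
    rw [← hz]
    exact z.2
  intro y hy
  have h1 := hall ⟨y, hy⟩ ⟨c, Subgroup.mem_zpowers c⟩
  have h2 := congrArg Subtype.val h1
  rw [hsmul] at h2
  calc c * y = (c * y * c⁻¹) * c := by group
    _ = y * c := by rw [h2]

/-- Frattini: for a Sylow `q`-subgroup `R` of `N ⊴ X` with `|R| ≤ p`, a given Sylow `p`-subgroup
`P` (of order `p`, `p ∤ |N|`) centralizes a subgroup of `N` of order `|R|`. -/
theorem exists_le_centralizer (N : Subgroup X) [N.Normal] (p : ℕ) [hp : Fact p.Prime]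
    (hP : ∀ P : Sylow p X, Nat.card (P : Subgroup X) = p) (hpN : ¬ p ∣ Nat.card N)
    (P : Sylow p X) (q : ℕ) [hq : Fact q.Prime] (R : Sylow q N)
    (hR : Nat.card (R : Subgroup N) ≤ p) :
    ∃ R'' : Subgroup X, R'' ≤ N ∧ Nat.card R'' = Nat.card (R : Subgroup N) ∧
      R'' ≤ Subgroup.centralizer ((P : Subgroup X) : Set X) := by
  classical
  obtain ⟨R', hR'⟩ : ∃ R' : Subgroup X, R' = (R : Subgroup N).map N.subtype := ⟨_, rfl⟩
  have hfrat : Subgroup.normalizer (R' : Set X) ⊔ N = ⊤ := by
    rw [hR']; exact Sylow.normalizer_sup_eq_top R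
  obtain ⟨H, hH⟩ : ∃ H : Subgroup X, H = Subgroup.normalizer (R' : Set X) := ⟨_, rfl⟩
  rw [← hH] at hfrat
  have hR'card : Nat.card R' = Nat.card (R : Subgroup N) := by
    rw [hR']; exact Subgroup.card_map_of_injective N.subtype_injective
  have hR'N : R' ≤ N := by rw [hR']; exact Subgroup.map_subtype_le _
  -- `p ∣ |H|`
  have hpH : p ∣ Nat.card H := by
    have h1 : N.relIndex (H ⊔ N) = N.relIndex H := Subgroup.relIndex_sup_right H N
    rw [hfrat, Subgroup.relIndex_top_right] at h1
    have h2 : N.relIndex H ∣ Nat.card H := Subgroup.relIndex_dvd_card N H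
    have h3 : p ∣ Nat.card N * N.index := by
      rw [Subgroup.card_mul_index, ← hP P]
      exact Subgroup.card_subgroup_dvd_card _
    have h5 : p ∣ N.index := by
      rcases (Nat.Prime.dvd_mul hp.out).1 h3 with h | h
      · exact absurd h hpN
      · exact h
    exact (h1 ▸ h5).trans h2
  obtain ⟨c0, hc0⟩ := exists_prime_orderOf_dvd_card' p hpH
  obtain ⟨c, hc⟩ : ∃ c : X, c = (c0 : X) := ⟨_, rfl⟩
  have hcord : orderOf c = p := by rw [hc, Subgroup.orderOf_coe, hc0]
  have hcH : c ∈ Subgroup.normalizer (R' : Set X) := by rw [hc, ← hH]; exact c0.2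
  have hcomm := commute_of_normalizes p R' c hcord
    (fun y hy => (Subgroup.mem_normalizer_iff.1 hcH y).1 hy) (by rw [hR'card]; exact hR)
  -- `⟨c⟩` is a Sylow `p`-subgroup, conjugate to `P`
  have hZ : IsPGroup p (Subgroup.zpowers c) :=
    IsPGroup.of_card (n := 1) (by rw [Nat.card_zpowers, hcord, pow_one])
  obtain ⟨Q, hQ⟩ := hZ.exists_le_sylow
  have heq : Subgroup.zpowers c = (Q : Subgroup X) :=
    Subgroup.eq_of_le_of_card_ge hQ (by rw [hP Q, Nat.card_zpowers, hcord])
  obtain ⟨g, hg⟩ := MulAction.exists_smul_eq X Q P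
  refine ⟨R'.map (MulAut.conj g).toMonoidHom, ?_, ?_, ?_⟩
  · rintro _ ⟨y, hy, rfl⟩
    show g * y * g⁻¹ ∈ N
    exact (inferInstance : N.Normal).conj_mem y (hR'N hy) g
  · rw [Subgroup.card_map_of_injective (MulEquiv.injective _), hR'card]
  · rintro _ ⟨y, hy, rfl⟩
    rw [Subgroup.mem_centralizer_iff]
    intro x hx
    have hx' : x ∈ (g • Q : Sylow p X) := by rw [hg]; exact hx
    rw [Cfsg.Agent.Lib.Helper4.SylowPrime.mem_smul_sylow_iff] at hx'
    have hx'' : g⁻¹ * x * g ∈ Subgroup.zpowers c := by rw [heq]; exact hx'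
    obtain ⟨j, hj⟩ := Subgroup.mem_zpowers_iff.1 hx''
    have hcy : Commute c y := hcomm y hy
    have h1 : Commute (c ^ j) y := Commute.zpow_left hcy j
    rw [hj] at h1
    have h2 : (g⁻¹ * x * g) * y = y * (g⁻¹ * x * g) := h1.eq
    show x * (g * y * g⁻¹) = g * y * g⁻¹ * x
    calc x * (g * y * g⁻¹) = g * ((g⁻¹ * x * g) * y) * g⁻¹ := by group
      _ = g * (y * (g⁻¹ * x * g)) * g⁻¹ := by rw [h2]
      _ = g * y * g⁻¹ * x := by group

/-- a Sylow `p`-subgroup of order `p` centralizes a normal `p'`-subgroup all of whose Sylow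
subgroups have order at most `p` -/
theorem le_centralizer_of_small_sylow (N : Subgroup X) [N.Normal] (p : ℕ) [hp : Fact p.Prime]
    (hP : ∀ P : Sylow p X, Nat.card (P : Subgroup X) = p) (hpN : ¬ p ∣ Nat.card N)
    (hsmall : ∀ (q : ℕ) [Fact q.Prime] (R : Sylow q N), Nat.card (R : Subgroup N) ≤ p)
    (P : Sylow p X) : N ≤ Subgroup.centralizer ((P : Subgroup X) : Set X) := by
  obtain ⟨D, hD⟩ : ∃ D : Subgroup X, D = N ⊓ Subgroup.centralizer ((P : Subgroup X) : Set X) :=
    ⟨_, rfl⟩
  have hDN : D ≤ N := by rw [hD]; exact inf_le_left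
  have hdvd : Nat.card N ∣ Nat.card D := by
    have hN0 : Nat.card N ≠ 0 := Nat.card_pos.ne'
    have hD0 : Nat.card D ≠ 0 := Nat.card_pos.ne'
    rw [← Nat.factorization_prime_le_iff_dvd hN0 hD0]
    intro q hq
    haveI : Fact q.Prime := ⟨hq⟩
    obtain ⟨R⟩ : Nonempty (Sylow q N) := inferInstance
    obtain ⟨R'', h1, h2, h3⟩ := exists_le_centralizer N p hP hpN P q R (hsmall q R)
    have hle : R'' ≤ D := by rw [hD]; exact le_inf h1 h3
    have h4 := Subgroup.card_dvd_of_le hle
    rw [h2, R.card_eq_multiplicity] at h4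
    exact (Nat.Prime.pow_dvd_iff_le_factorization hq hD0).1 h4
  have hcard : Nat.card N ≤ Nat.card D := Nat.le_of_dvd Nat.card_pos hdvd
  have heq : D = N := Subgroup.eq_of_le_of_card_ge hDN hcard
  rw [← heq, hD]
  exact inf_le_right

/-- in the situation of `le_centralizer_of_small_sylow`, if moreover `N` has index `p`, the Sylow
`p`-subgroups are normal -/
theorem normal_of_small_sylow (N : Subgroup X) [N.Normal] (p : ℕ) [hp : Fact p.Prime]
    (hP : ∀ P : Sylow p X, Nat.card (P : Subgroup X) = p) (hpN : ¬ p ∣ Nat.card N)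
    (hsmall : ∀ (q : ℕ) [Fact q.Prime] (R : Sylow q N), Nat.card (R : Subgroup N) ≤ p)
    (hidx : N.index = p) (P : Sylow p X) : (P : Subgroup X).Normal := by
  have hNC := le_centralizer_of_small_sylow N p hP hpN hsmall P
  have hN1 : N ≤ Subgroup.normalizer ((P : Subgroup X) : Set X) :=
    hNC.trans (Subgroup.centralizer_le_normalizer _)
  have hP1 : (P : Subgroup X) ≤ Subgroup.normalizer ((P : Subgroup X) : Set X) :=
    Subgroup.le_normalizer
  have h1 : Nat.card N ∣ Nat.card (Subgroup.normalizer ((P : Subgroup X) : Set X)) :=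
    Subgroup.card_dvd_of_le hN1
  have h2 : p ∣ Nat.card (Subgroup.normalizer ((P : Subgroup X) : Set X)) := by
    have := Subgroup.card_dvd_of_le hP1
    rwa [hP P] at this
  have hcop : Nat.Coprime (Nat.card N) p :=
    ((Nat.Prime.coprime_iff_not_dvd hp.out).2 hpN).symm
  have h3 : Nat.card N * p ∣ Nat.card (Subgroup.normalizer ((P : Subgroup X) : Set X)) :=
    hcop.mul_dvd_of_dvd_of_dvd h1 h2
  have h4 : Nat.card N * p = Nat.card X := by rw [← hidx]; exact N.card_mul_index
  rw [h4] at h3
  have h5 : Subgroup.normalizer ((P : Subgroup X) : Set X) = ⊤ := by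
    apply Subgroup.eq_top_of_card_eq
    exact le_antisymm (Subgroup.card_le_card_group _) (Nat.le_of_dvd Nat.card_pos h3)
  exact Subgroup.normalizer_eq_top_iff.1 h5

end Cfsg.Agent.Lib.Helper7.S4274R1
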