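import Mathlib
import Cfsg.Agent.Lib.Helper7.S4274R1

/-!
# S4274, reduction step: a normal subgroup of index `19` and order dividing `9240`

(author: helper7)  If `N ⊴ X` has index `19` and `|N| ∣ 9240 = 2^3 · 3 · 5 · 7 · 11`, the Sylow
`19`-subgroups of `X` are normal: every Sylow subgroup of `N` has order at most `11 < 19`, so
`S4274R1.normal_of_small_sylow` applies.
-/

set_option autoImplicit false
set_option linter.style.haveILetI false
set_option linter.unnecessarySeqFocus false

namespace Cfsg.Agent.Lib.Helper7.S4274R2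

open Cfsg.Agent.Lib.Helper7.S4274R1

theorem prime_dvd_9240 (q : ℕ) (hq : q.Prime) (hd : q ∣ 9240) :
    q = 2 ∨ q = 3 ∨ q = 5 ∨ q = 7 ∨ q = 11 := by
  have h : q ∣ 2 ^ 3 * 3 * 5 * 7 * 11 := by
    have : (9240 : ℕ) = 2 ^ 3 * 3 * 5 * 7 * 11 := by norm_num
    rwa [this] at hd
  rcases (Nat.Prime.dvd_mul hq).1 h with h | h
  · rcases (Nat.Prime.dvd_mul hq).1 h with h | h
    · rcases (Nat.Prime.dvd_mul hq).1 h with h | h
      · rcases (Nat.Prime.dvd_mul hq).1 h with h | h
        · left
          exact (Nat.prime_dvd_prime_iff_eq hq (by norm_num)).1 (hq.dvd_of_dvd_pow h)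
        · right; left
          exact (Nat.prime_dvd_prime_iff_eq hq (by norm_num)).1 h
      · right; right; left
        exact (Nat.prime_dvd_prime_iff_eq hq (by norm_num)).1 h
    · right; right; right; left
      exact (Nat.prime_dvd_prime_iff_eq hq (by norm_num)).1 h
  · right; right; right; right
    exact (Nat.prime_dvd_prime_iff_eq hq (by norm_num)).1 h

theorem exp_le (q k b : ℕ) (h : q ^ k ∣ 9240) (hb : ¬ q ^ (b + 1) ∣ 9240) : k ≤ b := by
  by_contra hc
  exact hb ((pow_dvd_pow q (by omega)).trans h)

/-- a prime power dividing `9240` is at most `19` (in fact at most `11`) -/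
theorem prime_pow_le (q k : ℕ) (hq : q.Prime) (h : q ^ k ∣ 9240) : q ^ k ≤ 19 := by
  rcases Nat.eq_zero_or_pos k with rfl | hk
  · simp
  have hq9240 : q ∣ 9240 := (dvd_pow_self q hk.ne').trans h
  rcases prime_dvd_9240 q hq hq9240 with rfl | rfl | rfl | rfl | rfl
  · have := exp_le 2 k 3 h (by norm_num)
    interval_cases k <;> norm_num
  · have := exp_le 3 k 1 h (by norm_num)
    interval_cases k <;> norm_num
  · have := exp_le 5 k 1 h (by norm_num)
    interval_cases k <;> norm_num
  · have := exp_le 7 k 1 h (by norm_num)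
    interval_cases k <;> norm_num
  · have := exp_le 11 k 1 h (by norm_num)
    interval_cases k <;> norm_num

variable {X : Type*} [Group X] [Finite X]

/-- the leaf of the induction: `N ⊴ X` of index `19` with `|N| ∣ 9240` -/
theorem normal_of_index_19 [h19 : Fact (Nat.Prime 19)] (N : Subgroup X) [N.Normal]
    (hN : Nat.card N ∣ 9240) (hidx : N.index = 19) (P : Sylow 19 X) :
    (P : Subgroup X).Normal := by
  have hX : Nat.card X = 19 * Nat.card N := by
    rw [← hidx, mul_comm]; exact N.card_mul_index.symm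
  have h19N : ¬ 19 ∣ Nat.card N := fun h => by
    have := h.trans hN
    norm_num at this
  have hP : ∀ P : Sylow 19 X, Nat.card (P : Subgroup X) = 19 := fun P =>
    Cfsg.Agent.Lib.Helper5.OrdKit.card_sylow_prime (Nat.card N) hX h19N P
  refine normal_of_small_sylow N 19 hP h19N ?_ hidx P
  intro q hq R
  rw [R.card_eq_multiplicity]
  exact prime_pow_le q _ hq.out ((Nat.ordProj_dvd _ _).trans hN)

end Cfsg.Agent.Lib.Helper7.S4274R2
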