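import Mathlib
import Cfsg.Agent.Lib.Helper7.S4274R2

/-!
# S4274: the reduction to simple groups of order `19 * m`, `m ∣ 9240`

(author: helper7)  If there is no simple group of order `19 * m` for `m ∣ 9240`, `1 < m < 9240`,
then every group of order `19 * m` (`m ∣ 9240`) is simple (and `m = 9240`) or has a normal Sylow
`19`-subgroup.  Induction on the order: a proper nontrivial normal subgroup `N` either contains
the Sylow `19`-subgroups (then they are characteristic in `N`), or is a `19'`-group; in that case
the preimage `Y` of the normal Sylow `19`-subgroup of `X ⧸ N` is normal, and either `Y < X`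
(induction) or `N` has index `19` (`S4274R2.normal_of_index_19`).
-/

set_option autoImplicit false
set_option linter.style.haveILetI false

namespace Cfsg.Agent.Lib.Helper7.S4274R3

open Cfsg.Agent.Lib.Helper7.S4274R2

section generic

variable {X : Type*} [Group X] [Finite X] {p : ℕ} [hp : Fact p.Prime]

omit [Finite X] in
/-- a Sylow `p`-subgroup lies in every normal subgroup of index prime to `p` -/
theorem sylow_le_of_not_dvd_index (N : Subgroup X) [N.Normal] (hidx : ¬ p ∣ N.index)
    (P : Sylow p X) : (P : Subgroup X) ≤ N := by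
  intro y hy
  have h1 : y ^ N.index ∈ N := N.pow_index_mem y
  obtain ⟨k, hk⟩ := P.2 ⟨y, hy⟩
  have hk' : y ^ (p ^ k) = 1 := by
    have := congrArg Subtype.val hk
    simpa using this
  have hcop : Nat.Coprime (p ^ k) N.index :=
    Nat.Coprime.pow_left k ((Nat.Prime.coprime_iff_not_dvd hp.out).2 hidx)
  have key : (1 : ℤ) = ((p ^ k : ℕ) : ℤ) * Nat.gcdA (p ^ k) N.index +
      (N.index : ℤ) * Nat.gcdB (p ^ k) N.index := by
    have h2 := Nat.gcd_eq_gcd_ab (p ^ k) N.index
    rw [hcop] at h2
    exact_mod_cast h2
  have h3 : y = y ^ (1 : ℤ) := (zpow_one y).symm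
  rw [h3, key, zpow_add, zpow_mul, zpow_mul, zpow_natCast, zpow_natCast, hk', one_zpow, one_mul]
  exact N.zpow_mem h1 _

/-- (A) if the Sylow `p`-subgroups of a normal subgroup `N` of index prime to `p` are normal in
`N`, the Sylow `p`-subgroups of `X` are normal -/
theorem sylow_normal_of_normal_sub (N : Subgroup X) [hN : N.Normal] (hidx : ¬ p ∣ N.index)
    (h : ∀ Q : Sylow p N, (Q : Subgroup N).Normal) (P : Sylow p X) :
    (P : Subgroup X).Normal := by
  have hPN : (P : Subgroup X) ≤ N := sylow_le_of_not_dvd_index N hidx P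
  have hQn : ((P.subtype hPN : Sylow p N) : Subgroup N).Normal := h _
  haveI hchar : ((P.subtype hPN : Sylow p N) : Subgroup N).Characteristic :=
    Sylow.characteristic_of_normal _ hQn
  have hmap : (((P.subtype hPN : Sylow p N) : Subgroup N).map N.subtype).Normal :=
    inferInstance
  have heq : ((P.subtype hPN : Sylow p N) : Subgroup N).map N.subtype = (P : Subgroup X) := by
    rw [Sylow.coe_subtype, Subgroup.subgroupOf_map_subtype]
    exact inf_eq_left.2 hPN
  rw [heq] at hmap
  exact hmap

end generic

/-- the induction -/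
theorem main.{u} (hns : ∀ m, m ∣ 9240 → m ≠ 1 → m ≠ 9240 →
      ∀ (H : Type u) [Group H] [Finite H] [IsSimpleGroup H], Nat.card H ≠ 19 * m) :
    ∀ (n : ℕ) (X : Type u) [Group X] [Finite X], Nat.card X = n → ∀ m, m ∣ 9240 → n = 19 * m →
      (IsSimpleGroup X ∧ m = 9240) ∨ ∀ P : Sylow 19 X, (P : Subgroup X).Normal := by
  haveI h19 : Fact (Nat.Prime 19) := ⟨by norm_num⟩
  intro n
  induction n using Nat.strong_induction_on with
  | _ n ih =>
  intro X _ _ hX m hm hnm
  have hm0 : 0 < m := Nat.pos_of_dvd_of_pos hm (by norm_num)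
  have hmle : m ≤ 9240 := Nat.le_of_dvd (by norm_num) hm
  have h19m : ¬ 19 ∣ m := fun h => by
    have := h.trans hm
    norm_num at this
  have hXm : Nat.card X = 19 * m := hX.trans hnm
  have hPc : ∀ P : Sylow 19 X, Nat.card (P : Subgroup X) = 19 := fun P =>
    Cfsg.Agent.Lib.Helper5.OrdKit.card_sylow_prime m hXm h19m P
  by_cases hs : IsSimpleGroup X
  · by_cases h1 : m = 1
    · right
      intro P
      have : (P : Subgroup X) = ⊤ := by
        apply Subgroup.eq_top_of_card_eq
        rw [hPc P, hXm, h1]
      rw [this]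
      infer_instance
    · by_cases h2 : m = 9240
      · exact Or.inl ⟨hs, h2⟩
      · exact absurd hXm (hns m hm h1 h2 X)
  · right
    intro P
    have hnt : Nontrivial X := by
      rw [← Finite.one_lt_card_iff_nontrivial, hXm]; omega
    obtain ⟨N, hNn, hN1, hN2⟩ : ∃ N : Subgroup X, N.Normal ∧ N ≠ ⊥ ∧ N ≠ ⊤ := by
      by_contra hcon
      push Not at hcon
      apply hs
      exact ⟨fun H hH => by
        by_cases h : H = ⊥
        · left; exact h
        · right; exact hcon H hH h⟩
    haveI := hNn
    have hNcard_lt : Nat.card N < Nat.card X := by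
      have hle : Nat.card N ≤ Nat.card X := Subgroup.card_le_card_group N
      rcases lt_or_eq_of_le hle with h | h
      · exact h
      · exact absurd (Subgroup.eq_top_of_card_eq N h) hN2
    have hNcard_gt : 1 < Nat.card N := by
      rcases Nat.lt_or_ge 1 (Nat.card N) with h | h
      · exact h
      · have h1 : Nat.card N = 1 := le_antisymm h Nat.card_pos
        exact absurd (Subgroup.card_eq_one.1 h1) hN1
    have hNidx : Nat.card N * N.index = 19 * m := by rw [← hXm]; exact N.card_mul_index
    by_cases h19N : 19 ∣ Nat.card N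
    · -- `19 ∣ |N|`
      obtain ⟨m', hm'⟩ := h19N
      have hm'm : m' * N.index = m := by
        have : 19 * (m' * N.index) = 19 * m := by rw [← hNidx, hm']; ring
        exact Nat.eq_of_mul_eq_mul_left (by norm_num) this
      have hm'dvd : m' ∣ 9240 := (Dvd.intro _ hm'm).trans hm
      have hidx : ¬ 19 ∣ N.index := fun h => h19m (hm'm ▸ Dvd.dvd.mul_left h m')
      have hlt : Nat.card N < n := by rw [← hX]; exact hNcard_lt
      rcases ih (Nat.card N) hlt N rfl m' hm'dvd hm' with ⟨-, h9240⟩ | hnorm
      · exfalso
        rw [hm', h9240, hXm] at hNcard_lt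
        omega
      · exact sylow_normal_of_normal_sub N hidx hnorm P
    · -- `19 ∤ |N|`
      have hcop : Nat.Coprime (Nat.card N) 19 :=
        ((Nat.Prime.coprime_iff_not_dvd h19.out).2 h19N).symm
      have hNm : Nat.card N ∣ m := by
        have : Nat.card N ∣ 19 * m := Dvd.intro _ hNidx
        exact hcop.dvd_of_dvd_mul_left this
      obtain ⟨m2, hm2⟩ := hNm
      have hm2dvd : m2 ∣ 9240 := (Dvd.intro_left _ hm2.symm).trans hm
      have hidx : N.index = 19 * m2 := by
        have : Nat.card N * N.index = Nat.card N * (19 * m2) := by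
          rw [hNidx, hm2]; ring
        exact Nat.eq_of_mul_eq_mul_left Nat.card_pos this
      have hm2pos : 0 < m2 := Nat.pos_of_dvd_of_pos hm2dvd (by norm_num)
      have hm2lt : m2 < m := by
        rw [hm2]
        nlinarith
      have hQcard : Nat.card (X ⧸ N) = 19 * m2 := by rw [← hidx, Subgroup.index_eq_card]
      have hQlt : Nat.card (X ⧸ N) < n := by
        rw [hQcard, hnm]; omega
      have h19m2 : ¬ 19 ∣ m2 := fun h => by
        have := h.trans hm2dvd
        norm_num at this
      rcases ih _ hQlt (X ⧸ N) rfl m2 hm2dvd hQcard with ⟨-, h9240⟩ | hnormQ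
      · exfalso
        omega
      · -- the preimage of the Sylow subgroup of the quotient
        obtain ⟨Qb, hQb⟩ := (P.2.map (QuotientGroup.mk' N)).exists_le_sylow
        have hQbn : (Qb : Subgroup (X ⧸ N)).Normal := hnormQ Qb
        obtain ⟨Y, hY⟩ : ∃ Y : Subgroup X, Y = (Qb : Subgroup (X ⧸ N)).comap (QuotientGroup.mk' N) :=
          ⟨_, rfl⟩
        haveI hYn : Y.Normal := by rw [hY]; exact hQbn.comap _
        have hQbc : Nat.card (Qb : Subgroup (X ⧸ N)) = 19 :=
          Cfsg.Agent.Lib.Helper5.OrdKit.card_sylow_prime m2 hQcard h19m2 Qb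
        have hYidx : Y.index = m2 := by
          rw [hY, Subgroup.index_comap_of_surjective _ (QuotientGroup.mk'_surjective N)]
          have h1 := (Qb : Subgroup (X ⧸ N)).card_mul_index
          rw [hQbc, hQcard] at h1
          exact Nat.eq_of_mul_eq_mul_left (by norm_num) h1
        have hYnd : ¬ 19 ∣ Y.index := by rw [hYidx]; exact h19m2
        by_cases hYtop : Y = ⊤
        · rw [hYtop, Subgroup.index_top] at hYidx
          have hidx19 : N.index = 19 := by rw [hidx, ← hYidx]
          have hNdvd : Nat.card N ∣ 9240 := by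
            have : Nat.card N = m := by rw [hm2, ← hYidx, mul_one]
            rw [this]; exact hm
          exact normal_of_index_19 N hNdvd hidx19 P
        · have hYcard : Nat.card Y = 19 * Nat.card N := by
            have h1 := Y.card_mul_index
            rw [hYidx, hXm, hm2] at h1
            have : Nat.card Y * m2 = (19 * Nat.card N) * m2 := by rw [h1]; ring
            exact Nat.eq_of_mul_eq_mul_right hm2pos this
          have hYlt : Nat.card Y < n := by
            have hle : Nat.card Y ≤ Nat.card X := Subgroup.card_le_card_group Y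
            rcases lt_or_eq_of_le hle with h | h
            · rw [← hX]; exact h
            · exact absurd (Subgroup.eq_top_of_card_eq Y h) hYtop
          have hNdvd : Nat.card N ∣ 9240 := (Dvd.intro _ hm2.symm).trans hm
          rcases ih _ hYlt Y rfl (Nat.card N) hNdvd hYcard with ⟨-, h9240⟩ | hnormY
          · exfalso
            have : m2 = 1 := by
              have h1 : Nat.card N ≤ m := Nat.le_of_dvd hm0 (Dvd.intro _ hm2.symm)
              have h2 : m = Nat.card N := by omega
              have h3 : Nat.card N * m2 = Nat.card N * 1 := by rw [← hm2, mul_one]; exact h2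
              exact Nat.eq_of_mul_eq_mul_left Nat.card_pos h3
            rw [this] at hYidx
            exact hYtop (Subgroup.index_eq_one.1 hYidx)
          · exact sylow_normal_of_normal_sub Y hYnd hnormY P

/-- the reduction of S4274 -/
theorem reduction.{u} (hns : ∀ m, m ∣ 9240 → m ≠ 1 → m ≠ 9240 →
      ∀ (H : Type u) [Group H] [Finite H] [IsSimpleGroup H], Nat.card H ≠ 19 * m)
    {G : Type u} [Group G] [Finite G] (hG : Nat.card G = 175560) :
    IsSimpleGroup G ∨ ∀ P : Sylow 19 G, (P : Subgroup G).Normal := by
  rcases main hns 175560 G hG 9240 dvd_rfl (by norm_num) with ⟨h, -⟩ | h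
  · exact Or.inl h
  · exact Or.inr h

end Cfsg.Agent.Lib.Helper7.S4274R3
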