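import Mathlib
import Cfsg.Prelude.Def_SylowControl
import Cfsg.Prelude.Def_SylowChains
import Cfsg.Agent.Lib.Lead.Conj
import Cfsg.Agent.Lib.Helper7.SylowLib

set_option autoImplicit false
open Cfsg

namespace Cfsg.Agent.Lib.Helper7

open Cfsg.Agent.Lib.Lead.Conj

variable {G : Type*} [Group G] [Finite G] {p : ℕ} [Fact p.Prime]

theorem mem_sylowMembers_iff (𝓕 : Set (Subgroup G)) (P X : Subgroup G) :
    X ∈ sylowMembers p 𝓕 P ↔ X ∈ 𝓕 ∧ IsSylowIn p (P ⊓ X) X := by
  constructor
  · rintro ⟨hX, P₀, hP₀⟩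
    refine ⟨hX, inf_le_right, ?_⟩
    rw [← hP₀, Subgroup.card_map_of_injective X.subtype_injective]
    exact P₀.card_eq_multiplicity
  · rintro ⟨hX, hsyl⟩
    refine ⟨hX, ?_⟩
    obtain ⟨R, hR⟩ := hsyl.exists_sylow
    refine ⟨R, ?_⟩
    rw [hR, Subgroup.map_subgroupOf_eq_of_le inf_le_right]

omit [Finite G] [Fact p.Prime] in
theorem mem_subgroupConjRight (g : G) (X : Subgroup G) (x : G) :
    x ∈ subgroupConjRight g X ↔ g * x * g⁻¹ ∈ X := by
  unfold subgroupConjRight
  rw [mem_map_conj, inv_inv]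

omit [Finite G] [Fact p.Prime] in
theorem subgroupConjRight_mul (g h : G) (X : Subgroup G) :
    subgroupConjRight h (subgroupConjRight g X) = subgroupConjRight (g * h) X := by
  ext x
  rw [mem_subgroupConjRight, mem_subgroupConjRight, mem_subgroupConjRight]
  have : g * (h * x * h⁻¹) * g⁻¹ = g * h * x * (g * h)⁻¹ := by group
  rw [this]

omit [Finite G] [Fact p.Prime] in
theorem subgroupConjRight_one (X : Subgroup G) : subgroupConjRight 1 X = X := by
  ext x
  rw [mem_subgroupConjRight]; simp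

theorem sylowMembers_conj {𝓕 : Set (Subgroup G)} (h𝓕 : IsNormalSet 𝓕) {P X : Subgroup G}
    (hX : X ∈ sylowMembers p 𝓕 P) (g : G) :
    subgroupConjRight g X ∈ sylowMembers p 𝓕 (subgroupConjRight g P) := by
  rw [mem_sylowMembers_iff] at hX ⊢
  refine ⟨h𝓕 X hX.1 g, inf_le_right, ?_⟩
  have h1 : subgroupConjRight g P ⊓ subgroupConjRight g X = subgroupConjRight g (P ⊓ X) := by
    unfold subgroupConjRight
    rw [Subgroup.map_inf _ _ _ (MulAut.conj g⁻¹).injective]
  rw [h1]
  unfold subgroupConjRight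
  rw [card_map_conj, card_map_conj]
  exact hX.2.2

theorem sylow_control_generation
    (𝓕 : Set (Subgroup G)) (h𝓕 : Cfsg.IsNormalSet 𝓕) (hc : Cfsg.ControlsSylowIntersections p 𝓕)
    (hconn : Cfsg.IsSylowChainConnected p G) (S : Sylow p G) :
    (⨆ X ∈ Cfsg.sylowMembers p 𝓕 (S : Subgroup G), X) ⊔
      Subgroup.normalizer ((S : Subgroup G) : Set G) = ⊤ := by
  set G₀ : Subgroup G := (⨆ X ∈ Cfsg.sylowMembers p 𝓕 (S : Subgroup G), X) ⊔
      Subgroup.normalizer ((S : Subgroup G) : Set G) with hG₀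
  have hmem : ∀ X ∈ sylowMembers p 𝓕 (S : Subgroup G), X ≤ G₀ := by
    intro X hX
    exact le_trans (le_iSup₂_of_le (f := fun X (_ : X ∈ sylowMembers p 𝓕 (S : Subgroup G)) => X)
      X hX le_rfl) le_sup_left
  -- members over S^u, u ∈ G₀, lie in G₀
  have key : ∀ u ∈ G₀, ∀ X ∈ sylowMembers p 𝓕 (subgroupConjRight u (S : Subgroup G)), X ≤ G₀ := by
    intro u hu X hX
    have h1 := sylowMembers_conj h𝓕 hX u⁻¹
    rw [subgroupConjRight_mul, mul_inv_cancel, subgroupConjRight_one] at h1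
    have h2 := hmem _ h1
    intro x hx
    have h3 : u * x * u⁻¹ ∈ subgroupConjRight u⁻¹ X := by
      rw [mem_subgroupConjRight]
      have : u⁻¹ * (u * x * u⁻¹) * u⁻¹⁻¹ = x := by group
      rw [this]; exact hx
    have h4 := h2 h3
    have : x = u⁻¹ * (u * x * u⁻¹) * u := by group
    rw [this]
    exact mul_mem (mul_mem (inv_mem hu) h4) hu
  -- every Sylow subgroup is S^u with u ∈ G₀
  have main : ∀ T : Sylow p G, ∃ u ∈ G₀, (T : Subgroup G) = subgroupConjRight u (S : Subgroup G) := by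
    intro T
    obtain ⟨n, c, hc0, hcn, -, hadj⟩ := hconn S T
    have hall : ∀ i : Fin (n + 1), ∃ u ∈ G₀, (c i : Subgroup G) = subgroupConjRight u (S : Subgroup G) := by
      intro i
      induction i using Fin.induction with
      | zero => exact ⟨1, one_mem _, by rw [hc0, subgroupConjRight_one]⟩
      | succ i ih =>
        obtain ⟨u, hu, hcu⟩ := ih
        obtain ⟨hne, hint⟩ := hadj i
        obtain ⟨m, c', X, x, hc'0, hc'm, hstep⟩ := hc _ _ hne hint
        have hall' : ∀ j : Fin (m + 1), ∃ u' ∈ G₀,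
            (c' j : Subgroup G) = subgroupConjRight u' (S : Subgroup G) := by
          intro j
          induction j using Fin.induction with
          | zero => exact ⟨u, hu, by rw [hc'0, hcu]⟩
          | succ j ihj =>
            obtain ⟨u', hu', hcu'⟩ := ihj
            obtain ⟨hX1, -, hxX, hconj, -⟩ := hstep j
            rw [hcu'] at hX1
            have hxG₀ : x j ∈ G₀ := key u' hu' _ hX1 hxX
            refine ⟨u' * (x j)⁻¹, mul_mem hu' (inv_mem hxG₀), ?_⟩
            rw [hcu'] at hconj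
            rw [← subgroupConjRight_mul, ← hconj, subgroupConjRight_mul, mul_inv_cancel,
              subgroupConjRight_one]
        have := hall' (Fin.last m)
        rwa [hc'm] at this
    have := hall (Fin.last n)
    rwa [hcn] at this
  rw [eq_top_iff]
  intro g _
  -- T = S^g
  obtain ⟨u, hu, hTu⟩ := main (g⁻¹ • S)
  have hTg : ((g⁻¹ • S : Sylow p G) : Subgroup G) = subgroupConjRight g (S : Subgroup G) := by
    rw [Sylow.coe_subgroup_smul]
    rfl
  rw [hTg] at hTu
  -- u g⁻¹ ∈ N(S)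
  have hn : g * u⁻¹ ∈ Subgroup.normalizer ((S : Subgroup G) : Set G) := by
    apply mem_normalizer_of_conj_mem
    intro s hs
    have h1 : u⁻¹ * s * u ∈ subgroupConjRight u (S : Subgroup G) := by
      rw [mem_subgroupConjRight]
      have : u * (u⁻¹ * s * u) * u⁻¹ = s := by group
      rw [this]; exact hs
    rw [← hTu, mem_subgroupConjRight] at h1
    have e : g * u⁻¹ * s * (g * u⁻¹)⁻¹ = g * (u⁻¹ * s * u) * g⁻¹ := by group
    rw [e]; exact h1
  have h2 : g * u⁻¹ ∈ G₀ := (le_sup_right : _ ≤ G₀) hn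
  have := mul_mem h2 hu
  rwa [inv_mul_cancel_right] at this

end Cfsg.Agent.Lib.Helper7
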