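import Mathlib
import Cfsg.Prelude.Def_SylowControl
import Cfsg.Agent.Lib.Helper7.SylowControl

set_option autoImplicit false

namespace Cfsg.Agent.Lib.Helper7

open Cfsg

variable {G : Type*} [Group G] {p : ℕ}

/-- one step of a Sylow-intersection chain -/
def CsiStep (p : ℕ) (𝓕 : Set (Subgroup G)) (D : Subgroup G) (S₁ S₂ : Sylow p G) : Prop :=
  ∃ (X : Subgroup G) (x : G), X ∈ sylowMembers p 𝓕 (S₁ : Subgroup G) ∧
    X ∈ sylowMembers p 𝓕 (S₂ : Subgroup G) ∧ x ∈ X ∧
    subgroupConjRight x (S₂ : Subgroup G) = (S₁ : Subgroup G) ∧ D ≤ (S₂ : Subgroup G) ⊓ X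

theorem csi_chain_of_reflTransGen (𝓕 : Set (Subgroup G)) (D : Subgroup G) (S T : Sylow p G)
    (h : Relation.ReflTransGen (CsiStep p 𝓕 D) S T) :
    ∃ (n : ℕ) (c : Fin (n + 1) → Sylow p G) (X : Fin n → Subgroup G) (x : Fin n → G),
      c 0 = S ∧ c (Fin.last n) = T ∧
      ∀ i : Fin n,
        X i ∈ sylowMembers p 𝓕 (c i.castSucc : Subgroup G) ∧ X i ∈ sylowMembers p 𝓕 (c i.succ : Subgroup G) ∧
        x i ∈ X i ∧ subgroupConjRight (x i) (c i.succ : Subgroup G) = (c i.castSucc : Subgroup G) ∧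
        D ≤ (c i.succ : Subgroup G) ⊓ X i := by
  induction h with
  | refl =>
    exact ⟨0, fun _ => S, Fin.elim0, Fin.elim0, rfl, rfl, fun i => i.elim0⟩
  | @tail b c' _ hbc ih =>
    obtain ⟨n, c, X, x, h0, hn, hstep⟩ := ih
    obtain ⟨X₀, x₀, h1, h2, h3, h4, h5⟩ := hbc
    refine ⟨n + 1, Fin.snoc c c', Fin.snoc X X₀, Fin.snoc x x₀, ?_, ?_, ?_⟩
    · have : (0 : Fin (n + 1 + 1)) = Fin.castSucc (0 : Fin (n + 1)) := rfl
      rw [this, Fin.snoc_castSucc, h0]
    · exact Fin.snoc_last _ _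
    · intro i
      refine Fin.lastCases ?_ (fun j => ?_) i
      · have e1 : (Fin.snoc c c' : Fin (n + 1 + 1) → Sylow p G) (Fin.last n).castSucc = b := by
          rw [Fin.snoc_castSucc, hn]
        have e2 : (Fin.snoc c c' : Fin (n + 1 + 1) → Sylow p G) (Fin.last n).succ = c' := by
          rw [Fin.succ_last]; exact Fin.snoc_last _ _
        have e3 : (Fin.snoc X X₀ : Fin (n + 1) → Subgroup G) (Fin.last n) = X₀ := Fin.snoc_last _ _
        have e4 : (Fin.snoc x x₀ : Fin (n + 1) → G) (Fin.last n) = x₀ := Fin.snoc_last _ _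
        rw [e1, e2, e3, e4]
        exact ⟨h1, h2, h3, h4, h5⟩
      · have e1 : (Fin.snoc c c' : Fin (n + 1 + 1) → Sylow p G) j.castSucc.castSucc = c j.castSucc := by
          rw [Fin.snoc_castSucc]
        have e2 : (Fin.snoc c c' : Fin (n + 1 + 1) → Sylow p G) j.castSucc.succ = c j.succ := by
          rw [← Fin.castSucc_succ, Fin.snoc_castSucc]
        have e3 : (Fin.snoc X X₀ : Fin (n + 1) → Subgroup G) j.castSucc = X j := Fin.snoc_castSucc _ _ _
        have e4 : (Fin.snoc x x₀ : Fin (n + 1) → G) j.castSucc = x j := Fin.snoc_castSucc _ _ _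
        rw [e1, e2, e3, e4]
        exact hstep j

theorem csi_iff_reflTransGen (𝓕 : Set (Subgroup G)) :
    ControlsSylowIntersections p 𝓕 ↔
      ∀ S T : Sylow p G, S ≠ T → (S : Subgroup G) ⊓ (T : Subgroup G) ≠ ⊥ →
        Relation.ReflTransGen (CsiStep p 𝓕 ((S : Subgroup G) ⊓ (T : Subgroup G))) S T := by
  constructor
  · intro h S T hne hint
    obtain ⟨n, c, X, x, h0, hn, hstep⟩ := h S T hne hint
    have key : ∀ i : Fin (n + 1),
        Relation.ReflTransGen (CsiStep p 𝓕 ((S : Subgroup G) ⊓ (T : Subgroup G))) S (c i) := by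
      intro i
      induction i using Fin.induction with
      | zero => rw [h0]
      | succ i ih =>
        obtain ⟨h1, h2, h3, h4, h5⟩ := hstep i
        exact ih.tail ⟨X i, x i, h1, h2, h3, h4, h5⟩
    have := key (Fin.last n)
    rwa [hn] at this
  · intro h S T hne hint
    exact csi_chain_of_reflTransGen 𝓕 _ S T (h S T hne hint)

end Cfsg.Agent.Lib.Helper7
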