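import Mathlib
import Cfsg.Prelude.Def_SylowControl
import Cfsg.Prelude.Def_SylowChains
import Cfsg.Agent.Lib.Helper7.SCI1
import Cfsg.Agent.Lib.Helper7.SylowLib

set_option autoImplicit false

namespace Cfsg.Agent.Lib.Helper7

open Cfsg

variable {G : Type*} [Group G] [Finite G] {p : ℕ} [Fact p.Prime]

/-- ambient step of a Sylow-intersection chain for the functor family of `M` -/
def AStep (f : Subgroup G → Set (Subgroup G)) (M D : Subgroup G) (S₁ S₂ : Sylow p G) : Prop :=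
  (S₁ : Subgroup G) ≤ M ∧ (S₂ : Subgroup G) ≤ M ∧ ∃ P : Sylow p G, (P : Subgroup G) ≤ M ∧
    ∃ F ∈ f (P : Subgroup G), (S₁ : Subgroup G) ≤ Subgroup.normalizer (F : Set G) ∧
      (S₂ : Subgroup G) ≤ Subgroup.normalizer (F : Set G) ∧
      ∃ x ∈ M ⊓ Subgroup.normalizer (F : Set G),
        subgroupConjRight x (S₂ : Subgroup G) = (S₁ : Subgroup G) ∧ D ≤ (S₂ : Subgroup G)

theorem factorization_eq_of_sylow_le (M : Subgroup G) (S₀ : Sylow p G) (hS₀ : (S₀ : Subgroup G) ≤ M) :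
    (Nat.card ↥M).factorization p = (Nat.card G).factorization p := by
  have hp : p.Prime := Fact.out
  have hM : Nat.card ↥M ≠ 0 := Nat.card_pos.ne'
  have hG : Nat.card G ≠ 0 := Nat.card_pos.ne'
  apply le_antisymm
  · exact (Nat.factorization_le_iff_dvd hM hG).mpr (Subgroup.card_subgroup_dvd_card M) p
  · have h1 : Nat.card ↥(S₀ : Subgroup G) ∣ Nat.card ↥M := Subgroup.card_dvd_of_le hS₀
    rw [S₀.card_eq_multiplicity] at h1
    exact (hp.pow_dvd_iff_le_factorization hM).mp h1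

/-- a Sylow subgroup of `M` (containing a full Sylow subgroup of `G`) as a Sylow subgroup of `G` -/
noncomputable def sylowUp (M : Subgroup G) (S₀ : Sylow p G) (hS₀ : (S₀ : Subgroup G) ≤ M)
    (R : Sylow p ↥M) : Sylow p G :=
  Sylow.ofCard ((R : Subgroup ↥M).map M.subtype) (by
    rw [Subgroup.card_map_of_injective M.subtype_injective, R.card_eq_multiplicity,
      factorization_eq_of_sylow_le M S₀ hS₀])

theorem coe_sylowUp (M : Subgroup G) (S₀ : Sylow p G) (hS₀ : (S₀ : Subgroup G) ≤ M) (R : Sylow p ↥M) :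
    (sylowUp M S₀ hS₀ R : Subgroup G) = (R : Subgroup ↥M).map M.subtype := rfl

theorem sylowUp_subtype (M : Subgroup G) (S₀ : Sylow p G) (hS₀ : (S₀ : Subgroup G) ≤ M) (S : Sylow p G)
    (hS : (S : Subgroup G) ≤ M) : sylowUp M S₀ hS₀ (S.subtype hS) = S := by
  apply Sylow.ext
  rw [coe_sylowUp, Sylow.coe_subtype]
  exact Subgroup.map_subgroupOf_eq_of_le hS

theorem subtype_sylowUp (M : Subgroup G) (S₀ : Sylow p G) (hS₀ : (S₀ : Subgroup G) ≤ M) (R : Sylow p ↥M) :
    (sylowUp M S₀ hS₀ R).subtype (by rw [coe_sylowUp]; exact Subgroup.map_subtype_le _) = R := by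
  apply Sylow.ext
  rw [Sylow.coe_subtype, coe_sylowUp]
  exact Subgroup.comap_map_eq_self_of_injective M.subtype_injective _

omit [Finite G] [Fact p.Prime] in
theorem map_subgroupConjRight (M : Subgroup G) (x : ↥M) (X : Subgroup ↥M) :
    (subgroupConjRight x X).map M.subtype = subgroupConjRight (x : G) (X.map M.subtype) := by
  unfold subgroupConjRight
  rw [Subgroup.map_map, Subgroup.map_map]
  congr 1

theorem le_of_isSylowIn_inf {K : Type*} [Group K] [Finite K] (R P' : Sylow p K) (X' : Subgroup K)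
    (hP : (P' : Subgroup K) ≤ X') (h : IsSylowIn p ((R : Subgroup K) ⊓ X') X') : (R : Subgroup K) ≤ X' := by
  have hp : p.Prime := Fact.out
  have hX : Nat.card ↥X' ≠ 0 := Nat.card_pos.ne'
  have h1 : Nat.card ↥(P' : Subgroup K) ∣ Nat.card ↥X' := Subgroup.card_dvd_of_le hP
  rw [P'.card_eq_multiplicity] at h1
  have h2 := (hp.pow_dvd_iff_le_factorization hX).mp h1
  have h3 : Nat.card ↥(R : Subgroup K) ≤ Nat.card ↥((R : Subgroup K) ⊓ X' : Subgroup K) := by
    rw [h.2, R.card_eq_multiplicity]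
    exact Nat.pow_le_pow_right hp.pos h2
  have h4 : (R : Subgroup K) ⊓ X' = (R : Subgroup K) :=
    Subgroup.eq_of_le_of_card_ge inf_le_left h3
  rw [← h4]; exact inf_le_right

theorem aStep_of_csiStep {f : Subgroup G → Set (Subgroup G)} (hf : IsNormalizerFunctor p f)
    (M : Subgroup G) (S₀ : Sylow p G) (hS₀ : (S₀ : Subgroup G) ≤ M) {D' : Subgroup ↥M} {R₁ R₂ : Sylow p ↥M}
    (h : CsiStep p ((fun X : Subgroup G => X.subgroupOf M) '' functorFamily p f M) D' R₁ R₂) :
    AStep f M (D'.map M.subtype) (sylowUp M S₀ hS₀ R₁) (sylowUp M S₀ hS₀ R₂) := by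
  obtain ⟨X', x', hX1, hX2, hx', hconj, hD⟩ := h
  rw [mem_sylowMembers_iff] at hX1 hX2
  obtain ⟨X, ⟨P', F, hF, rfl⟩, hXX'⟩ := hX1.1
  have hXX'' : (M ⊓ Subgroup.normalizer (F : Set G)).subgroupOf M = X' := hXX'
  subst hXX''
  have hPp : IsPGroup p ↥((P' : Subgroup ↥M).map M.subtype) := by
    have := P'.isPGroup'
    exact this.map M.subtype
  have hFN := ((hf _ hPp).1 F hF).2
  have hP'X : (P' : Subgroup ↥M) ≤ (M ⊓ Subgroup.normalizer (F : Set G)).subgroupOf M := by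
    intro y hy
    rw [Subgroup.mem_subgroupOf]
    refine ⟨y.2, hFN (Subgroup.le_normalizer ?_)⟩
    exact ⟨y, hy, rfl⟩
  have hR₁X := le_of_isSylowIn_inf R₁ P' _ hP'X hX1.2
  have hR₂X := le_of_isSylowIn_inf R₂ P' _ hP'X hX2.2
  have hup : ∀ R : Sylow p ↥M, (R : Subgroup ↥M) ≤ (M ⊓ Subgroup.normalizer (F : Set G)).subgroupOf M →
      (sylowUp M S₀ hS₀ R : Subgroup G) ≤ Subgroup.normalizer (F : Set G) := by
    intro R hR y hy
    rw [coe_sylowUp] at hy
    obtain ⟨r, hr, rfl⟩ := hy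
    exact (Subgroup.mem_subgroupOf.mp (hR hr)).2
  refine ⟨by rw [coe_sylowUp]; exact Subgroup.map_subtype_le _,
    by rw [coe_sylowUp]; exact Subgroup.map_subtype_le _, sylowUp M S₀ hS₀ P',
    by rw [coe_sylowUp]; exact Subgroup.map_subtype_le _, F, hF, hup R₁ hR₁X, hup R₂ hR₂X,
    (x' : G), Subgroup.mem_subgroupOf.mp hx', ?_, ?_⟩
  · rw [coe_sylowUp, coe_sylowUp, ← map_subgroupConjRight, hconj]
  · rw [coe_sylowUp]
    exact Subgroup.map_mono (hD.trans inf_le_left)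

theorem regular_imp_ambient {f : Subgroup G → Set (Subgroup G)} (hf : IsNormalizerFunctor p f)
    (M : Subgroup G) (S₀ : Sylow p G) (hS₀ : (S₀ : Subgroup G) ≤ M) (hreg : IsFunctorRegular p f M)
    (S T : Sylow p G) (hS : (S : Subgroup G) ≤ M) (hT : (T : Subgroup G) ≤ M) (hne : S ≠ T)
    (hint : (S : Subgroup G) ⊓ (T : Subgroup G) ≠ ⊥) :
    Relation.ReflTransGen (AStep f M ((S : Subgroup G) ⊓ (T : Subgroup G))) S T := by
  unfold IsFunctorRegular at hreg
  rw [csi_iff_reflTransGen] at hreg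
  have hne' : S.subtype hS ≠ T.subtype hT := fun h => hne (Sylow.subtype_injective h)
  have hinf : ((S.subtype hS : Sylow p ↥M) : Subgroup ↥M) ⊓ ((T.subtype hT : Sylow p ↥M) : Subgroup ↥M) =
      ((S : Subgroup G) ⊓ (T : Subgroup G)).subgroupOf M := by
    rw [Sylow.coe_subtype, Sylow.coe_subtype]
    ext y
    simp [Subgroup.mem_subgroupOf]
  have hint' : ((S.subtype hS : Sylow p ↥M) : Subgroup ↥M) ⊓ ((T.subtype hT : Sylow p ↥M) : Subgroup ↥M) ≠ ⊥ := by
    rw [hinf]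
    intro h
    apply hint
    rw [Subgroup.subgroupOf_eq_bot] at h
    have h2 : (S : Subgroup G) ⊓ (T : Subgroup G) ≤ M := inf_le_left.trans hS
    rw [← inf_of_le_left h2]
    exact disjoint_iff.mp h
  have h1 := hreg _ _ hne' hint'
  have h2 := Relation.ReflTransGen.lift (sylowUp M S₀ hS₀)
    (fun a b hab => aStep_of_csiStep hf M S₀ hS₀ hab) _ _ h1
  simp only [Function.onFun] at h2
  rw [sylowUp_subtype, sylowUp_subtype, hinf, Subgroup.map_subgroupOf_eq_of_le (inf_le_left.trans hS)] at h2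
  exact h2

end Cfsg.Agent.Lib.Helper7
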