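import Mathlib
import Cfsg.Agent.Lib.Helper7.SCI2

set_option autoImplicit false

namespace Cfsg.Agent.Lib.Helper7

open Cfsg

variable {G : Type*} [Group G] [Finite G] {p : ℕ} [Fact p.Prime]

theorem csiStep_of_aStep_top {f : Subgroup G → Set (Subgroup G)} {D : Subgroup G} {S₁ S₂ : Sylow p G}
    (h : AStep f ⊤ D S₁ S₂) :
    CsiStep p ((fun X : Subgroup G => X.subgroupOf ⊤) '' functorFamily p f ⊤) (D.subgroupOf ⊤)
      (S₁.subtype le_top) (S₂.subtype le_top) := by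
  obtain ⟨-, -, P, -, F, hF, hS₁F, hS₂F, x, hx, hconj, hD⟩ := h
  have hmem : ((⊤ : Subgroup G) ⊓ Subgroup.normalizer (F : Set G)).subgroupOf ⊤ ∈
      (fun X : Subgroup G => X.subgroupOf ⊤) '' functorFamily p f ⊤ := by
    refine ⟨_, ⟨P.subtype le_top, F, ?_, rfl⟩, rfl⟩
    rw [Sylow.coe_subtype, Subgroup.map_subgroupOf_eq_of_le le_top]
    exact hF
  have hsyl : ∀ S : Sylow p G, (S : Subgroup G) ≤ Subgroup.normalizer (F : Set G) →
      ((⊤ : Subgroup G) ⊓ Subgroup.normalizer (F : Set G)).subgroupOf ⊤ ∈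
        sylowMembers p ((fun X : Subgroup G => X.subgroupOf ⊤) '' functorFamily p f ⊤)
          ((S.subtype le_top : Sylow p ↥(⊤ : Subgroup G)) : Subgroup ↥(⊤ : Subgroup G)) := by
    intro S hS
    rw [mem_sylowMembers_iff]
    refine ⟨hmem, ?_⟩
    have hle : ((S.subtype le_top : Sylow p ↥(⊤ : Subgroup G)) : Subgroup ↥(⊤ : Subgroup G)) ≤
        ((⊤ : Subgroup G) ⊓ Subgroup.normalizer (F : Set G)).subgroupOf ⊤ := by
      rw [Sylow.coe_subtype]
      exact Subgroup.subgroupOf_mono _ (le_inf le_top hS)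
    rw [inf_of_le_left hle]
    exact IsSylowIn.of_sylow_le _ hle
  refine ⟨_, ⟨x, Subgroup.mem_top x⟩, hsyl S₁ hS₁F, hsyl S₂ hS₂F, ?_, ?_, ?_⟩
  · rw [Subgroup.mem_subgroupOf]; exact hx
  · ext y
    rw [mem_subgroupConjRight, Sylow.coe_subtype, Sylow.coe_subtype, Subgroup.mem_subgroupOf,
      Subgroup.mem_subgroupOf, ← hconj, mem_subgroupConjRight]
    rfl
  · rw [Sylow.coe_subtype]
    exact le_inf (Subgroup.subgroupOf_mono _ hD) (Subgroup.subgroupOf_mono _ (le_inf le_top (hD.trans hS₂F)))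

theorem ambient_imp_regular_top {f : Subgroup G → Set (Subgroup G)}
    (h : ∀ S T : Sylow p G, S ≠ T → (S : Subgroup G) ⊓ (T : Subgroup G) ≠ ⊥ →
      Relation.ReflTransGen (AStep f ⊤ ((S : Subgroup G) ⊓ (T : Subgroup G))) S T) :
    IsFunctorRegular p f ⊤ := by
  unfold IsFunctorRegular
  rw [csi_iff_reflTransGen]
  intro Ra Rb hne hint
  obtain ⟨S₀⟩ : Nonempty (Sylow p G) := inferInstance
  let S := sylowUp ⊤ S₀ le_top Ra
  let T := sylowUp ⊤ S₀ le_top Rb
  have hSa : S.subtype le_top = Ra := subtype_sylowUp ⊤ S₀ le_top Ra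
  have hTb : T.subtype le_top = Rb := subtype_sylowUp ⊤ S₀ le_top Rb
  have hne' : S ≠ T := by
    intro he
    apply hne
    rw [← hSa, ← hTb]
    congr 1
  have hinf : ((S : Subgroup G) ⊓ (T : Subgroup G)).subgroupOf ⊤ = (Ra : Subgroup ↥(⊤ : Subgroup G)) ⊓ Rb := by
    rw [← hSa, ← hTb, Sylow.coe_subtype, Sylow.coe_subtype]
    ext y
    simp [Subgroup.mem_subgroupOf]
  have hint' : (S : Subgroup G) ⊓ (T : Subgroup G) ≠ ⊥ := by
    intro h0
    apply hint
    rw [← hinf, h0]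
    exact Subgroup.bot_subgroupOf (H := (⊤ : Subgroup G))
  have h1 := h S T hne' hint'
  have h2 := Relation.ReflTransGen.lift (fun S : Sylow p G => S.subtype (le_top : (S : Subgroup G) ≤ ⊤))
    (fun a b hab => csiStep_of_aStep_top hab) _ _ h1
  simp only [Function.onFun] at h2
  rw [hinf, hSa, hTb] at h2
  exact h2

end Cfsg.Agent.Lib.Helper7
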