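import Mathlib
import Cfsg.Agent.Lib.Helper7.SCI3
import Cfsg.Agent.Lib.Helper7.KNormalizer

set_option autoImplicit false

namespace Cfsg.Agent.Lib.Helper7

open Cfsg

variable {G : Type*} [Group G] [Finite G] {p : ℕ} [Fact p.Prime]

/-- right conjugate of a Sylow subgroup -/
noncomputable def sconj (u : G) (S : Sylow p G) : Sylow p G := u⁻¹ • S

omit [Finite G] [Fact p.Prime] in
theorem coe_sconj (u : G) (S : Sylow p G) :
    (sconj u S : Subgroup G) = subgroupConjRight u (S : Subgroup G) := by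
  unfold sconj
  rw [Sylow.coe_subgroup_smul, subgroupConjRight]
  rfl

omit [Finite G] [Fact p.Prime] in
theorem subgroupConjRight_mono (u : G) {A B : Subgroup G} (h : A ≤ B) :
    subgroupConjRight u A ≤ subgroupConjRight u B := Subgroup.map_mono h

omit [Finite G] [Fact p.Prime] in
theorem subgroupConjRight_inv_cancel (u : G) (A : Subgroup G) :
    subgroupConjRight u (subgroupConjRight u⁻¹ A) = A := by
  rw [subgroupConjRight_mul, inv_mul_cancel, subgroupConjRight_one]

omit [Finite G] [Fact p.Prime] in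
theorem subgroupConjRight_normalizer_le (u : G) (F : Subgroup G) :
    subgroupConjRight u (Subgroup.normalizer (F : Set G)) ≤
      Subgroup.normalizer ((subgroupConjRight u F : Subgroup G) : Set G) := by
  intro y hy
  rw [mem_subgroupConjRight] at hy
  apply Subgroup.mem_normalizer_iff.mpr
  intro z
  rw [mem_subgroupConjRight, mem_subgroupConjRight]
  have := Subgroup.mem_normalizer_iff.mp hy (u * z * u⁻¹)
  rw [this]
  have e : u * y * u⁻¹ * (u * z * u⁻¹) * (u * y * u⁻¹)⁻¹ = u * (y * z * y⁻¹) * u⁻¹ := by group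
  rw [e]

omit [Finite G] [Fact p.Prime] in
theorem aStep_mono {f : Subgroup G → Set (Subgroup G)} {M D D' : Subgroup G} {S₁ S₂ : Sylow p G}
    (h : AStep f M D' S₁ S₂) (hD : D ≤ D') : AStep f ⊤ D S₁ S₂ := by
  obtain ⟨-, -, P, -, F, hF, h1, h2, x, hx, hc, hD'⟩ := h
  exact ⟨le_top, le_top, P, le_top, F, hF, h1, h2, x, ⟨Subgroup.mem_top x, hx.2⟩, hc, hD.trans hD'⟩

omit [Finite G] [Fact p.Prime] in
theorem aStep_conj {f : Subgroup G → Set (Subgroup G)} (hf : IsNormalizerFunctor p f) (u : G)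
    {D : Subgroup G} {S₁ S₂ : Sylow p G} (h : AStep f ⊤ D S₁ S₂) :
    AStep f ⊤ (subgroupConjRight u D) (sconj u S₁) (sconj u S₂) := by
  obtain ⟨-, -, P, -, F, hF, h1, h2, x, hx, hc, hD⟩ := h
  have hF' : subgroupConjRight u F ∈ f ((sconj u P : Sylow p G) : Subgroup G) := by
    rw [coe_sconj]
    unfold subgroupConjRight
    rw [(hf _ P.isPGroup').2 u⁻¹]
    exact ⟨F, hF, rfl⟩
  have hN : ∀ X : Subgroup G, X ≤ Subgroup.normalizer (F : Set G) →
      subgroupConjRight u X ≤ Subgroup.normalizer ((subgroupConjRight u F : Subgroup G) : Set G) :=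
    fun X hX => (subgroupConjRight_mono u hX).trans (subgroupConjRight_normalizer_le u F)
  refine ⟨le_top, le_top, sconj u P, le_top, subgroupConjRight u F, hF', ?_, ?_, u⁻¹ * x * u, ⟨Subgroup.mem_top _, ?_⟩, ?_, ?_⟩
  · rw [coe_sconj]; exact hN _ h1
  · rw [coe_sconj]; exact hN _ h2
  · apply subgroupConjRight_normalizer_le u F
    rw [mem_subgroupConjRight]
    have e : u * (u⁻¹ * x * u) * u⁻¹ = x := by group
    rw [e]; exact hx.2
  · rw [coe_sconj, coe_sconj, subgroupConjRight_mul]
    have e : u * (u⁻¹ * x * u) = x * u := by group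
    rw [e, ← subgroupConjRight_mul, hc]
  · rw [coe_sconj]; exact subgroupConjRight_mono u hD

omit [Finite G] [Fact p.Prime] in
theorem reflTransGen_aStep_conj {f : Subgroup G → Set (Subgroup G)} (hf : IsNormalizerFunctor p f) (u : G)
    {D : Subgroup G} {S₁ S₂ : Sylow p G} (h : Relation.ReflTransGen (AStep f ⊤ D) S₁ S₂) :
    Relation.ReflTransGen (AStep f ⊤ (subgroupConjRight u D)) (sconj u S₁) (sconj u S₂) := by
  have := Relation.ReflTransGen.lift (sconj u) (fun a b hab => aStep_conj hf u hab) _ _ h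
  simpa only [Function.onFun] using this

omit [Finite G] [Fact p.Prime] in
theorem reflTransGen_aStep_mono {f : Subgroup G → Set (Subgroup G)} {M D D' : Subgroup G} {S₁ S₂ : Sylow p G}
    (h : Relation.ReflTransGen (AStep f M D') S₁ S₂) (hD : D ≤ D') :
    Relation.ReflTransGen (AStep f ⊤ D) S₁ S₂ :=
  Relation.ReflTransGen.mono (fun _ _ hab => aStep_mono hab hD) _ _ h

end Cfsg.Agent.Lib.Helper7
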