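import Mathlib
import Cfsg.Agent.Lib.Helper7.SCI4

set_option autoImplicit false

namespace Cfsg.Agent.Lib.Helper7

open Cfsg

variable {G : Type*} [Group G] [Finite G] {p : ℕ} [Fact p.Prime]

omit [Finite G] in
theorem subgroupConjRight_le_of_mem {M A : Subgroup G} {u : G} (hu : u ∈ M) (hA : A ≤ M) :
    subgroupConjRight u A ≤ M := by
  intro y hy
  rw [mem_subgroupConjRight] at hy
  have := M.mul_mem (M.mul_mem (M.inv_mem hu) (hA hy)) hu
  have e : u⁻¹ * (u * y * u⁻¹) * u = y := by group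
  rwa [e] at this

omit [Finite G] in
theorem subgroupConjRight_cancel_inv (u : G) (A : Subgroup G) :
    subgroupConjRight u⁻¹ (subgroupConjRight u A) = A := by
  rw [subgroupConjRight_mul, mul_inv_cancel, subgroupConjRight_one]

omit [Finite G] [Fact p.Prime] in
theorem sconj_sconj (u v : G) (S : Sylow p G) : sconj v (sconj u S) = sconj (u * v) S := by
  apply Sylow.ext
  rw [coe_sconj, coe_sconj, coe_sconj, subgroupConjRight_mul]

omit [Finite G] [Fact p.Prime] in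
theorem sconj_one (S : Sylow p G) : sconj 1 S = S := by
  apply Sylow.ext
  rw [coe_sconj, subgroupConjRight_one]

theorem ambient_factorization {f : Subgroup G → Set (Subgroup G)} (hf : IsNormalizerFunctor p f)
    (S : Sylow p G) (G₁ G₂ : Subgroup G) (h₁ : (S : Subgroup G) ≤ G₁) (h₂ : (S : Subgroup G) ≤ G₂)
    (hprod : ∀ g : G, ∃ g₁ ∈ G₁, ∃ g₂ ∈ G₂, g = g₁ * g₂)
    (hr₁ : IsFunctorRegular p f G₁) (hr₂ : IsFunctorRegular p f G₂)
    (T' : Sylow p G) (hint : (S : Subgroup G) ⊓ (T' : Subgroup G) ≠ ⊥) :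
    Relation.ReflTransGen (AStep f ⊤ ((S : Subgroup G) ⊓ (T' : Subgroup G))) S T' := by
  obtain ⟨D, hD⟩ : ∃ D : Subgroup G, D = (S : Subgroup G) ⊓ (T' : Subgroup G) := ⟨_, rfl⟩
  rw [← hD] at hint ⊢
  have hDS : D ≤ (S : Subgroup G) := by rw [hD]; exact inf_le_left
  have hDT : D ≤ (T' : Subgroup G) := by rw [hD]; exact inf_le_right
  obtain ⟨g₀, hg₀⟩ := MulAction.exists_smul_eq G S T'
  have hT' : T' = sconj g₀⁻¹ S := by
    unfold sconj; rw [inv_inv, hg₀]
  obtain ⟨g₁, hg₁, g₂, hg₂, hg⟩ := hprod g₀⁻¹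
  -- E = D^{g₂⁻¹}
  have hE₂ : subgroupConjRight g₂⁻¹ D ≤ G₂ :=
    subgroupConjRight_le_of_mem (G₂.inv_mem hg₂) (hDS.trans h₂)
  have hES : subgroupConjRight g₂⁻¹ D ≤ subgroupConjRight g₁ (S : Subgroup G) := by
    have h3 : D ≤ subgroupConjRight g₂ (subgroupConjRight g₁ (S : Subgroup G)) := by
      rw [subgroupConjRight_mul, ← hg, ← coe_sconj, ← hT']; exact hDT
    have h4 := subgroupConjRight_mono g₂⁻¹ h3
    rwa [subgroupConjRight_cancel_inv] at h4
  have hE₁ : subgroupConjRight g₂⁻¹ D ≤ G₁ := hES.trans (subgroupConjRight_le_of_mem hg₁ h₁)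
  have hEp : IsPGroup p ↥(subgroupConjRight g₂⁻¹ D) := by
    have : IsPGroup p ↥((sconj g₁ S : Sylow p G) : Subgroup G) := (sconj g₁ S).isPGroup'
    rw [coe_sconj] at this
    exact this.to_le hES
  obtain ⟨h, hh, hconj⟩ := (IsSylowIn.of_sylow_le S (le_inf h₁ h₂)).exists_conj_le hEp (le_inf hE₁ hE₂)
  -- new factorization
  have hg₂' : h * g₂ ∈ G₂ := G₂.mul_mem hh.2 hg₂
  have hg₁' : g₁ * h⁻¹ ∈ G₁ := G₁.mul_mem hg₁ (G₁.inv_mem hh.1)
  have hgg : g₁ * h⁻¹ * (h * g₂) = g₀⁻¹ := by rw [hg]; group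
  have hK1 : subgroupConjRight (h * g₂)⁻¹ D ≤ (S : Subgroup G) := by
    intro y hy
    rw [mem_subgroupConjRight] at hy
    have h5 : h⁻¹ * y * h ∈ subgroupConjRight g₂⁻¹ D := by
      rw [mem_subgroupConjRight]
      have e : g₂⁻¹ * (h⁻¹ * y * h) * g₂⁻¹⁻¹ = (h * g₂)⁻¹ * y * (h * g₂)⁻¹⁻¹ := by group
      rw [e]; exact hy
    have h6 := hconj _ h5
    have e : h * (h⁻¹ * y * h) * h⁻¹ = y := by group
    rwa [e] at h6
  have hDS₁ : D ≤ ((sconj (h * g₂) S : Sylow p G) : Subgroup G) := by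
    rw [coe_sconj]
    have := subgroupConjRight_mono (h * g₂) hK1
    rwa [subgroupConjRight_inv_cancel] at this
  have hS₁G₂ : ((sconj (h * g₂) S : Sylow p G) : Subgroup G) ≤ G₂ := by
    rw [coe_sconj]; exact subgroupConjRight_le_of_mem hg₂' h₂
  have hS₂G₁ : ((sconj (g₁ * h⁻¹) S : Sylow p G) : Subgroup G) ≤ G₁ := by
    rw [coe_sconj]; exact subgroupConjRight_le_of_mem hg₁' h₁
  have hT'' : T' = sconj (h * g₂) (sconj (g₁ * h⁻¹) S) := by
    rw [sconj_sconj, hgg, hT']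
  have hD₂S₂ : subgroupConjRight (h * g₂)⁻¹ D ≤ ((sconj (g₁ * h⁻¹) S : Sylow p G) : Subgroup G) := by
    have h3 : D ≤ subgroupConjRight (h * g₂) ((sconj (g₁ * h⁻¹) S : Sylow p G) : Subgroup G) := by
      rw [← coe_sconj, ← hT'']; exact hDT
    have h4 := subgroupConjRight_mono (h * g₂)⁻¹ h3
    rwa [subgroupConjRight_cancel_inv] at h4
  have hD₂ne : subgroupConjRight (h * g₂)⁻¹ D ≠ ⊥ := by
    intro h0
    apply hint
    have := subgroupConjRight_inv_cancel (h * g₂) D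
    rw [h0] at this
    rw [← this]
    unfold subgroupConjRight
    exact Subgroup.map_bot _
  -- part 1
  have part1 : Relation.ReflTransGen (AStep f ⊤ D) S (sconj (h * g₂) S) := by
    by_cases hne : S = sconj (h * g₂) S
    · rw [← hne]
    · have hint1 : (S : Subgroup G) ⊓ ((sconj (h * g₂) S : Sylow p G) : Subgroup G) ≠ ⊥ := by
        intro h0
        apply hint
        exact le_bot_iff.mp (h0 ▸ le_inf hDS hDS₁)
      exact reflTransGen_aStep_mono
        (regular_imp_ambient hf G₂ S h₂ hr₂ S _ h₂ hS₁G₂ hne hint1) (le_inf hDS hDS₁)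
  -- part 2
  have part2 : Relation.ReflTransGen (AStep f ⊤ (subgroupConjRight (h * g₂)⁻¹ D)) S (sconj (g₁ * h⁻¹) S) := by
    by_cases hne : S = sconj (g₁ * h⁻¹) S
    · rw [← hne]
    · have hint2 : (S : Subgroup G) ⊓ ((sconj (g₁ * h⁻¹) S : Sylow p G) : Subgroup G) ≠ ⊥ := by
        intro h0
        apply hD₂ne
        exact le_bot_iff.mp (h0 ▸ le_inf hK1 hD₂S₂)
      exact reflTransGen_aStep_mono
        (regular_imp_ambient hf G₁ S h₁ hr₁ S _ h₁ hS₂G₁ hne hint2) (le_inf hK1 hD₂S₂)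
  have part2' := reflTransGen_aStep_conj hf (h * g₂) part2
  rw [subgroupConjRight_inv_cancel, ← hT''] at part2'
  exact part1.trans part2'

theorem functorRegular_of_factorization {f : Subgroup G → Set (Subgroup G)} (hf : IsNormalizerFunctor p f)
    (S : Sylow p G) (G₁ G₂ : Subgroup G) (h₁ : (S : Subgroup G) ≤ G₁) (h₂ : (S : Subgroup G) ≤ G₂)
    (hprod : ∀ g : G, ∃ g₁ ∈ G₁, ∃ g₂ ∈ G₂, g = g₁ * g₂)
    (hr₁ : IsFunctorRegular p f G₁) (hr₂ : IsFunctorRegular p f G₂) :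
    IsFunctorRegular p f ⊤ := by
  apply ambient_imp_regular_top
  intro S' T' _ hint
  obtain ⟨u₀, hu₀⟩ := MulAction.exists_smul_eq G S S'
  have hS' : S' = sconj u₀⁻¹ S := by
    unfold sconj; rw [inv_inv, hu₀]
  have hS : S = sconj u₀ S' := by
    rw [hS', sconj_sconj, inv_mul_cancel, sconj_one]
  have hinf : (S : Subgroup G) ⊓ ((sconj u₀ T' : Sylow p G) : Subgroup G) =
      subgroupConjRight u₀ ((S' : Subgroup G) ⊓ (T' : Subgroup G)) := by
    rw [hS, coe_sconj, coe_sconj]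
    unfold subgroupConjRight
    rw [Subgroup.map_inf _ _ _ (MulAut.conj u₀⁻¹).injective]
  have hint' : (S : Subgroup G) ⊓ ((sconj u₀ T' : Sylow p G) : Subgroup G) ≠ ⊥ := by
    rw [hinf]
    intro h0
    apply hint
    unfold subgroupConjRight at h0
    exact (Subgroup.map_eq_bot_iff_of_injective _ (MulAut.conj u₀⁻¹).injective).mp h0
  have key := ambient_factorization hf S G₁ G₂ h₁ h₂ hprod hr₁ hr₂ (sconj u₀ T') hint'
  have key' := reflTransGen_aStep_conj hf u₀⁻¹ key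
  rw [hinf, subgroupConjRight_cancel_inv, sconj_sconj, mul_inv_cancel, sconj_one, ← hS'] at key'
  exact key'

end Cfsg.Agent.Lib.Helper7
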