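import Mathlib
import Cfsg.Prelude.Def_SylowControl
import Cfsg.Prelude.Def_SylowChains
import Cfsg.Agent.Lib.Helper7.SCI5
import Cfsg.Agent.Lib.Helper7.ExtremelyClosed

set_option autoImplicit false

namespace Cfsg.Agent.Lib.Helper7

open Cfsg Cfsg.Agent.Lib.Lead.Conj

variable {G : Type*} [Group G] [Finite G] {p : ℕ} [Fact p.Prime]

omit [Fact p.Prime] in
theorem exists_isMaximalPLocal_ge {N : Subgroup G} (hN : IsPLocal p N) :
    ∃ M : Subgroup G, IsMaximalPLocal p M ∧ N ≤ M := by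
  have hfin : {L : Subgroup G | IsPLocal p L ∧ N ≤ L}.Finite := Set.toFinite _
  obtain ⟨M, hM⟩ := hfin.exists_maximal ⟨N, hN, le_rfl⟩
  refine ⟨M, ⟨hM.prop.1, fun N' hN' hMN' => ?_⟩, hM.prop.2⟩
  exact le_antisymm (hM.2 ⟨hN', hM.prop.2.trans hMN'⟩ hMN') hMN'

theorem IsSylowIn.eq_of_le_sci {R R' K : Subgroup G} (hR : IsSylowIn p R K) (hRR' : R ≤ R')
    (hR'K : R' ≤ K) (hR' : IsPGroup p ↥R') : R' = R := by
  have hp : p.Prime := Fact.out
  symm
  apply Subgroup.eq_of_le_of_card_ge hRR'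
  obtain ⟨k, hk⟩ := hR'.exists_card_eq
  have hdvd : p ^ k ∣ Nat.card ↥K := by rw [← hk]; exact Subgroup.card_dvd_of_le hR'K
  rw [hk, hR.2]
  exact Nat.pow_le_pow_right hp.pos ((hp.pow_dvd_iff_le_factorization Nat.card_pos.ne').mp hdvd)

theorem IsSylowIn.of_le_mid_sci {T A A₂ : Subgroup G} (hT : IsSylowIn p T A) (h1 : T ≤ A₂) (h2 : A₂ ≤ A) :
    IsSylowIn p T A₂ := by
  have hp : p.Prime := Fact.out
  refine ⟨h1, ?_⟩
  rw [hT.2]
  congr 1
  apply le_antisymm
  · have hd : p ^ (Nat.card A).factorization p ∣ Nat.card A₂ := by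
      rw [← hT.2]; exact Subgroup.card_dvd_of_le h1
    exact (hp.pow_dvd_iff_le_factorization Nat.card_pos.ne').mp hd
  · exact (Nat.factorization_le_iff_dvd Nat.card_pos.ne' Nat.card_pos.ne').mpr
      (Subgroup.card_dvd_of_le h2) p

omit [Finite G] [Fact p.Prime] in
theorem card_subgroupConjRight (u : G) (A : Subgroup G) :
    Nat.card ↥(subgroupConjRight u A) = Nat.card ↥A := by
  unfold subgroupConjRight
  exact card_map_conj A u⁻¹

omit [Finite G] [Fact p.Prime] in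
theorem subgroupConjRight_inf (u : G) (A B : Subgroup G) :
    subgroupConjRight u (A ⊓ B) = subgroupConjRight u A ⊓ subgroupConjRight u B := by
  unfold subgroupConjRight
  exact Subgroup.map_inf _ _ _ (MulAut.conj u⁻¹).injective

omit [Finite G] [Fact p.Prime] in
theorem subgroupConjRight_eq_self_of_mem {M : Subgroup G} {u : G} (hu : u ∈ M) :
    subgroupConjRight u M = M := by
  apply le_antisymm (subgroupConjRight_le_of_mem hu le_rfl)
  have := subgroupConjRight_mono u (subgroupConjRight_le_of_mem (M.inv_mem hu) (le_refl M))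
  rwa [subgroupConjRight_inv_cancel] at this

omit [Finite G] [Fact p.Prime] in
theorem subgroupConjRight_eq_self_of_mem_normalizer {E : Subgroup G} {u : G}
    (hu : u ∈ Subgroup.normalizer (E : Set G)) : subgroupConjRight u E = E := by
  ext y
  rw [mem_subgroupConjRight]
  exact ((Subgroup.mem_normalizer_iff.mp hu) y).symm

/-- the family of S2956 -/
def famK (p : ℕ) (f : Subgroup G → Set (Subgroup G)) : Set (Subgroup G) :=
  functorFamily p f ⊤ ∪ {M | IsMaximalPLocal p M ∧ ¬ IsFunctorRegular p f M}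

omit [Finite G] [Fact p.Prime] in
theorem csiStep_mono {𝓕 : Set (Subgroup G)} {D D' : Subgroup G} (hD : D ≤ D') {S₁ S₂ : Sylow p G}
    (h : CsiStep p 𝓕 D' S₁ S₂) : CsiStep p 𝓕 D S₁ S₂ := by
  obtain ⟨X, x, h1, h2, h3, h4, h5⟩ := h
  exact ⟨X, x, h1, h2, h3, h4, hD.trans h5⟩

omit [Finite G] [Fact p.Prime] in
theorem rk_mono {𝓕 : Set (Subgroup G)} {D D' : Subgroup G} (hD : D ≤ D') {S₁ S₂ : Sylow p G}
    (h : Relation.ReflTransGen (CsiStep p 𝓕 D') S₁ S₂) :
    Relation.ReflTransGen (CsiStep p 𝓕 D) S₁ S₂ :=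
  Relation.ReflTransGen.mono (fun _ _ hab => csiStep_mono hD hab) _ _ h

/-- one step through a subgroup `X` of the family containing... -/
theorem csiStep_of_mem {𝓕 : Set (Subgroup G)} {X : Subgroup G} (hX : X ∈ 𝓕) (S : Sylow p G) {x : G} (hx : x ∈ X)
    (hS : IsSylowIn p ((S : Subgroup G) ⊓ X) X) {D : Subgroup G} (hD : D ≤ (S : Subgroup G) ⊓ X) :
    CsiStep p 𝓕 D (sconj x S) S := by
  refine ⟨X, x, ?_, ?_, hx, ?_, hD⟩
  · rw [mem_sylowMembers_iff]
    refine ⟨hX, inf_le_right, ?_⟩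
    rw [coe_sconj]
    have e : subgroupConjRight x (S : Subgroup G) ⊓ X = subgroupConjRight x ((S : Subgroup G) ⊓ X) := by
      rw [subgroupConjRight_inf, subgroupConjRight_eq_self_of_mem hx]
    rw [e, card_subgroupConjRight]
    exact hS.2
  · rw [mem_sylowMembers_iff]
    exact ⟨hX, hS⟩
  · rw [coe_sconj]

end Cfsg.Agent.Lib.Helper7
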