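import Mathlib
import Cfsg.Agent.Lib.Helper7.SCI6

set_option autoImplicit false

namespace Cfsg.Agent.Lib.Helper7

open Cfsg Cfsg.Agent.Lib.Lead.Conj

variable {G : Type*} [Group G] [Finite G] {p : ℕ} [Fact p.Prime]

omit [Finite G] [Fact p.Prime] in
/-- lifting a chain of Sylow subgroups of `M` to a chain of Sylow subgroups of `G` -/
theorem lift_chain (M D : Subgroup G) (𝓕 : Set (Subgroup G)) (𝓕M : Set (Subgroup ↥M)) (D' : Subgroup ↥M)
    (step : ∀ (R₁ R₂ : Sylow p ↥M), CsiStep p 𝓕M D' R₁ R₂ → D' ≤ (R₁ : Subgroup ↥M) →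
       ∀ T₂ : Sylow p G, (R₂ : Subgroup ↥M).map M.subtype ≤ (T₂ : Subgroup G) →
         ∃ T₁ : Sylow p G, (R₁ : Subgroup ↥M).map M.subtype ≤ (T₁ : Subgroup G) ∧
           Relation.ReflTransGen (CsiStep p 𝓕 D) T₁ T₂)
    {Ra Rb : Sylow p ↥M} (h : Relation.ReflTransGen (CsiStep p 𝓕M D') Ra Rb)
    (hDa : D' ≤ (Ra : Subgroup ↥M)) :
    D' ≤ (Rb : Subgroup ↥M) ∧ ∀ T_b : Sylow p G, (Rb : Subgroup ↥M).map M.subtype ≤ (T_b : Subgroup G) →
      ∃ T_a : Sylow p G, (Ra : Subgroup ↥M).map M.subtype ≤ (T_a : Subgroup G) ∧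
        Relation.ReflTransGen (CsiStep p 𝓕 D) T_a T_b := by
  induction h with
  | refl => exact ⟨hDa, fun T hT => ⟨T, hT, Relation.ReflTransGen.refl⟩⟩
  | @tail b c _ hbc ih =>
    obtain ⟨hDb, ihb⟩ := ih
    refine ⟨?_, fun T_c hTc => ?_⟩
    · obtain ⟨X, x, h1, h2, h3, h4, h5⟩ := hbc
      exact h5.trans inf_le_left
    · obtain ⟨T_b, hTb, hbcR⟩ := step b c hbc hDb T_c hTc
      obtain ⟨T_a, hTa, habR⟩ := ihb T_b hTb
      exact ⟨T_a, hTa, habR.trans hbcR⟩

omit [Finite G] [Fact p.Prime] in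
theorem ih_apply {𝓕 : Set (Subgroup G)} (D : Subgroup G)
    (IH : ∀ S T : Sylow p G, S ≠ T → Nat.card ↥D < Nat.card ↥((S : Subgroup G) ⊓ (T : Subgroup G)) →
      Relation.ReflTransGen (CsiStep p 𝓕 ((S : Subgroup G) ⊓ (T : Subgroup G))) S T)
    (S T : Sylow p G) [Finite ↥((S : Subgroup G) ⊓ (T : Subgroup G))]
    (Q : Subgroup G) (hQS : Q ≤ (S : Subgroup G)) (hQT : Q ≤ (T : Subgroup G))
    (hDQ : D ≤ Q) (hlt : Nat.card ↥D < Nat.card ↥Q) :
    Relation.ReflTransGen (CsiStep p 𝓕 D) S T := by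
  by_cases hne : S = T
  · subst hne; exact Relation.ReflTransGen.refl
  · have hle : Q ≤ (S : Subgroup G) ⊓ (T : Subgroup G) := le_inf hQS hQT
    have hc : Nat.card ↥Q ≤ Nat.card ↥((S : Subgroup G) ⊓ (T : Subgroup G)) := Subgroup.card_le_of_le hle
    exact rk_mono (hDQ.trans hle) (IH S T hne (lt_of_lt_of_le hlt hc))

omit [Finite G] [Fact p.Prime] in
theorem map_conj_eq_of_mem_normalizer_sci {F : Subgroup G} {h : G}
    (hh : h ∈ Subgroup.normalizer (F : Set G)) : F.map (MulAut.conj h).toMonoidHom = F := by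
  ext y
  rw [mem_map_conj]
  have := (Subgroup.mem_normalizer_iff.mp (Subgroup.inv_mem _ hh)) y
  rw [inv_inv] at this
  exact this.symm

theorem step_in_M {f : Subgroup G → Set (Subgroup G)} (hf : IsNormalizerFunctor p f)
    (hf1 : ∀ P : Subgroup G, IsPGroup p ↥P → P ≠ ⊥ → ∀ F ∈ f P, F ≠ ⊥)
    (M D : Subgroup G) (hDM : D ≤ M) (c : ℕ)
    (rec : ∀ (S : Sylow p G) (E : Subgroup G) (x : G), IsPGroup p ↥E → E ≠ ⊥ →
        x ∈ Subgroup.normalizer (E : Set G) → D ≤ (S : Subgroup G) → D ≤ (sconj x S : Subgroup G) →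
        D ≤ Subgroup.normalizer (E : Set G) →
        Nat.card ↥D < Nat.card ↥((S : Subgroup G) ⊓ Subgroup.normalizer (E : Set G)) →
        c < Nat.card ↥((S : Subgroup G) ⊓ Subgroup.normalizer (E : Set G)) →
        Relation.ReflTransGen (CsiStep p (famK p f) D) (sconj x S) S)
    (hc : c ≤ p ^ (Nat.card ↥M).factorization p)
    (hDc : Nat.card ↥D < p ^ (Nat.card ↥M).factorization p)
    (D' : Subgroup ↥M) (hDD' : D.subgroupOf M ≤ D')
    (R₁ R₂ : Sylow p ↥M)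
    (h : CsiStep p ((fun X : Subgroup G => X.subgroupOf M) '' functorFamily p f M) D' R₁ R₂)
    (hD'R₁ : D' ≤ (R₁ : Subgroup ↥M)) (T₂ : Sylow p G)
    (hT₂ : (R₂ : Subgroup ↥M).map M.subtype ≤ (T₂ : Subgroup G)) :
    ∃ T₁ : Sylow p G, (R₁ : Subgroup ↥M).map M.subtype ≤ (T₁ : Subgroup G) ∧
      Relation.ReflTransGen (CsiStep p (famK p f) D) T₁ T₂ := by
  have hp : p.Prime := Fact.out
  obtain ⟨X', x', hX1, hX2, hx', hconj, hD'⟩ := h
  rw [mem_sylowMembers_iff] at hX1 hX2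
  obtain ⟨X, ⟨P', F, hF, rfl⟩, hXX'⟩ := hX1.1
  have hXX'' : (M ⊓ Subgroup.normalizer (F : Set G)).subgroupOf M = X' := hXX'
  subst hXX''
  have hPp : IsPGroup p ↥((P' : Subgroup ↥M).map M.subtype) := P'.isPGroup'.map M.subtype
  have hFle := ((hf _ hPp).1 F hF).1
  have hFN := ((hf _ hPp).1 F hF).2
  have hP'X : (P' : Subgroup ↥M) ≤ (M ⊓ Subgroup.normalizer (F : Set G)).subgroupOf M := by
    intro y hy
    rw [Subgroup.mem_subgroupOf]
    refine ⟨y.2, hFN (Subgroup.le_normalizer ?_)⟩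
    exact ⟨y, hy, rfl⟩
  have hR₁X := le_of_isSylowIn_inf R₁ P' _ hP'X hX1.2
  have hR₂X := le_of_isSylowIn_inf R₂ P' _ hP'X hX2.2
  have hmapX : ∀ R : Sylow p ↥M, (R : Subgroup ↥M) ≤ (M ⊓ Subgroup.normalizer (F : Set G)).subgroupOf M →
      (R : Subgroup ↥M).map M.subtype ≤ M ⊓ Subgroup.normalizer (F : Set G) := by
    intro R hR y hy
    obtain ⟨r, hr, rfl⟩ := hy
    exact Subgroup.mem_subgroupOf.mp (hR hr)
  have hxF : (x' : G) ∈ Subgroup.normalizer (F : Set G) := (Subgroup.mem_subgroupOf.mp hx').2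
  have hcardR : ∀ R : Sylow p ↥M, Nat.card ↥((R : Subgroup ↥M).map M.subtype) =
      p ^ (Nat.card ↥M).factorization p := by
    intro R
    rw [Subgroup.card_map_of_injective M.subtype_injective]
    exact R.card_eq_multiplicity
  have hR₁map : (R₁ : Subgroup ↥M).map M.subtype =
      subgroupConjRight (x' : G) ((R₂ : Subgroup ↥M).map M.subtype) := by
    rw [← map_subgroupConjRight, hconj]
  have hDmap : D ≤ D'.map M.subtype := by
    have := Subgroup.map_mono (f := M.subtype) hDD'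
    rwa [Subgroup.map_subgroupOf_eq_of_le hDM] at this
  have hDR₂ : D ≤ (R₂ : Subgroup ↥M).map M.subtype :=
    hDmap.trans (Subgroup.map_mono (hD'.trans inf_le_left))
  have hDR₁ : D ≤ (R₁ : Subgroup ↥M).map M.subtype := hDmap.trans (Subgroup.map_mono hD'R₁)
  have hDF : D ≤ Subgroup.normalizer (F : Set G) := by
    intro d hd
    obtain ⟨d', hd', rfl⟩ := hDmap hd
    exact (Subgroup.mem_subgroupOf.mp ((hD'.trans inf_le_right) hd')).2
  have hR₁T₁ : (R₁ : Subgroup ↥M).map M.subtype ≤ ((sconj (x' : G) T₂ : Sylow p G) : Subgroup G) := by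
    rw [coe_sconj, hR₁map]
    exact subgroupConjRight_mono _ hT₂
  refine ⟨sconj (x' : G) T₂, hR₁T₁, ?_⟩
  by_cases hfull : (R₂ : Subgroup ↥M).map M.subtype = (T₂ : Subgroup G)
  · -- the Sylow subgroups of `M` are Sylow in `G`
    have hcardP' : Nat.card ↥((P' : Subgroup ↥M).map M.subtype) = p ^ (Nat.card G).factorization p := by
      rw [hcardR P', ← hcardR R₂, hfull]
      exact T₂.card_eq_multiplicity
    let P'' : Sylow p G := Sylow.ofCard ((P' : Subgroup ↥M).map M.subtype) hcardP'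
    have hmem : (⊤ : Subgroup G) ⊓ Subgroup.normalizer (F : Set G) ∈ functorFamily p f ⊤ := by
      refine ⟨P''.subtype le_top, F, ?_, rfl⟩
      rw [Sylow.coe_subtype, Subgroup.map_subgroupOf_eq_of_le le_top]
      exact hF
    have hT₂F : (T₂ : Subgroup G) ≤ ⊤ ⊓ Subgroup.normalizer (F : Set G) := by
      rw [← hfull]
      exact le_inf le_top ((hmapX R₂ hR₂X).trans inf_le_right)
    apply Relation.ReflTransGen.single
    apply csiStep_of_mem (Or.inl hmem) T₂ (Subgroup.mem_inf.mpr ⟨Subgroup.mem_top _, hxF⟩)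
    · rw [inf_of_le_left hT₂F]
      exact IsSylowIn.of_sylow_le T₂ hT₂F
    · rw [inf_of_le_left hT₂F, ← hfull]
      exact hDR₂
  · -- recursion
    have hP'ne : (P' : Subgroup ↥M).map M.subtype ≠ ⊥ := by
      intro h0
      have h1 := hcardR P'
      rw [h0, Subgroup.card_bot] at h1
      have : 1 ≤ Nat.card ↥D := Nat.card_pos
      omega
    -- F ∈ f (R₂.map)
    have hS1 : IsSylowIn p ((R₂ : Subgroup ↥M).map M.subtype) (M ⊓ Subgroup.normalizer (F : Set G)) :=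
      (IsSylowIn.of_sylow R₂).of_le_mid_sci (hmapX R₂ hR₂X) inf_le_left
    have hS2 : IsSylowIn p ((P' : Subgroup ↥M).map M.subtype) (M ⊓ Subgroup.normalizer (F : Set G)) :=
      (IsSylowIn.of_sylow P').of_le_mid_sci (hmapX P' hP'X) inf_le_left
    obtain ⟨h, hh, hconj'⟩ := hS2.conj hS1
    have hF' : F ∈ f ((R₂ : Subgroup ↥M).map M.subtype) := by
      rw [hconj', (hf _ hPp).2 h]
      exact ⟨F, hF, map_conj_eq_of_mem_normalizer_sci hh.2⟩
    have hR₂p : IsPGroup p ↥((R₂ : Subgroup ↥M).map M.subtype) := R₂.isPGroup'.map M.subtype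
    have hNR₂ := ((hf _ hR₂p).1 F hF').2
    -- normalizer growth
    have hgrow : (T₂ : Subgroup G) ⊓ Subgroup.normalizer (((R₂ : Subgroup ↥M).map M.subtype : Subgroup G) : Set G) ≠
        (R₂ : Subgroup ↥M).map M.subtype := by
      intro h0
      exact hfull (eq_of_inf_normalizer_eq T₂.isPGroup' hT₂ h0).symm
    have hlt1 : Nat.card ↥((R₂ : Subgroup ↥M).map M.subtype) <
        Nat.card ↥((T₂ : Subgroup G) ⊓
          Subgroup.normalizer (((R₂ : Subgroup ↥M).map M.subtype : Subgroup G) : Set G) : Subgroup G) := by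
      by_contra hnot
      exact hgrow (Subgroup.eq_of_le_of_card_ge (le_inf hT₂ Subgroup.le_normalizer) (not_lt.mp hnot)).symm
    have hlt2 : Nat.card ↥((R₂ : Subgroup ↥M).map M.subtype) <
        Nat.card ↥((T₂ : Subgroup G) ⊓ Subgroup.normalizer (F : Set G)) :=
      lt_of_lt_of_le hlt1 (Subgroup.card_le_of_le (inf_le_inf_left _ hNR₂))
    rw [hcardR R₂] at hlt2
    apply rec T₂ F (x' : G) (hPp.to_le hFle) (hf1 _ hPp hP'ne F hF) hxF (hDR₂.trans hT₂)
      (hDR₁.trans hR₁T₁) hDF (lt_trans hDc hlt2) (lt_of_le_of_lt hc hlt2)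

end Cfsg.Agent.Lib.Helper7
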