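import Mathlib
import Cfsg.Agent.Lib.Helper7.SCI7

set_option autoImplicit false

namespace Cfsg.Agent.Lib.Helper7

open Cfsg Cfsg.Agent.Lib.Lead.Conj

variable {G : Type*} [Group G] [Finite G] {p : ℕ} [Fact p.Prime]

theorem sylow_card_eq (S T : Sylow p G) : Nat.card ↥(S : Subgroup G) = Nat.card ↥(T : Subgroup G) := by
  rw [S.card_eq_multiplicity, T.card_eq_multiplicity]

theorem inner_claim {f : Subgroup G → Set (Subgroup G)} (hf : IsNormalizerFunctor p f)
    (hf1 : ∀ P : Subgroup G, IsPGroup p ↥P → P ≠ ⊥ → ∀ F ∈ f P, F ≠ ⊥)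
    (D : Subgroup G) (hD1 : D ≠ ⊥)
    (IH : ∀ S T : Sylow p G, S ≠ T → Nat.card ↥D < Nat.card ↥((S : Subgroup G) ⊓ (T : Subgroup G)) →
      Relation.ReflTransGen (CsiStep p (famK p f) ((S : Subgroup G) ⊓ (T : Subgroup G))) S T) :
    ∀ (m : ℕ) (S : Sylow p G) (E : Subgroup G) (x : G), IsPGroup p ↥E → E ≠ ⊥ →
      x ∈ Subgroup.normalizer (E : Set G) → D ≤ (S : Subgroup G) → D ≤ (sconj x S : Subgroup G) →
      D ≤ Subgroup.normalizer (E : Set G) →
      Nat.card ↥D < Nat.card ↥((S : Subgroup G) ⊓ Subgroup.normalizer (E : Set G)) →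
      Nat.card ↥(S : Subgroup G) - Nat.card ↥((S : Subgroup G) ⊓ Subgroup.normalizer (E : Set G)) = m →
      Relation.ReflTransGen (CsiStep p (famK p f) D) (sconj x S) S := by
  intro m
  induction m using Nat.strong_induction_on with
  | _ m ihm =>
  intro S E x hEp hE1 hx hDS hDSx hDL hlt hm
  obtain ⟨M, hMmax, hLM⟩ := exists_isMaximalPLocal_ge (p := p) ⟨E, hEp, hE1, rfl⟩
  have hxM : x ∈ M := hLM hx
  obtain ⟨P, hP, hSMP⟩ := exists_isSylowIn_ge (S.isPGroup'.to_le inf_le_left)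
    (inf_le_right : (S : Subgroup G) ⊓ M ≤ M)
  obtain ⟨S₃, hPS₃⟩ := hP.isPGroup.exists_le_sylow
  have hS₃M : (S₃ : Subgroup G) ⊓ M = P :=
    hP.eq_of_le_sci (le_inf hPS₃ hP.1) inf_le_right (S₃.isPGroup'.to_le inf_le_left)
  have hQP : (S : Subgroup G) ⊓ Subgroup.normalizer (E : Set G) ≤ P := (inf_le_inf_left _ hLM).trans hSMP
  have hDQ : D ≤ (S : Subgroup G) ⊓ Subgroup.normalizer (E : Set G) := le_inf hDS hDL
  have hDQx : D ≤ subgroupConjRight x ((S : Subgroup G) ⊓ Subgroup.normalizer (E : Set G)) := by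
    rw [subgroupConjRight_inf, subgroupConjRight_eq_self_of_mem hx, ← coe_sconj]
    exact le_inf hDSx hDL
  have hcardQP : Nat.card ↥((S : Subgroup G) ⊓ Subgroup.normalizer (E : Set G)) ≤ Nat.card ↥P :=
    Subgroup.card_le_of_le hQP
  have hDPlt : Nat.card ↥D < Nat.card ↥P := lt_of_lt_of_le hlt hcardQP
  have hDP : D ≤ P := hDQ.trans hQP
  have hDPx : D ≤ subgroupConjRight x P := hDQx.trans (subgroupConjRight_mono x hQP)
  have A := ih_apply D IH (sconj x S) (sconj x S₃)
    (subgroupConjRight x ((S : Subgroup G) ⊓ Subgroup.normalizer (E : Set G)))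
    (by rw [coe_sconj]; exact subgroupConjRight_mono x inf_le_left)
    (by rw [coe_sconj]; exact subgroupConjRight_mono x (hQP.trans hPS₃)) hDQx
    (by rw [card_subgroupConjRight]; exact hlt)
  have C := ih_apply D IH S₃ S ((S : Subgroup G) ⊓ Subgroup.normalizer (E : Set G))
    (hQP.trans hPS₃) inf_le_left hDQ hlt
  have B : Relation.ReflTransGen (CsiStep p (famK p f) D) (sconj x S₃) S₃ := by
    by_cases hreg : IsFunctorRegular p f M
    · by_cases hPx : subgroupConjRight x P = P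
      · apply ih_apply D IH (sconj x S₃) S₃ P ?_ hPS₃ hDP hDPlt
        rw [coe_sconj]
        calc P = subgroupConjRight x P := hPx.symm
          _ ≤ subgroupConjRight x (S₃ : Subgroup G) := subgroupConjRight_mono x hPS₃
      · obtain ⟨PM, hPM⟩ := hP.exists_sylow
        have hPMmap : (PM : Subgroup ↥M).map M.subtype = P := by
          rw [hPM, Subgroup.map_subgroupOf_eq_of_le hP.1]
        have hRa : ((sconj (⟨x, hxM⟩ : ↥M) PM : Sylow p ↥M) : Subgroup ↥M).map M.subtype =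
            subgroupConjRight x P := by
          rw [coe_sconj, map_subgroupConjRight, hPMmap]
        have hne : sconj (⟨x, hxM⟩ : ↥M) PM ≠ PM := fun h => hPx (by rw [← hRa, h, hPMmap])
        have hsub : ∀ R : Subgroup ↥M, D ≤ R.map M.subtype → D.subgroupOf M ≤ R := by
          intro R hR y hy
          obtain ⟨r, hr, hry⟩ := hR (Subgroup.mem_subgroupOf.mp hy)
          have : r = y := Subtype.ext hry
          rwa [← this]
        have hDM : D ≤ M := hDP.trans hP.1
        have hD' : D.subgroupOf M ≤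
            ((sconj (⟨x, hxM⟩ : ↥M) PM : Sylow p ↥M) : Subgroup ↥M) ⊓ (PM : Subgroup ↥M) :=
          le_inf (hsub _ (hRa ▸ hDPx)) (hsub _ (hPMmap ▸ hDP))
        have hint : ((sconj (⟨x, hxM⟩ : ↥M) PM : Sylow p ↥M) : Subgroup ↥M) ⊓ (PM : Subgroup ↥M) ≠ ⊥ := by
          intro h0
          rw [h0, le_bot_iff, Subgroup.subgroupOf_eq_bot] at hD'
          apply hD1
          rw [← inf_of_le_left hDM]
          exact disjoint_iff.mp hD'
        have hreg' := (csi_iff_reflTransGen _).mp hreg (sconj (⟨x, hxM⟩ : ↥M) PM) PM hne hint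
        have hcS : Nat.card ↥((S : Subgroup G) ⊓ Subgroup.normalizer (E : Set G)) ≤
            Nat.card ↥(S : Subgroup G) := Subgroup.card_le_of_le inf_le_left
        obtain ⟨-, hlift⟩ := lift_chain M D (famK p f) _ _
          (step_in_M hf hf1 M D hDM (Nat.card ↥((S : Subgroup G) ⊓ Subgroup.normalizer (E : Set G)))
            (fun S' E' y hE'p hE'1 hy hDS' hDS'y hDL' hlt' hc' =>
              ihm (Nat.card ↥(S' : Subgroup G) -
                  Nat.card ↥((S' : Subgroup G) ⊓ Subgroup.normalizer (E' : Set G)))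
                (by
                  have h1 : Nat.card ↥((S' : Subgroup G) ⊓ Subgroup.normalizer (E' : Set G)) ≤
                      Nat.card ↥(S' : Subgroup G) := Subgroup.card_le_of_le inf_le_left
                  have h2 := sylow_card_eq S' S
                  omega)
                S' E' y hE'p hE'1 hy hDS' hDS'y hDL' hlt' rfl)
            (by rw [← hP.2]; exact hcardQP) (by rw [← hP.2]; exact hDPlt) _ hD')
          hreg' inf_le_left
        obtain ⟨T_a, hTa, hR⟩ := hlift S₃ (hPMmap ▸ hPS₃)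
        have A2 := ih_apply D IH (sconj x S₃) T_a (subgroupConjRight x P)
          (by rw [coe_sconj]; exact subgroupConjRight_mono x hPS₃) (hRa ▸ hTa) hDPx
          (by rw [card_subgroupConjRight]; exact hDPlt)
        exact A2.trans hR
    · apply Relation.ReflTransGen.single
      apply csiStep_of_mem (Or.inr ⟨hMmax, hreg⟩) S₃ hxM
      · rw [hS₃M]; exact hP
      · rw [hS₃M]; exact hDP
  exact A.trans (B.trans C)

end Cfsg.Agent.Lib.Helper7

namespace Cfsg.Agent.Lib.Helper7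

open Cfsg Cfsg.Agent.Lib.Lead.Conj

variable {G : Type*} [Group G] [Finite G] {p : ℕ} [Fact p.Prime]

theorem main_csi {f : Subgroup G → Set (Subgroup G)} (hf : IsNormalizerFunctor p f)
    (hf1 : ∀ P : Subgroup G, IsPGroup p ↥P → P ≠ ⊥ → ∀ F ∈ f P, F ≠ ⊥) :
    ∀ (d : ℕ) (S T : Sylow p G), S ≠ T → (S : Subgroup G) ⊓ (T : Subgroup G) ≠ ⊥ →
      Nat.card ↥(S : Subgroup G) - Nat.card ↥((S : Subgroup G) ⊓ (T : Subgroup G)) = d →
      Relation.ReflTransGen (CsiStep p (famK p f) ((S : Subgroup G) ⊓ (T : Subgroup G))) S T := by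
  intro d
  induction d using Nat.strong_induction_on with
  | _ d ihd =>
  intro S T hne hint hd
  obtain ⟨D, hD⟩ : ∃ D : Subgroup G, D = (S : Subgroup G) ⊓ (T : Subgroup G) := ⟨_, rfl⟩
  rw [← hD] at hint hd ⊢
  have hDS : D ≤ (S : Subgroup G) := hD ▸ inf_le_left
  have hDT : D ≤ (T : Subgroup G) := hD ▸ inf_le_right
  have hDpos : 1 ≤ Nat.card ↥D := Nat.card_pos
  have IH : ∀ S' T' : Sylow p G, S' ≠ T' →
      Nat.card ↥D < Nat.card ↥((S' : Subgroup G) ⊓ (T' : Subgroup G)) →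
      Relation.ReflTransGen (CsiStep p (famK p f) ((S' : Subgroup G) ⊓ (T' : Subgroup G))) S' T' := by
    intro S' T' hne' hlt'
    have hint' : (S' : Subgroup G) ⊓ (T' : Subgroup G) ≠ ⊥ := by
      intro h0
      rw [h0, Subgroup.card_bot] at hlt'
      omega
    have h1 : Nat.card ↥((S' : Subgroup G) ⊓ (T' : Subgroup G)) ≤ Nat.card ↥(S' : Subgroup G) :=
      Subgroup.card_le_of_le inf_le_left
    have h2 := sylow_card_eq S' S
    exact ihd _ (by omega) S' T' hne' hint' rfl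
  have hDp : IsPGroup p ↥D := S.isPGroup'.to_le hDS
  have hDN : D ≤ Subgroup.normalizer (D : Set G) := Subgroup.le_normalizer
  -- normalizer growth
  have hgrow : ∀ S' : Sylow p G, D ≤ (S' : Subgroup G) → D ≠ (S' : Subgroup G) →
      Nat.card ↥D < Nat.card ↥((S' : Subgroup G) ⊓ Subgroup.normalizer (D : Set G)) := by
    intro S' hDS' hne'
    by_contra hnot
    have := Subgroup.eq_of_le_of_card_ge (le_inf hDS' hDN) (not_lt.mp hnot)
    exact hne' (eq_of_inf_normalizer_eq S'.isPGroup' hDS' this.symm).symm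
  have hDneS : D ≠ (S : Subgroup G) := by
    intro h0
    apply hne
    have hST : (S : Subgroup G) ≤ (T : Subgroup G) := h0 ▸ hDT
    apply Sylow.ext
    exact Subgroup.eq_of_le_of_card_ge hST (sylow_card_eq T S).le
  have hDneT : D ≠ (T : Subgroup G) := by
    intro h0
    apply hne
    have hTS : (T : Subgroup G) ≤ (S : Subgroup G) := h0 ▸ hDS
    apply Sylow.ext
    exact (Subgroup.eq_of_le_of_card_ge hTS (sylow_card_eq S T).le).symm
  have hgS := hgrow S hDS hDneS
  have hgT := hgrow T hDT hDneT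
  obtain ⟨R₁, hR₁, hSR₁⟩ := exists_isSylowIn_ge (S.isPGroup'.to_le inf_le_left)
    (inf_le_right : (S : Subgroup G) ⊓ Subgroup.normalizer (D : Set G) ≤ Subgroup.normalizer (D : Set G))
  obtain ⟨S₂, hS₂⟩ := hR₁.isPGroup.exists_le_sylow
  obtain ⟨R₂, hR₂, hTR₂⟩ := exists_isSylowIn_ge (T.isPGroup'.to_le inf_le_left)
    (inf_le_right : (T : Subgroup G) ⊓ Subgroup.normalizer (D : Set G) ≤ Subgroup.normalizer (D : Set G))
  obtain ⟨T₂, hT₂⟩ := hR₂.isPGroup.exists_le_sylow
  obtain ⟨n, hn, hconj⟩ := hR₁.conj hR₂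
  have hR₂' : R₂ = subgroupConjRight n⁻¹ R₁ := by
    unfold subgroupConjRight; rw [inv_inv]; exact hconj
  have hu : n⁻¹ ∈ Subgroup.normalizer (D : Set G) := Subgroup.inv_mem _ hn
  have hDR₁ : D ≤ R₁ := (le_inf hDS hDN).trans hSR₁
  have hDR₂ : D ≤ R₂ := (le_inf hDT hDN).trans hTR₂
  have hR₂S₂ : R₂ ≤ ((sconj n⁻¹ S₂ : Sylow p G) : Subgroup G) := by
    rw [coe_sconj, hR₂']; exact subgroupConjRight_mono _ hS₂
  have hcR₂ : Nat.card ↥D < Nat.card ↥R₂ := lt_of_lt_of_le hgT (Subgroup.card_le_of_le hTR₂)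
  have c1 := ih_apply D IH S S₂ ((S : Subgroup G) ⊓ Subgroup.normalizer (D : Set G)) inf_le_left
    (hSR₁.trans hS₂) (le_inf hDS hDN) hgS
  have c2 : Relation.ReflTransGen (CsiStep p (famK p f) D) S₂ (sconj n⁻¹ S₂) := by
    have hback : sconj (n⁻¹)⁻¹ (sconj n⁻¹ S₂) = S₂ := by
      rw [sconj_sconj, mul_inv_cancel, sconj_one]
    have := inner_claim hf hf1 D hint IH _ (sconj n⁻¹ S₂) D (n⁻¹)⁻¹ hDp hint
      (Subgroup.inv_mem _ hu) (hDR₂.trans hR₂S₂) (by rw [hback]; exact hDR₁.trans hS₂) hDN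
      (lt_of_lt_of_le hcR₂ (Subgroup.card_le_of_le (le_inf hR₂S₂ hR₂.1))) rfl
    rwa [hback] at this
  have c3 := ih_apply D IH (sconj n⁻¹ S₂) T₂ R₂ hR₂S₂ hT₂ hDR₂ hcR₂
  have c4 := ih_apply D IH T₂ T ((T : Subgroup G) ⊓ Subgroup.normalizer (D : Set G))
    (hTR₂.trans hT₂) inf_le_left (le_inf hDT hDN) hgT
  exact c1.trans (c2.trans (c3.trans c4))

theorem controlsSylowIntersections_famK {f : Subgroup G → Set (Subgroup G)} (hf : IsNormalizerFunctor p f)
    (hf1 : ∀ P : Subgroup G, IsPGroup p ↥P → P ≠ ⊥ → ∀ F ∈ f P, F ≠ ⊥) :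
    ControlsSylowIntersections p (famK p f) := by
  rw [csi_iff_reflTransGen]
  intro S T hne hint
  exact main_csi hf hf1 _ S T hne hint rfl

end Cfsg.Agent.Lib.Helper7
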