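import Mathlib

/-!
# Lifting a subgroup of order prime to the kernel

Let `σ` be a surjective homomorphism of finite groups and `Q` a subgroup of the image whose order is prime to the
order of the kernel.  By the theorem of Schur and Zassenhaus the kernel has a complement in the preimage of `Q`:
a subgroup that meets the kernel trivially, maps onto `Q`, and has as many elements as `Q`.
-/

set_option autoImplicit false

namespace Cfsg.Agent.Lib.Helper7.SZL

/-- **a subgroup of the image whose order is prime to the order of the kernel lifts to a subgroup that meets the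
kernel trivially** -/
theorem exists_lift_of_coprime {Γ G : Type*} [Group Γ] [Group G] [Finite Γ] (σ : Γ →* G)
    (hsurj : Function.Surjective σ) (Q : Subgroup G) (hcop : (Nat.card σ.ker).Coprime (Nat.card Q)) :
    ∃ H : Subgroup Γ, (∀ u, u ∈ H → u ∈ σ.ker → u = 1) ∧ (∀ y ∈ Q, ∃ x ∈ H, σ x = y) ∧
      Nat.card H ≤ Nat.card Q := by
  set P : Subgroup Γ := Q.comap σ with hP
  set τ : ↥P →* ↥Q := σ.subgroupComap Q with hτ
  have hτs : Function.Surjective τ := MonoidHom.subgroupComap_surjective_of_surjective σ Q hsurj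
  have hτv : ∀ x : ↥P, ((τ x : ↥Q) : G) = σ x.1 := fun _ => rfl
  set N : Subgroup ↥P := τ.ker with hN
  have hidx : N.index = Nat.card ↥Q := by
    rw [hN, Subgroup.index_ker, MonoidHom.range_eq_top.2 hτs, Subgroup.card_top]
  -- the order of `N` divides the order of the kernel
  have hmemN : ∀ x : ↥P, x ∈ N ↔ x.1 ∈ σ.ker := by
    intro x
    rw [hN, MonoidHom.mem_ker, MonoidHom.mem_ker, ← hτv x]
    constructor
    · intro h; rw [h]; rfl
    · intro h; exact Subtype.ext h
  let ι : ↥N →* ↥σ.ker :=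
    { toFun := fun x => ⟨x.1.1, (hmemN x.1).1 x.2⟩
      map_one' := rfl
      map_mul' := fun _ _ => rfl }
  have hι : Function.Injective ι := by
    intro x y h
    have h1 : ((ι x : ↥σ.ker) : Γ) = ((ι y : ↥σ.ker) : Γ) := congrArg Subtype.val h
    exact Subtype.ext (Subtype.ext h1)
  have hdvd : Nat.card ↥N ∣ Nat.card ↥σ.ker := Subgroup.card_dvd_of_injective ι hι
  have hcopN : (Nat.card ↥N).Coprime N.index := by
    rw [hidx]
    exact Nat.Coprime.coprime_dvd_left hdvd hcop
  obtain ⟨H', hH'⟩ := Subgroup.exists_right_complement'_of_coprime hcopN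
  refine ⟨H'.map P.subtype, ?_, ?_, ?_⟩
  · rintro u ⟨x, hx, rfl⟩ hu
    have hxN : x ∈ N := (hmemN x).2 hu
    have h1 : x ∈ N ⊓ H' := ⟨hxN, hx⟩
    rw [hH'.disjoint.eq_bot, Subgroup.mem_bot] at h1
    rw [h1]
    rfl
  · intro y hy
    obtain ⟨g, rfl⟩ := hsurj y
    have hg : g ∈ P := hy
    obtain ⟨⟨n, h⟩, hnh, -⟩ := hH'.existsUnique (⟨g, hg⟩ : ↥P)
    refine ⟨h.1.1, ⟨h.1, h.2, rfl⟩, ?_⟩
    have h2 : (n.1 : ↥P).1 * (h.1 : ↥P).1 = g := congrArg Subtype.val hnh
    have h3 : σ n.1.1 = 1 := MonoidHom.mem_ker.1 ((hmemN n.1).1 n.2)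
    rw [← h2, map_mul, h3, one_mul]
  · have h1 : Nat.card ↥(H'.map P.subtype) = Nat.card ↥H' :=
      Subgroup.card_map_of_injective P.subtype_injective
    rw [h1, ← hidx, hH'.symm.index_eq_card]

end Cfsg.Agent.Lib.Helper7.SZL
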