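import Mathlib
import Cfsg.Agent.H1.PGroup
import Cfsg.Agent.H1.Frattini

/-!
# Sylow subgroups of minimal non-nilpotent groups: the abstract automorphism lemma

A finite `p`-group `R` with an automorphism `α` of prime order `r ≠ p` such that every proper
`α`-invariant subgroup is fixed elementwise.
-/

set_option autoImplicit false
set_option linter.unusedSectionVars false
set_option linter.unusedVariables false

namespace Cfsg.Agent.Lib.Helper7.Sch

open scoped commutatorElement

/-- the structural package of a non-abelian normal Sylow subgroup of a minimal non-nilpotent group -/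
def Pkg (p : ℕ) (R : Type*) [Group R] : Prop :=
  (∀ u : R, u ^ p ∈ Subgroup.center R) ∧
  (∀ u v : R, ⁅u, v⁆ ∈ Subgroup.center R) ∧
  (∀ u : R, u ∉ Subgroup.center R → ∀ z ∈ Subgroup.center R, ∃ v : R, ⁅u, v⁆ = z) ∧
  (∀ a t : R, a ∉ Subgroup.center R → t ∈ Subgroup.center R →
     (∀ z ∈ Subgroup.center R, z ∈ Subgroup.zpowers t) →
     (∀ u : R, Commute u a → ∃ i : ℕ, u * (a ^ i)⁻¹ ∈ Subgroup.center R) → a ^ p = 1 →
     5 ≤ p ∨ (p = 2 ∧ ∀ u : R, u ∉ Subgroup.center R → u ^ 2 ≠ 1))

theorem Pkg.of_equiv {p : ℕ} {R R' : Type*} [Group R] [Group R'] (e : R ≃* R') (h : Pkg p R) :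
    Pkg p R' := by
  have hc : ∀ x : R', x ∈ Subgroup.center R' ↔ e.symm x ∈ Subgroup.center R := by
    intro x
    rw [Subgroup.mem_center_iff, Subgroup.mem_center_iff]
    constructor
    · intro hx g
      have := hx (e g)
      apply e.injective
      rw [map_mul, map_mul, e.apply_symm_apply]
      exact this
    · intro hx g
      have := hx (e.symm g)
      apply e.symm.injective
      rw [map_mul, map_mul]
      exact this
  obtain ⟨h1, h2, h3, h4⟩ := h
  refine ⟨?_, ?_, ?_, ?_⟩
  · intro u
    rw [hc, map_pow]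
    exact h1 _
  · intro u v
    rw [hc, map_commutatorElement]
    exact h2 _ _
  · intro u hu z hz
    obtain ⟨v, hv⟩ := h3 (e.symm u) (fun h => hu ((hc u).2 h)) (e.symm z) ((hc z).1 hz)
    refine ⟨e v, ?_⟩
    apply e.symm.injective
    rw [map_commutatorElement, e.symm_apply_apply]
    exact hv
  · intro a t ha htc ht hC hap
    have := h4 (e.symm a) (e.symm t) (fun h => ha ((hc a).2 h)) ((hc t).1 htc)
      (by
        intro z hz
        have hz' : e z ∈ Subgroup.center R' := by rw [hc, e.symm_apply_apply]; exact hz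
        obtain ⟨k, hk⟩ := Subgroup.mem_zpowers_iff.1 (ht _ hz')
        rw [Subgroup.mem_zpowers_iff]
        refine ⟨k, ?_⟩
        apply e.injective
        rw [map_zpow, e.apply_symm_apply]
        exact hk)
      (by
        intro u hu
        have hu' : Commute (e u) a := by
          have := hu.map e
          rwa [e.apply_symm_apply] at this
        obtain ⟨i, hi⟩ := hC (e u) hu'
        refine ⟨i, ?_⟩
        rw [hc] at hi
        rwa [map_mul, map_inv, map_pow, e.symm_apply_apply] at hi)
      (by rw [← map_pow, hap, map_one])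
    rcases this with h5 | ⟨h2', h6⟩
    · exact Or.inl h5
    · refine Or.inr ⟨h2', ?_⟩
      intro u hu hu2
      apply h6 (e.symm u) (fun h => hu ((hc u).2 h))
      rw [← map_pow, hu2, map_one]

/-- the hypotheses on `(R, α)` -/
structure Hyp (p r : ℕ) (R : Type*) [Group R] (α : MulAut R) : Prop where
  pgroup : IsPGroup p R
  rprime : r.Prime
  rne : r ≠ p
  pow : α ^ r = 1
  ne_one : ∃ u, α u ≠ u
  irred : ∀ M : Subgroup R, M ≠ ⊤ → (∀ u ∈ M, α u ∈ M) → ∀ u ∈ M, α u = u

section abs

variable {p r : ℕ} [hp : Fact p.Prime] {R : Type*} [Group R] [Finite R] {α : MulAut R}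

theorem Hyp.iter_apply (h : Hyp p r R α) {u d : R} (hd : α d = d) (hu : α u = u * d) (i : ℕ) :
    (α ^ i) u = u * d ^ i := by
  induction i with
  | zero => simp
  | succ i ih =>
    rw [pow_succ', MulAut.mul_apply, ih, map_mul, map_pow, hu, hd, pow_succ, mul_assoc]
    congr 1
    exact (pow_mul_comm' d i).symm ▸ rfl

theorem eq_one_of_pow_eq_one (h : Hyp p r R α) {d : R} (hd : d ^ r = 1) : d = 1 := by
  obtain ⟨k, hk⟩ := h.pgroup d
  have h1 : orderOf d ∣ r := orderOf_dvd_of_pow_eq_one hd
  have h2 : orderOf d ∣ p ^ k := orderOf_dvd_of_pow_eq_one hk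
  have hcop : Nat.Coprime r (p ^ k) :=
    Nat.Coprime.pow_right k ((Nat.coprime_primes h.rprime hp.out).2 h.rne)
  have h3 : orderOf d ∣ Nat.gcd r (p ^ k) := Nat.dvd_gcd h1 h2
  rw [hcop, Nat.dvd_one] at h3
  exact orderOf_eq_one_iff.1 h3

/-- if `α u = u d` with `d` fixed then `d = 1` -/
theorem Hyp.key_cop (h : Hyp p r R α) {u d : R} (hd : α d = d) (hu : α u = u * d) : d = 1 := by
  have h1 := h.iter_apply hd hu r
  rw [h.pow, MulAut.one_apply] at h1
  have h2 : d ^ r = 1 := by
    have := mul_left_cancel (a := u) (b := 1) (c := d ^ r) (by rw [mul_one]; exact h1)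
    exact this.symm
  exact eq_one_of_pow_eq_one h h2

theorem Hyp.false_of_diff_fixed (h : Hyp p r R α) (hf : ∀ u : R, α (u⁻¹ * α u) = u⁻¹ * α u) : False := by
  obtain ⟨u, hu⟩ := h.ne_one
  apply hu
  have h1 := h.key_cop (u := u) (d := u⁻¹ * α u) (hf u) (by group)
  have : α u = u * (u⁻¹ * α u) := by group
  rw [this, h1, mul_one]

theorem Hyp.nontrivial (h : Hyp p r R α) : Nontrivial R := by
  obtain ⟨u, hu⟩ := h.ne_one
  refine ⟨⟨u, 1, ?_⟩⟩
  rintro rfl
  exact hu (map_one α)

theorem Hyp.comm_fixed (h : Hyp p r R α) (u v : R) : α ⁅u, v⁆ = ⁅u, v⁆ := by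
  haveI := h.nontrivial
  haveI : Group.IsNilpotent R := h.pgroup.isNilpotent
  have hlt := Group.IsSolvable.commutator_lt_top_of_nontrivial R
  apply h.irred (commutator R) hlt.ne
  · intro x hx
    have hchar : (commutator R).Characteristic := by
      rw [commutator_def]; infer_instance
    have := (Subgroup.characteristic_iff_map_le.mp hchar) α
    exact this (Subgroup.mem_map_of_mem _ hx)
  · rw [commutator_def]
    exact Subgroup.commutator_mem_commutator (Subgroup.mem_top _) (Subgroup.mem_top _)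

theorem Hyp.fixed_mem_center (h : Hyp p r R α) {c : R} (hc : α c = c) : c ∈ Subgroup.center R := by
  by_contra hcen
  have hM : Subgroup.centralizer ({c} : Set R) ≠ ⊤ := by
    intro htop
    apply hcen
    rw [Subgroup.mem_center_iff]
    intro g
    have : g ∈ Subgroup.centralizer ({c} : Set R) := htop ▸ Subgroup.mem_top g
    exact Subgroup.mem_centralizer_singleton_iff.1 this
  have hinv : ∀ u ∈ Subgroup.centralizer ({c} : Set R), α u ∈ Subgroup.centralizer ({c} : Set R) := by
    intro u hu
    rw [Subgroup.mem_centralizer_singleton_iff] at hu ⊢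
    have := congrArg α hu
    rwa [map_mul, map_mul, hc] at this
  have hfix := h.irred _ hM hinv
  apply h.false_of_diff_fixed
  intro u
  apply hfix
  rw [Subgroup.mem_centralizer_singleton_iff]
  have h1 := h.comm_fixed u c
  rw [commutatorElement_def, map_mul, map_mul, map_mul, map_inv, map_inv, hc] at h1
  -- h1 : α u * c * (α u)⁻¹ * c⁻¹ = u * c * u⁻¹ * c⁻¹
  have h2 : α u * c * (α u)⁻¹ = u * c * u⁻¹ := mul_right_cancel h1
  calc u⁻¹ * α u * c = u⁻¹ * (α u * c * (α u)⁻¹) * α u := by group
    _ = u⁻¹ * (u * c * u⁻¹) * α u := by rw [h2]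
    _ = c * (u⁻¹ * α u) := by group

end abs

end Cfsg.Agent.Lib.Helper7.Sch
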