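import Mathlib
import Cfsg.Agent.Lib.Helper7.SchA

/-!
# Sylow subgroups of minimal non-nilpotent groups: class two, centre = derived subgroup,
and the commutator maps are onto the centre
-/

set_option autoImplicit false
set_option linter.unusedSectionVars false
set_option linter.unusedVariables false

namespace Cfsg.Agent.Lib.Helper7.Sch

open scoped commutatorElement

section class2

variable {R : Type*} [Group R]

theorem comm_mul_right (hc : ∀ a b : R, ⁅a, b⁆ ∈ Subgroup.center R) (a b c : R) :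
    ⁅a, b * c⁆ = ⁅a, b⁆ * ⁅a, c⁆ := by
  have h1 := Subgroup.mem_center_iff.1 (hc a c) b
  -- h1 : b * ⁅a, c⁆ = ⁅a, c⁆ * b
  calc ⁅a, b * c⁆ = ⁅a, b⁆ * (b * ⁅a, c⁆) * b⁻¹ := by
        simp only [commutatorElement_def]; group
    _ = ⁅a, b⁆ * (⁅a, c⁆ * b) * b⁻¹ := by rw [h1]
    _ = ⁅a, b⁆ * ⁅a, c⁆ := by group

theorem comm_mul_left (hc : ∀ a b : R, ⁅a, b⁆ ∈ Subgroup.center R) (a b c : R) :
    ⁅a * b, c⁆ = ⁅a, c⁆ * ⁅b, c⁆ := by
  have h1 := Subgroup.mem_center_iff.1 (hc b c) a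
  -- h1 : a * ⁅b, c⁆ = ⁅b, c⁆ * a
  have h2 := Subgroup.mem_center_iff.1 (hc b c) ⁅a, c⁆
  calc ⁅a * b, c⁆ = (a * ⁅b, c⁆) * a⁻¹ * ⁅a, c⁆ := by
        simp only [commutatorElement_def]; group
    _ = (⁅b, c⁆ * a) * a⁻¹ * ⁅a, c⁆ := by rw [h1]
    _ = ⁅b, c⁆ * ⁅a, c⁆ := by group
    _ = ⁅a, c⁆ * ⁅b, c⁆ := h2.symm

/-- `v ↦ ⁅u, v⁆` as a homomorphism -/
def commR (hc : ∀ a b : R, ⁅a, b⁆ ∈ Subgroup.center R) (u : R) : R →* R where
  toFun v := ⁅u, v⁆
  map_one' := by simp
  map_mul' := comm_mul_right hc u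

/-- `u ↦ ⁅u, v⁆` as a homomorphism -/
def commL (hc : ∀ a b : R, ⁅a, b⁆ ∈ Subgroup.center R) (v : R) : R →* R where
  toFun u := ⁅u, v⁆
  map_one' := by simp
  map_mul' := fun a b => comm_mul_left hc a b v

@[simp] theorem commR_apply (hc : ∀ a b : R, ⁅a, b⁆ ∈ Subgroup.center R) (u v : R) :
    commR hc u v = ⁅u, v⁆ := rfl

@[simp] theorem commL_apply (hc : ∀ a b : R, ⁅a, b⁆ ∈ Subgroup.center R) (u v : R) :
    commL hc v u = ⁅u, v⁆ := rfl

theorem comm_pow_left (hc : ∀ a b : R, ⁅a, b⁆ ∈ Subgroup.center R) (a c : R) (n : ℕ) :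
    ⁅a ^ n, c⁆ = ⁅a, c⁆ ^ n := map_pow (commL hc c) a n

theorem comm_pow_right (hc : ∀ a b : R, ⁅a, b⁆ ∈ Subgroup.center R) (a c : R) (n : ℕ) :
    ⁅a, c ^ n⁆ = ⁅a, c⁆ ^ n := map_pow (commR hc a) c n

theorem comm_inv_left (hc : ∀ a b : R, ⁅a, b⁆ ∈ Subgroup.center R) (a c : R) :
    ⁅a⁻¹, c⁆ = ⁅a, c⁆⁻¹ := map_inv (commL hc c) a

theorem comm_inv_right (hc : ∀ a b : R, ⁅a, b⁆ ∈ Subgroup.center R) (a c : R) :
    ⁅a, c⁻¹⁆ = ⁅a, c⁆⁻¹ := map_inv (commR hc a) c

theorem comm_zpow_left (hc : ∀ a b : R, ⁅a, b⁆ ∈ Subgroup.center R) (a c : R) (n : ℤ) :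
    ⁅a ^ n, c⁆ = ⁅a, c⁆ ^ n := map_zpow (commL hc c) a n

theorem comm_zpow_right (hc : ∀ a b : R, ⁅a, b⁆ ∈ Subgroup.center R) (a c : R) (n : ℤ) :
    ⁅a, c ^ n⁆ = ⁅a, c⁆ ^ n := map_zpow (commR hc a) c n

theorem comm_swap_inv (a b : R) : ⁅a, b⁆⁻¹ = ⁅b, a⁆ := commutatorElement_inv a b

theorem comm_eq_one_iff (a b : R) : ⁅a, b⁆ = 1 ↔ a * b = b * a := commutatorElement_eq_one_iff_mul_comm

end class2

section abs

variable {p r : ℕ} [hp : Fact p.Prime] {R : Type*} [Group R] [Finite R] {α : MulAut R}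

theorem Hyp.comm_mem_center (h : Hyp p r R α) (u v : R) : ⁅u, v⁆ ∈ Subgroup.center R :=
  h.fixed_mem_center (h.comm_fixed u v)

theorem Hyp.pow_mem_center (h : Hyp p r R α) (u : R) : u ^ p ∈ Subgroup.center R := by
  haveI := h.nontrivial
  apply h.fixed_mem_center
  have hne : frattini R ≠ ⊤ := by
    intro htop
    have h1 : (⊥ : Subgroup R) ⊔ frattini R = ⊤ := by rw [htop, sup_top_eq]
    exact bot_ne_top (frattini_nongenerating h1)
  apply h.irred (frattini R) hne
  · intro x hx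
    have := (Subgroup.characteristic_iff_map_le.mp (frattini_characteristic (G := R))) α
    exact this (Subgroup.mem_map_of_mem _ hx)
  · exact Cfsg.Agent.H1.pow_p_mem_frattini h.pgroup u

theorem Hyp.center_fixed (h : Hyp p r R α) (hnab : Subgroup.center R ≠ ⊤) {c : R}
    (hc : c ∈ Subgroup.center R) : α c = c := by
  apply h.irred (Subgroup.center R) hnab
  · intro x hx
    have := (Subgroup.characteristic_iff_map_le.mp (Subgroup.centerCharacteristic (G := R))) α
    exact this (Subgroup.mem_map_of_mem _ hx)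
  · exact hc

theorem Hyp.fixed_iff (h : Hyp p r R α) (hnab : Subgroup.center R ≠ ⊤) (c : R) :
    α c = c ↔ c ∈ Subgroup.center R :=
  ⟨h.fixed_mem_center, h.center_fixed hnab⟩

/-- the norm map into the abelianization -/
noncomputable def normHom (r : ℕ) (α : MulAut R) : R →* Abelianization R :=
  ∏ i ∈ Finset.range r, (Abelianization.of.comp ((α ^ i : MulAut R).toMonoidHom))

theorem normHom_apply (r : ℕ) (α : MulAut R) (u : R) :
    normHom r α u = ∏ i ∈ Finset.range r, Abelianization.of ((α ^ i) u) := by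
  unfold normHom
  rw [MonoidHom.finset_prod_apply]
  rfl

theorem normHom_map (h : Hyp p r R α) (u : R) : normHom r α (α u) = normHom r α u := by
  rw [normHom_apply, normHom_apply]
  have h1 : ∀ i, Abelianization.of ((α ^ i) (α u)) = Abelianization.of ((α ^ (i + 1)) u) := by
    intro i
    rw [pow_succ, MulAut.mul_apply]
  simp only [h1]
  have h2 := Finset.prod_range_succ' (fun i => Abelianization.of ((α ^ i) u)) r
  have h3 := Finset.prod_range_succ (fun i => Abelianization.of ((α ^ i) u)) r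
  rw [h3] at h2
  simp only [h.pow, pow_zero] at h2
  exact (mul_right_cancel h2).symm

theorem Hyp.normHom_eq_one (h : Hyp p r R α) (u : R) : normHom r α u = 1 := by
  by_contra hne
  have hM : (normHom r α).ker ≠ ⊤ := by
    intro htop
    apply hne
    have : u ∈ (normHom r α).ker := htop ▸ Subgroup.mem_top u
    exact MonoidHom.mem_ker.1 this
  have hfix := h.irred _ hM (by
    intro x hx
    rw [MonoidHom.mem_ker] at hx ⊢
    rw [normHom_map h, hx])
  apply h.false_of_diff_fixed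
  intro v
  apply hfix
  rw [MonoidHom.mem_ker, map_mul, map_inv, normHom_map h, inv_mul_cancel]

theorem Hyp.center_le_commutator (h : Hyp p r R α) (hnab : Subgroup.center R ≠ ⊤) {c : R}
    (hc : c ∈ Subgroup.center R) : c ∈ commutator R := by
  have h1 := h.normHom_eq_one c
  rw [normHom_apply] at h1
  have hfix : ∀ i : ℕ, (α ^ i) c = c := by
    intro i
    induction i with
    | zero => simp
    | succ i ih => rw [pow_succ, MulAut.mul_apply, h.center_fixed hnab hc, ih]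
  simp only [hfix, Finset.prod_const, Finset.card_range] at h1
  -- h1 : of c ^ r = 1
  obtain ⟨k, hk⟩ := h.pgroup c
  have h2 : (Abelianization.of c) ^ (p ^ k) = 1 := by rw [← map_pow, hk, map_one]
  have h3 : orderOf (Abelianization.of c) ∣ r := orderOf_dvd_of_pow_eq_one h1
  have h4 : orderOf (Abelianization.of c) ∣ p ^ k := orderOf_dvd_of_pow_eq_one h2
  have hcop : Nat.Coprime r (p ^ k) :=
    Nat.Coprime.pow_right k ((Nat.coprime_primes h.rprime hp.out).2 h.rne)
  have h5 : orderOf (Abelianization.of c) ∣ Nat.gcd r (p ^ k) := Nat.dvd_gcd h3 h4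
  rw [hcop, Nat.dvd_one] at h5
  have h6 : Abelianization.of c = 1 := orderOf_eq_one_iff.1 h5
  rw [← Abelianization.ker_of, MonoidHom.mem_ker]
  exact h6

/-- the commutator maps `v ↦ ⁅u, v⁆`, `u` non-central, are onto the centre -/
theorem Hyp.comm_surj (h : Hyp p r R α) (hnab : Subgroup.center R ≠ ⊤) {u : R}
    (hu : u ∉ Subgroup.center R) {z : R} (hz : z ∈ Subgroup.center R) : ∃ v : R, ⁅u, v⁆ = z := by
  have hc := h.comm_mem_center
  -- N = range of commR u
  obtain ⟨N, hN⟩ : ∃ N : Subgroup R, N = (commR hc u).range := ⟨_, rfl⟩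
  -- W = { w | ∀ v, ⁅w, v⁆ ∈ N }
  let W : Subgroup R :=
    { carrier := {w | ∀ v, ⁅w, v⁆ ∈ N}
      one_mem' := by intro v; simp [N.one_mem]
      mul_mem' := by
        intro a b ha hb v
        rw [comm_mul_left hc]
        exact N.mul_mem (ha v) (hb v)
      inv_mem' := by
        intro a ha v
        rw [comm_inv_left hc]
        exact N.inv_mem (ha v) }
  have huW : u ∈ W := by
    intro v
    rw [hN]
    exact ⟨v, rfl⟩
  have hWinv : ∀ w ∈ W, α w ∈ W := by
    intro w hw v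
    have h1 : ⁅α w, v⁆ = α ⁅w, α⁻¹ v⁆ := by
      rw [map_commutatorElement, MulAut.apply_inv_self]
    rw [h1, h.comm_fixed]
    exact hw _
  have hWtop : W = ⊤ := by
    by_contra hne
    have := h.irred W hne hWinv u huW
    exact hu (h.fixed_mem_center this)
  have hcomm : commutator R ≤ N := by
    rw [commutator_def, Subgroup.commutator_le]
    intro a _ b _
    have : a ∈ W := hWtop ▸ Subgroup.mem_top a
    exact this b
  have hzN : z ∈ N := hcomm (h.center_le_commutator hnab hz)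
  rw [hN] at hzN
  obtain ⟨v, hv⟩ := hzN
  exact ⟨v, hv⟩

end abs

end Cfsg.Agent.Lib.Helper7.Sch
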