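import Mathlib
import Cfsg.Agent.Lib.Helper7.SchB

/-!
# Sylow subgroups of minimal non-nilpotent groups: the case of order `p³`
-/

set_option autoImplicit false
set_option linter.unusedSectionVars false
set_option linter.unusedVariables false

namespace Cfsg.Agent.Lib.Helper7.Sch

open scoped commutatorElement

section abs

variable {p r : ℕ} [hp : Fact p.Prime] {R : Type*} [Group R] [Finite R] {α : MulAut R}

/-- `r = 2` is impossible for a non-abelian `R` -/
theorem Hyp.r_ne_two (h : Hyp p r R α) (hnab : Subgroup.center R ≠ ⊤) : r ≠ 2 := by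
  intro hr2
  obtain ⟨a, ha⟩ : ∃ a : R, a ∉ Subgroup.center R := by
    by_contra hcon
    push Not at hcon
    exact hnab (eq_top_iff.2 (fun x _ => hcon x))
  have hpow : α (α a) = a := by
    have := h.pow
    rw [hr2] at this
    have h1 : (α ^ 2) a = a := by rw [this, MulAut.one_apply]
    rwa [pow_two, MulAut.mul_apply] at h1
  -- w = a * α a is fixed
  have hw : α (a * α a) = a * α a := by
    have hd : α ⁅(α a)⁻¹, a⁻¹⁆ = ⁅(α a)⁻¹, a⁻¹⁆ := h.comm_fixed _ _
    have hu : α (a * α a) = (a * α a) * ⁅(α a)⁻¹, a⁻¹⁆ := by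
      rw [map_mul, hpow, commutatorElement_def]
      group
    have h1 := h.key_cop hd hu
    rw [hu, h1, mul_one]
  have hwc : a * α a ∈ Subgroup.center R := h.fixed_mem_center hw
  have hM : Subgroup.centralizer ({a} : Set R) ≠ ⊤ := by
    intro htop
    apply ha
    rw [Subgroup.mem_center_iff]
    intro g
    have : g ∈ Subgroup.centralizer ({a} : Set R) := htop ▸ Subgroup.mem_top g
    exact Subgroup.mem_centralizer_singleton_iff.1 this
  have hinv : ∀ x ∈ Subgroup.centralizer ({a} : Set R), α x ∈ Subgroup.centralizer ({a} : Set R) := by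
    intro x hx
    rw [Subgroup.mem_centralizer_singleton_iff] at hx ⊢
    -- α x commutes with α a
    have h1 : α x * α a = α a * α x := by rw [← map_mul, ← map_mul, hx]
    -- α a = a⁻¹ * w
    have h2 := Subgroup.mem_center_iff.1 hwc (α x)
    -- h2 : α x * (a * α a) = a * α a * α x
    have h3 : α x * a * α a = a * α x * α a := by
      calc α x * a * α a = α x * (a * α a) := by group
        _ = a * α a * α x := h2
        _ = a * (α a * α x) := by group
        _ = a * (α x * α a) := by rw [h1]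
        _ = a * α x * α a := by group
    exact mul_right_cancel h3
  have := h.irred _ hM hinv a (Subgroup.mem_centralizer_singleton_iff.2 rfl)
  exact ha (h.fixed_mem_center this)

/-- for `p = 2`, `r = 3` all involutions are central -/
theorem Hyp.no_invol (h : Hyp p r R α) (hnab : Subgroup.center R ≠ ⊤) (hp2 : p = 2) (hr3 : r = 3)
    (hexp : ∀ z ∈ Subgroup.center R, z ^ 2 = 1) {u : R} (hu : u ∉ Subgroup.center R) : u ^ 2 ≠ 1 := by
  intro hu2
  have hpow : α (α (α u)) = u := by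
    have := h.pow
    rw [hr3] at this
    have h1 : (α ^ 3) u = u := by rw [this, MulAut.one_apply]
    rwa [pow_succ, pow_two, MulAut.mul_apply, MulAut.mul_apply] at h1
  obtain ⟨u₁, hu₁⟩ : ∃ u₁, u₁ = α u := ⟨_, rfl⟩
  obtain ⟨u₂, hu₂⟩ : ∃ u₂, u₂ = α u₁ := ⟨_, rfl⟩
  have hu₀ : α u₂ = u := by rw [hu₂, hu₁]; exact hpow
  have huu : u * u = 1 := by rw [← pow_two]; exact hu2
  have hu₁u₁ : u₁ * u₁ = 1 := by rw [hu₁, ← map_mul, huu, map_one]
  have hu₂u₂ : u₂ * u₂ = 1 := by rw [hu₂, ← map_mul, hu₁u₁, map_one]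
  have huinv : u⁻¹ = u := inv_eq_of_mul_eq_one_left huu
  have hu₁inv : u₁⁻¹ = u₁ := inv_eq_of_mul_eq_one_left hu₁u₁
  -- w = u u₁ u₂ is fixed, hence central
  have hw : α (u * u₁ * u₂) = u * u₁ * u₂ := by
    have hd : α ⁅(u * u₁ * u₂)⁻¹, u⁻¹⁆ = ⁅(u * u₁ * u₂)⁻¹, u⁻¹⁆ := h.comm_fixed _ _
    have hx : α (u * u₁ * u₂) = (u * u₁ * u₂) * ⁅(u * u₁ * u₂)⁻¹, u⁻¹⁆ := by
      rw [map_mul, map_mul, ← hu₁, ← hu₂, hu₀, commutatorElement_def]
      group
    have h1 := h.key_cop hd hx
    rw [hx, h1, mul_one]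
  have hwc : u * u₁ * u₂ ∈ Subgroup.center R := h.fixed_mem_center hw
  have hw2 : (u * u₁ * u₂) * (u * u₁ * u₂) = 1 := by rw [← pow_two]; exact hexp _ hwc
  -- u and u₁ commute
  have hcomm : u * u₁ = u₁ * u := by
    -- u₂ = (u u₁)⁻¹ w
    have h1 : u₂ = (u * u₁)⁻¹ * (u * u₁ * u₂) := by group
    have h2 := Subgroup.mem_center_iff.1 hwc ((u * u₁)⁻¹)
    -- h2 : (u u₁)⁻¹ * w = w * (u u₁)⁻¹
    have h3 : (u * u₁)⁻¹ * (u * u₁)⁻¹ = 1 := by
      have h4 : u₂ * u₂ = ((u * u₁)⁻¹ * (u * u₁)⁻¹) * ((u * u₁ * u₂) * (u * u₁ * u₂)) := by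
        calc u₂ * u₂ = ((u * u₁)⁻¹ * (u * u₁ * u₂)) * ((u * u₁)⁻¹ * (u * u₁ * u₂)) := by
              rw [← h1]
          _ = (u * u₁)⁻¹ * ((u * u₁ * u₂) * (u * u₁)⁻¹) * (u * u₁ * u₂) := by group
          _ = (u * u₁)⁻¹ * ((u * u₁)⁻¹ * (u * u₁ * u₂)) * (u * u₁ * u₂) := by rw [h2]
          _ = _ := by group
      rw [hu₂u₂, hw2, mul_one] at h4
      exact h4.symm
    have h5 : (u * u₁) * (u * u₁) = 1 := by
      have := congrArg (fun x => x⁻¹) h3
      simpa using this
    calc u * u₁ = u * u₁ * ((u * u₁) * (u * u₁))⁻¹ := by rw [h5]; group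
      _ = u₁⁻¹ * u⁻¹ := by group
      _ = u₁ * u := by rw [hu₁inv, huinv]
  have hcomm₁ : u₁ * u₂ = u₂ * u₁ := by
    have := congrArg α hcomm
    rwa [map_mul, map_mul, ← hu₁, ← hu₂] at this
  have hcomm₂ : u₂ * u = u * u₂ := by
    have := congrArg α hcomm₁
    rwa [map_mul, map_mul, ← hu₂, hu₀] at this
  -- the subgroup generated by u, u₁, u₂
  have hM : Subgroup.centralizer ({u} : Set R) ≠ ⊤ := by
    intro htop
    apply hu
    rw [Subgroup.mem_center_iff]
    intro g
    have : g ∈ Subgroup.centralizer ({u} : Set R) := htop ▸ Subgroup.mem_top g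
    exact Subgroup.mem_centralizer_singleton_iff.1 this
  have hle : Subgroup.closure ({u, u₁, u₂} : Set R) ≤ Subgroup.centralizer ({u} : Set R) := by
    rw [Subgroup.closure_le]
    intro x hx
    rw [SetLike.mem_coe, Subgroup.mem_centralizer_singleton_iff]
    rcases hx with rfl | rfl | hx
    · rfl
    · exact hcomm.symm
    · rw [Set.mem_singleton_iff] at hx
      rw [hx]; exact hcomm₂
  have hne : Subgroup.closure ({u, u₁, u₂} : Set R) ≠ ⊤ := by
    intro htop
    apply hM
    rw [eq_top_iff, ← htop]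
    exact hle
  have hinv : ∀ x ∈ Subgroup.closure ({u, u₁, u₂} : Set R), α x ∈ Subgroup.closure ({u, u₁, u₂} : Set R) := by
    intro x hx
    have h1 : (Subgroup.closure ({u, u₁, u₂} : Set R)).map α.toMonoidHom ≤
        Subgroup.closure ({u, u₁, u₂} : Set R) := by
      rw [MonoidHom.map_closure, Subgroup.closure_le]
      rintro _ ⟨y, hy, rfl⟩
      apply Subgroup.subset_closure
      rcases hy with rfl | rfl | hy
      · right; left; exact hu₁.symm
      · right; right; exact hu₂.symm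
      · rw [Set.mem_singleton_iff] at hy
        left
        rw [hy]; exact hu₀
    exact h1 (Subgroup.mem_map_of_mem _ hx)
  have := h.irred _ hne hinv u (Subgroup.subset_closure (by left; rfl))
  exact hu (h.fixed_mem_center this)

end abs

end Cfsg.Agent.Lib.Helper7.Sch
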