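import Mathlib
import Cfsg.Agent.Lib.Helper7.SchC

/-!
# Sylow subgroups of minimal non-nilpotent groups: counting in the case of order `p³`,
and the package
-/

set_option autoImplicit false
set_option linter.unusedSectionVars false
set_option linter.unusedVariables false

namespace Cfsg.Agent.Lib.Helper7.Sch

open scoped commutatorElement

section abs

variable {p r : ℕ} [hp : Fact p.Prime] {R : Type*} [Group R] [Finite R] {α : MulAut R}

/-- the data of the special case -/
structure Small (p : ℕ) (R : Type*) [Group R] (a t : R) : Prop where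
  ha : a ∉ Subgroup.center R
  htc : t ∈ Subgroup.center R
  hgen : ∀ z ∈ Subgroup.center R, z ∈ Subgroup.zpowers t
  hC : ∀ u : R, Commute u a → ∃ i : ℕ, u * (a ^ i)⁻¹ ∈ Subgroup.center R
  hap : a ^ p = 1

theorem Small.center_eq {a t : R} (s : Small p R a t) : Subgroup.center R = Subgroup.zpowers t :=
  le_antisymm s.hgen ((Subgroup.zpowers_le).2 s.htc)

theorem Small.exists_v (h : Hyp p r R α) (hnab : Subgroup.center R ≠ ⊤) {a t : R} (s : Small p R a t) :
    ∃ v₀ : R, ⁅a, v₀⁆ = t := h.comm_surj hnab s.ha s.htc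

theorem Small.t_pow (h : Hyp p r R α) (hnab : Subgroup.center R ≠ ⊤) {a t : R} (s : Small p R a t) :
    t ^ p = 1 := by
  obtain ⟨v₀, hv₀⟩ := s.exists_v h hnab
  rw [← hv₀, ← comm_pow_left h.comm_mem_center, s.hap]
  simp

theorem Small.t_ne_one (h : Hyp p r R α) {a t : R} (s : Small p R a t) : t ≠ 1 := by
  intro ht
  apply s.ha
  rw [Subgroup.mem_center_iff]
  intro g
  have h1 : ⁅g, a⁆ ∈ Subgroup.zpowers t := s.hgen _ (h.comm_mem_center g a)
  rw [ht, Subgroup.zpowers_one_eq_bot, Subgroup.mem_bot] at h1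
  exact (comm_eq_one_iff g a).1 h1

theorem Small.orderOf_t (h : Hyp p r R α) (hnab : Subgroup.center R ≠ ⊤) {a t : R} (s : Small p R a t) :
    orderOf t = p :=
  orderOf_eq_prime (s.t_pow h hnab) (s.t_ne_one h)

theorem Small.card_center (h : Hyp p r R α) (hnab : Subgroup.center R ≠ ⊤) {a t : R}
    (s : Small p R a t) : Nat.card (Subgroup.center R) = p := by
  rw [s.center_eq, Nat.card_zpowers, s.orderOf_t h hnab]

theorem Small.center_pow (h : Hyp p r R α) (hnab : Subgroup.center R ≠ ⊤) {a t : R}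
    (s : Small p R a t) {z : R} (hz : z ∈ Subgroup.center R) : z ^ p = 1 := by
  obtain ⟨k, hk⟩ := Subgroup.mem_zpowers_iff.1 (s.hgen z hz)
  rw [← hk, ← zpow_natCast, ← zpow_mul, mul_comm, zpow_mul, zpow_natCast, s.t_pow h hnab, one_zpow]

theorem Small.card (h : Hyp p r R α) (hnab : Subgroup.center R ≠ ⊤) {a t : R} (s : Small p R a t) :
    Nat.card R = p ^ 3 := by
  have hc := h.comm_mem_center
  obtain ⟨v₀, hv₀⟩ := s.exists_v h hnab
  have hv₀' : ⁅v₀, a⁆ = t⁻¹ := by rw [← comm_swap_inv, hv₀]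
  obtain ⟨Θ, hΘ⟩ : ∃ Θ : R →* R × R, Θ = (commR hc a).prod (commR hc v₀) := ⟨_, rfl⟩
  have hΘa : ∀ u, Θ u = (⁅a, u⁆, ⁅v₀, u⁆) := by
    intro u; rw [hΘ]; rfl
  have hker : Θ.ker = Subgroup.center R := by
    ext u
    rw [MonoidHom.mem_ker, hΘa, Prod.mk_eq_one]
    constructor
    · rintro ⟨h1, h2⟩
      have hcomm : Commute u a := ((comm_eq_one_iff a u).1 h1).symm
      obtain ⟨i, hi⟩ := s.hC u hcomm
      have hu : u = (u * (a ^ i)⁻¹) * a ^ i := by group
      rw [hu, comm_mul_right hc, comm_pow_right hc, hv₀'] at h2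
      have h3 : ⁅v₀, u * (a ^ i)⁻¹⁆ = 1 := by
        rw [comm_eq_one_iff]
        exact Subgroup.mem_center_iff.1 hi v₀
      rw [h3, one_mul, inv_pow, inv_eq_one] at h2
      have h4 : p ∣ i := by
        rw [← s.orderOf_t h hnab]
        exact orderOf_dvd_of_pow_eq_one h2
      obtain ⟨j, hj⟩ := h4
      have h5 : a ^ i = 1 := by rw [hj, pow_mul, s.hap, one_pow]
      have h6 : u * (a ^ i)⁻¹ = u := by rw [h5, inv_one, mul_one]
      rw [h6] at hi
      exact hi
    · intro hu
      constructor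
      · rw [comm_eq_one_iff]; exact Subgroup.mem_center_iff.1 hu a
      · rw [comm_eq_one_iff]; exact Subgroup.mem_center_iff.1 hu v₀
  have hrange : Θ.range = (Subgroup.zpowers t).prod (Subgroup.zpowers t) := by
    ext ⟨x, y⟩
    rw [Subgroup.mem_prod]
    constructor
    · rintro ⟨u, hu⟩
      rw [hΘa, Prod.mk.injEq] at hu
      rw [← hu.1, ← hu.2]
      exact ⟨s.hgen _ (hc a u), s.hgen _ (hc v₀ u)⟩
    · rintro ⟨hx, hy⟩
      obtain ⟨j, hj⟩ := Subgroup.mem_zpowers_iff.1 hx
      obtain ⟨k, hk⟩ := Subgroup.mem_zpowers_iff.1 hy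
      refine ⟨v₀ ^ j * a ^ (-k), ?_⟩
      rw [hΘa, Prod.mk.injEq]
      constructor
      · rw [comm_mul_right hc, comm_zpow_right hc, comm_zpow_right hc, hv₀]
        have : ⁅a, a⁆ = 1 := by simp
        rw [this, one_zpow, mul_one]
        exact hj
      · rw [comm_mul_right hc, comm_zpow_right hc, comm_zpow_right hc, hv₀']
        have : ⁅v₀, v₀⁆ = 1 := by simp
        rw [this, one_zpow, one_mul, inv_zpow, zpow_neg, inv_inv]
        exact hk
  have h1 := Subgroup.card_mul_index Θ.ker
  rw [Subgroup.index_ker, hker, s.card_center h hnab, hrange] at h1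
  have h2 : Nat.card ↥((Subgroup.zpowers t).prod (Subgroup.zpowers t)) = p * p := by
    rw [Nat.card_congr (Subgroup.prodEquiv _ _).toEquiv, Nat.card_prod, Nat.card_zpowers,
      s.orderOf_t h hnab]
  rw [h2] at h1
  rw [← h1]
  ring

/-- the congruence `|R| ≡ |Z(R)| mod r` -/
theorem Hyp.card_modEq (h : Hyp p r R α) (hnab : Subgroup.center R ≠ ⊤) :
    Nat.card R ≡ Nat.card (Subgroup.center R) [MOD r] := by
  haveI : Fact r.Prime := ⟨h.rprime⟩
  have hP : IsPGroup r ↥(Subgroup.zpowers α) := by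
    rintro ⟨g, hg⟩
    refine ⟨1, ?_⟩
    obtain ⟨k, rfl⟩ := Subgroup.mem_zpowers_iff.1 hg
    apply Subtype.ext
    rw [Subgroup.coe_pow, Subgroup.coe_one, pow_one, ← zpow_natCast, ← zpow_mul, mul_comm, zpow_mul,
      zpow_natCast, h.pow, one_zpow]
  have h1 := hP.card_modEq_card_fixedPoints R
  have h2 : (MulAction.fixedPoints ↥(Subgroup.zpowers α) R) = (Subgroup.center R : Set R) := by
    ext u
    rw [MulAction.mem_fixedPoints, SetLike.mem_coe, ← h.fixed_iff hnab]
    constructor
    · intro hu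
      have := hu ⟨α, Subgroup.mem_zpowers α⟩
      exact this
    · rintro hu ⟨g, hg⟩
      have hinv : α⁻¹ u = u := by
        rw [MulAut.inv_def]
        exact (MulEquiv.symm_apply_eq α).2 hu.symm
      have hall : ∀ k : ℤ, (α ^ k) u = u := by
        intro k
        induction k using Int.induction_on with
        | zero => simp
        | succ i ih =>
          rw [zpow_add_one, MulAut.mul_apply, hu]
          exact ih
        | pred i ih =>
          rw [zpow_sub_one, MulAut.mul_apply, hinv]
          exact ih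
      obtain ⟨k, rfl⟩ := Subgroup.mem_zpowers_iff.1 hg
      exact hall k
  rw [h2] at h1
  exact h1

/-- the special clause of the package -/
theorem Hyp.small (h : Hyp p r R α) (hnab : Subgroup.center R ≠ ⊤) {a t : R} (s : Small p R a t) :
    5 ≤ p ∨ (p = 2 ∧ ∀ u : R, u ∉ Subgroup.center R → u ^ 2 ≠ 1) := by
  by_cases hp5 : 5 ≤ p
  · exact Or.inl hp5
  right
  have hmod := h.card_modEq hnab
  rw [s.card h hnab, s.card_center h hnab] at hmod
  have hle : p ≤ p ^ 3 := by
    calc p = p ^ 1 := (pow_one p).symm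
      _ ≤ p ^ 3 := Nat.pow_le_pow_right hp.out.pos (by norm_num)
  have hdvd : r ∣ p ^ 3 - p := (Nat.modEq_iff_dvd' hle).1 hmod.symm
  have hp2 := hp.out.two_le
  have hr2 := h.rprime.two_le
  have hrp := h.rprime
  have hpp := hp.out
  have hcases : p = 2 ∨ p = 3 := by
    have : p < 5 := by omega
    interval_cases p
    · left; rfl
    · right; rfl
    · exact absurd hpp (by decide)
  rcases hcases with rfl | rfl
  · -- p = 2: r ∣ 6, r ≠ 2
    have h6 : r ∣ 6 := by simpa using hdvd
    have hr3 : r = 3 := by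
      have hle6 : r ≤ 6 := Nat.le_of_dvd (by norm_num) h6
      have hne := h.rne
      interval_cases r
      · exact absurd rfl hne
      · rfl
      · exact absurd hrp (by decide)
      · exact absurd h6 (by decide)
      · exact absurd hrp (by decide)
    refine ⟨rfl, ?_⟩
    intro u hu
    exact h.no_invol hnab rfl hr3 (fun z hz => s.center_pow h hnab hz) hu
  · -- p = 3: r ∣ 24, r ≠ 3 so r = 2, impossible
    exfalso
    have h24 : r ∣ 24 := by simpa using hdvd
    have hne := h.rne
    have hne2 := h.r_ne_two hnab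
    have hle24 : r ≤ 24 := Nat.le_of_dvd (by norm_num) h24
    interval_cases r <;> first | exact absurd rfl hne | exact absurd rfl hne2 | exact absurd hrp (by decide) | exact absurd h24 (by decide)

/-- **the package** for a non-abelian `R` -/
theorem Hyp.pkg (h : Hyp p r R α) (hnab : Subgroup.center R ≠ ⊤) : Pkg p R := by
  refine ⟨h.pow_mem_center, h.comm_mem_center, ?_, ?_⟩
  · intro u hu z hz
    exact h.comm_surj hnab hu hz
  · intro a t ha htc hgen hC hap
    exact h.small hnab ⟨ha, htc, hgen, hC, hap⟩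

end abs

end Cfsg.Agent.Lib.Helper7.Sch
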