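import Mathlib
import Cfsg.Prelude.Def_SolvableStructure
import Cfsg.Agent.H1.SchmidtStructure
import Cfsg.Agent.H1.MaxNilpotent
import Cfsg.Agent.Lib.Helper7.SchD

/-!
# The normal Sylow subgroup of a minimal non-nilpotent group satisfies the hypotheses `Hyp`
-/

set_option autoImplicit false
set_option linter.unusedSectionVars false
set_option linter.unusedVariables false

namespace Cfsg.Agent.Lib.Helper7.Sch

open scoped commutatorElement

universe u

theorem mem_sup_of_le_normalizer {G : Type*} [Group G] {s t : Subgroup G}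
    (h : t ≤ Subgroup.normalizer (s : Set G)) {x : G} (hx : x ∈ s ⊔ t) :
    ∃ y ∈ s, ∃ z ∈ t, y * z = x := by
  rw [Subgroup.sup_eq_closure] at hx
  refine Subgroup.closure_induction ?_ ?_ ?_ ?_ hx
  · rintro x (hx | hx)
    · exact ⟨x, hx, 1, t.one_mem, by simp⟩
    · exact ⟨1, s.one_mem, x, hx, by simp⟩
  · exact ⟨1, s.one_mem, 1, t.one_mem, by simp⟩
  · rintro _ _ _ _ ⟨y₁, hy₁, z₁, hz₁, rfl⟩ ⟨y₂, hy₂, z₂, hz₂, rfl⟩
    refine ⟨y₁ * (z₁ * y₂ * z₁⁻¹), s.mul_mem hy₁ ?_, z₁ * z₂, t.mul_mem hz₁ hz₂, by group⟩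
    exact (Subgroup.mem_normalizer_iff.1 (h hz₁) y₂).1 hy₂
  · rintro _ _ ⟨y, hy, z, hz, rfl⟩
    refine ⟨z⁻¹ * y⁻¹ * z⁻¹⁻¹, ?_, z⁻¹, t.inv_mem hz, by group⟩
    exact (Subgroup.mem_normalizer_iff.1 (h (t.inv_mem hz)) y⁻¹).1 (s.inv_mem hy)

theorem exists_hyp {X : Type u} [Group X] [Finite X] {p : ℕ} [hp : Fact p.Prime]
    (hX : Cfsg.IsMinimalNonNilpotent X) (P : Sylow p X) (hPn : (P : Subgroup X).Normal)
    (hP1 : (P : Subgroup X) ≠ ⊥) :
    ∃ (r : ℕ) (α : MulAut ↥(P : Subgroup X)), Hyp p r ↥(P : Subgroup X) α := by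
  classical
  obtain ⟨p₁, q₁, hp₁, hq₁, hne, P₁, Q₁, hcyc, hQn, hsup, hPnn, hcent⟩ :=
    Cfsg.Agent.H1.minimal_non_nilpotent_aux hX
  haveI : Fact p₁.Prime := ⟨hp₁⟩
  haveI : Fact q₁.Prime := ⟨hq₁⟩
  -- `p` divides `|X|`
  have hpX : p ∣ Nat.card X := by
    have h1 : p ∣ Nat.card ↥(P : Subgroup X) := by
      obtain ⟨n, hn⟩ := IsPGroup.iff_card.1 P.isPGroup'
      have hn0 : n ≠ 0 := by
        rintro rfl
        rw [pow_zero] at hn
        exact hP1 ((Subgroup.card_eq_one).1 hn)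
      rw [hn]
      exact dvd_pow_self p hn0
    exact h1.trans (Subgroup.card_subgroup_dvd_card _)
  have hcardX : Nat.card X ∣ Nat.card ↥(Q₁ : Subgroup X) * Nat.card ↥(P₁ : Subgroup X) := by
    have h1 := Subgroup.card_mul_index (Q₁ : Subgroup X)
    have h2 : (Q₁ : Subgroup X).index = (Q₁ : Subgroup X).relIndex (P₁ : Subgroup X) := by
      rw [← Subgroup.relIndex_top_right, ← hsup, Subgroup.relIndex_sup_right]
    rw [← h1, h2]
    exact Nat.mul_dvd_mul_left _ (Subgroup.relIndex_dvd_card _ _)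
  have hpcases : p = q₁ ∨ p = p₁ := by
    obtain ⟨a, ha⟩ := IsPGroup.iff_card.1 Q₁.isPGroup'
    obtain ⟨b, hb⟩ := IsPGroup.iff_card.1 P₁.isPGroup'
    have h1 := hpX.trans hcardX
    rw [ha, hb] at h1
    rcases (Nat.Prime.dvd_mul hp.out).1 h1 with h2 | h2
    · left
      exact (Nat.prime_dvd_prime_iff_eq hp.out hq₁).1 (hp.out.dvd_of_dvd_pow h2)
    · right
      exact (Nat.prime_dvd_prime_iff_eq hp.out hp₁).1 (hp.out.dvd_of_dvd_pow h2)
  haveI := Sylow.unique_of_normal P hPn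
  rcases hpcases with rfl | rfl
  swap
  · exfalso
    apply hPnn
    have : P₁ = P := Subsingleton.elim _ _
    rw [this]
    exact hPn
  -- now `p = q₁`
  have hQP : Q₁ = P := Subsingleton.elim _ _
  subst hQP
  -- the generator
  obtain ⟨g, hg⟩ := hcyc.exists_generator
  obtain ⟨y, hy⟩ : ∃ y : X, y = (g : X) := ⟨_, rfl⟩
  have hyP₁ : y ∈ (P₁ : Subgroup X) := by rw [hy]; exact g.2
  have hzp : Subgroup.zpowers y = (P₁ : Subgroup X) := by
    apply le_antisymm
    · rw [Subgroup.zpowers_le]; exact hyP₁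
    · intro x hx
      have h1 := hg ⟨x, hx⟩
      obtain ⟨k, hk⟩ := Subgroup.mem_zpowers_iff.1 h1
      rw [Subgroup.mem_zpowers_iff]
      refine ⟨k, ?_⟩
      have := congrArg Subtype.val hk
      rw [Subgroup.coe_zpow] at this
      rw [hy]
      exact this
  have hP₁ne : (P₁ : Subgroup X) ≠ ⊥ := by
    intro h
    apply hPnn
    rw [h]
    infer_instance
  have hdisj : Disjoint (P₁ : Subgroup X) (Q₁ : Subgroup X) :=
    IsPGroup.disjoint_of_ne p₁ p hne _ _ P₁.isPGroup' Q₁.isPGroup'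
  -- order of `y`
  obtain ⟨n, hn⟩ := IsPGroup.iff_card.1 P₁.isPGroup'
  have hn0 : n ≠ 0 := by
    rintro rfl
    rw [pow_zero] at hn
    exact hP₁ne ((Subgroup.card_eq_one).1 hn)
  have hordy : orderOf y = p₁ ^ n := by
    rw [← Nat.card_zpowers, hzp, hn]
  -- elements of `Q₁` are `p`-elements
  have hordQ : ∀ u ∈ (Q₁ : Subgroup X), (orderOf u).Coprime (orderOf y) := by
    intro u hu
    obtain ⟨k, hk⟩ := (IsPGroup.iff_orderOf.1 Q₁.isPGroup') ⟨u, hu⟩
    rw [Subgroup.orderOf_mk] at hk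
    rw [hk, hordy]
    exact Nat.Coprime.pow _ _ ((Nat.coprime_primes hq₁ hp₁).2 hne.symm)
  refine ⟨p₁, MulAut.conjNormal y, ?_⟩
  have happ : ∀ u : ↥(Q₁ : Subgroup X), ((MulAut.conjNormal y u : ↥(Q₁ : Subgroup X)) : X) = y * u * y⁻¹ :=
    fun u => MulAut.conjNormal_apply y u
  refine ⟨Q₁.isPGroup', hp₁, hne, ?_, ?_, ?_⟩
  · -- `α ^ r = 1`
    rw [← map_pow]
    ext u
    rw [MulAut.conjNormal_apply, MulAut.one_apply]
    have hne' : Subgroup.zpowers (y ^ p₁) ≠ (P₁ : Subgroup X) := by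
      intro heq
      have h1 : y ∈ Subgroup.zpowers (y ^ p₁) := by rw [heq]; exact hyP₁
      obtain ⟨k, hk⟩ := Subgroup.mem_zpowers_iff.1 h1
      have h2 : y ^ ((p₁ : ℤ) * k) = y ^ (1 : ℤ) := by
        rw [zpow_mul, zpow_natCast, hk, zpow_one]
      rw [zpow_eq_zpow_iff_modEq, hordy] at h2
      have h3 : (p₁ : ℤ) ∣ (p₁ : ℤ) * k - 1 := by
        have h4 : ((p₁ ^ n : ℕ) : ℤ) ∣ (p₁ : ℤ) * k - 1 := by
          have := h2.symm.dvd
          simpa using this
        refine dvd_trans ?_ h4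
        push_cast
        exact dvd_pow_self _ hn0
      have h5 : (p₁ : ℤ) ∣ 1 := by
        have h6 : (p₁ : ℤ) ∣ (p₁ : ℤ) * k := dvd_mul_right _ _
        have := dvd_sub h6 h3
        simpa using this
      have h7 : p₁ ∣ 1 := by exact_mod_cast h5
      exact hp₁.one_lt.ne' (Nat.dvd_one.1 h7)
    have h8 := hcent (y ^ p₁) (Subgroup.pow_mem _ hyP₁ _) hne' u u.2
    rw [h8]
    group
  · -- `α ≠ 1`
    by_contra hcon
    push Not at hcon
    apply hPnn
    have hyc : ∀ d ∈ (Q₁ : Subgroup X), y * d = d * y := by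
      intro d hd
      have h1 := hcon ⟨d, hd⟩
      have h2 := congrArg Subtype.val h1
      rw [happ] at h2
      calc y * d = y * d * y⁻¹ * y := by group
        _ = d * y := by rw [h2]
    have hPc : ∀ c ∈ (P₁ : Subgroup X), ∀ d ∈ (Q₁ : Subgroup X), c * d = d * c := by
      intro c hc d hd
      rw [← hzp] at hc
      obtain ⟨k, rfl⟩ := Subgroup.mem_zpowers_iff.1 hc
      have : Commute y d := hyc d hd
      exact (this.zpow_left k).eq
    constructor
    intro m hm x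
    have hx : x ∈ (P₁ : Subgroup X) ⊔ (Q₁ : Subgroup X) := by rw [hsup]; exact Subgroup.mem_top x
    obtain ⟨c, hc, d, hd, rfl⟩ := Subgroup.mem_sup_of_normal_right.1 hx
    have h1 : d * m * d⁻¹ = m := by
      rw [← hPc m hm d hd]; group
    have h2 : c * d * m * (c * d)⁻¹ = c * (d * m * d⁻¹) * c⁻¹ := by group
    rw [h2, h1]
    exact Subgroup.mul_mem _ (Subgroup.mul_mem _ hc hm) (Subgroup.inv_mem _ hc)
  · -- irreducibility
    intro M hM hinv u hu
    have hmap : M.map (MulAut.conjNormal y : MulAut ↥(Q₁ : Subgroup X)).toMonoidHom = M := by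
      apply Subgroup.eq_of_le_of_card_ge
      · rintro _ ⟨v, hv, rfl⟩
        exact hinv v hv
      · rw [Subgroup.card_map_of_injective (MulEquiv.injective _)]
    -- `P₂`
    obtain ⟨P₂, hP₂⟩ : ∃ P₂ : Subgroup X, P₂ = M.map (Q₁ : Subgroup X).subtype := ⟨_, rfl⟩
    have hP₂le : P₂ ≤ (Q₁ : Subgroup X) := by
      rw [hP₂]
      rintro _ ⟨v, -, rfl⟩
      exact v.2
    have hmemP₂ : ∀ v : ↥(Q₁ : Subgroup X), (v : X) ∈ P₂ ↔ v ∈ M := by
      intro v
      rw [hP₂]
      constructor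
      · rintro ⟨w, hw, hwv⟩
        have : w = v := Subtype.ext hwv
        rwa [← this]
      · intro hv
        exact ⟨v, hv, rfl⟩
    have hynorm : y ∈ Subgroup.normalizer (P₂ : Set X) := by
      rw [Subgroup.mem_normalizer_iff]
      intro h
      constructor
      · intro hh
        have hhQ : h ∈ (Q₁ : Subgroup X) := hP₂le hh
        have h1 : (⟨h, hhQ⟩ : ↥(Q₁ : Subgroup X)) ∈ M := (hmemP₂ ⟨h, hhQ⟩).1 hh
        have h2 := hinv _ h1
        rw [← hmemP₂, happ] at h2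
        exact h2
      · intro hh
        have hhQ : y * h * y⁻¹ ∈ (Q₁ : Subgroup X) := hP₂le hh
        have h1 : (⟨y * h * y⁻¹, hhQ⟩ : ↥(Q₁ : Subgroup X)) ∈ M := (hmemP₂ ⟨_, hhQ⟩).1 hh
        rw [← hmap] at h1
        obtain ⟨v, hv, hvv⟩ := h1
        have h2 := congrArg Subtype.val hvv
        rw [MulEquiv.coe_toMonoidHom, happ] at h2
        have h3 : (v : X) = h := by
          have h4 : y * (v : X) * y⁻¹ = y * h * y⁻¹ := h2
          have h5 := mul_right_cancel h4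
          exact mul_left_cancel h5
        rw [← h3, hmemP₂]
        exact hv
    have hP₁norm : (P₁ : Subgroup X) ≤ Subgroup.normalizer (P₂ : Set X) := by
      rw [← hzp, Subgroup.zpowers_le]
      exact hynorm
    have hHne : P₂ ⊔ (P₁ : Subgroup X) ≠ ⊤ := by
      intro htop
      apply hM
      rw [eq_top_iff]
      intro u' _
      have h1 : (u' : X) ∈ P₂ ⊔ (P₁ : Subgroup X) := htop ▸ Subgroup.mem_top _
      obtain ⟨m, hm, c, hc, hmc⟩ := mem_sup_of_le_normalizer hP₁norm h1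
      have hcQ : c ∈ (Q₁ : Subgroup X) := by
        have : c = m⁻¹ * (u' : X) := by rw [← hmc]; group
        rw [this]
        exact Subgroup.mul_mem _ (Subgroup.inv_mem _ (hP₂le hm)) u'.2
      have hc1 : c = 1 := by
        have := hdisj.le_bot (Subgroup.mem_inf.2 ⟨hc, hcQ⟩)
        exact (Subgroup.mem_bot).1 this
      rw [hc1, mul_one] at hmc
      rw [← hmemP₂, ← hmc]
      exact hm
    have hnil : Group.IsNilpotent ↥(P₂ ⊔ (P₁ : Subgroup X)) := hX.2 _ hHne
    have huX : (u : X) ∈ P₂ ⊔ (P₁ : Subgroup X) :=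
      Subgroup.mem_sup_left ((hmemP₂ u).2 hu)
    have hyX : y ∈ P₂ ⊔ (P₁ : Subgroup X) := Subgroup.mem_sup_right hyP₁
    have hcomm := Cfsg.Agent.H1.commute_of_mem_nilpotent hnil huX hyX (hordQ _ u.2)
    apply Subtype.ext
    rw [happ, ← hcomm]
    group

end Cfsg.Agent.Lib.Helper7.Sch
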