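import Mathlib
import Cfsg.Agent.Lib.Helper7.SchB

/-!
# Sylow subgroups of minimal non-nilpotent type: the trichotomy inside the `p`-group

`R` is a finite `p`-group with the package `Pkg p R`, `p < 5`; `V ≤ Bt` are subgroups with
`Z(R) ≤ V`, `C_R(V) ≤ V` and `R = Bt ⟨a⟩`.
-/

set_option autoImplicit false
set_option linter.unusedSectionVars false
set_option linter.unusedVariables false

namespace Cfsg.Agent.Lib.Helper7.Sch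

open scoped commutatorElement

section tri

variable {p : ℕ} [hp : Fact p.Prime] {R : Type*} [Group R] [Finite R]

/-- `V = Z ⟨a₁⟩` -/
def Gen1 (V : Subgroup R) (a₁ : R) : Prop :=
  a₁ ∈ V ∧ a₁ ∉ Subgroup.center R ∧ ∀ v ∈ V, ∃ i : ℕ, v * (a₁ ^ i)⁻¹ ∈ Subgroup.center R

theorem Gen1.comm {V : Subgroup R} {a₁ : R} (h : Gen1 V a₁) {v v' : R} (hv : v ∈ V) (hv' : v' ∈ V) :
    v * v' = v' * v := by
  obtain ⟨i, hi⟩ := h.2.2 v hv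
  obtain ⟨j, hj⟩ := h.2.2 v' hv'
  have e1 : v = (v * (a₁ ^ i)⁻¹) * a₁ ^ i := by group
  have e2 : v' = (v' * (a₁ ^ j)⁻¹) * a₁ ^ j := by group
  have c1 : ∀ g : R, Commute (v * (a₁ ^ i)⁻¹) g := fun g =>
    (Subgroup.mem_center_iff.1 hi g).symm
  have c2 : ∀ g : R, Commute (v' * (a₁ ^ j)⁻¹) g := fun g =>
    (Subgroup.mem_center_iff.1 hj g).symm
  have c3 : Commute (a₁ ^ i) (a₁ ^ j) := (Commute.refl a₁).pow_pow i j
  have : Commute v v' := by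
    rw [e1, e2]
    exact Commute.mul_left (Commute.mul_right (c1 _) (c1 _))
      (Commute.mul_right (c2 _).symm c3)
  exact this

/-- an element commuting with the generator commutes with `V` -/
theorem Gen1.comm_of_comm {V : Subgroup R} {a₁ : R} (h : Gen1 V a₁) {u : R} (hu : Commute u a₁)
    {v : R} (hv : v ∈ V) : u * v = v * u := by
  obtain ⟨i, hi⟩ := h.2.2 v hv
  have e1 : v = (v * (a₁ ^ i)⁻¹) * a₁ ^ i := by group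
  have c1 : Commute u (v * (a₁ ^ i)⁻¹) := (Subgroup.mem_center_iff.1 hi u)
  have : Commute u v := by
    rw [e1]
    exact Commute.mul_right c1 (hu.pow_right i)
  exact this

theorem pow_mem_center_of_dvd (pk : Pkg p R) (a₁ : R) {i : ℕ} (hi : p ∣ i) :
    a₁ ^ i ∈ Subgroup.center R := by
  obtain ⟨m, rfl⟩ := hi
  rw [pow_mul]
  exact Subgroup.pow_mem _ (pk.1 a₁) m

/-- the centralizer in `V = Z⟨a₁⟩` of an element outside `V` is the centre -/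
theorem Gen1.cent_eq (hR : IsPGroup p R) (pk : Pkg p R) {V : Subgroup R} {a₁ : R} (h : Gen1 V a₁)
    (hCV : ∀ u : R, (∀ v ∈ V, u * v = v * u) → u ∈ V) {g : R} (hg : g ∉ V) {v : R} (hv : v ∈ V)
    (hvg : v * g = g * v) : v ∈ Subgroup.center R := by
  have hc := pk.2.1
  obtain ⟨i, hi⟩ := h.2.2 v hv
  -- `⁅a₁, g⁆ ≠ 1`
  have hne : ⁅a₁, g⁆ ≠ 1 := by
    intro h1
    apply hg
    apply hCV
    intro v' hv'
    exact h.comm_of_comm (commutatorElement_eq_one_iff_mul_comm.1 h1).symm hv'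
  -- `⁅a₁, g⁆ ^ i = 1`
  have h2 : ⁅a₁, g⁆ ^ i = 1 := by
    rw [← comm_pow_left hc, commutatorElement_eq_one_iff_mul_comm]
    have e1 : a₁ ^ i = (v * (a₁ ^ i)⁻¹)⁻¹ * v := by group
    have c1 : Commute (v * (a₁ ^ i)⁻¹)⁻¹ g :=
      (Subgroup.mem_center_iff.1 (Subgroup.inv_mem _ hi) g).symm
    have : Commute (a₁ ^ i) g := by
      rw [e1]
      exact Commute.mul_left c1 hvg
    exact this
  have hdvd : p ∣ i := by
    have h3 : orderOf ⁅a₁, g⁆ ∣ i := orderOf_dvd_of_pow_eq_one h2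
    obtain ⟨k', hk'⟩ := hR ⁅a₁, g⁆
    obtain ⟨k, -, hk⟩ := (Nat.dvd_prime_pow hp.out).1 (orderOf_dvd_of_pow_eq_one hk')
    have hk0 : k ≠ 0 := by
      rintro rfl
      rw [pow_zero, orderOf_eq_one_iff] at hk
      exact hne hk
    rw [hk] at h3
    exact (dvd_pow_self p hk0).trans h3
  have e2 : v = (v * (a₁ ^ i)⁻¹) * a₁ ^ i := by group
  rw [e2]
  exact Subgroup.mul_mem _ hi (pow_mem_center_of_dvd pk a₁ hdvd)

/-- if `R = V ⟨a⟩` and `V = Z ⟨a₁⟩` then `Z = ⟨⁅a₁, a⁆⟩` -/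
theorem Gen1.center_cyclic (pk : Pkg p R) {V : Subgroup R} {a₁ a : R} (h : Gen1 V a₁)
    (ha : ∀ u : R, ∃ i : ℕ, u * (a ^ i)⁻¹ ∈ V) {z : R} (hz : z ∈ Subgroup.center R) :
    z ∈ Subgroup.zpowers ⁅a₁, a⁆ := by
  have hc := pk.2.1
  obtain ⟨g, hg⟩ := pk.2.2.1 a₁ h.2.1 z hz
  obtain ⟨i, hi⟩ := ha g
  have e1 : g = (g * (a ^ i)⁻¹) * a ^ i := by group
  have h1 : ⁅a₁, g * (a ^ i)⁻¹⁆ = 1 :=
    commutatorElement_eq_one_iff_mul_comm.2 (h.comm h.1 hi)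
  rw [e1, comm_mul_right hc, h1, one_mul, comm_pow_right hc] at hg
  rw [← hg]
  exact Subgroup.pow_mem _ (Subgroup.mem_zpowers _) i

/-- the special clause excludes a generator of order `p` when `p < 5` -/
theorem Gen1.false_of_pow (pk : Pkg p R) (hp5 : ¬ 5 ≤ p) {V : Subgroup R} {a₂ a : R} (h : Gen1 V a₂)
    (hCV : ∀ u : R, (∀ v ∈ V, u * v = v * u) → u ∈ V)
    (ha : ∀ u : R, ∃ i : ℕ, u * (a ^ i)⁻¹ ∈ V) (hpow : a₂ ^ p = 1) : False := by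
  have hc := pk.2.1
  have h4 := pk.2.2.2 a₂ ⁅a₂, a⁆ h.2.1 (hc _ _) (fun z hz => h.center_cyclic pk ha hz)
    (by
      intro u hu
      have huV : u ∈ V := hCV u (fun v hv => h.comm_of_comm hu hv)
      exact h.2.2 u huV) hpow
  rcases h4 with h5 | ⟨h2, hall⟩
  · exact hp5 h5
  · apply hall a₂ h.2.1
    rw [← h2]
    exact hpow

/-- if no generator has order `p` then `V` is cyclic -/
theorem Gen1.cyclic (hR : IsPGroup p R) (pk : Pkg p R) {V : Subgroup R} {a₁ a : R} (h : Gen1 V a₁)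
    (hZV : Subgroup.center R ≤ V)
    (ha : ∀ u : R, ∃ i : ℕ, u * (a ^ i)⁻¹ ∈ V)
    (hno : ∀ a₂ : R, Gen1 V a₂ → a₂ ^ p ≠ 1) : ∀ v ∈ V, v ∈ Subgroup.zpowers a₁ := by
  have hc := pk.2.1
  have htc : ⁅a₁, a⁆ ∈ Subgroup.center R := hc _ _
  have hpz := h.center_cyclic pk ha (pk.1 a₁)
  rw [← mem_powers_iff_mem_zpowers] at hpz
  obtain ⟨j, hj0⟩ := hpz
  have hj : ⁅a₁, a⁆ ^ j = a₁ ^ p := hj0
  clear hj0
  have hndvd : ¬ p ∣ j := by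
    rintro ⟨j', rfl⟩
    -- a₂ := a₁ * (t ^ j')⁻¹
    have hcent : (⁅a₁, a⁆ ^ j')⁻¹ ∈ Subgroup.center R :=
      Subgroup.inv_mem _ (Subgroup.pow_mem _ htc j')
    have hcomm : Commute a₁ (⁅a₁, a⁆ ^ j')⁻¹ := Subgroup.mem_center_iff.1 hcent a₁
    apply hno (a₁ * (⁅a₁, a⁆ ^ j')⁻¹)
    · refine ⟨V.mul_mem h.1 (hZV hcent), ?_, ?_⟩
      · intro hmem
        apply h.2.1
        have : a₁ = (a₁ * (⁅a₁, a⁆ ^ j')⁻¹) * (⁅a₁, a⁆ ^ j') := by group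
        rw [this]
        exact Subgroup.mul_mem _ hmem (Subgroup.pow_mem _ htc j')
      · intro v hv
        obtain ⟨i, hi⟩ := h.2.2 v hv
        refine ⟨i, ?_⟩
        rw [hcomm.mul_pow, mul_inv_rev, ← mul_assoc]
        have hcent2 : ((⁅a₁, a⁆ ^ j')⁻¹ ^ i)⁻¹ ∈ Subgroup.center R :=
          Subgroup.inv_mem _ (Subgroup.pow_mem _ hcent i)
        have hc2 := Subgroup.mem_center_iff.1 hcent2 v
        rw [hc2, mul_assoc]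
        exact Subgroup.mul_mem _ hcent2 hi
    · rw [hcomm.mul_pow, ← hj, inv_pow, ← pow_mul, mul_comm j' p, mul_inv_cancel]
  -- `t ∈ ⟨a₁⟩`
  have hcop : Nat.Coprime j (orderOf ⁅a₁, a⁆) := by
    obtain ⟨k', hk'⟩ := hR ⁅a₁, a⁆
    obtain ⟨k, -, hk⟩ := (Nat.dvd_prime_pow hp.out).1 (orderOf_dvd_of_pow_eq_one hk')
    rw [hk]
    apply Nat.Coprime.pow_right
    exact ((Nat.Prime.coprime_iff_not_dvd hp.out).2 hndvd).symm
  obtain ⟨m, hm⟩ := exists_pow_eq_self_of_coprime hcop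
  have ht : ⁅a₁, a⁆ ∈ Subgroup.zpowers a₁ := by
    rw [← hm, hj]
    exact Subgroup.pow_mem _ (Subgroup.pow_mem _ (Subgroup.mem_zpowers _) p) m
  intro v hv
  obtain ⟨i, hi⟩ := h.2.2 v hv
  have hz := h.center_cyclic pk ha hi
  have e1 : v = (v * (a₁ ^ i)⁻¹) * a₁ ^ i := by group
  rw [e1]
  apply Subgroup.mul_mem
  · exact (Subgroup.zpowers_le.2 ht) hz
  · exact Subgroup.pow_mem _ (Subgroup.mem_zpowers _) i

/-- **Lemma C**: if `Z ≰ ⁅V, Bt⁆ ⊔ (Z ⊓ F)` then `V = Z ⟨a₀⟩` for every `a₀ ∈ V ∖ Z` -/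
theorem gen1_of_not_le (pk : Pkg p R) {V Bt F : Subgroup R}
    {a : R} (ha : ∀ u : R, ∃ i : ℕ, u * (a ^ i)⁻¹ ∈ Bt)
    {z₀ : R} (hz₀ : z₀ ∈ Subgroup.center R) (hz₀M : z₀ ∉ ⁅V, Bt⁆ ⊔ (Subgroup.center R ⊓ F))
    {a₀ : R} (ha₀ : a₀ ∈ V) (ha₀Z : a₀ ∉ Subgroup.center R) : Gen1 V a₀ := by
  have hc := pk.2.1
  -- Step 1
  have step1 : ∀ a₁ ∈ V, a₁ ∉ Subgroup.center R → ∀ z ∈ Subgroup.center R,
      ∃ j : ℕ, z * (⁅a₁, a⁆ ^ j)⁻¹ ∈ ⁅V, Bt⁆ ⊔ (Subgroup.center R ⊓ F) := by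
    intro a₁ ha₁ ha₁Z z hz
    obtain ⟨g, hg⟩ := pk.2.2.1 a₁ ha₁Z z hz
    obtain ⟨i, hi⟩ := ha g
    refine ⟨i, ?_⟩
    have e1 : g = (g * (a ^ i)⁻¹) * a ^ i := by group
    rw [e1, comm_mul_right hc, comm_pow_right hc] at hg
    rw [← hg, mul_inv_cancel_right]
    exact (le_sup_left : ⁅V, Bt⁆ ≤ _) (Subgroup.commutator_mem_commutator ha₁ hi)
  refine ⟨ha₀, ha₀Z, ?_⟩
  intro v hv
  obtain ⟨j, hj⟩ := step1 a₀ ha₀ ha₀Z ⁅v, a⁆ (hc _ _)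
  refine ⟨j, ?_⟩
  by_contra hnot
  have h2 : ⁅v * (a₀ ^ j)⁻¹, a⁆ = ⁅v, a⁆ * (⁅a₀, a⁆ ^ j)⁻¹ := by
    rw [comm_mul_left hc, comm_inv_left hc, comm_pow_left hc]
  obtain ⟨j', hj'⟩ := step1 (v * (a₀ ^ j)⁻¹) (V.mul_mem hv (V.inv_mem (V.pow_mem ha₀ j))) hnot z₀ hz₀
  apply hz₀M
  rw [h2] at hj'
  have : z₀ = (z₀ * ((⁅v, a⁆ * (⁅a₀, a⁆ ^ j)⁻¹) ^ j')⁻¹) * (⁅v, a⁆ * (⁅a₀, a⁆ ^ j)⁻¹) ^ j' := by group
  rw [this]
  exact Subgroup.mul_mem _ hj' (Subgroup.pow_mem _ hj j')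

/-- **the trichotomy** -/
theorem trichotomy (hR : IsPGroup p R) (pk : Pkg p R) (hp5 : ¬ 5 ≤ p) {V Bt F : Subgroup R}
    (hZV : Subgroup.center R ≤ V) (hVB : V ≤ Bt)
    (hCV : ∀ u : R, (∀ v ∈ V, u * v = v * u) → u ∈ V)
    {a : R} (ha : ∀ u : R, ∃ i : ℕ, u * (a ^ i)⁻¹ ∈ Bt) :
    (Subgroup.center R ≤ ⁅V, Bt⁆ ⊔ (Subgroup.center R ⊓ F)) ∨
    ((∀ v ∈ V, ∀ v' ∈ V, v * v' = v' * v) ∧
      ∃ g ∈ Bt, g ∉ V ∧ ∀ v ∈ V, v * g = g * v → v ∈ Subgroup.center R) ∨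
    (∃ a₀ ∈ V, ∀ v ∈ V, v ∈ Subgroup.zpowers a₀) ∨
    (∀ u : R, u ∈ V) := by
  by_cases hVZ : V ≤ Subgroup.center R
  · right; right; right
    intro u
    apply hCV
    intro v hv
    exact Subgroup.mem_center_iff.1 (hVZ hv) u
  obtain ⟨a₀, ha₀, ha₀Z⟩ := SetLike.not_le_iff_exists.1 hVZ
  by_cases hC2 : ∃ a₁ : R, Gen1 V a₁
  · obtain ⟨a₁, h1⟩ := hC2
    by_cases hB : ∃ g ∈ Bt, g ∉ V
    · obtain ⟨g, hgB, hgV⟩ := hB
      right; left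
      refine ⟨fun v hv v' hv' => h1.comm hv hv', g, hgB, hgV, ?_⟩
      intro v hv hvg
      exact h1.cent_eq hR pk hCV hgV hv hvg
    · push_neg at hB
      have ha' : ∀ u : R, ∃ i : ℕ, u * (a ^ i)⁻¹ ∈ V := by
        intro u
        obtain ⟨i, hi⟩ := ha u
        exact ⟨i, hB _ hi⟩
      by_cases hi : ∃ a₂ : R, Gen1 V a₂ ∧ a₂ ^ p = 1
      · obtain ⟨a₂, h2, hpow⟩ := hi
        exact (h2.false_of_pow pk hp5 hCV ha' hpow).elim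
      · push_neg at hi
        right; right; left
        exact ⟨a₁, h1.1, h1.cyclic hR pk hZV ha' hi⟩
  · left
    by_contra hnot
    obtain ⟨z₀, hz₀, hz₀M⟩ := SetLike.not_le_iff_exists.1 hnot
    exact hC2 ⟨a₀, gen1_of_not_le pk ha hz₀ hz₀M ha₀ ha₀Z⟩

end tri

end Cfsg.Agent.Lib.Helper7.Sch
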