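import Mathlib
import Cfsg.Agent.H1.Frattini
import Cfsg.Agent.H2.AutFrattini
import Cfsg.Agent.Lib.Lead.QuotAut

/-!
# Stabilizers of chains in a normal `p`-subgroup

* `frat_cent` : an element acting trivially on `V / Φ(V)` has a `p`-power in `V` (if `C_G(V) ≤ V`);
* `chain_pow` : an element stabilizing `V ≥ W ≥ Φ(V)` has its `p`-th power acting trivially on
  `V / Φ(V)`.
-/

set_option autoImplicit false
set_option linter.unusedSectionVars false
set_option linter.unusedVariables false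

namespace Cfsg.Agent.Lib.Helper7.Sch

open scoped commutatorElement

section chain

variable {G : Type*} [Group G] [Finite G] {p : ℕ} [hp : Fact p.Prime]

/-- the Frattini subgroup of a normal subgroup, as a subgroup of `G` -/
def fratOf (V : Subgroup G) : Subgroup G := (frattini ↥V).map V.subtype

instance fratOf_normal (V : Subgroup G) [V.Normal] : (fratOf V).Normal :=
  ConjAct.normal_of_characteristic_of_normal

theorem fratOf_le (V : Subgroup G) : fratOf V ≤ V := by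
  rintro _ ⟨y, _, rfl⟩
  exact y.2

theorem pow_mem_fratOf {V : Subgroup G} (hV : IsPGroup p V) {v : G} (hv : v ∈ V) :
    v ^ p ∈ fratOf V :=
  ⟨⟨v, hv⟩ ^ p, Cfsg.Agent.H1.pow_p_mem_frattini hV ⟨v, hv⟩, rfl⟩

/-- an element acting trivially on `V / Φ(V)` has a `p`-power in `V` -/
theorem frat_cent (V : Subgroup G) [V.Normal] (hV : IsPGroup p V)
    (hCV : Subgroup.centralizer (V : Set G) ≤ V) (c : G)
    (hc : ∀ v ∈ V, c * v * c⁻¹ * v⁻¹ ∈ fratOf V) : ∃ m : ℕ, c ^ (p ^ m) ∈ V := by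
  have hα : ∀ x : ↥V, (MulAut.conjNormal c : MulAut ↥V) x * x⁻¹ ∈ frattini ↥V := by
    intro x
    obtain ⟨y, hy, hyx⟩ := hc x x.2
    have : y = (MulAut.conjNormal c : MulAut ↥V) x * x⁻¹ := by
      apply Subtype.ext
      rw [Subgroup.coe_mul, MulAut.conjNormal_apply, Subgroup.coe_inv]
      exact hyx
    rw [← this]
    exact hy
  have hA : ∀ β ∈ Subgroup.zpowers (MulAut.conjNormal c : MulAut ↥V), ∀ x : ↥V,
      β x * x⁻¹ ∈ frattini ↥V := by
    intro β hβ
    have hle : Subgroup.zpowers (MulAut.conjNormal c : MulAut ↥V) ≤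
        Cfsg.Agent.Lib.Lead.QuotAut.trivOnFrattini ↥V := by
      rw [Subgroup.zpowers_le]
      exact hα
    exact hle hβ
  obtain ⟨n, hn⟩ := IsPGroup.iff_card.mp hV
  obtain ⟨r, -, hr⟩ := (Nat.dvd_prime_pow hp.out).mp (hn ▸ Subgroup.index_dvd_card (frattini ↥V))
  have hdvd := Cfsg.Agent.H2.AutFrat.card_dvd_of_trivial_on_frattini_quotient hn hr _ hA
  rw [Nat.card_zpowers] at hdvd
  refine ⟨r * (n - r), ?_⟩
  apply hCV
  have h1 : (MulAut.conjNormal (H := V) (c ^ p ^ (r * (n - r)))) = 1 := by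
    rw [map_pow]
    exact orderOf_dvd_iff_pow_eq_one.1 hdvd
  rw [Subgroup.mem_centralizer_iff]
  intro x hx
  have h3 := congrArg (fun α : MulAut ↥V => ((α ⟨x, hx⟩ : ↥V) : G)) h1
  simp only [MulAut.conjNormal_apply, MulAut.one_apply] at h3
  have := congrArg (fun t => t * c ^ p ^ (r * (n - r))) h3
  simpa using this.symm

/-- an element stabilizing `V ≥ W ≥ Φ(V)` has its `p`-th power acting trivially on `V / Φ(V)` -/
theorem chain_pow (V W : Subgroup G) [V.Normal] (hV : IsPGroup p V) (hWV : W ≤ V) (g : G)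
    (h1 : ∀ v ∈ V, g * v * g⁻¹ * v⁻¹ ∈ W) (h2 : ∀ w ∈ W, g * w * g⁻¹ * w⁻¹ ∈ fratOf V) :
    ∀ v ∈ V, g ^ p * v * (g ^ p)⁻¹ * v⁻¹ ∈ fratOf V := by
  intro v hv
  have hw := h1 v hv
  have hcomm : (QuotientGroup.mk g : G ⧸ fratOf V) * QuotientGroup.mk (g * v * g⁻¹ * v⁻¹) =
      QuotientGroup.mk (g * v * g⁻¹ * v⁻¹) * QuotientGroup.mk g := by
    have := (QuotientGroup.eq_one_iff (N := fratOf V) _).2 (h2 _ hw)
    simp only [QuotientGroup.mk_mul, QuotientGroup.mk_inv] at this ⊢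
    generalize (QuotientGroup.mk g : G ⧸ fratOf V) = γ at *
    generalize (QuotientGroup.mk v : G ⧸ fratOf V) = ν at *
    -- this : γ * (γ * ν * γ⁻¹ * ν⁻¹) * γ⁻¹ * (γ * ν * γ⁻¹ * ν⁻¹)⁻¹ = 1
    have e := mul_inv_eq_one.1 this
    calc γ * (γ * ν * γ⁻¹ * ν⁻¹) = (γ * (γ * ν * γ⁻¹ * ν⁻¹) * γ⁻¹) * γ := by group
      _ = (γ * ν * γ⁻¹ * ν⁻¹) * γ := by rw [e]
  have hconj : (QuotientGroup.mk g : G ⧸ fratOf V) * QuotientGroup.mk v =
      QuotientGroup.mk (g * v * g⁻¹ * v⁻¹) * QuotientGroup.mk v * QuotientGroup.mk g := by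
    simp only [QuotientGroup.mk_mul, QuotientGroup.mk_inv]
    group
  have hind : ∀ j : ℕ, (QuotientGroup.mk g : G ⧸ fratOf V) ^ j * QuotientGroup.mk v =
      QuotientGroup.mk (g * v * g⁻¹ * v⁻¹) ^ j * QuotientGroup.mk v * QuotientGroup.mk g ^ j := by
    intro j
    induction j with
    | zero => simp
    | succ j ih =>
      have hc' : Commute (QuotientGroup.mk g : G ⧸ fratOf V) (QuotientGroup.mk (g * v * g⁻¹ * v⁻¹)) :=
        hcomm
      have hcj := hc'.pow_right j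
      generalize (QuotientGroup.mk g : G ⧸ fratOf V) = γ at *
      generalize (QuotientGroup.mk v : G ⧸ fratOf V) = ν at *
      generalize (QuotientGroup.mk (g * v * g⁻¹ * v⁻¹) : G ⧸ fratOf V) = ω at *
      calc γ ^ (j + 1) * ν = γ * (γ ^ j * ν) := by rw [pow_succ']; group
        _ = γ * (ω ^ j * ν * γ ^ j) := by rw [ih]
        _ = (γ * ω ^ j) * ν * γ ^ j := by group
        _ = (ω ^ j * γ) * ν * γ ^ j := by rw [hcj.eq]
        _ = ω ^ j * (γ * ν) * γ ^ j := by group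
        _ = ω ^ j * (ω * ν * γ) * γ ^ j := by rw [hconj]
        _ = ω ^ (j + 1) * ν * γ ^ (j + 1) := by rw [pow_succ, pow_succ']; group
  have hp1 : (QuotientGroup.mk (g * v * g⁻¹ * v⁻¹) : G ⧸ fratOf V) ^ p = 1 := by
    rw [← QuotientGroup.mk_pow, QuotientGroup.eq_one_iff]
    exact pow_mem_fratOf hV (hWV hw)
  have hfin := hind p
  rw [hp1, one_mul] at hfin
  rw [← QuotientGroup.eq_one_iff]
  simp only [QuotientGroup.mk_mul, QuotientGroup.mk_inv, QuotientGroup.mk_pow]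
  rw [hfin]
  group

end chain

end Cfsg.Agent.Lib.Helper7.Sch
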