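import Mathlib
import Cfsg.Agent.Lib.Helper7.SchF
import Cfsg.Agent.Lib.Helper7.SchG
import Cfsg.Agent.Lib.Lead.Conj

/-!
# Sylow subgroups of minimal non-nilpotent type: the key step in a `p`-solvable group
-/

set_option autoImplicit false
set_option linter.unusedSectionVars false
set_option linter.unusedVariables false

namespace Cfsg.Agent.Lib.Helper7.Sch

open scoped commutatorElement

section key

variable {G : Type*} [Group G] [Finite G] {p : ℕ} [hp : Fact p.Prime]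

/-- `g` stabilizes the chain `V ≥ W ≥ Φ(V)` -/
def Stab (V W : Subgroup G) (g : G) : Prop :=
  (∀ v ∈ V, g * v * g⁻¹ * v⁻¹ ∈ W) ∧ (∀ w ∈ W, g * w * g⁻¹ * w⁻¹ ∈ fratOf V)

theorem Stab.conj_mem {V W : Subgroup G} (hFW : fratOf V ≤ W) {g : G} (h : Stab V W g) {w : G}
    (hw : w ∈ W) : g * w * g⁻¹ ∈ W := by
  have : g * w * g⁻¹ = (g * w * g⁻¹ * w⁻¹) * w := by group
  rw [this]
  exact W.mul_mem (hFW (h.2 w hw)) hw

theorem Stab.mul {V W : Subgroup G} [V.Normal] (hFW : fratOf V ≤ W) {g k : G} (hg : Stab V W g)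
    (hk : Stab V W k) : Stab V W (g * k) := by
  constructor
  · intro v hv
    have e : g * k * v * (g * k)⁻¹ * v⁻¹ = (g * (k * v * k⁻¹ * v⁻¹) * g⁻¹) * (g * v * g⁻¹ * v⁻¹) := by
      group
    rw [e]
    exact W.mul_mem (hg.conj_mem hFW (hk.1 v hv)) (hg.1 v hv)
  · intro w hw
    have e : g * k * w * (g * k)⁻¹ * w⁻¹ = (g * (k * w * k⁻¹ * w⁻¹) * g⁻¹) * (g * w * g⁻¹ * w⁻¹) := by
      group
    rw [e]
    exact (fratOf V).mul_mem ((fratOf_normal V).conj_mem _ (hk.2 w hw) g) (hg.2 w hw)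

theorem Stab.conj {V W : Subgroup G} [V.Normal] {g k : G} (hg : Stab V W g)
    (hk : k ∈ Subgroup.normalizer (W : Set G)) : Stab V W (k * g * k⁻¹) := by
  have hk' : k⁻¹ ∈ Subgroup.normalizer (W : Set G) := Subgroup.inv_mem _ hk
  constructor
  · intro v hv
    have hv' : k⁻¹ * v * k ∈ V := by
      have := (inferInstance : V.Normal).conj_mem v hv k⁻¹
      simpa using this
    have e : k * g * k⁻¹ * v * (k * g * k⁻¹)⁻¹ * v⁻¹ =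
        k * (g * (k⁻¹ * v * k) * g⁻¹ * (k⁻¹ * v * k)⁻¹) * k⁻¹ := by group
    rw [e]
    exact (Subgroup.mem_normalizer_iff.1 hk _).1 (hg.1 _ hv')
  · intro w hw
    have hw' : k⁻¹ * w * k ∈ W := by
      have := (Subgroup.mem_normalizer_iff.1 hk' w).1 hw
      simpa using this
    have e : k * g * k⁻¹ * w * (k * g * k⁻¹)⁻¹ * w⁻¹ =
        k * (g * (k⁻¹ * w * k) * g⁻¹ * (k⁻¹ * w * k)⁻¹) * k⁻¹ := by group
    rw [e]
    exact (fratOf_normal V).conj_mem _ (hg.2 _ hw') k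

/-- commutators centralize a cyclic normal subgroup -/
theorem comm_centralizes_cyclic (V : Subgroup G) [V.Normal] {A₀ : G} (hA₀ : A₀ ∈ V)
    (hcyc : ∀ v ∈ V, v ∈ Subgroup.zpowers A₀) (g k : G) :
    ⁅g, k⁆ ∈ Subgroup.centralizer (V : Set G) := by
  have key : ∀ g : G, ∃ m : ℤ, ∀ n : ℤ, g * A₀ ^ n * g⁻¹ = A₀ ^ (m * n) := by
    intro g
    have h1 : g * A₀ * g⁻¹ ∈ Subgroup.zpowers A₀ :=
      hcyc _ ((inferInstance : V.Normal).conj_mem A₀ hA₀ g)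
    obtain ⟨m, hm⟩ := Subgroup.mem_zpowers_iff.1 h1
    refine ⟨m, fun n => ?_⟩
    rw [zpow_mul, hm, conj_zpow]
  obtain ⟨m₁, h₁⟩ := key g
  obtain ⟨m₂, h₂⟩ := key k
  obtain ⟨m₃, h₃⟩ := key g⁻¹
  obtain ⟨m₄, h₄⟩ := key k⁻¹
  rw [inv_inv] at h₃ h₄
  -- g (g⁻¹ A₀^n g) g⁻¹ = A₀^n
  have hg : ∀ n : ℤ, A₀ ^ (m₁ * (m₃ * n)) = A₀ ^ n := by
    intro n
    rw [← h₁, ← h₃]
    group
  have hk : ∀ n : ℤ, A₀ ^ (m₂ * (m₄ * n)) = A₀ ^ n := by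
    intro n
    rw [← h₂, ← h₄]
    group
  have hconj : ⁅g, k⁆ * A₀ * ⁅g, k⁆⁻¹ = A₀ := by
    have e : ⁅g, k⁆ * A₀ * ⁅g, k⁆⁻¹ = g * (k * (g⁻¹ * (k⁻¹ * A₀ ^ (1 : ℤ) * k) * g) * k⁻¹) * g⁻¹ := by
      rw [commutatorElement_def, zpow_one]; group
    rw [e, h₄, h₃, h₂, h₁]
    have e2 : m₁ * (m₂ * (m₃ * (m₄ * 1))) = m₁ * (m₃ * (m₂ * (m₄ * 1))) := by ring
    rw [e2, hg, hk, zpow_one]
  have hcomm : ⁅g, k⁆ * A₀ = A₀ * ⁅g, k⁆ := by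
    calc ⁅g, k⁆ * A₀ = (⁅g, k⁆ * A₀ * ⁅g, k⁆⁻¹) * ⁅g, k⁆ := by group
      _ = A₀ * ⁅g, k⁆ := by rw [hconj]
  rw [Subgroup.mem_centralizer_iff]
  intro v hv
  obtain ⟨n, rfl⟩ := Subgroup.mem_zpowers_iff.1 (hcyc v hv)
  exact ((Commute.zpow_right (show Commute ⁅g, k⁆ A₀ from hcomm) n).eq).symm

end key

end Cfsg.Agent.Lib.Helper7.Sch
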