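import Mathlib
import Cfsg.Agent.Lib.Helper7.SchH

/-!
# Sylow subgroups of minimal non-nilpotent type: the key step
-/

set_option autoImplicit false
set_option linter.unusedSectionVars false
set_option linter.unusedVariables false

namespace Cfsg.Agent.Lib.Helper7.Sch

open scoped commutatorElement

section keystep

variable {G : Type*} [Group G] [Finite G] {p : ℕ} [hp : Fact p.Prime]

/-- the centre of `Q` as a subgroup of `G` -/
def cen (Q : Subgroup G) : Subgroup G := (Subgroup.center ↥Q).map Q.subtype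

theorem mem_cen {Q : Subgroup G} {z : G} :
    z ∈ cen Q ↔ ∃ hz : z ∈ Q, (⟨z, hz⟩ : ↥Q) ∈ Subgroup.center ↥Q := by
  constructor
  · rintro ⟨z', hz', rfl⟩
    exact ⟨z'.2, hz'⟩
  · rintro ⟨hz, hc⟩
    exact ⟨⟨z, hz⟩, hc, rfl⟩

theorem cen_le (Q : Subgroup G) : cen Q ≤ Q := by
  intro z hz
  exact (mem_cen.1 hz).1

theorem cen_comm {Q : Subgroup G} {z u : G} (hz : z ∈ cen Q) (hu : u ∈ Q) : u * z = z * u := by
  obtain ⟨hzQ, hc⟩ := mem_cen.1 hz
  have := Subgroup.mem_center_iff.1 hc ⟨u, hu⟩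
  exact congrArg Subtype.val this

theorem comm_mem_cen {Q : Subgroup G} (hc : ∀ u v : ↥Q, ⁅u, v⁆ ∈ Subgroup.center ↥Q) {u v : G}
    (hu : u ∈ Q) (hv : v ∈ Q) : u * v * u⁻¹ * v⁻¹ ∈ cen Q := by
  refine ⟨⁅(⟨u, hu⟩ : ↥Q), ⟨v, hv⟩⁆, hc _ _, ?_⟩
  rw [commutatorElement_def]
  rfl

/-- the last step: if `k` normalizes `W = Z Φ(V)` then `⁅k, x⁆` has a `p`-power in `V` -/
theorem finish_step (Q : Subgroup G) (hc : ∀ u v : ↥Q, ⁅u, v⁆ ∈ Subgroup.center ↥Q)
    (V : Subgroup G) [V.Normal] (hV : IsPGroup p V) (hVQ : V ≤ Q)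
    (hCV : Subgroup.centralizer (V : Set G) ≤ V) (hZV : cen Q ≤ V) {k : G}
    (hkW : ∀ w ∈ cen Q ⊔ fratOf V, k * w * k⁻¹ ∈ cen Q ⊔ fratOf V) {x : G} (hx : x ∈ Q) :
    ∃ m : ℕ, ⁅k, x⁆ ^ (p ^ m) ∈ V := by
  have hFW : fratOf V ≤ cen Q ⊔ fratOf V := le_sup_right
  have hWV : cen Q ⊔ fratOf V ≤ V := sup_le hZV (fratOf_le V)
  have kN : k ∈ Subgroup.normalizer ((cen Q ⊔ fratOf V : Subgroup G) : Set G) :=
    Cfsg.Agent.Lib.Lead.Conj.mem_normalizer_of_conj_mem _ k hkW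
  have stabQ : ∀ y ∈ Q, Stab V (cen Q ⊔ fratOf V) y := by
    intro y hy
    constructor
    · intro v hv
      exact (le_sup_left : cen Q ≤ _) (comm_mem_cen hc hy (hVQ hv))
    · intro w hw
      obtain ⟨z, hz, f, hf, rfl⟩ := Subgroup.mem_sup_of_normal_right.1 hw
      have hyz : y * z = z * y := cen_comm hz hy
      have e : y * (z * f) * y⁻¹ * (z * f)⁻¹ = z * ((y * f * y⁻¹) * f⁻¹) * z⁻¹ := by
        calc y * (z * f) * y⁻¹ * (z * f)⁻¹ = (y * z) * f * y⁻¹ * f⁻¹ * z⁻¹ := by group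
          _ = (z * y) * f * y⁻¹ * f⁻¹ * z⁻¹ := by rw [hyz]
          _ = z * ((y * f * y⁻¹) * f⁻¹) * z⁻¹ := by group
      rw [e]
      apply (fratOf_normal V).conj_mem
      exact (fratOf V).mul_mem ((fratOf_normal V).conj_mem f hf y) ((fratOf V).inv_mem hf)
  have hstab : Stab V (cen Q ⊔ fratOf V) ⁅k, x⁆ := by
    have e : ⁅k, x⁆ = (k * x * k⁻¹) * x⁻¹ := by rw [commutatorElement_def]
    rw [e]
    exact ((stabQ x hx).conj kN).mul hFW (stabQ x⁻¹ (Q.inv_mem hx))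
  have h1 := chain_pow V (cen Q ⊔ fratOf V) hV hWV ⁅k, x⁆ hstab.1 hstab.2
  obtain ⟨m, hm⟩ := frat_cent V hV hCV (⁅k, x⁆ ^ p) h1
  refine ⟨m + 1, ?_⟩
  rw [pow_succ', pow_mul]
  exact hm

/-- **the key step** -/
theorem key_step (Q : Subgroup G) (hQ : IsPGroup p Q) (pk : Pkg p ↥Q) (hp5 : ¬ 5 ≤ p)
    (V : Subgroup G) [V.Normal] (hVQ : V ≤ Q) (hCV : Subgroup.centralizer (V : Set G) ≤ V)
    (Bt : Subgroup G) (hVB : V ≤ Bt) (hBQ : Bt ≤ Q)
    {a : G} (haQ : a ∈ Q) (ha : ∀ u ∈ Q, ∃ i : ℕ, u * (a ^ i)⁻¹ ∈ Bt)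
    {k : G} (hk : ∀ g ∈ Bt, k * g * k⁻¹ * g⁻¹ ∈ V) {x : G} (hx : x ∈ Q) :
    ∃ m : ℕ, ⁅k, x⁆ ^ (p ^ m) ∈ V := by
  have hc := pk.2.1
  have hV : IsPGroup p V := hQ.to_le hVQ
  have hZV : cen Q ≤ V := by
    intro z hz
    apply hCV
    rw [Subgroup.mem_centralizer_iff]
    intro v hv
    exact cen_comm hz (hVQ hv)
  -- the trichotomy in `Q`
  have h1 : Subgroup.center ↥Q ≤ V.subgroupOf Q := by
    intro z hz
    rw [Subgroup.mem_subgroupOf]
    exact hZV ⟨z, hz, rfl⟩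
  have h2 : V.subgroupOf Q ≤ Bt.subgroupOf Q := by
    intro v hv
    rw [Subgroup.mem_subgroupOf] at hv ⊢
    exact hVB hv
  have h3 : ∀ u : ↥Q, (∀ v ∈ V.subgroupOf Q, u * v = v * u) → u ∈ V.subgroupOf Q := by
    intro u hu
    rw [Subgroup.mem_subgroupOf]
    apply hCV
    rw [Subgroup.mem_centralizer_iff]
    intro v hv
    have := hu ⟨v, hVQ hv⟩ (Subgroup.mem_subgroupOf.2 hv)
    exact (congrArg Subtype.val this).symm
  have h4 : ∀ u : ↥Q, ∃ i : ℕ, u * ((⟨a, haQ⟩ : ↥Q) ^ i)⁻¹ ∈ Bt.subgroupOf Q := by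
    intro u
    obtain ⟨i, hi⟩ := ha u u.2
    refine ⟨i, ?_⟩
    rw [Subgroup.mem_subgroupOf]
    exact hi
  have hBconj : ∀ g ∈ Bt, k * g * k⁻¹ ∈ Bt := by
    intro g hg
    have : k * g * k⁻¹ = (k * g * k⁻¹ * g⁻¹) * g := by group
    rw [this]
    exact Bt.mul_mem (hVB (hk g hg)) hg
  rcases trichotomy hQ pk hp5 (F := (fratOf V).subgroupOf Q) h1 h2 h3 h4 with hA | hB | hC | hD
  · -- (A)
    apply finish_step Q hc V hV hVQ hCV hZV _ hx
    have hcommle : ⁅V, Bt⁆ ≤ cen Q := by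
      rw [Subgroup.commutator_le]
      intro v hv b hb
      rw [commutatorElement_def]
      exact comm_mem_cen hc (hVQ hv) (hBQ hb)
    have hZle : cen Q ≤ ⁅V, Bt⁆ ⊔ fratOf V := by
      rintro _ ⟨z', hz', rfl⟩
      have hmem := Subgroup.mem_map_of_mem Q.subtype (hA hz')
      rw [Subgroup.map_sup, Subgroup.map_commutator, Subgroup.subgroupOf_map_subtype,
        Subgroup.subgroupOf_map_subtype] at hmem
      refine (sup_le_sup (Subgroup.commutator_mono inf_le_left inf_le_left) ?_) hmem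
      rw [Subgroup.map_inf_eq _ _ _ Q.subtype_injective, Subgroup.subgroupOf_map_subtype]
      exact inf_le_right.trans inf_le_left
    have hWeq : cen Q ⊔ fratOf V = ⁅V, Bt⁆ ⊔ fratOf V :=
      le_antisymm (sup_le hZle le_sup_right) (sup_le_sup_right hcommle _)
    rw [hWeq]
    intro w hw
    have hmap : (⁅V, Bt⁆ ⊔ fratOf V).map (MulAut.conj k).toMonoidHom ≤ ⁅V, Bt⁆ ⊔ fratOf V := by
      rw [Subgroup.map_sup, Subgroup.map_commutator]
      apply sup_le_sup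
      · apply Subgroup.commutator_mono
        · rintro _ ⟨v, hv, rfl⟩
          exact (inferInstance : V.Normal).conj_mem v hv k
        · rintro _ ⟨g, hg, rfl⟩
          exact hBconj g hg
      · rintro _ ⟨f, hf, rfl⟩
        exact (fratOf_normal V).conj_mem f hf k
    exact hmap ⟨w, hw, rfl⟩
  · -- (B)
    obtain ⟨hab, g, hgB, hgV, hcent⟩ := hB
    rw [Subgroup.mem_subgroupOf] at hgB hgV
    have hkZ : ∀ z ∈ cen Q, k * z * k⁻¹ ∈ cen Q := by
      intro z hz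
      have hzV : z ∈ V := hZV hz
      have hyV : k * z * k⁻¹ ∈ V := (inferInstance : V.Normal).conj_mem z hzV k
      have hv₀ := hk (g : G) hgB
      -- `y` commutes with `k g k⁻¹`
      have h5 : (k * z * k⁻¹) * (k * (g : G) * k⁻¹) = (k * (g : G) * k⁻¹) * (k * z * k⁻¹) := by
        have hzg : (g : G) * z = z * (g : G) := cen_comm hz g.2
        calc (k * z * k⁻¹) * (k * (g : G) * k⁻¹) = k * (z * (g : G)) * k⁻¹ := by group
          _ = k * ((g : G) * z) * k⁻¹ := by rw [hzg]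
          _ = (k * (g : G) * k⁻¹) * (k * z * k⁻¹) := by group
      -- `y` commutes with `v₀ = k g k⁻¹ g⁻¹`
      have h6 : (k * z * k⁻¹) * (k * (g : G) * k⁻¹ * (g : G)⁻¹) =
          (k * (g : G) * k⁻¹ * (g : G)⁻¹) * (k * z * k⁻¹) := by
        have := hab ⟨k * z * k⁻¹, hVQ hyV⟩ (Subgroup.mem_subgroupOf.2 hyV)
          ⟨k * (g : G) * k⁻¹ * (g : G)⁻¹, hVQ hv₀⟩ (Subgroup.mem_subgroupOf.2 hv₀)
        exact congrArg Subtype.val this
      -- hence with `g`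
      have h7 : (k * z * k⁻¹) * (g : G) = (g : G) * (k * z * k⁻¹) := by
        have e : (g : G) = (k * (g : G) * k⁻¹ * (g : G)⁻¹)⁻¹ * (k * (g : G) * k⁻¹) := by group
        have c1 : Commute (k * z * k⁻¹) (k * (g : G) * k⁻¹ * (g : G)⁻¹)⁻¹ :=
          (show Commute (k * z * k⁻¹) (k * (g : G) * k⁻¹ * (g : G)⁻¹) from h6).inv_right
        have c2 : Commute (k * z * k⁻¹) (k * (g : G) * k⁻¹) := h5
        have := c1.mul_right c2
        rw [← e] at this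
        exact this
      have h8 := hcent ⟨k * z * k⁻¹, hVQ hyV⟩ (Subgroup.mem_subgroupOf.2 hyV)
        (Subtype.ext h7)
      exact ⟨⟨k * z * k⁻¹, hVQ hyV⟩, h8, rfl⟩
    apply finish_step Q hc V hV hVQ hCV hZV _ hx
    intro w hw
    obtain ⟨z, hz, f, hf, rfl⟩ := Subgroup.mem_sup_of_normal_right.1 hw
    have e : k * (z * f) * k⁻¹ = (k * z * k⁻¹) * (k * f * k⁻¹) := by group
    rw [e]
    exact Subgroup.mul_mem _ ((le_sup_left : cen Q ≤ _) (hkZ z hz))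
      ((le_sup_right : fratOf V ≤ _) ((fratOf_normal V).conj_mem f hf k))
  · -- (C)
    obtain ⟨a₀, ha₀, hcyc⟩ := hC
    rw [Subgroup.mem_subgroupOf] at ha₀
    have hcyc' : ∀ v ∈ V, v ∈ Subgroup.zpowers (a₀ : G) := by
      intro v hv
      have := hcyc ⟨v, hVQ hv⟩ (Subgroup.mem_subgroupOf.2 hv)
      obtain ⟨n, hn⟩ := Subgroup.mem_zpowers_iff.1 this
      rw [Subgroup.mem_zpowers_iff]
      refine ⟨n, ?_⟩
      have := congrArg Subtype.val hn
      simpa using this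
    refine ⟨0, ?_⟩
    rw [pow_zero, pow_one]
    exact hCV (comm_centralizes_cyclic V ha₀ hcyc' k x)
  · -- (D)
    have hxV : x ∈ V := by
      have := hD ⟨x, hx⟩
      rwa [Subgroup.mem_subgroupOf] at this
    refine ⟨0, ?_⟩
    rw [pow_zero, pow_one, commutatorElement_def]
    exact V.mul_mem ((inferInstance : V.Normal).conj_mem x hxV k) (V.inv_mem hxV)

end keystep

end Cfsg.Agent.Lib.Helper7.Sch
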