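import Mathlib
import Cfsg.Agent.Lib.Helper7.SchI
import Cfsg.Agent.Lib.Helper7.CoprimeGen5
import Cfsg.Agent.Lib.Lead.PSolvable
import Cfsg.Agent.Lib.Lead.ExpSix
import Cfsg.Agent.H1.QuadThree
import Cfsg.Agent.H1.QuadStable5
import Cfsg.Agent.H1.Cores

/-!
# Sylow subgroups of minimal non-nilpotent type in `p`-solvable groups with `O_{p'} = 1`
-/

set_option autoImplicit false
set_option linter.unusedSectionVars false
set_option linter.unusedVariables false

namespace Cfsg.Agent.Lib.Helper7.Sch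

open scoped commutatorElement

section core

variable {G : Type*} [Group G] [Finite G] {p : ℕ} [hp : Fact p.Prime]

/-- elements of `B ⊔ ⟨c⟩`, `c` commuting with `B` -/
theorem mem_sup_zpowers {B : Subgroup G} {c : G} (hcB : ∀ b ∈ B, c * b = b * c) {x : G}
    (hx : x ∈ B ⊔ Subgroup.zpowers c) : ∃ b ∈ B, ∃ i : ℕ, x = b * c ^ i := by
  have hcomm : ∀ y ∈ Subgroup.zpowers c, ∀ b ∈ B, y * b = b * y := by
    intro y hy b hb
    obtain ⟨n, rfl⟩ := Subgroup.mem_zpowers_iff.1 hy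
    exact (Commute.zpow_left (show Commute c b from hcB b hb) n).eq
  let H : Subgroup G :=
    { carrier := {x | ∃ b ∈ B, ∃ y ∈ Subgroup.zpowers c, x = b * y}
      one_mem' := ⟨1, B.one_mem, 1, Subgroup.one_mem _, by simp⟩
      mul_mem' := by
        rintro _ _ ⟨b, hb, y, hy, rfl⟩ ⟨b', hb', y', hy', rfl⟩
        refine ⟨b * b', B.mul_mem hb hb', y * y', Subgroup.mul_mem _ hy hy', ?_⟩
        have := hcomm y hy b' hb'
        calc b * y * (b' * y') = b * (y * b') * y' := by group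
          _ = b * (b' * y) * y' := by rw [this]
          _ = b * b' * (y * y') := by group
      inv_mem' := by
        rintro _ ⟨b, hb, y, hy, rfl⟩
        refine ⟨b⁻¹, B.inv_mem hb, y⁻¹, Subgroup.inv_mem _ hy, ?_⟩
        have := hcomm y⁻¹ (Subgroup.inv_mem _ hy) b⁻¹ (B.inv_mem hb)
        rw [mul_inv_rev, this] }
  have hle : B ⊔ Subgroup.zpowers c ≤ H := by
    apply sup_le
    · intro b hb
      exact ⟨b, hb, 1, Subgroup.one_mem _, by simp⟩
    · intro y hy
      exact ⟨1, B.one_mem, y, hy, by simp⟩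
  obtain ⟨b, hb, y, hy, rfl⟩ := hle hx
  rw [← mem_powers_iff_mem_zpowers] at hy
  obtain ⟨i, rfl⟩ := hy
  exact ⟨b, hb, i, rfl⟩

/-- the case `p ≥ 5`, by `p`-stability -/
theorem stable_case (hp5 : 5 ≤ p) (hsol : Cfsg.IsPSolvable p G)
    (hCV : Subgroup.centralizer ((Cfsg.pCore p G : Subgroup G) : Set G) ≤ Cfsg.pCore p G)
    (Q : Subgroup G) (hVQ : Cfsg.pCore p G ≤ Q)
    (hc : ∀ u v : ↥Q, ⁅u, v⁆ ∈ Subgroup.center ↥Q) : Q ≤ Cfsg.pCore p G := by
  haveI hVn : (Cfsg.pCore p G).Normal := Cfsg.Agent.H1.pCore_normal p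
  have hV : IsPGroup p ↥(Cfsg.pCore p G) := Cfsg.Agent.H1.pCore_isPGroup p
  have hst : Cfsg.IsPStableOnSection p (Cfsg.pCore p G) (fratOf (Cfsg.pCore p G)) := by
    apply Cfsg.Agent.H1.isPStableOnSection_of_pSolvable hp5 hsol
    · unfold fratOf
      rw [← Subgroup.map_subtype_commutator]
      apply Subgroup.map_mono
      haveI : Group.IsNilpotent ↥(Cfsg.pCore p G) := hV.isNilpotent
      exact Cfsg.Agent.H1.commutator_le_frattini hV
    · intro x hx
      exact pow_mem_fratOf hV hx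
  intro x hx
  have hq : ⁅⁅Cfsg.pCore p G, Subgroup.zpowers x⁆, Subgroup.zpowers x⁆ ≤ fratOf (Cfsg.pCore p G) := by
    have hzx : Subgroup.zpowers x ≤ Q := Subgroup.zpowers_le.2 hx
    have h1 : ⁅Cfsg.pCore p G, Subgroup.zpowers x⁆ ≤ cen Q := by
      rw [Subgroup.commutator_le]
      intro v hv y hy
      rw [commutatorElement_def]
      exact comm_mem_cen hc (hVQ hv) (hzx hy)
    have h2 : ⁅cen Q, Subgroup.zpowers x⁆ = ⊥ := by
      rw [eq_bot_iff, Subgroup.commutator_le]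
      intro z hz y hy
      rw [Subgroup.mem_bot, commutatorElement_eq_one_iff_mul_comm]
      exact (cen_comm hz (hzx hy)).symm
    calc ⁅⁅Cfsg.pCore p G, Subgroup.zpowers x⁆, Subgroup.zpowers x⁆
        ≤ ⁅cen Q, Subgroup.zpowers x⁆ := Subgroup.commutator_mono h1 le_rfl
      _ = ⊥ := h2
      _ ≤ _ := bot_le
  obtain ⟨D, hDn, hSD, ⟨j, hj⟩, hxD⟩ := hst x hq
  -- `D` is a `p`-group
  have hSn : (Cfsg.sectionKernel (Cfsg.pCore p G) (fratOf (Cfsg.pCore p G))).Normal := by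
    unfold Cfsg.sectionKernel
    haveI : ((Cfsg.pCore p G).map (QuotientGroup.mk' (fratOf (Cfsg.pCore p G)))).Normal :=
      Subgroup.Normal.map inferInstance _ (QuotientGroup.mk'_surjective _)
    exact Subgroup.Normal.comap Subgroup.normal_centralizer _
  have hSmem : ∀ c ∈ Cfsg.sectionKernel (Cfsg.pCore p G) (fratOf (Cfsg.pCore p G)),
      ∀ v ∈ Cfsg.pCore p G, c * v * c⁻¹ * v⁻¹ ∈ fratOf (Cfsg.pCore p G) := by
    intro c hcS v hv
    unfold Cfsg.sectionKernel at hcS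
    rw [Subgroup.mem_comap, Subgroup.mem_centralizer_iff] at hcS
    have h1 := hcS (QuotientGroup.mk' _ v) (Subgroup.mem_map_of_mem _ hv)
    rw [← QuotientGroup.eq_one_iff]
    simp only [QuotientGroup.mk'_apply] at h1
    simp only [QuotientGroup.mk_mul, QuotientGroup.mk_inv]
    rw [← h1]
    group
  have hDp : IsPGroup p ↥D := by
    rintro ⟨d, hd⟩
    have h1 : d ^ p ^ j ∈ Cfsg.sectionKernel (Cfsg.pCore p G) (fratOf (Cfsg.pCore p G)) := by
      rw [← hj]
      exact Subgroup.pow_relIndex_mem _ hd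
    obtain ⟨m, hm⟩ := frat_cent (Cfsg.pCore p G) hV hCV _ (hSmem _ h1)
    obtain ⟨n, hn⟩ := hV ⟨_, hm⟩
    refine ⟨j + m + n, ?_⟩
    apply Subtype.ext
    have hn' := congrArg Subtype.val hn
    simp only [Subgroup.coe_pow, Subgroup.coe_one] at hn' ⊢
    rw [pow_add, pow_add, pow_mul, pow_mul]
    exact hn'
  exact Cfsg.Agent.H1.le_pCore hDn hDp hxD

end core

end Cfsg.Agent.Lib.Helper7.Sch
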