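import Mathlib
import Cfsg.Agent.Lib.Helper7.SchJ

/-!
# Sylow subgroups of minimal non-nilpotent type in `p`-solvable groups with `O_{p'} = 1`:
the Sylow subgroup is normal
-/

set_option autoImplicit false
set_option linter.unusedSectionVars false
set_option linter.unusedVariables false

namespace Cfsg.Agent.Lib.Helper7.Sch

open scoped commutatorElement

section core2

variable {G : Type*} [Group G] [Finite G] {p : ℕ} [hp : Fact p.Prime]

theorem eq_one_of_pow_of_coprime {X : Type*} [Group X] {K : Subgroup X} [Finite K] {y : X} (hy : y ∈ K)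
    (hK : (Nat.card K).Coprime p) {m : ℕ} (hm : y ^ (p ^ m) = 1) : y = 1 := by
  have h1 : orderOf y ∣ p ^ m := orderOf_dvd_of_pow_eq_one hm
  have h2 : orderOf y ∣ Nat.card K := by
    have := orderOf_dvd_natCard (⟨y, hy⟩ : ↥K)
    rwa [Subgroup.orderOf_mk] at this
  have h3 : (Nat.card K).Coprime (p ^ m) := Nat.Coprime.pow_right m hK
  have h4 : orderOf y ∣ Nat.gcd (Nat.card K) (p ^ m) := Nat.dvd_gcd h2 h1
  rw [h3, Nat.dvd_one] at h4
  exact orderOf_eq_one_iff.1 h4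

/-- **the core theorem** -/
theorem core (hsol : Cfsg.IsPSolvable p G) (hO : Cfsg.pPrimeCore p G = ⊥) (Q : Sylow p G)
    (h : (∀ u v : ↥(Q : Subgroup G), u * v = v * u) ∨ Pkg p ↥(Q : Subgroup G)) :
    (Q : Subgroup G) ≤ Cfsg.pCore p G := by
  haveI hVn : (Cfsg.pCore p G).Normal := Cfsg.Agent.H1.pCore_normal p
  have hVQ : Cfsg.pCore p G ≤ (Q : Subgroup G) := Cfsg.Agent.H1.pCore_le_sylow Q
  have hCV := Cfsg.Agent.Lib.Lead.PSolvable.centralizer_pCore_le hsol hO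
  rcases h with hab | pk
  · -- abelian Sylow subgroup
    intro x hx
    apply hCV
    rw [Subgroup.mem_centralizer_iff]
    intro v hv
    exact congrArg Subtype.val (hab ⟨v, hVQ hv⟩ ⟨x, hx⟩)
  by_cases hp5 : 5 ≤ p
  · exact stable_case hp5 hsol hCV (Q : Subgroup G) hVQ pk.2.1
  have hc := pk.2.1
  have hQp : IsPGroup p ↥(Q : Subgroup G) := Q.isPGroup'
  have hZV : cen (Q : Subgroup G) ≤ Cfsg.pCore p G := by
    intro z hz
    apply hCV
    rw [Subgroup.mem_centralizer_iff]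
    intro v hv
    exact cen_comm hz (hVQ hv)
  -- the quotient
  have hsolq : Cfsg.IsPSolvable p (G ⧸ Cfsg.pCore p G) :=
    Cfsg.Agent.Lib.Lead.PSolvable.IsPSolvable.quotient _ hsol
  have hbot : Cfsg.pCore p (G ⧸ Cfsg.pCore p G) = ⊥ :=
    Cfsg.Agent.Lead.ExpSix.pCore_quotient_self_eq_bot _ rfl
  have hCK := Cfsg.Agent.H1.centralizer_pPrimeCore_le hsolq hbot
  haveI hKn : (Cfsg.pPrimeCore p (G ⧸ Cfsg.pCore p G)).Normal := Cfsg.Agent.H1.pPrimeCore_normal p
  have hKcop : (Nat.card ↥(Cfsg.pPrimeCore p (G ⧸ Cfsg.pCore p G))).Coprime p :=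
    Cfsg.Agent.H1.pPrimeCore_coprime p
  obtain ⟨Qb, hQb⟩ : ∃ Qb : Subgroup (G ⧸ Cfsg.pCore p G),
      Qb = (Q : Subgroup G).map (QuotientGroup.mk' (Cfsg.pCore p G)) := ⟨_, rfl⟩
  have hQbp : IsPGroup p ↥Qb := by rw [hQb]; exact hQp.map _
  have hQbcomm : ∀ x ∈ Qb, ∀ y ∈ Qb, x * y = y * x := by
    intro x hx y hy
    rw [hQb] at hx hy
    obtain ⟨u, hu, rfl⟩ := hx
    obtain ⟨v, hv, rfl⟩ := hy
    have h1 : u * v * u⁻¹ * v⁻¹ ∈ Cfsg.pCore p G := hZV (comm_mem_cen hc hu hv)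
    have h2 := (QuotientGroup.eq_one_iff (N := Cfsg.pCore p G) _).2 h1
    simp only [QuotientGroup.mk_mul, QuotientGroup.mk_inv] at h2
    simp only [QuotientGroup.mk'_apply]
    have h3 := mul_inv_eq_one.1 h2
    exact mul_inv_eq_iff_eq_mul.1 h3
  have hcop : (Nat.card ↥Qb).Coprime (Nat.card ↥(Cfsg.pPrimeCore p (G ⧸ Cfsg.pCore p G))) := by
    obtain ⟨n, hn⟩ := IsPGroup.iff_card.mp hQbp
    rw [hn]
    exact Nat.Coprime.pow_left n hKcop.symm
  have hgen := Cfsg.Agent.Lib.Helper7.hgen_eq hQbcomm _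
    (Cfsg.pPrimeCore p (G ⧸ Cfsg.pCore p G)) rfl
    (by rw [Subgroup.normalizer_eq_top]; exact le_top) hcop
  -- `Qb` centralizes `Kb`
  have hcent : Cfsg.pPrimeCore p (G ⧸ Cfsg.pCore p G) ≤ Subgroup.centralizer (Qb : Set _) := by
    rw [← hgen]
    unfold Cfsg.Agent.Lib.Helper7.hgen
    apply iSup₂_le
    rintro B ⟨hBle, ab, hab, hsup⟩ kb hkb
    obtain ⟨hkbK, hkbB⟩ := Subgroup.mem_inf.1 hkb
    rw [Subgroup.mem_centralizer_iff] at hkbB ⊢
    intro xb hxb
    obtain ⟨k, rfl⟩ := QuotientGroup.mk'_surjective (Cfsg.pCore p G) kb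
    have hxb' := hxb
    rw [hQb] at hxb'
    obtain ⟨x, hx, rfl⟩ := hxb'
    have hab' := hab
    rw [hQb] at hab'
    obtain ⟨a, haQ, rfl⟩ := hab'
    -- the preimage of `B`
    obtain ⟨Bt, hBt⟩ : ∃ Bt : Subgroup G,
        Bt = (Q : Subgroup G) ⊓ B.comap (QuotientGroup.mk' (Cfsg.pCore p G)) := ⟨_, rfl⟩
    have hVB : Cfsg.pCore p G ≤ Bt := by
      intro v hv
      rw [hBt]
      refine Subgroup.mem_inf.2 ⟨hVQ hv, ?_⟩
      rw [Subgroup.mem_comap, QuotientGroup.mk'_apply, (QuotientGroup.eq_one_iff v).2 hv]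
      exact B.one_mem
    have hBQ : Bt ≤ (Q : Subgroup G) := by rw [hBt]; exact inf_le_left
    have ha : ∀ u ∈ (Q : Subgroup G), ∃ i : ℕ, u * (a ^ i)⁻¹ ∈ Bt := by
      intro u hu
      have hu' : QuotientGroup.mk' (Cfsg.pCore p G) u ∈
          B ⊔ Subgroup.zpowers (QuotientGroup.mk' (Cfsg.pCore p G) a) := by
        rw [hsup, hQb]
        exact Subgroup.mem_map_of_mem _ hu
      obtain ⟨b, hb, i, hi⟩ := mem_sup_zpowers
        (fun b hb => hQbcomm _ hab _ (hBle hb)) hu'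
      refine ⟨i, ?_⟩
      rw [hBt]
      refine Subgroup.mem_inf.2 ⟨Subgroup.mul_mem _ hu (Subgroup.inv_mem _ (Subgroup.pow_mem _ haQ i)), ?_⟩
      rw [Subgroup.mem_comap, map_mul, map_inv, map_pow, hi, mul_inv_cancel_right]
      exact hb
    have hk : ∀ g ∈ Bt, k * g * k⁻¹ * g⁻¹ ∈ Cfsg.pCore p G := by
      intro g hg
      rw [hBt] at hg
      have hgB := (Subgroup.mem_inf.1 hg).2
      rw [Subgroup.mem_comap] at hgB
      have h1 := hkbB _ hgB
      rw [← QuotientGroup.eq_one_iff]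
      simp only [QuotientGroup.mk'_apply] at h1
      simp only [QuotientGroup.mk_mul, QuotientGroup.mk_inv]
      rw [← h1]
      group
    obtain ⟨m, hm⟩ := key_step (Q : Subgroup G) hQp pk hp5 (Cfsg.pCore p G) hVQ hCV Bt hVB hBQ
      haQ ha hk hx
    -- the commutator is a `p'`-element
    have h1 : (QuotientGroup.mk' (Cfsg.pCore p G) ⁅k, x⁆) ^ (p ^ m) = 1 := by
      rw [← map_pow, QuotientGroup.mk'_apply]
      exact (QuotientGroup.eq_one_iff _).2 hm
    have h2 : QuotientGroup.mk' (Cfsg.pCore p G) ⁅k, x⁆ ∈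
        Cfsg.pPrimeCore p (G ⧸ Cfsg.pCore p G) := by
      rw [commutatorElement_def, map_mul, map_mul, map_mul, map_inv, map_inv, mul_assoc, mul_assoc]
      apply Subgroup.mul_mem _ hkbK
      rw [← mul_assoc]
      exact hKn.conj_mem _ (Subgroup.inv_mem _ hkbK) _
    have h3 := eq_one_of_pow_of_coprime h2 hKcop h1
    rw [map_commutatorElement, commutatorElement_eq_one_iff_mul_comm] at h3
    exact h3.symm
  -- hence `Qb ≤ Kb`, so `Qb = 1`
  have hQK : Qb ≤ Cfsg.pPrimeCore p (G ⧸ Cfsg.pCore p G) := by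
    refine le_trans ?_ hCK
    rw [Subgroup.le_centralizer_iff]
    exact hcent
  intro x hx
  have hxb : QuotientGroup.mk' (Cfsg.pCore p G) x ∈ Qb := by
    rw [hQb]; exact Subgroup.mem_map_of_mem _ hx
  obtain ⟨n, hn⟩ := hQbp ⟨_, hxb⟩
  have hn' : (QuotientGroup.mk' (Cfsg.pCore p G) x) ^ (p ^ n) = 1 := by
    have := congrArg Subtype.val hn
    simpa using this
  have h1 := eq_one_of_pow_of_coprime (hQK hxb) hKcop hn'
  exact (QuotientGroup.eq_one_iff x).1 h1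

end core2

end Cfsg.Agent.Lib.Helper7.Sch
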