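import Mathlib
import Cfsg.Agent.Lib.Helper7.SchE
import Cfsg.Agent.Lib.Helper7.SchK
import Cfsg.Agent.H1.PLength
import Cfsg.Agent.H2.PPrimeCore

/-!
# Sylow subgroups of minimal non-nilpotent type: `p`-length one
-/

set_option autoImplicit false
set_option linter.unusedSectionVars false
set_option linter.unusedVariables false

namespace Cfsg.Agent.Lib.Helper7.Sch

open scoped commutatorElement

section final

variable {G : Type*} [Group G] [Finite G] {p : ℕ} [hp : Fact p.Prime]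

/-- `p`-length one when `O_{p'}(G) = 1` -/
theorem plength_one_of_core (hsol : Cfsg.IsPSolvable p G) (hO : Cfsg.pPrimeCore p G = ⊥)
    (Q : Sylow p G)
    (h : (∀ u v : ↥(Q : Subgroup G), u * v = v * u) ∨ Pkg p ↥(Q : Subgroup G)) :
    Cfsg.PLengthLE p 1 G := by
  have hle := core hsol hO Q h
  haveI hVn : (Cfsg.pCore p G).Normal := Cfsg.Agent.H1.pCore_normal p
  have ha : Cfsg.PLengthLE p 1 ↥(Cfsg.pCore p G) :=
    Cfsg.Agent.H1.plength_one_of_isPGroup (Cfsg.Agent.H1.pCore_isPGroup p)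
  have hb : Cfsg.PLengthLE p 0 (G ⧸ Cfsg.pCore p G) := by
    apply Cfsg.Agent.H1.plength_zero_of_coprime
    rw [← Subgroup.index_eq_card]
    have h1 : (Cfsg.pCore p G).index ∣ (Q : Subgroup G).index := Subgroup.index_dvd_of_le hle
    have h2 : ¬ p ∣ (Q : Subgroup G).index := Q.not_dvd_index
    have h3 : ¬ p ∣ (Cfsg.pCore p G).index := fun h => h2 (h.trans h1)
    exact ((Nat.Prime.coprime_iff_not_dvd hp.out).2 h3).symm
  have := Cfsg.Agent.H1.plength_extension (Cfsg.pCore p G) ha hb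
  simpa using this

/-- **the general theorem** -/
theorem plength_one (hsol : Cfsg.IsPSolvable p G) (Q : Sylow p G)
    (h : (∀ u v : ↥(Q : Subgroup G), u * v = v * u) ∨ Pkg p ↥(Q : Subgroup G)) :
    Cfsg.PLengthLE p 1 G := by
  haveI hNn : (Cfsg.pPrimeCore p G).Normal := Cfsg.Agent.H1.pPrimeCore_normal p
  have hNcop : (Nat.card ↥(Cfsg.pPrimeCore p G)).Coprime p := Cfsg.Agent.H1.pPrimeCore_coprime p
  have ha : Cfsg.PLengthLE p 0 ↥(Cfsg.pPrimeCore p G) :=
    Cfsg.Agent.H1.plength_zero_of_coprime hNcop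
  have hsolq : Cfsg.IsPSolvable p (G ⧸ Cfsg.pPrimeCore p G) :=
    Cfsg.Agent.Lib.Lead.PSolvable.IsPSolvable.quotient _ hsol
  have hO : Cfsg.pPrimeCore p (G ⧸ Cfsg.pPrimeCore p G) = ⊥ :=
    Cfsg.Agent.H2.pPrimeCore_quotient_eq_bot p
  -- the image of `Q`
  have hsurj := QuotientGroup.mk'_surjective (Cfsg.pPrimeCore p G)
  have hinj : Function.Injective
      ((QuotientGroup.mk' (Cfsg.pPrimeCore p G)).subgroupMap (Q : Subgroup G)) := by
    rw [injective_iff_map_eq_one]
    intro u hu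
    have h1 : (QuotientGroup.mk' (Cfsg.pPrimeCore p G)) (u : G) = 1 := congrArg Subtype.val hu
    have h2 : (u : G) ∈ Cfsg.pPrimeCore p G := (QuotientGroup.eq_one_iff _).1 h1
    obtain ⟨n, hn⟩ := Q.isPGroup' u
    have hn' : (u : G) ^ (p ^ n) = 1 := by
      have := congrArg Subtype.val hn
      simpa using this
    exact Subtype.ext (eq_one_of_pow_of_coprime h2 hNcop hn')
  have e : ↥(Q : Subgroup G) ≃* ↥((Q.mapSurjective hsurj : Sylow p (G ⧸ Cfsg.pPrimeCore p G)) :
      Subgroup (G ⧸ Cfsg.pPrimeCore p G)) :=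
    MulEquiv.ofBijective ((QuotientGroup.mk' (Cfsg.pPrimeCore p G)).subgroupMap (Q : Subgroup G))
      ⟨hinj, MonoidHom.subgroupMap_surjective _ _⟩
  have h' : (∀ u v : ↥((Q.mapSurjective hsurj : Sylow p (G ⧸ Cfsg.pPrimeCore p G)) :
      Subgroup (G ⧸ Cfsg.pPrimeCore p G)), u * v = v * u) ∨
      Pkg p ↥((Q.mapSurjective hsurj : Sylow p (G ⧸ Cfsg.pPrimeCore p G)) :
      Subgroup (G ⧸ Cfsg.pPrimeCore p G)) := by
    rcases h with hab | pk
    · left
      intro u v
      apply e.symm.injective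
      rw [map_mul, map_mul]
      exact hab _ _
    · right
      exact pk.of_equiv e
  have hb := plength_one_of_core hsolq hO (Q.mapSurjective hsurj) h'
  have := Cfsg.Agent.H1.plength_extension (Cfsg.pPrimeCore p G) ha hb
  simpa using this

end final

end Cfsg.Agent.Lib.Helper7.Sch
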