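import Mathlib
import Cfsg.Agent.Lib.Helper7.ThA9
import Cfsg.Agent.Lib.Helper7.JcA
import Cfsg.Agent.Lib.Lead.Conj

set_option autoImplicit false
set_option linter.style.haveILetI false
set_option linter.unusedVariables false
set_option linter.unusedSectionVars false

namespace Cfsg.Agent.Lib.Helper7.Sd

open Cfsg.Agent.Lib.Helper7.ThA Cfsg.Agent.Lib.Helper7.Jc Cfsg.Agent.Lib.Lead.Conj

universe u

section three
variable {X : Type u} [Group X] [Finite X]

/-- fixed point congruence for an element of prime order `q` normalising a subgroup `W` -/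
theorem card_modEq_card_centralizer (W : Subgroup X) {q : ℕ} (hq : q.Prime) {x : X} (hxq : x ^ q = 1)
    (hxW : ∀ w ∈ W, x * w * x⁻¹ ∈ W) :
    Nat.card W ≡ Nat.card ↥(W ⊓ Subgroup.centralizer ({x} : Set X)) [MOD q] := by
  classical
  haveI : Fact q.Prime := ⟨hq⟩
  obtain ⟨Z, hZdef⟩ : ∃ Z : Subgroup X, Z = Subgroup.zpowers x := ⟨_, rfl⟩
  have hZp : IsPGroup q ↥Z := by
    rw [hZdef]
    intro g
    refine ⟨1, ?_⟩
    obtain ⟨k, hk⟩ := Subgroup.mem_zpowers_iff.mp g.2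
    apply Subtype.ext
    rw [Subgroup.coe_pow, Subgroup.coe_one, pow_one, ← hk, ← zpow_natCast, ← zpow_mul, mul_comm, zpow_mul,
      zpow_natCast, hxq, one_zpow]
  have hnorm : ∀ g ∈ Z, ∀ w ∈ W, g * w * g⁻¹ ∈ W := by
    intro g hg
    have hle : Z ≤ Subgroup.normalizer (W : Set X) := by
      rw [hZdef, Subgroup.zpowers_le]
      exact mem_normalizer_of_conj_mem W x hxW
    intro w hw
    exact (Subgroup.mem_normalizer_iff.mp (hle hg) w).mp hw
  letI act : MulAction ↥Z ↥W :=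
    { smul := fun g w => ⟨(g : X) * w * (g : X)⁻¹, hnorm g.1 g.2 w.1 w.2⟩
      one_smul := fun w => Subtype.ext (by
        show ((1 : ↥Z) : X) * w * ((1 : ↥Z) : X)⁻¹ = w
        simp)
      mul_smul := fun g h w => Subtype.ext (by
        show ((g * h : ↥Z) : X) * w * ((g * h : ↥Z) : X)⁻¹ = (g : X) * ((h : X) * w * (h : X)⁻¹) * (g : X)⁻¹
        rw [Subgroup.coe_mul]; group) }
  have hsmul : ∀ (g : ↥Z) (w : ↥W), ((g • w : ↥W) : X) = (g : X) * w * (g : X)⁻¹ := fun _ _ => rfl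
  have h1 := hZp.card_modEq_card_fixedPoints ↥W
  have h2 : Nat.card (MulAction.fixedPoints ↥Z ↥W) = Nat.card ↥(W ⊓ Subgroup.centralizer ({x} : Set X)) := by
    apply Nat.card_congr
    refine ⟨fun w => ⟨w.1.1, ?_⟩, fun w => ⟨⟨w.1, (Subgroup.mem_inf.mp w.2).1⟩, ?_⟩, ?_, ?_⟩
    · refine Subgroup.mem_inf.mpr ⟨w.1.2, Subgroup.mem_centralizer_singleton_iff.mpr ?_⟩
      have hx : x ∈ Z := by rw [hZdef]; exact Subgroup.mem_zpowers x
      have := w.2 ⟨x, hx⟩
      have h3 := congrArg Subtype.val this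
      rw [hsmul] at h3
      have h4 : x * (w.1 : X) * x⁻¹ = (w.1 : X) := h3
      calc (w.1 : X) * x = (x * (w.1 : X) * x⁻¹) * x := by rw [h4]
        _ = x * (w.1 : X) := by group
    · intro g
      apply Subtype.ext
      rw [hsmul]
      have hc := (Subgroup.mem_inf.mp w.2).2
      rw [Subgroup.mem_centralizer_singleton_iff] at hc
      obtain ⟨k, hk⟩ : ∃ k : ℤ, x ^ k = (g : X) := by
        have hle : Z ≤ Subgroup.zpowers x := hZdef.le
        exact Subgroup.mem_zpowers_iff.mp (hle g.2)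
      have hcomm : Commute (w.1 : X) x := hc
      have h5 : Commute (w.1 : X) (g : X) := by rw [← hk]; exact hcomm.zpow_right k
      show (g : X) * (w.1 : X) * (g : X)⁻¹ = (w.1 : X)
      rw [← h5.eq, mul_inv_cancel_right]
    · intro w; rfl
    · intro w; rfl
  rw [h2] at h1
  exact h1

/-- an element `x` of odd prime order `q`, inverted by `a`, acting non-trivially on an elementary abelian
`2`-group `W` on which `a` has a centraliser of index at most `2`, has order `3` -/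
theorem order_three (W : Subgroup X) (hW2 : ∀ w ∈ W, w * w = 1) {q : ℕ} (hq : q.Prime) (hq2 : q ≠ 2)
    {x a : X} (hxq : x ^ q = 1) (hinv : a * x * a⁻¹ = x⁻¹)
    (hxW : ∀ w ∈ W, x * w * x⁻¹ ∈ W) (haW : ∀ w ∈ W, a * w * a⁻¹ ∈ W)
    (hidx : (W ⊓ Subgroup.centralizer ({a} : Set X)).relIndex W ≤ 2)
    (hnc : ¬ W ≤ Subgroup.centralizer ({x} : Set X)) : q = 3 := by
  classical
  haveI : Fact q.Prime := ⟨hq⟩
  have hqodd : ¬ 2 ∣ q := by
    intro h
    exact hq2 ((Nat.prime_dvd_prime_iff_eq Nat.prime_two hq).mp h).symm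
  have hcop2 : Nat.Coprime 2 q := (Nat.Prime.coprime_iff_not_dvd Nat.prime_two).mpr hqodd
  have hinv' : a * x⁻¹ * a⁻¹ = x := by
    have : a * x⁻¹ * a⁻¹ = (a * x * a⁻¹)⁻¹ := by group
    rw [this, hinv, inv_inv]
  obtain ⟨Fa, hFa⟩ : ∃ Fa : Subgroup X, Fa = W ⊓ Subgroup.centralizer ({a} : Set X) := ⟨_, rfl⟩
  rw [← hFa] at hidx
  have hFaW : Fa ≤ W := by rw [hFa]; exact inf_le_left
  have hFamem : ∀ f, f ∈ Fa ↔ f ∈ W ∧ a * f = f * a := by
    intro f
    rw [hFa, Subgroup.mem_inf, Subgroup.mem_centralizer_singleton_iff]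
    exact ⟨fun h => ⟨h.1, h.2.symm⟩, fun h => ⟨h.1, h.2.symm⟩⟩
  obtain ⟨F₀, hF₀⟩ : ∃ F₀ : Subgroup X, F₀ = W ⊓ Subgroup.centralizer ({x} : Set X) := ⟨_, rfl⟩
  have hF₀W : F₀ ≤ W := by rw [hF₀]; exact inf_le_left
  have hkey : Fa ⊓ Fa.map (MulAut.conj x).toMonoidHom ≤ F₀ := by
    intro f hf
    rw [Subgroup.mem_inf, mem_map_conj] at hf
    obtain ⟨hf1, hf2⟩ := hf
    rw [hF₀, Subgroup.mem_inf, Subgroup.mem_centralizer_singleton_iff]
    refine ⟨hFaW hf1, ?_⟩
    have h1 : a * f * a⁻¹ = f := by rw [((hFamem f).mp hf1).2, mul_inv_cancel_right]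
    have h2 : a * (x⁻¹ * f * x) * a⁻¹ = x⁻¹ * f * x := by
      rw [((hFamem _).mp hf2).2, mul_inv_cancel_right]
    have h3 : a * (x⁻¹ * f * x) * a⁻¹ = x * f * x⁻¹ := by
      calc a * (x⁻¹ * f * x) * a⁻¹ = (a * x⁻¹ * a⁻¹) * (a * f * a⁻¹) * (a * x * a⁻¹) := by group
        _ = x * f * x⁻¹ := by rw [hinv', h1, hinv]
    rw [h2] at h3
    symm
    apply commute_of_sq_commute hqodd hxq
    calc x * x * f = x * (x * f * x⁻¹) * x := by group
      _ = x * (x⁻¹ * f * x) * x := by rw [h3]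
      _ = f * (x * x) := by group
  have hFa'idx : (Fa.map (MulAut.conj x).toMonoidHom).relIndex W ≤ 2 := by
    have hWx : W.map (MulAut.conj x).toMonoidHom = W :=
      map_conj_eq_of_le W x (by rintro _ ⟨f, hf, rfl⟩; exact hxW f hf)
    have := Subgroup.relIndex_map_map_of_injective Fa W
      (f := (MulAut.conj x).toMonoidHom) (MulAut.conj x).injective
    rw [hWx] at this
    rw [this]; exact hidx
  have hF₀idx : F₀.relIndex W ≤ 4 := by
    have h1 : (Fa ⊓ Fa.map (MulAut.conj x).toMonoidHom).relIndex W ≤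
        Fa.relIndex W * (Fa.map (MulAut.conj x).toMonoidHom).relIndex W := Subgroup.relIndex_inf_le
    have hne : (Fa ⊓ Fa.map (MulAut.conj x).toMonoidHom).relIndex W ≠ 0 :=
      Subgroup.index_ne_zero_of_finite
    have h2 : F₀.relIndex W ≤ (Fa ⊓ Fa.map (MulAut.conj x).toMonoidHom).relIndex W :=
      Subgroup.relIndex_le_of_le_left hkey hne
    calc F₀.relIndex W ≤ _ := h2
      _ ≤ _ := h1
      _ ≤ 2 * 2 := Nat.mul_le_mul hidx hFa'idx
  have hW2g : IsPGroup 2 ↥W := by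
    intro w
    refine ⟨1, ?_⟩
    rw [pow_one, pow_two]
    exact Subtype.ext (hW2 w.1 w.2)
  obtain ⟨n, hn⟩ := (IsPGroup.iff_card (p := 2)).mp hW2g
  obtain ⟨m, hm⟩ := (IsPGroup.iff_card (p := 2)).mp (hW2g.to_le hF₀W)
  have hcard : Nat.card W = F₀.relIndex W * Nat.card F₀ := Cfsg.Agent.H1.card_eq_relIndex_mul_card hF₀W
  have hdvd : F₀.relIndex W ∣ 2 ^ n := by rw [← hn]; exact Subgroup.relIndex_dvd_card F₀ W
  obtain ⟨j, -, hj⟩ := (Nat.dvd_prime_pow Nat.prime_two).mp hdvd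
  have hj2 : j ≤ 2 := by
    rw [hj] at hF₀idx
    by_contra hlt
    push Not at hlt
    have : 2 ^ 3 ≤ 2 ^ j := Nat.pow_le_pow_right (by norm_num) hlt
    omega
  have hj0 : j ≠ 0 := by
    rintro rfl
    rw [pow_zero] at hj
    apply hnc
    have : F₀ = W := by
      apply Subgroup.eq_of_le_of_card_ge hF₀W
      rw [hcard, hj, one_mul]
    rw [← this, hF₀]; exact inf_le_right
  have hmod := card_modEq_card_centralizer W hq hxq hxW
  rw [← hF₀, hcard, hj, hm] at hmod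
  -- q ∣ 2^j * 2^m - 2^m
  have hdq : q ∣ 2 ^ j * 2 ^ m - 2 ^ m := (Nat.modEq_iff_dvd' (by
    calc 2 ^ m = 1 * 2 ^ m := (one_mul _).symm
      _ ≤ 2 ^ j * 2 ^ m := Nat.mul_le_mul_right _ (Nat.one_le_two_pow))).mp hmod.symm
  have he : 2 ^ j * 2 ^ m - 2 ^ m = (2 ^ j - 1) * 2 ^ m := by
    rw [Nat.sub_mul, one_mul]
  rw [he] at hdq
  have hcopm : Nat.Coprime q (2 ^ m) := (Nat.Coprime.pow_left m hcop2).symm
  have hdq' : q ∣ 2 ^ j - 1 := hcopm.dvd_of_dvd_mul_right hdq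
  interval_cases j
  · exact absurd rfl hj0
  · norm_num at hdq'
    exact absurd hdq' hq.one_lt.ne'
  · norm_num at hdq'
    exact (Nat.prime_dvd_prime_iff_eq hq Nat.prime_three).mp hdq'

end three

end Cfsg.Agent.Lib.Helper7.Sd
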