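import Mathlib
import Cfsg.Agent.Lib.Helper7.JcA

set_option autoImplicit false
set_option linter.style.haveILetI false
set_option linter.unusedVariables false
set_option linter.unusedSectionVars false

namespace Cfsg.Agent.Lib.Helper7.Sd

open Cfsg.Agent.Lib.Helper7.ThA Cfsg.Agent.Lib.Helper7.Jc

universe u

section eig
variable {X : Type u} [Group X] [Finite X]

/-- `eigen_nilpotent` for a subgroup `R` normalised by `A` -/
theorem eigen_nilpotent' (R A : Subgroup X) (hAR : A ≤ Subgroup.normalizer (R : Set X))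
    (hnil : Group.IsNilpotent ↥R) (hodd : ¬ 2 ∣ Nat.card R)
    (hAab : ∀ a ∈ A, ∀ b ∈ A, a * b = b * a) (hA2 : ∀ a ∈ A, a * a = 1)
    (hnc : ¬ A ≤ Subgroup.centralizer (R : Set X)) :
    ∃ x ∈ R, ∃ q : ℕ, q.Prime ∧ q ≠ 2 ∧ x ^ q = 1 ∧ x ≠ 1 ∧ (∃ a ∈ A, a * x * a⁻¹ = x⁻¹) ∧
      ∀ b ∈ A, b * x * b⁻¹ = x ∨ b * x * b⁻¹ = x⁻¹ := by
  obtain ⟨N, hNdef⟩ : ∃ N : Subgroup X, N = Subgroup.normalizer (R : Set X) := ⟨_, rfl⟩
  rw [← hNdef] at hAR
  have hRN : R ≤ N := by rw [hNdef]; exact Subgroup.le_normalizer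
  haveI hRn : (R.subgroupOf N).Normal := by rw [hNdef]; exact Subgroup.normal_in_normalizer
  have e : ↥(R.subgroupOf N) ≃* ↥R := Subgroup.subgroupOfEquivOfLe hRN
  have hnil' : Group.IsNilpotent ↥(R.subgroupOf N) := by
    haveI := hnil
    exact Group.nilpotent_of_surjective e.symm.toMonoidHom e.symm.surjective
  have hodd' : ¬ 2 ∣ Nat.card ↥(R.subgroupOf N) := by
    rw [Nat.card_congr e.toEquiv]; exact hodd
  have hA'ab : ∀ a ∈ A.subgroupOf N, ∀ b ∈ A.subgroupOf N, a * b = b * a := by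
    intro a ha b hb
    apply Subtype.ext
    rw [Subgroup.coe_mul, Subgroup.coe_mul]
    exact hAab a.1 (Subgroup.mem_subgroupOf.mp ha) b.1 (Subgroup.mem_subgroupOf.mp hb)
  have hA'2 : ∀ a ∈ A.subgroupOf N, a * a = 1 := by
    intro a ha
    apply Subtype.ext
    rw [Subgroup.coe_mul, Subgroup.coe_one]
    exact hA2 a.1 (Subgroup.mem_subgroupOf.mp ha)
  have hnc' : ¬ A.subgroupOf N ≤ Subgroup.centralizer ((R.subgroupOf N : Subgroup ↥N) : Set ↥N) := by
    intro hle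
    apply hnc
    intro a ha
    rw [Subgroup.mem_centralizer_iff]
    intro r hr
    have h1 : (⟨a, hAR ha⟩ : ↥N) ∈ A.subgroupOf N := Subgroup.mem_subgroupOf.mpr ha
    have h2 := Subgroup.mem_centralizer_iff.mp (hle h1) ⟨r, hRN hr⟩ (Subgroup.mem_subgroupOf.mpr hr)
    exact congrArg Subtype.val h2
  obtain ⟨x, hx, q, hq, hq2, hxq, hx1, ⟨a, ha, hax⟩, hall⟩ :=
    eigen_nilpotent (R.subgroupOf N) (A.subgroupOf N) hnil' hodd' hA'ab hA'2 hnc'
  refine ⟨x.1, Subgroup.mem_subgroupOf.mp hx, q, hq, hq2, ?_, ?_, ⟨a.1, Subgroup.mem_subgroupOf.mp ha, ?_⟩, ?_⟩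
  · have := congrArg Subtype.val hxq
    simpa using this
  · intro h
    exact hx1 (Subtype.ext h)
  · have := congrArg Subtype.val hax
    simpa using this
  · intro b hb
    rcases hall ⟨b, hAR hb⟩ (Subgroup.mem_subgroupOf.mpr hb) with h | h
    · left
      have := congrArg Subtype.val h
      simpa using this
    · right
      have := congrArg Subtype.val h
      simpa using this

end eig

end Cfsg.Agent.Lib.Helper7.Sd
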