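import Mathlib
import Cfsg.Agent.Lib.Helper7.SdA
import Cfsg.Agent.Lib.Helper7.SdB
import Cfsg.Agent.H2.CoprimeFactor
import Cfsg.Agent.H2.BenderLemma
import Cfsg.Agent.H2.MaxInvariant
import Cfsg.Agent.S4062

set_option autoImplicit false
set_option linter.style.haveILetI false
set_option linter.unusedVariables false
set_option linter.unusedSectionVars false

namespace Cfsg.Agent.Lib.Helper7.Sd

open Cfsg.Agent.Lib.Helper7.ThA Cfsg.Agent.Lib.Helper7.Jc Cfsg.Agent.Lib.Lead.Conj

universe u

section main
variable {X : Type u} [Group X] [Finite X]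

theorem s3_aux (M V K : Subgroup X)
    (hVc : ∀ s ∈ V, ∀ t ∈ V, s * t = t * s) (hV2 : ∀ v ∈ V, v * v = 1)
    (hMV : M ≤ Subgroup.normalizer (V : Set X))
    (hfaith : M ⊓ Subgroup.centralizer (V : Set X) = ⊥)
    (hKM : K ≤ M) (hMK : M ≤ Subgroup.normalizer (K : Set X)) (hKodd : ¬ 2 ∣ Nat.card K)
    (hcon : M ⊓ Subgroup.centralizer (K : Set X) ≤ K) :
    ∀ n : ℕ, ∀ A : Subgroup X, Nat.card A = n → A ≤ M → (∀ a ∈ A, ∀ b ∈ A, a * b = b * a) →
      (∀ a ∈ A, a * a = 1) →
      (V ⊓ Subgroup.centralizer (A : Set X)).relIndex V < Nat.card A ^ 2 →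
      ∃ D : Subgroup X, D ≤ M ∧ Nonempty (↥D ≃* Equiv.Perm (Fin 3)) := by
  classical
  haveI : Fact (Nat.Prime 2) := ⟨Nat.prime_two⟩
  intro n
  induction n using Nat.strong_induction_on with
  | _ n ih =>
    intro A hcard hAM hAab hA2 hsmall
    have hA2g : IsPGroup 2 ↥A := by
      intro w
      refine ⟨1, ?_⟩
      rw [pow_one, pow_two]
      exact Subtype.ext (hA2 w.1 w.2)
    have hV2g : IsPGroup 2 ↥V := by
      intro w
      refine ⟨1, ?_⟩
      rw [pow_one, pow_two]
      exact Subtype.ext (hV2 w.1 w.2)
    -- `A` acts non-trivially on `K`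
    have hncK : ¬ A ≤ Subgroup.centralizer (K : Set X) := by
      intro hle
      have hAK : A ≤ K := (le_inf hAM hle).trans hcon
      have hAbot : A = ⊥ := by
        rw [eq_bot_iff]
        intro a ha
        rw [Subgroup.mem_bot]
        exact eq_one_of_sq_of_odd K hKodd (hAK ha) (hA2 a ha)
      rw [hAbot, Subgroup.card_bot, one_pow, Nat.lt_one_iff] at hsmall
      exact (Subgroup.index_ne_zero_of_finite : (V ⊓ Subgroup.centralizer ((⊥ : Subgroup X) : Set X)).relIndex V ≠ 0) hsmall
    have hAK : A ≤ Subgroup.normalizer (K : Set X) := hAM.trans hMK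
    have hsolv : Group.IsSolvable ↥A := Group.isSolvable_of_comm (fun a b => Subtype.ext (hAab a.1 a.2 b.1 b.2))
    have hcop : (Nat.card ↥A).Coprime (Nat.card ↥K) := by
      obtain ⟨k, hk⟩ := (IsPGroup.iff_card (p := 2)).mp hA2g
      rw [hk]
      exact Nat.Coprime.pow_left k ((Nat.Prime.coprime_iff_not_dvd Nat.prime_two).mpr hKodd)
    -- an invariant Sylow subgroup not centralised by `A`
    obtain ⟨r, hr, Q, hQ, hAQ, hncQ⟩ : ∃ r : ℕ, r.Prime ∧ ∃ Q : Subgroup X,
        Cfsg.Agent.H2.CoprimeFactor.IsSyl r Q K ∧ A ≤ Subgroup.normalizer (Q : Set X) ∧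
        ¬ A ≤ Subgroup.centralizer (Q : Set X) := by
      by_contra hno
      push Not at hno
      apply hncK
      have hdvd : Nat.card K ∣ Nat.card ↥(K ⊓ Subgroup.centralizer (A : Set X)) := by
        apply Cfsg.Agent.H2.MaxInv.card_dvd_of_forall_prime_pow_dvd Nat.card_pos.ne' Nat.card_pos.ne'
        intro r hr
        haveI : Fact r.Prime := ⟨hr⟩
        obtain ⟨Q, hQ, hAQ⟩ := Cfsg.Agent.H2.CoprimeFactor.exists_inv_syl A K hAK hcop hsolv r
        have h1 := hno r hr Q hQ hAQ
        have h2 : Q ≤ K ⊓ Subgroup.centralizer (A : Set X) := by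
          refine le_inf hQ.1 ?_
          intro y hy
          rw [Subgroup.mem_centralizer_iff]
          intro a ha
          exact (Subgroup.mem_centralizer_iff.mp (h1 ha) y hy).symm
        rw [← hQ.2.2]
        exact Subgroup.card_dvd_of_le h2
      have heq : K ⊓ Subgroup.centralizer (A : Set X) = K :=
        Subgroup.eq_of_le_of_card_ge inf_le_left (Nat.le_of_dvd Nat.card_pos hdvd)
      intro a ha
      rw [Subgroup.mem_centralizer_iff]
      intro y hy
      have hy' : y ∈ K ⊓ Subgroup.centralizer (A : Set X) := by rw [heq]; exact hy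
      exact (Subgroup.mem_centralizer_iff.mp hy'.2 a ha).symm
    haveI : Fact r.Prime := ⟨hr⟩
    have hQK : Q ≤ K := hQ.1
    have hQodd : ¬ 2 ∣ Nat.card Q := fun h => hKodd (h.trans (Subgroup.card_dvd_of_le hQK))
    obtain ⟨x, hxQ, q, hq, hq2, hxq, hx1, ⟨a, ha, hinv⟩, hall⟩ :=
      eigen_nilpotent' Q A hAQ hQ.2.1.isNilpotent hQodd hAab hA2 hncQ
    have hxM : x ∈ M := hKM (hQK hxQ)
    have hqodd : ¬ 2 ∣ q := by
      intro h
      exact hq2 ((Nat.prime_dvd_prime_iff_eq Nat.prime_two hq).mp h).symm
    have hcop2 : Nat.Coprime 2 q := (Nat.Prime.coprime_iff_not_dvd Nat.prime_two).mpr hqodd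
    have hxne : x ≠ x⁻¹ := by
      intro h
      apply hx1
      have h2 : x ^ 2 = 1 := by
        rw [pow_two]; nth_rewrite 1 [h]; exact inv_mul_cancel x
      have := Cfsg.Agent.Lib.Helper7.ThA.mem_of_pow_mem_of_coprime (⊥ : Subgroup X) (x := x) hcop2
        (by rw [h2]; exact Subgroup.one_mem _) (by rw [hxq]; exact Subgroup.one_mem _)
      exact Subgroup.mem_bot.mp this
    -- the centraliser of `x` in `A`
    obtain ⟨B, hBdef⟩ : ∃ B : Subgroup X, B = A ⊓ Subgroup.centralizer ({x} : Set X) := ⟨_, rfl⟩
    have hBA : B ≤ A := by rw [hBdef]; exact inf_le_left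
    have hBmem : ∀ g, g ∈ B ↔ g ∈ A ∧ g * x * g⁻¹ = x := by
      intro g
      rw [hBdef, Subgroup.mem_inf, Subgroup.mem_centralizer_singleton_iff]
      constructor
      · rintro ⟨h1, h2⟩
        exact ⟨h1, by rw [h2, mul_inv_cancel_right]⟩
      · rintro ⟨h1, h2⟩
        refine ⟨h1, ?_⟩
        calc g * x = (g * x * g⁻¹) * g := by group
          _ = x * g := by rw [h2]
    have hba_mem : ∀ b ∈ A, b ∉ B → b * a ∈ B := by
      intro b hb hbB
      rw [hBmem]
      refine ⟨A.mul_mem hb ha, ?_⟩
      rcases hall b hb with h | h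
      · exact absurd ((hBmem b).mpr ⟨hb, h⟩) hbB
      · calc b * a * x * (b * a)⁻¹ = b * (a * x * a⁻¹) * b⁻¹ := by group
          _ = b * x⁻¹ * b⁻¹ := by rw [hinv]
          _ = (b * x * b⁻¹)⁻¹ := by group
          _ = x := by rw [h, inv_inv]
    have haB : a ∉ B := by
      rw [hBmem]
      rintro ⟨-, h⟩
      rw [hinv] at h
      exact hxne h.symm
    have hBidx : B.relIndex A = 2 := by
      rw [Subgroup.relIndex_eq_two_iff]
      refine ⟨a, ha, ?_⟩
      intro b hb
      by_cases hbB : b ∈ B
      · right
        refine ⟨hbB, ?_⟩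
        intro hbaB
        apply haB
        have : a = b⁻¹ * (b * a) := by group
        rw [this]
        exact B.mul_mem (B.inv_mem hbB) hbaB
      · left
        exact ⟨hba_mem b hb hbB, hbB⟩
    have hcardA : Nat.card A = 2 * Nat.card B := by
      rw [Cfsg.Agent.H1.card_eq_relIndex_mul_card hBA, hBidx]
    have hBx : ∀ b ∈ B, b * x = x * b := by
      intro b hb
      have := ((hBmem b).mp hb).2
      calc b * x = (b * x * b⁻¹) * b := by group
        _ = x * b := by rw [this]
    -- the fixed points of `B`
    obtain ⟨W, hWdef⟩ : ∃ W : Subgroup X, W = V ⊓ Subgroup.centralizer (B : Set X) := ⟨_, rfl⟩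
    have hWV : W ≤ V := by rw [hWdef]; exact inf_le_left
    have hWmem : ∀ w, w ∈ W ↔ w ∈ V ∧ ∀ b ∈ B, b * w = w * b := by
      intro w
      rw [hWdef, Subgroup.mem_inf, Subgroup.mem_centralizer_iff]
      rfl
    have hCAW : V ⊓ Subgroup.centralizer (A : Set X) ≤ W := by
      rw [hWdef]
      exact inf_le_inf_left _ (Subgroup.centralizer_le (SetLike.coe_subset_coe.mpr hBA))
    have hmul := Subgroup.relIndex_mul_relIndex (V ⊓ Subgroup.centralizer (A : Set X)) W V hCAW hWV
    by_cases hcase : W.relIndex V < Nat.card B ^ 2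
    · -- induction
      have hlt : Nat.card B < n := by
        rw [← hcard, hcardA]
        have : 0 < Nat.card B := Nat.card_pos
        omega
      rw [hWdef] at hcase
      exact ih _ hlt B rfl (hBA.trans hAM) (fun s hs t ht => hAab s (hBA hs) t (hBA ht))
        (fun s hs => hA2 s (hBA hs)) hcase
    · push Not at hcase
      have hW2 : ∀ w ∈ W, w * w = 1 := fun w hw => hV2 w (hWV hw)
      have hMV' : ∀ g ∈ M, ∀ v ∈ V, g * v * g⁻¹ ∈ V := by
        intro g hg v hv
        exact (Subgroup.mem_normalizer_iff.mp (hMV hg) v).mp hv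
      have hxW : ∀ w ∈ W, x * w * x⁻¹ ∈ W := by
        intro w hw
        rw [hWmem] at hw ⊢
        refine ⟨hMV' x hxM w hw.1, fun b hb => ?_⟩
        have h1 := hBx b hb
        have h2 := hw.2 b hb
        have h3 : b * x⁻¹ = x⁻¹ * b := by
          calc b * x⁻¹ = x⁻¹ * (x * b) * x⁻¹ := by group
            _ = x⁻¹ * (b * x) * x⁻¹ := by rw [h1]
            _ = x⁻¹ * b := by group
        calc b * (x * w * x⁻¹) = (b * x) * w * x⁻¹ := by group
          _ = (x * b) * w * x⁻¹ := by rw [h1]
          _ = x * (b * w) * x⁻¹ := by group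
          _ = x * (w * b) * x⁻¹ := by rw [h2]
          _ = x * w * (b * x⁻¹) := by group
          _ = x * w * (x⁻¹ * b) := by rw [h3]
          _ = x * w * x⁻¹ * b := by group
      have haW : ∀ w ∈ W, a * w * a⁻¹ ∈ W := by
        intro w hw
        rw [hWmem] at hw ⊢
        refine ⟨hMV' a (hAM ha) w hw.1, fun b hb => ?_⟩
        have h1 := hAab b (hBA hb) a ha
        have h2 := hw.2 b hb
        have h3 := hAab b (hBA hb) a⁻¹ (A.inv_mem ha)
        calc b * (a * w * a⁻¹) = (b * a) * w * a⁻¹ := by group
          _ = (a * b) * w * a⁻¹ := by rw [h1]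
          _ = a * (b * w) * a⁻¹ := by group
          _ = a * (w * b) * a⁻¹ := by rw [h2]
          _ = a * w * (b * a⁻¹) := by group
          _ = a * w * (a⁻¹ * b) := by rw [h3]
          _ = a * w * a⁻¹ * b := by group
      have hCa : W ⊓ Subgroup.centralizer ({a} : Set X) = V ⊓ Subgroup.centralizer (A : Set X) := by
        apply le_antisymm
        · intro w hw
          rw [Subgroup.mem_inf, Subgroup.mem_centralizer_singleton_iff] at hw
          obtain ⟨hwW, hwa⟩ := hw
          rw [hWmem] at hwW
          rw [Subgroup.mem_inf, Subgroup.mem_centralizer_iff]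
          refine ⟨hwW.1, fun b hb => ?_⟩
          by_cases hbB : b ∈ B
          · exact hwW.2 b hbB
          · have h1 := hwW.2 _ (hba_mem b hb hbB)
            have h2 : a⁻¹ * w = w * a⁻¹ := by
              calc a⁻¹ * w = a⁻¹ * (w * a) * a⁻¹ := by group
                _ = a⁻¹ * (a * w) * a⁻¹ := by rw [hwa]
                _ = w * a⁻¹ := by group
            calc b * w = (b * a) * (a⁻¹ * w) := by group
              _ = (b * a) * (w * a⁻¹) := by rw [h2]
              _ = ((b * a) * w) * a⁻¹ := by group
              _ = (w * (b * a)) * a⁻¹ := by rw [h1]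
              _ = w * b := by group
        · intro w hw
          rw [Subgroup.mem_inf, Subgroup.mem_centralizer_iff] at hw
          rw [Subgroup.mem_inf, Subgroup.mem_centralizer_singleton_iff, hWmem]
          exact ⟨⟨hw.1, fun b hb => hw.2 b (hBA hb)⟩, (hw.2 a ha).symm⟩
      have hidx : (W ⊓ Subgroup.centralizer ({a} : Set X)).relIndex W ≤ 2 := by
        rw [hCa]
        have hpos : 0 < W.relIndex V := Nat.pos_of_ne_zero Subgroup.index_ne_zero_of_finite
        have h4 : (V ⊓ Subgroup.centralizer (A : Set X)).relIndex W < 4 := by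
          by_contra h4
          push Not at h4
          have : 4 * Nat.card B ^ 2 ≤ (V ⊓ Subgroup.centralizer (A : Set X)).relIndex V := by
            rw [← hmul]; exact Nat.mul_le_mul h4 hcase
          rw [hcardA] at hsmall
          nlinarith
        have hdvd : (V ⊓ Subgroup.centralizer (A : Set X)).relIndex W ∣ Nat.card W :=
          Subgroup.relIndex_dvd_card _ W
        obtain ⟨m, hm⟩ := (IsPGroup.iff_card (p := 2)).mp (hV2g.to_le hWV)
        rw [hm, Nat.dvd_prime_pow Nat.prime_two] at hdvd
        obtain ⟨j, -, hj⟩ := hdvd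
        rw [hj] at h4 ⊢
        have hj2 : j < 2 := by
          by_contra hlt
          push Not at hlt
          have : 2 ^ 2 ≤ 2 ^ j := Nat.pow_le_pow_right (by norm_num) hlt
          omega
        interval_cases j <;> norm_num
      -- `x` acts non-trivially on `W`, by the `A × B` lemma
      have hncW : ¬ W ≤ Subgroup.centralizer ({x} : Set X) := by
        intro hle
        haveI : Fact q.Prime := ⟨hq⟩
        obtain ⟨Zx, hZx⟩ : ∃ Zx : Subgroup X, Zx = Subgroup.zpowers x := ⟨_, rfl⟩
        have hZcent : ∀ g : X, g * x = x * g → g ∈ Subgroup.centralizer (Zx : Set X) := by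
          intro g hg
          rw [Subgroup.mem_centralizer_iff]
          intro h hh
          rw [hZx, SetLike.mem_coe] at hh
          obtain ⟨k, rfl⟩ := Subgroup.mem_zpowers_iff.mp hh
          have hc : Commute g x := hg
          exact (hc.zpow_right k).eq.symm
        have hBV : B ≤ Subgroup.normalizer (V : Set X) := (hBA.trans hAM).trans hMV
        have hB2g : IsPGroup 2 ↥B := hA2g.to_le hBA
        have hR2g : IsPGroup 2 ↥(V ⊔ B) := IsPGroup.to_sup_of_normal_left' hV2g hB2g hBV
        have hZV : Zx ≤ Subgroup.normalizer (V : Set X) := by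
          rw [hZx, Subgroup.zpowers_le]; exact hMV hxM
        have hZB : Zx ≤ Subgroup.normalizer (B : Set X) := by
          rw [hZx, Subgroup.zpowers_le]
          apply mem_normalizer_of_conj_mem
          intro b hb
          have h1 := hBx b hb
          have : x * b * x⁻¹ = b := by rw [← h1, mul_inv_cancel_right]
          rw [this]; exact hb
        have hQR : Zx ≤ Subgroup.normalizer ((V ⊔ B : Subgroup X) : Set X) :=
          Cfsg.Agent.H2.CoprimeFactor.normalizer_sup hZV hZB
        have hcop' : (Nat.card ↥Zx).Coprime (Nat.card ↥(V ⊔ B : Subgroup X)) := by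
          obtain ⟨k, hk⟩ := (IsPGroup.iff_card (p := 2)).mp hR2g
          rw [hk, hZx, Nat.card_zpowers, orderOf_eq_prime hxq hx1]
          exact (Nat.Coprime.pow_left k hcop2).symm
        have hS0Q : B ≤ Subgroup.centralizer (Zx : Set X) := fun b hb => hZcent b (hBx b hb)
        have hC : (V ⊔ B) ⊓ Subgroup.centralizer (B : Set X) ≤ Subgroup.centralizer (Zx : Set X) := by
          intro g hg
          obtain ⟨hg1, hg2⟩ := Subgroup.mem_inf.mp hg
          obtain ⟨v, hv, b, hb, rfl⟩ := (Cfsg.Agent.H1.mem_sup_of_le_normalizer V B hBV).mp hg1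
          apply hZcent
          have hvW : v ∈ W := by
            rw [hWmem]
            refine ⟨hv, fun b' hb' => ?_⟩
            have h1 := Subgroup.mem_centralizer_iff.mp hg2 b' hb'
            have h2 := hAab b' (hBA hb') b (hBA hb)
            have h3 : b' * v * b = v * b' * b := by
              calc b' * v * b = b' * (v * b) := by group
                _ = v * b * b' := h1
                _ = v * (b * b') := by group
                _ = v * (b' * b) := by rw [h2]
                _ = v * b' * b := by group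
            exact mul_right_cancel h3
          have h1 : v * x = x * v := by
            have := hle hvW
            rw [Subgroup.mem_centralizer_singleton_iff] at this
            exact this
          have h2 := hBx b hb
          calc v * b * x = v * (b * x) := by group
            _ = v * (x * b) := by rw [h2]
            _ = (v * x) * b := by group
            _ = (x * v) * b := by rw [h1]
            _ = x * (v * b) := by group
        have key := Cfsg.Agent.H2.BenderLemma.nilpotent_AxB (V ⊔ B) Zx B hR2g.isNilpotent hQR hcop'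
          le_sup_right hS0Q hC
        have hxCV : x ∈ Subgroup.centralizer (V : Set X) := by
          rw [Subgroup.mem_centralizer_iff]
          intro v hv
          have h1 := key (le_sup_left (a := V) (b := B) hv)
          have hxZ : x ∈ (Zx : Set X) := by rw [hZx]; exact Subgroup.mem_zpowers x
          exact (Subgroup.mem_centralizer_iff.mp h1 x hxZ).symm
        have : x ∈ M ⊓ Subgroup.centralizer (V : Set X) := Subgroup.mem_inf.mpr ⟨hxM, hxCV⟩
        rw [hfaith, Subgroup.mem_bot] at this
        exact hx1 this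
      have hq3 : q = 3 := order_three W hW2 hq hq2 hxq hinv hxW haW hidx hncW
      subst hq3
      -- the subgroup `⟨x, a⟩ ≅ S₃`
      have ha1 : a ≠ 1 := by
        rintro rfl
        exact haB B.one_mem
      have hoa : orderOf a = 2 := orderOf_eq_prime (by rw [pow_two]; exact hA2 a ha) ha1
      have hox : orderOf x = 3 := orderOf_eq_prime hxq hx1
      obtain ⟨D, hDdef⟩ : ∃ D : Subgroup X, D = Subgroup.zpowers a ⊔ Subgroup.zpowers x := ⟨_, rfl⟩
      have haD : a ∈ D := by rw [hDdef]; exact Subgroup.mem_sup_left (Subgroup.mem_zpowers a)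
      have hxD : x ∈ D := by rw [hDdef]; exact Subgroup.mem_sup_right (Subgroup.mem_zpowers x)
      have hDM : D ≤ M := by
        rw [hDdef]
        exact sup_le (Subgroup.zpowers_le.mpr (hAM ha)) (Subgroup.zpowers_le.mpr hxM)
      have hnorm : Subgroup.zpowers a ≤ Subgroup.normalizer ((Subgroup.zpowers x : Subgroup X) : Set X) := by
        rw [Subgroup.zpowers_le]
        apply mem_normalizer_of_conj_mem
        have hle : Subgroup.zpowers x ≤ (Subgroup.zpowers x).comap (MulAut.conj a).toMonoidHom := by
          rw [Subgroup.zpowers_le, Subgroup.mem_comap]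
          show a * x * a⁻¹ ∈ _
          rw [hinv]
          exact Subgroup.inv_mem _ (Subgroup.mem_zpowers x)
        intro y hy
        exact hle hy
      have hcardD : Nat.card D = 6 := by
        have h1 := Cfsg.Agent.H1.card_sup_mul_card_inf _ _ hnorm
        have h2 : Subgroup.zpowers a ⊓ Subgroup.zpowers x = ⊥ := by
          have hpa : IsPGroup 2 ↥(Subgroup.zpowers a) :=
            IsPGroup.of_card (n := 1) (by rw [Nat.card_zpowers, hoa, pow_one])
          have hpx : IsPGroup 3 ↥(Subgroup.zpowers x) :=
            IsPGroup.of_card (n := 1) (by rw [Nat.card_zpowers, hox, pow_one])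
          haveI : Fact (Nat.Prime 3) := ⟨Nat.prime_three⟩
          exact disjoint_iff.mp (IsPGroup.disjoint_of_ne 2 3 (by norm_num) _ _ hpa hpx)
        rw [h2, Subgroup.card_bot, mul_one, Nat.card_zpowers, Nat.card_zpowers, hoa, hox, ← hDdef] at h1
        exact h1
      have hncD : ∃ s t : ↥D, s * t ≠ t * s := by
        refine ⟨⟨a, haD⟩, ⟨x, hxD⟩, ?_⟩
        intro h
        have h1 : a * x = x * a := congrArg Subtype.val h
        apply hxne
        rw [← hinv, h1, mul_inv_cancel_right]
      exact ⟨D, hDM, Cfsg.Agent.S4062.mulEquiv_perm_three hcardD hncD⟩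

end main

end Cfsg.Agent.Lib.Helper7.Sd
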