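import Mathlib

set_option autoImplicit false
set_option linter.style.haveILetI false
set_option linter.unusedSectionVars false
set_option linter.unusedVariables false

/-!
# Transitive groups of degree `p + 1` and order `(p + 1) p d`, `d < p`, with a regular normal
subgroup: group-theoretic preliminaries
-/

namespace Cfsg.Agent.Lib.Helper7.SemiAff

open MulAction

section perm

variable {G Ω : Type*} [Group G] [MulAction G Ω] [Fintype Ω] [FaithfulSMul G Ω]

/-- An element of prime order `p` fixing a point of a set with `p + 1` elements is a `p`-cycle on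
the other points. -/
theorem exists_pow_smul_eq {p : ℕ} (hp : p.Prime) (hΩ : Fintype.card Ω = p + 1) (u : G)
    (hu : orderOf u = p) (a : Ω) (hua : u • a = a) (b c : Ω) (hb : b ≠ a) (hc : c ≠ a) :
    ∃ i : ℕ, u ^ i • b = c := by
  classical
  set σ : Equiv.Perm Ω := MulAction.toPermHom G Ω u with hσ
  have hσord : orderOf σ = p := by
    rw [hσ, orderOf_injective (MulAction.toPermHom G Ω) MulAction.toPerm_injective u, hu]
  have hσp : (orderOf σ).Prime := by rw [hσord]; exact hp
  obtain ⟨n, hn⟩ := Equiv.Perm.cycleType_prime_order hσp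
  have hsum := Equiv.Perm.sum_cycleType σ
  rw [hn, Multiset.sum_replicate, hσord, smul_eq_mul] at hsum
  -- the support avoids `a`
  have hsupp : σ.support ⊆ Finset.univ.erase a := by
    intro x hx
    rw [Finset.mem_erase]
    refine ⟨?_, Finset.mem_univ _⟩
    intro hxa
    rw [Equiv.Perm.mem_support] at hx
    apply hx
    rw [hxa]
    exact hua
  have hcard : (Finset.univ.erase a : Finset Ω).card = p := by
    rw [Finset.card_erase_of_mem (Finset.mem_univ _), Finset.card_univ, hΩ]
    omega
  have hle := Finset.card_le_card hsupp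
  rw [hcard, ← hsum] at hle
  have hp0 := hp.pos
  have hn0 : n = 0 := by
    by_contra h
    have : 2 ≤ n + 1 := by omega
    nlinarith
  rw [hn0, zero_add, one_mul] at hsum
  have hsuppeq : σ.support = Finset.univ.erase a := by
    apply Finset.eq_of_subset_of_card_le hsupp
    rw [hcard, ← hsum]
  have hcyc : σ.IsCycle := by
    rw [← Equiv.Perm.card_cycleType_eq_one, hn, hn0]
    simp
  have hbs : σ b ≠ b := by
    rw [← Equiv.Perm.mem_support, hsuppeq, Finset.mem_erase]
    exact ⟨hb, Finset.mem_univ _⟩
  have hcs : σ c ≠ c := by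
    rw [← Equiv.Perm.mem_support, hsuppeq, Finset.mem_erase]
    exact ⟨hc, Finset.mem_univ _⟩
  obtain ⟨i, hi⟩ := hcyc.exists_pow_eq hbs hcs
  refine ⟨i, ?_⟩
  rw [← hi, hσ, ← map_pow]
  rfl

end perm

section basic

variable {G Ω : Type*} [Group G] [Finite G] [MulAction G Ω] [Fintype Ω] [FaithfulSMul G Ω]
  [MulAction.IsPretransitive G Ω] {p d : ℕ}

/-- The order of a point stabilizer. -/
theorem card_stabilizer (hp : p.Prime) (hΩ : Fintype.card Ω = p + 1)
    (hG : Nat.card G = (p + 1) * p * d) (a : Ω) : Nat.card (stabilizer G a) = p * d := by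
  have h1 := (stabilizer G a).card_mul_index
  rw [index_stabilizer_of_transitive G a, Nat.card_eq_fintype_card (α := Ω), hΩ, hG] at h1
  have h2 : Nat.card (stabilizer G a) * (p + 1) = (p * d) * (p + 1) := by
    rw [h1]; ring
  exact Nat.eq_of_mul_eq_mul_right (by omega) h2

theorem d_pos (hG : Nat.card G = (p + 1) * p * d) : 0 < d := by
  rcases Nat.eq_zero_or_pos d with h | h
  · rw [h, mul_zero] at hG
    have := Nat.card_pos (α := G)
    omega
  · exact h

/-- An element of order `p` in the point stabilizer. -/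
theorem exists_orderOf_eq (hp : p.Prime) (hΩ : Fintype.card Ω = p + 1)
    (hG : Nat.card G = (p + 1) * p * d) (a : Ω) : ∃ u : G, u • a = a ∧ orderOf u = p := by
  haveI : Fact p.Prime := ⟨hp⟩
  have hdvd : p ∣ Nat.card (stabilizer G a) := by
    rw [card_stabilizer hp hΩ hG a]
    exact dvd_mul_right p d
  obtain ⟨x, hx⟩ := exists_prime_orderOf_dvd_card' p hdvd
  refine ⟨(x : G), mem_stabilizer_iff.1 x.2, ?_⟩
  rw [Subgroup.orderOf_coe, hx]

/-- The subgroup of order `p` of the point stabilizer is normal in it. -/
theorem conj_mem_zpowers (hp : p.Prime) (hΩ : Fintype.card Ω = p + 1)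
    (hG : Nat.card G = (p + 1) * p * d) (hd : d < p) (a : Ω) (u : G) (hua : u • a = a)
    (hu : orderOf u = p) (h : G) (hha : h • a = a) :
    h * u * h⁻¹ ∈ Subgroup.zpowers u := by
  classical
  haveI : Fact p.Prime := ⟨hp⟩
  by_contra hnot
  set u' : G := h * u * h⁻¹ with hu'
  have hu'ord : orderOf u' = p := by
    have := MulEquiv.orderOf_eq (MulAut.conj h) u
    rw [MulAut.conj_apply] at this
    rw [hu', this, hu]
  set P : Subgroup G := Subgroup.zpowers u with hP
  set P' : Subgroup G := Subgroup.zpowers u' with hP'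
  have hPcard : Nat.card P = p := by rw [hP, Nat.card_zpowers, hu]
  have hP'card : Nat.card P' = p := by rw [hP', Nat.card_zpowers, hu'ord]
  -- the intersection is trivial
  have hinf : P ⊓ P' = ⊥ := by
    have h1 : Nat.card (P ⊓ P' : Subgroup G) ∣ p := by
      rw [← hP'card]
      exact Subgroup.card_dvd_of_le inf_le_right
    rcases (Nat.dvd_prime hp).1 h1 with h2 | h2
    · exact Subgroup.card_eq_one.mp h2
    · exfalso
      have h3 : P ⊓ P' = P' := by
        apply Subgroup.eq_of_le_of_card_ge inf_le_right
        rw [h2, hP'card]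
      apply hnot
      have : u' ∈ P ⊓ P' := by
        rw [h3, hP']
        exact Subgroup.mem_zpowers u'
      exact this.1
  -- both lie in the stabilizer
  have hPle : P ≤ stabilizer G a := by
    rw [hP, Subgroup.zpowers_le]
    exact mem_stabilizer_iff.2 hua
  have hP'le : P' ≤ stabilizer G a := by
    rw [hP', Subgroup.zpowers_le, mem_stabilizer_iff, hu', mul_smul, mul_smul]
    have : h⁻¹ • a = a := by
      conv_lhs => rw [← hha]
      rw [inv_smul_smul]
    rw [this, hua, hha]
  -- the product map is injective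
  let f : P × P' → stabilizer G a := fun x =>
    ⟨(x.1 : G) * (x.2 : G), (stabilizer G a).mul_mem (hPle x.1.2) (hP'le x.2.2)⟩
  have hf : Function.Injective f := by
    rintro ⟨x, y⟩ ⟨x', y'⟩ hxy
    have h1 : (x : G) * (y : G) = (x' : G) * (y' : G) := congrArg Subtype.val hxy
    have h2 : (x' : G)⁻¹ * (x : G) = (y' : G) * (y : G)⁻¹ := by
      have : (x : G) = (x' : G) * (y' : G) * (y : G)⁻¹ := by
        rw [← h1, mul_inv_cancel_right]
      rw [this]
      group
    have h3 : (x' : G)⁻¹ * (x : G) ∈ P ⊓ P' := by
      refine ⟨P.mul_mem (P.inv_mem x'.2) x.2, ?_⟩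
      rw [h2]
      exact P'.mul_mem y'.2 (P'.inv_mem y.2)
    rw [hinf, Subgroup.mem_bot] at h3
    have h4 : (x : G) = x' := by
      have := inv_mul_eq_one.1 h3
      exact this.symm
    have h5 : (y : G) = y' := by
      rw [h4] at h1
      exact mul_left_cancel h1
    rw [Prod.mk.injEq]
    exact ⟨Subtype.ext h4, Subtype.ext h5⟩
  have hle := Nat.card_le_card_of_injective f hf
  rw [Nat.card_prod, hPcard, hP'card, card_stabilizer hp hΩ hG a] at hle
  have : p * d < p * p := Nat.mul_lt_mul_of_pos_left hd hp.pos
  omega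

/-- The order of a two-point stabilizer. -/
theorem card_two_point (hp : p.Prime) (hΩ : Fintype.card Ω = p + 1)
    (hG : Nat.card G = (p + 1) * p * d) (a b : Ω) (hba : b ≠ a) :
    Nat.card (stabilizer G a ⊓ stabilizer G b : Subgroup G) = d := by
  classical
  haveI : Fact p.Prime := ⟨hp⟩
  obtain ⟨u, hua, hu⟩ := exists_orderOf_eq hp hΩ hG a
  set P : Subgroup G := Subgroup.zpowers u with hP
  set E : Subgroup G := stabilizer G a ⊓ stabilizer G b with hE
  have hPcard : Nat.card P = p := by rw [hP, Nat.card_zpowers, hu]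
  have hPle : P ≤ stabilizer G a := by
    rw [hP, Subgroup.zpowers_le]
    exact mem_stabilizer_iff.2 hua
  have hEle : E ≤ stabilizer G a := inf_le_left
  -- `P` acts regularly off `a`
  have hPfix : ∀ k ∈ P, k • b = b → k = 1 := by
    intro k hk hkb
    by_contra hk1
    have hkord : orderOf k = p := by
      have h1 : orderOf k ∣ p := by
        rw [← hPcard]
        have := orderOf_dvd_natCard (⟨k, hk⟩ : P)
        rwa [← Subgroup.orderOf_coe] at this
      rcases (Nat.dvd_prime hp).1 h1 with h2 | h2
      · exact absurd (orderOf_eq_one_iff.1 h2) hk1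
      · exact h2
    have hka : k • a = a := mem_stabilizer_iff.1 (hPle hk)
    -- a third point
    have h3 : 2 < Fintype.card Ω := by
      rw [hΩ]
      have := hp.two_le
      omega
    obtain ⟨c, hca, hcb⟩ : ∃ c : Ω, c ≠ a ∧ c ≠ b := by
      by_contra hcon
      push Not at hcon
      have hsub : (Finset.univ : Finset Ω) ⊆ {a, b} := by
        intro x _
        by_cases hxa : x = a
        · rw [hxa]; simp
        · rw [hcon x hxa]; simp
      have := Finset.card_le_card hsub
      rw [Finset.card_univ] at this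
      have h2 : ({a, b} : Finset Ω).card ≤ 2 := Finset.card_le_two
      omega
    obtain ⟨i, hi⟩ := exists_pow_smul_eq hp hΩ k hkord a hka b c hba hca
    have : k ^ i • b = b := by
      clear hi
      induction i with
      | zero => simp
      | succ n ih => rw [pow_succ, mul_smul, hkb, ih]
    rw [this] at hi
    exact hcb hi.symm
  let f : P × E → stabilizer G a := fun x =>
    ⟨(x.1 : G) * (x.2 : G), (stabilizer G a).mul_mem (hPle x.1.2) (hEle x.2.2)⟩
  have hf : Function.Bijective f := by
    constructor
    · rintro ⟨x, y⟩ ⟨x', y'⟩ hxy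
      have h1 : (x : G) * (y : G) = (x' : G) * (y' : G) := congrArg Subtype.val hxy
      have h2 : (x' : G)⁻¹ * (x : G) = (y' : G) * (y : G)⁻¹ := by
        have : (x : G) = (x' : G) * (y' : G) * (y : G)⁻¹ := by
          rw [← h1, mul_inv_cancel_right]
        rw [this]
        group
      have h3 : ((x' : G)⁻¹ * (x : G)) • b = b := by
        rw [h2]
        have := E.mul_mem y'.2 (E.inv_mem y.2)
        exact mem_stabilizer_iff.1 this.2
      have h4 := hPfix _ (P.mul_mem (P.inv_mem x'.2) x.2) h3
      have h5 : (x : G) = x' := (inv_mul_eq_one.1 h4).symm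
      have h6 : (y : G) = y' := by
        rw [h5] at h1
        exact mul_left_cancel h1
      rw [Prod.mk.injEq]
      exact ⟨Subtype.ext h5, Subtype.ext h6⟩
    · rintro ⟨g, hg⟩
      have hga : g • a = a := mem_stabilizer_iff.1 hg
      have hgb : g • b ≠ a := by
        intro h
        have : g • b = g • a := by rw [h, hga]
        exact hba (smul_left_cancel g this)
      obtain ⟨i, hi⟩ := exists_pow_smul_eq hp hΩ u hu a hua b (g • b) hba hgb
      have hkP : u ^ i ∈ P := Subgroup.pow_mem _ (Subgroup.mem_zpowers u) i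
      have hka : (u ^ i) • a = a := mem_stabilizer_iff.1 (hPle hkP)
      refine ⟨(⟨u ^ i, hkP⟩, ⟨(u ^ i)⁻¹ * g, ?_⟩), ?_⟩
      · have h1 : ((u ^ i)⁻¹ * g) • a = a := by
          rw [mul_smul, hga]
          conv_lhs => rw [← hka]
          rw [inv_smul_smul]
        have h2 : ((u ^ i)⁻¹ * g) • b = b := by
          rw [mul_smul, ← hi, inv_smul_smul]
        exact ⟨mem_stabilizer_iff.2 h1, mem_stabilizer_iff.2 h2⟩
      · apply Subtype.ext
        show (u ^ i) * ((u ^ i)⁻¹ * g) = g
        rw [mul_inv_cancel_left]
  have hcard := Nat.card_congr (Equiv.ofBijective f hf)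
  rw [Nat.card_prod, hPcard, card_stabilizer hp hΩ hG a] at hcard
  exact Nat.eq_of_mul_eq_mul_left hp.pos hcard

end basic

end Cfsg.Agent.Lib.Helper7.SemiAff
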