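import Mathlib
import Cfsg.Agent.Lib.Helper7.SemiAff1

set_option autoImplicit false
set_option linter.style.haveILetI false
set_option linter.unusedSectionVars false
set_option linter.unusedVariables false

/-!
# Transitive groups of degree `p + 1` and order `(p + 1) p d`, `d < p`, with a regular normal
subgroup: the regular normal subgroup is an elementary abelian 2-group
-/

namespace Cfsg.Agent.Lib.Helper7.SemiAff

open MulAction

section regular

variable {G Ω : Type*} [Group G] [MulAction G Ω] (N : Subgroup G)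
  (hNt : MulAction.IsPretransitive N Ω) (hNreg : ∀ a : Ω, MulAction.stabilizer N a = ⊥)

include hNreg in
/-- Elements of the regular subgroup are determined by the image of a point. -/
theorem eq_of_smul_eq (a : Ω) {n m : G} (hn : n ∈ N) (hm : m ∈ N) (h : n • a = m • a) : n = m := by
  have h1 : (⟨m⁻¹ * n, N.mul_mem (N.inv_mem hm) hn⟩ : N) ∈ MulAction.stabilizer N a := by
    rw [mem_stabilizer_iff]
    show (m⁻¹ * n) • a = a
    rw [mul_smul, h, inv_smul_smul]
  rw [hNreg a, Subgroup.mem_bot] at h1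
  have h2 : m⁻¹ * n = 1 := congrArg Subtype.val h1
  exact (inv_mul_eq_one.1 h2).symm

include hNt in
theorem exists_mem_smul_eq (a ω : Ω) : ∃ n ∈ N, n • a = ω := by
  obtain ⟨n, hn⟩ := hNt.exists_smul_eq a ω
  exact ⟨(n : G), n.2, hn⟩

/-- The element of the regular subgroup moving the base point to a given point. -/
noncomputable def nu (a : Ω) (hNt : MulAction.IsPretransitive N Ω) (ω : Ω) : G :=
  Classical.choose (exists_mem_smul_eq N hNt a ω)

theorem nu_mem (a ω : Ω) : nu N a hNt ω ∈ N :=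
  (Classical.choose_spec (exists_mem_smul_eq N hNt a ω)).1

theorem nu_smul (a ω : Ω) : nu N a hNt ω • a = ω :=
  (Classical.choose_spec (exists_mem_smul_eq N hNt a ω)).2

include hNreg in
theorem nu_eq (a : Ω) {n : G} (hn : n ∈ N) : nu N a hNt (n • a) = n :=
  eq_of_smul_eq N hNreg a (nu_mem N hNt a _) hn (nu_smul N hNt a _)

/-- The bijection between the points and the regular subgroup. -/
noncomputable def coordN (a : Ω) (hNt : MulAction.IsPretransitive N Ω)
    (hNreg : ∀ a : Ω, MulAction.stabilizer N a = ⊥) : Ω ≃ N where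
  toFun ω := ⟨nu N a hNt ω, nu_mem N hNt a ω⟩
  invFun n := (n : G) • a
  left_inv ω := nu_smul N hNt a ω
  right_inv n := Subtype.ext (nu_eq N hNt hNreg a n.2)

theorem coordN_apply (a ω : Ω) : ((coordN N a hNt hNreg ω : N) : G) = nu N a hNt ω := rfl

theorem coordN_symm_apply (a : Ω) (n : N) : (coordN N a hNt hNreg).symm n = (n : G) • a := rfl

include hNreg in
/-- The point stabilizer acts on the regular normal subgroup as on the points. -/
theorem nu_smul_of_fix [hNn : N.Normal] (a : Ω) {h : G} (hh : h • a = a) (ω : Ω) :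
    nu N a hNt (h • ω) = h * nu N a hNt ω * h⁻¹ := by
  have hha : h⁻¹ • a = a := by
    conv_lhs => rw [← hh]
    rw [inv_smul_smul]
  apply eq_of_smul_eq N hNreg a (nu_mem N hNt a _) (hNn.conj_mem _ (nu_mem N hNt a ω) h)
  rw [nu_smul, mul_smul, mul_smul, hha, nu_smul]

end regular

section main

variable {G Ω : Type*} [Group G] [Finite G] [MulAction G Ω] [Fintype Ω] [FaithfulSMul G Ω]
  [MulAction.IsPretransitive G Ω] {p d : ℕ}
  (N : Subgroup G) [hNn : N.Normal]
  (hNt : MulAction.IsPretransitive N Ω) (hNreg : ∀ a : Ω, MulAction.stabilizer N a = ⊥)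

include hNt hNreg in
/-- The order of the regular normal subgroup. -/
theorem card_regular (hΩ : Fintype.card Ω = p + 1) : Nat.card N = p + 1 := by
  obtain ⟨a⟩ : Nonempty Ω := by
    rw [← Fintype.card_pos_iff, hΩ]; omega
  rw [← Nat.card_congr (coordN N a hNt hNreg), Nat.card_eq_fintype_card, hΩ]

include hNt hNreg in
/-- The subgroup of order `p` of the point stabilizer permutes the nonidentity elements of the
regular normal subgroup transitively. -/
theorem exists_pow_conj_eq (hp : p.Prime) (hΩ : Fintype.card Ω = p + 1) (a : Ω) (u : G)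
    (hua : u • a = a) (hu : orderOf u = p) {n m : G} (hn : n ∈ N) (hm : m ∈ N) (hn1 : n ≠ 1)
    (hm1 : m ≠ 1) : ∃ i : ℕ, u ^ i * n * (u ^ i)⁻¹ = m := by
  have hna : n • a ≠ a := by
    intro h
    apply hn1
    exact eq_of_smul_eq N hNreg a hn N.one_mem (by rw [h, one_smul])
  have hma : m • a ≠ a := by
    intro h
    apply hm1
    exact eq_of_smul_eq N hNreg a hm N.one_mem (by rw [h, one_smul])
  obtain ⟨i, hi⟩ := exists_pow_smul_eq hp hΩ u hu a hua (n • a) (m • a) hna hma
  refine ⟨i, ?_⟩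
  have hia : (u ^ i) • a = a := by
    clear hi
    induction i with
    | zero => simp
    | succ k ih => rw [pow_succ, mul_smul, hua, ih]
  have hia' : (u ^ i)⁻¹ • a = a := by
    conv_lhs => rw [← hia]
    rw [inv_smul_smul]
  apply eq_of_smul_eq N hNreg a (hNn.conj_mem n hn (u ^ i)) hm
  rw [mul_smul, mul_smul, hia', hi]

include hNt hNreg in
/-- The regular normal subgroup has exponent two. -/
theorem mul_self_eq_one (hp : p.Prime) (hp2 : p ≠ 2) (hΩ : Fintype.card Ω = p + 1)
    (hG : Nat.card G = (p + 1) * p * d) {n : G} (hn : n ∈ N) : n * n = 1 := by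
  obtain ⟨a⟩ : Nonempty Ω := by
    rw [← Fintype.card_pos_iff, hΩ]; omega
  obtain ⟨u, hua, hu⟩ := exists_orderOf_eq hp hΩ hG a
  have hodd : Odd p := hp.odd_of_ne_two hp2
  have h2 : 2 ∣ Nat.card N := by
    rw [card_regular N hNt hNreg hΩ]
    obtain ⟨k, hk⟩ := hodd
    exact ⟨k + 1, by omega⟩
  haveI : Fact (Nat.Prime 2) := ⟨Nat.prime_two⟩
  obtain ⟨t, ht⟩ := exists_prime_orderOf_dvd_card' 2 h2
  have htG : orderOf (t : G) = 2 := by rw [Subgroup.orderOf_coe, ht]
  have ht1 : (t : G) ≠ 1 := by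
    intro h
    rw [h, orderOf_one] at htG
    omega
  have ht2 : (t : G) * (t : G) = 1 := by
    rw [← pow_two, ← htG]
    exact pow_orderOf_eq_one _
  by_cases hn1 : n = 1
  · rw [hn1, one_mul]
  · obtain ⟨i, hi⟩ := exists_pow_conj_eq N hNt hNreg hp hΩ a u hua hu t.2 hn ht1 hn1
    rw [← hi]
    calc u ^ i * (t : G) * (u ^ i)⁻¹ * (u ^ i * (t : G) * (u ^ i)⁻¹)
        = u ^ i * ((t : G) * (t : G)) * (u ^ i)⁻¹ := by group
      _ = 1 := by rw [ht2]; group

include hNt hNreg in
/-- The regular normal subgroup is commutative. -/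
theorem regular_comm (hp : p.Prime) (hp2 : p ≠ 2) (hΩ : Fintype.card Ω = p + 1)
    (hG : Nat.card G = (p + 1) * p * d) {n m : G} (hn : n ∈ N) (hm : m ∈ N) :
    n * m = m * n := by
  have h1 := mul_self_eq_one N hNt hNreg hp hp2 hΩ hG hn
  have h2 := mul_self_eq_one N hNt hNreg hp hp2 hΩ hG hm
  have h3 := mul_self_eq_one N hNt hNreg hp hp2 hΩ hG (N.mul_mem hn hm)
  have hn' : n⁻¹ = n := inv_eq_of_mul_eq_one_left h1
  have hm' : m⁻¹ = m := inv_eq_of_mul_eq_one_left h2
  have h4 : (n * m)⁻¹ = n * m := inv_eq_of_mul_eq_one_left h3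
  rw [mul_inv_rev, hn', hm'] at h4
  exact h4.symm

include hNt hNreg in
/-- The degree is a power of two with prime exponent. -/
theorem exists_prime_exponent (hp : p.Prime) (hp2 : p ≠ 2) (hΩ : Fintype.card Ω = p + 1)
    (hG : Nat.card G = (p + 1) * p * d) : ∃ q : ℕ, q.Prime ∧ p + 1 = 2 ^ q := by
  haveI : Fact (Nat.Prime 2) := ⟨Nat.prime_two⟩
  have hpg : IsPGroup 2 N := by
    intro x
    refine ⟨1, ?_⟩
    rw [pow_one, pow_two]
    apply Subtype.ext
    exact mul_self_eq_one N hNt hNreg hp hp2 hΩ hG x.2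
  obtain ⟨m, hm⟩ := IsPGroup.iff_card.1 hpg
  rw [card_regular N hNt hNreg hΩ] at hm
  have hm1 : m ≠ 1 := by
    intro h
    rw [h, pow_one] at hm
    have : p = 1 := by omega
    exact hp.ne_one this
  have hP : (2 ^ m - 1).Prime := by
    rw [← hm]
    simpa using hp
  exact ⟨m, (Nat.prime_of_pow_sub_one_prime hm1 hP).2, hm⟩

end main

end Cfsg.Agent.Lib.Helper7.SemiAff
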