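import Mathlib
import Cfsg.Agent.Lib.Helper7.SemiAff2

set_option autoImplicit false
set_option linter.style.haveILetI false
set_option linter.unusedSectionVars false
set_option linter.unusedVariables false

/-!
# Coordinates on a regular normal subgroup identified with a field
-/

namespace Cfsg.Agent.Lib.Helper7.SemiAff

open MulAction

/-- An additive bijection of a field which is semilinear up to scalars is a scalar multiple of a
field automorphism. -/
theorem exists_ringEquiv_of_semilinear {K : Type*} [Field K] (ψ : K ≃ K)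
    (hadd : ∀ x y, ψ (x + y) = ψ x + ψ y)
    (hsl : ∀ l : K, ∃ m : K, ∀ x, ψ (l * x) = m * ψ x) :
    ∃ (c : Kˣ) (φ : K ≃+* K), ∀ x, ψ x = (c : K) * φ x := by
  have h0 : ψ 0 = 0 := by
    have := hadd 0 0
    rw [add_zero] at this
    exact left_eq_add.1 this
  have hc : ψ 1 ≠ 0 := by
    intro h
    rw [← h0] at h
    exact one_ne_zero (ψ.injective h)
  have hmul : ∀ l x, ψ (l * x) = ψ l * (ψ 1)⁻¹ * ψ x := by
    intro l x
    obtain ⟨m, hm⟩ := hsl l
    have h1 := hm 1
    rw [mul_one] at h1
    rw [hm x, h1, mul_assoc m, mul_inv_cancel₀ hc, mul_one]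
  refine ⟨Units.mk0 (ψ 1) hc,
    { toFun := fun x => (ψ 1)⁻¹ * ψ x
      invFun := fun y => ψ.symm (ψ 1 * y)
      left_inv := fun x => by
        show ψ.symm (ψ 1 * ((ψ 1)⁻¹ * ψ x)) = x
        rw [← mul_assoc, mul_inv_cancel₀ hc, one_mul, Equiv.symm_apply_apply]
      right_inv := fun y => by
        show (ψ 1)⁻¹ * ψ (ψ.symm (ψ 1 * y)) = y
        rw [Equiv.apply_symm_apply, ← mul_assoc, inv_mul_cancel₀ hc, one_mul]
      map_mul' := fun x y => by
        show (ψ 1)⁻¹ * ψ (x * y) = (ψ 1)⁻¹ * ψ x * ((ψ 1)⁻¹ * ψ y)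
        rw [hmul x y]; ring
      map_add' := fun x y => by
        show (ψ 1)⁻¹ * ψ (x + y) = (ψ 1)⁻¹ * ψ x + (ψ 1)⁻¹ * ψ y
        rw [hadd, mul_add] }, fun x => ?_⟩
  show ψ x = ψ 1 * ((ψ 1)⁻¹ * ψ x)
  rw [← mul_assoc, mul_inv_cancel₀ hc, one_mul]

section coord

variable {G Ω : Type*} [Group G] [MulAction G Ω] (N : Subgroup G) [hNn : N.Normal]
  (hNt : MulAction.IsPretransitive N Ω) (hNreg : ∀ a : Ω, MulAction.stabilizer N a = ⊥)
  {K : Type*} [Field K] (e : K ≃ N) (he0 : e 0 = 1) (hadd : ∀ x y, e (x + y) = e x * e y)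

include hNreg in
theorem nu_mul (a : Ω) {n : G} (hn : n ∈ N) (ω : Ω) :
    nu N a hNt (n • ω) = n * nu N a hNt ω := by
  apply eq_of_smul_eq N hNreg a (nu_mem N hNt a _) (N.mul_mem hn (nu_mem N hNt a ω))
  rw [nu_smul, mul_smul, nu_smul]

/-- Conjugation on the regular normal subgroup in field coordinates. -/
noncomputable def psi (g : G) : K ≃ K :=
  e.trans ((MulAut.conjNormal g : MulAut N).toEquiv.trans e.symm)

theorem psi_apply (g : G) (x : K) : psi N e g x = e.symm (MulAut.conjNormal g (e x)) := rfl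

include hadd in
theorem symm_mul (n m : N) : e.symm (n * m) = e.symm n + e.symm m := by
  apply e.injective
  rw [hadd, Equiv.apply_symm_apply, Equiv.apply_symm_apply, Equiv.apply_symm_apply]

include hadd in
theorem psi_add (g : G) (x y : K) : psi N e g (x + y) = psi N e g x + psi N e g y := by
  rw [psi_apply, psi_apply, psi_apply, hadd, map_mul, symm_mul N e hadd]

include he0 in
theorem psi_zero (g : G) : psi N e g 0 = 0 := by
  rw [psi_apply, he0, map_one, ← he0, Equiv.symm_apply_apply]

theorem psi_mul (g h : G) (x : K) : psi N e (g * h) x = psi N e g (psi N e h x) := by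
  rw [psi_apply, psi_apply, psi_apply, Equiv.apply_symm_apply, map_mul, MulAut.mul_apply]

theorem psi_one (x : K) : psi N e (1 : G) x = x := by
  rw [psi_apply, map_one, MulAut.one_apply, Equiv.symm_apply_apply]

/-- The field coordinate on the points. -/
noncomputable def coordK (a : Ω) (hNt : MulAction.IsPretransitive N Ω)
    (hNreg : ∀ a : Ω, MulAction.stabilizer N a = ⊥) (e : K ≃ N) : Ω ≃ K :=
  (coordN N a hNt hNreg).trans e.symm

theorem coordK_symm_apply (a : Ω) (x : K) :
    (coordK N a hNt hNreg e).symm x = ((e x : N) : G) • a := rfl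

theorem coordK_apply (a ω : Ω) :
    coordK N a hNt hNreg e ω = e.symm ⟨nu N a hNt ω, nu_mem N hNt a ω⟩ := rfl

include hadd in
/-- The action of the whole group in field coordinates. -/
theorem coordK_smul (a : Ω) (g : G) (x : K) :
    coordK N a hNt hNreg e (g • (coordK N a hNt hNreg e).symm x) =
      psi N e ((nu N a hNt (g • a))⁻¹ * g) x +
        e.symm ⟨nu N a hNt (g • a), nu_mem N hNt a (g • a)⟩ := by
  set n := nu N a hNt (g • a) with hn
  have hnN : n ∈ N := nu_mem N hNt a (g • a)
  have hha : (n⁻¹ * g) • a = a := by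
    rw [mul_smul, inv_smul_eq_iff, hn, nu_smul]
  have h1 : g • (coordK N a hNt hNreg e).symm x = n • (n⁻¹ * g) • ((e x : N) : G) • a := by
    rw [coordK_symm_apply, ← mul_smul n, mul_inv_cancel_left]
  have h2 : nu N a hNt (g • (coordK N a hNt hNreg e).symm x) =
      n * ((n⁻¹ * g) * ((e x : N) : G) * (n⁻¹ * g)⁻¹) := by
    rw [h1, nu_mul N hNt hNreg a hnN, nu_smul_of_fix N hNt hNreg a hha,
      nu_eq N hNt hNreg a (e x).2]
  have h3 : (⟨nu N a hNt (g • (coordK N a hNt hNreg e).symm x), nu_mem N hNt a _⟩ : N) =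
      ⟨n, hnN⟩ * MulAut.conjNormal (n⁻¹ * g) (e x) := by
    apply Subtype.ext
    rw [Subgroup.coe_mul, MulAut.conjNormal_apply]
    exact h2
  rw [coordK_apply, h3, symm_mul N e hadd, psi_apply, add_comm]

include he0 hadd in
/-- Elements normalizing a cyclic group acting by scalars act semilinearly. -/
theorem psi_semilinear (u : G) (v₀ : N)
    (hu_conj : ∀ i : ℕ, ∀ x, MulAut.conjNormal (u ^ i) (e x) =
      e (e.symm (MulAut.conjNormal (u ^ i) v₀) * x))
    (hu_trans : ∀ n : N, n ≠ 1 → ∃ i : ℕ, MulAut.conjNormal (u ^ i) v₀ = n)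
    (h : G) (hh : ∀ i : ℕ, ∃ j : ℕ, h * u ^ i * h⁻¹ = u ^ j) (l : K) :
    ∃ m : K, ∀ x, psi N e h (l * x) = m * psi N e h x := by
  by_cases hl : l = 0
  · refine ⟨0, fun x => ?_⟩
    rw [hl, zero_mul, zero_mul, psi_zero N e he0]
  · have hel : e l ≠ 1 := by
      intro h1
      rw [← he0] at h1
      exact hl (e.injective h1)
    obtain ⟨i, hi⟩ := hu_trans (e l) hel
    obtain ⟨j, hj⟩ := hh i
    refine ⟨e.symm (MulAut.conjNormal (u ^ j) v₀), fun x => ?_⟩
    have h1 : e (l * x) = MulAut.conjNormal (u ^ i) (e x) := by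
      rw [hu_conj i x, hi, Equiv.symm_apply_apply]
    have h2 : h * u ^ i = u ^ j * h := by
      rw [← hj]; group
    rw [psi_apply, h1, ← MulAut.mul_apply, ← map_mul, h2, map_mul, MulAut.mul_apply]
    have h3 : MulAut.conjNormal h (e x) = e (psi N e h x) := by
      rw [psi_apply, Equiv.apply_symm_apply]
    rw [h3, hu_conj j, Equiv.symm_apply_apply]

include hNt hNreg in
/-- An element fixing two points centralizes the corresponding element of the regular subgroup. -/
theorem conj_eq_of_fix (a : Ω) (v₀ : N) {h : G} (hha : h • a = a)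
    (hhb : h • ((v₀ : G) • a) = (v₀ : G) • a) : MulAut.conjNormal h v₀ = v₀ := by
  apply Subtype.ext
  rw [MulAut.conjNormal_apply]
  have h1 := nu_smul_of_fix N hNt hNreg a hha ((v₀ : G) • a)
  rw [hhb, nu_eq N hNt hNreg a v₀.2] at h1
  exact h1.symm

include hNt hNreg he0 hadd in
/-- The two-point stabilizer embeds into the automorphism group of the field. -/
theorem exists_injective_hom [FaithfulSMul G Ω] (a : Ω) (v₀ : N) (he1 : e 1 = v₀)
    (hsl : ∀ h : G, h • a = a → ∀ l : K, ∃ m : K, ∀ x, psi N e h (l * x) = m * psi N e h x) :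
    ∃ f : ↥(stabilizer G a ⊓ stabilizer G ((v₀ : G) • a)) →* RingAut K,
      Function.Injective f := by
  have hfix : ∀ h : ↥(stabilizer G a ⊓ stabilizer G ((v₀ : G) • a)),
      (h : G) • a = a ∧ (h : G) • ((v₀ : G) • a) = (v₀ : G) • a := by
    intro h
    have := h.2
    rw [Subgroup.mem_inf, mem_stabilizer_iff, mem_stabilizer_iff] at this
    exact this
  have hone : ∀ h : ↥(stabilizer G a ⊓ stabilizer G ((v₀ : G) • a)),
      psi N e (h : G) 1 = 1 := by
    intro h
    rw [psi_apply, he1, conj_eq_of_fix N hNt hNreg a v₀ (hfix h).1 (hfix h).2, ← he1,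
      Equiv.symm_apply_apply]
  have hmul : ∀ h : ↥(stabilizer G a ⊓ stabilizer G ((v₀ : G) • a)), ∀ l x : K,
      psi N e (h : G) (l * x) = psi N e (h : G) l * psi N e (h : G) x := by
    intro h l x
    obtain ⟨m, hm⟩ := hsl (h : G) (hfix h).1 l
    have h1 := hm 1
    rw [mul_one, hone h, mul_one] at h1
    rw [hm x, h1]
  refine ⟨{ toFun := fun h =>
              { toFun := psi N e (h : G)
                invFun := (psi N e (h : G)).symm
                left_inv := (psi N e (h : G)).left_inv
                right_inv := (psi N e (h : G)).right_inv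
                map_mul' := hmul h
                map_add' := psi_add N e hadd (h : G) }
            map_one' := by
              apply RingEquiv.ext
              intro x
              exact psi_one N e x
            map_mul' := by
              intro h k
              apply RingEquiv.ext
              intro x
              exact psi_mul N e (h : G) (k : G) x }, ?_⟩
  intro h k hhk
  have h1 : ∀ x : K, psi N e (h : G) x = psi N e (k : G) x := by
    intro x
    exact congrArg (fun f : RingAut K => f x) hhk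
  have h2 : ∀ n : N, (h : G) * (n : G) * (h : G)⁻¹ = (k : G) * (n : G) * (k : G)⁻¹ := by
    intro n
    have h3 := h1 (e.symm n)
    rw [psi_apply, psi_apply, Equiv.apply_symm_apply] at h3
    have h4 := congrArg Subtype.val (e.symm.injective h3)
    rw [MulAut.conjNormal_apply, MulAut.conjNormal_apply] at h4
    exact h4
  apply Subtype.ext
  apply FaithfulSMul.eq_of_smul_eq_smul (α := Ω)
  intro ω
  have h5 : ∀ g : G, g • a = a → g • ω = (g * nu N a hNt ω * g⁻¹) • a := by
    intro g hg
    have hg' : g⁻¹ • a = a := by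
      conv_lhs => rw [← hg]
      rw [inv_smul_smul]
    rw [mul_smul, mul_smul, hg', nu_smul]
  rw [h5 _ (hfix h).1, h5 _ (hfix k).1, h2 ⟨nu N a hNt ω, nu_mem N hNt a ω⟩]

end coord

end Cfsg.Agent.Lib.Helper7.SemiAff
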