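import Mathlib
import Cfsg.Prelude.Def_Perm
import Cfsg.Agent.Lib.Helper7.SemiAff3
import Cfsg.Agent.Lib.Helper5.Zass3.Field

set_option autoImplicit false
set_option linter.style.haveILetI false
set_option linter.unusedSectionVars false
set_option linter.unusedVariables false

/-!
# Transitive groups of degree `p + 1` and order `(p + 1) p d`, `d < p`, with a regular normal
subgroup are semi-affine groups of a field with `2 ^ q` elements
-/

namespace Cfsg.Agent.Lib.Helper7.SemiAff

open MulAction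

/-- The automorphism group of the field with `2 ^ q` elements has order `q`. -/
theorem card_ringAut_galoisField (q : ℕ) (hq : q ≠ 0) :
    Nat.card (RingAut (GaloisField 2 q)) = q := by
  have e : RingAut (GaloisField 2 q) ≃ (GaloisField 2 q ≃ₐ[ZMod 2] GaloisField 2 q) :=
    { toFun := fun f => AlgEquiv.ofRingEquiv (f := f) (fun x => by
        have := RingHom.ext_zmod
          ((f : GaloisField 2 q →+* GaloisField 2 q).comp
            (algebraMap (ZMod 2) (GaloisField 2 q)))
          (algebraMap (ZMod 2) (GaloisField 2 q))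
        exact congrArg (fun g : ZMod 2 →+* GaloisField 2 q => g x) this)
      invFun := fun f => f.toRingEquiv
      left_inv := fun f => by ext x; rfl
      right_inv := fun f => by ext x; rfl }
  rw [Nat.card_congr e, IsGalois.card_aut_eq_finrank, GaloisField.finrank 2 hq]

/-- **Lemma (L6).** A transitive group of degree `p + 1` and order `(p + 1) p d` with `d < p`,
`p` an odd prime, having a regular normal subgroup, is a group of semi-affine maps of the field
with `2 ^ q = p + 1` elements, and `d ∈ {1, q}`. -/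
theorem semiaffine_of_regular {G Ω : Type*} [Group G] [Finite G] [MulAction G Ω] [Fintype Ω]
    [FaithfulSMul G Ω] [MulAction.IsPretransitive G Ω] {p d : ℕ} (hp : p.Prime) (hp2 : p ≠ 2)
    (hΩ : Fintype.card Ω = p + 1) (hG : Nat.card G = (p + 1) * p * d) (hd : d < p)
    (N : Subgroup G) [N.Normal] (hNt : MulAction.IsPretransitive N Ω)
    (hNreg : ∀ a : Ω, MulAction.stabilizer N a = ⊥) :
    ∃ q : ℕ, q.Prime ∧ p + 1 = 2 ^ q ∧ (d = 1 ∨ d = q) ∧ ∃ e : Ω ≃ GaloisField 2 q,
      ∀ g : G, ∃ σ ∈ Cfsg.semiaffineGroup (GaloisField 2 q), ∀ x, σ x = e (g • e.symm x) := by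
  classical
  obtain ⟨a⟩ : Nonempty Ω := by
    rw [← Fintype.card_pos_iff, hΩ]; omega
  obtain ⟨u, hua, hu⟩ := exists_orderOf_eq hp hΩ hG a
  obtain ⟨q, hq, hpq⟩ := exists_prime_exponent N hNt hNreg hp hp2 hΩ hG
  have hNcard : Nat.card N = p + 1 := card_regular N hNt hNreg hΩ
  -- a nontrivial element
  have hnt : ∃ v₀ : N, v₀ ≠ 1 := by
    by_contra hcon
    push Not at hcon
    have hsub : Subsingleton N := ⟨fun x y => by rw [hcon x, hcon y]⟩
    have h1 : Nat.card N ≤ 1 := Finite.card_le_one_iff_subsingleton.2 hsub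
    have := hp.pos
    omega
  obtain ⟨v₀, hv₀⟩ := hnt
  -- the setup for the field structure
  have hV : ∀ x y : N, x * y = y * x := fun x y =>
    Subtype.ext (regular_comm N hNt hNreg hp hp2 hΩ hG x.2 y.2)
  have hV2 : ∀ x : N, x ^ 2 = 1 := fun x => by
    rw [pow_two]
    exact Subtype.ext (mul_self_eq_one N hNt hNreg hp hp2 hΩ hG x.2)
  set S : Set (MulAut N) := Set.range (fun i : ℕ => (MulAut.conjNormal (u ^ i) : MulAut N))
    with hS
  have hcomm : ∀ s ∈ S, ∀ t ∈ S, s * t = t * s := by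
    rintro _ ⟨i, rfl⟩ _ ⟨j, rfl⟩
    show (MulAut.conjNormal (u ^ i) : MulAut N) * MulAut.conjNormal (u ^ j) =
      MulAut.conjNormal (u ^ j) * MulAut.conjNormal (u ^ i)
    rw [← map_mul, ← map_mul, ← pow_add, ← pow_add, add_comm]
  have htrans' : ∀ w n : N, w ≠ 1 → n ≠ 1 → ∃ i : ℕ, MulAut.conjNormal (u ^ i) w = n := by
    intro w n hw hn
    obtain ⟨i, hi⟩ := exists_pow_conj_eq N hNt hNreg hp hΩ a u hua hu w.2 n.2
      (fun h => hw (Subtype.ext h)) (fun h => hn (Subtype.ext h))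
    exact ⟨i, Subtype.ext (by rw [MulAut.conjNormal_apply]; exact hi)⟩
  have htrans : ∀ n : N, n ≠ 1 → ∃ i : ℕ, MulAut.conjNormal (u ^ i) v₀ = n :=
    fun n hn => htrans' v₀ n hv₀ hn
  have hirr : ∀ W : Subgroup N, (∀ s ∈ S, ∀ w ∈ W, s w ∈ W) → W = ⊥ ∨ W = ⊤ := by
    intro W hW
    by_cases hWb : W = ⊥
    · left; exact hWb
    · right
      obtain ⟨⟨w, hwW⟩, hw1⟩ := (Subgroup.ne_bot_iff_exists_ne_one).1 hWb
      rw [eq_top_iff]
      intro n _
      by_cases hn : n = 1
      · rw [hn]; exact W.one_mem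
      · obtain ⟨i, hi⟩ := htrans' w n (fun h => hw1 (Subtype.ext h)) hn
        rw [← hi]
        exact hW _ ⟨i, rfl⟩ w hwW
  obtain ⟨a', F, instF, instFt, e, ha', hFcard, hNc, he0, he1, hadd, hSe⟩ :=
    Cfsg.Agent.Lib.Helper5.Zass3.exists_field hV Nat.prime_two hV2 S hcomm hirr v₀ hv₀
  have haq : a' = q := by
    have h1 : 2 ^ a' = 2 ^ q := by rw [← hNc, hNcard, hpq]
    exact Nat.pow_right_injective (le_refl 2) h1
  subst haq
  -- transport to the Galois field
  letI : Fintype (GaloisField 2 a') := Fintype.ofFinite _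
  have hcardK : Fintype.card F = Fintype.card (GaloisField 2 a') := by
    rw [hFcard, ← Nat.card_eq_fintype_card, GaloisField.card 2 a' hq.ne_zero]
  let ρ : F ≃+* GaloisField 2 a' := FiniteField.ringEquivOfCardEq hcardK
  let e' : GaloisField 2 a' ≃ N := ρ.symm.toEquiv.trans e
  have he'0 : e' 0 = 1 := by
    show e (ρ.symm 0) = 1
    rw [map_zero, he0]
  have he'1 : e' 1 = v₀ := by
    show e (ρ.symm 1) = v₀
    rw [map_one, he1]
  have hadd' : ∀ x y, e' (x + y) = e' x * e' y := by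
    intro x y
    show e (ρ.symm (x + y)) = e (ρ.symm x) * e (ρ.symm y)
    rw [map_add, hadd]
  have hconj' : ∀ i : ℕ, ∀ x, MulAut.conjNormal (u ^ i) (e' x) =
      e' (e'.symm (MulAut.conjNormal (u ^ i) v₀) * x) := by
    intro i x
    show MulAut.conjNormal (u ^ i) (e (ρ.symm x)) =
      e (ρ.symm (ρ (e.symm (MulAut.conjNormal (u ^ i) v₀)) * x))
    rw [map_mul, RingEquiv.symm_apply_apply]
    exact hSe _ ⟨i, rfl⟩ (ρ.symm x)
  -- the point stabilizer normalizes `⟨u⟩`
  have hnorm : ∀ h : G, h • a = a → ∀ i : ℕ, ∃ j : ℕ, h * u ^ i * h⁻¹ = u ^ j := by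
    intro h hh i
    have h1 := conj_mem_zpowers hp hΩ hG hd a u hua hu h hh
    have h2 : h * u ^ i * h⁻¹ = (h * u * h⁻¹) ^ i := (conj_pow (a := h) (b := u) (i := i)).symm
    have h3 : (h * u * h⁻¹) ^ i ∈ Subgroup.zpowers u := Subgroup.pow_mem _ h1 i
    rw [h2]
    obtain ⟨j, hj⟩ := (mem_powers_iff_mem_zpowers (x := u) (y := (h * u * h⁻¹) ^ i)).2 h3
    exact ⟨j, hj.symm⟩
  have hsl : ∀ h : G, h • a = a → ∀ l, ∃ m, ∀ x,
      psi N e' h (l * x) = m * psi N e' h x :=
    fun h hh l => psi_semilinear N e' he'0 hadd' u v₀ hconj' htrans h (hnorm h hh) l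
  refine ⟨a', hq, hpq, ?_, coordK N a hNt hNreg e', ?_⟩
  · -- `d = 1` or `d = q`
    obtain ⟨f, hf⟩ := exists_injective_hom N hNt hNreg e' he'0 hadd' a v₀ he'1 hsl
    have hba : (v₀ : G) • a ≠ a := by
      intro h
      apply hv₀
      have h' : (v₀ : G) = 1 :=
        eq_of_smul_eq N hNreg a v₀.2 N.one_mem (by rw [one_smul]; exact h)
      exact Subtype.ext h'
    have h1 := Subgroup.card_dvd_of_injective f hf
    rw [card_two_point hp hΩ hG a _ hba, card_ringAut_galoisField a' hq.ne_zero] at h1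
    exact (Nat.dvd_prime hq).1 h1
  · intro g
    have hha : ((nu N a hNt (g • a))⁻¹ * g) • a = a := by
      rw [mul_smul, inv_smul_eq_iff, nu_smul]
    obtain ⟨c, φ, hφ⟩ := exists_ringEquiv_of_semilinear (psi N e' ((nu N a hNt (g • a))⁻¹ * g))
      (psi_add N e' hadd' _) (hsl _ hha)
    refine ⟨(coordK N a hNt hNreg e').symm.trans
      ((MulAction.toPerm g).trans (coordK N a hNt hNreg e')),
      ⟨c, e'.symm ⟨nu N a hNt (g • a), nu_mem N hNt a (g • a)⟩, φ, fun x => ?_⟩, fun x => rfl⟩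
    show coordK N a hNt hNreg e' (g • (coordK N a hNt hNreg e').symm x) = _
    rw [coordK_smul N hNt hNreg e' hadd' a g x, hφ]

end Cfsg.Agent.Lib.Helper7.SemiAff
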