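import Mathlib
import Cfsg.Prelude.Def_AlmostLie
import Cfsg.Prelude.Def_Transfer

set_option autoImplicit false

namespace Cfsg.Agent.Lib.Helper7

open Cfsg
open scoped commutatorElement

variable {X : Type*} [Group X]

/-- In a group with central derived subgroup, `y ↦ [x, y]` is a homomorphism. -/
def commHom (x : X) (hc : commutator X ≤ Subgroup.center X) : X →* X :=
  MonoidHom.mk' (fun y => x * y * x⁻¹ * y⁻¹) (by
    intro a b
    have hb : x * b * x⁻¹ * b⁻¹ ∈ Subgroup.center X := by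
      apply hc
      have : x * b * x⁻¹ * b⁻¹ = ⁅x, b⁆ := by rw [commutatorElement_def]
      rw [this]
      exact Subgroup.commutator_mem_commutator (Subgroup.mem_top x) (Subgroup.mem_top b)
    have hcomm := Subgroup.mem_center_iff.mp hb a⁻¹
    calc x * (a * b) * x⁻¹ * (a * b)⁻¹ = x * a * x⁻¹ * ((x * b * x⁻¹ * b⁻¹) * a⁻¹) := by group
      _ = x * a * x⁻¹ * (a⁻¹ * (x * b * x⁻¹ * b⁻¹)) := by rw [hcomm]
      _ = x * a * x⁻¹ * a⁻¹ * (x * b * x⁻¹ * b⁻¹) := by group)

theorem commHom_apply (x : X) (hc : commutator X ≤ Subgroup.center X) (y : X) :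
    commHom x hc y = x * y * x⁻¹ * y⁻¹ := rfl

theorem commHom_ker (x : X) (hc : commutator X ≤ Subgroup.center X) :
    (commHom x hc).ker = Subgroup.centralizer ({x} : Set X) := by
  ext y
  rw [MonoidHom.mem_ker, commHom_apply, Subgroup.mem_centralizer_iff]
  constructor
  · intro h z hz
    rw [Set.mem_singleton_iff] at hz
    subst hz
    have : z * y = (z * y * z⁻¹ * y⁻¹) * (y * z) := by group
    rw [this, h, one_mul]
  · intro h
    have := h x rfl
    calc x * y * x⁻¹ * y⁻¹ = (x * y) * x⁻¹ * y⁻¹ := by group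
      _ = (y * x) * x⁻¹ * y⁻¹ := by rw [this]
      _ = 1 := by group

theorem commHom_range_le (x : X) (hc : commutator X ≤ Subgroup.center X) :
    (commHom x hc).range ≤ Subgroup.center X := by
  rintro _ ⟨y, rfl⟩
  apply hc
  rw [commHom_apply]
  have : x * y * x⁻¹ * y⁻¹ = ⁅x, y⁆ := by rw [commutatorElement_def]
  rw [this]
  exact Subgroup.commutator_mem_commutator (Subgroup.mem_top x) (Subgroup.mem_top y)

theorem semiExtraspecial_commHom_range [Finite X] {p : ℕ} [Fact p.Prime] (hX : IsSemiExtraspecial p X)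
    (x : X) (hx : x ∉ Subgroup.center X) (hc : commutator X ≤ Subgroup.center X) :
    (commHom x hc).range = Subgroup.center X := by
  have hp : p.Prime := Fact.out
  by_contra hne
  have hlt : (commHom x hc).range < Subgroup.center X := lt_of_le_of_ne (commHom_range_le x hc) hne
  set Z := Subgroup.center X with hZ
  set I := (commHom x hc).range with hI
  have hIZ : I.subgroupOf Z ≠ ⊤ := by
    intro h
    rw [Subgroup.subgroupOf_eq_top] at h
    exact hlt.not_ge h
  obtain ⟨K, hK, hIK⟩ := (eq_top_or_exists_le_coatom (I.subgroupOf Z)).resolve_left hIZ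
  set Y := K.map Z.subtype with hY
  have hYZ : Y ≤ Z := Subgroup.map_subtype_le K
  have hYK : Y.subgroupOf Z = K := by
    rw [hY]
    exact Subgroup.comap_map_eq_self_of_injective Z.subtype_injective K
  have hIY : I ≤ Y := by
    intro z hz
    have hzZ : z ∈ Z := hlt.le hz
    have : (⟨z, hzZ⟩ : ↥Z) ∈ K := hIK (Subgroup.mem_subgroupOf.mpr hz)
    exact ⟨⟨z, hzZ⟩, this, rfl⟩
  obtain ⟨hYn, hES⟩ := hX.2 Y hYZ (hYK ▸ hK)
  haveI := hYn
  have hcard : Nat.card ↥(Subgroup.center (X ⧸ Y)) = p := hES.2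
  -- the image of the centre
  set A := Z.map (QuotientGroup.mk' Y) with hA
  have hAB : A ≤ Subgroup.center (X ⧸ Y) := by
    rintro _ ⟨z, hz, rfl⟩
    rw [Subgroup.mem_center_iff]
    intro q
    obtain ⟨y, rfl⟩ := QuotientGroup.mk_surjective q
    show (QuotientGroup.mk' Y) y * (QuotientGroup.mk' Y) z = (QuotientGroup.mk' Y) z * (QuotientGroup.mk' Y) y
    rw [← map_mul, ← map_mul, Subgroup.mem_center_iff.mp hz y]
  have hA1 : A ≠ ⊥ := by
    intro h
    -- then Z ≤ Y, so K = ⊤
    have hZY : Z ≤ Y := by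
      intro z hz
      have : (QuotientGroup.mk' Y) z ∈ A := ⟨z, hz, rfl⟩
      rw [h, Subgroup.mem_bot] at this
      exact (QuotientGroup.eq_one_iff z).mp this
    have : K = ⊤ := by
      rw [← hYK, Subgroup.subgroupOf_eq_top]
      exact hZY
    exact hK.1 this
  have hAeq : A = Subgroup.center (X ⧸ Y) := by
    have hdvd : Nat.card ↥A ∣ p := hcard ▸ Subgroup.card_dvd_of_le hAB
    have hne1 : Nat.card ↥A ≠ 1 := by
      intro h
      exact hA1 (Subgroup.card_eq_one.mp h)
    have hAp : Nat.card ↥A = p := by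
      rcases (Nat.dvd_prime hp).mp hdvd with h | h
      · exact absurd h hne1
      · exact h
    exact Subgroup.eq_of_le_of_card_ge hAB (by rw [hcard, hAp])
  -- x maps into the centre of X ⧸ Y
  have hxc : (QuotientGroup.mk' Y) x ∈ Subgroup.center (X ⧸ Y) := by
    rw [Subgroup.mem_center_iff]
    intro q
    obtain ⟨y, rfl⟩ := QuotientGroup.mk_surjective q
    show (QuotientGroup.mk' Y) y * (QuotientGroup.mk' Y) x = (QuotientGroup.mk' Y) x * (QuotientGroup.mk' Y) y
    rw [← map_mul, ← map_mul]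
    symm
    show (QuotientGroup.mk (x * y) : X ⧸ Y) = QuotientGroup.mk (y * x)
    rw [QuotientGroup.eq]
    have h1 : x * y * x⁻¹ * y⁻¹ ∈ Y := hIY ⟨y, rfl⟩
    have h2 := hYn.conj_mem _ (Subgroup.inv_mem _ h1) (x * y)⁻¹
    have e : (x * y)⁻¹ * (x * y * x⁻¹ * y⁻¹)⁻¹ * (x * y)⁻¹⁻¹ = (x * y)⁻¹ * (y * x) := by group
    rw [e] at h2
    exact h2
  rw [← hAeq] at hxc
  obtain ⟨z, hz, hzx⟩ := hxc
  have h3 : z⁻¹ * x ∈ Y := by
    rw [← QuotientGroup.eq]
    exact hzx
  apply hx
  have : x = z * (z⁻¹ * x) := by group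
  rw [this]
  exact Subgroup.mul_mem _ hz (hYZ h3)

theorem semiExtraspecial_centralizer_index [Finite X] {p : ℕ} [Fact p.Prime]
    (hX : IsSemiExtraspecial p X) (x : X) (hx : x ∉ Subgroup.center X) :
    (Subgroup.centralizer ({x} : Set X)).index = Nat.card ↥(Subgroup.center X) ∧
      {z : X | ∃ y : X, z = x * y * x⁻¹ * y⁻¹} = (Subgroup.center X : Set X) := by
  have hc : commutator X ≤ Subgroup.center X := hX.1.2.2.le
  have hr := semiExtraspecial_commHom_range hX x hx hc
  constructor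
  · rw [← commHom_ker x hc, Subgroup.index_ker, hr]
  · rw [← hr]
    ext z
    constructor
    · rintro ⟨y, rfl⟩
      exact ⟨y, rfl⟩
    · rintro ⟨y, rfl⟩
      exact ⟨y, rfl⟩

end Cfsg.Agent.Lib.Helper7
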