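import Mathlib
import Cfsg.Prelude.Def_RootSubgroups
import Cfsg.Agent.Lib.Helper8.RootClassB

/-!
# Abstract root systems with three kinds of pairs (helper7)

A family `A : P → Subgroup H` of abelian subgroups, closed under conjugation, such that any two
members commute, or form a rank one pair which is an image of `SL₂(L)`, or are in the commutator
case, is a set of abstract `L`-root subgroups.
-/

set_option autoImplicit false

namespace Cfsg.Agent.Lib.Helper7.Siegel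

open Cfsg Cfsg.Agent.H2.RankOne Cfsg.Agent.H2.RootSub Cfsg.Agent.Lib.Helper8.RootClass
open scoped commutatorElement

variable {H : Type*} [Group H]

/-- a criterion for the commutator case -/
lemma commutatorCase_of {S : Set (Subgroup H)} {A B C : Subgroup H} (hC : C ∈ S) (hA : A ≠ ⊥)
    (h1 : ∀ x ∈ A, ∀ y ∈ B, x * y * x⁻¹ * y⁻¹ ∈ C)
    (h2 : ∀ z ∈ C, ∀ x ∈ A, z * x = x * z)
    (h3 : ∀ z ∈ C, ∀ y ∈ B, z * y = y * z)
    (h4 : ∀ x ∈ A, x ≠ 1 → ∀ z ∈ C, ∃ y ∈ B, x * y * x⁻¹ * y⁻¹ = z)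
    (h5 : ∀ y ∈ B, y ≠ 1 → ∀ z ∈ C, ∃ x ∈ A, x * y * x⁻¹ * y⁻¹ = z) :
    RootCommutatorCase S A B := by
  have hcomm : ⁅A, B⁆ = C := by
    apply le_antisymm
    · rw [Subgroup.commutator_le]
      intro a ha b hb
      rw [commutatorElement_def]
      exact h1 a ha b hb
    · intro z hz
      obtain ⟨⟨a, ha⟩, ha1⟩ := (Subgroup.ne_bot_iff_exists_ne_one).1 hA
      have ha1' : a ≠ 1 := fun e => ha1 (Subtype.ext e)
      obtain ⟨y, hy, e⟩ := h4 a ha ha1' z hz
      rw [← e, ← commutatorElement_def]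
      exact Subgroup.commutator_mem_commutator ha hy
  refine ⟨by rw [hcomm]; exact hC, ?_, ?_, ?_⟩
  · rw [hcomm]
    intro c hc x hx
    have hle : A ⊔ B ≤ Subgroup.centralizer (C : Set H) := by
      apply sup_le
      · intro a ha
        rw [Subgroup.mem_centralizer_iff]
        intro z hz
        exact h2 z hz a ha
      · intro b hb
        rw [Subgroup.mem_centralizer_iff]
        intro z hz
        exact h3 z hz b hb
    have := hle hx
    rw [Subgroup.mem_centralizer_iff] at this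
    exact this c hc
  · intro a ha ha1
    rw [hcomm]
    apply le_antisymm
    · rw [Subgroup.closure_le]
      rintro _ ⟨b, hb, rfl⟩
      exact h1 a ha b hb
    · intro z hz
      obtain ⟨y, hy, e⟩ := h4 a ha ha1 z hz
      exact Subgroup.subset_closure ⟨y, hy, e⟩
  · intro b hb hb1
    rw [hcomm]
    apply le_antisymm
    · rw [Subgroup.closure_le]
      rintro _ ⟨a, ha, rfl⟩
      exact h1 a ha b hb
    · intro z hz
      obtain ⟨x, hx, e⟩ := h5 b hb hb1 z hz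
      exact Subgroup.subset_closure ⟨x, hx, e⟩

/-- the same through an injective homomorphism -/
lemma commutatorCase_of_map {K : Type*} [Group K] (ψ : H →* K) (hψ : Function.Injective ψ)
    {S : Set (Subgroup H)} {A B C : Subgroup H} (hC : C ∈ S) (hA : A ≠ ⊥)
    (h1 : ∀ x ∈ A.map ψ, ∀ y ∈ B.map ψ, x * y * x⁻¹ * y⁻¹ ∈ C.map ψ)
    (h2 : ∀ z ∈ C.map ψ, ∀ x ∈ A.map ψ, z * x = x * z)
    (h3 : ∀ z ∈ C.map ψ, ∀ y ∈ B.map ψ, z * y = y * z)
    (h4 : ∀ x ∈ A.map ψ, x ≠ 1 → ∀ z ∈ C.map ψ, ∃ y ∈ B.map ψ, x * y * x⁻¹ * y⁻¹ = z)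
    (h5 : ∀ y ∈ B.map ψ, y ≠ 1 → ∀ z ∈ C.map ψ, ∃ x ∈ A.map ψ, x * y * x⁻¹ * y⁻¹ = z) :
    RootCommutatorCase S A B := by
  have hne : ∀ x : H, x ≠ 1 → ψ x ≠ 1 := fun x hx e => hx (hψ (by rw [e, map_one]))
  apply commutatorCase_of hC hA
  · intro x hx y hy
    obtain ⟨c, hc, e⟩ := h1 (ψ x) ⟨x, hx, rfl⟩ (ψ y) ⟨y, hy, rfl⟩
    have : c = x * y * x⁻¹ * y⁻¹ := hψ (by rw [e]; simp)
    rw [← this]; exact hc
  · intro z hz x hx
    apply hψ
    rw [map_mul, map_mul]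
    exact h2 (ψ z) ⟨z, hz, rfl⟩ (ψ x) ⟨x, hx, rfl⟩
  · intro z hz y hy
    apply hψ
    rw [map_mul, map_mul]
    exact h3 (ψ z) ⟨z, hz, rfl⟩ (ψ y) ⟨y, hy, rfl⟩
  · intro x hx hx1 z hz
    obtain ⟨_, ⟨y, hy, rfl⟩, e⟩ := h4 (ψ x) ⟨x, hx, rfl⟩ (hne x hx1) (ψ z) ⟨z, hz, rfl⟩
    exact ⟨y, hy, hψ (by rw [← e]; simp)⟩
  · intro y hy hy1 z hz
    obtain ⟨_, ⟨x, hx, rfl⟩, e⟩ := h5 (ψ y) ⟨y, hy, rfl⟩ (hne y hy1) (ψ z) ⟨z, hz, rfl⟩
    exact ⟨x, hx, hψ (by rw [← e]; simp)⟩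

/-- a rank one pair is never in the commutator case -/
lemma not_rankOne_of_commutatorCase {S : Set (Subgroup H)} {A B : Subgroup H}
    (hr : IsRankOnePair A B) (hcc : RootCommutatorCase S A B) : False := by
  obtain ⟨a, ha, ha1⟩ := exists_nonidentity_left hr
  exact false_of_commutator_centralizes hr ha ha1
    (fun b hb b' hb' => commutatorCase_centralizes hcc ha hb hb')

/-- an abstract system of root subgroups with the three kinds of pairs -/
structure RootSystem3 (L : Type*) [Field L] {P : Type*} (A : P → Subgroup H) : Prop where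
  comm : ∀ p, ∀ a ∈ A p, ∀ b ∈ A p, a * b = b * a
  ne_bot : ∀ p, A p ≠ ⊥
  conj : ∀ p (g : H), ∃ p', conjBy (A p) g = A p'
  tri : ∀ p p', (∀ a ∈ A p, ∀ b ∈ A p', a * b = b * a) ∨
    (IsRankOnePair (A p) (A p') ∧ IsPSL2PairOver L (A p) (A p')) ∨
    RootCommutatorCase (Set.range A) (A p) (A p')

namespace RootSystem3

variable {L : Type*} [Field L] {P : Type*} {A : P → Subgroup H}

lemma isRootSubgroupSet (h : RootSystem3 L A) (hgen : (⨆ p, A p) = ⊤) :
    IsRootSubgroupSet (Set.range A) where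
  commutative := by
    rintro _ ⟨p, rfl⟩
    exact isMulCommutative_iff.2 fun a b => Subtype.ext (h.comm p a a.2 b b.2)
  ne_bot := by
    rintro _ ⟨p, rfl⟩
    exact h.ne_bot p
  generates := by
    rw [eq_top_iff, ← hgen, iSup_le_iff]
    intro p
    exact le_iSup₂_of_le (A p) ⟨p, rfl⟩ le_rfl
  conj_mem := by
    rintro _ ⟨p, rfl⟩ g
    obtain ⟨p', e⟩ := h.conj p g
    exact ⟨p', e.symm⟩
  pair := by
    rintro _ ⟨p, rfl⟩ _ ⟨p', rfl⟩
    rcases h.tri p p' with h1 | h1 | h1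
    · left
      rw [Subgroup.commutator_eq_bot_iff_le_centralizer]
      intro a ha
      rw [Subgroup.mem_centralizer_iff]
      intro b hb
      exact (h1 a ha b hb).symm
    · exact Or.inr (Or.inl h1.1)
    · exact Or.inr (Or.inr h1)

lemma isKRoot (h : RootSystem3 L A) (hgen : (⨆ p, A p) = ⊤) :
    IsKRootSubgroupSet L (Set.range A) := by
  refine ⟨h.isRootSubgroupSet hgen, ?_⟩
  rintro _ ⟨p, rfl⟩ _ ⟨p', rfl⟩ hr
  rcases h.tri p p' with h1 | h1 | h1
  · exact (not_rankOne_of_comm hr h1).elim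
  · exact h1.2
  · exact (not_rankOne_of_commutatorCase hr h1).elim

end RootSystem3

end Cfsg.Agent.Lib.Helper7.Siegel
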