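import Mathlib
import Cfsg.Agent.H9.OrthD

/-!
# Siegel transvection groups of singular lines (helper7)

For a nondegenerate quadratic form `Q` on `F^ι` (any field) and a singular line `W = ⟨p, r⟩`, the
group `TF W` of isometries fixing `W^⊥` pointwise consists of the Siegel transvections
`x ↦ x + c (B(x,r) p - B(x,p) r)`.
-/

set_option autoImplicit false
set_option linter.unusedSectionVars false

namespace Cfsg.Agent.Lib.Helper7.Siegel

open Cfsg Cfsg.Agent.H9.Orth Matrix

variable {ι : Type} [Fintype ι] [DecidableEq ι] {F : Type*} [Field F] {Q : (ι → F) → F}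
variable (hQ : Cfsg.Geo.IsNondegenerateQuadraticForm Q)

/-- `(p, r)` is a basis of a singular line -/
structure SL (Q : (ι → F) → F) (p r : ι → F) : Prop where
  li : LinearIndependent F ![p, r]
  qp : Q p = 0
  qr : Q r = 0
  pr : pol Q p r = 0

include hQ

lemma SL.rp {p r : ι → F} (h : SL Q p r) : pol Q r p = 0 := by rw [pol_comm, h.pr]

lemma SL.pp {p r : ι → F} (h : SL Q p r) : pol Q p p = 0 := by rw [pol_self hQ, h.qp, mul_zero]

lemma SL.rr {p r : ι → F} (h : SL Q p r) : pol Q r r = 0 := by rw [pol_self hQ, h.qr, mul_zero]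

omit hQ in
lemma SL.ind {p r : ι → F} (h : SL Q p r) {s t : F} (e : s • p + t • r = 0) : s = 0 ∧ t = 0 :=
  LinearIndependent.pair_iff.1 h.li s t e

omit hQ in
lemma SL.p_ne {p r : ι → F} (h : SL Q p r) : p ≠ 0 := by
  intro e
  have := h.ind (s := 1) (t := 0) (by rw [e]; simp)
  exact one_ne_zero this.1

omit hQ in
lemma SL.r_ne {p r : ι → F} (h : SL Q p r) : r ≠ 0 := by
  intro e
  have := h.ind (s := 0) (t := 1) (by rw [e]; simp)
  exact one_ne_zero this.2

omit hQ in
lemma SL.swap {p r : ι → F} (h : SL Q p r) : SL Q r p := by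
  refine ⟨?_, h.qr, h.qp, by rw [pol_comm, h.pr]⟩
  rw [LinearIndependent.pair_iff]
  intro s t e
  have := h.ind (s := t) (t := s) (by rw [add_comm]; exact e)
  exact ⟨this.2, this.1⟩

/-- change of basis of a singular line -/
lemma SL.comb {p r : ι → F} (h : SL Q p r) (a b c d : F) (hdet : a * d - b * c ≠ 0) :
    SL Q (a • p + b • r) (c • p + d • r) := by
  refine ⟨?_, ?_, ?_, ?_⟩
  · rw [LinearIndependent.pair_iff]
    intro s t e
    have e' : (s * a + t * c) • p + (s * b + t * d) • r = 0 := by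
      rw [← e]; module
    obtain ⟨h1, h2⟩ := h.ind e'
    have hs : s * (a * d - b * c) = 0 := by linear_combination d * h1 - c * h2
    have ht : t * (a * d - b * c) = 0 := by linear_combination a * h2 - b * h1
    exact ⟨(mul_eq_zero.1 hs).resolve_right hdet, (mul_eq_zero.1 ht).resolve_right hdet⟩
  · rw [Q_add Q, hQ.smul, hQ.smul, h.qp, h.qr, pol_smul_left hQ, pol_smul_right hQ, h.pr]; ring
  · rw [Q_add Q, hQ.smul, hQ.smul, h.qp, h.qr, pol_smul_left hQ, pol_smul_right hQ, h.pr]; ring
  · simp only [pol_add_left hQ, pol_add_right hQ, pol_smul_left hQ, pol_smul_right hQ, h.pr,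
      h.rp hQ, h.pp hQ, h.rr hQ]
    ring

omit hQ in
lemma span_comb (p r : ι → F) (a b c d : F) (hdet : a * d - b * c ≠ 0) :
    Submodule.span F {a • p + b • r, c • p + d • r} = Submodule.span F {p, r} := by
  apply le_antisymm
  · rw [Submodule.span_le]
    rintro x (rfl | rfl)
    · exact Submodule.mem_span_pair.2 ⟨a, b, rfl⟩
    · exact Submodule.mem_span_pair.2 ⟨c, d, rfl⟩
  · rw [Submodule.span_le]
    rintro x (rfl | rfl)
    · refine Submodule.mem_span_pair.2 ⟨d / (a * d - b * c), -b / (a * d - b * c), ?_⟩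
      have : (d / (a * d - b * c)) • (a • x + b • r) + (-b / (a * d - b * c)) • (c • x + d • r) =
          ((a * d - b * c) / (a * d - b * c)) • x := by
        module
      rw [this, div_self hdet, one_smul]
    · refine Submodule.mem_span_pair.2 ⟨-c / (a * d - b * c), a / (a * d - b * c), ?_⟩
      have : (-c / (a * d - b * c)) • (a • p + b • x) + (a / (a * d - b * c)) • (c • p + d • x) =
          ((a * d - b * c) / (a * d - b * c)) • x := by
        module
      rw [this, div_self hdet, one_smul]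

/-- the Siegel transvection `x ↦ x + c (B(x,r) p - B(x,p) r)` -/
noncomputable def st (p r : ι → F) (c : F) : GL ι F := sg hQ p (c • r)

lemma act_st {p r : ι → F} (h : SL Q p r) (c : F) (x : ι → F) :
    act (st hQ p r c) x = x + (c * pol Q x r) • p - (c * pol Q x p) • r := by
  rw [st, act_sg hQ p (c • r) h.qp (by rw [pol_smul_right hQ, h.pr, mul_zero]), hQ.smul, h.qr,
    pol_smul_right hQ]
  module

lemma st_mem_iso (p r : ι → F) (c : F) : st hQ p r c ∈ Cfsg.isometryGroup F Q := sg_mem hQ _ _

lemma st_add {p r : ι → F} (h : SL Q p r) (c d : F) :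
    st hQ p r c * st hQ p r d = st hQ p r (c + d) := by
  rw [st, st, st, sg_mul hQ p _ _ (by rw [pol_smul_right hQ, h.pr, mul_zero])
    (by rw [pol_smul_right hQ, h.pr, mul_zero]), add_smul]

lemma st_zero (p r : ι → F) : st hQ p r 0 = 1 := by
  rw [st, zero_smul, sg_zero]

lemma st_inv {p r : ι → F} (h : SL Q p r) (c : F) : (st hQ p r c)⁻¹ = st hQ p r (-c) := by
  rw [inv_eq_iff_mul_eq_one, st_add hQ h, add_neg_cancel, st_zero]

lemma st_comm {p r : ι → F} (h : SL Q p r) (c d : F) :
    st hQ p r c * st hQ p r d = st hQ p r d * st hQ p r c := by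
  rw [st_add hQ h, st_add hQ h, add_comm]

/-- conjugation by an isometry -/
lemma conj_st (g : GL ι F) (hg : g ∈ Cfsg.isometryGroup F Q) (p r : ι → F) (c : F) :
    g * st hQ p r c * g⁻¹ = st hQ (act g p) (act g r) c := by
  rw [st, st, conj_sg hQ g hg, act_smul]

lemma st_swap {p r : ι → F} (h : SL Q p r) (c : F) : st hQ r p c = st hQ p r (-c) := by
  rw [st, st, ← sg_smul_left hQ c r p, sg_symm hQ (c • r) p (by rw [hQ.smul, h.qr, mul_zero]) h.qp
    (by rw [pol_smul_left hQ, h.rp hQ, mul_zero]),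
    sg_inv hQ p (c • r) (by rw [pol_smul_right hQ, h.pr, mul_zero]), neg_smul]

lemma st_smul_left (a : F) (p r : ι → F) (c : F) : st hQ (a • p) r c = st hQ p r (a * c) := by
  rw [st, st, sg_smul_left hQ, smul_smul]

lemma st_eq_one_iff {p r : ι → F} (h : SL Q p r) (c : F) : st hQ p r c = 1 ↔ c = 0 := by
  constructor
  · intro e
    have hr : r ∉ Submodule.span F {p} := by
      intro hr
      obtain ⟨a, ha⟩ := Submodule.mem_span_singleton.1 hr
      have := h.ind (s := a) (t := -1) (by rw [ha]; module)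
      have h1 := this.2
      norm_num at h1
    obtain ⟨y, hy1, hy2⟩ := exists_pol_eq_one hQ (Submodule.span F {p}) r hr
    have hyp : pol Q y p = 0 := hy2 p (Submodule.mem_span_singleton_self p)
    have h1 := act_st hQ h c y
    rw [e, act_one, hy1, hyp, mul_one, mul_zero, zero_smul, sub_zero] at h1
    have h2 : c • p = 0 := by
      have := congrArg (fun z => z - y) h1
      simpa using this.symm
    rcases smul_eq_zero.1 h2 with h3 | h3
    · exact h3
    · exact absurd h3 h.p_ne
  · rintro rfl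
    exact st_zero hQ p r

/-- the isometries fixing `W^⊥` pointwise -/
def TF (W : Submodule F (ι → F)) : Subgroup (GL ι F) where
  carrier := {g | g ∈ Cfsg.isometryGroup F Q ∧ ∀ v ∈ perp hQ W, act g v = v}
  mul_mem' := by
    rintro a b ⟨ha, ha'⟩ ⟨hb, hb'⟩
    refine ⟨Subgroup.mul_mem _ ha hb, fun v hv => ?_⟩
    rw [act_mul, hb' v hv, ha' v hv]
  one_mem' := ⟨Subgroup.one_mem _, fun v _ => act_one v⟩
  inv_mem' := by
    rintro a ⟨ha, ha'⟩
    refine ⟨Subgroup.inv_mem _ ha, fun v hv => ?_⟩
    have := ha' v hv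
    conv_lhs => rw [← this]
    exact act_inv_act a v

lemma mem_TF (W : Submodule F (ι → F)) (g : GL ι F) :
    g ∈ TF hQ W ↔ g ∈ Cfsg.isometryGroup F Q ∧ ∀ v ∈ perp hQ W, act g v = v := Iff.rfl

lemma TF_le_iso (W : Submodule F (ι → F)) : TF hQ W ≤ Cfsg.isometryGroup F Q := fun _ hg => hg.1

lemma st_mem_TF {p r : ι → F} (h : SL Q p r) (c : F) :
    st hQ p r c ∈ TF hQ (Submodule.span F {p, r}) := by
  refine ⟨st_mem_iso hQ p r c, fun v hv => ?_⟩
  rw [mem_perp_span_pair] at hv
  rw [act_st hQ h, pol_comm v r, hv.2, pol_comm v p, hv.1]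
  module

/-- dual vectors for a linearly independent pair -/
lemma SL.exists_dual {p r : ι → F} (h : SL Q p r) :
    ∃ p' r' : ι → F, pol Q p' p = 1 ∧ pol Q p' r = 0 ∧ pol Q r' r = 1 ∧ pol Q r' p = 0 := by
  have hp : p ∉ Submodule.span F {r} := by
    intro hp
    obtain ⟨a, ha⟩ := Submodule.mem_span_singleton.1 hp
    have := h.ind (s := -1) (t := a) (by rw [ha]; module)
    have h1 := this.1
    norm_num at h1
  have hr : r ∉ Submodule.span F {p} := by
    intro hr
    obtain ⟨a, ha⟩ := Submodule.mem_span_singleton.1 hr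
    have := h.ind (s := a) (t := -1) (by rw [ha]; module)
    have h1 := this.2
    norm_num at h1
  obtain ⟨p', h1, h2⟩ := exists_pol_eq_one hQ (Submodule.span F {r}) p hp
  obtain ⟨r', h3, h4⟩ := exists_pol_eq_one hQ (Submodule.span F {p}) r hr
  exact ⟨p', r', h1, h2 r (Submodule.mem_span_singleton_self r), h3,
    h4 p (Submodule.mem_span_singleton_self p)⟩

/-- **the elements of `T(ℓ)` are the Siegel transvections** -/
lemma exists_st_of_mem_TF {p r : ι → F} (h : SL Q p r) (g : GL ι F)
    (hg : g ∈ TF hQ (Submodule.span F {p, r})) : ∃ c, g = st hQ p r c := by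
  obtain ⟨hgi, hfix⟩ := hg
  obtain ⟨p', r', hp'p, hp'r, hr'r, hr'p⟩ := h.exists_dual hQ
  -- the displacement of any vector lies in the line
  have hdisp : ∀ y, act g y - y ∈ Submodule.span F {p, r} := by
    intro y
    rw [← perp_perp hQ (Submodule.span F {p, r}), mem_perp]
    intro w hw
    rw [pol_sub_right hQ]
    have := pol_act g hgi w y
    rw [hfix w hw] at this
    rw [this, sub_self]
  obtain ⟨a1, a2, ha⟩ := Submodule.mem_span_pair.1 (hdisp p')
  obtain ⟨b1, b2, hb⟩ := Submodule.mem_span_pair.1 (hdisp r')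
  have hgp' : act g p' = p' + (a1 • p + a2 • r) := by rw [ha]; abel
  have hgr' : act g r' = r' + (b1 • p + b2 • r) := by rw [hb]; abel
  -- the action on a general vector
  have hact : ∀ x, act g x = x + pol Q x p • (a1 • p + a2 • r) + pol Q x r • (b1 • p + b2 • r) := by
    intro x
    have hx0 : x - pol Q x p • p' - pol Q x r • r' ∈ perp hQ (Submodule.span F {p, r}) := by
      rw [mem_perp_span_pair]
      constructor
      · rw [pol_sub_right hQ, pol_sub_right hQ, pol_smul_right hQ, pol_smul_right hQ,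
          pol_comm p p', hp'p, pol_comm p r', hr'p, pol_comm p x]; ring
      · rw [pol_sub_right hQ, pol_sub_right hQ, pol_smul_right hQ, pol_smul_right hQ,
          pol_comm r p', hp'r, pol_comm r r', hr'r, pol_comm r x]; ring
    have h1 := hfix _ hx0
    have hx : x = (x - pol Q x p • p' - pol Q x r • r') + pol Q x p • p' + pol Q x r • r' := by
      abel
    conv_lhs => rw [hx]
    rw [act_add, act_add, h1, act_smul, act_smul, hgp', hgr']
    module
  -- the isometry condition
  have hiso : ∀ x, pol Q x p * (a1 * pol Q x p + a2 * pol Q x r) +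
      pol Q x r * (b1 * pol Q x p + b2 * pol Q x r) = 0 := by
    intro x
    have h1 := Q_act g hgi x
    rw [hact x, add_assoc, Q_add Q] at h1
    have h2 : Q (pol Q x p • (a1 • p + a2 • r) + pol Q x r • (b1 • p + b2 • r)) = 0 := by
      have e : pol Q x p • (a1 • p + a2 • r) + pol Q x r • (b1 • p + b2 • r) =
          (pol Q x p * a1 + pol Q x r * b1) • p + (pol Q x p * a2 + pol Q x r * b2) • r := by
        module
      rw [e, Q_add Q, hQ.smul, hQ.smul, h.qp, h.qr, pol_smul_left hQ, pol_smul_right hQ, h.pr]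
      ring
    rw [h2] at h1
    simp only [pol_add_right hQ, pol_smul_right hQ] at h1
    linear_combination h1
  have e1 := hiso p'
  rw [hp'p, hp'r] at e1
  have e2 := hiso r'
  rw [hr'p, hr'r] at e2
  have e3 := hiso (p' + r')
  simp only [pol_add_left hQ, hp'p, hp'r, hr'p, hr'r] at e3
  have ha1 : a1 = 0 := by linear_combination e1
  have hb2 : b2 = 0 := by linear_combination e2
  have hab : a2 + b1 = 0 := by linear_combination e3 - e1 - e2
  refine ⟨b1, ?_⟩
  apply gl_ext
  intro x
  rw [hact x, act_st hQ h, ha1, hb2]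
  have : a2 = -b1 := by linear_combination hab
  rw [this]
  module

lemma mem_TF_iff {p r : ι → F} (h : SL Q p r) (g : GL ι F) :
    g ∈ TF hQ (Submodule.span F {p, r}) ↔ ∃ c, g = st hQ p r c := by
  constructor
  · exact exists_st_of_mem_TF hQ h g
  · rintro ⟨c, rfl⟩
    exact st_mem_TF hQ h c

/-- conjugation of `T(ℓ)` by an isometry -/
lemma conj_TF (g : GL ι F) (hg : g ∈ Cfsg.isometryGroup F Q) (W : Submodule F (ι → F)) :
    (TF hQ W).map (MulAut.conj g).toMonoidHom =
      TF hQ (W.map (Matrix.mulVecLin (g : Matrix ι ι F))) := by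
  have hginv : g⁻¹ ∈ Cfsg.isometryGroup F Q := Subgroup.inv_mem _ hg
  ext x
  constructor
  · rintro ⟨y, ⟨hyi, hy⟩, rfl⟩
    refine ⟨Subgroup.mul_mem _ (Subgroup.mul_mem _ hg hyi) hginv, fun v hv => ?_⟩
    show act (g * y * g⁻¹) v = v
    have hv' : act g⁻¹ v ∈ perp hQ W := by
      rw [mem_perp]
      intro w hw
      rw [pol_comm, pol_act_inv g hg, pol_comm]
      rw [mem_perp] at hv
      exact hv _ ⟨w, hw, rfl⟩
    rw [act_mul, act_mul, hy _ hv', act_act_inv]
  · rintro ⟨hxi, hx⟩
    refine ⟨g⁻¹ * x * g, ⟨Subgroup.mul_mem _ (Subgroup.mul_mem _ hginv hxi) hg, fun v hv => ?_⟩, ?_⟩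
    · have hv' : act g v ∈ perp hQ (W.map (Matrix.mulVecLin (g : Matrix ι ι F))) := by
        rw [mem_perp]
        rintro _ ⟨w, hw, rfl⟩
        show pol Q (act g w) (act g v) = 0
        rw [pol_act g hg]
        rw [mem_perp] at hv
        exact hv w hw
      rw [act_mul, act_mul, hx _ hv', act_inv_act]
    · show g * (g⁻¹ * x * g) * g⁻¹ = x
      group

omit hQ in
lemma map_span_pair (g : GL ι F) (p r : ι → F) :
    (Submodule.span F {p, r}).map (Matrix.mulVecLin (g : Matrix ι ι F)) =
      Submodule.span F {act g p, act g r} := by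
  rw [Submodule.map_span]
  congr 1
  ext x
  simp [Set.image_pair]

omit hQ in
lemma SL.act {p r : ι → F} (h : SL Q p r) (g : GL ι F) (hg : g ∈ Cfsg.isometryGroup F Q) :
    SL Q (act g p) (act g r) := by
  refine ⟨?_, by rw [Q_act g hg, h.qp], by rw [Q_act g hg, h.qr], by rw [pol_act g hg, h.pr]⟩
  rw [LinearIndependent.pair_iff]
  intro s t e
  apply h.ind
  apply act_injective g
  rw [act_add, act_smul, act_smul, e, act_zero]

end Cfsg.Agent.Lib.Helper7.Siegel
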