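import Mathlib
import Cfsg.Agent.Lib.Helper7.SiegelB
import Cfsg.Agent.S5016

/-!
# Relations between Siegel transvection groups of two singular lines (helper7)
-/

set_option autoImplicit false
set_option linter.unusedSectionVars false

namespace Cfsg.Agent.Lib.Helper7.Siegel

open Cfsg Cfsg.Agent.H9.Orth Matrix Cfsg.Agent.S5016

variable {ι : Type} [Fintype ι] [DecidableEq ι] {F : Type*} [Field F] {Q : (ι → F) → F}
variable (hQ : Cfsg.Geo.IsNondegenerateQuadraticForm Q)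

include hQ

/-- perpendicular lines: the groups commute -/
lemma st_comm_of_perp {p₁ r₁ p₂ r₂ : ι → F} (h₁ : SL Q p₁ r₁) (h₂ : SL Q p₂ r₂)
    (h11 : pol Q p₁ p₂ = 0) (h12 : pol Q p₁ r₂ = 0) (h21 : pol Q r₁ p₂ = 0)
    (h22 : pol Q r₁ r₂ = 0) (c d : F) :
    st hQ p₁ r₁ c * st hQ p₂ r₂ d = st hQ p₂ r₂ d * st hQ p₁ r₁ c := by
  have h := conj_st hQ (st hQ p₂ r₂ d) (st_mem_iso hQ _ _ _) p₁ r₁ c
  have e1 : act (st hQ p₂ r₂ d) p₁ = p₁ := by
    rw [act_st hQ h₂, h11, h12]; module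
  have e2 : act (st hQ p₂ r₂ d) r₁ = r₁ := by
    rw [act_st hQ h₂, h21, h22]; module
  rw [e1, e2] at h
  exact (mul_inv_eq_iff_eq_mul.1 h).symm

/-- lines with a common point: the groups commute -/
lemma st_comm_of_meet {a b₁ b₂ : ι → F} (h₁ : SL Q a b₁) (h₂ : SL Q a b₂) (c d : F) :
    st hQ a b₁ c * st hQ a b₂ d = st hQ a b₂ d * st hQ a b₁ c := by
  have h := conj_st hQ (st hQ a b₂ d) (st_mem_iso hQ _ _ _) a b₁ c
  have e1 : act (st hQ a b₂ d) a = a := by
    rw [act_st hQ h₂, h₂.pr, h₂.pp hQ]; module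
  have e2 : act (st hQ a b₂ d) b₁ = b₁ + (d * pol Q b₁ b₂) • a := by
    rw [act_st hQ h₂, h₁.rp hQ]; module
  rw [e1, e2] at h
  have e3 : st hQ a (b₁ + (d * pol Q b₁ b₂) • a) c = st hQ a b₁ c := by
    rw [st, st, smul_add, ← sg_mul hQ a _ _ (by rw [pol_smul_right hQ, h₁.pr, mul_zero])
      (by rw [pol_smul_right hQ, pol_smul_right hQ, h₁.pp hQ, mul_zero, mul_zero]),
      smul_smul, sg_self, mul_one]
  rw [e3] at h
  exact (mul_inv_eq_iff_eq_mul.1 h).symm

/-- the commutator relation -/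
lemma st_commutator {a₁ b₁ a₂ b₂ : ι → F} (h₁ : SL Q a₁ b₁) (h₂ : SL Q a₂ b₂)
    (hbb : pol Q b₁ b₂ = 1) (haa : pol Q a₁ a₂ = 0) (hab : pol Q a₁ b₂ = 0)
    (hba : pol Q b₁ a₂ = 0) (c d : F) :
    st hQ a₁ b₁ c * st hQ a₂ b₂ d * (st hQ a₁ b₁ c)⁻¹ * (st hQ a₂ b₂ d)⁻¹ =
      st hQ a₂ a₁ (c * d) := by
  have h := conj_st hQ (st hQ a₁ b₁ c) (st_mem_iso hQ _ _ _) a₂ b₂ d
  have e1 : act (st hQ a₁ b₁ c) a₂ = a₂ := by
    rw [act_st hQ h₁, pol_comm a₂ b₁, hba, pol_comm a₂ a₁, haa]; module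
  have e2 : act (st hQ a₁ b₁ c) b₂ = b₂ + c • a₁ := by
    rw [act_st hQ h₁, pol_comm b₂ b₁, hbb, pol_comm b₂ a₁, hab]; module
  rw [e1, e2] at h
  have h21 : pol Q a₂ a₁ = 0 := by rw [pol_comm, haa]
  have e3 : st hQ a₂ (b₂ + c • a₁) d = st hQ a₂ b₂ d * st hQ a₂ a₁ (c * d) := by
    rw [st, st, st, smul_add, ← sg_mul hQ a₂ _ _ (by rw [pol_smul_right hQ, h₂.pr, mul_zero])
      (by rw [pol_smul_right hQ, pol_smul_right hQ, h21, mul_zero, mul_zero]),
      smul_smul, mul_comm d c]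
  have e4 : st hQ a₂ b₂ d * st hQ a₂ a₁ (c * d) = st hQ a₂ a₁ (c * d) * st hQ a₂ b₂ d := by
    rw [st, st, sg_mul hQ a₂ _ _ (by rw [pol_smul_right hQ, h₂.pr, mul_zero])
      (by rw [pol_smul_right hQ, h21, mul_zero]),
      sg_mul hQ a₂ _ _ (by rw [pol_smul_right hQ, h21, mul_zero])
      (by rw [pol_smul_right hQ, h₂.pr, mul_zero]), add_comm]
  rw [h, e3, e4, mul_inv_cancel_right]

/-! ### Opposite lines -/

/-- two singular lines in general position, with dual bases -/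
structure Opp (Q : (ι → F) → F) (p r p' r' : ι → F) : Prop where
  qp : Q p = 0
  qr : Q r = 0
  qp' : Q p' = 0
  qr' : Q r' = 0
  pr : pol Q p r = 0
  p'r' : pol Q p' r' = 0
  pp' : pol Q p p' = 1
  rr' : pol Q r r' = 1
  pr' : pol Q p r' = 0
  rp' : pol Q r p' = 0

/-- the action of a `2 × 2` matrix: by `A` on `⟨p, r'⟩` and by `D A D` on `⟨r, p'⟩` -/
def phiL (p r p' r' : ι → F) (A : Matrix (Fin 2) (Fin 2) F) : (ι → F) →ₗ[F] (ι → F) where
  toFun x := x + ((A 0 0 - 1) * pol Q x p' + A 0 1 * pol Q x r) • p +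
    (A 1 0 * pol Q x p' + (A 1 1 - 1) * pol Q x r) • r' +
    ((A 0 0 - 1) * pol Q x r' - A 0 1 * pol Q x p) • r +
    (-A 1 0 * pol Q x r' + (A 1 1 - 1) * pol Q x p) • p'
  map_add' x y := by
    simp only [pol_add_left hQ]
    module
  map_smul' c x := by
    simp only [pol_smul_left hQ, RingHom.id_apply]
    module

lemma phiL_apply (p r p' r' : ι → F) (A : Matrix (Fin 2) (Fin 2) F) (x : ι → F) :
    phiL hQ p r p' r' A x = x + ((A 0 0 - 1) * pol Q x p' + A 0 1 * pol Q x r) • p +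
    (A 1 0 * pol Q x p' + (A 1 1 - 1) * pol Q x r) • r' +
    ((A 0 0 - 1) * pol Q x r' - A 0 1 * pol Q x p) • r +
    (-A 1 0 * pol Q x r' + (A 1 1 - 1) * pol Q x p) • p' := rfl

lemma phiL_one (p r p' r' : ι → F) (x : ι → F) : phiL hQ p r p' r' 1 x = x := by
  rw [phiL_apply]
  simp

lemma phiL_mul {p r p' r' : ι → F} (h : Opp Q p r p' r') (A B : Matrix (Fin 2) (Fin 2) F)
    (x : ι → F) : phiL hQ p r p' r' A (phiL hQ p r p' r' B x) = phiL hQ p r p' r' (A * B) x := by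
  have hpp : pol Q p p = 0 := by rw [pol_self hQ, h.qp, mul_zero]
  have hrr : pol Q r r = 0 := by rw [pol_self hQ, h.qr, mul_zero]
  have hp'p' : pol Q p' p' = 0 := by rw [pol_self hQ, h.qp', mul_zero]
  have hr'r' : pol Q r' r' = 0 := by rw [pol_self hQ, h.qr', mul_zero]
  have hrp : pol Q r p = 0 := by rw [pol_comm, h.pr]
  have hr'p' : pol Q r' p' = 0 := by rw [pol_comm, h.p'r']
  have hp'p : pol Q p' p = 1 := by rw [pol_comm, h.pp']
  have hr'r : pol Q r' r = 1 := by rw [pol_comm, h.rr']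
  have hr'p : pol Q r' p = 0 := by rw [pol_comm, h.pr']
  have hp'r : pol Q p' r = 0 := by rw [pol_comm, h.rp']
  simp only [phiL_apply, pol_add_left hQ, pol_smul_left hQ, hpp, hrr, hp'p', hr'r', hrp, hr'p',
    hp'p, hr'r, hr'p, hp'r, h.pr, h.p'r', h.pp', h.rr', h.pr', h.rp', Matrix.mul_apply,
    Fin.sum_univ_two]
  module

/-- the homomorphism `SL₂(F) → GL` attached to two opposite lines -/
noncomputable def phi {p r p' r' : ι → F} (h : Opp Q p r p' r') :
    Matrix.SpecialLinearGroup (Fin 2) F →* GL ι F where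
  toFun g := ofLin (LinearEquiv.ofLinearMap
    (phiL hQ p r p' r' (g : Matrix (Fin 2) (Fin 2) F))
    (phiL hQ p r p' r' ((g⁻¹ : Matrix.SpecialLinearGroup (Fin 2) F) : Matrix (Fin 2) (Fin 2) F))
    (by
      apply LinearMap.ext
      intro x
      rw [LinearMap.comp_apply, phiL_mul hQ h, ← Matrix.SpecialLinearGroup.coe_mul,
        mul_inv_cancel, Matrix.SpecialLinearGroup.coe_one, phiL_one]
      rfl)
    (by
      apply LinearMap.ext
      intro x
      rw [LinearMap.comp_apply, phiL_mul hQ h, ← Matrix.SpecialLinearGroup.coe_mul,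
        inv_mul_cancel, Matrix.SpecialLinearGroup.coe_one, phiL_one]
      rfl))
  map_one' := by
    apply gl_ext
    intro x
    rw [act_ofLin, act_one]
    show phiL hQ p r p' r' _ x = x
    rw [Matrix.SpecialLinearGroup.coe_one, phiL_one]
  map_mul' g g' := by
    apply gl_ext
    intro x
    rw [act_mul, act_ofLin, act_ofLin, act_ofLin]
    show phiL hQ p r p' r' _ x = phiL hQ p r p' r' _ (phiL hQ p r p' r' _ x)
    rw [phiL_mul hQ h, Matrix.SpecialLinearGroup.coe_mul]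

lemma act_phi {p r p' r' : ι → F} (h : Opp Q p r p' r')
    (g : Matrix.SpecialLinearGroup (Fin 2) F) (x : ι → F) :
    act (phi hQ h g) x = phiL hQ p r p' r' (g : Matrix (Fin 2) (Fin 2) F) x := by
  show act (ofLin _) x = _
  rw [act_ofLin]
  rfl

lemma Opp.sl {p r p' r' : ι → F} (h : Opp Q p r p' r') : SL Q p r := by
  refine ⟨?_, h.qp, h.qr, h.pr⟩
  rw [LinearIndependent.pair_iff]
  intro s t e
  have e1 := congrArg (fun z => pol Q z p') e
  have e2 := congrArg (fun z => pol Q z r') e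
  simp only [pol_add_left hQ, pol_smul_left hQ, h.pp', h.rp', h.pr', h.rr',
    pol_zero_left hQ] at e1 e2
  exact ⟨by linear_combination e1, by linear_combination e2⟩

lemma Opp.sl' {p r p' r' : ι → F} (h : Opp Q p r p' r') : SL Q r' p' := by
  refine ⟨?_, h.qr', h.qp', by rw [pol_comm, h.p'r']⟩
  rw [LinearIndependent.pair_iff]
  intro s t e
  have e1 := congrArg (fun z => pol Q r z) e
  have e2 := congrArg (fun z => pol Q p z) e
  simp only [pol_add_right hQ, pol_smul_right hQ, h.pp', h.rp', h.pr', h.rr',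
    pol_zero_right hQ] at e1 e2
  exact ⟨by linear_combination e1, by linear_combination e2⟩

lemma phi_up {p r p' r' : ι → F} (h : Opp Q p r p' r') (t : F) :
    phi hQ h (up t) = st hQ p r t := by
  apply gl_ext
  intro x
  rw [act_phi, act_st hQ (h.sl hQ), phiL_apply, up_coe]
  simp
  module

lemma phi_lo {p r p' r' : ι → F} (h : Opp Q p r p' r') (t : F) :
    phi hQ h (lo t) = st hQ r' p' t := by
  apply gl_ext
  intro x
  rw [act_phi, act_st hQ (h.sl' hQ), phiL_apply, lo_coe]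
  simp
  module

lemma phi_injective {p r p' r' : ι → F} (h : Opp Q p r p' r') :
    Function.Injective (phi hQ h) := by
  rw [injective_iff_map_eq_one]
  intro g hg
  have hpp : pol Q p p = 0 := by rw [pol_self hQ, h.qp, mul_zero]
  have hr'r' : pol Q r' r' = 0 := by rw [pol_self hQ, h.qr', mul_zero]
  have hr'p' : pol Q r' p' = 0 := by rw [pol_comm, h.p'r']
  have hr'r : pol Q r' r = 1 := by rw [pol_comm, h.rr']
  have hr'p : pol Q r' p = 0 := by rw [pol_comm, h.pr']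
  have h1 := act_phi hQ h g p
  rw [hg, act_one, phiL_apply, h.pp', h.pr, h.pr', hpp] at h1
  have h2 := act_phi hQ h g r'
  rw [hg, act_one, phiL_apply, hr'p', hr'r, hr'r', hr'p] at h2
  have e1 : (g 0 0 - 1) • p + g 1 0 • r' = 0 := by
    have := congrArg (fun z => z - p) h1
    simp only [sub_self] at this
    rw [this]
    module
  have e2 : g 0 1 • p + (g 1 1 - 1) • r' = 0 := by
    have := congrArg (fun z => z - r') h2
    simp only [sub_self] at this
    rw [this]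
    module
  have e1a := congrArg (fun z => pol Q z p') e1
  have e1b := congrArg (fun z => pol Q z r) e1
  have e2a := congrArg (fun z => pol Q z p') e2
  have e2b := congrArg (fun z => pol Q z r) e2
  simp only [pol_add_left hQ, pol_smul_left hQ, h.pp', hr'p', h.pr, hr'r,
    pol_zero_left hQ] at e1a e1b e2a e2b
  apply sl2_ext
  · rw [Matrix.SpecialLinearGroup.coe_one, Matrix.one_apply_eq]; linear_combination e1a
  · rw [Matrix.SpecialLinearGroup.coe_one, Matrix.one_apply_ne (by decide)]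
    linear_combination e2a
  · rw [Matrix.SpecialLinearGroup.coe_one, Matrix.one_apply_ne (by decide)]
    linear_combination e1b
  · rw [Matrix.SpecialLinearGroup.coe_one, Matrix.one_apply_eq]; linear_combination e2b

lemma map_upper {p r p' r' : ι → F} (h : Opp Q p r p' r') :
    (upperUnipotentSL2 F).map (phi hQ h) = TF hQ (Submodule.span F {p, r}) := by
  ext g
  rw [mem_TF_iff hQ (h.sl hQ)]
  constructor
  · rintro ⟨s, hs, rfl⟩
    obtain ⟨t, rfl⟩ := mem_upper.1 hs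
    exact ⟨t, phi_up hQ h t⟩
  · rintro ⟨c, rfl⟩
    exact ⟨up c, mem_upper.2 ⟨_, rfl⟩, phi_up hQ h c⟩

lemma map_lower {p r p' r' : ι → F} (h : Opp Q p r p' r') :
    (lowerUnipotentSL2 F).map (phi hQ h) = TF hQ (Submodule.span F {r', p'}) := by
  ext g
  rw [mem_TF_iff hQ (h.sl' hQ)]
  constructor
  · rintro ⟨s, hs, rfl⟩
    obtain ⟨t, rfl⟩ := mem_lower.1 hs
    exact ⟨t, phi_lo hQ h t⟩
  · rintro ⟨c, rfl⟩
    exact ⟨lo c, mem_lower.2 ⟨_, rfl⟩, phi_lo hQ h c⟩

end Cfsg.Agent.Lib.Helper7.Siegel
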