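import Mathlib
import Cfsg.Agent.Lib.Helper7.SiegelA
import Cfsg.Agent.Lib.Helper7.SiegelC

/-!
# The trichotomy for two singular lines and the resulting root system (helper7)
-/

set_option autoImplicit false
set_option linter.unusedSectionVars false

namespace Cfsg.Agent.Lib.Helper7.Siegel

open Cfsg Cfsg.Agent.H9.Orth Matrix Cfsg.Agent.S5016
open Cfsg.Agent.H2.RankOne Cfsg.Agent.Lib.Helper8.RootClass

variable {ι : Type} [Fintype ι] [DecidableEq ι] {F : Type*} [Field F] {Q : (ι → F) → F}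
variable (hQ : Cfsg.Geo.IsNondegenerateQuadraticForm Q)

include hQ

/-- lines in general position have dual bases -/
lemma exists_opp_of_det {p r p' r' : ι → F} (h : SL Q p r) (h' : SL Q p' r')
    (hdet : pol Q p p' * pol Q r r' - pol Q p r' * pol Q r p' ≠ 0) :
    ∃ p₁ r₁ : ι → F, Opp Q p₁ r₁ p' r' ∧
      Submodule.span F {p₁, r₁} = Submodule.span F {p, r} := by
  set Δ := pol Q p p' * pol Q r r' - pol Q p r' * pol Q r p' with hΔ
  have hdet' : (pol Q r r' / Δ) * (pol Q p p' / Δ) - (-pol Q p r' / Δ) * (-pol Q r p' / Δ) ≠ 0 := by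
    have : (pol Q r r' / Δ) * (pol Q p p' / Δ) - (-pol Q p r' / Δ) * (-pol Q r p' / Δ) = 1 / Δ := by
      field_simp
      rw [hΔ]; ring
    rw [this]
    exact one_div_ne_zero hdet
  refine ⟨(pol Q r r' / Δ) • p + (-pol Q p r' / Δ) • r,
    (-pol Q r p' / Δ) • p + (pol Q p p' / Δ) • r, ?_, span_comb p r _ _ _ _ hdet'⟩
  have hs := h.comb hQ _ _ _ _ hdet'
  refine ⟨hs.qp, hs.qr, h'.qp, h'.qr, hs.pr, h'.pr, ?_, ?_, ?_, ?_⟩
  · rw [pol_add_left hQ, pol_smul_left hQ, pol_smul_left hQ]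
    field_simp
    rw [hΔ]; ring
  · rw [pol_add_left hQ, pol_smul_left hQ, pol_smul_left hQ]
    field_simp
    rw [hΔ]; ring
  · rw [pol_add_left hQ, pol_smul_left hQ, pol_smul_left hQ]
    field_simp
    ring
  · rw [pol_add_left hQ, pol_smul_left hQ, pol_smul_left hQ]
    field_simp
    ring

/-- the normal form for two lines whose Gram matrix has rank one -/
lemma rank_one_form {p₁ r₁ p₂ r₂ : ι → F} (h₁ : SL Q p₁ r₁) (h₂ : SL Q p₂ r₂)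
    (hdet : pol Q p₁ p₂ * pol Q r₁ r₂ - pol Q p₁ r₂ * pol Q r₁ p₂ = 0)
    (ht : pol Q r₁ r₂ ≠ 0) :
    ∃ a₁ b₁ a₂ b₂ : ι → F, SL Q a₁ b₁ ∧ SL Q a₂ b₂ ∧
      Submodule.span F {a₁, b₁} = Submodule.span F {p₁, r₁} ∧
      Submodule.span F {a₂, b₂} = Submodule.span F {p₂, r₂} ∧
      pol Q b₁ b₂ = 1 ∧ pol Q a₁ a₂ = 0 ∧ pol Q a₁ b₂ = 0 ∧ pol Q b₁ a₂ = 0 := by
  set t := pol Q r₁ r₂ with htdef
  have hd1 : (1 : F) * 1 - (-pol Q p₁ r₂ / t) * 0 ≠ 0 := by norm_num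
  have hd2 : (1 : F) * t⁻¹ - (-pol Q r₁ p₂ / t) * 0 ≠ 0 := by
    rw [mul_zero, sub_zero, one_mul]; exact inv_ne_zero ht
  refine ⟨(1 : F) • p₁ + (-pol Q p₁ r₂ / t) • r₁, (0 : F) • p₁ + (1 : F) • r₁,
    (1 : F) • p₂ + (-pol Q r₁ p₂ / t) • r₂, (0 : F) • p₂ + t⁻¹ • r₂,
    h₁.comb hQ _ _ _ _ hd1, h₂.comb hQ _ _ _ _ hd2, span_comb _ _ _ _ _ _ hd1,
    span_comb _ _ _ _ _ _ hd2, ?_, ?_, ?_, ?_⟩
  · simp only [pol_add_left hQ, pol_add_right hQ, pol_smul_left hQ, pol_smul_right hQ]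
    rw [← htdef]
    field_simp
    ring
  · simp only [pol_add_left hQ, pol_add_right hQ, pol_smul_left hQ, pol_smul_right hQ]
    rw [← htdef]
    field_simp
    linear_combination hdet
  · simp only [pol_add_left hQ, pol_add_right hQ, pol_smul_left hQ, pol_smul_right hQ]
    rw [← htdef]
    field_simp
    ring
  · simp only [pol_add_left hQ, pol_add_right hQ, pol_smul_left hQ, pol_smul_right hQ]
    rw [← htdef]
    field_simp
    ring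

/-- the same with any non-zero entry -/
lemma rank_one_form' {p₁ r₁ p₂ r₂ : ι → F} (h₁ : SL Q p₁ r₁) (h₂ : SL Q p₂ r₂)
    (hdet : pol Q p₁ p₂ * pol Q r₁ r₂ - pol Q p₁ r₂ * pol Q r₁ p₂ = 0)
    (hne : ¬ (pol Q p₁ p₂ = 0 ∧ pol Q p₁ r₂ = 0 ∧ pol Q r₁ p₂ = 0 ∧ pol Q r₁ r₂ = 0)) :
    ∃ a₁ b₁ a₂ b₂ : ι → F, SL Q a₁ b₁ ∧ SL Q a₂ b₂ ∧
      Submodule.span F {a₁, b₁} = Submodule.span F {p₁, r₁} ∧
      Submodule.span F {a₂, b₂} = Submodule.span F {p₂, r₂} ∧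
      pol Q b₁ b₂ = 1 ∧ pol Q a₁ a₂ = 0 ∧ pol Q a₁ b₂ = 0 ∧ pol Q b₁ a₂ = 0 := by
  by_cases h22 : pol Q r₁ r₂ = 0
  · by_cases h21 : pol Q r₁ p₂ = 0
    · by_cases h12 : pol Q p₁ r₂ = 0
      · have h11 : pol Q p₁ p₂ ≠ 0 := fun h11 => hne ⟨h11, h12, h21, h22⟩
        obtain ⟨a₁, b₁, a₂, b₂, ha, hb, hs1, hs2, hrest⟩ := rank_one_form hQ h₁.swap h₂.swap
          (by linear_combination hdet) h11
        refine ⟨a₁, b₁, a₂, b₂, ha, hb, ?_, ?_, hrest⟩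
        · rw [hs1, Set.pair_comm]
        · rw [hs2, Set.pair_comm]
      · obtain ⟨a₁, b₁, a₂, b₂, ha, hb, hs1, hs2, hrest⟩ := rank_one_form hQ h₁.swap h₂
          (by linear_combination -hdet) h12
        refine ⟨a₁, b₁, a₂, b₂, ha, hb, ?_, hs2, hrest⟩
        rw [hs1, Set.pair_comm]
    · obtain ⟨a₁, b₁, a₂, b₂, ha, hb, hs1, hs2, hrest⟩ := rank_one_form hQ h₁ h₂.swap
        (by linear_combination -hdet) h21
      refine ⟨a₁, b₁, a₂, b₂, ha, hb, hs1, ?_, hrest⟩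
      rw [hs2, Set.pair_comm]
  · exact rank_one_form hQ h₁ h₂ hdet h22

/-- the singular lines -/
def Line (Q : (ι → F) → F) : Type _ :=
  {W : Submodule F (ι → F) // ∃ p r : ι → F, SL Q p r ∧ W = Submodule.span F {p, r}}

/-- the three kinds of pairs of singular lines, at the level of `GL` -/
theorem TF_trichotomy (W₁ W₂ : Line Q) :
    (∀ x ∈ TF hQ W₁.1, ∀ y ∈ TF hQ W₂.1, x * y = y * x) ∨
    (∃ p r p' r' : ι → F, Opp Q p r p' r' ∧ W₁.1 = Submodule.span F {p, r} ∧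
      W₂.1 = Submodule.span F {r', p'}) ∨
    (∃ W₃ : Line Q,
      (∀ x ∈ TF hQ W₁.1, ∀ y ∈ TF hQ W₂.1, x * y * x⁻¹ * y⁻¹ ∈ TF hQ W₃.1) ∧
      (∀ z ∈ TF hQ W₃.1, ∀ x ∈ TF hQ W₁.1, z * x = x * z) ∧
      (∀ z ∈ TF hQ W₃.1, ∀ y ∈ TF hQ W₂.1, z * y = y * z) ∧
      (∀ x ∈ TF hQ W₁.1, x ≠ 1 → ∀ z ∈ TF hQ W₃.1, ∃ y ∈ TF hQ W₂.1, x * y * x⁻¹ * y⁻¹ = z) ∧
      (∀ y ∈ TF hQ W₂.1, y ≠ 1 → ∀ z ∈ TF hQ W₃.1,
        ∃ x ∈ TF hQ W₁.1, x * y * x⁻¹ * y⁻¹ = z)) := by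
  obtain ⟨W₁, p₁, r₁, h₁, rfl⟩ := W₁
  obtain ⟨W₂, p₂, r₂, h₂, rfl⟩ := W₂
  simp only
  by_cases hzero : pol Q p₁ p₂ = 0 ∧ pol Q p₁ r₂ = 0 ∧ pol Q r₁ p₂ = 0 ∧ pol Q r₁ r₂ = 0
  · left
    intro x hx y hy
    obtain ⟨c, rfl⟩ := (mem_TF_iff hQ h₁ x).1 hx
    obtain ⟨d, rfl⟩ := (mem_TF_iff hQ h₂ y).1 hy
    exact st_comm_of_perp hQ h₁ h₂ hzero.1 hzero.2.1 hzero.2.2.1 hzero.2.2.2 c d
  by_cases hdet : pol Q p₁ p₂ * pol Q r₁ r₂ - pol Q p₁ r₂ * pol Q r₁ p₂ = 0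
  · obtain ⟨a₁, b₁, a₂, b₂, ha, hb, hs1, hs2, hbb, haa, hab, hba⟩ :=
      rank_one_form' hQ h₁ h₂ hdet hzero
    rw [← hs1, ← hs2]
    have hab1 : pol Q a₁ b₁ = 0 := ha.pr
    by_cases hmem : a₂ ∈ Submodule.span F {a₁}
    · left
      obtain ⟨l, hl⟩ := Submodule.mem_span_singleton.1 hmem
      have hsl : SL Q a₁ b₂ := by
        refine ⟨?_, ha.qp, hb.qr, hab⟩
        rw [LinearIndependent.pair_iff]
        intro s t e
        have e1 := congrArg (fun z => pol Q b₁ z) e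
        simp only [pol_add_right hQ, pol_smul_right hQ, ha.rp hQ, hbb, pol_zero_right hQ] at e1
        have ht : t = 0 := by linear_combination e1
        rw [ht, zero_smul, add_zero] at e
        rcases smul_eq_zero.1 e with h3 | h3
        · exact ⟨h3, ht⟩
        · exact absurd h3 ha.p_ne
      intro x hx y hy
      obtain ⟨c, rfl⟩ := (mem_TF_iff hQ ha x).1 hx
      obtain ⟨d, rfl⟩ := (mem_TF_iff hQ hb y).1 hy
      rw [← hl, st_smul_left]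
      exact st_comm_of_meet hQ ha hsl c (l * d)
    · right; right
      have hsl : SL Q a₂ a₁ := by
        refine ⟨?_, hb.qp, ha.qp, by rw [pol_comm, haa]⟩
        rw [LinearIndependent.pair_iff]
        intro s t e
        by_cases hs : s = 0
        · rw [hs, zero_smul, zero_add] at e
          rcases smul_eq_zero.1 e with h3 | h3
          · exact ⟨hs, h3⟩
          · exact absurd h3 ha.p_ne
        · exfalso
          apply hmem
          rw [Submodule.mem_span_singleton]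
          refine ⟨-t / s, ?_⟩
          have : a₂ = (1 / s) • (s • a₂ + t • a₁) + (-t / s) • a₁ := by
            rw [smul_add, smul_smul, smul_smul, one_div, inv_mul_cancel₀ hs, one_smul]
            module
          rw [this, e, smul_zero, zero_add]
      have h21 : pol Q a₂ a₁ = 0 := by rw [pol_comm, haa]
      have h2b : pol Q a₂ b₁ = 0 := by rw [pol_comm, hba]
      refine ⟨⟨Submodule.span F {a₂, a₁}, a₂, a₁, hsl, rfl⟩, ?_, ?_, ?_, ?_, ?_⟩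
      · intro x hx y hy
        obtain ⟨c, rfl⟩ := (mem_TF_iff hQ ha x).1 hx
        obtain ⟨d, rfl⟩ := (mem_TF_iff hQ hb y).1 hy
        rw [st_commutator hQ ha hb hbb haa hab hba]
        exact st_mem_TF hQ hsl _
      · intro z hz x hx
        obtain ⟨e, rfl⟩ := (mem_TF_iff hQ hsl z).1 hz
        obtain ⟨c, rfl⟩ := (mem_TF_iff hQ ha x).1 hx
        exact st_comm_of_perp hQ hsl ha h21 h2b (ha.pp hQ) hab1 e c
      · intro z hz y hy
        obtain ⟨e, rfl⟩ := (mem_TF_iff hQ hsl z).1 hz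
        obtain ⟨d, rfl⟩ := (mem_TF_iff hQ hb y).1 hy
        exact st_comm_of_perp hQ hsl hb (hb.pp hQ) hb.pr haa hab e d
      · intro x hx hx1 z hz
        obtain ⟨c, rfl⟩ := (mem_TF_iff hQ ha x).1 hx
        obtain ⟨e, rfl⟩ := (mem_TF_iff hQ hsl z).1 hz
        have hc : c ≠ 0 := fun hc => hx1 ((st_eq_one_iff hQ ha c).2 hc)
        refine ⟨st hQ a₂ b₂ (e / c), st_mem_TF hQ hb _, ?_⟩
        rw [st_commutator hQ ha hb hbb haa hab hba, mul_div_cancel₀ e hc]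
      · intro y hy hy1 z hz
        obtain ⟨d, rfl⟩ := (mem_TF_iff hQ hb y).1 hy
        obtain ⟨e, rfl⟩ := (mem_TF_iff hQ hsl z).1 hz
        have hd : d ≠ 0 := fun hd => hy1 ((st_eq_one_iff hQ hb d).2 hd)
        refine ⟨st hQ a₁ b₁ (e / d), st_mem_TF hQ ha _, ?_⟩
        rw [st_commutator hQ ha hb hbb haa hab hba, div_mul_cancel₀ e hd]
  · right; left
    obtain ⟨p, r, hopp, hs⟩ := exists_opp_of_det hQ h₁ h₂ hdet
    exact ⟨p, r, p₂, r₂, hopp, hs.symm, Set.pair_comm _ _ ▸ rfl⟩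

end Cfsg.Agent.Lib.Helper7.Siegel
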