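import Mathlib
import Cfsg.Agent.Lib.Helper7.SiegelD

/-!
# The Siegel transvection groups form a set of `F`-root subgroups (helper7)
-/

set_option autoImplicit false
set_option linter.unusedSectionVars false

namespace Cfsg.Agent.Lib.Helper7.Siegel

open Cfsg Cfsg.Agent.H9.Orth Matrix Cfsg.Agent.S5016
open Cfsg.Agent.H2.RankOne Cfsg.Agent.Lib.Helper8.RootClass

variable {ι : Type} [Fintype ι] [DecidableEq ι] {F : Type*} [Field F] {Q : (ι → F) → F}
variable (hQ : Cfsg.Geo.IsNondegenerateQuadraticForm Q)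

include hQ

lemma TF_ne_bot (W : Line Q) : TF hQ W.1 ≠ ⊥ := by
  obtain ⟨W, p, r, h, rfl⟩ := W
  intro e
  have h1 := st_mem_TF hQ h 1
  rw [e, Subgroup.mem_bot, st_eq_one_iff hQ h] at h1
  exact one_ne_zero h1

lemma TF_comm (W : Line Q) : ∀ x ∈ TF hQ W.1, ∀ y ∈ TF hQ W.1, x * y = y * x := by
  obtain ⟨W, p, r, h, rfl⟩ := W
  intro x hx y hy
  obtain ⟨c, rfl⟩ := (mem_TF_iff hQ h x).1 hx
  obtain ⟨d, rfl⟩ := (mem_TF_iff hQ h y).1 hy
  exact st_comm hQ h c d

/-- the image of a singular line under an isometry -/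
def Line.map (W : Line Q) (g : GL ι F) (hg : g ∈ Cfsg.isometryGroup F Q) : Line Q :=
  ⟨W.1.map (Matrix.mulVecLin (g : Matrix ι ι F)), by
    obtain ⟨W, p, r, h, rfl⟩ := W
    exact ⟨act g p, act g r, h.act g hg, map_span_pair g p r⟩⟩

section System

variable {H : Type*} [Group H] (ψ : H →* GL ι F) (hψ : Function.Injective ψ)
  (hrange : ∀ x, ψ x ∈ Cfsg.isometryGroup F Q)
  (A : Line Q → Subgroup H) (hA : ∀ W, (A W).map ψ = TF hQ W.1)

include hψ hA

lemma rankOne_of_opp {p r p' r' : ι → F} (hopp : Opp Q p r p' r') (W₁ W₂ : Line Q)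
    (hW₁ : W₁.1 = Submodule.span F {p, r}) (hW₂ : W₂.1 = Submodule.span F {r', p'}) :
    IsRankOnePair (A W₁) (A W₂) ∧ IsPSL2PairOver F (A W₁) (A W₂) := by
  apply psl2pair_of_hom' ψ hψ (phi hQ hopp) (phi_injective hQ hopp)
  · rw [map_upper, hA, hW₁]
  · rw [map_lower, hA, hW₂]

lemma rankOne_of_det {p r p' r' : ι → F} (h : SL Q p r) (h' : SL Q p' r')
    (hdet : pol Q p p' * pol Q r r' - pol Q p r' * pol Q r p' ≠ 0) (W₁ W₂ : Line Q)
    (hW₁ : W₁.1 = Submodule.span F {p, r}) (hW₂ : W₂.1 = Submodule.span F {p', r'}) :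
    IsRankOnePair (A W₁) (A W₂) := by
  obtain ⟨p₁, r₁, hopp, hs⟩ := exists_opp_of_det hQ h h' hdet
  exact (rankOne_of_opp hQ ψ hψ A hA hopp W₁ W₂ (by rw [hW₁, hs])
    (by rw [hW₂, Set.pair_comm])).1

include hrange

theorem rootSystem3_of : RootSystem3 F A := by
  have hmem : ∀ W, ∀ a ∈ A W, ψ a ∈ TF hQ W.1 := by
    intro W a ha
    rw [← hA W]
    exact ⟨a, ha, rfl⟩
  refine ⟨?_, ?_, ?_, ?_⟩
  · intro W a ha b hb
    apply hψ
    rw [map_mul, map_mul]
    exact TF_comm hQ W _ (hmem W a ha) _ (hmem W b hb)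
  · intro W e
    apply TF_ne_bot hQ W
    rw [← hA W, e, Subgroup.map_bot]
  · intro W g
    refine ⟨W.map (ψ g) (hrange g), ?_⟩
    apply Subgroup.map_injective hψ
    rw [map_conjBy, hA, hA]
    exact conj_TF hQ (ψ g) (hrange g) W.1
  · intro W₁ W₂
    rcases TF_trichotomy hQ W₁ W₂ with h | ⟨p, r, p', r', hopp, h1, h2⟩ |
      ⟨W₃, h1, h2, h3, h4, h5⟩
    · left
      intro a ha b hb
      apply hψ
      rw [map_mul, map_mul]
      exact h _ (hmem W₁ a ha) _ (hmem W₂ b hb)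
    · right; left
      exact rankOne_of_opp hQ ψ hψ A hA hopp W₁ W₂ h1 h2
    · right; right
      have hne : A W₁ ≠ ⊥ := by
        intro e
        apply TF_ne_bot hQ W₁
        rw [← hA W₁, e, Subgroup.map_bot]
      apply commutatorCase_of_map ψ hψ (S := Set.range A) (C := A W₃) (Set.mem_range_self W₃) hne
      · rw [hA, hA, hA]; exact h1
      · rw [hA, hA]; exact h2
      · rw [hA, hA]; exact h3
      · rw [hA, hA, hA]; exact h4
      · rw [hA, hA, hA]; exact h5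

end System

end Cfsg.Agent.Lib.Helper7.Siegel
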