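import Mathlib
import Cfsg.Agent.Lib.Helper7.SiegelE
import Cfsg.Agent.H9.OrthN

/-!
# Connectedness of the graph of rank one pairs for the hyperbolic quadratic form (helper7)
-/

set_option autoImplicit false
set_option linter.unusedSectionVars false
set_option linter.unusedSimpArgs false

namespace Cfsg.Agent.Lib.Helper7.Siegel

open Cfsg Cfsg.Agent.H9.Orth Matrix

section Coord

variable {F : Type*} [Field F] (n : ℕ)

/-- the coordinate vectors -/
def E (c : Fin n ⊕ Fin n) : Fin n ⊕ Fin n → F := Pi.single c 1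

lemma E_apply (c d : Fin n ⊕ Fin n) : (E n c : Fin n ⊕ Fin n → F) d = if d = c then 1 else 0 := by
  rw [E, Pi.single_apply]

lemma pol_E_right (x : Fin n ⊕ Fin n → F) (c : Fin n ⊕ Fin n) :
    pol (Cfsg.quadFormPlus n F) x (E n c) = x (Sum.swap c) := by
  rw [pol, polar_quadFormPlus]
  rcases c with j | j
  · simp [E_apply, Finset.sum_ite_eq']
  · simp [E_apply, Finset.sum_ite_eq']

lemma pol_E_left (x : Fin n ⊕ Fin n → F) (c : Fin n ⊕ Fin n) :
    pol (Cfsg.quadFormPlus n F) (E n c) x = x (Sum.swap c) := by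
  rw [pol_comm, pol_E_right]

lemma Q_E (c : Fin n ⊕ Fin n) : Cfsg.quadFormPlus n F (E n c) = 0 := by
  unfold Cfsg.quadFormPlus
  apply Finset.sum_eq_zero
  intro i _
  rcases c with j | j
  · simp [E_apply]
  · simp [E_apply]

/-- the index of a coordinate -/
def idx : Fin n ⊕ Fin n → Fin n := Sum.elim id id

lemma idx_swap (c : Fin n ⊕ Fin n) : idx n (Sum.swap c) = idx n c := by
  rcases c with j | j <;> rfl

lemma ne_of_idx {c d : Fin n ⊕ Fin n} (h : idx n c ≠ idx n d) : c ≠ d := fun e => h (by rw [e])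

lemma ne_swap_of_idx {c d : Fin n ⊕ Fin n} (h : idx n c ≠ idx n d) : c ≠ Sum.swap d :=
  fun e => h (by rw [e, idx_swap])

lemma swap_ne_of_idx {c d : Fin n ⊕ Fin n} (h : idx n c ≠ idx n d) : Sum.swap c ≠ d :=
  fun e => h (by rw [← e, idx_swap])

lemma idx_eq_cases {c d : Fin n ⊕ Fin n} (h : idx n c = idx n d) : c = d ∨ c = Sum.swap d := by
  rcases c with i | i <;> rcases d with j | j <;> simp [idx] at h <;> subst h <;> simp

lemma exists_third (hn : 3 ≤ n) (i j : Fin n) : ∃ k : Fin n, k ≠ i ∧ k ≠ j := by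
  by_contra hcon
  push Not at hcon
  have hsub : (Finset.univ : Finset (Fin n)) ⊆ {i, j} := by
    intro k _
    by_cases hk : k = i
    · simp [hk]
    · simp [hcon k hk]
  have := Finset.card_le_card hsub
  rw [Finset.card_univ, Fintype.card_fin] at this
  have h2 : ({i, j} : Finset (Fin n)).card ≤ 2 := Finset.card_le_two
  omega

/-- coordinate lines -/
lemma SL_E {c d : Fin n ⊕ Fin n} (h : idx n c ≠ idx n d) :
    SL (Cfsg.quadFormPlus n F) (E n c) (E n d) := by
  refine ⟨?_, Q_E n c, Q_E n d, ?_⟩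
  · rw [LinearIndependent.pair_iff]
    intro s t e
    have e1 := congrFun e c
    have e2 := congrFun e d
    simp only [Pi.add_apply, Pi.smul_apply, E_apply, smul_eq_mul, Pi.zero_apply, if_true,
      if_neg (ne_of_idx n h), if_neg (ne_of_idx n h).symm] at e1 e2
    exact ⟨by linear_combination e1, by linear_combination e2⟩
  · rw [pol_E_left, E_apply, if_neg (swap_ne_of_idx n h)]

/-- the line `⟨e_c, e_d + e_d'⟩` -/
lemma SL_E_add {c d d' : Fin n ⊕ Fin n} (h : idx n c ≠ idx n d) (h' : idx n c ≠ idx n d')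
    (hdd : idx n d ≠ idx n d') :
    SL (Cfsg.quadFormPlus n F) (E n c) (E n d + E n d') := by
  refine ⟨?_, Q_E n c, ?_, ?_⟩
  · rw [LinearIndependent.pair_iff]
    intro s t e
    have e1 := congrFun e c
    have e2 := congrFun e d
    simp only [Pi.add_apply, Pi.smul_apply, E_apply, smul_eq_mul, Pi.zero_apply, if_true,
      if_neg (ne_of_idx n h), if_neg (ne_of_idx n h).symm, if_neg (ne_of_idx n h'),
      if_neg (ne_of_idx n hdd)] at e1 e2
    exact ⟨by linear_combination e1, by linear_combination e2⟩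
  · rw [Q_add (Cfsg.quadFormPlus n F), Q_E, Q_E, pol_E_left, E_apply,
      if_neg (swap_ne_of_idx n hdd)]
    ring
  · rw [pol_add_right (isNondeg_quadFormPlus n), pol_E_left, pol_E_left, E_apply, E_apply,
      if_neg (swap_ne_of_idx n h), if_neg (swap_ne_of_idx n h'), add_zero]

/-- every singular line has an invertible minor on two coordinates with different indices -/
lemma exists_minor {p r : Fin n ⊕ Fin n → F} (h : SL (Cfsg.quadFormPlus n F) p r) :
    ∃ c d : Fin n ⊕ Fin n, idx n c ≠ idx n d ∧ p c * r d - p d * r c ≠ 0 := by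
  have hQ := isNondeg_quadFormPlus (F := F) n
  by_contra hcon
  push Not at hcon
  obtain ⟨c₀, hc₀⟩ : ∃ c₀, p c₀ ≠ 0 := by
    by_contra h0
    push Not at h0
    exact h.p_ne (funext h0)
  set l := r c₀ / p c₀ with hl
  set r' := r - l • p with hr'
  have hr'c : r' c₀ = 0 := by
    rw [hr', Pi.sub_apply, Pi.smul_apply, smul_eq_mul, hl]
    field_simp
    ring
  have hr'd : ∀ d, idx n c₀ ≠ idx n d → r' d = 0 := by
    intro d hd
    have := hcon c₀ d hd
    rw [hr', Pi.sub_apply, Pi.smul_apply, smul_eq_mul, hl]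
    field_simp
    linear_combination this
  have hr'eq : r' = r' (Sum.swap c₀) • E n (Sum.swap c₀) := by
    funext d
    rw [Pi.smul_apply, smul_eq_mul, E_apply]
    by_cases hd : idx n c₀ = idx n d
    · rcases idx_eq_cases n hd with e | e
      · rw [← e, hr'c, if_neg]
        · ring
        · intro e'
          rcases c₀ with j | j <;> simp at e'
      · have e' : d = Sum.swap c₀ := by rw [e, Sum.swap_swap]
        rw [if_pos e', e', mul_one]
    · rw [hr'd d hd, if_neg]
      · ring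
      · intro e'
        apply hd
        rw [e', idx_swap]
  have hpol : pol (Cfsg.quadFormPlus n F) p r' = 0 := by
    rw [hr', pol_sub_right hQ, pol_smul_right hQ, h.pr, h.pp hQ]
    ring
  rw [hr'eq, pol_smul_right hQ, pol_E_right, Sum.swap_swap] at hpol
  have hmu : r' (Sum.swap c₀) = 0 := (mul_eq_zero.1 hpol).resolve_right hc₀
  rw [hmu, zero_smul] at hr'eq
  have := h.ind (s := -l) (t := 1) (by rw [← hr'eq, hr']; module)
  exact one_ne_zero this.2

end Coord

section Conn

variable {ι : Type} [Fintype ι] [DecidableEq ι] {F : Type*} [Field F] {Q : (ι → F) → F}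

/-- the singular line with a given basis -/
def mkLine {p r : ι → F} (h : SL Q p r) : Line Q := ⟨Submodule.span F {p, r}, p, r, h, rfl⟩

lemma mkLine_swap {p r : ι → F} (h : SL Q p r) : mkLine h.swap = mkLine h :=
  Subtype.ext (by show Submodule.span F {r, p} = Submodule.span F {p, r}; rw [Set.pair_comm])

lemma FAdj_symm {G : Type*} [Group G] {S : Set (Subgroup G)} {X Y : Subgroup G}
    (h : FAdj S X Y) : FAdj S Y X := ⟨h.2.1, h.1, RankOnePair_symm h.2.2⟩

variable (hQ : Cfsg.Geo.IsNondegenerateQuadraticForm Q)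
variable {H : Type*} [Group H] (ψ : H →* GL ι F) (hψ : Function.Injective ψ)
  (A : Line Q → Subgroup H) (hA : ∀ W, (A W).map ψ = TF hQ W.1)

/-- connectedness in the graph of rank one pairs -/
def conn (A : Line Q → Subgroup H) (W W' : Line Q) : Prop :=
  Relation.ReflTransGen (FAdj (Set.range A)) (A W) (A W')

lemma conn_refl (W : Line Q) : conn A W W := Relation.ReflTransGen.refl

lemma conn_trans {W₁ W₂ W₃ : Line Q} (h₁ : conn A W₁ W₂) (h₂ : conn A W₂ W₃) : conn A W₁ W₃ :=
  Relation.ReflTransGen.trans h₁ h₂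

omit [Fintype ι] [DecidableEq ι] [Field F] in
lemma rtg_symm {α : Type*} {r : α → α → Prop} (hr : ∀ a b, r a b → r b a) {a b : α}
    (h : Relation.ReflTransGen r a b) : Relation.ReflTransGen r b a := by
  induction h with
  | refl => exact Relation.ReflTransGen.refl
  | tail _ hbc ih => exact Relation.ReflTransGen.head (hr _ _ hbc) ih

lemma conn_symm {W₁ W₂ : Line Q} (h : conn A W₁ W₂) : conn A W₂ W₁ :=
  rtg_symm (fun _ _ h => FAdj_symm h) h

include hψ hA

lemma conn_of_det {p r p' r' : ι → F} (h : SL Q p r) (h' : SL Q p' r')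
    (hdet : pol Q p p' * pol Q r r' - pol Q p r' * pol Q r p' ≠ 0) :
    conn A (mkLine h) (mkLine h') :=
  Relation.ReflTransGen.single ⟨⟨_, rfl⟩, ⟨_, rfl⟩,
    rankOne_of_det hQ ψ hψ A hA h h' hdet (mkLine h) (mkLine h') rfl rfl⟩

lemma conn_of_common {p₁ r₁ p₂ r₂ p₃ r₃ : ι → F} (h₁ : SL Q p₁ r₁) (h₂ : SL Q p₂ r₂)
    (h₃ : SL Q p₃ r₃)
    (hd₁ : pol Q p₁ p₃ * pol Q r₁ r₃ - pol Q p₁ r₃ * pol Q r₁ p₃ ≠ 0)
    (hd₂ : pol Q p₂ p₃ * pol Q r₂ r₃ - pol Q p₂ r₃ * pol Q r₂ p₃ ≠ 0) :
    conn A (mkLine h₁) (mkLine h₂) :=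
  conn_trans A (conn_of_det hQ ψ hψ A hA h₁ h₃ hd₁)
    (conn_symm A (conn_of_det hQ ψ hψ A hA h₂ h₃ hd₂))

end Conn

section Plus

variable {F : Type*} [Field F] {n : ℕ}
variable {H : Type*} [Group H] (ψ : H →* GL (Fin n ⊕ Fin n) F) (hψ : Function.Injective ψ)
  (A : Line (Cfsg.quadFormPlus n F) → Subgroup H)
  (hA : ∀ W, (A W).map ψ = TF (isNondeg_quadFormPlus n) W.1)

include hψ hA

/-- changing the second coordinate to one with a new index -/
lemma conn_E_step {c d d' : Fin n ⊕ Fin n} (h : idx n c ≠ idx n d) (h' : idx n c ≠ idx n d')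
    (hdd : idx n d ≠ idx n d') :
    conn A (mkLine (SL_E (F := F) n h)) (mkLine (SL_E (F := F) n h')) := by
  have hQ := isNondeg_quadFormPlus (F := F) n
  have hs : SL (Cfsg.quadFormPlus n F) (E n (Sum.swap c)) (E n (Sum.swap d) + E n (Sum.swap d')) :=
    SL_E_add n (by rw [idx_swap, idx_swap]; exact h) (by rw [idx_swap, idx_swap]; exact h')
      (by rw [idx_swap, idx_swap]; exact hdd)
  apply conn_of_common hQ ψ hψ A hA _ _ hs
  · simp only [pol_add_right hQ, pol_E_right, Sum.swap_swap, E_apply, if_true,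
      if_neg (ne_of_idx n h), if_neg (ne_of_idx n h).symm, if_neg (ne_of_idx n hdd),
      if_neg (ne_of_idx n hdd).symm, if_neg (ne_of_idx n h'), if_neg (ne_of_idx n h').symm]
    norm_num
  · simp only [pol_add_right hQ, pol_E_right, Sum.swap_swap, E_apply, if_true,
      if_neg (ne_of_idx n h), if_neg (ne_of_idx n h).symm, if_neg (ne_of_idx n hdd),
      if_neg (ne_of_idx n hdd).symm, if_neg (ne_of_idx n h'), if_neg (ne_of_idx n h').symm]
    norm_num

/-- changing the second coordinate arbitrarily -/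
lemma conn_E_snd (hn : 3 ≤ n) {c d d' : Fin n ⊕ Fin n} (h : idx n c ≠ idx n d)
    (h' : idx n c ≠ idx n d') :
    conn A (mkLine (SL_E (F := F) n h)) (mkLine (SL_E (F := F) n h')) := by
  by_cases hdd : idx n d = idx n d'
  · obtain ⟨k, hk1, hk2⟩ := exists_third n hn (idx n c) (idx n d)
    have he1 : idx n c ≠ idx n (Sum.inl k : Fin n ⊕ Fin n) := fun e => hk1 e.symm
    have he2 : idx n d ≠ idx n (Sum.inl k : Fin n ⊕ Fin n) := fun e => hk2 e.symm
    have he3 : idx n (Sum.inl k : Fin n ⊕ Fin n) ≠ idx n d' := by rw [← hdd]; exact he2.symm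
    exact conn_trans A (conn_E_step ψ hψ A hA h he1 he2) (conn_E_step ψ hψ A hA he1 h' he3)
  · exact conn_E_step ψ hψ A hA h h' hdd

lemma conn_E_swap {c d : Fin n ⊕ Fin n} (h : idx n c ≠ idx n d) :
    conn A (mkLine (SL_E (F := F) n h)) (mkLine (SL_E (F := F) n h.symm)) := by
  have : mkLine (SL_E (F := F) n h.symm) = mkLine (SL_E (F := F) n h) :=
    mkLine_swap (SL_E (F := F) n h)
  rw [this]
  exact conn_refl A _

/-- all coordinate lines are connected -/
lemma conn_E (hn : 3 ≤ n) {c d c' d' : Fin n ⊕ Fin n} (h : idx n c ≠ idx n d)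
    (h' : idx n c' ≠ idx n d') :
    conn A (mkLine (SL_E (F := F) n h)) (mkLine (SL_E (F := F) n h')) := by
  obtain ⟨k, hk1, hk2⟩ := exists_third n hn (idx n c) (idx n c')
  have hx1 : idx n c ≠ idx n (Sum.inl k : Fin n ⊕ Fin n) := fun e => hk1 e.symm
  have hx2 : idx n c' ≠ idx n (Sum.inl k : Fin n ⊕ Fin n) := fun e => hk2 e.symm
  -- (c,d) → (c,x) → (x,c) → (x,c') → (c',x) → (c',d')
  refine conn_trans A (conn_E_snd ψ hψ A hA hn h hx1) ?_
  refine conn_trans A (conn_E_swap ψ hψ A hA hx1) ?_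
  refine conn_trans A (conn_E_snd ψ hψ A hA hn hx1.symm hx2.symm) ?_
  refine conn_trans A (conn_E_swap ψ hψ A hA hx2.symm) ?_
  exact conn_E_snd ψ hψ A hA hn hx2 h'

/-- every singular line is connected to a coordinate line -/
lemma conn_to_E {p r : Fin n ⊕ Fin n → F} (h : SL (Cfsg.quadFormPlus n F) p r) :
    ∃ (c d : Fin n ⊕ Fin n) (hcd : idx n c ≠ idx n d),
      conn A (mkLine h) (mkLine (SL_E (F := F) n hcd)) := by
  have hQ := isNondeg_quadFormPlus (F := F) n
  obtain ⟨c, d, hcd, hminor⟩ := exists_minor n h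
  have hcd' : idx n (Sum.swap c) ≠ idx n (Sum.swap d) := by rw [idx_swap, idx_swap]; exact hcd
  refine ⟨Sum.swap c, Sum.swap d, hcd', ?_⟩
  apply conn_of_det hQ ψ hψ A hA
  rw [pol_E_right, pol_E_right, pol_E_right, pol_E_right, Sum.swap_swap, Sum.swap_swap]
  exact hminor

/-- **the graph of rank one pairs is connected** -/
theorem conn_all (hn : 3 ≤ n) (W W' : Line (Cfsg.quadFormPlus n F)) : conn A W W' := by
  obtain ⟨W, p, r, h, rfl⟩ := W
  obtain ⟨W', p', r', h', rfl⟩ := W'
  obtain ⟨c, d, hcd, h1⟩ := conn_to_E ψ hψ A hA h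
  obtain ⟨c', d', hcd', h2⟩ := conn_to_E ψ hψ A hA h'
  exact conn_trans A h1 (conn_trans A (conn_E ψ hψ A hA hn hcd hcd') (conn_symm A h2))

theorem isConnectedFamily (hn : 3 ≤ n) :
    IsConnectedFamily (FAdj (Set.range A)) (Set.range A) := by
  rintro _ ⟨W, rfl⟩ _ ⟨W', rfl⟩
  exact conn_all ψ hψ A hA hn W W'

end Plus

end Cfsg.Agent.Lib.Helper7.Siegel
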