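import Mathlib
import Cfsg.Prelude.Def_FusionSystem
import Cfsg.Prelude.Def_Solvable
import Cfsg.Agent.Lib.Helper7.GroupNormalSubsystem

set_option autoImplicit false

namespace Cfsg.Agent.Lib.Helper7

open Cfsg Cfsg.FusionSystem

theorem isSimpleGroup_of_simple_gfs {G : Type*} [Group G] [Finite G] (p : ℕ) [Fact p.Prime] (S : Sylow p G)
    (hsimple : (Cfsg.groupFusionSystem (S : Subgroup G)).IsSimple p)
    (hcore : Cfsg.pPrimeCore p G = ⊥)
    (hmin : ∀ (H : Subgroup G) (hSH : (S : Subgroup G) ≤ H), H ≠ ⊤ →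
      ∃ P : Subgroup G, (Cfsg.fusionSystemOfSubgroup H (S : Subgroup G) hSH).Hom P ≠
        (Cfsg.groupFusionSystem (S : Subgroup G)).Hom P) : IsSimpleGroup G := by
  have hp : p.Prime := Fact.out
  obtain ⟨-, hSne, hall⟩ := hsimple
  haveI : Nontrivial G := by
    by_contra hnt
    rw [not_nontrivial_iff_subsingleton] at hnt
    exact hSne (Subsingleton.elim _ _)
  refine ⟨fun N hN => ?_⟩
  haveI := hN
  rcases hall _ _ (fsos_isNormalIn p S N) with h0 | ⟨h1, h2⟩
  · left
    have hsyl := isSylowIn_inf_normal p S N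
    rw [h0] at hsyl
    have hc := hsyl.2
    rw [Subgroup.card_bot] at hc
    have hcop : (Nat.card N).Coprime p := by
      rw [Nat.coprime_comm, hp.coprime_iff_not_dvd]
      intro hdvd
      have hpos : 0 < (Nat.card N).factorization p :=
        hp.factorization_pos_of_dvd Nat.card_pos.ne' hdvd
      have : 1 < p ^ (Nat.card N).factorization p := Nat.one_lt_pow hpos.ne' hp.one_lt
      omega
    have hle : N ≤ pPrimeCore p G := le_sSup ⟨hN, hcop⟩
    rw [hcore] at hle
    exact le_bot_iff.mp hle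
  · right
    by_contra hne
    have hSN : (S : Subgroup G) ≤ N := by rw [← h1]; exact inf_le_right
    obtain ⟨P, hP⟩ := hmin N hSN hne
    apply hP
    rw [← h2 P]
    ext φ
    constructor
    · rintro ⟨a, b, c⟩
      exact ⟨by rw [h1]; exact a, fun x => by rw [h1]; exact b x, c⟩
    · rintro ⟨a, b, c⟩
      exact ⟨by rw [← h1]; exact a, fun x => by rw [← h1]; exact b x, c⟩

end Cfsg.Agent.Lib.Helper7
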