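import Mathlib
import Cfsg.Agent.Lib.Lead.OmegaFaithful

/-!
# Automorphisms of order prime to `p` acting "trivially along a chain on small elements"

`Small p x` : `x ^ p = 1`, or `p = 2` and `x ^ 4 = 1`.

`eq_one_of_chain` : let `G` be a group of automorphisms of the finite `p`-group `P`, `T ⊆ G`, and `V 0 ≥ V 1 ≥ …`
subgroups of `P` with `V m = ⊥` such that `p'`-elements of `G` act trivially modulo `V 0`, every `V k` is
"`G`-invariant on small elements", and the elements of `T` act trivially on `V k` modulo `V (k+1)` on small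
elements. Then every `p'`-element of the normal closure of `T` in `G` is trivial.
-/

set_option autoImplicit false
set_option linter.unusedSectionVars false
set_option linter.unusedVariables false
set_option linter.style.haveILetI false

namespace Cfsg.Agent.Lib.Helper7.SmallChain

open scoped commutatorElement
open Cfsg.Agent.Lib.Lead.OmegaFaithful

variable {P : Type*} [Group P]

/-- small element: of order dividing `p`, or dividing `4` if `p = 2` -/
def Small (p : ℕ) (x : P) : Prop := x ^ p = 1 ∨ (p = 2 ∧ x ^ 4 = 1)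

theorem small_one (p : ℕ) : Small p (1 : P) := Or.inl (one_pow _)

theorem small_inv {p : ℕ} {x : P} (h : Small p x) : Small p x⁻¹ := by
  rcases h with h | ⟨h2, h⟩
  · left; rw [inv_pow, h, inv_one]
  · right; exact ⟨h2, by rw [inv_pow, h, inv_one]⟩

theorem small_map {p : ℕ} (γ : MulAut P) {x : P} (hs : Small p x) : Small p (γ x) := by
  rcases hs with h | ⟨h2, h⟩
  · left; rw [← map_pow, h, map_one]
  · right; exact ⟨h2, by rw [← map_pow, h, map_one]⟩

theorem small_two {x : P} (h : Small 2 x) : x ^ 4 = 1 := by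
  rcases h with h | ⟨-, h⟩
  · calc x ^ 4 = (x ^ 2) ^ 2 := by rw [← pow_mul]
      _ = 1 := by rw [h, one_pow]
  · exact h

theorem small_odd {p : ℕ} (hp2 : p ≠ 2) {x : P} (h : Small p x) : x ^ p = 1 := by
  rcases h with h | ⟨h2, -⟩
  · exact h
  · exact absurd h2 hp2

/-- general identity `b a = a b [b⁻¹, a⁻¹]` -/
theorem mul_comm_comm (a b : P) : b * a = a * b * ⁅b⁻¹, a⁻¹⁆ := by
  rw [commutatorElement_def]; group

/-- in a subgroup `H` whose `agemo` is central, the product of two elements `a`, `b` with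
`a ^ p * b ^ p = 1` is small. -/
theorem small_mul_of_central {p : ℕ} [hp : Fact p.Prime] (H : Subgroup P)
    (hcent : ∀ y ∈ agemo p H, ∀ w ∈ H, y * w = w * y) {a b : P} (ha : a ∈ H) (hb : b ∈ H)
    (hab : a ^ p * b ^ p = 1) : Small p (a * b) := by
  have hzN : ⁅b⁻¹, a⁻¹⁆ ∈ agemo p H := comm_mem_agemo (H.inv_mem hb) (H.inv_mem ha)
  have hrel : b * a = a * b * ⁅b⁻¹, a⁻¹⁆ := mul_comm_comm a b
  have hza : ⁅b⁻¹, a⁻¹⁆ * a = a * ⁅b⁻¹, a⁻¹⁆ := hcent _ hzN _ ha
  have hzb : ⁅b⁻¹, a⁻¹⁆ * b = b * ⁅b⁻¹, a⁻¹⁆ := hcent _ hzN _ hb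
  have hpow := class_two_pow hrel hza hzb
  have hcomm := class_two_pow_comm hrel hza hzb p
  have hbp : b ^ p ∈ agemo p H := pow_mem_agemo hb
  have hzp : ⁅b⁻¹, a⁻¹⁆ ^ p = 1 := by
    have h1 : b ^ p * a = a * b ^ p := hcent _ hbp _ ha
    rw [h1] at hcomm
    have : a * b ^ p * 1 = a * b ^ p * ⁅b⁻¹, a⁻¹⁆ ^ p := by rw [mul_one]; exact hcomm
    exact (mul_left_cancel this).symm
  rcases Nat.Prime.eq_two_or_odd hp.out with h2 | hodd
  · right
    refine ⟨h2, ?_⟩
    have e2 := hpow 2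
    rw [h2] at hab hzp
    rw [hab, one_mul] at e2
    have e3 : ∑ i ∈ Finset.range 2, i = 1 := by decide
    rw [e3, pow_one] at e2
    calc (a * b) ^ 4 = ((a * b) ^ 2) ^ 2 := by rw [← pow_mul]
      _ = 1 := by rw [e2, hzp]
  · left
    have e2 := hpow p
    rw [hab, one_mul, sum_range_prime_odd hodd, pow_mul, hzp, one_pow] at e2
    exact e2

/-- in a subgroup `H` whose `agemo` is central, the small elements are closed under products. -/
theorem small_mul {p : ℕ} [hp : Fact p.Prime] (H : Subgroup P)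
    (hcent : ∀ y ∈ agemo p H, ∀ w ∈ H, y * w = w * y) {a b : P} (ha : a ∈ H) (hb : b ∈ H)
    (hsa : Small p a) (hsb : Small p b) : Small p (a * b) := by
  by_cases hp2 : p = 2
  · subst hp2
    right
    refine ⟨rfl, ?_⟩
    have ha4 := small_two hsa
    have hb4 := small_two hsb
    have hzN : ⁅b⁻¹, a⁻¹⁆ ∈ agemo 2 H := comm_mem_agemo (H.inv_mem hb) (H.inv_mem ha)
    have hrel : b * a = a * b * ⁅b⁻¹, a⁻¹⁆ := mul_comm_comm a b
    have hza : ⁅b⁻¹, a⁻¹⁆ * a = a * ⁅b⁻¹, a⁻¹⁆ := hcent _ hzN _ ha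
    have hzb : ⁅b⁻¹, a⁻¹⁆ * b = b * ⁅b⁻¹, a⁻¹⁆ := hcent _ hzN _ hb
    have hpow := class_two_pow hrel hza hzb 4
    have hcomm := class_two_pow_comm hrel hza hzb 2
    have hbp : b ^ 2 ∈ agemo 2 H := pow_mem_agemo hb
    have hzp : ⁅b⁻¹, a⁻¹⁆ ^ 2 = 1 := by
      have h1 : b ^ 2 * a = a * b ^ 2 := hcent _ hbp _ ha
      rw [h1] at hcomm
      have : a * b ^ 2 * 1 = a * b ^ 2 * ⁅b⁻¹, a⁻¹⁆ ^ 2 := by rw [mul_one]; exact hcomm
      exact (mul_left_cancel this).symm
    have e3 : ∑ i ∈ Finset.range 4, i = 2 * 3 := by decide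
    rw [ha4, hb4, e3, pow_mul, hzp, one_pow, one_mul, one_mul] at hpow
    exact hpow
  · apply small_mul_of_central H hcent ha hb
    rw [small_odd hp2 hsa, small_odd hp2 hsb, one_mul]

/-- the subgroup of small elements of `H`, when `agemo p H` is central in `H` -/
def smallSub {p : ℕ} [hp : Fact p.Prime] (H : Subgroup P)
    (hcent : ∀ y ∈ agemo p H, ∀ w ∈ H, y * w = w * y) : Subgroup P where
  carrier := {x | x ∈ H ∧ Small p x}
  one_mem' := ⟨H.one_mem, small_one p⟩
  mul_mem' := by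
    rintro a b ⟨ha, hsa⟩ ⟨hb, hsb⟩
    exact ⟨H.mul_mem ha hb, small_mul H hcent ha hb hsa hsb⟩
  inv_mem' := by
    rintro a ⟨ha, hsa⟩
    exact ⟨H.inv_mem ha, small_inv hsa⟩

theorem mem_smallSub {p : ℕ} [hp : Fact p.Prime] {H : Subgroup P}
    {hcent : ∀ y ∈ agemo p H, ∀ w ∈ H, y * w = w * y} {x : P} :
    x ∈ smallSub H hcent ↔ x ∈ H ∧ Small p x := Iff.rfl

/-- if `a` fixes `agemo p H` pointwise and `agemo p H` is central in the `a`-invariant subgroup `H`, then
`x⁻¹ a(x)` is small for `x ∈ H`. -/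
theorem small_comm_of_central {p : ℕ} [hp : Fact p.Prime] (H : Subgroup P)
    (hcent : ∀ y ∈ agemo p H, ∀ w ∈ H, y * w = w * y) (a : MulAut P) (hinv : ∀ x ∈ H, a x ∈ H)
    (hNfix : ∀ y ∈ agemo p H, a y = y) {x : P} (hx : x ∈ H) : Small p (x⁻¹ * a x) := by
  apply small_mul_of_central H hcent (H.inv_mem hx) (hinv x hx)
  have h1 : a (x ^ p) = x ^ p := hNfix _ (pow_mem_agemo hx)
  rw [map_pow] at h1
  rw [h1, inv_pow, inv_mul_cancel]

/-- if `a` fixes `agemo p H` pointwise then `x⁻¹ a(x)` centralizes `agemo p H` for `x ∈ H`. -/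
theorem comm_mem_centralizer_agemo {p : ℕ} (H : Subgroup P) (a : MulAut P)
    (hNfix : ∀ y ∈ agemo p H, a y = y) {x : P} (hx : x ∈ H) :
    x⁻¹ * a x ∈ Subgroup.centralizer ((agemo p H : Subgroup P) : Set P) := by
  rw [Subgroup.mem_centralizer_iff]
  intro y hy
  have hconj : x * y * x⁻¹ ∈ agemo p H := conj_mem_agemo hx hy
  have h1 := hNfix _ hconj
  rw [map_mul, map_mul, map_inv, hNfix y hy] at h1
  calc y * (x⁻¹ * a x) = x⁻¹ * (x * y * x⁻¹) * a x := by group
    _ = x⁻¹ * (a x * y * (a x)⁻¹) * a x := by rw [h1]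
    _ = x⁻¹ * a x * y := by group

end Cfsg.Agent.Lib.Helper7.SmallChain
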