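import Mathlib
import Cfsg.Agent.Lib.Lead.OmegaFaithful
import Cfsg.Agent.Lib.Helper7.SmallChainA

/-!
# The chain lemma

`eq_one_of_chain` : let `G` be a group of automorphisms of the finite `p`-group `P`, `T ⊆ G`, and `V 0, V 1, …`
subgroups of `P` with `V m = ⊥` such that `p'`-elements of `G` act trivially modulo `V 0`, every `V k` is
"`G`-invariant on small elements", and the elements of `T` act trivially on `V k` modulo `V (k+1)` on small
elements. Then every `p'`-element of the normal closure of `T` in `G` is trivial.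
-/

set_option autoImplicit false
set_option linter.unusedSectionVars false
set_option linter.unusedVariables false
set_option linter.style.haveILetI false

namespace Cfsg.Agent.Lib.Helper7.SmallChain

open scoped commutatorElement
open Cfsg.Agent.Lib.Lead.OmegaFaithful

variable {P : Type*} [Group P]

/-- the normal closure of `T` in `G`, as the subgroup generated by the `G`-conjugates of `T` -/
def nclosure (G : Subgroup (MulAut P)) (T : Set (MulAut P)) : Subgroup (MulAut P) :=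
  Subgroup.closure {γ | ∃ α ∈ G, ∃ τ ∈ T, γ = α * τ * α⁻¹}

theorem nclosure_le {G : Subgroup (MulAut P)} {T : Set (MulAut P)} (hTG : T ⊆ (G : Set (MulAut P))) :
    nclosure G T ≤ G := by
  rw [nclosure, Subgroup.closure_le]
  rintro γ ⟨α, hα, τ, hτ, rfl⟩
  exact G.mul_mem (G.mul_mem hα (hTG hτ)) (G.inv_mem hα)

theorem subset_nclosure {G : Subgroup (MulAut P)} {T : Set (MulAut P)} :
    T ⊆ (nclosure G T : Set (MulAut P)) := by
  intro τ hτ
  apply Subgroup.subset_closure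
  exact ⟨1, G.one_mem, τ, hτ, by simp⟩

theorem nclosure_conj_mem {G : Subgroup (MulAut P)} {T : Set (MulAut P)} {γ δ : MulAut P}
    (hγ : γ ∈ G) (hδ : δ ∈ nclosure G T) : γ * δ * γ⁻¹ ∈ nclosure G T := by
  induction hδ using Subgroup.closure_induction with
  | mem x hx =>
    obtain ⟨α, hα, τ, hτ, rfl⟩ := hx
    apply Subgroup.subset_closure
    refine ⟨γ * α, G.mul_mem hγ hα, τ, hτ, ?_⟩
    group
  | one => simp
  | mul x y _ _ hx hy =>
    have : γ * (x * y) * γ⁻¹ = (γ * x * γ⁻¹) * (γ * y * γ⁻¹) := by group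
    rw [this]
    exact Subgroup.mul_mem _ hx hy
  | inv x _ hx =>
    have : γ * x⁻¹ * γ⁻¹ = (γ * x * γ⁻¹)⁻¹ := by group
    rw [this]
    exact Subgroup.inv_mem _ hx

theorem chain_aux [Finite P] {p : ℕ} [hp : Fact p.Prime] (hP : IsPGroup p P)
    (G : Subgroup (MulAut P)) (T : Set (MulAut P)) (hTG : T ⊆ (G : Set (MulAut P)))
    (V : ℕ → Subgroup P) (m : ℕ) (hVm : V m = ⊥)
    (hb : ∀ β ∈ G, Nat.Coprime (orderOf β) p → ∀ x, x⁻¹ * β x ∈ V 0)
    (hc : ∀ α ∈ G, ∀ k, ∀ x ∈ V k, Small p x → α x ∈ V k)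
    (hd : ∀ τ ∈ T, ∀ k, ∀ x ∈ V k, Small p x → x⁻¹ * τ x ∈ V (k + 1)) :
    ∀ n : ℕ, ∀ H : Subgroup P, Nat.card ↥H = n → (∀ α ∈ G, ∀ x ∈ H, α x ∈ H) →
      ∀ β ∈ nclosure G T, Nat.Coprime (orderOf β) p → ∀ x ∈ H, β x = x := by
  have hG1 : nclosure G T ≤ G := nclosure_le hTG
  intro n
  induction n using Nat.strong_induction_on with
  | _ n ih =>
  intro H hcard hinv β hβ hcop x hx
  by_cases hbot : H = ⊥
  · subst hbot
    rw [Subgroup.mem_bot] at hx
    rw [hx, map_one]
  have hNlt : Nat.card ↥(agemo p H) < n := hcard ▸ card_agemo_lt hP H hbot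
  have hNinv : ∀ α ∈ G, ∀ y ∈ agemo p H, α y ∈ agemo p H :=
    fun α hα => agemo_invariant α H (hinv α hα)
  have hNfix : ∀ γ ∈ nclosure G T, Nat.Coprime (orderOf γ) p → ∀ y ∈ agemo p H, γ y = y :=
    fun γ hγ hγc => ih _ hNlt (agemo p H) rfl hNinv γ hγ hγc
  have hβG : β ∈ G := hG1 hβ
  have hdH : x⁻¹ * β x ∈ H := H.mul_mem (H.inv_mem hx) (hinv β hβG x hx)
  have hax : β x = x * (x⁻¹ * β x) := by group
  obtain ⟨j, hj⟩ := hP (x⁻¹ * β x)
  suffices hfix : β (x⁻¹ * β x) = x⁻¹ * β x by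
    have := eq_one_of_step β hcop hax hfix hj
    rw [hax, this, mul_one]
  by_cases hC : H ⊓ Subgroup.centralizer ((agemo p H : Subgroup P) : Set P) = H
  · -- the central case
    have hcent : ∀ y ∈ agemo p H, ∀ w ∈ H, y * w = w * y := by
      intro y hy w hw
      have hwC : w ∈ H ⊓ Subgroup.centralizer ((agemo p H : Subgroup P) : Set P) := by
        rw [hC]; exact hw
      exact (Subgroup.mem_centralizer_iff.1 hwC.2) y hy
    -- the subgroup of small elements
    have hΩinv : ∀ α ∈ G, ∀ y ∈ smallSub H hcent, α y ∈ smallSub H hcent := by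
      rintro α hα y ⟨hyH, hys⟩
      exact ⟨hinv α hα y hyH, small_map α hys⟩
    have hWinv : ∀ α ∈ G, ∀ k, ∀ y ∈ smallSub H hcent ⊓ V k, α y ∈ smallSub H hcent ⊓ V k := by
      rintro α hα k y ⟨hyΩ, hyV⟩
      exact ⟨hΩinv α hα y hyΩ, hc α hα k y hyV hyΩ.2⟩
    have hstep : ∀ γ ∈ nclosure G T, ∀ k, ∀ y ∈ smallSub H hcent ⊓ V k,
        y⁻¹ * γ y ∈ smallSub H hcent ⊓ V (k + 1) := by
      intro γ hγ
      induction hγ using Subgroup.closure_induction with
      | mem γ hγ =>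
        obtain ⟨α, hα, τ, hτ, rfl⟩ := hγ
        intro k y hy
        have hα' : α⁻¹ ∈ G := G.inv_mem hα
        have hy' := hWinv α⁻¹ hα' k y hy
        have hτG : τ ∈ G := hTG hτ
        have hc1 : (α⁻¹ y)⁻¹ * τ (α⁻¹ y) ∈ smallSub H hcent ⊓ V (k + 1) := by
          refine ⟨?_, hd τ hτ k _ hy'.2 hy'.1.2⟩
          exact Subgroup.mul_mem _ (Subgroup.inv_mem _ hy'.1) (hΩinv τ hτG _ hy'.1)
        have hc2 := hWinv α hα (k + 1) _ hc1
        have : y⁻¹ * (α * τ * α⁻¹) y = α ((α⁻¹ y)⁻¹ * τ (α⁻¹ y)) := by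
          simp only [MulAut.mul_apply, map_mul, map_inv, MulAut.apply_inv_self]
        rw [this]
        exact hc2
      | one =>
        intro k y hy
        simp
      | mul γ δ hγ hδ ihγ ihδ =>
        intro k y hy
        have hδG : δ ∈ G := hG1 hδ
        have hy' := hWinv δ hδG k y hy
        have h1 := ihδ k y hy
        have h2 := ihγ k (δ y) hy'
        have : y⁻¹ * (γ * δ) y = (y⁻¹ * δ y) * ((δ y)⁻¹ * γ (δ y)) := by
          simp only [MulAut.mul_apply]; group
        rw [this]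
        exact Subgroup.mul_mem _ h1 h2
      | inv γ hγ ihγ =>
        intro k y hy
        have hγG : γ⁻¹ ∈ G := G.inv_mem (hG1 hγ)
        have hy' := hWinv γ⁻¹ hγG k y hy
        have h1 := ihγ k (γ⁻¹ y) hy'
        have : y⁻¹ * γ⁻¹ y = ((γ⁻¹ y)⁻¹ * γ (γ⁻¹ y))⁻¹ := by
          simp only [MulAut.apply_inv_self]; group
        rw [this]
        exact Subgroup.inv_mem _ h1
    have hfixW : ∀ i k : ℕ, k + i = m → ∀ y ∈ smallSub H hcent ⊓ V k, β y = y := by
      intro i
      induction i with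
      | zero =>
        intro k hk y hy
        have hk' : k = m := by omega
        subst hk'
        have : y ∈ V k := hy.2
        rw [hVm, Subgroup.mem_bot] at this
        rw [this, map_one]
      | succ i ihi =>
        intro k hk y hy
        have h1 := hstep β hβ k y hy
        have h2 := ihi (k + 1) (by omega) _ h1
        have hay : β y = y * (y⁻¹ * β y) := by group
        obtain ⟨j', hj'⟩ := hP (y⁻¹ * β y)
        have := eq_one_of_step β hcop hay h2 hj'
        rw [hay, this, mul_one]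
    apply hfixW m 0 (by omega)
    refine ⟨⟨hdH, ?_⟩, hb β hβG hcop x⟩
    exact small_comm_of_central H hcent β (hinv β hβG) (hNfix β hβ hcop) hx
  · -- the non-central case
    have hCinv : ∀ α ∈ G, ∀ c ∈ H ⊓ Subgroup.centralizer ((agemo p H : Subgroup P) : Set P),
        α c ∈ H ⊓ Subgroup.centralizer ((agemo p H : Subgroup P) : Set P) := by
      intro α hα c hc
      rw [Subgroup.mem_inf] at hc ⊢
      obtain ⟨hcH, hcN⟩ := hc
      refine ⟨hinv α hα c hcH, ?_⟩
      rw [Subgroup.mem_centralizer_iff] at hcN ⊢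
      intro y hy
      have hy' : α⁻¹ y ∈ agemo p H := hNinv α⁻¹ (G.inv_mem hα) y hy
      have := congrArg α (hcN _ hy')
      rw [map_mul, map_mul, MulAut.apply_inv_self] at this
      exact this
    have hClt : Nat.card ↥(H ⊓ Subgroup.centralizer ((agemo p H : Subgroup P) : Set P)) < n := by
      rw [← hcard]
      apply lt_of_le_of_ne (Subgroup.card_le_of_le inf_le_left)
      intro hEq
      exact hC (Subgroup.eq_of_le_of_card_ge inf_le_left hEq.ge)
    have hCfix := ih _ hClt _ rfl hCinv β hβ hcop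
    apply hCfix
    rw [Subgroup.mem_inf]
    exact ⟨hdH, comm_mem_centralizer_agemo H β (hNfix β hβ hcop) hx⟩

/-- **The chain lemma.** -/
theorem eq_one_of_chain [Finite P] {p : ℕ} [hp : Fact p.Prime] (hP : IsPGroup p P)
    (G : Subgroup (MulAut P)) (T : Set (MulAut P)) (hTG : T ⊆ (G : Set (MulAut P)))
    (V : ℕ → Subgroup P) (m : ℕ) (hVm : V m = ⊥)
    (hb : ∀ β ∈ G, Nat.Coprime (orderOf β) p → ∀ x, x⁻¹ * β x ∈ V 0)
    (hc : ∀ α ∈ G, ∀ k, ∀ x ∈ V k, Small p x → α x ∈ V k)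
    (hd : ∀ τ ∈ T, ∀ k, ∀ x ∈ V k, Small p x → x⁻¹ * τ x ∈ V (k + 1))
    (β : MulAut P) (hβ : β ∈ nclosure G T) (hcop : Nat.Coprime (orderOf β) p) : β = 1 := by
  ext x
  exact chain_aux hP G T hTG V m hVm hb hc hd _ ⊤ rfl (fun _ _ _ _ => Subgroup.mem_top _) β hβ hcop x
    (Subgroup.mem_top x)

/-- consequence: the normal closure of `T` in `G` is a `p`-group. -/
theorem isPGroup_nclosure [Finite P] {p : ℕ} [hp : Fact p.Prime] (hP : IsPGroup p P)
    (G : Subgroup (MulAut P)) (T : Set (MulAut P)) (hTG : T ⊆ (G : Set (MulAut P)))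
    (V : ℕ → Subgroup P) (m : ℕ) (hVm : V m = ⊥)
    (hb : ∀ β ∈ G, Nat.Coprime (orderOf β) p → ∀ x, x⁻¹ * β x ∈ V 0)
    (hc : ∀ α ∈ G, ∀ k, ∀ x ∈ V k, Small p x → α x ∈ V k)
    (hd : ∀ τ ∈ T, ∀ k, ∀ x ∈ V k, Small p x → x⁻¹ * τ x ∈ V (k + 1)) :
    IsPGroup p (nclosure G T) := by
  have hpp := hp.out
  haveI : Finite (MulAut P) := inferInstance
  rintro ⟨β, hβ⟩
  have hpos : orderOf β ≠ 0 := (orderOf_pos β).ne'
  obtain ⟨k, r, hr, hkr⟩ := Nat.exists_eq_pow_mul_and_not_dvd hpos p hpp.ne_one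
  refine ⟨k, Subtype.ext ?_⟩
  show β ^ p ^ k = 1
  have hmem : β ^ p ^ k ∈ nclosure G T := Subgroup.pow_mem _ hβ _
  have hord : orderOf (β ^ p ^ k) = r := by
    rw [orderOf_pow_of_dvd (pow_pos hpp.pos k).ne' (by rw [hkr]; exact dvd_mul_right _ _), hkr]
    exact Nat.mul_div_cancel_left r (pow_pos hpp.pos k)
  have hcop : Nat.Coprime (orderOf (β ^ p ^ k)) p := by
    rw [hord, Nat.coprime_comm]
    exact (Nat.Prime.coprime_iff_not_dvd hpp).mpr hr
  exact eq_one_of_chain hP G T hTG V m hVm hb hc hd _ hmem hcop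

end Cfsg.Agent.Lib.Helper7.SmallChain
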