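import Mathlib
import Cfsg.Prelude.Def_FusionSystem
import Cfsg.Agent.Lib.Helper7.SmallChainB
import Cfsg.Agent.Lib.Helper7.FusionHyperfocal
import Cfsg.Agent.Lib.Helper7.AutInduced
import Cfsg.Agent.Lib.Helper7.FusionSat
import Cfsg.Agent.Lib.Helper7.Fusion

/-!
# The chain `hyp(F) ≥ [hyp(F), S] ≥ [hyp(F), S, S] ≥ …` and automizers

* `isPGroup_autGroup_of_small_inner` : if every `α ∈ Aut_F(R)` moves every small element of `hyp(F) ∩ R` to an
  `S`-conjugate, then `Aut_F(R)` is a `p`-group.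
* `exists_normal_sylow_of_small_top` : if every `α ∈ Aut_F(R)` moves every small element `x` of `hyp(F) ∩ R`
  to `ψ(x)` for some `ψ ∈ Aut_F(S)`, and `R` is fully automized, then `Aut_F(R)` has a normal Sylow `p`-subgroup.
-/

set_option autoImplicit false
set_option linter.unusedSectionVars false
set_option linter.unusedVariables false
set_option linter.style.haveILetI false

namespace Cfsg.Agent.Lib.Helper7.SmallChain

open scoped commutatorElement
open Cfsg Cfsg.FusionSystem Cfsg.Agent.Lib.Helper7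

variable {Ω : Type*} [Group Ω] {S : Subgroup Ω}

/-- the chain `hyp(F) ≥ [hyp(F), S] ≥ …` inside `S` -/
def hypChain (F : FusionSystem S) (p : ℕ) : ℕ → Subgroup ↥S
  | 0 => (F.hyperfocalSubgroup p).subgroupOf S
  | (k + 1) => ⁅hypChain F p k, (⊤ : Subgroup ↥S)⁆

theorem hypChain_zero (F : FusionSystem S) (p : ℕ) :
    hypChain F p 0 = (F.hyperfocalSubgroup p).subgroupOf S := rfl

theorem hypChain_succ (F : FusionSystem S) (p : ℕ) (k : ℕ) :
    hypChain F p (k + 1) = ⁅hypChain F p k, (⊤ : Subgroup ↥S)⁆ := rfl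

theorem hypChain_normal (F : FusionSystem S) (p : ℕ) : ∀ k, (hypChain F p k).Normal
  | 0 => by
    rw [hypChain_zero]
    refine ⟨fun n hn g => ?_⟩
    rw [Subgroup.mem_subgroupOf] at hn ⊢
    exact hyperfocalSubgroup_conj_mem F p g g.2 n hn
  | (k + 1) => by
    haveI := hypChain_normal F p k
    rw [hypChain_succ]
    infer_instance

theorem hypChain_succ_le (F : FusionSystem S) (p : ℕ) (k : ℕ) :
    hypChain F p (k + 1) ≤ hypChain F p k := by
  haveI := hypChain_normal F p k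
  rw [hypChain_succ]
  exact Subgroup.commutator_le_left _ _

theorem hypChain_le_zero (F : FusionSystem S) (p : ℕ) : ∀ k, hypChain F p k ≤ hypChain F p 0
  | 0 => le_rfl
  | (k + 1) => (hypChain_succ_le F p k).trans (hypChain_le_zero F p k)

theorem hypChain_le_lcs (F : FusionSystem S) (p : ℕ) :
    ∀ k, hypChain F p k ≤ (⊤ : Subgroup ↥S).lowerCentralSeries k
  | 0 => le_top
  | (k + 1) => by
    rw [hypChain_succ, Subgroup.lowerCentralSeries_succ]
    exact Subgroup.commutator_mono (hypChain_le_lcs F p k) le_rfl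

theorem exists_hypChain_eq_bot [Finite S] (p : ℕ) [Fact p.Prime] (hS : IsPGroup p S)
    (F : FusionSystem S) : ∃ m, hypChain F p m = ⊥ := by
  haveI : Group.IsNilpotent ↥S := hS.isNilpotent
  obtain ⟨m, hm⟩ := Subgroup.nilpotent_iff_lowerCentralSeries.mp (inferInstance : Group.IsNilpotent ↥S)
  refine ⟨m, ?_⟩
  have := hypChain_le_lcs F p m
  rw [hm] at this
  exact le_bot_iff.mp this

/-- an `F`-automorphism of `S` preserves the chain -/
theorem hypChain_map [Finite S] (p : ℕ) [Fact p.Prime] (hS : IsPGroup p S)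
    (F : FusionSystem S) (hF : F.IsSaturated p) (ψ : ↥S →* ↥S) (hψ : S.subtype.comp ψ ∈ F.Hom S) :
    ∀ k, (hypChain F p k).map ψ ≤ hypChain F p k
  | 0 => by
    rw [hypChain_zero]
    rintro _ ⟨x, hx, rfl⟩
    rw [SetLike.mem_coe, Subgroup.mem_subgroupOf] at hx
    rw [Subgroup.mem_subgroupOf]
    have hsc := hyperfocalSubgroup_stronglyClosed p hS F hF
    have hle : F.hyperfocalSubgroup p ≤ S := hsc.1
    have h1 := fs_restrict_mem F hle hψ
    exact hsc.2 _ le_rfl _ h1 ⟨(x : Ω), hx⟩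
  | (k + 1) => by
    rw [hypChain_succ, Subgroup.map_commutator]
    exact Subgroup.commutator_mono (hypChain_map p hS F hF ψ hψ k) le_top

/-- a nontrivial small element generates a cyclic group of order `p` or `4` -/
theorem card_zpowers_of_small {G : Type*} [Group G] {p : ℕ} [hp : Fact p.Prime] {y : G} (hy : y ≠ 1)
    (hs : Small p y) : Nat.card ↥(Subgroup.zpowers y) = p ∨ Nat.card ↥(Subgroup.zpowers y) = 4 := by
  rw [Nat.card_zpowers]
  rcases hs with h | ⟨h2, h⟩
  · left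
    exact orderOf_eq_prime h hy
  · subst h2
    have hd : orderOf y ∣ 2 ^ 2 := orderOf_dvd_of_pow_eq_one (by simpa using h)
    obtain ⟨i, hi, hoi⟩ := (Nat.dvd_prime_pow Nat.prime_two).mp hd
    have hi0 : i ≠ 0 := by
      rintro rfl
      rw [pow_zero, orderOf_eq_one_iff] at hoi
      exact hy hoi
    interval_cases i
    · exact absurd rfl hi0
    · left; simpa using hoi
    · right; simpa using hoi

variable {R : Subgroup Ω}

/-- restriction of an `F`-automorphism of `R` to the cyclic group generated by `x ∈ R` -/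
def cycRestrict (α : MulAut ↥R) (x : ↥R) : ↥(Subgroup.zpowers (x : Ω)) →* Ω :=
  (R.subtype.comp α.toMonoidHom).comp
    (Subgroup.inclusion ((Subgroup.zpowers_le (H := R)).mpr x.2))

theorem cycRestrict_mem (F : FusionSystem S) (hRS : R ≤ S) {α : MulAut ↥R} (hα : α ∈ F.autGroup R)
    (x : ↥R) : cycRestrict α x ∈ F.Hom (Subgroup.zpowers (x : Ω)) :=
  fs_restrict_mem F _ ((mem_autGroup_iff F hRS α).mp hα)

theorem cycRestrict_apply_self (α : MulAut ↥R) (x : ↥R) :
    cycRestrict α x ⟨(x : Ω), Subgroup.mem_zpowers _⟩ = ((α x : ↥R) : Ω) := by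
  show ((α ⟨(x : Ω), _⟩ : ↥R) : Ω) = _
  rfl

theorem cycRestrict_apply_mem (α : MulAut ↥R) (x : ↥R) (a : ↥(Subgroup.zpowers (x : Ω))) :
    cycRestrict α x a ∈ Subgroup.zpowers (((α x : ↥R)) : Ω) := by
  obtain ⟨a, ha⟩ := a
  obtain ⟨n, rfl⟩ := Subgroup.mem_zpowers_iff.mp ha
  rw [Subgroup.mem_zpowers_iff]
  refine ⟨n, ?_⟩
  show _ = ((α ⟨(x : Ω) ^ n, _⟩ : ↥R) : Ω)
  have e : (⟨(x : Ω) ^ n, (Subgroup.zpowers_le (H := R)).mpr x.2 ha⟩ : ↥R) = x ^ n :=
    Subtype.ext (by simp)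
  rw [e, map_zpow]
  simp

/-- the comap of the chain to `R` -/
def chainIn (F : FusionSystem S) (p : ℕ) (hRS : R ≤ S) (k : ℕ) : Subgroup ↥R :=
  (hypChain F p k).comap (Subgroup.inclusion hRS)

theorem mem_chainIn (F : FusionSystem S) (p : ℕ) (hRS : R ≤ S) (k : ℕ) (x : ↥R) :
    x ∈ chainIn F p hRS k ↔ Subgroup.inclusion hRS x ∈ hypChain F p k := Iff.rfl

theorem coe_mem_of_mem_chainIn (F : FusionSystem S) (p : ℕ) (hRS : R ≤ S) (k : ℕ) {x : ↥R}
    (hx : x ∈ chainIn F p hRS k) : (x : Ω) ∈ F.hyperfocalSubgroup p := by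
  have h1 := hypChain_le_zero F p k hx
  rw [hypChain_zero, Subgroup.mem_subgroupOf] at h1
  exact h1

theorem chainIn_hb (F : FusionSystem S) (p : ℕ) (hRS : R ≤ S) :
    ∀ β ∈ F.autGroup R, Nat.Coprime (orderOf β) p → ∀ x, x⁻¹ * β x ∈ chainIn F p hRS 0 := by
  intro β hβ hcop x
  rw [mem_chainIn, hypChain_zero, Subgroup.mem_subgroupOf]
  apply Subgroup.subset_closure
  refine ⟨R, ⟨β, hβ⟩, x, hRS, ?_, rfl⟩
  apply Subgroup.subset_closure
  show Nat.Coprime (orderOf (⟨β, hβ⟩ : F.autGroup R)) p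
  rw [Subgroup.orderOf_mk]
  exact hcop

/-- **Inner version.** -/
theorem isPGroup_autGroup_of_small_inner [Finite S] (p : ℕ) [Fact p.Prime] (hS : IsPGroup p S)
    (F : FusionSystem S) (hRS : R ≤ S)
    (h : ∀ α ∈ F.autGroup R, ∀ x : ↥R, (x : Ω) ∈ F.hyperfocalSubgroup p → Small p x →
      ∃ s ∈ S, ((α x : ↥R) : Ω) = s * x * s⁻¹) : IsPGroup p ↥(F.autGroup R) := by
  haveI : Finite ↥R := finite_of_le hRS
  obtain ⟨m, hm⟩ := exists_hypChain_eq_bot p hS F
  have hRp : IsPGroup p ↥R := hS.to_le hRS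
  have key := isPGroup_nclosure hRp (F.autGroup R) (F.autGroup R : Set (MulAut ↥R)) (fun _ h => h)
    (chainIn F p hRS) m (by rw [chainIn, hm]; ext x; simp)
    (chainIn_hb F p hRS)
    (by
      intro α hα k x hx hs
      obtain ⟨s, hsS, hsx⟩ := h α hα x (coe_mem_of_mem_chainIn F p hRS k hx) hs
      rw [mem_chainIn] at hx ⊢
      haveI := hypChain_normal F p k
      have e : Subgroup.inclusion hRS (α x) =
          (⟨s, hsS⟩ : ↥S) * Subgroup.inclusion hRS x * (⟨s, hsS⟩ : ↥S)⁻¹ := by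
        apply Subtype.ext
        simpa using hsx
      rw [e]
      exact (hypChain_normal F p k).conj_mem _ hx _)
    (by
      intro α hα k x hx hs
      obtain ⟨s, hsS, hsx⟩ := h α hα x (coe_mem_of_mem_chainIn F p hRS k hx) hs
      rw [mem_chainIn] at hx ⊢
      have e : Subgroup.inclusion hRS (x⁻¹ * α x) =
          ⁅(Subgroup.inclusion hRS x)⁻¹, (⟨s, hsS⟩ : ↥S)⁆ := by
        apply Subtype.ext
        rw [commutatorElement_def]
        simp [hsx, mul_assoc]
      rw [e, hypChain_succ]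
      exact Subgroup.commutator_mem_commutator (Subgroup.inv_mem _ hx) (Subgroup.mem_top _))
  have e : nclosure (F.autGroup R) (F.autGroup R : Set (MulAut ↥R)) = F.autGroup R :=
    le_antisymm (nclosure_le (fun _ h => h)) subset_nclosure
  rw [e] at key
  exact key

/-- **Normalizer version**: the normal closure of `Aut_S(R)` in `Aut_F(R)` is a `p`-group. -/
theorem isPGroup_nclosure_of_small_top [Finite S] (p : ℕ) [Fact p.Prime] (hS : IsPGroup p S)
    (F : FusionSystem S) (hF : F.IsSaturated p) (hRS : R ≤ S)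
    (h : ∀ α ∈ F.autGroup R, ∀ x : ↥R, (x : Ω) ∈ F.hyperfocalSubgroup p → Small p x →
      ∃ ψ : ↥S →* ↥S, S.subtype.comp ψ ∈ F.Hom S ∧ ((α x : ↥R) : Ω) = ψ ⟨x, hRS x.2⟩) :
    IsPGroup p ↥(nclosure (F.autGroup R) (autInducedBy S R : Set (MulAut ↥R))) := by
  haveI : Finite ↥R := finite_of_le hRS
  obtain ⟨m, hm⟩ := exists_hypChain_eq_bot p hS F
  have hRp : IsPGroup p ↥R := hS.to_le hRS
  apply isPGroup_nclosure hRp (F.autGroup R) (autInducedBy S R : Set (MulAut ↥R))
    (fun _ h => autInducedBy_le_autGroup F hRS h)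
    (chainIn F p hRS) m (by rw [chainIn, hm]; ext x; simp)
    (chainIn_hb F p hRS)
  · intro α hα k x hx hs
    obtain ⟨ψ, hψ, hψx⟩ := h α hα x (coe_mem_of_mem_chainIn F p hRS k hx) hs
    rw [mem_chainIn] at hx ⊢
    have e : Subgroup.inclusion hRS (α x) = ψ (Subgroup.inclusion hRS x) := by
      apply Subtype.ext
      exact hψx
    rw [e]
    exact hypChain_map p hS F hF ψ hψ k ⟨_, hx, rfl⟩
  · intro τ hτ k x hx hs
    obtain ⟨t, htS, htx⟩ := (mem_autInducedBy_iff S R τ).mp hτ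
    rw [mem_chainIn] at hx ⊢
    have e : Subgroup.inclusion hRS (x⁻¹ * τ x) =
        ⁅(Subgroup.inclusion hRS x)⁻¹, (⟨t, htS⟩ : ↥S)⁆ := by
      apply Subtype.ext
      rw [commutatorElement_def]
      simp [htx, mul_assoc]
    rw [e, hypChain_succ]
    exact Subgroup.commutator_mem_commutator (Subgroup.inv_mem _ hx) (Subgroup.mem_top _)

/-- **Normalizer version**: a fully automized `R` has a normal Sylow `p`-subgroup in `Aut_F(R)`. -/
theorem exists_normal_sylow_of_small_top [Finite S] (p : ℕ) [Fact p.Prime] (hS : IsPGroup p S)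
    (F : FusionSystem S) (hF : F.IsSaturated p) (hRS : R ≤ S) (hFA : F.IsFullyAutomized p R)
    (h : ∀ α ∈ F.autGroup R, ∀ x : ↥R, (x : Ω) ∈ F.hyperfocalSubgroup p → Small p x →
      ∃ ψ : ↥S →* ↥S, S.subtype.comp ψ ∈ F.Hom S ∧ ((α x : ↥R) : Ω) = ψ ⟨x, hRS x.2⟩) :
    ∃ Q : Sylow p ↥(F.autGroup R), (Q : Subgroup ↥(F.autGroup R)).Normal := by
  haveI : Finite ↥R := finite_of_le hRS
  haveI : Finite (MulAut ↥R) := inferInstance
  obtain ⟨-, Q, hQ⟩ := hFA
  refine ⟨Q, ?_⟩
  have hNp := isPGroup_nclosure_of_small_top p hS F hF hRS h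
  have hTG : (autInducedBy S R : Set (MulAut ↥R)) ⊆ (F.autGroup R : Set (MulAut ↥R)) :=
    fun _ h => autInducedBy_le_autGroup F hRS h
  set N := nclosure (F.autGroup R) (autInducedBy S R : Set (MulAut ↥R)) with hN
  have hNG : N ≤ F.autGroup R := nclosure_le hTG
  haveI hNn : (N.subgroupOf (F.autGroup R)).Normal := by
    refine ⟨fun n hn g => ?_⟩
    rw [Subgroup.mem_subgroupOf] at hn ⊢
    exact nclosure_conj_mem g.2 hn
  have hNp' : IsPGroup p ↥(N.subgroupOf (F.autGroup R)) := hNp.comap_subtype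
  have h1 : N.subgroupOf (F.autGroup R) ≤ (Q : Subgroup ↥(F.autGroup R)) :=
    hNp'.le_sylow_of_normal Q
  have h2 : (Q : Subgroup ↥(F.autGroup R)) ≤ N.subgroupOf (F.autGroup R) := by
    rw [hQ]
    exact Subgroup.subgroupOf_mono _ (show autInducedBy S R ≤ N from subset_nclosure)
  have h3 : (Q : Subgroup ↥(F.autGroup R)) = N.subgroupOf (F.autGroup R) := le_antisymm h2 h1
  rw [h3]
  exact hNn

end Cfsg.Agent.Lib.Helper7.SmallChain
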