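import Mathlib
import Cfsg.Prelude.Def_FusionSystem
import Cfsg.Agent.Lib.Helper7.SmallChainC
import Cfsg.Agent.Lib.Helper7.FusionInner
import Cfsg.Agent.Lib.Helper7.FusionTopNormal
import Cfsg.Agent.Lib.Helper7.FusionSat4

/-!
# Small cyclic subgroups of the hyperfocal subgroup

* `inner_of_small_cyclic` : if all `F`-maps between cyclic subgroups of order `p` or `4` of `hyp(F)` are
  `S`-conjugations, then `F` is the inner system.
* `isNormal_top_of_small_cyclic` : if they all extend to `F`-automorphisms of `S`, then `S ⊴ F`.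
-/

set_option autoImplicit false
set_option linter.unusedSectionVars false
set_option linter.unusedVariables false
set_option linter.style.haveILetI false

namespace Cfsg.Agent.Lib.Helper7.SmallChain

open Cfsg Cfsg.FusionSystem Cfsg.Agent.Lib.Helper7

variable {Ω : Type*} [Group Ω] {S : Subgroup Ω}

theorem small_coe {R : Subgroup Ω} {p : ℕ} {x : ↥R} (h : Small p x) : Small p (x : Ω) := by
  rcases h with h | ⟨h2, h⟩
  · left
    have := congrArg Subtype.val h
    simpa using this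
  · right
    refine ⟨h2, ?_⟩
    have := congrArg Subtype.val h
    simpa using this

/-- the data extracted from a small element of `hyp(F) ∩ R` and `α ∈ Aut_F(R)` -/
theorem small_cyclic_data [Finite S] (p : ℕ) [Fact p.Prime] (hS : IsPGroup p S)
    (F : FusionSystem S) (hF : F.IsSaturated p) {R : Subgroup Ω} (hRS : R ≤ S)
    {α : MulAut ↥R} (hα : α ∈ F.autGroup R) (x : ↥R) (hxH : (x : Ω) ∈ F.hyperfocalSubgroup p)
    (hs : Small p x) (hx1 : (x : Ω) ≠ 1) :
    Subgroup.zpowers (x : Ω) ≤ F.hyperfocalSubgroup p ∧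
    Subgroup.zpowers ((α x : ↥R) : Ω) ≤ F.hyperfocalSubgroup p ∧
    IsCyclic ↥(Subgroup.zpowers (x : Ω)) ∧
    (Nat.card ↥(Subgroup.zpowers (x : Ω)) = p ∨ Nat.card ↥(Subgroup.zpowers (x : Ω)) = 4) ∧
    IsCyclic ↥(Subgroup.zpowers ((α x : ↥R) : Ω)) ∧
    (Nat.card ↥(Subgroup.zpowers ((α x : ↥R) : Ω)) = p ∨
      Nat.card ↥(Subgroup.zpowers ((α x : ↥R) : Ω)) = 4) ∧
    cycRestrict α x ∈ F.homSet (Subgroup.zpowers (x : Ω)) (Subgroup.zpowers ((α x : ↥R) : Ω)) := by
  have hsc := hyperfocalSubgroup_stronglyClosed p hS F hF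
  have hA : Subgroup.zpowers (x : Ω) ≤ F.hyperfocalSubgroup p := (Subgroup.zpowers_le).mpr hxH
  have hαxH : ((α x : ↥R) : Ω) ∈ F.hyperfocalSubgroup p := by
    have := hsc.2 _ hA _ (cycRestrict_mem F hRS hα x) ⟨(x : Ω), Subgroup.mem_zpowers _⟩
    rwa [cycRestrict_apply_self] at this
  have hαx1 : ((α x : ↥R) : Ω) ≠ 1 := by
    intro h1
    apply hx1
    have h2 : α x = 1 := Subtype.ext h1
    have h3 : x = 1 := by
      have := congrArg α.symm h2
      simpa using this
    rw [h3]; rfl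
  refine ⟨hA, (Subgroup.zpowers_le).mpr hαxH, inferInstance, card_zpowers_of_small hx1 (small_coe hs),
    inferInstance, card_zpowers_of_small hαx1 (small_coe (small_map α hs)),
    cycRestrict_mem F hRS hα x, cycRestrict_apply_mem α x⟩

/-- **S5298, unbundled.** -/
theorem inner_of_small_cyclic [Finite S] (p : ℕ) [Fact p.Prime] (hS : IsPGroup p S)
    (F : FusionSystem S) (hF : F.IsSaturated p)
    (h : ∀ A B : Subgroup Ω, A ≤ (F.hyperfocalSubgroup p) → B ≤ (F.hyperfocalSubgroup p) →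
      IsCyclic ↥A → (Nat.card ↥A = p ∨ Nat.card ↥A = 4) → IsCyclic ↥B →
      (Nat.card ↥B = p ∨ Nat.card ↥B = 4) → F.homSet A B ⊆ (innerFusionSystem S).Hom A) :
    F = innerFusionSystem S := by
  apply eq_innerFusionSystem_of_isPGroup p hS F hF
  intro R hRS
  apply isPGroup_autGroup_of_small_inner p hS F hRS
  intro α hα x hxH hs
  by_cases hx1 : (x : Ω) = 1
  · refine ⟨1, S.one_mem, ?_⟩
    have hx : x = 1 := Subtype.ext hx1
    rw [hx, map_one]
    simp
  · obtain ⟨hA, hB, hcA, hkA, hcB, hkB, hφ⟩ := small_cyclic_data p hS F hF hRS hα x hxH hs hx1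
    obtain ⟨-, g, hg, hφg⟩ := h _ _ hA hB hcA hkA hcB hkB hφ
    refine ⟨g, hg, ?_⟩
    have := hφg ⟨(x : Ω), Subgroup.mem_zpowers _⟩
    rwa [cycRestrict_apply_self] at this

/-- **S5297, unbundled.** -/
theorem isNormal_top_of_small_cyclic [Finite S] (p : ℕ) [Fact p.Prime] (hS : IsPGroup p S)
    (F : FusionSystem S) (hF : F.IsSaturated p)
    (h : ∀ A B : Subgroup Ω, A ≤ (F.hyperfocalSubgroup p) → B ≤ (F.hyperfocalSubgroup p) →
      IsCyclic ↥A → (Nat.card ↥A = p ∨ Nat.card ↥A = 4) → IsCyclic ↥B →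
      (Nat.card ↥B = p ∨ Nat.card ↥B = 4) → F.homSet A B ⊆ F.normalizerHom S A) :
    F.IsNormal S := by
  apply isNormal_top_of_normal_sylow p hS F hF
  intro P hFN hcen hrad
  have hPS := hFN.1
  obtain ⟨R', hcR, hFAR, hRecR⟩ := hF P hPS
  obtain ⟨hFA, -⟩ := isFullyAutomized_isReceptive_of_isFullyNormalized p hS F hFN hFAR hRecR hcR
  apply exists_normal_sylow_of_small_top p hS F hF hPS hFA
  intro α hα x hxH hs
  by_cases hx1 : (x : Ω) = 1
  · refine ⟨MonoidHom.id _, fs_subtype_mem F le_rfl, ?_⟩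
    have hx : x = 1 := Subtype.ext hx1
    rw [hx, map_one]
    simp
  · obtain ⟨hA, hB, hcA, hkA, hcB, hkB, hφ⟩ := small_cyclic_data p hS F hF hPS hα x hxH hs hx1
    obtain ⟨-, -, -, ψ, hψ, hψA, -⟩ := h _ _ hA hB hcA hkA hcB hkB hφ
    have hval : ∀ y : ↥S, (ψ.comp (Subgroup.inclusion
        (le_sup_right : S ≤ Subgroup.zpowers (x : Ω) ⊔ S))) y ∈ S :=
      fun y => (F.le_of_mem hψ).2 _
    refine ⟨(ψ.comp (Subgroup.inclusion le_sup_right)).codRestrict S hval, ?_, ?_⟩
    · have e : S.subtype.comp ((ψ.comp (Subgroup.inclusion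
          (le_sup_right : S ≤ Subgroup.zpowers (x : Ω) ⊔ S))).codRestrict S hval) =
          ψ.comp (Subgroup.inclusion le_sup_right) := by
        ext y; rfl
      rw [e]
      exact fs_restrict_mem F _ hψ
    · have h1 := hψA ⟨(x : Ω), Subgroup.mem_zpowers _⟩
      rw [cycRestrict_apply_self] at h1
      rw [← h1]
      rfl

end Cfsg.Agent.Lib.Helper7.SmallChain
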