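import Mathlib

/-!
# Conjugacy of `3 × 3` matrices: first normal forms (helper7)

Towards a Sourour-type factorisation theorem for `3 × 3` matrices.
-/

set_option autoImplicit false

namespace Cfsg.Agent.Lib.Helper7.Sou3

open Matrix

variable {F : Type*} [Field F]

/-- conjugacy of matrices, with explicit inverse pairs -/
def Cj {n : ℕ} (A B : Matrix (Fin n) (Fin n) F) : Prop :=
  ∃ P Q : Matrix (Fin n) (Fin n) F, P * Q = 1 ∧ Q * P = 1 ∧ B = P * A * Q

lemma Cj.refl {n : ℕ} (A : Matrix (Fin n) (Fin n) F) : Cj A A :=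
  ⟨1, 1, by simp, by simp, by simp⟩

lemma Cj.trans {n : ℕ} {A B C : Matrix (Fin n) (Fin n) F} (h₁ : Cj A B) (h₂ : Cj B C) :
    Cj A C := by
  obtain ⟨P₁, Q₁, h1, h1', rfl⟩ := h₁
  obtain ⟨P₂, Q₂, h2, h2', rfl⟩ := h₂
  refine ⟨P₂ * P₁, Q₁ * Q₂, ?_, ?_, ?_⟩
  · calc P₂ * P₁ * (Q₁ * Q₂) = P₂ * (P₁ * Q₁) * Q₂ := by simp only [Matrix.mul_assoc]
      _ = 1 := by rw [h1, Matrix.mul_one, h2]
  · calc Q₁ * Q₂ * (P₂ * P₁) = Q₁ * (Q₂ * P₂) * P₁ := by simp only [Matrix.mul_assoc]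
      _ = 1 := by rw [h2', Matrix.mul_one, h1']
  · simp only [Matrix.mul_assoc]

lemma Cj.symm {n : ℕ} {A B : Matrix (Fin n) (Fin n) F} (h : Cj A B) : Cj B A := by
  obtain ⟨P, Q, h1, h1', rfl⟩ := h
  refine ⟨Q, P, h1', h1, ?_⟩
  calc A = (Q * P) * A * (Q * P) := by rw [h1', Matrix.one_mul, Matrix.mul_one]
    _ = Q * (P * A * Q) * P := by simp only [Matrix.mul_assoc]

lemma Cj.det {n : ℕ} {A B : Matrix (Fin n) (Fin n) F} (h : Cj A B) : B.det = A.det := by
  obtain ⟨P, Q, h1, -, rfl⟩ := h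
  have : P.det * Q.det = 1 := by rw [← Matrix.det_mul, h1, Matrix.det_one]
  rw [Matrix.det_mul, Matrix.det_mul]
  linear_combination A.det * this

/-- a non-scalar matrix moves some vector out of its line -/
lemma exists_vec {A : Matrix (Fin 3) (Fin 3) F}
    (hA : ¬ ∃ c : F, A = c • (1 : Matrix (Fin 3) (Fin 3) F)) :
    ∃ v : Fin 3 → F, LinearIndependent F ![v, A *ᵥ v] := by
  classical
  by_cases h : ∃ i j : Fin 3, i ≠ j ∧ A i j ≠ 0
  · obtain ⟨i, j, hij, ha⟩ := h
    refine ⟨Pi.single j 1, ?_⟩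
    rw [LinearIndependent.pair_iff]
    intro s t e
    have e1 := congrFun e i
    simp only [Pi.add_apply, Pi.smul_apply, Matrix.mulVec_single_one, smul_eq_mul,
      Pi.zero_apply, Pi.single_apply, if_neg hij, Matrix.col_apply, mul_zero, zero_add] at e1
    have ht : t = 0 := (mul_eq_zero.1 e1).resolve_right ha
    have e2 := congrFun e j
    simp only [Pi.add_apply, Pi.smul_apply, Matrix.mulVec_single_one, smul_eq_mul,
      Pi.zero_apply, Pi.single_apply, if_true, ht, zero_mul, add_zero, mul_one] at e2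
    exact ⟨e2, ht⟩
  · push Not at h
    have hd : ∃ i j : Fin 3, A i i ≠ A j j := by
      by_contra hd
      push Not at hd
      apply hA
      refine ⟨A 0 0, ?_⟩
      ext i j
      by_cases hij : i = j
      · subst hij
        rw [Matrix.smul_apply, Matrix.one_apply_eq, smul_eq_mul, mul_one]
        exact hd i 0
      · rw [Matrix.smul_apply, Matrix.one_apply_ne hij, smul_eq_mul, mul_zero]
        exact h i j hij
    obtain ⟨i, j, hne⟩ := hd
    have hij : i ≠ j := fun e => hne (by rw [e])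
    refine ⟨Pi.single i 1 + Pi.single j 1, ?_⟩
    rw [LinearIndependent.pair_iff]
    intro s t e
    have e1 := congrFun e i
    have e2 := congrFun e j
    simp only [Pi.add_apply, Pi.smul_apply, Matrix.mulVec_add, Matrix.mulVec_single_one,
      smul_eq_mul, Pi.zero_apply, Pi.single_apply, if_true, if_neg hij, if_neg hij.symm,
      Matrix.col_apply, h i j hij, h j i hij.symm, add_zero, zero_add, mul_one] at e1 e2
    have ht : t * (A i i - A j j) = 0 := by linear_combination e1 - e2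
    have ht0 : t = 0 := (mul_eq_zero.1 ht).resolve_right (sub_ne_zero.2 hne)
    rw [ht0] at e1
    exact ⟨by linear_combination e1, ht0⟩

/-- a non-scalar matrix is conjugate to one with first column `(δ, 1, 0)` -/
lemma exists_first_col {A : Matrix (Fin 3) (Fin 3) F}
    (hA : ¬ ∃ c : F, A = c • (1 : Matrix (Fin 3) (Fin 3) F)) (δ : F) :
    ∃ M : Matrix (Fin 3) (Fin 3) F, Cj A M ∧ M 0 0 = δ ∧ M 1 0 = 1 ∧ M 2 0 = 0 := by
  obtain ⟨v, hv⟩ := exists_vec hA
  -- `v` and `u = A v - δ v` are independent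
  set u : Fin 3 → F := A *ᵥ v - δ • v with hu
  have hvu : LinearIndependent F ![v, u] := by
    rw [LinearIndependent.pair_iff] at hv ⊢
    intro s t e
    have e' : (s - t * δ) • v + t • A *ᵥ v = 0 := by
      rw [← e, hu]; module
    obtain ⟨h1, h2⟩ := hv _ _ e'
    rw [h2] at h1
    exact ⟨by linear_combination h1, h2⟩
  obtain ⟨w, hw⟩ := exists_linearIndependent_snoc_of_lt_finrank hvu
    (by rw [Module.finrank_fintype_fun_eq_card, Fintype.card_fin]; norm_num)
  -- the matrix with rows `v, u, w`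
  set R : Matrix (Fin 3) (Fin 3) F := Matrix.of (Fin.snoc ![v, u] w : Fin 3 → Fin 3 → F) with hR
  have hRu : IsUnit R := by
    rw [← Matrix.linearIndependent_rows_iff_isUnit]
    exact hw
  have hQu : IsUnit Rᵀ := by rw [Matrix.isUnit_transpose]; exact hRu
  obtain ⟨Qu, hQ⟩ := hQu
  have hPQ : ((Qu⁻¹ : (Matrix (Fin 3) (Fin 3) F)ˣ) : Matrix (Fin 3) (Fin 3) F) *
      (Qu : Matrix (Fin 3) (Fin 3) F) = 1 := by
    rw [← Units.val_mul, inv_mul_cancel, Units.val_one]
  have hQP : (Qu : Matrix (Fin 3) (Fin 3) F) *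
      ((Qu⁻¹ : (Matrix (Fin 3) (Fin 3) F)ˣ) : Matrix (Fin 3) (Fin 3) F) = 1 := by
    rw [← Units.val_mul, mul_inv_cancel, Units.val_one]
  generalize ((Qu⁻¹ : (Matrix (Fin 3) (Fin 3) F)ˣ) : Matrix (Fin 3) (Fin 3) F) = P at hPQ hQP
  generalize hQd : (Qu : Matrix (Fin 3) (Fin 3) F) = Q at hPQ hQP hQ
  have hQ0 : Q *ᵥ (Pi.single 0 1) = v := by
    rw [Matrix.mulVec_single_one, hQ]
    ext i
    simp [hR]
  have hQ1 : Q *ᵥ (Pi.single 1 1) = u := by
    rw [Matrix.mulVec_single_one, hQ]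
    ext i
    simp [hR]
  refine ⟨P * A * Q, ⟨P, Q, hPQ, hQP, rfl⟩, ?_⟩
  have hPQv : ∀ y : Fin 3 → F, P *ᵥ (Q *ᵥ y) = y := fun y => by
    rw [Matrix.mulVec_mulVec, hPQ, Matrix.one_mulVec]
  -- the first column of `P A Q`
  have hcol : (P * A * Q) *ᵥ (Pi.single 0 1) = δ • Pi.single 0 1 + Pi.single 1 1 := by
    have h1 : Q *ᵥ ((P * A * Q) *ᵥ (Pi.single 0 1)) =
        Q *ᵥ (δ • Pi.single 0 1 + Pi.single 1 1) := by
      rw [Matrix.mulVec_mulVec, ← Matrix.mul_assoc, ← Matrix.mul_assoc, hQP, Matrix.one_mul,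
        ← Matrix.mulVec_mulVec, hQ0, Matrix.mulVec_add, Matrix.mulVec_smul, hQ0, hQ1, hu]
      abel
    have h2 := congrArg (fun x => P *ᵥ x) h1
    simp only [hPQv] at h2
    exact h2
  rw [Matrix.mulVec_single_one] at hcol
  have c0 := congrFun hcol 0
  have c1 := congrFun hcol 1
  have c2 := congrFun hcol 2
  simp at c0 c1 c2
  exact ⟨c0, c1, c2⟩

end Cfsg.Agent.Lib.Helper7.Sou3
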