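import Mathlib
import Cfsg.Agent.Lib.Helper7.Sou3A

/-!
# Prescribing the leading principal minors of a conjugate of a `3 × 3` matrix (helper7)
-/

set_option autoImplicit false

namespace Cfsg.Agent.Lib.Helper7.Sou3

open Matrix

variable {F : Type*} [Field F]

/-- entries of `M₀₀ ·` (Schur complement of `M₀₀`) -/
def n11 (M : Matrix (Fin 3) (Fin 3) F) : F := M 0 0 * M 1 1 - M 0 1 * M 1 0
def n12 (M : Matrix (Fin 3) (Fin 3) F) : F := M 0 0 * M 1 2 - M 0 2 * M 1 0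
def n21 (M : Matrix (Fin 3) (Fin 3) F) : F := M 0 0 * M 2 1 - M 0 1 * M 2 0
def n22 (M : Matrix (Fin 3) (Fin 3) F) : F := M 0 0 * M 2 2 - M 0 2 * M 2 0

/-- elementary matrices -/
def E32 (t : F) : Matrix (Fin 3) (Fin 3) F := !![1, 0, 0; 0, 1, 0; 0, t, 1]
def E23 (t : F) : Matrix (Fin 3) (Fin 3) F := !![1, 0, 0; 0, 1, t; 0, 0, 1]
def E13 (t : F) : Matrix (Fin 3) (Fin 3) F := !![1, 0, t; 0, 1, 0; 0, 0, 1]

lemma E32_mul (s t : F) : E32 s * E32 t = E32 (s + t) := by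
  ext i j
  fin_cases i <;> fin_cases j <;> simp [E32, Matrix.mul_apply, Fin.sum_univ_three, add_comm]

lemma E23_mul (s t : F) : E23 s * E23 t = E23 (s + t) := by
  ext i j
  fin_cases i <;> fin_cases j <;> simp [E23, Matrix.mul_apply, Fin.sum_univ_three, add_comm]

lemma E13_mul (s t : F) : E13 s * E13 t = E13 (s + t) := by
  ext i j
  fin_cases i <;> fin_cases j <;> simp [E13, Matrix.mul_apply, Fin.sum_univ_three, add_comm]

lemma E32_zero : E32 (0 : F) = 1 := by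
  ext i j
  fin_cases i <;> fin_cases j <;> simp [E32]

lemma E23_zero : E23 (0 : F) = 1 := by
  ext i j
  fin_cases i <;> fin_cases j <;> simp [E23]

lemma E13_zero : E13 (0 : F) = 1 := by
  ext i j
  fin_cases i <;> fin_cases j <;> simp [E13]

lemma cj_E32 (M : Matrix (Fin 3) (Fin 3) F) (t : F) : Cj M (E32 t * M * E32 (-t)) :=
  ⟨E32 t, E32 (-t), by rw [E32_mul, add_neg_cancel, E32_zero],
    by rw [E32_mul, neg_add_cancel, E32_zero], rfl⟩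

lemma cj_E23 (M : Matrix (Fin 3) (Fin 3) F) (t : F) : Cj M (E23 t * M * E23 (-t)) :=
  ⟨E23 t, E23 (-t), by rw [E23_mul, add_neg_cancel, E23_zero],
    by rw [E23_mul, neg_add_cancel, E23_zero], rfl⟩

lemma cj_E13 (M : Matrix (Fin 3) (Fin 3) F) (t : F) : Cj M (E13 t * M * E13 (-t)) :=
  ⟨E13 t, E13 (-t), by rw [E13_mul, add_neg_cancel, E13_zero],
    by rw [E13_mul, neg_add_cancel, E13_zero], rfl⟩

lemma E32_conj_apply (M : Matrix (Fin 3) (Fin 3) F) (t : F) :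
    E32 t * M * E32 (-t) = !![M 0 0, M 0 1 - t * M 0 2, M 0 2;
      M 1 0, M 1 1 - t * M 1 2, M 1 2;
      t * M 1 0 + M 2 0, (t * M 1 1 + M 2 1) - t * (t * M 1 2 + M 2 2), t * M 1 2 + M 2 2] := by
  ext i j
  fin_cases i <;> fin_cases j <;>
    simp [E32, Matrix.mul_apply, Fin.sum_univ_three, Matrix.vecMul, dotProduct] <;> ring

lemma E23_conj_apply (M : Matrix (Fin 3) (Fin 3) F) (t : F) :
    E23 t * M * E23 (-t) = !![M 0 0, M 0 1, M 0 2 - t * M 0 1;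
      M 1 0 + t * M 2 0, M 1 1 + t * M 2 1, (M 1 2 + t * M 2 2) - t * (M 1 1 + t * M 2 1);
      M 2 0, M 2 1, M 2 2 - t * M 2 1] := by
  ext i j
  fin_cases i <;> fin_cases j <;>
    simp [E23, Matrix.mul_apply, Fin.sum_univ_three, Matrix.vecMul, dotProduct] <;> ring

lemma E13_conj_apply (M : Matrix (Fin 3) (Fin 3) F) (t : F) :
    E13 t * M * E13 (-t) = !![M 0 0 + t * M 2 0, M 0 1 + t * M 2 1,
        (M 0 2 + t * M 2 2) - t * (M 0 0 + t * M 2 0);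
      M 1 0, M 1 1, M 1 2 - t * M 1 0;
      M 2 0, M 2 1, M 2 2 - t * M 2 0] := by
  ext i j
  fin_cases i <;> fin_cases j <;>
    simp [E13, Matrix.mul_apply, Fin.sum_univ_three, Matrix.vecMul, dotProduct] <;> ring

/-- case `n₁₂ ≠ 0` -/
lemma adjust_of_n12 (M : Matrix (Fin 3) (Fin 3) F) (h : n12 M ≠ 0) (δ₂ : F) :
    ∃ M', Cj M M' ∧ M' 0 0 = M 0 0 ∧ n11 M' = δ₂ := by
  obtain ⟨t, ht⟩ : ∃ t, t * n12 M = n11 M - δ₂ := ⟨(n11 M - δ₂) / n12 M, div_mul_cancel₀ _ h⟩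
  refine ⟨_, cj_E32 M t, ?_, ?_⟩
  · rw [E32_conj_apply]; simp
  · rw [E32_conj_apply]
    simp only [n11, n12] at ht ⊢
    simp
    linear_combination (-1 : F) * ht

/-- case `n₂₁ ≠ 0` -/
lemma adjust_of_n21 (M : Matrix (Fin 3) (Fin 3) F) (h : n21 M ≠ 0) (δ₂ : F) :
    ∃ M', Cj M M' ∧ M' 0 0 = M 0 0 ∧ n11 M' = δ₂ := by
  obtain ⟨t, ht⟩ : ∃ t, t * n21 M = δ₂ - n11 M := ⟨(δ₂ - n11 M) / n21 M, div_mul_cancel₀ _ h⟩
  refine ⟨_, cj_E23 M t, ?_, ?_⟩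
  · rw [E23_conj_apply]; simp
  · rw [E23_conj_apply]
    simp only [n11, n21] at ht ⊢
    simp
    linear_combination ht

/-- case `n₁₁ ≠ n₂₂` -/
lemma adjust_of_ne (M : Matrix (Fin 3) (Fin 3) F) (h12 : n12 M = 0) (h21 : n21 M = 0)
    (h : n11 M ≠ n22 M) (δ₂ : F) :
    ∃ M', Cj M M' ∧ M' 0 0 = M 0 0 ∧ n11 M' = δ₂ := by
  have h1 : n12 (E23 1 * M * E23 (-1)) ≠ 0 := by
    rw [E23_conj_apply]
    simp only [n11, n12, n21, n22] at h12 h21 h ⊢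
    simp
    intro e
    apply h
    linear_combination h12 - h21 - e
  obtain ⟨M', hc, h00, h11⟩ := adjust_of_n12 _ h1 δ₂
  refine ⟨M', (cj_E23 M 1).trans hc, ?_, h11⟩
  rw [h00, E23_conj_apply]; simp

/-- the scalar case -/
lemma adjust_of_scalar (M : Matrix (Fin 3) (Fin 3) F) (h00 : M 0 0 ≠ 0) (h10 : M 1 0 = 1)
    (h20 : M 2 0 = 0) (h12 : n12 M = 0) (h21 : n21 M = 0) (hdet : M.det ≠ 0) (δ₂ : F) :
    ∃ M', Cj M M' ∧ M' 0 0 = M 0 0 ∧ n11 M' = δ₂ := by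
  have hM21 : M 2 1 = 0 := by
    simp only [n21, h20, mul_zero, sub_zero] at h21
    exact (mul_eq_zero.1 h21).resolve_left h00
  have hM22 : M 2 2 ≠ 0 := by
    intro h22
    apply hdet
    rw [Matrix.det_fin_three, h20, hM21, h22]
    ring
  have h1 : n12 (E13 1 * M * E13 (-1)) ≠ 0 := by
    rw [E13_conj_apply]
    simp only [n12] at h12 ⊢
    simp [h10, h20]
    intro e
    apply hM22
    rw [h10] at h12
    linear_combination h12 - e
  obtain ⟨M', hc, h00', h11⟩ := adjust_of_n12 _ h1 δ₂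
  refine ⟨M', (cj_E13 M 1).trans hc, ?_, h11⟩
  rw [h00', E13_conj_apply]; simp [h20]

/-- **prescribed leading minors**: an invertible non-scalar `3 × 3` matrix is conjugate to a
matrix with given non-zero `(0,0)` entry and given leading `2 × 2` minor -/
theorem exists_minors {A : Matrix (Fin 3) (Fin 3) F}
    (hA : ¬ ∃ c : F, A = c • (1 : Matrix (Fin 3) (Fin 3) F)) (hdet : A.det ≠ 0)
    (δ₁ δ₂ : F) (hδ₁ : δ₁ ≠ 0) :
    ∃ M, Cj A M ∧ M 0 0 = δ₁ ∧ M 0 0 * M 1 1 - M 0 1 * M 1 0 = δ₂ := by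
  obtain ⟨M₀, hc, h00, h10, h20⟩ := exists_first_col hA δ₁
  have hdet₀ : M₀.det ≠ 0 := by rw [hc.det]; exact hdet
  have key : ∃ M', Cj M₀ M' ∧ M' 0 0 = M₀ 0 0 ∧ n11 M' = δ₂ := by
    by_cases h12 : n12 M₀ = 0
    · by_cases h21 : n21 M₀ = 0
      · by_cases hne : n11 M₀ = n22 M₀
        · exact adjust_of_scalar M₀ (by rw [h00]; exact hδ₁) h10 h20 h12 h21 hdet₀ δ₂
        · exact adjust_of_ne M₀ h12 h21 hne δ₂
      · exact adjust_of_n21 M₀ h21 δ₂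
    · exact adjust_of_n12 M₀ h12 δ₂
  obtain ⟨M', hc', h00', h11⟩ := key
  exact ⟨M', hc.trans hc', by rw [h00', h00], h11⟩

end Cfsg.Agent.Lib.Helper7.Sou3
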