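import Mathlib
import Cfsg.Agent.Lib.Helper7.Sou3B

/-!
# Factorisation of a non-scalar `3 × 3` matrix into two conjugates of a diagonal matrix (helper7)
-/

set_option autoImplicit false

namespace Cfsg.Agent.Lib.Helper7.Sou3

open Matrix

variable {F : Type*} [Field F]

/-- the diagonal matrix -/
def Dg (b₁ b₂ b₃ : F) : Matrix (Fin 3) (Fin 3) F := !![b₁, 0, 0; 0, b₂, 0; 0, 0, b₃]

/-- LU factorisation with prescribed diagonals -/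
lemma lu_factor (M : Matrix (Fin 3) (Fin 3) F) (b₁ b₂ b₃ : F) (h₁ : b₁ ≠ 0) (h₂ : b₂ ≠ 0)
    (h00 : M 0 0 = b₁ ^ 2) (h11 : M 0 0 * M 1 1 - M 0 1 * M 1 0 = b₁ ^ 2 * b₂ ^ 2)
    (hdet : M.det = b₁ ^ 2 * b₂ ^ 2 * b₃ ^ 2) :
    ∃ a b c a' b' c' : F, M = !![b₁, 0, 0; a, b₂, 0; b, c, b₃] *
      !![b₁, a', b'; 0, b₂, c'; 0, 0, b₃] := by
  refine ⟨M 1 0 / b₁, M 2 0 / b₁, (M 2 1 - M 2 0 * M 0 1 / b₁ ^ 2) / b₂,
    M 0 1 / b₁, M 0 2 / b₁, (M 1 2 - M 1 0 * M 0 2 / b₁ ^ 2) / b₂, ?_⟩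
  rw [Matrix.det_fin_three] at hdet
  ext i j
  fin_cases i <;> fin_cases j <;>
    simp [Matrix.mul_apply, Fin.sum_univ_three]
  · rw [h00]; ring
  · field_simp
  · field_simp
  · field_simp
  · field_simp
    rw [h00] at h11
    linear_combination h11
  · field_simp
    ring
  · field_simp
  · field_simp
    ring
  · rw [h00] at h11 hdet
    field_simp
    linear_combination b₁ ^ 2 * hdet - (M 2 2 * b₁ ^ 2 - M 2 0 * M 0 2) * h11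

/-- a lower triangular matrix with distinct diagonal entries is diagonalisable -/
lemma cj_lower (b₁ b₂ b₃ a b c : F) (h12 : b₁ ≠ b₂) (h13 : b₁ ≠ b₃) (h23 : b₂ ≠ b₃) :
    Cj (Dg b₁ b₂ b₃) !![b₁, 0, 0; a, b₂, 0; b, c, b₃] := by
  have d21 : b₂ - b₁ ≠ 0 := sub_ne_zero.2 h12.symm
  have d31 : b₃ - b₁ ≠ 0 := sub_ne_zero.2 h13.symm
  have d32 : b₃ - b₂ ≠ 0 := sub_ne_zero.2 h23.symm
  obtain ⟨q1, hq1⟩ : ∃ q1, q1 * (b₂ - b₁) = a := ⟨a / (b₂ - b₁), div_mul_cancel₀ _ d21⟩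
  obtain ⟨q3, hq3⟩ : ∃ q3, q3 * (b₃ - b₂) = c := ⟨c / (b₃ - b₂), div_mul_cancel₀ _ d32⟩
  obtain ⟨q2, hq2⟩ : ∃ q2, q2 * (b₃ - b₁) = q3 * a + b :=
    ⟨(q3 * a + b) / (b₃ - b₁), div_mul_cancel₀ _ d31⟩
  -- `L = Q⁻¹ D Q` with `Q` lower unitriangular
  refine ⟨!![1, 0, 0; -q1, 1, 0; q1 * q3 - q2, -q3, 1], !![1, 0, 0; q1, 1, 0; q2, q3, 1],
    ?_, ?_, ?_⟩
  · ext i j
    fin_cases i <;> fin_cases j <;>
      simp [Matrix.mul_apply, Fin.sum_univ_three] <;> ring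
  · ext i j
    fin_cases i <;> fin_cases j <;>
      simp [Matrix.mul_apply, Fin.sum_univ_three] <;> ring
  · ext i j
    fin_cases i <;> fin_cases j <;>
      simp [Dg, Matrix.mul_apply, Fin.sum_univ_three]
    · linear_combination (-1 : F) * hq1
    · linear_combination (-1 : F) * hq2 + q3 * hq1
    · linear_combination (-1 : F) * hq3

/-- an upper triangular matrix with distinct diagonal entries is diagonalisable -/
lemma cj_upper (b₁ b₂ b₃ a b c : F) (h12 : b₁ ≠ b₂) (h13 : b₁ ≠ b₃) (h23 : b₂ ≠ b₃) :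
    Cj (Dg b₁ b₂ b₃) !![b₁, a, b; 0, b₂, c; 0, 0, b₃] := by
  obtain ⟨P, Q, h1, h2, h3⟩ := cj_lower b₁ b₂ b₃ a b c h12 h13 h23
  refine ⟨Qᵀ, Pᵀ, ?_, ?_, ?_⟩
  · rw [← Matrix.transpose_mul, h1, Matrix.transpose_one]
  · rw [← Matrix.transpose_mul, h2, Matrix.transpose_one]
  · have hD : (Dg b₁ b₂ b₃)ᵀ = Dg b₁ b₂ b₃ := by
      ext i j
      fin_cases i <;> fin_cases j <;> simp [Dg]
    have hU : !![b₁, a, b; 0, b₂, c; 0, 0, b₃] = (!![b₁, 0, 0; a, b₂, 0; b, c, b₃] :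
        Matrix (Fin 3) (Fin 3) F)ᵀ := by
      ext i j
      fin_cases i <;> fin_cases j <;> simp
    rw [hU, h3, Matrix.transpose_mul, Matrix.transpose_mul, hD, Matrix.mul_assoc]

/-- pulling a factorisation back along a conjugation -/
lemma factor_of_cj {A M B' C' : Matrix (Fin 3) (Fin 3) F} (h : Cj A M) (hM : M = B' * C') :
    ∃ B C, A = B * C ∧ Cj B' B ∧ Cj C' C := by
  obtain ⟨P, Q, h1, h2, rfl⟩ := h
  refine ⟨Q * B' * P, Q * C' * P, ?_, ⟨Q, P, h2, h1, rfl⟩, ⟨Q, P, h2, h1, rfl⟩⟩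
  calc A = (Q * P) * A * (Q * P) := by rw [h2, Matrix.one_mul, Matrix.mul_one]
    _ = Q * (P * A * Q) * P := by simp only [Matrix.mul_assoc]
    _ = Q * (B' * C') * P := by rw [hM]
    _ = Q * B' * (P * Q) * C' * P := by rw [h1, Matrix.mul_one]; simp only [Matrix.mul_assoc]
    _ = Q * B' * P * (Q * C' * P) := by simp only [Matrix.mul_assoc]

/-- **Sourour-type factorisation for `n = 3`**: a non-scalar matrix of determinant `1` is a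
product of two conjugates of `diag(b₁, b₂, b₃)`, for distinct `bᵢ` with product `1` -/
theorem factor_diag {A : Matrix (Fin 3) (Fin 3) F}
    (hA : ¬ ∃ c : F, A = c • (1 : Matrix (Fin 3) (Fin 3) F)) (hdet : A.det = 1)
    (b₁ b₂ b₃ : F) (hprod : b₁ * b₂ * b₃ = 1) (h12 : b₁ ≠ b₂) (h13 : b₁ ≠ b₃) (h23 : b₂ ≠ b₃) :
    ∃ B C, A = B * C ∧ Cj (Dg b₁ b₂ b₃) B ∧ Cj (Dg b₁ b₂ b₃) C := by
  have h₁ : b₁ ≠ 0 := by
    rintro rfl
    simp at hprod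
  have h₂ : b₂ ≠ 0 := by
    rintro rfl
    simp at hprod
  obtain ⟨M, hc, h00, h11⟩ := exists_minors hA (by rw [hdet]; exact one_ne_zero)
    (b₁ ^ 2) (b₁ ^ 2 * b₂ ^ 2) (pow_ne_zero 2 h₁)
  have hdetM : M.det = b₁ ^ 2 * b₂ ^ 2 * b₃ ^ 2 := by
    rw [hc.det, hdet]
    have : b₁ ^ 2 * b₂ ^ 2 * b₃ ^ 2 = (b₁ * b₂ * b₃) ^ 2 := by ring
    rw [this, hprod, one_pow]
  obtain ⟨a, b, c, a', b', c', hM⟩ := lu_factor M b₁ b₂ b₃ h₁ h₂ h00 h11 hdetM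
  obtain ⟨B, C, hBC, hB, hC⟩ := factor_of_cj hc hM
  exact ⟨B, C, hBC, (cj_lower b₁ b₂ b₃ a b c h12 h13 h23).trans hB,
    (cj_upper b₁ b₂ b₃ a' b' c' h12 h13 h23).trans hC⟩

end Cfsg.Agent.Lib.Helper7.Sou3
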