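import Mathlib

/-!
# A table for `SL₃(𝔽₃)`: products of two conjugates of an element of order `4` (helper7)

For every `a b c d e f : ZMod 3` with `a * f - b * e = -1` the matrix `!![0,a,b;1,c,d;0,e,f]` is a
product of two conjugates of `X₄ = !![0,0,1;0,1,0;-1,0,0]`.  The witnesses were found by a
computer search outside Lean; the kernel only checks them.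
-/

set_option autoImplicit false

namespace Cfsg.Agent.Lib.Helper7.Sou3

/-- `3 × 3` matrices over `𝔽₃` -/
abbrev M33 := Matrix (Fin 3) (Fin 3) (ZMod 3)

/-- explicit product of `3 × 3` matrices -/
def mul3 {R : Type*} [Mul R] [Add R] (A B : Matrix (Fin 3) (Fin 3) R) : Matrix (Fin 3) (Fin 3) R :=
  fun i j => A i 0 * B 0 j + A i 1 * B 1 j + A i 2 * B 2 j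

lemma mul3_eq {R : Type*} [CommRing R] (A B : Matrix (Fin 3) (Fin 3) R) : mul3 A B = A * B := by
  ext i j
  simp [mul3, Matrix.mul_apply, Fin.sum_univ_three]

/-- the element of order `4` -/
def X4 (R : Type*) [CommRing R] : Matrix (Fin 3) (Fin 3) R := !![0,0,1;0,1,0;-1,0,0]

/-- the matrices with first column `e₂` -/
def Mn {R : Type*} [CommRing R] (a b c d e f : R) : Matrix (Fin 3) (Fin 3) R :=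
  !![0,a,b;1,c,d;0,e,f]

/-- dummy table entry -/
def dfl : M33 × M33 × M33 × M33 := (0, 0, 0, 0)

/-- the table of witnesses -/
def tbl : Fin 3 → Fin 3 → Fin 3 → Fin 3 → Fin 3 → Fin 3 → M33 × M33 × M33 × M33 :=
![![![![![![dfl,dfl,dfl],
![dfl,dfl,dfl],
![dfl,dfl,dfl]],
![![dfl,dfl,dfl],
![dfl,dfl,dfl],
![dfl,dfl,dfl]],
![![dfl,dfl,dfl],
![dfl,dfl,dfl],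
![dfl,dfl,dfl]]],
![![![dfl,dfl,dfl],
![dfl,dfl,dfl],
![dfl,dfl,dfl]],
![![dfl,dfl,dfl],
![dfl,dfl,dfl],
![dfl,dfl,dfl]],
![![dfl,dfl,dfl],
![dfl,dfl,dfl],
![dfl,dfl,dfl]]],
![![![dfl,dfl,dfl],
![dfl,dfl,dfl],
![dfl,dfl,dfl]],
![![dfl,dfl,dfl],
![dfl,dfl,dfl],
![dfl,dfl,dfl]],
![![dfl,dfl,dfl],
![dfl,dfl,dfl],
![dfl,dfl,dfl]]]],
![![![![dfl,dfl,dfl],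
![(!![1,0,0;0,1,0;0,0,1],!![1,0,0;0,1,0;0,0,1],!![2,0,2;2,0,1;0,2,0],!![1,1,0;0,0,2;1,2,0]),(!![1,0,0;0,1,0;0,0,1],!![1,0,0;0,1,0;0,0,1],!![1,1,0;0,1,2;0,1,0],!![1,0,2;0,0,1;0,2,1]),(!![1,0,0;0,1,0;0,0,1],!![1,0,0;0,1,0;0,0,1],!![2,1,2;2,1,1;0,2,0],!![1,1,2;0,0,2;1,2,0])],
![dfl,dfl,dfl]],
![![dfl,dfl,dfl],
![(!![1,0,0;0,1,0;0,0,1],!![1,0,0;0,1,0;0,0,1],!![0,1,1;1,2,0;0,1,0],!![0,1,1;0,0,1;1,0,2]),(!![1,0,0;0,1,0;0,0,1],!![1,0,0;0,1,0;0,0,1],!![2,1,2;2,0,1;0,2,0],!![1,1,1;0,0,2;1,2,1]),(!![1,0,0;0,1,0;0,0,1],!![1,0,0;0,1,0;0,0,1],!![1,0,0;0,1,2;0,1,0],!![1,0,0;0,0,1;0,2,1])],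
![dfl,dfl,dfl]],
![![dfl,dfl,dfl],
![(!![1,0,0;0,1,0;0,0,1],!![1,0,0;0,1,0;0,0,1],!![2,1,1;1,2,1;0,2,0],!![1,2,2;0,0,2;2,2,0]),(!![1,0,0;0,1,0;0,0,1],!![1,0,0;0,1,0;0,0,1],!![1,0,0;0,2,2;0,1,0],!![1,0,0;0,0,1;0,2,2]),(!![1,0,0;0,1,0;0,0,1],!![1,0,0;0,1,0;0,0,1],!![0,1,1;1,0,0;0,1,0],!![0,1,0;0,0,1;1,0,2])],
![dfl,dfl,dfl]]],
![![![dfl,dfl,dfl],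
![(!![1,0,0;1,1,0;0,0,1],!![1,0,0;2,1,0;0,0,1],!![2,1,1;1,2,1;0,2,0],!![1,2,2;0,0,2;2,2,0]),(!![1,0,0;1,1,0;0,0,1],!![1,0,0;2,1,0;0,0,1],!![2,1,2;2,0,1;0,2,0],!![1,1,1;0,0,2;1,2,1]),(!![1,0,0;1,1,0;0,0,1],!![1,0,0;2,1,0;0,0,1],!![2,1,2;2,1,1;0,2,0],!![1,1,2;0,0,2;1,2,0])],
![dfl,dfl,dfl]],
![![dfl,dfl,dfl],
![(!![1,0,0;1,1,0;0,0,1],!![1,0,0;2,1,0;0,0,1],!![2,0,2;2,0,1;0,2,0],!![1,1,0;0,0,2;1,2,0]),(!![1,0,0;1,1,0;0,0,1],!![1,0,0;2,1,0;0,0,1],!![1,0,0;0,2,2;0,1,0],!![1,0,0;0,0,1;0,2,2]),(!![1,0,0;1,1,0;0,0,1],!![1,0,0;2,1,0;0,0,1],!![1,0,0;0,1,2;0,1,0],!![1,0,0;0,0,1;0,2,1])],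
![dfl,dfl,dfl]],
![![dfl,dfl,dfl],
![(!![1,0,0;1,1,0;0,0,1],!![1,0,0;2,1,0;0,0,1],!![0,1,1;1,2,0;0,1,0],!![0,1,1;0,0,1;1,0,2]),(!![1,0,1;0,1,0;0,0,1],!![1,0,2;0,1,0;0,0,1],!![1,2,1;2,1,0;0,2,2],!![2,1,2;2,2,2;1,1,0]),(!![1,1,0;0,1,0;0,0,1],!![1,2,0;0,1,0;0,0,1],!![0,2,0;2,0,2;1,2,0],!![2,0,1;2,0,0;1,2,2])],
![dfl,dfl,dfl]]],
![![![dfl,dfl,dfl],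
![(!![1,1,0;0,1,0;0,0,1],!![1,2,0;0,1,0;0,0,1],!![1,0,0;2,0,1;0,2,2],!![1,0,0;2,2,2;1,1,0]),(!![1,0,0;0,1,0;1,1,1],!![1,0,0;0,1,0;2,2,1],!![1,0,0;2,0,1;2,2,2],!![1,0,0;1,2,2;1,1,0]),(!![2,2,1;0,1,0;1,2,1],!![1,0,2;0,1,0;2,1,2],!![2,1,0;1,2,2;1,1,0],!![1,0,2;2,0,2;2,2,0])],
![dfl,dfl,dfl]],
![![dfl,dfl,dfl],
![(!![1,0,0;0,1,0;2,0,1],!![1,0,0;0,1,0;1,0,1],!![1,0,0;2,2,0;1,1,2],!![1,0,0;2,2,0;0,2,2]),(!![1,0,0;0,1,0;0,2,1],!![1,0,0;0,1,0;0,1,1],!![2,1,1;2,0,2;1,2,0],!![2,2,2;2,2,1;1,0,1]),(!![1,0,1;0,1,0;0,0,1],!![1,0,2;0,1,0;0,0,1],!![2,2,2;1,2,2;0,2,1],!![1,2,0;2,2,1;2,2,2])],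
![dfl,dfl,dfl]],
![![dfl,dfl,dfl],
![(!![1,0,0;0,1,0;1,0,1],!![1,0,0;0,1,0;2,0,1],!![1,0,0;2,1,0;2,1,1],!![1,0,0;1,1,0;0,2,1]),(!![1,0,0;0,1,0;1,2,1],!![1,0,0;0,1,0;2,1,1],!![0,2,1;2,2,1;2,1,1],!![1,2,0;0,1,2;1,1,2]),(!![1,0,0;2,2,1;2,1,1],!![1,0,0;0,1,2;1,2,2],!![0,1,0;1,0,1;0,2,2],!![1,1,1;1,0,0;2,0,2])],
![dfl,dfl,dfl]]]],
![![![![dfl,dfl,dfl],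
![dfl,dfl,dfl],
![(!![1,0,0;1,1,0;0,2,1],!![1,0,0;2,1,0;2,1,1],!![1,0,0;0,2,0;2,2,2],!![1,0,0;0,2,0;2,1,2]),(!![1,0,1;0,1,0;0,0,1],!![1,0,2;0,1,0;0,0,1],!![1,0,0;0,0,2;1,1,2],!![1,0,0;2,2,1;0,2,0]),(!![1,0,0;0,1,0;0,2,1],!![1,0,0;0,1,0;0,1,1],!![0,2,2;2,2,0;2,2,2],!![1,0,2;2,2,1;0,1,2])]],
![![dfl,dfl,dfl],
![dfl,dfl,dfl],
![(!![1,0,0;0,1,0;1,0,1],!![1,0,0;0,1,0;2,0,1],!![0,2,1;0,0,2;1,1,2],!![1,0,1;2,2,0;0,2,0]),(!![1,2,1;0,1,0;0,2,1],!![1,0,2;0,1,0;0,1,1],!![1,0,1;1,2,0;2,2,0],!![0,2,1;0,1,1;1,1,2]),(!![1,0,0;0,2,1;0,1,1],!![1,0,0;0,1,2;0,2,2],!![2,0,0;2,0,1;0,1,2],!![2,0,0;2,1,1;2,1,0])]],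
![![dfl,dfl,dfl],
![dfl,dfl,dfl],
![(!![1,1,0;0,1,0;0,0,1],!![1,2,0;0,1,0;0,0,1],!![0,2,1;1,1,2;2,1,0],!![1,1,0;1,1,1;2,1,1]),(!![1,0,0;1,1,0;0,1,1],!![1,0,0;2,1,0;1,2,1],!![1,2,1;2,1,0;1,1,0],!![0,1,2;0,2,2;1,1,0]),(!![1,1,1;0,1,0;0,1,1],!![1,0,2;0,1,0;0,2,1],!![0,0,1;0,2,1;1,1,1],!![1,1,1;1,2,0;1,0,0])]]],
![![![dfl,dfl,dfl],
![dfl,dfl,dfl],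
![(!![1,0,0;0,2,1;0,1,1],!![1,0,0;0,1,2;0,2,2],!![0,2,0;2,0,2;1,1,0],!![1,0,1;2,0,0;2,2,2]),(!![1,0,0;0,1,0;0,1,1],!![1,0,0;0,1,0;0,2,1],!![2,0,0;2,2,2;0,1,2],!![2,0,0;2,1,2;2,1,1]),(!![1,1,0;0,1,0;0,0,1],!![1,2,0;0,1,0;0,0,1],!![1,0,0;1,1,1;0,1,2],!![1,0,0;1,2,2;1,2,1])]],
![![dfl,dfl,dfl],
![dfl,dfl,dfl],
![(!![1,1,0;0,1,0;0,2,1],!![1,2,0;0,1,0;0,1,1],!![2,2,1;2,2,2;0,1,2],!![2,0,2;2,1,1;2,1,0]),(!![1,0,0;0,1,0;1,0,1],!![1,0,0;0,1,0;2,0,1],!![1,1,2;0,2,1;1,2,0],!![1,1,0;1,1,2;1,2,2]),(!![1,2,1;0,1,0;0,2,1],!![1,0,2;0,1,0;0,1,1],!![1,0,0;0,2,1;1,0,2],!![1,0,0;1,2,2;1,0,2])]],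
![![dfl,dfl,dfl],
![dfl,dfl,dfl],
![(!![1,0,0;0,1,0;1,1,1],!![1,0,0;0,1,0;2,2,1],!![1,2,2;0,2,2;0,2,1],!![1,2,0;0,1,1;0,1,2]),(!![1,2,1;0,1,0;0,2,1],!![1,0,2;0,1,0;0,1,1],!![1,0,0;2,2,1;1,0,2],!![1,0,0;0,2,2;1,0,2]),(!![1,0,0;0,1,0;2,0,1],!![1,0,0;0,1,0;1,0,1],!![1,2,1;2,1,0;0,2,2],!![2,1,2;2,2,2;1,1,0])]]],
![![![dfl,dfl,dfl],
![dfl,dfl,dfl],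
![(!![1,0,0;0,1,0;1,1,1],!![1,0,0;0,1,0;2,2,1],!![2,2,1;0,1,1;0,0,2],!![2,2,1;0,1,1;0,0,2]),(!![1,1,0;0,1,0;0,2,1],!![1,2,0;0,1,0;0,1,1],!![2,1,0;1,2,2;1,1,0],!![1,0,2;2,0,2;2,2,0]),(!![1,0,0;1,1,0;0,2,1],!![1,0,0;2,1,0;2,1,1],!![1,2,1;0,2,1;2,0,2],!![1,2,0;2,0,2;2,1,2])]],
![![dfl,dfl,dfl],
![dfl,dfl,dfl],
![(!![1,0,1;0,1,0;0,0,1],!![1,0,2;0,1,0;0,0,1],!![1,0,0;2,2,0;1,1,2],!![1,0,0;2,2,0;0,2,2]),(!![1,1,0;0,1,0;0,0,1],!![1,2,0;0,1,0;0,0,1],!![0,2,0;2,2,0;2,2,2],!![1,2,0;2,0,0;0,1,2]),(!![1,0,0;1,1,0;0,1,1],!![1,0,0;2,1,0;1,2,1],!![0,1,0;2,1,0;1,0,1],!![1,2,0;1,0,0;2,1,1])]],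
![![dfl,dfl,dfl],
![dfl,dfl,dfl],
![(!![1,0,0;0,1,0;0,2,1],!![1,0,0;0,1,0;0,1,1],!![1,0,0;1,1,2;2,1,0],!![1,0,0;1,0,1;2,2,1]),(!![1,0,0;0,2,1;0,1,1],!![1,0,0;0,1,2;0,2,2],!![2,2,1;0,0,1;1,2,1],!![1,0,2;1,1,1;0,1,0]),(!![1,0,0;0,1,0;1,0,1],!![1,0,0;0,1,0;2,0,1],!![0,2,1;2,2,0;1,1,2],!![1,0,1;2,2,2;0,2,2])]]]]],
![![![![![dfl,dfl,(!![1,1,0;0,1,0;0,0,1],!![1,2,0;0,1,0;0,0,1],!![2,2,0;0,2,1;1,0,2],!![1,2,2;1,1,1;1,2,1])],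
![dfl,dfl,(!![1,0,1;0,1,0;0,0,1],!![1,0,2;0,1,0;0,0,1],!![1,1,0;0,1,2;0,1,0],!![1,0,2;0,0,1;0,2,1])],
![dfl,dfl,(!![1,0,0;0,1,0;1,0,1],!![1,0,0;0,1,0;2,0,1],!![2,1,2;2,1,1;0,2,0],!![1,1,2;0,0,2;1,2,0])]],
![![dfl,dfl,(!![1,0,1;0,1,0;0,0,1],!![1,0,2;0,1,0;0,0,1],!![0,2,1;0,0,2;1,1,2],!![1,0,1;2,2,0;0,2,0])],
![dfl,dfl,(!![1,0,1;0,1,0;0,0,1],!![1,0,2;0,1,0;0,0,1],!![2,1,2;2,0,1;0,2,0],!![1,1,1;0,0,2;1,2,1])],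
![dfl,dfl,(!![1,0,1;0,1,0;0,0,1],!![1,0,2;0,1,0;0,0,1],!![1,2,1;0,0,1;1,1,2],!![2,0,2;1,1,2;0,1,0])]],
![![dfl,dfl,(!![1,0,0;0,1,0;1,0,1],!![1,0,0;0,1,0;2,0,1],!![1,2,1;2,0,2;0,2,2],!![2,1,1;2,2,0;1,1,2])],
![dfl,dfl,(!![1,0,1;0,1,0;0,0,1],!![1,0,2;0,1,0;0,0,1],!![1,0,0;0,2,2;0,1,0],!![1,0,0;0,0,1;0,2,2])],
![dfl,dfl,(!![1,0,0;0,1,0;1,0,1],!![1,0,0;0,1,0;2,0,1],!![0,1,1;1,0,0;0,1,0],!![0,1,0;0,0,1;1,0,2])]]],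
![![![dfl,dfl,(!![1,0,0;1,1,0;0,1,1],!![1,0,0;2,1,0;1,2,1],!![1,1,2;0,2,1;0,0,2],!![1,1,0;0,2,2;0,0,2])],
![dfl,dfl,(!![1,0,0;0,1,0;0,0,1],!![1,0,0;0,1,0;0,0,1],!![0,0,1;2,1,1;1,1,1],!![0,1,2;2,2,2;1,0,0])],
![dfl,dfl,(!![1,0,0;1,1,0;0,0,1],!![1,0,0;2,1,0;0,0,1],!![1,1,2;0,2,1;1,2,0],!![1,1,0;1,1,2;1,2,2])]],
![![dfl,dfl,(!![1,0,0;0,0,1;0,2,1],!![1,0,0;0,1,2;0,1,0],!![1,0,0;0,2,0;2,1,2],!![1,0,0;0,2,0;2,2,2])],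
![dfl,dfl,(!![1,1,0;0,1,0;0,0,1],!![1,2,0;0,1,0;0,0,1],!![1,0,0;0,2,1;1,0,2],!![1,0,0;1,2,2;1,0,2])],
![dfl,dfl,(!![1,0,0;0,1,0;0,0,1],!![1,0,0;0,1,0;0,0,1],!![1,1,2;0,2,1;1,2,0],!![1,1,0;1,1,2;1,2,2])]],
![![dfl,dfl,(!![1,0,0;0,1,0;0,0,1],!![1,0,0;0,1,0;0,0,1],!![2,1,1;1,1,2;2,1,2],!![0,2,1;2,2,0;2,0,1])],
![dfl,dfl,(!![1,0,0;0,1,1;0,0,1],!![1,0,0;0,1,2;0,0,1],!![0,0,1;2,1,1;1,1,1],!![0,1,2;2,2,2;1,0,0])],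
![dfl,dfl,(!![1,0,0;1,1,0;0,1,1],!![1,0,0;2,1,0;1,2,1],!![2,1,1;0,0,1;2,2,0],!![1,2,1;2,1,1;0,1,0])]]],
![![![dfl,dfl,(!![1,0,0;0,1,0;0,2,1],!![1,0,0;0,1,0;0,1,1],!![1,2,0;2,1,1;2,0,0],!![0,0,2;2,0,2;1,1,0])],
![dfl,dfl,(!![1,1,0;0,1,0;0,1,1],!![1,2,0;0,1,0;0,2,1],!![2,1,1;0,2,1;1,2,0],!![1,2,2;1,2,1;1,0,1])],
![dfl,dfl,(!![1,0,0;0,1,1;0,0,1],!![1,0,0;0,1,2;0,0,1],!![1,1,2;0,2,1;1,2,0],!![1,1,0;1,1,2;1,2,2])]],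
![![dfl,dfl,(!![1,0,0;1,1,0;0,0,1],!![1,0,0;2,1,0;0,0,1],!![2,1,1;1,1,2;2,1,2],!![0,2,1;2,2,0;2,0,1])],
![dfl,dfl,(!![1,0,0;0,0,1;0,2,1],!![1,0,0;0,1,2;0,1,0],!![1,0,0;0,2,0;2,2,2],!![1,0,0;0,2,0;2,1,2])],
![dfl,dfl,(!![1,1,0;0,1,0;0,1,1],!![1,2,0;0,1,0;0,2,1],!![1,2,1;0,2,1;1,2,0],!![1,2,0;1,2,2;1,0,2])]],
![![dfl,dfl,(!![1,1,0;0,1,0;0,1,1],!![1,2,0;0,1,0;0,2,1],!![0,0,1;0,2,1;1,2,0],!![1,2,1;1,2,0;1,0,0])],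
![dfl,dfl,(!![1,0,0;1,1,0;0,1,1],!![1,0,0;2,1,0;1,2,1],!![0,2,0;2,0,2;1,1,0],!![1,0,1;2,0,0;2,2,2])],
![dfl,dfl,(!![1,1,0;0,1,0;0,0,1],!![1,2,0;0,1,0;0,0,1],!![0,2,0;1,1,2;1,0,0],!![0,0,1;2,0,0;2,2,1])]]]],
![![![![dfl,dfl,(!![1,0,0;0,1,0;1,1,1],!![1,0,0;0,1,0;2,2,1],!![1,2,1;1,2,2;0,2,2],!![0,1,2;1,2,2;2,1,0])],
![(!![1,0,0;0,1,0;0,0,1],!![1,0,0;0,1,0;0,0,1],!![1,0,0;0,0,2;1,1,2],!![1,0,0;2,2,1;0,2,0]),dfl,dfl],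
![dfl,(!![1,0,0;1,1,0;0,0,1],!![1,0,0;2,1,0;0,0,1],!![0,2,1;0,0,2;1,1,2],!![1,0,1;2,2,0;0,2,0]),dfl]],
![![dfl,dfl,(!![1,1,0;0,1,0;0,0,1],!![1,2,0;0,1,0;0,0,1],!![2,1,1;0,1,1;0,0,2],!![2,1,0;0,1,1;0,0,2])],
![(!![1,1,0;0,1,0;0,0,1],!![1,2,0;0,1,0;0,0,1],!![1,0,1;1,2,0;2,2,0],!![0,2,1;0,1,1;1,1,2]),dfl,dfl],
![dfl,(!![1,0,0;0,1,0;0,0,1],!![1,0,0;0,1,0;0,0,1],!![0,2,1;0,0,2;1,1,2],!![1,0,1;2,2,0;0,2,0]),dfl]],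
![![dfl,dfl,(!![1,0,0;0,1,0;0,0,1],!![1,0,0;0,1,0;0,0,1],!![0,2,1;1,0,2;2,2,0],!![2,2,1;1,1,1;2,1,1])],
![(!![1,0,1;0,1,0;0,0,1],!![1,0,2;0,1,0;0,0,1],!![0,1,1;1,0,0;0,1,0],!![0,1,0;0,0,1;1,0,2]),dfl,dfl],
![dfl,(!![1,0,0;0,1,0;1,0,1],!![1,0,0;0,1,0;2,0,1],!![2,1,1;1,2,1;0,2,0],!![1,2,2;0,0,2;2,2,0]),dfl]]],
![![![dfl,dfl,(!![1,0,0;1,1,0;0,1,1],!![1,0,0;2,1,0;1,2,1],!![0,2,0;1,1,2;2,0,2],!![2,2,1;2,0,0;1,1,1])],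
![(!![1,1,0;0,1,0;0,1,1],!![1,2,0;0,1,0;0,2,1],!![1,0,0;1,0,1;0,2,2],!![1,0,0;1,2,2;2,1,0]),dfl,dfl],
![dfl,(!![1,0,0;0,1,0;0,2,1],!![1,0,0;0,1,0;0,1,1],!![2,0,2;0,1,1;0,0,2],!![2,0,1;0,1,1;0,0,2]),dfl]],
![![dfl,dfl,(!![1,0,0;0,1,0;1,2,1],!![1,0,0;0,1,0;2,1,1],!![1,0,0;1,1,0;1,0,1],!![1,0,0;2,1,0;2,0,1])],
![(!![1,0,0;1,1,0;0,1,1],!![1,0,0;2,1,0;1,2,1],!![2,0,0;2,0,1;0,1,2],!![2,0,0;2,1,1;2,1,0]),dfl,dfl],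
![dfl,(!![1,0,1;0,1,0;0,0,1],!![1,0,2;0,1,0;0,0,1],!![1,2,1;2,2,2;1,1,2],!![2,0,2;1,1,0;0,1,1]),dfl]],
![![dfl,dfl,(!![1,1,0;0,1,0;0,0,1],!![1,2,0;0,1,0;0,0,1],!![0,2,2;1,0,1;2,2,2],!![1,0,2;0,2,2;2,1,1])],
![(!![1,1,0;0,1,0;0,0,1],!![1,2,0;0,1,0;0,0,1],!![1,0,0;2,2,1;1,0,2],!![1,0,0;0,2,2;1,0,2]),dfl,dfl],
![dfl,(!![1,1,0;0,1,0;0,0,1],!![1,2,0;0,1,0;0,0,1],!![1,2,2;0,2,2;0,2,1],!![1,2,0;0,1,1;0,1,2]),dfl]]],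
![![![dfl,dfl,(!![1,1,0;0,1,0;0,0,1],!![1,2,0;0,1,0;0,0,1],!![1,2,0;2,1,1;1,1,2],!![1,2,2;0,2,2;1,1,0])],
![(!![1,1,0;0,1,0;0,0,1],!![1,2,0;0,1,0;0,0,1],!![1,0,2;0,0,2;0,1,1],!![1,2,0;0,1,1;0,2,0]),dfl,dfl],
![dfl,(!![1,1,0;0,1,0;0,0,1],!![1,2,0;0,1,0;0,0,1],!![2,2,1;0,1,1;0,0,2],!![2,2,1;0,1,1;0,0,2]),dfl]],
![![dfl,dfl,(!![1,0,0;0,1,0;0,2,1],!![1,0,0;0,1,0;0,1,1],!![2,2,1;1,1,0;2,0,0],!![0,0,2;0,1,1;1,1,0])],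
![(!![1,0,0;1,1,0;0,0,1],!![1,0,0;2,1,0;0,0,1],!![1,0,0;0,0,2;1,1,2],!![1,0,0;2,2,1;0,2,0]),dfl,dfl],
![dfl,(!![1,0,0;0,1,0;0,2,1],!![1,0,0;0,1,0;0,1,1],!![1,2,1;0,0,2;0,1,1],!![1,2,1;0,1,1;0,2,0]),dfl]],
![![dfl,dfl,(!![1,0,1;0,1,0;0,0,1],!![1,0,2;0,1,0;0,0,1],!![0,2,1;2,2,0;1,1,2],!![1,0,1;2,2,2;0,2,2])],
![(!![1,1,1;0,1,0;0,1,1],!![1,0,2;0,1,0;0,2,1],!![1,2,1;2,0,1;0,2,1],!![1,0,2;1,1,1;1,1,2]),dfl,dfl],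
![dfl,(!![1,2,1;0,1,0;0,2,1],!![1,0,2;0,1,0;0,1,1],!![0,0,1;2,1,0;1,1,2],!![2,1,2;2,2,2;1,0,0]),dfl]]]],
![![![![dfl,dfl,(!![1,1,0;0,1,0;0,1,1],!![1,2,0;0,1,0;0,2,1],!![2,1,2;2,1,1;0,2,1],!![2,0,2;1,2,2;1,2,0])],
![dfl,(!![1,0,1;0,1,0;0,0,1],!![1,0,2;0,1,0;0,0,1],!![2,0,2;2,0,1;0,2,0],!![1,1,0;0,0,2;1,2,0]),dfl],
![(!![1,0,0;0,1,1;0,0,1],!![1,0,0;0,1,2;0,0,1],!![0,2,1;2,2,0;1,1,2],!![1,0,1;2,2,2;0,2,2]),dfl,dfl]],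
![![dfl,dfl,(!![1,0,0;1,1,0;0,0,1],!![1,0,0;2,1,0;0,0,1],!![2,1,2;2,2,0;1,1,2],!![1,0,2;2,2,1;0,2,2])],
![dfl,(!![1,0,1;0,1,0;0,0,1],!![1,0,2;0,1,0;0,0,1],!![0,1,1;1,2,0;0,1,0],!![0,1,1;0,0,1;1,0,2]),dfl],
![(!![1,0,0;0,1,0;1,0,1],!![1,0,0;0,1,0;2,0,1],!![2,1,2;2,0,1;0,2,0],!![1,1,1;0,0,2;1,2,1]),dfl,dfl]],
![![dfl,dfl,(!![1,1,0;0,1,0;0,0,1],!![1,2,0;0,1,0;0,0,1],!![0,2,0;1,2,2;2,0,2],!![1,2,1;2,0,0;2,1,1])],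
![dfl,(!![1,0,1;0,1,0;0,0,1],!![1,0,2;0,1,0;0,0,1],!![2,1,1;1,2,1;0,2,0],!![1,2,2;0,0,2;2,2,0]),dfl],
![(!![1,0,0;0,1,0;1,0,1],!![1,0,0;0,1,0;2,0,1],!![1,0,0;0,2,2;0,1,0],!![1,0,0;0,0,1;0,2,2]),dfl,dfl]]],
![![![dfl,dfl,(!![1,0,0;0,1,1;0,0,1],!![1,0,0;0,1,2;0,0,1],!![2,1,2;2,2,0;1,1,2],!![1,0,2;2,2,1;0,2,2])],
![dfl,(!![1,1,0;0,1,0;0,0,1],!![1,2,0;0,1,0;0,0,1],!![2,0,2;0,1,1;1,0,0],!![0,0,1;1,1,1;2,0,2]),dfl],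
![(!![1,0,0;1,1,0;0,2,1],!![1,0,0;2,1,0;2,1,1],!![2,1,1;0,1,0;2,2,0],!![0,2,2;0,1,0;1,1,2]),dfl,dfl]],
![![dfl,dfl,(!![1,0,1;0,1,0;0,0,1],!![1,0,2;0,1,0;0,0,1],!![1,1,2;0,2,1;1,2,0],!![1,1,0;1,1,2;1,2,2])],
![dfl,(!![1,0,0;1,1,0;0,0,1],!![1,0,0;2,1,0;0,0,1],!![1,0,0;2,2,0;1,1,2],!![1,0,0;2,2,0;0,2,2]),dfl],
![(!![1,0,0;0,1,0;0,2,1],!![1,0,0;0,1,0;0,1,1],!![1,0,0;1,2,2;2,0,2],!![1,0,0;2,2,1;2,0,2]),dfl,dfl]],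
![![dfl,dfl,(!![1,0,0;1,1,0;0,2,1],!![1,0,0;2,1,0;2,1,1],!![1,1,2;0,2,1;2,2,0],!![1,1,0;2,2,2;2,0,2])],
![dfl,(!![1,0,0;0,1,0;1,0,1],!![1,0,0;0,1,0;2,0,1],!![2,1,1;1,1,2;2,1,2],!![0,2,1;2,2,0;2,0,1]),dfl],
![(!![2,2,1;0,1,0;1,2,1],!![1,0,2;0,1,0;2,1,2],!![2,1,1;1,2,1;1,1,1],!![1,0,2;0,1,2;2,2,0]),dfl,dfl]]],
![![![dfl,dfl,(!![1,0,0;0,1,0;0,0,1],!![1,0,0;0,1,0;0,0,1],!![2,1,2;2,2,0;1,1,2],!![1,0,2;2,2,1;0,2,2])],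
![dfl,(!![1,0,0;0,1,1;0,0,1],!![1,0,0;0,1,2;0,0,1],!![1,0,0;2,2,0;1,1,2],!![1,0,0;2,2,0;0,2,2]),dfl],
![(!![1,0,1;0,1,0;0,0,1],!![1,0,2;0,1,0;0,0,1],!![2,1,0;1,2,2;0,2,1],!![1,2,2;2,2,2;2,2,0]),dfl,dfl]],
![![dfl,dfl,(!![1,0,0;0,1,0;1,0,1],!![1,0,0;0,1,0;2,0,1],!![2,2,2;1,2,2;0,2,1],!![1,2,0;2,2,1;2,2,2])],
![dfl,(!![1,0,0;0,1,0;0,0,1],!![1,0,0;0,1,0;0,0,1],!![1,0,0;2,2,0;1,1,2],!![1,0,0;2,2,0;0,2,2]),dfl],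
![(!![1,1,0;0,1,0;0,0,1],!![1,2,0;0,1,0;0,0,1],!![1,2,1;0,1,1;1,0,0],!![0,0,1;1,2,2;2,2,1]),dfl,dfl]],
![![dfl,dfl,(!![1,0,0;0,1,0;0,2,1],!![1,0,0;0,1,0;0,1,1],!![2,1,1;2,2,1;1,0,1],!![2,2,2;2,1,0;1,1,2])],
![dfl,(!![1,0,0;0,2,1;0,1,1],!![1,0,0;0,1,2;0,2,2],!![0,2,0;0,0,2;1,2,0],!![2,0,1;2,0,0;0,2,0]),dfl],
![(!![1,0,0;0,1,0;0,0,1],!![1,0,0;0,1,0;0,0,1],!![0,2,1;2,2,0;1,1,2],!![1,0,1;2,2,2;0,2,2]),dfl,dfl]]]]],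
![![![![![dfl,(!![1,0,0;0,1,0;0,1,1],!![1,0,0;0,1,0;0,2,1],!![1,2,1;1,2,2;2,0,0],!![0,0,2;1,1,2;2,1,0]),dfl],
![dfl,(!![1,0,0;1,1,0;0,2,1],!![1,0,0;2,1,0;2,1,1],!![1,0,0;0,2,2;2,2,1],!![1,0,0;1,1,1;2,1,2]),dfl],
![dfl,(!![1,1,0;0,1,0;0,0,1],!![1,2,0;0,1,0;0,0,1],!![1,2,1;1,2,2;0,2,2],!![0,1,2;1,2,2;2,1,0]),dfl]],
![![dfl,(!![2,2,1;0,1,0;1,2,1],!![1,0,2;0,1,0;2,1,2],!![1,1,2;0,2,1;1,1,1],!![1,1,0;1,2,2;1,0,2]),dfl],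
![dfl,(!![1,0,0;0,1,1;0,0,1],!![1,0,0;0,1,2;0,0,1],!![2,0,0;2,2,2;1,1,2],!![2,0,0;1,1,2;0,1,1]),dfl],
![dfl,(!![1,1,0;0,1,0;0,2,1],!![1,2,0;0,1,0;0,1,1],!![1,2,1;2,2,2;0,0,1],!![2,1,2;1,1,0;0,0,1]),dfl]],
![![dfl,(!![1,0,0;1,1,0;0,0,1],!![1,0,0;2,1,0;0,0,1],!![1,2,1;2,2,2;1,1,2],!![2,0,2;1,1,0;0,1,1]),dfl],
![dfl,(!![1,0,0;1,1,0;0,1,1],!![1,0,0;2,1,0;1,2,1],!![0,0,1;1,1,2;2,0,2],!![2,0,2;2,1,1;1,0,0]),dfl],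
![dfl,(!![1,0,0;2,0,1;2,2,1],!![1,0,0;0,1,2;1,1,0],!![0,2,1;2,2,1;0,2,0],!![1,2,0;0,0,2;1,0,2]),dfl]]],
![![![dfl,(!![1,0,0;0,1,0;1,1,1],!![1,0,0;0,1,0;2,2,1],!![2,0,2;0,1,1;1,0,0],!![0,0,1;1,1,1;2,0,2]),dfl],
![dfl,(!![1,0,0;0,1,0;0,0,1],!![1,0,0;0,1,0;0,0,1],!![2,0,0;2,2,2;1,1,2],!![2,0,0;1,1,2;0,1,1]),dfl],
![dfl,(!![1,0,0;0,1,1;0,0,1],!![1,0,0;0,1,2;0,0,1],!![1,2,1;2,1,0;0,2,2],!![2,1,2;2,2,2;1,1,0]),dfl]],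
![![dfl,(!![1,0,0;0,1,0;0,0,1],!![1,0,0;0,1,0;0,0,1],!![1,2,1;2,2,2;1,1,2],!![2,0,2;1,1,0;0,1,1]),dfl],
![dfl,(!![1,1,0;0,1,0;0,0,1],!![1,2,0;0,1,0;0,0,1],!![0,1,0;2,2,2;2,2,0],!![2,0,2;1,0,0;0,2,1]),dfl],
![dfl,(!![1,0,0;1,1,0;0,1,1],!![1,0,0;2,1,0;1,2,1],!![0,1,0;1,2,1;0,2,2],!![2,1,1;1,0,0;2,0,2]),dfl]],
![![dfl,(!![1,0,0;0,1,0;0,2,1],!![1,0,0;0,1,0;0,1,1],!![2,1,1;2,1,0;1,1,2],!![2,2,2;2,0,2;1,2,0]),dfl],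
![dfl,(!![1,0,0;0,1,0;0,1,1],!![1,0,0;0,1,0;0,2,1],!![0,0,1;2,1,0;2,0,2],!![2,0,2;2,1,2;1,0,0]),dfl],
![dfl,(!![1,0,0;0,1,0;0,0,1],!![1,0,0;0,1,0;0,0,1],!![1,2,1;2,1,0;0,2,2],!![2,1,2;2,2,2;1,1,0]),dfl]]],
![![![dfl,(!![1,0,2;2,2,1;0,0,2],!![1,0,2;2,2,0;0,0,2],!![0,2,1;0,0,2;1,1,2],!![1,0,1;2,2,0;0,2,0]),dfl],
![dfl,(!![1,0,1;0,1,0;0,0,1],!![1,0,2;0,1,0;0,0,1],!![2,1,2;2,2,0;1,1,2],!![1,0,2;2,2,1;0,2,2]),dfl],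
![dfl,(!![1,0,0;1,1,0;0,0,1],!![1,0,0;2,1,0;0,0,1],!![1,2,1;2,1,0;0,2,2],!![2,1,2;2,2,2;1,1,0]),dfl]],
![![dfl,(!![1,0,0;0,1,0;1,0,1],!![1,0,0;0,1,0;2,0,1],!![1,0,0;2,2,0;1,1,2],!![1,0,0;2,2,0;0,2,2]),dfl],
![dfl,(!![1,0,0;0,1,0;1,1,1],!![1,0,0;0,1,0;2,2,1],!![0,2,0;2,2,0;2,2,2],!![1,2,0;2,0,0;0,1,2]),dfl],
![dfl,(!![1,0,0;0,1,0;0,1,1],!![1,0,0;0,1,0;0,2,1],!![0,1,0;2,2,2;0,0,1],!![2,2,2;1,0,0;0,0,1]),dfl]],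
![![dfl,(!![1,1,0;0,1,0;0,0,1],!![1,2,0;0,1,0;0,0,1],!![0,0,1;2,1,0;1,1,2],!![2,1,2;2,2,2;1,0,0]),dfl],
![dfl,(!![1,1,0;0,1,0;0,2,1],!![1,2,0;0,1,0;0,1,1],!![1,2,1;2,1,0;2,0,2],!![2,2,2;2,0,2;1,1,0]),dfl],
![dfl,(!![1,1,0;0,1,0;0,1,1],!![1,2,0;0,1,0;0,2,1],!![2,1,1;2,1,0;0,2,2],!![2,0,2;2,1,2;1,2,0]),dfl]]]],
![![![![dfl,(!![1,0,0;0,1,0;1,0,1],!![1,0,0;0,1,0;2,0,1],!![1,0,0;0,0,2;1,1,2],!![1,0,0;2,2,1;0,2,0]),dfl],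
![(!![1,0,0;0,1,0;0,0,1],!![1,0,0;0,1,0;0,0,1],!![2,0,0;0,0,1;1,1,2],!![2,0,0;1,1,1;0,1,0]),dfl,dfl],
![dfl,dfl,(!![1,0,0;0,1,1;0,0,1],!![1,0,0;0,1,2;0,0,1],!![1,2,1;2,0,2;0,2,2],!![2,1,1;2,2,0;1,1,2])]],
![![dfl,(!![1,0,0;0,1,0;0,0,1],!![1,0,0;0,1,0;0,0,1],!![1,2,1;0,0,1;1,1,2],!![2,0,2;1,1,2;0,1,0]),dfl],
![(!![1,0,0;1,1,0;0,0,1],!![1,0,0;2,1,0;0,0,1],!![2,0,0;0,0,1;1,1,2],!![2,0,0;1,1,1;0,1,0]),dfl,dfl],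
![dfl,dfl,(!![1,0,0;2,0,1;2,2,1],!![1,0,0;0,1,2;1,1,0],!![0,0,1;2,1,1;0,2,0],!![1,2,2;0,0,2;1,0,0])]],
![![dfl,(!![1,0,0;0,1,0;0,1,1],!![1,0,0;0,1,0;0,2,1],!![1,2,2;0,2,2;0,0,2],!![1,2,0;0,2,1;0,0,2]),dfl],
![(!![1,0,1;0,1,0;0,0,1],!![1,0,2;0,1,0;0,0,1],!![0,2,1;1,0,2;2,2,0],!![2,2,1;1,1,1;2,1,1]),dfl,dfl],
![dfl,dfl,(!![1,0,0;0,1,0;0,0,1],!![1,0,0;0,1,0;0,0,1],!![1,2,1;2,0,2;0,2,2],!![2,1,1;2,2,0;1,1,2])]]],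
![![![dfl,(!![1,0,1;0,1,0;0,0,1],!![1,0,2;0,1,0;0,0,1],!![2,0,0;2,2,2;1,1,2],!![2,0,0;1,1,2;0,1,1]),dfl],
![(!![1,1,0;0,1,0;0,1,1],!![1,2,0;0,1,0;0,2,1],!![2,0,0;2,0,2;0,2,2],!![2,0,0;2,1,2;1,2,0]),dfl,dfl],
![dfl,dfl,(!![1,0,0;0,0,1;0,2,1],!![1,0,0;0,1,2;0,1,0],!![1,2,1;0,2,1;2,1,1],!![1,2,0;2,2,2;2,0,2])]],
![![dfl,(!![1,0,0;0,1,1;0,0,1],!![1,0,0;0,1,2;0,0,1],!![1,2,1;0,0,1;1,1,2],!![2,0,2;1,1,2;0,1,0]),dfl],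
![(!![1,0,0;0,1,0;0,1,1],!![1,0,0;0,1,0;0,2,1],!![1,0,0;2,1,1;2,0,1],!![1,0,0;0,1,2;1,0,1]),dfl,dfl],
![dfl,dfl,(!![1,0,0;0,1,0;1,0,1],!![1,0,0;0,1,0;2,0,1],!![1,2,1;2,2,2;1,1,2],!![2,0,2;1,1,0;0,1,1])]],
![![dfl,(!![1,0,0;0,1,0;1,1,1],!![1,0,0;0,1,0;2,2,1],!![1,0,0;2,2,1;1,0,2],!![1,0,0;0,2,2;1,0,2]),dfl],
![(!![1,1,0;0,1,0;0,2,1],!![1,2,0;0,1,0;0,1,1],!![2,1,1;1,2,1;1,1,1],!![1,0,2;0,1,2;2,2,0]),dfl,dfl],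
![dfl,dfl,(!![1,1,0;0,1,0;0,0,1],!![1,2,0;0,1,0;0,0,1],!![2,1,1;0,0,2;1,1,0],!![1,1,2;2,2,2;0,2,0])]]],
![![![dfl,(!![1,0,0;1,1,0;0,0,1],!![1,0,0;2,1,0;0,0,1],!![1,2,1;0,0,1;1,1,2],!![2,0,2;1,1,2;0,1,0]),dfl],
![(!![1,1,0;0,1,0;0,0,1],!![1,2,0;0,1,0;0,0,1],!![1,0,0;2,0,1;2,2,2],!![1,0,0;1,2,2;1,1,0]),dfl,dfl],
![dfl,dfl,(!![1,0,0;0,1,0;0,1,1],!![1,0,0;0,1,0;0,2,1],!![2,2,0;1,1,2;1,0,2],!![2,2,1;0,1,2;2,2,0])]],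
![![dfl,(!![1,0,0;0,1,0;0,2,1],!![1,0,0;0,1,0;0,1,1],!![0,2,2;0,0,2;1,1,0],!![1,2,1;2,1,0;0,2,0]),dfl],
![(!![1,0,0;1,1,0;0,1,1],!![1,0,0;2,1,0;1,2,1],!![1,0,0;1,0,2;2,1,1],!![1,0,0;0,1,1;1,2,0]),dfl,dfl],
![dfl,dfl,(!![1,1,1;0,1,0;0,1,1],!![1,0,2;0,1,0;0,2,1],!![1,0,0;1,2,2;1,1,0],!![1,0,0;2,0,1;2,2,2])]],
![![dfl,(!![1,0,0;2,2,1;0,1,1],!![1,0,0;1,1,2;2,2,2],!![1,2,1;0,1,1;1,2,2],!![0,1,1;1,1,2;2,0,1]),dfl],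
![(!![1,0,0;0,1,1;0,0,1],!![1,0,0;0,1,2;0,0,1],!![2,0,0;0,0,1;1,1,2],!![2,0,0;1,1,1;0,1,0]),dfl,dfl],
![dfl,dfl,(!![1,0,0;1,1,0;0,1,1],!![1,0,0;2,1,0;1,2,1],!![1,0,0;2,2,2;0,2,1],!![1,0,0;1,1,1;1,1,2])]]]],
![![![![dfl,(!![1,0,1;0,1,0;0,0,1],!![1,0,2;0,1,0;0,0,1],!![2,0,0;0,0,1;1,1,2],!![2,0,0;1,1,1;0,1,0]),dfl],
![dfl,dfl,(!![1,0,0;0,2,1;0,1,1],!![1,0,0;0,1,2;0,2,2],!![1,0,1;2,1,0;1,1,0],!![0,1,2;0,2,2;1,2,1])],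
![(!![1,0,0;1,1,0;0,0,1],!![1,0,0;2,1,0;0,0,1],!![2,2,2;1,2,2;0,2,1],!![1,2,0;2,2,1;2,2,2]),dfl,dfl]],
![![dfl,(!![1,0,0;0,1,0;0,1,1],!![1,0,0;0,1,0;0,2,1],!![0,2,0;2,2,0;0,0,2],!![1,2,0;2,0,0;0,0,2]),dfl],
![dfl,dfl,(!![1,0,0;1,1,0;1,2,1],!![1,0,0;2,1,0;1,1,1],!![2,1,1;0,2,0;1,2,0],!![0,2,1;0,2,0;1,0,1])],
![(!![1,0,0;0,1,0;1,0,1],!![1,0,0;0,1,0;2,0,1],!![1,2,1;0,0,1;1,1,2],!![2,0,2;1,1,2;0,1,0]),dfl,dfl]],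
![![dfl,(!![1,0,0;0,1,1;0,0,1],!![1,0,0;0,1,2;0,0,1],!![2,1,0;1,2,2;0,2,1],!![1,2,2;2,2,2;2,2,0]),dfl],
![dfl,dfl,(!![1,1,0;0,1,0;0,1,1],!![1,2,0;0,1,0;0,2,1],!![1,1,2;1,2,2;0,2,1],!![1,0,1;2,1,0;2,1,1])],
![(!![1,1,0;0,1,0;0,2,1],!![1,2,0;0,1,0;0,1,1],!![0,2,1;2,2,0;0,0,2],!![1,2,1;2,0,2;0,0,2]),dfl,dfl]]],
![![![dfl,(!![1,0,0;1,1,0;0,0,1],!![1,0,0;2,1,0;0,0,1],!![2,1,0;1,2,2;0,2,1],!![1,2,2;2,2,2;2,2,0]),dfl],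
![dfl,dfl,(!![1,0,0;0,1,0;0,1,1],!![1,0,0;0,1,0;0,2,1],!![1,0,2;2,2,0;0,0,2],!![1,0,2;2,2,1;0,0,2])],
![(!![1,0,0;1,1,0;0,2,1],!![1,0,0;2,1,0;2,1,1],!![1,0,0;0,2,0;2,1,2],!![1,0,0;0,2,0;2,2,2]),dfl,dfl]],
![![dfl,(!![1,0,0;0,2,1;0,1,1],!![1,0,0;0,1,2;0,2,2],!![1,2,1;2,1,0;1,1,0],!![0,1,2;0,2,2;1,1,0]),dfl],
![dfl,dfl,(!![1,1,1;0,1,0;0,1,1],!![1,0,2;0,1,0;0,2,1],!![1,2,1;0,2,1;1,1,1],!![1,2,0;1,0,2;1,1,2])],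
![(!![1,0,0;0,2,1;0,1,1],!![1,0,0;0,1,2;0,2,2],!![1,1,2;0,2,1;0,0,2],!![1,1,0;0,2,2;0,0,2]),dfl,dfl]],
![![dfl,(!![2,2,1;0,1,0;1,2,1],!![1,0,2;0,1,0;2,1,2],!![1,2,1;2,0,2;2,2,1],!![2,0,1;2,2,0;1,2,2]),dfl],
![dfl,dfl,(!![1,0,1;0,1,0;0,0,1],!![1,0,2;0,1,0;0,0,1],!![2,1,1;1,1,2;2,1,2],!![0,2,1;2,2,0;2,0,1])],
![(!![1,0,0;0,1,0;2,2,1],!![1,0,0;0,1,0;1,1,1],!![2,1,1;1,0,0;0,1,0],!![0,1,0;0,0,1;1,1,2]),dfl,dfl]]],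
![![![dfl,(!![1,0,0;0,1,0;0,0,1],!![1,0,0;0,1,0;0,0,1],!![2,1,0;1,2,2;0,2,1],!![1,2,2;2,2,2;2,2,0]),dfl],
![dfl,dfl,(!![1,0,0;1,1,0;0,0,1],!![1,0,0;2,1,0;0,0,1],!![1,0,0;2,1,0;2,1,1],!![1,0,0;1,1,0;0,2,1])],
![(!![1,0,0;1,1,0;0,2,1],!![1,0,0;2,1,0;2,1,1],!![1,2,1;0,1,0;0,0,1],!![1,1,2;0,1,0;0,0,1]),dfl,dfl]],
![![dfl,(!![0,2,1;2,2,1;1,1,1],!![1,2,0;2,2,2;0,2,2],!![0,2,1;1,2,1;2,0,1],!![2,1,0;1,1,1;2,1,1]),dfl],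
![dfl,dfl,(!![1,0,0;1,1,0;0,2,1],!![1,0,0;2,1,0;2,1,1],!![1,0,0;0,2,1;2,1,1],!![1,0,0;2,1,2;2,2,2])],
![(!![1,0,0;0,1,0;0,0,1],!![1,0,0;0,1,0;0,0,1],!![2,2,2;1,2,2;0,2,1],!![1,2,0;2,2,1;2,2,2]),dfl,dfl]],
![![dfl,(!![1,1,1;0,1,0;0,1,1],!![1,0,2;0,1,0;0,2,1],!![0,2,1;2,2,1;2,1,1],!![1,2,0;0,1,2;1,1,2]),dfl],
![dfl,dfl,(!![1,0,0;0,1,0;0,0,1],!![1,0,0;0,1,0;0,0,1],!![1,0,0;2,1,0;2,1,1],!![1,0,0;1,1,0;0,2,1])],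
![(!![1,0,0;0,1,1;0,0,1],!![1,0,0;0,1,2;0,0,1],!![2,2,2;1,2,2;0,2,1],!![1,2,0;2,2,1;2,2,2]),dfl,dfl]]]]]]

/-- entrywise equality, as a decidable proposition -/
def eq3 (A B : M33) : Prop :=
  A 0 0 = B 0 0 ∧ A 0 1 = B 0 1 ∧ A 0 2 = B 0 2 ∧ A 1 0 = B 1 0 ∧ A 1 1 = B 1 1 ∧ A 1 2 = B 1 2 ∧
    A 2 0 = B 2 0 ∧ A 2 1 = B 2 1 ∧ A 2 2 = B 2 2

instance (A B : M33) : Decidable (eq3 A B) := by unfold eq3; infer_instance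

lemma eq_of_eq3 {A B : M33} (h : eq3 A B) : A = B := by
  obtain ⟨h1, h2, h3, h4, h5, h6, h7, h8, h9⟩ := h
  ext i j
  fin_cases i <;> fin_cases j <;> assumption

/-- the statement checked for each table entry -/
def good (a b c d e f : Fin 3) : Prop :=
  ((a : ZMod 3) * f - b * e = -1) →
    eq3 (mul3 (tbl a b c d e f).1 (tbl a b c d e f).2.1) 1 ∧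
    eq3 (mul3 (tbl a b c d e f).2.2.1 (tbl a b c d e f).2.2.2) 1 ∧
    eq3 (Mn (a : ZMod 3) b c d e f)
      (mul3 (mul3 (mul3 (tbl a b c d e f).1 (X4 (ZMod 3))) (tbl a b c d e f).2.1)
        (mul3 (mul3 (tbl a b c d e f).2.2.1 (X4 (ZMod 3))) (tbl a b c d e f).2.2.2))

instance (a b c d e f : Fin 3) : Decidable (good a b c d e f) := by unfold good; infer_instance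

set_option maxRecDepth 100000 in
theorem tbl_ok : ∀ a b c d e f : Fin 3, good a b c d e f := by
  decide +kernel

end Cfsg.Agent.Lib.Helper7.Sou3
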