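import Mathlib
import Cfsg.Agent.Lib.Helper7.Sou3C
import Cfsg.Agent.Lib.Helper7.Sou3T

/-!
# From matrix factorisations to `SL₃` and `PSL₃` (helper7)
-/

set_option autoImplicit false

namespace Cfsg.Agent.Lib.Helper7.Sou3

variable {F : Type*} [Field F]

/-- from `GL`-conjugacy to `SL`-conjugacy when the centraliser has all determinants -/
lemma sl_conj_of_cj {X B : Matrix (Fin 3) (Fin 3) F}
    (hcent : ∀ d : F, d ≠ 0 → ∃ T T' : Matrix (Fin 3) (Fin 3) F,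
      T * T' = 1 ∧ T.det = d ∧ T * X = X * T)
    (h : Cj X B) :
    ∃ S S' : Matrix (Fin 3) (Fin 3) F, S.det = 1 ∧ S * S' = 1 ∧ B = S * X * S' := by
  obtain ⟨P, Q, h1, h2, rfl⟩ := h
  have hP : P.det ≠ 0 := by
    intro h0
    have := congrArg Matrix.det h1
    rw [Matrix.det_mul, h0, zero_mul, Matrix.det_one] at this
    exact zero_ne_one this
  obtain ⟨T, T', hT, hd, hc⟩ := hcent (P.det)⁻¹ (inv_ne_zero hP)
  refine ⟨P * T, T' * Q, ?_, ?_, ?_⟩
  · rw [Matrix.det_mul, hd, mul_inv_cancel₀ hP]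
  · calc P * T * (T' * Q) = P * (T * T') * Q := by simp only [Matrix.mul_assoc]
      _ = 1 := by rw [hT, Matrix.mul_one, h1]
  · calc P * X * Q = P * (X * (T * T')) * Q := by rw [hT, Matrix.mul_one]
      _ = P * ((T * X) * T') * Q := by rw [hc]; simp only [Matrix.mul_assoc]
      _ = P * T * X * (T' * Q) := by simp only [Matrix.mul_assoc]

lemma sl_ext' {A B : Matrix.SpecialLinearGroup (Fin 3) F}
    (h : (A : Matrix (Fin 3) (Fin 3) F) = (B : Matrix (Fin 3) (Fin 3) F)) : A = B :=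
  Subtype.ext h

lemma sl_mk_coe (S : Matrix (Fin 3) (Fin 3) F) (hS : S.det = 1) :
    ((⟨S, hS⟩ : Matrix.SpecialLinearGroup (Fin 3) F) : Matrix (Fin 3) (Fin 3) F) = S := rfl

/-- an `SL₃`-conjugate from a matrix conjugate -/
lemma exists_sl_conj {X : Matrix.SpecialLinearGroup (Fin 3) F} {B : Matrix (Fin 3) (Fin 3) F}
    (hcent : ∀ d : F, d ≠ 0 → ∃ T T' : Matrix (Fin 3) (Fin 3) F,
      T * T' = 1 ∧ T.det = d ∧ T * (X : Matrix (Fin 3) (Fin 3) F) = X * T)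
    (h : Cj (X : Matrix (Fin 3) (Fin 3) F) B) :
    ∃ U : Matrix.SpecialLinearGroup (Fin 3) F, B = ((U * X * U⁻¹ : Matrix.SpecialLinearGroup (Fin 3) F) :
      Matrix (Fin 3) (Fin 3) F) := by
  obtain ⟨S, S', hS, hSS, rfl⟩ := sl_conj_of_cj hcent h
  set U : Matrix.SpecialLinearGroup (Fin 3) F := ⟨S, hS⟩ with hUdef
  have hUS : (U : Matrix (Fin 3) (Fin 3) F) = S := rfl
  refine ⟨U, ?_⟩
  have hinv : ((U⁻¹ : Matrix.SpecialLinearGroup (Fin 3) F) : Matrix (Fin 3) (Fin 3) F) = S' := by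
    have h1 : ((U⁻¹ : Matrix.SpecialLinearGroup (Fin 3) F) : Matrix (Fin 3) (Fin 3) F) * S = 1 := by
      have h0 := congrArg (fun Z : Matrix.SpecialLinearGroup (Fin 3) F =>
        (Z : Matrix (Fin 3) (Fin 3) F)) (inv_mul_cancel U)
      simp only [Matrix.SpecialLinearGroup.coe_mul, Matrix.SpecialLinearGroup.coe_one] at h0
      rw [← hUS]
      exact h0
    calc ((U⁻¹ : Matrix.SpecialLinearGroup (Fin 3) F) : Matrix (Fin 3) (Fin 3) F)
        = ((U⁻¹ : Matrix.SpecialLinearGroup (Fin 3) F) : Matrix (Fin 3) (Fin 3) F) *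
          (S * S') := by rw [hSS, Matrix.mul_one]
      _ = S' := by rw [← Matrix.mul_assoc, h1, Matrix.one_mul]
  simp only [Matrix.SpecialLinearGroup.coe_mul]
  rw [hinv, hUS]

/-- the `SL₃`-level factorisation statement -/
theorem sl_factor (X : Matrix.SpecialLinearGroup (Fin 3) F)
    (hcent : ∀ d : F, d ≠ 0 → ∃ T T' : Matrix (Fin 3) (Fin 3) F,
      T * T' = 1 ∧ T.det = d ∧ T * (X : Matrix (Fin 3) (Fin 3) F) = X * T)
    (hfac : ∀ A : Matrix (Fin 3) (Fin 3) F, (¬ ∃ c : F, A = c • (1 : Matrix (Fin 3) (Fin 3) F)) →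
      A.det = 1 → ∃ B C, A = B * C ∧ Cj (X : Matrix (Fin 3) (Fin 3) F) B ∧
        Cj (X : Matrix (Fin 3) (Fin 3) F) C)
    (A : Matrix.SpecialLinearGroup (Fin 3) F)
    (hA : ¬ ∃ c : F, (A : Matrix (Fin 3) (Fin 3) F) = c • (1 : Matrix (Fin 3) (Fin 3) F)) :
    ∃ U V : Matrix.SpecialLinearGroup (Fin 3) F, A = U * X * U⁻¹ * (V * X * V⁻¹) := by
  obtain ⟨B, C, hBC, hB, hC⟩ := hfac A hA A.2
  obtain ⟨U, hU⟩ := exists_sl_conj hcent hB
  obtain ⟨V, hV⟩ := exists_sl_conj hcent hC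
  refine ⟨U, V, sl_ext' ?_⟩
  rw [hBC, hU, hV]
  simp only [Matrix.SpecialLinearGroup.coe_mul]

/-- the `PSL₃`-level statement -/
theorem psl_of_sl (p : ℕ) (X : Matrix.SpecialLinearGroup (Fin 3) F) (hX : ¬ p ∣ orderOf X)
    (h : ∀ A : Matrix.SpecialLinearGroup (Fin 3) F,
      (¬ ∃ c : F, (A : Matrix (Fin 3) (Fin 3) F) = c • (1 : Matrix (Fin 3) (Fin 3) F)) →
      ∃ U V : Matrix.SpecialLinearGroup (Fin 3) F, A = U * X * U⁻¹ * (V * X * V⁻¹)) :
    ∃ x : Matrix.ProjectiveSpecialLinearGroup (Fin 3) F, ¬ p ∣ orderOf x ∧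
      ∀ g : Matrix.ProjectiveSpecialLinearGroup (Fin 3) F, g ≠ 1 →
        ∃ u v : Matrix.ProjectiveSpecialLinearGroup (Fin 3) F,
          g = (u * x * u⁻¹) * (v * x * v⁻¹) := by
  refine ⟨QuotientGroup.mk X, ?_, ?_⟩
  · intro hp
    apply hX
    refine dvd_trans hp ?_
    exact orderOf_map_dvd (QuotientGroup.mk' (Subgroup.center (Matrix.SpecialLinearGroup (Fin 3) F))) X
  · intro g hg
    obtain ⟨A, rfl⟩ := QuotientGroup.mk_surjective g
    have hA : ¬ ∃ c : F, (A : Matrix (Fin 3) (Fin 3) F) = c • (1 : Matrix (Fin 3) (Fin 3) F) := by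
      rintro ⟨c, hc⟩
      apply hg
      rw [QuotientGroup.eq_one_iff, Subgroup.mem_center_iff]
      intro B
      apply sl_ext'
      simp only [Matrix.SpecialLinearGroup.coe_mul]
      rw [hc]
      simp
    obtain ⟨U, V, hUV⟩ := h A hA
    refine ⟨QuotientGroup.mk U, QuotientGroup.mk V, ?_⟩
    rw [hUV]
    rfl

/-! ### The diagonal element -/

lemma Dg_mul (a b c a' b' c' : F) : Dg a b c * Dg a' b' c' = Dg (a * a') (b * b') (c * c') := by
  ext i j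
  fin_cases i <;> fin_cases j <;> simp [Dg, Matrix.mul_apply, Fin.sum_univ_three]

lemma Dg_one : Dg (1 : F) 1 1 = 1 := by
  ext i j
  fin_cases i <;> fin_cases j <;> simp [Dg]

lemma Dg_pow (a b c : F) (n : ℕ) : Dg a b c ^ n = Dg (a ^ n) (b ^ n) (c ^ n) := by
  induction n with
  | zero => simp [Dg_one]
  | succ n ih => rw [pow_succ, ih, Dg_mul, pow_succ, pow_succ, pow_succ]

lemma Dg_det (a b c : F) : (Dg a b c).det = a * b * c := by
  rw [Matrix.det_fin_three]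
  simp [Dg]

lemma Dg_cent (a b c : F) (d : F) (hd : d ≠ 0) : ∃ T T' : Matrix (Fin 3) (Fin 3) F,
    T * T' = 1 ∧ T.det = d ∧ T * Dg a b c = Dg a b c * T := by
  refine ⟨Dg d 1 1, Dg d⁻¹ 1 1, ?_, ?_, ?_⟩
  · rw [Dg_mul, mul_inv_cancel₀ hd, mul_one, Dg_one]
  · rw [Dg_det]; ring
  · rw [Dg_mul, Dg_mul]
    congr 1 <;> ring

/-! ### The element of order four -/

lemma X4_det : (X4 F).det = 1 := by
  rw [Matrix.det_fin_three]
  simp [X4]

lemma X4_pow : X4 F ^ 4 = 1 := by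
  have h2 : X4 F * X4 F = Dg (-1) 1 (-1) := by
    ext i j
    fin_cases i <;> fin_cases j <;> simp [X4, Dg, Matrix.mul_apply, Fin.sum_univ_three]
  have : X4 F ^ 4 = (X4 F * X4 F) * (X4 F * X4 F) := by
    simp only [pow_succ, pow_zero, Matrix.one_mul, Matrix.mul_assoc]
  rw [this, h2, Dg_mul]
  simp [Dg_one]

lemma X4_cent (d : F) (hd : d ≠ 0) : ∃ T T' : Matrix (Fin 3) (Fin 3) F,
    T * T' = 1 ∧ T.det = d ∧ T * X4 F = X4 F * T := by
  refine ⟨Dg 1 d 1, Dg 1 d⁻¹ 1, ?_, ?_, ?_⟩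
  · rw [Dg_mul, mul_inv_cancel₀ hd, mul_one, Dg_one]
  · rw [Dg_det]; ring
  · ext i j
    fin_cases i <;> fin_cases j <;> simp [X4, Dg, Matrix.mul_apply, Fin.sum_univ_three]

end Cfsg.Agent.Lib.Helper7.Sou3
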