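import Mathlib
import Cfsg.Agent.Lib.Helper7.Sou3D

/-!
# A semisimple class `C` of `PSL₃(q)`, `q ≥ 3`, with `C · C ⊇ PSL₃(q) ∖ {1}` (helper7)
-/

set_option autoImplicit false

namespace Cfsg.Agent.Lib.Helper7.Sou3

variable {F : Type*} [Field F]

/-! ### `q ≥ 4` -/

theorem psl3_of_four_le [Fintype F] (p : ℕ) [Fact p.Prime] [CharP F p]
    (h4 : 4 ≤ Fintype.card F) :
    ∃ x : Matrix.ProjectiveSpecialLinearGroup (Fin 3) F, ¬ p ∣ orderOf x ∧
      ∀ g : Matrix.ProjectiveSpecialLinearGroup (Fin 3) F, g ≠ 1 →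
        ∃ u v : Matrix.ProjectiveSpecialLinearGroup (Fin 3) F,
          g = (u * x * u⁻¹) * (v * x * v⁻¹) := by
  classical
  obtain ⟨ζ, -, hζ⟩ : ∃ ζ ∈ (Finset.univ : Finset F), ζ ∉ ({0, 1, -1} : Finset F) := by
    apply Finset.exists_mem_notMem_of_card_lt_card
    calc ({0, 1, -1} : Finset F).card ≤ 3 := Finset.card_le_three
      _ < Fintype.card F := h4
      _ = (Finset.univ : Finset F).card := Finset.card_univ.symm
  simp only [Finset.mem_insert, Finset.mem_singleton, not_or] at hζ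
  obtain ⟨h0, h1, hm1⟩ := hζ
  have h12 : (1 : F) ≠ ζ := fun h => h1 h.symm
  have h13 : (1 : F) ≠ ζ⁻¹ := fun h => h1 (by rw [← inv_inv ζ, ← h, inv_one])
  have h23 : ζ ≠ ζ⁻¹ := by
    intro h
    have h2 : ζ * ζ = 1 := by
      nth_rewrite 2 [h]
      exact mul_inv_cancel₀ h0
    have h3 : (ζ - 1) * (ζ + 1) = 0 := by linear_combination h2
    rcases mul_eq_zero.1 h3 with h4 | h4
    · exact h1 (sub_eq_zero.1 h4)
    · exact hm1 (eq_neg_of_add_eq_zero_left h4)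
  have hprod : (1 : F) * ζ * ζ⁻¹ = 1 := by rw [one_mul, mul_inv_cancel₀ h0]
  have hdetX : (Dg 1 ζ ζ⁻¹).det = 1 := by rw [Dg_det, hprod]
  set X : Matrix.SpecialLinearGroup (Fin 3) F := ⟨Dg 1 ζ ζ⁻¹, hdetX⟩ with hXdef
  have hXc : (X : Matrix (Fin 3) (Fin 3) F) = Dg 1 ζ ζ⁻¹ := rfl
  refine psl_of_sl p X ?_ (fun A hA => sl_factor X ?_ ?_ A hA)
  · -- the order of `X` divides `q - 1`
    have hpow : X ^ (Fintype.card F - 1) = 1 := by
      apply sl_ext'
      rw [Matrix.SpecialLinearGroup.coe_pow, hXc, Dg_pow, one_pow, inv_pow,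
        FiniteField.pow_card_sub_one_eq_one ζ h0, inv_one, Dg_one,
        Matrix.SpecialLinearGroup.coe_one]
    have hdvd : orderOf X ∣ Fintype.card F - 1 := orderOf_dvd_of_pow_eq_one hpow
    intro hp
    have hp1 : p ∣ Fintype.card F - 1 := dvd_trans hp hdvd
    have hpq : p ∣ Fintype.card F :=
      (CharP.cast_eq_zero_iff F p _).1 (Nat.cast_card_eq_zero F)
    have h1' : p ∣ Fintype.card F - (Fintype.card F - 1) := Nat.dvd_sub hpq hp1
    have h2' : Fintype.card F - (Fintype.card F - 1) = 1 := by omega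
    rw [h2'] at h1'
    exact (Fact.out : p.Prime).one_lt.ne' (Nat.dvd_one.1 h1')
  · intro d hd
    rw [hXc]
    exact Dg_cent 1 ζ ζ⁻¹ d hd
  · intro A hA hdet
    rw [hXc]
    exact factor_diag hA hdet 1 ζ ζ⁻¹ hprod h12 h13 h23

/-! ### `q = 3` -/

lemma X4_map (φ : ZMod 3 →+* F) : φ.mapMatrix (X4 (ZMod 3)) = X4 F := by
  ext i j
  fin_cases i <;> fin_cases j <;> simp [X4, RingHom.mapMatrix_apply]

/-- transport of the table to a field with three elements -/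
lemma factor_X4_of_surj (φ : ZMod 3 →+* F) (hφ : Function.Surjective φ)
    {A : Matrix (Fin 3) (Fin 3) F}
    (hA : ¬ ∃ c : F, A = c • (1 : Matrix (Fin 3) (Fin 3) F)) (hdet : A.det = 1) :
    ∃ B C, A = B * C ∧ Cj (X4 F) B ∧ Cj (X4 F) C := by
  obtain ⟨M, hc, h00, h10, h20⟩ := exists_first_col hA 0
  obtain ⟨a, ha⟩ := hφ (M 0 1)
  obtain ⟨b, hb⟩ := hφ (M 0 2)
  obtain ⟨c, hc'⟩ := hφ (M 1 1)
  obtain ⟨d, hd⟩ := hφ (M 1 2)
  obtain ⟨e, he⟩ := hφ (M 2 1)
  obtain ⟨f, hf⟩ := hφ (M 2 2)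
  have hM : M = φ.mapMatrix (Mn a b c d e f) := by
    ext i j
    fin_cases i <;> fin_cases j <;>
      simp [Mn, RingHom.mapMatrix_apply, h00, h10, h20, ha, hb, hc', hd, he, hf]
  have hcond : a * f - b * e = -1 := by
    apply φ.injective
    have hd' : M.det = 1 := by rw [hc.det, hdet]
    rw [Matrix.det_fin_three, h00, h10, h20, ← ha, ← hb, ← hc', ← hd, ← he, ← hf] at hd'
    simp only [map_sub, map_mul, map_neg, map_one]
    linear_combination -hd'
  have key := tbl_ok a b c d e f hcond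
  generalize tbl a b c d e f = t at key
  obtain ⟨U, Ui, V, Vi⟩ := t
  obtain ⟨e1, e2, e3⟩ := key
  have h1 : U * Ui = 1 := by rw [← mul3_eq]; exact eq_of_eq3 e1
  have h2 : V * Vi = 1 := by rw [← mul3_eq]; exact eq_of_eq3 e2
  have h3 : Mn a b c d e f = U * X4 (ZMod 3) * Ui * (V * X4 (ZMod 3) * Vi) := by
    simp only [← mul3_eq]
    exact eq_of_eq3 e3
  have hMfac : M = (φ.mapMatrix U * X4 F * φ.mapMatrix Ui) *
      (φ.mapMatrix V * X4 F * φ.mapMatrix Vi) := by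
    rw [hM, h3]
    simp only [map_mul, X4_map]
  have hB' : Cj (X4 F) (φ.mapMatrix U * X4 F * φ.mapMatrix Ui) :=
    ⟨φ.mapMatrix U, φ.mapMatrix Ui, by rw [← map_mul, h1, map_one],
      by rw [← map_mul, mul_eq_one_comm.1 h1, map_one], rfl⟩
  have hC' : Cj (X4 F) (φ.mapMatrix V * X4 F * φ.mapMatrix Vi) :=
    ⟨φ.mapMatrix V, φ.mapMatrix Vi, by rw [← map_mul, h2, map_one],
      by rw [← map_mul, mul_eq_one_comm.1 h2, map_one], rfl⟩
  obtain ⟨B, C, hBC, hB, hC⟩ := factor_of_cj hc hMfac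
  exact ⟨B, C, hBC, hB'.trans hB, hC'.trans hC⟩

theorem psl3_of_card_three [Fintype F] (p : ℕ) [Fact p.Prime] [CharP F p]
    (h3 : Fintype.card F = 3) :
    ∃ x : Matrix.ProjectiveSpecialLinearGroup (Fin 3) F, ¬ p ∣ orderOf x ∧
      ∀ g : Matrix.ProjectiveSpecialLinearGroup (Fin 3) F, g ≠ 1 →
        ∃ u v : Matrix.ProjectiveSpecialLinearGroup (Fin 3) F,
          g = (u * x * u⁻¹) * (v * x * v⁻¹) := by
  have hpq : p ∣ Fintype.card F :=
    (CharP.cast_eq_zero_iff F p _).1 (Nat.cast_card_eq_zero F)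
  rw [h3] at hpq
  have hp3 : p = 3 := (Nat.prime_dvd_prime_iff_eq (Fact.out : p.Prime) Nat.prime_three).1 hpq
  subst hp3
  let φ : ZMod 3 →+* F := ZMod.castHom (dvd_refl 3) F
  have hφ : Function.Surjective φ := by
    have hb : Function.Bijective φ :=
      (Fintype.bijective_iff_injective_and_card φ).2 ⟨φ.injective, by rw [ZMod.card, h3]⟩
    exact hb.2
  set X : Matrix.SpecialLinearGroup (Fin 3) F := ⟨X4 F, X4_det⟩ with hXdef
  have hXc : (X : Matrix (Fin 3) (Fin 3) F) = X4 F := rfl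
  refine psl_of_sl 3 X ?_ (fun A hA => sl_factor X ?_ ?_ A hA)
  · have hpow : X ^ 4 = 1 := by
      apply sl_ext'
      rw [Matrix.SpecialLinearGroup.coe_pow, hXc, X4_pow, Matrix.SpecialLinearGroup.coe_one]
    have hdvd : orderOf X ∣ 4 := orderOf_dvd_of_pow_eq_one hpow
    intro hp
    have : 3 ∣ 4 := dvd_trans hp hdvd
    omega
  · intro d hd
    rw [hXc]
    exact X4_cent d hd
  · intro A hA hdet
    rw [hXc]
    exact factor_X4_of_surj φ hφ hA hdet

/-! ### The theorem -/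

theorem psl3_class_square [Fintype F] (p : ℕ) [Fact p.Prime] [CharP F p]
    (h3 : 3 ≤ Fintype.card F) :
    ∃ x : Matrix.ProjectiveSpecialLinearGroup (Fin 3) F, ¬ p ∣ orderOf x ∧
      ∀ g : Matrix.ProjectiveSpecialLinearGroup (Fin 3) F, g ≠ 1 →
        ∃ u v : Matrix.ProjectiveSpecialLinearGroup (Fin 3) F,
          g = (u * x * u⁻¹) * (v * x * v⁻¹) := by
  rcases eq_or_lt_of_le h3 with h | h
  · exact psl3_of_card_three p h.symm
  · exact psl3_of_four_le p h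

end Cfsg.Agent.Lib.Helper7.Sou3
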