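import Mathlib
import Cfsg.Agent.Lib.SpRU.Sp4Even

/-!
# `Sp₄(F)`, `F` of characteristic two with at least four elements, is generated by two elements
(helper7, on top of lead's `Lib/SpRU/Sp4Even`)

The generators are `uE` and `hE a b * sie (σ • P01)`; the Siegel element commutes with `uE`, so the
subgroup contains `VE c t`, and the commutator of `VE c t` with the Siegel element provides the
parabolic element with Levi part `Jx μ` that lead's argument needs.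
-/

set_option autoImplicit false
set_option linter.unusedSimpArgs false

namespace Cfsg.Agent.Lib.Helper7.Sp4TwoGen

open Matrix Cfsg Cfsg.Agent.H9.SpA Cfsg.Agent.H9.SpB Cfsg.Agent.H9.SpD Cfsg.Agent.SpRU
  Cfsg.Agent.SpRU.Sp4

variable {F : Type*} [Field F]

section closure

variable [CharP F 2] {H : Subgroup (SpG 2 F)} {c t μ : F}

/-- the rule obtained from the upper triangular word, from an abstract rule `Mu` -/
theorem ruleG' (hu : (uE : SpG 2 F) ∈ H) (hV : VE c t ∈ H)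
    (hMu : ∀ S : Matrix (Fin 2) (Fin 2) F, InS H S → InS H (Jx μ * S * (Jx μ)ᵀ))
    (hμ : μ * (t * c ^ 2) * (t * c ^ 2) = 1) {x : F}
    (h : InS H (!![x, 1; 1, 0] : Matrix (Fin 2) (Fin 2) F)) :
    InS H (!![x * ((t * c ^ 2) * (t * c ^ 2)), 1; 1, 0] : Matrix (Fin 2) (Fin 2) F) := by
  have h2 : (2 : F) = 0 := CharTwo.two_eq_zero
  have h1 := ruleA hu hV (hMu _ (ruleA hu hV (ruleJ hu (ruleA hu hV h))))
  rw [cong_cong, cong_cong, cong_cong, cong_cong] at h1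
  have hdet : (1 + t * c) * (1 + t * c) + t * (t * c ^ 2) = 1 := by
    linear_combination (t * c + t * t * c * c) * h2
  have hw := word_eq (1 + t * c) t (t * c ^ 2) μ h2 hdet hμ
  have e : Am c t * Jx μ * Am c t * Jx 1 * Am c t
      = !![t * c ^ 2, (1 + t * c) + t + μ * (1 + t * c)
          + μ * (1 + t * c) * (1 + t * c) * (t * c ^ 2); 0, μ * (t * c ^ 2)] := hw
  rw [e, word_act _ _ _ _ h2 hμ] at h1
  exact h1

theorem step_pow' (hu : (uE : SpG 2 F) ∈ H) (hV : VE c t ∈ H)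
    (hMu : ∀ S : Matrix (Fin 2) (Fin 2) F, InS H S → InS H (Jx μ * S * (Jx μ)ᵀ))
    (hμ : μ * (t * c ^ 2) * (t * c ^ 2) = 1) (ζ : F)
    (hζ : (t * c ^ 2) * (t * c ^ 2) = ζ) (k : ℕ) :
    InS H (!![ζ ^ k, 1; 1, 0] : Matrix (Fin 2) (Fin 2) F) := by
  induction k with
  | zero =>
    refine (Zu_mem hu).of_eq ?_
    ext i j
    fin_cases i <;> fin_cases j <;> simp [R0, P01]
  | succ k ih =>
    have := ruleG' hu hV hMu hμ ih
    rwa [hζ, ← pow_succ] at this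

theorem step_R0' (hu : (uE : SpG 2 F) ∈ H) (hV : VE c t ∈ H)
    (hMu : ∀ S : Matrix (Fin 2) (Fin 2) F, InS H S → InS H (Jx μ * S * (Jx μ)ᵀ))
    (hμ : μ * (t * c ^ 2) * (t * c ^ 2) = 1) (ζ : F)
    (hζ : (t * c ^ 2) * (t * c ^ 2) = ζ) (hgen : ∀ x : F, x ≠ 0 → ∃ k : ℕ, x = ζ ^ k)
    (hζ0 : ζ ≠ 0) (hζ1 : ζ ≠ 1) (y : F) :
    InS H (!![y, 0; 0, 0] : Matrix (Fin 2) (Fin 2) F) := by
  have h2 : (2 : F) = 0 := CharTwo.two_eq_zero
  have hx : ∀ x : F, x ≠ 0 → InS H (!![x, 1; 1, 0] : Matrix (Fin 2) (Fin 2) F) := by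
    intro x hx
    obtain ⟨k, rfl⟩ := hgen x hx
    exact step_pow' hu hV hMu hμ ζ hζ k
  have hy : ∀ y : F, y + 1 ≠ 0 → InS H (!![y, 0; 0, 0] : Matrix (Fin 2) (Fin 2) F) := by
    intro y hy
    refine ((hx (y + 1) hy).sub (hx 1 one_ne_zero)).of_eq ?_
    ext i j
    fin_cases i <;> fin_cases j <;> simp
  by_cases h1 : y + 1 = 0
  · have ha : ζ + 1 ≠ 0 := by
      intro h
      apply hζ1
      linear_combination h - h2
    have hb : (1 + ζ) + 1 ≠ 0 := by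
      intro h
      apply hζ0
      linear_combination h - h2
    refine ((hy ζ ha).add (hy (1 + ζ) hb)).of_eq ?_
    ext i j
    fin_cases i <;> fin_cases j <;> simp
    linear_combination (ζ + 1) * h2 - h1
  · exact hy y h1

theorem step_all' (hu : (uE : SpG 2 F) ∈ H) (hV : VE c t ∈ H)
    (hMu : ∀ S : Matrix (Fin 2) (Fin 2) F, InS H S → InS H (Jx μ * S * (Jx μ)ᵀ))
    (hμ : μ * (t * c ^ 2) * (t * c ^ 2) = 1) (ζ : F)
    (hζ : (t * c ^ 2) * (t * c ^ 2) = ζ) (hgen : ∀ x : F, x ≠ 0 → ∃ k : ℕ, x = ζ ^ k)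
    (hζ0 : ζ ≠ 0) (hζ1 : ζ ≠ 1) (a b d : F) :
    InS H (!![a, b; b, d] : Matrix (Fin 2) (Fin 2) F) := by
  have h2 : (2 : F) = 0 := CharTwo.two_eq_zero
  have hR0 := step_R0' hu hV hMu hμ ζ hζ hgen hζ0 hζ1
  have hr0 : (t * c ^ 2) * (t * c ^ 2) ≠ 0 := by rw [hζ]; exact hζ0
  have hA : ∀ y : F, InS H (!![0, y * ((1 + t * c) * (t * c ^ 2));
      y * ((1 + t * c) * (t * c ^ 2)), y * ((t * c ^ 2) * (t * c ^ 2))] :
        Matrix (Fin 2) (Fin 2) F) := by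
    intro y
    have h1 := ruleA hu hV (hR0 y) (c := c) (t := t)
    refine (h1.sub (hR0 (y * ((1 + t * c) * (1 + t * c))))).of_eq ?_
    ext i j
    fin_cases i <;> fin_cases j <;>
      simp [Am, Matrix.mul_apply, Fin.sum_univ_two, Matrix.transpose_apply, -Matrix.cons_mul] <;>
      ring
  have hP : ∀ y : F, InS H (!![0, y; y, 0] : Matrix (Fin 2) (Fin 2) F) := by
    intro y
    have e : y / ((t * c ^ 2) * (t * c ^ 2)) * ((t * c ^ 2) * (t * c ^ 2)) = y :=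
      div_mul_cancel₀ _ hr0
    have h1 := ruleJ hu (hA (y / ((t * c ^ 2) * (t * c ^ 2))))
    refine ((h1.sub (hA (y / ((t * c ^ 2) * (t * c ^ 2))))).sub
      (hR0 (y / ((t * c ^ 2) * (t * c ^ 2)) * ((t * c ^ 2) * (t * c ^ 2))))).of_eq ?_
    rw [e]
    ext i j
    fin_cases i <;> fin_cases j <;>
      simp [Jx, Matrix.mul_apply, Fin.sum_univ_two, Matrix.transpose_apply, -Matrix.cons_mul]
    linear_combination (y / ((t * c ^ 2) * (t * c ^ 2)) * ((1 + t * c) * (t * c ^ 2))) * h2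
  have hR1 : ∀ y : F, InS H (!![0, 0; 0, y] : Matrix (Fin 2) (Fin 2) F) := by
    intro y
    have e : y / ((t * c ^ 2) * (t * c ^ 2)) * ((t * c ^ 2) * (t * c ^ 2)) = y :=
      div_mul_cancel₀ _ hr0
    refine ((hA (y / ((t * c ^ 2) * (t * c ^ 2)))).sub
      (hP (y / ((t * c ^ 2) * (t * c ^ 2)) * ((1 + t * c) * (t * c ^ 2))))).of_eq ?_
    rw [e]
    ext i j
    fin_cases i <;> fin_cases j <;> simp
  refine (((hR0 a).add (hP b)).add (hR1 d)).of_eq ?_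
  ext i j
  fin_cases i <;> fin_cases j <;> simp

theorem step_rank_one' (hu : (uE : SpG 2 F) ∈ H) (hV : VE c t ∈ H)
    (hMu : ∀ S : Matrix (Fin 2) (Fin 2) F, InS H S → InS H (Jx μ * S * (Jx μ)ᵀ))
    (hμ : μ * (t * c ^ 2) * (t * c ^ 2) = 1) (ζ : F)
    (hζ : (t * c ^ 2) * (t * c ^ 2) = ζ) (hgen : ∀ x : F, x ≠ 0 → ∃ k : ℕ, x = ζ ^ k)
    (hζ0 : ζ ≠ 0) (hζ1 : ζ ≠ 1) (a : Fin 2 → F) (x : F) : InS H (x • vecMulVec a a) := by
  refine (step_all' hu hV hMu hμ ζ hζ hgen hζ0 hζ1 (x * (a 0 * a 0)) (x * (a 0 * a 1))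
    (x * (a 1 * a 1))).of_eq ?_
  ext i j
  fin_cases i <;> fin_cases j <;>
    simp only [vecMulVec_apply, Matrix.smul_apply, smul_eq_mul, Matrix.of_apply,
      Matrix.cons_val', Matrix.cons_val_zero, Matrix.cons_val_one, Matrix.cons_val_fin_one,
      Fin.zero_eta, Fin.mk_one, Fin.isValue] <;> ring

end closure

/-! ### The two generators -/

/-- generic group-theoretic core of the two-generator trick -/
theorem two_gen_core {G : Type*} [Group G] {H : Subgroup G} {x z u V : G}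
    (hzu : z * u * z⁻¹ = u) (hconj : x * u * x⁻¹ = V⁻¹) (hinv : x⁻¹ * u * x = x * u * x⁻¹)
    (hu : u ∈ H) (hb : x * z ∈ H) :
    V ∈ H ∧ V⁻¹ * (z⁻¹ * V * z) ∈ H := by
  have h1 : (x * z) * u * (x * z)⁻¹ = V⁻¹ := by
    calc x * z * u * (x * z)⁻¹ = x * (z * u * z⁻¹) * x⁻¹ := by group
      _ = V⁻¹ := by rw [hzu, hconj]
  have h2 : (x * z)⁻¹ * u * (x * z) = z⁻¹ * V⁻¹ * z := by
    calc (x * z)⁻¹ * u * (x * z) = z⁻¹ * (x⁻¹ * u * x) * z := by group
      _ = z⁻¹ * V⁻¹ * z := by rw [hinv, hconj]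
  have hV : V ∈ H := by
    have := H.inv_mem (H.mul_mem (H.mul_mem hb hu) (H.inv_mem hb))
    rwa [h1, inv_inv] at this
  refine ⟨hV, ?_⟩
  have h3 : z⁻¹ * V⁻¹ * z ∈ H := by
    rw [← h2]
    exact H.mul_mem (H.mul_mem (H.inv_mem hb) hu) hb
  have h4 : z⁻¹ * V * z = (z⁻¹ * V⁻¹ * z)⁻¹ := by group
  rw [h4]
  exact H.mul_mem (H.inv_mem hV) (H.inv_mem h3)

theorem Dg_mul_transpose {a b : F} (ha : a ≠ 0) (hb : b ≠ 0) :
    Dg a b * (Dg a⁻¹ b⁻¹)ᵀ = 1 := by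
  unfold Dg
  rw [Matrix.one_fin_two]
  ext i j
  fin_cases i <;> fin_cases j <;> simp [Matrix.mul_apply, Fin.sum_univ_two, ha, hb]

theorem Dg_transpose_mul {a b : F} (ha : a ≠ 0) (hb : b ≠ 0) :
    (Dg a⁻¹ b⁻¹)ᵀ * Dg a b = 1 := by
  unfold Dg
  rw [Matrix.one_fin_two]
  ext i j
  fin_cases i <;> fin_cases j <;> simp [Matrix.mul_apply, Fin.sum_univ_two, ha, hb]

theorem hE_sq_val (a b : F) (ha : a ≠ 0) (hb : b ≠ 0) :
    ((hE a b ha hb : SpG 2 F) * hE a b ha hb).1 = -1 := by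
  unfold hE
  simp only [Submonoid.coe_mul, lev_val, symJ_val, fromBlocks_multiply, Matrix.mul_one,
    Matrix.one_mul, Matrix.mul_zero, Matrix.zero_mul, add_zero, zero_add, Matrix.mul_neg,
    Matrix.neg_mul, neg_zero]
  rw [Dg_mul_transpose ha hb, Dg_transpose_mul ha hb]
  have : (-1 : Matrix (Fin 2 ⊕ Fin 2) (Fin 2 ⊕ Fin 2) F)
      = fromBlocks (-1 : Matrix (Fin 2) (Fin 2) F) 0 0 (-1) := by
    rw [← fromBlocks_one, fromBlocks_neg, neg_zero]
  rw [this]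

theorem hE_inv_conj (a b : F) (ha : a ≠ 0) (hb : b ≠ 0) (g : SpG 2 F) :
    (hE a b ha hb)⁻¹ * g * hE a b ha hb = hE a b ha hb * g * (hE a b ha hb)⁻¹ := by
  have h : hE a b ha hb * hE a b ha hb * g = g * (hE a b ha hb * hE a b ha hb) := by
    apply Subtype.ext
    have e1 : (hE a b ha hb * hE a b ha hb * g).1 = (hE a b ha hb * hE a b ha hb).1 * g.1 := rfl
    have e2 : (g * (hE a b ha hb * hE a b ha hb)).1 = g.1 * (hE a b ha hb * hE a b ha hb).1 := rfl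
    rw [e1, e2, hE_sq_val, Matrix.neg_mul, Matrix.mul_neg, Matrix.one_mul, Matrix.mul_one]
  generalize hE a b ha hb = x at h ⊢
  calc x⁻¹ * g * x = x⁻¹ * (g * (x * x)) * x⁻¹ := by group
    _ = x⁻¹ * (x * x * g) * x⁻¹ := by rw [h]
    _ = x * g * x⁻¹ := by group

section char2

variable [CharP F 2]

theorem sie_P01_comm_uE (σ : F) :
    sie (σ • P01) (P01_symm.smul σ) * (uE : SpG 2 F) * (sie (σ • P01) (P01_symm.smul σ))⁻¹
      = uE := by
  have h1 : (uE : SpG 2 F) * sie (σ • P01) (P01_symm.smul σ) * uE⁻¹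
      = sie (σ • P01) (P01_symm.smul σ) := by
    rw [conj_sie_of_gC gC_uE]
    apply sie_congr
    rw [gA_uE]
    have h2 : (2 : F) = 0 := CharTwo.two_eq_zero
    ext i j
    fin_cases i <;> fin_cases j <;>
      simp [Jx, P01, Matrix.mul_apply, Fin.sum_univ_two, Matrix.transpose_apply,
        -Matrix.cons_mul]
    linear_combination σ * h2
  generalize (sie (σ • (P01 : Matrix (Fin 2) (Fin 2) F)) (P01_symm.smul σ) : SpG 2 F) = z
    at h1 ⊢
  generalize (uE : SpG 2 F) = u at h1 ⊢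
  have h2 : u * z = z * u := by
    calc u * z = (u * z * u⁻¹) * u := by group
      _ = z * u := by rw [h1]
  calc z * u * z⁻¹ = (u * z) * z⁻¹ := by rw [h2]
    _ = u := by group

/-- rule `Mu` from the two generators -/
theorem ruleMu' {H : Subgroup (SpG 2 F)} {c t σ : F}
    (hW : (VE c t)⁻¹ * ((sie (σ • P01) (P01_symm.smul σ))⁻¹ * VE c t
      * sie (σ • P01) (P01_symm.smul σ)) ∈ H)
    (S : Matrix (Fin 2) (Fin 2) F) (h : InS H S) :
    InS H (Jx (-σ * t) * S * (Jx (-σ * t))ᵀ) := by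
  have e : (VE c t)⁻¹ * ((sie (σ • P01) (P01_symm.smul σ))⁻¹ * VE c t
      * sie (σ • P01) (P01_symm.smul σ))
      = k1 c t (-σ) * sie (σ • P01) (P01_symm.smul σ) := by
    unfold k1
    have : (sie (σ • P01) (P01_symm.smul σ) : SpG 2 F)⁻¹
        = sie (-σ • P01) (P01_symm.smul (-σ)) := by
      rw [sie_inv]
      exact sie_congr _ (by rw [neg_smul])
    rw [← this]
    group
  rw [e] at hW
  have hC : gC (k1 c t (-σ) * sie (σ • P01) (P01_symm.smul σ) : SpG 2 F) = 0 := by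
    rw [gC_mul, gC_k1, gC_sie, Matrix.zero_mul, Matrix.mul_zero, add_zero]
  have hA : gA (k1 c t (-σ) * sie (σ • P01) (P01_symm.smul σ) : SpG 2 F) = Jx (-σ * t) := by
    rw [gA_mul, gA_k1, gA_sie, gC_sie, Matrix.mul_one, Matrix.mul_zero, add_zero]
  have := InS.conjP hW hC h
  rwa [hA] at this

end char2

section final

variable [Fintype F] [CharP F 2]

/-- `Sp₄(F)`, `F` of characteristic two with at least four elements, is generated by two
elements. -/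
theorem sp4_two_gen (hF : 4 ≤ Fintype.card F) :
    ∃ a b : SpG 2 F, Subgroup.closure ({a, b} : Set (SpG 2 F)) = ⊤ := by
  classical
  have h2 : (2 : F) = 0 := CharTwo.two_eq_zero
  obtain ⟨ζ', hζ'⟩ : ∃ ζ : Fˣ, ∀ y : Fˣ, y ∈ Submonoid.powers ζ :=
    IsCyclic.exists_monoid_generator
  set ζ : F := (ζ' : F) with hζdef
  have hζ0 : ζ ≠ 0 := ζ'.ne_zero
  have hgen : ∀ x : F, x ≠ 0 → ∃ k : ℕ, x = ζ ^ k := by
    intro x hx
    obtain ⟨k, hk⟩ := (Submonoid.mem_powers_iff _ _).mp (hζ' (Units.mk0 x hx))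
    refine ⟨k, ?_⟩
    have := congrArg Units.val hk
    simpa using this.symm
  obtain ⟨l, hl0, hl1⟩ := Cfsg.Agent.H9.SpF.exists_ne_zero_one (K := F) (by omega)
  have hζ1 : ζ ≠ 1 := by
    intro h
    obtain ⟨k, hk⟩ := hgen l hl0
    rw [h, one_pow] at hk
    exact hl1 hk
  have hsq : ∀ x : F, ∃ y : F, y * y = x := by
    intro x
    obtain ⟨y, hy⟩ := FiniteField.isSquare_of_char_two (CharP.ringChar_of_prime_eq_zero
      Nat.prime_two h2) x
    exact ⟨y, hy.symm⟩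
  set t : F := ζ⁻¹ with ht
  have ht0 : t ≠ 0 := inv_ne_zero hζ0
  obtain ⟨r, hr⟩ := hsq ζ
  have hr0 : r ≠ 0 := by
    intro h
    rw [h, mul_zero] at hr
    exact hζ0 hr.symm
  obtain ⟨c, hc⟩ := hsq (r / t)
  have hc0 : c ≠ 0 := by
    intro h
    rw [h, mul_zero] at hc
    exact div_ne_zero hr0 ht0 hc.symm
  have ha0 : r / c ≠ 0 := div_ne_zero hr0 hc0
  have htc : t * c ^ 2 = r := by
    rw [pow_two, hc, mul_div_cancel₀ _ ht0]
  have hμ : (-(-1 : F) * t) * (t * c ^ 2) * (t * c ^ 2) = 1 := by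
    rw [htc, neg_neg, one_mul, mul_assoc, hr, ht, inv_mul_cancel₀ hζ0]
  have hζr : (t * c ^ 2) * (t * c ^ 2) = ζ := by rw [htc, hr]
  have hca : r / (r / c) = c := by field_simp
  have htb : (r ^ 2)⁻¹ = t := by rw [pow_two, hr]
  refine ⟨uE, hE (r / c) r ha0 hr0 * sie ((-1 : F) • P01) (P01_symm.smul _), ?_⟩
  set H : Subgroup (SpG 2 F) := Subgroup.closure
    ({uE, hE (r / c) r ha0 hr0 * sie ((-1 : F) • P01) (P01_symm.smul _)} : Set (SpG 2 F)) with hH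
  have huH : (uE : SpG 2 F) ∈ H := Subgroup.subset_closure (by simp)
  have hbH : hE (r / c) r ha0 hr0 * sie ((-1 : F) • P01) (P01_symm.smul _) ∈ H :=
    Subgroup.subset_closure (by simp)
  have hconj : hE (r / c) r ha0 hr0 * (uE : SpG 2 F) * (hE (r / c) r ha0 hr0)⁻¹
      = (VE c t)⁻¹ := by
    have h1 := hE_conj (r / c) r ha0 hr0
    rw [hca, htb] at h1
    generalize hE (r / c) r ha0 hr0 = x at h1 ⊢
    generalize (uE : SpG 2 F) = u at h1 ⊢
    generalize VE c t = V at h1 ⊢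
    have h3 : V = x * u⁻¹ * x⁻¹ := by rw [h1]; group
    rw [h3]
    group
  obtain ⟨hVH, hWH⟩ := two_gen_core (sie_P01_comm_uE (-1 : F)) hconj
    (hE_inv_conj (r / c) r ha0 hr0 uE) huH hbH
  have hrank := step_rank_one' huH hVH (ruleMu' hWH) hμ ζ hζr hgen hζ0 hζ1
  exact eq_top_of_siegel (k := 1) H (sympT_vl_mem hrank) (VE c t)⁻¹ (H.inv_mem hVH) (-t)
    (neg_ne_zero.mpr ht0) (VE_inv_act1 c t) (fun _ => c) (fun _ => hc0) (VE_inv_act2 c t)

end final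

end Cfsg.Agent.Lib.Helper7.Sp4TwoGen
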