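import Cfsg.Agent.Lib.Helper7.Sp6MulC

/-! # The multiplier of the symplectic group of degree six over the field of two elements: the check of the rows 2592 to 5183 of the certificate (generated) -/

set_option autoImplicit false
set_option maxRecDepth 100000

namespace Cfsg.Agent.Lib.Helper7.Sp6Mul

theorem rows_ok_8 : rowsOK 2592 324 = true := by decide +kernel

theorem rows_ok_9 : rowsOK 2916 324 = true := by decide +kernel

theorem rows_ok_10 : rowsOK 3240 324 = true := by decide +kernel

theorem rows_ok_11 : rowsOK 3564 324 = true := by decide +kernel

theorem rows_ok_12 : rowsOK 3888 324 = true := by decide +kernel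

theorem rows_ok_13 : rowsOK 4212 324 = true := by decide +kernel

theorem rows_ok_14 : rowsOK 4536 324 = true := by decide +kernel

theorem rows_ok_15 : rowsOK 4860 324 = true := by decide +kernel

end Cfsg.Agent.Lib.Helper7.Sp6Mul
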