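import Cfsg.Agent.Lib.Helper7.Sp6MulC

/-! # The multiplier of the symplectic group of degree six over the field of two elements: the check of the rows 5184 to 7775 of the certificate (generated) -/

set_option autoImplicit false
set_option maxRecDepth 100000

namespace Cfsg.Agent.Lib.Helper7.Sp6Mul

theorem rows_ok_16 : rowsOK 5184 324 = true := by decide +kernel

theorem rows_ok_17 : rowsOK 5508 324 = true := by decide +kernel

theorem rows_ok_18 : rowsOK 5832 324 = true := by decide +kernel

theorem rows_ok_19 : rowsOK 6156 324 = true := by decide +kernel

theorem rows_ok_20 : rowsOK 6480 324 = true := by decide +kernel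

theorem rows_ok_21 : rowsOK 6804 324 = true := by decide +kernel

theorem rows_ok_22 : rowsOK 7128 324 = true := by decide +kernel

theorem rows_ok_23 : rowsOK 7452 324 = true := by decide +kernel

end Cfsg.Agent.Lib.Helper7.Sp6Mul
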