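import Cfsg.Agent.Lib.Helper7.Sp6MulC
import Cfsg.Agent.Lib.Helper7.Sp6MulK2

/-! # The multiplier of the symplectic group of degree six over the field of two elements: the check of the rows 25920 to 28511 of the certificate (generated) -/

set_option autoImplicit false
set_option maxRecDepth 100000

namespace Cfsg.Agent.Lib.Helper7.Sp6Mul

theorem rows_ok_80 : rowsOK 25920 324 = true := by decide +kernel

theorem rows_ok_81 : rowsOK 26244 324 = true := by decide +kernel

theorem rows_ok_82 : rowsOK 26568 324 = true := by decide +kernel

theorem rows_ok_83 : rowsOK 26892 324 = true := by decide +kernel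

theorem rows_ok_84 : rowsOK 27216 324 = true := by decide +kernel

theorem rows_ok_85 : rowsOK 27540 324 = true := by decide +kernel

theorem rows_ok_86 : rowsOK 27864 324 = true := by decide +kernel

theorem rows_ok_87 : rowsOK 28188 324 = true := by decide +kernel

end Cfsg.Agent.Lib.Helper7.Sp6Mul
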