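import Cfsg.Agent.Lib.Helper7.Sp6MulC

/-! # The multiplier of the symplectic group of degree six over the field of two elements: the check of the rows 7776 to 10367 of the certificate (generated) -/

set_option autoImplicit false
set_option maxRecDepth 100000

namespace Cfsg.Agent.Lib.Helper7.Sp6Mul

theorem rows_ok_24 : rowsOK 7776 324 = true := by decide +kernel

theorem rows_ok_25 : rowsOK 8100 324 = true := by decide +kernel

theorem rows_ok_26 : rowsOK 8424 324 = true := by decide +kernel

theorem rows_ok_27 : rowsOK 8748 324 = true := by decide +kernel

theorem rows_ok_28 : rowsOK 9072 324 = true := by decide +kernel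

theorem rows_ok_29 : rowsOK 9396 324 = true := by decide +kernel

theorem rows_ok_30 : rowsOK 9720 324 = true := by decide +kernel

theorem rows_ok_31 : rowsOK 10044 324 = true := by decide +kernel

end Cfsg.Agent.Lib.Helper7.Sp6Mul
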