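import Cfsg.Agent.Lib.Helper7.Sp6MulC
import Cfsg.Agent.Lib.Helper7.Sp6MulK3

/-! # The multiplier of the symplectic group of degree six over the field of two elements: the check of the rows 28512 to 31103 of the certificate (generated) -/

set_option autoImplicit false
set_option maxRecDepth 100000

namespace Cfsg.Agent.Lib.Helper7.Sp6Mul

theorem rows_ok_88 : rowsOK 28512 324 = true := by decide +kernel

theorem rows_ok_89 : rowsOK 28836 324 = true := by decide +kernel

theorem rows_ok_90 : rowsOK 29160 324 = true := by decide +kernel

theorem rows_ok_91 : rowsOK 29484 324 = true := by decide +kernel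

theorem rows_ok_92 : rowsOK 29808 324 = true := by decide +kernel

theorem rows_ok_93 : rowsOK 30132 324 = true := by decide +kernel

theorem rows_ok_94 : rowsOK 30456 324 = true := by decide +kernel

theorem rows_ok_95 : rowsOK 30780 324 = true := by decide +kernel

end Cfsg.Agent.Lib.Helper7.Sp6Mul
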