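import Cfsg.Agent.Lib.Helper7.Sp6MulC

/-! # The multiplier of the symplectic group of degree six over the field of two elements: the check of the rows 12960 to 15551 of the certificate (generated) -/

set_option autoImplicit false
set_option maxRecDepth 100000

namespace Cfsg.Agent.Lib.Helper7.Sp6Mul

theorem rows_ok_40 : rowsOK 12960 324 = true := by decide +kernel

theorem rows_ok_41 : rowsOK 13284 324 = true := by decide +kernel

theorem rows_ok_42 : rowsOK 13608 324 = true := by decide +kernel

theorem rows_ok_43 : rowsOK 13932 324 = true := by decide +kernel

theorem rows_ok_44 : rowsOK 14256 324 = true := by decide +kernel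

theorem rows_ok_45 : rowsOK 14580 324 = true := by decide +kernel

theorem rows_ok_46 : rowsOK 14904 324 = true := by decide +kernel

theorem rows_ok_47 : rowsOK 15228 324 = true := by decide +kernel

end Cfsg.Agent.Lib.Helper7.Sp6Mul
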