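import Cfsg.Agent.Lib.Helper7.Sp6MulC
import Cfsg.Agent.Lib.Helper7.Sp6MulK5

/-! # The multiplier of the symplectic group of degree six over the field of two elements: the check of the rows 33696 to 36287 of the certificate (generated) -/

set_option autoImplicit false
set_option maxRecDepth 100000

namespace Cfsg.Agent.Lib.Helper7.Sp6Mul

theorem rows_ok_104 : rowsOK 33696 324 = true := by decide +kernel

theorem rows_ok_105 : rowsOK 34020 324 = true := by decide +kernel

theorem rows_ok_106 : rowsOK 34344 324 = true := by decide +kernel

theorem rows_ok_107 : rowsOK 34668 324 = true := by decide +kernel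

theorem rows_ok_108 : rowsOK 34992 324 = true := by decide +kernel

theorem rows_ok_109 : rowsOK 35316 324 = true := by decide +kernel

theorem rows_ok_110 : rowsOK 35640 324 = true := by decide +kernel

theorem rows_ok_111 : rowsOK 35964 324 = true := by decide +kernel

end Cfsg.Agent.Lib.Helper7.Sp6Mul
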