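import Cfsg.Agent.Lib.Helper7.Sp6MulC

/-! # The multiplier of the symplectic group of degree six over the field of two elements: the check of the rows 15552 to 18143 of the certificate (generated) -/

set_option autoImplicit false
set_option maxRecDepth 100000

namespace Cfsg.Agent.Lib.Helper7.Sp6Mul

theorem rows_ok_48 : rowsOK 15552 324 = true := by decide +kernel

theorem rows_ok_49 : rowsOK 15876 324 = true := by decide +kernel

theorem rows_ok_50 : rowsOK 16200 324 = true := by decide +kernel

theorem rows_ok_51 : rowsOK 16524 324 = true := by decide +kernel

theorem rows_ok_52 : rowsOK 16848 324 = true := by decide +kernel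

theorem rows_ok_53 : rowsOK 17172 324 = true := by decide +kernel

theorem rows_ok_54 : rowsOK 17496 324 = true := by decide +kernel

theorem rows_ok_55 : rowsOK 17820 324 = true := by decide +kernel

end Cfsg.Agent.Lib.Helper7.Sp6Mul
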