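import Cfsg.Agent.Lib.Helper7.Sp6MulC
import Cfsg.Agent.Lib.Helper7.Sp6MulK6

/-! # The multiplier of the symplectic group of degree six over the field of two elements: the check of the rows 36288 to 38879 of the certificate (generated) -/

set_option autoImplicit false
set_option maxRecDepth 100000

namespace Cfsg.Agent.Lib.Helper7.Sp6Mul

theorem rows_ok_112 : rowsOK 36288 324 = true := by decide +kernel

theorem rows_ok_113 : rowsOK 36612 324 = true := by decide +kernel

theorem rows_ok_114 : rowsOK 36936 324 = true := by decide +kernel

theorem rows_ok_115 : rowsOK 37260 324 = true := by decide +kernel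

theorem rows_ok_116 : rowsOK 37584 324 = true := by decide +kernel

theorem rows_ok_117 : rowsOK 37908 324 = true := by decide +kernel

theorem rows_ok_118 : rowsOK 38232 324 = true := by decide +kernel

theorem rows_ok_119 : rowsOK 38556 324 = true := by decide +kernel

end Cfsg.Agent.Lib.Helper7.Sp6Mul
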