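import Cfsg.Agent.Lib.Helper7.Sp6MulC

/-! # The multiplier of the symplectic group of degree six over the field of two elements: the check of the rows 18144 to 20735 of the certificate (generated) -/

set_option autoImplicit false
set_option maxRecDepth 100000

namespace Cfsg.Agent.Lib.Helper7.Sp6Mul

theorem rows_ok_56 : rowsOK 18144 324 = true := by decide +kernel

theorem rows_ok_57 : rowsOK 18468 324 = true := by decide +kernel

theorem rows_ok_58 : rowsOK 18792 324 = true := by decide +kernel

theorem rows_ok_59 : rowsOK 19116 324 = true := by decide +kernel

theorem rows_ok_60 : rowsOK 19440 324 = true := by decide +kernel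

theorem rows_ok_61 : rowsOK 19764 324 = true := by decide +kernel

theorem rows_ok_62 : rowsOK 20088 324 = true := by decide +kernel

theorem rows_ok_63 : rowsOK 20412 324 = true := by decide +kernel

end Cfsg.Agent.Lib.Helper7.Sp6Mul
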