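import Cfsg.Agent.Lib.Helper7.Sp6MulC
import Cfsg.Agent.Lib.Helper7.Sp6MulK7

/-! # The multiplier of the symplectic group of degree six over the field of two elements: the check of the rows 38880 to 41471 of the certificate (generated) -/

set_option autoImplicit false
set_option maxRecDepth 100000

namespace Cfsg.Agent.Lib.Helper7.Sp6Mul

theorem rows_ok_120 : rowsOK 38880 324 = true := by decide +kernel

theorem rows_ok_121 : rowsOK 39204 324 = true := by decide +kernel

theorem rows_ok_122 : rowsOK 39528 324 = true := by decide +kernel

theorem rows_ok_123 : rowsOK 39852 324 = true := by decide +kernel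

theorem rows_ok_124 : rowsOK 40176 324 = true := by decide +kernel

theorem rows_ok_125 : rowsOK 40500 324 = true := by decide +kernel

theorem rows_ok_126 : rowsOK 40824 324 = true := by decide +kernel

theorem rows_ok_127 : rowsOK 41148 324 = true := by decide +kernel

end Cfsg.Agent.Lib.Helper7.Sp6Mul
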