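import Cfsg.Agent.Lib.Helper7.Sp6MulC
import Cfsg.Agent.Lib.Helper7.Sp6MulK0

/-! # The multiplier of the symplectic group of degree six over the field of two elements: the check of the rows 20736 to 23327 of the certificate (generated) -/

set_option autoImplicit false
set_option maxRecDepth 100000

namespace Cfsg.Agent.Lib.Helper7.Sp6Mul

theorem rows_ok_64 : rowsOK 20736 324 = true := by decide +kernel

theorem rows_ok_65 : rowsOK 21060 324 = true := by decide +kernel

theorem rows_ok_66 : rowsOK 21384 324 = true := by decide +kernel

theorem rows_ok_67 : rowsOK 21708 324 = true := by decide +kernel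

theorem rows_ok_68 : rowsOK 22032 324 = true := by decide +kernel

theorem rows_ok_69 : rowsOK 22356 324 = true := by decide +kernel

theorem rows_ok_70 : rowsOK 22680 324 = true := by decide +kernel

theorem rows_ok_71 : rowsOK 23004 324 = true := by decide +kernel

end Cfsg.Agent.Lib.Helper7.Sp6Mul
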