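import Cfsg.Agent.Lib.Helper7.Sp6MulC
import Cfsg.Agent.Lib.Helper7.Sp6MulK8

/-! # The multiplier of the symplectic group of degree six over the field of two elements: the check of the rows 41472 to 44063 of the certificate (generated) -/

set_option autoImplicit false
set_option maxRecDepth 100000

namespace Cfsg.Agent.Lib.Helper7.Sp6Mul

theorem rows_ok_128 : rowsOK 41472 324 = true := by decide +kernel

theorem rows_ok_129 : rowsOK 41796 324 = true := by decide +kernel

theorem rows_ok_130 : rowsOK 42120 324 = true := by decide +kernel

theorem rows_ok_131 : rowsOK 42444 324 = true := by decide +kernel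

theorem rows_ok_132 : rowsOK 42768 324 = true := by decide +kernel

theorem rows_ok_133 : rowsOK 43092 324 = true := by decide +kernel

theorem rows_ok_134 : rowsOK 43416 324 = true := by decide +kernel

theorem rows_ok_135 : rowsOK 43740 324 = true := by decide +kernel

end Cfsg.Agent.Lib.Helper7.Sp6Mul
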