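import Cfsg.Agent.Lib.Helper7.Sp6MulC
import Cfsg.Agent.Lib.Helper7.Sp6MulK1

/-! # The multiplier of the symplectic group of degree six over the field of two elements: the check of the rows 23328 to 25919 of the certificate (generated) -/

set_option autoImplicit false
set_option maxRecDepth 100000

namespace Cfsg.Agent.Lib.Helper7.Sp6Mul

theorem rows_ok_72 : rowsOK 23328 324 = true := by decide +kernel

theorem rows_ok_73 : rowsOK 23652 324 = true := by decide +kernel

theorem rows_ok_74 : rowsOK 23976 324 = true := by decide +kernel

theorem rows_ok_75 : rowsOK 24300 324 = true := by decide +kernel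

theorem rows_ok_76 : rowsOK 24624 324 = true := by decide +kernel

theorem rows_ok_77 : rowsOK 24948 324 = true := by decide +kernel

theorem rows_ok_78 : rowsOK 25272 324 = true := by decide +kernel

theorem rows_ok_79 : rowsOK 25596 324 = true := by decide +kernel

end Cfsg.Agent.Lib.Helper7.Sp6Mul
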