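import Cfsg.Agent.Lib.Helper7.Sp6MulC
import Cfsg.Agent.Lib.Helper7.Sp6MulK9

/-! # The multiplier of the symplectic group of degree six over the field of two elements: the check of the rows 44064 to 46655 of the certificate (generated) -/

set_option autoImplicit false
set_option maxRecDepth 100000

namespace Cfsg.Agent.Lib.Helper7.Sp6Mul

theorem rows_ok_136 : rowsOK 44064 324 = true := by decide +kernel

theorem rows_ok_137 : rowsOK 44388 324 = true := by decide +kernel

theorem rows_ok_138 : rowsOK 44712 324 = true := by decide +kernel

theorem rows_ok_139 : rowsOK 45036 324 = true := by decide +kernel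

theorem rows_ok_140 : rowsOK 45360 324 = true := by decide +kernel

theorem rows_ok_141 : rowsOK 45684 324 = true := by decide +kernel

theorem rows_ok_142 : rowsOK 46008 324 = true := by decide +kernel

theorem rows_ok_143 : rowsOK 46332 324 = true := by decide +kernel

end Cfsg.Agent.Lib.Helper7.Sp6Mul
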