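import Cfsg.Agent.Lib.Helper7.Sp6MulC
import Cfsg.Agent.Lib.Helper7.Sp6MulK10

/-! # The multiplier of the symplectic group of degree six over the field of two elements: the check of the rows 46656 to 49247 of the certificate (generated) -/

set_option autoImplicit false
set_option maxRecDepth 100000

namespace Cfsg.Agent.Lib.Helper7.Sp6Mul

theorem rows_ok_144 : rowsOK 46656 324 = true := by decide +kernel

theorem rows_ok_145 : rowsOK 46980 324 = true := by decide +kernel

theorem rows_ok_146 : rowsOK 47304 324 = true := by decide +kernel

theorem rows_ok_147 : rowsOK 47628 324 = true := by decide +kernel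

theorem rows_ok_148 : rowsOK 47952 324 = true := by decide +kernel

theorem rows_ok_149 : rowsOK 48276 324 = true := by decide +kernel

theorem rows_ok_150 : rowsOK 48600 324 = true := by decide +kernel

theorem rows_ok_151 : rowsOK 48924 324 = true := by decide +kernel

end Cfsg.Agent.Lib.Helper7.Sp6Mul
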