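import Cfsg.Agent.Lib.Helper7.Sp6MulC
import Cfsg.Agent.Lib.Helper7.Sp6MulK11

/-! # The multiplier of the symplectic group of degree six over the field of two elements: the check of the rows 49248 to 51839 of the certificate (generated) -/

set_option autoImplicit false
set_option maxRecDepth 100000

namespace Cfsg.Agent.Lib.Helper7.Sp6Mul

theorem rows_ok_152 : rowsOK 49248 324 = true := by decide +kernel

theorem rows_ok_153 : rowsOK 49572 324 = true := by decide +kernel

theorem rows_ok_154 : rowsOK 49896 324 = true := by decide +kernel

theorem rows_ok_155 : rowsOK 50220 324 = true := by decide +kernel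

theorem rows_ok_156 : rowsOK 50544 324 = true := by decide +kernel

theorem rows_ok_157 : rowsOK 50868 324 = true := by decide +kernel

theorem rows_ok_158 : rowsOK 51192 324 = true := by decide +kernel

theorem rows_ok_159 : rowsOK 51516 324 = true := by decide +kernel

end Cfsg.Agent.Lib.Helper7.Sp6Mul
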