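import Cfsg.Agent.Lib.Helper7.Sp6MulC

/-! # The multiplier of the symplectic group of degree six over the field of two elements: the check of the rows 10368 to 12959 of the certificate (generated) -/

set_option autoImplicit false
set_option maxRecDepth 100000

namespace Cfsg.Agent.Lib.Helper7.Sp6Mul

theorem rows_ok_32 : rowsOK 10368 324 = true := by decide +kernel

theorem rows_ok_33 : rowsOK 10692 324 = true := by decide +kernel

theorem rows_ok_34 : rowsOK 11016 324 = true := by decide +kernel

theorem rows_ok_35 : rowsOK 11340 324 = true := by decide +kernel

theorem rows_ok_36 : rowsOK 11664 324 = true := by decide +kernel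

theorem rows_ok_37 : rowsOK 11988 324 = true := by decide +kernel

theorem rows_ok_38 : rowsOK 12312 324 = true := by decide +kernel

theorem rows_ok_39 : rowsOK 12636 324 = true := by decide +kernel

end Cfsg.Agent.Lib.Helper7.Sp6Mul
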