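import Cfsg.Agent.Lib.Helper7.Sp6MulC
import Cfsg.Agent.Lib.Helper7.Sp6MulK4

/-! # The multiplier of the symplectic group of degree six over the field of two elements: the check of the rows 31104 to 33695 of the certificate (generated) -/

set_option autoImplicit false
set_option maxRecDepth 100000

namespace Cfsg.Agent.Lib.Helper7.Sp6Mul

theorem rows_ok_96 : rowsOK 31104 324 = true := by decide +kernel

theorem rows_ok_97 : rowsOK 31428 324 = true := by decide +kernel

theorem rows_ok_98 : rowsOK 31752 324 = true := by decide +kernel

theorem rows_ok_99 : rowsOK 32076 324 = true := by decide +kernel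

theorem rows_ok_100 : rowsOK 32400 324 = true := by decide +kernel

theorem rows_ok_101 : rowsOK 32724 324 = true := by decide +kernel

theorem rows_ok_102 : rowsOK 33048 324 = true := by decide +kernel

theorem rows_ok_103 : rowsOK 33372 324 = true := by decide +kernel

end Cfsg.Agent.Lib.Helper7.Sp6Mul
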