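import Cfsg.Agent.Lib.Helper7.Sp6MulC
import Cfsg.Agent.Lib.Helper7.Sp6MulK12

/-! # The multiplier of the symplectic group of degree six over the field of two elements: the check of the rows 51840 to 54431 of the certificate (generated) -/

set_option autoImplicit false
set_option maxRecDepth 100000

namespace Cfsg.Agent.Lib.Helper7.Sp6Mul

theorem rows_ok_160 : rowsOK 51840 324 = true := by decide +kernel

theorem rows_ok_161 : rowsOK 52164 324 = true := by decide +kernel

theorem rows_ok_162 : rowsOK 52488 324 = true := by decide +kernel

theorem rows_ok_163 : rowsOK 52812 324 = true := by decide +kernel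

theorem rows_ok_164 : rowsOK 53136 324 = true := by decide +kernel

theorem rows_ok_165 : rowsOK 53460 324 = true := by decide +kernel

theorem rows_ok_166 : rowsOK 53784 324 = true := by decide +kernel

theorem rows_ok_167 : rowsOK 54108 324 = true := by decide +kernel

end Cfsg.Agent.Lib.Helper7.Sp6Mul
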