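import Cfsg.Agent.Lib.Helper7.Sp6MulC
import Cfsg.Agent.Lib.Helper7.Sp6MulK13

/-! # The multiplier of the symplectic group of degree six over the field of two elements: the check of the rows 54432 to 57023 of the certificate (generated) -/

set_option autoImplicit false
set_option maxRecDepth 100000

namespace Cfsg.Agent.Lib.Helper7.Sp6Mul

theorem rows_ok_168 : rowsOK 54432 324 = true := by decide +kernel

theorem rows_ok_169 : rowsOK 54756 324 = true := by decide +kernel

theorem rows_ok_170 : rowsOK 55080 324 = true := by decide +kernel

theorem rows_ok_171 : rowsOK 55404 324 = true := by decide +kernel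

theorem rows_ok_172 : rowsOK 55728 324 = true := by decide +kernel

theorem rows_ok_173 : rowsOK 56052 324 = true := by decide +kernel

theorem rows_ok_174 : rowsOK 56376 324 = true := by decide +kernel

theorem rows_ok_175 : rowsOK 56700 324 = true := by decide +kernel

end Cfsg.Agent.Lib.Helper7.Sp6Mul
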