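import Cfsg.Agent.Lib.Helper7.Sp6MulC
import Cfsg.Agent.Lib.Helper7.Sp6MulK14

/-! # The multiplier of the symplectic group of degree six over the field of two elements: the check of the rows 57024 to 59615 of the certificate (generated) -/

set_option autoImplicit false
set_option maxRecDepth 100000

namespace Cfsg.Agent.Lib.Helper7.Sp6Mul

theorem rows_ok_176 : rowsOK 57024 324 = true := by decide +kernel

theorem rows_ok_177 : rowsOK 57348 324 = true := by decide +kernel

theorem rows_ok_178 : rowsOK 57672 324 = true := by decide +kernel

theorem rows_ok_179 : rowsOK 57996 324 = true := by decide +kernel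

theorem rows_ok_180 : rowsOK 58320 324 = true := by decide +kernel

theorem rows_ok_181 : rowsOK 58644 324 = true := by decide +kernel

theorem rows_ok_182 : rowsOK 58968 324 = true := by decide +kernel

theorem rows_ok_183 : rowsOK 59292 324 = true := by decide +kernel

end Cfsg.Agent.Lib.Helper7.Sp6Mul
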