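import Cfsg.Agent.Lib.Helper7.Sp6MulC
import Cfsg.Agent.Lib.Helper7.Sp6MulK15

/-! # The multiplier of the symplectic group of degree six over the field of two elements: the check of the rows 59616 to 62207 of the certificate (generated) -/

set_option autoImplicit false
set_option maxRecDepth 100000

namespace Cfsg.Agent.Lib.Helper7.Sp6Mul

theorem rows_ok_184 : rowsOK 59616 324 = true := by decide +kernel

theorem rows_ok_185 : rowsOK 59940 324 = true := by decide +kernel

theorem rows_ok_186 : rowsOK 60264 324 = true := by decide +kernel

theorem rows_ok_187 : rowsOK 60588 324 = true := by decide +kernel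

theorem rows_ok_188 : rowsOK 60912 324 = true := by decide +kernel

theorem rows_ok_189 : rowsOK 61236 324 = true := by decide +kernel

theorem rows_ok_190 : rowsOK 61560 324 = true := by decide +kernel

theorem rows_ok_191 : rowsOK 61884 324 = true := by decide +kernel

end Cfsg.Agent.Lib.Helper7.Sp6Mul
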