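import Cfsg.Agent.Lib.Helper7.Sp6MulC
import Cfsg.Agent.Lib.Helper7.Sp6MulK16

/-! # The multiplier of the symplectic group of degree six over the field of two elements: the check of the rows 62208 to 64799 of the certificate (generated) -/

set_option autoImplicit false
set_option maxRecDepth 100000

namespace Cfsg.Agent.Lib.Helper7.Sp6Mul

theorem rows_ok_192 : rowsOK 62208 324 = true := by decide +kernel

theorem rows_ok_193 : rowsOK 62532 324 = true := by decide +kernel

theorem rows_ok_194 : rowsOK 62856 324 = true := by decide +kernel

theorem rows_ok_195 : rowsOK 63180 324 = true := by decide +kernel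

theorem rows_ok_196 : rowsOK 63504 324 = true := by decide +kernel

theorem rows_ok_197 : rowsOK 63828 324 = true := by decide +kernel

theorem rows_ok_198 : rowsOK 64152 324 = true := by decide +kernel

theorem rows_ok_199 : rowsOK 64476 324 = true := by decide +kernel

end Cfsg.Agent.Lib.Helper7.Sp6Mul
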