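import Cfsg.Agent.Lib.Helper7.Sp6MulC
import Cfsg.Agent.Lib.Helper7.Sp6MulK18

/-! # The multiplier of the symplectic group of degree six over the field of two elements: the check of the rows 67392 to 69983 of the certificate (generated) -/

set_option autoImplicit false
set_option maxRecDepth 100000

namespace Cfsg.Agent.Lib.Helper7.Sp6Mul

theorem rows_ok_208 : rowsOK 67392 324 = true := by decide +kernel

theorem rows_ok_209 : rowsOK 67716 324 = true := by decide +kernel

theorem rows_ok_210 : rowsOK 68040 324 = true := by decide +kernel

theorem rows_ok_211 : rowsOK 68364 324 = true := by decide +kernel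

theorem rows_ok_212 : rowsOK 68688 324 = true := by decide +kernel

theorem rows_ok_213 : rowsOK 69012 324 = true := by decide +kernel

theorem rows_ok_214 : rowsOK 69336 324 = true := by decide +kernel

theorem rows_ok_215 : rowsOK 69660 324 = true := by decide +kernel

end Cfsg.Agent.Lib.Helper7.Sp6Mul
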