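import Cfsg.Agent.Lib.Helper7.Sp6MulC
import Cfsg.Agent.Lib.Helper7.Sp6MulK19

/-! # The multiplier of the symplectic group of degree six over the field of two elements: the check of the rows 69984 to 72575 of the certificate (generated) -/

set_option autoImplicit false
set_option maxRecDepth 100000

namespace Cfsg.Agent.Lib.Helper7.Sp6Mul

theorem rows_ok_216 : rowsOK 69984 324 = true := by decide +kernel

theorem rows_ok_217 : rowsOK 70308 324 = true := by decide +kernel

theorem rows_ok_218 : rowsOK 70632 324 = true := by decide +kernel

theorem rows_ok_219 : rowsOK 70956 324 = true := by decide +kernel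

theorem rows_ok_220 : rowsOK 71280 324 = true := by decide +kernel

theorem rows_ok_221 : rowsOK 71604 324 = true := by decide +kernel

theorem rows_ok_222 : rowsOK 71928 324 = true := by decide +kernel

theorem rows_ok_223 : rowsOK 72252 324 = true := by decide +kernel

end Cfsg.Agent.Lib.Helper7.Sp6Mul
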