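import Cfsg.Agent.Lib.Helper7.Sp6MulC
import Cfsg.Agent.Lib.Helper7.Sp6MulK20

/-! # The multiplier of the symplectic group of degree six over the field of two elements: the check of the rows 72576 to 75167 of the certificate (generated) -/

set_option autoImplicit false
set_option maxRecDepth 100000

namespace Cfsg.Agent.Lib.Helper7.Sp6Mul

theorem rows_ok_224 : rowsOK 72576 324 = true := by decide +kernel

theorem rows_ok_225 : rowsOK 72900 324 = true := by decide +kernel

theorem rows_ok_226 : rowsOK 73224 324 = true := by decide +kernel

theorem rows_ok_227 : rowsOK 73548 324 = true := by decide +kernel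

theorem rows_ok_228 : rowsOK 73872 324 = true := by decide +kernel

theorem rows_ok_229 : rowsOK 74196 324 = true := by decide +kernel

theorem rows_ok_230 : rowsOK 74520 324 = true := by decide +kernel

theorem rows_ok_231 : rowsOK 74844 324 = true := by decide +kernel

end Cfsg.Agent.Lib.Helper7.Sp6Mul
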