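import Cfsg.Agent.Lib.Helper7.Sp6MulC
import Cfsg.Agent.Lib.Helper7.Sp6MulK21

/-! # The multiplier of the symplectic group of degree six over the field of two elements: the check of the rows 75168 to 77759 of the certificate (generated) -/

set_option autoImplicit false
set_option maxRecDepth 100000

namespace Cfsg.Agent.Lib.Helper7.Sp6Mul

theorem rows_ok_232 : rowsOK 75168 324 = true := by decide +kernel

theorem rows_ok_233 : rowsOK 75492 324 = true := by decide +kernel

theorem rows_ok_234 : rowsOK 75816 324 = true := by decide +kernel

theorem rows_ok_235 : rowsOK 76140 324 = true := by decide +kernel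

theorem rows_ok_236 : rowsOK 76464 324 = true := by decide +kernel

theorem rows_ok_237 : rowsOK 76788 324 = true := by decide +kernel

theorem rows_ok_238 : rowsOK 77112 324 = true := by decide +kernel

theorem rows_ok_239 : rowsOK 77436 324 = true := by decide +kernel

end Cfsg.Agent.Lib.Helper7.Sp6Mul
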