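import Cfsg.Agent.Lib.Helper7.Sp6MulC
import Cfsg.Agent.Lib.Helper7.Sp6MulK22

/-! # The multiplier of the symplectic group of degree six over the field of two elements: the check of the rows 77760 to 80351 of the certificate (generated) -/

set_option autoImplicit false
set_option maxRecDepth 100000

namespace Cfsg.Agent.Lib.Helper7.Sp6Mul

theorem rows_ok_240 : rowsOK 77760 324 = true := by decide +kernel

theorem rows_ok_241 : rowsOK 78084 324 = true := by decide +kernel

theorem rows_ok_242 : rowsOK 78408 324 = true := by decide +kernel

theorem rows_ok_243 : rowsOK 78732 324 = true := by decide +kernel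

theorem rows_ok_244 : rowsOK 79056 324 = true := by decide +kernel

theorem rows_ok_245 : rowsOK 79380 324 = true := by decide +kernel

theorem rows_ok_246 : rowsOK 79704 324 = true := by decide +kernel

theorem rows_ok_247 : rowsOK 80028 324 = true := by decide +kernel

end Cfsg.Agent.Lib.Helper7.Sp6Mul
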