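import Cfsg.Agent.Lib.Helper7.Sp6MulC
import Cfsg.Agent.Lib.Helper7.Sp6MulK23

/-! # The multiplier of the symplectic group of degree six over the field of two elements: the check of the rows 80352 to 82943 of the certificate (generated) -/

set_option autoImplicit false
set_option maxRecDepth 100000

namespace Cfsg.Agent.Lib.Helper7.Sp6Mul

theorem rows_ok_248 : rowsOK 80352 324 = true := by decide +kernel

theorem rows_ok_249 : rowsOK 80676 324 = true := by decide +kernel

theorem rows_ok_250 : rowsOK 81000 324 = true := by decide +kernel

theorem rows_ok_251 : rowsOK 81324 324 = true := by decide +kernel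

theorem rows_ok_252 : rowsOK 81648 324 = true := by decide +kernel

theorem rows_ok_253 : rowsOK 81972 324 = true := by decide +kernel

theorem rows_ok_254 : rowsOK 82296 324 = true := by decide +kernel

theorem rows_ok_255 : rowsOK 82620 324 = true := by decide +kernel

end Cfsg.Agent.Lib.Helper7.Sp6Mul
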