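import Cfsg.Agent.Lib.Helper7.Sp6MulC
import Cfsg.Agent.Lib.Helper7.Sp6MulK24

/-! # The multiplier of the symplectic group of degree six over the field of two elements: the check of the rows 82944 to 85535 of the certificate (generated) -/

set_option autoImplicit false
set_option maxRecDepth 100000

namespace Cfsg.Agent.Lib.Helper7.Sp6Mul

theorem rows_ok_256 : rowsOK 82944 324 = true := by decide +kernel

theorem rows_ok_257 : rowsOK 83268 324 = true := by decide +kernel

theorem rows_ok_258 : rowsOK 83592 324 = true := by decide +kernel

theorem rows_ok_259 : rowsOK 83916 324 = true := by decide +kernel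

theorem rows_ok_260 : rowsOK 84240 324 = true := by decide +kernel

theorem rows_ok_261 : rowsOK 84564 324 = true := by decide +kernel

theorem rows_ok_262 : rowsOK 84888 324 = true := by decide +kernel

theorem rows_ok_263 : rowsOK 85212 324 = true := by decide +kernel

end Cfsg.Agent.Lib.Helper7.Sp6Mul
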