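import Cfsg.Agent.Lib.Helper7.Sp6MulC
import Cfsg.Agent.Lib.Helper7.Sp6MulK17

/-! # The multiplier of the symplectic group of degree six over the field of two elements: the check of the rows 64800 to 67391 of the certificate (generated) -/

set_option autoImplicit false
set_option maxRecDepth 100000

namespace Cfsg.Agent.Lib.Helper7.Sp6Mul

theorem rows_ok_200 : rowsOK 64800 324 = true := by decide +kernel

theorem rows_ok_201 : rowsOK 65124 324 = true := by decide +kernel

theorem rows_ok_202 : rowsOK 65448 324 = true := by decide +kernel

theorem rows_ok_203 : rowsOK 65772 324 = true := by decide +kernel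

theorem rows_ok_204 : rowsOK 66096 324 = true := by decide +kernel

theorem rows_ok_205 : rowsOK 66420 324 = true := by decide +kernel

theorem rows_ok_206 : rowsOK 66744 324 = true := by decide +kernel

theorem rows_ok_207 : rowsOK 67068 324 = true := by decide +kernel

end Cfsg.Agent.Lib.Helper7.Sp6Mul
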