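import Cfsg.Agent.Lib.Helper7.Sp6MulC
import Cfsg.Agent.Lib.Helper7.Sp6MulK25

/-! # The multiplier of the symplectic group of degree six over the field of two elements: the check of the rows 85536 to 88127 of the certificate (generated) -/

set_option autoImplicit false
set_option maxRecDepth 100000

namespace Cfsg.Agent.Lib.Helper7.Sp6Mul

theorem rows_ok_264 : rowsOK 85536 324 = true := by decide +kernel

theorem rows_ok_265 : rowsOK 85860 324 = true := by decide +kernel

theorem rows_ok_266 : rowsOK 86184 324 = true := by decide +kernel

theorem rows_ok_267 : rowsOK 86508 324 = true := by decide +kernel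

theorem rows_ok_268 : rowsOK 86832 324 = true := by decide +kernel

theorem rows_ok_269 : rowsOK 87156 324 = true := by decide +kernel

theorem rows_ok_270 : rowsOK 87480 324 = true := by decide +kernel

theorem rows_ok_271 : rowsOK 87804 324 = true := by decide +kernel

end Cfsg.Agent.Lib.Helper7.Sp6Mul
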