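import Cfsg.Agent.Lib.Helper7.Sp6MulC
import Cfsg.Agent.Lib.Helper7.Sp6MulK26

/-! # The multiplier of the symplectic group of degree six over the field of two elements: the check of the rows 88128 to 90719 of the certificate (generated) -/

set_option autoImplicit false
set_option maxRecDepth 100000

namespace Cfsg.Agent.Lib.Helper7.Sp6Mul

theorem rows_ok_272 : rowsOK 88128 324 = true := by decide +kernel

theorem rows_ok_273 : rowsOK 88452 324 = true := by decide +kernel

theorem rows_ok_274 : rowsOK 88776 324 = true := by decide +kernel

theorem rows_ok_275 : rowsOK 89100 324 = true := by decide +kernel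

theorem rows_ok_276 : rowsOK 89424 324 = true := by decide +kernel

theorem rows_ok_277 : rowsOK 89748 324 = true := by decide +kernel

theorem rows_ok_278 : rowsOK 90072 324 = true := by decide +kernel

theorem rows_ok_279 : rowsOK 90396 324 = true := by decide +kernel

end Cfsg.Agent.Lib.Helper7.Sp6Mul
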