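import Cfsg.Agent.Lib.Helper7.Sp6MulC
import Cfsg.Agent.Lib.Helper7.Sp6MulK27

/-! # The multiplier of the symplectic group of degree six over the field of two elements: the check of the rows 90720 to 93311 of the certificate (generated) -/

set_option autoImplicit false
set_option maxRecDepth 100000

namespace Cfsg.Agent.Lib.Helper7.Sp6Mul

theorem rows_ok_280 : rowsOK 90720 324 = true := by decide +kernel

theorem rows_ok_281 : rowsOK 91044 324 = true := by decide +kernel

theorem rows_ok_282 : rowsOK 91368 324 = true := by decide +kernel

theorem rows_ok_283 : rowsOK 91692 324 = true := by decide +kernel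

theorem rows_ok_284 : rowsOK 92016 324 = true := by decide +kernel

theorem rows_ok_285 : rowsOK 92340 324 = true := by decide +kernel

theorem rows_ok_286 : rowsOK 92664 324 = true := by decide +kernel

theorem rows_ok_287 : rowsOK 92988 324 = true := by decide +kernel

end Cfsg.Agent.Lib.Helper7.Sp6Mul
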