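import Cfsg.Agent.Lib.Helper7.Sp6MulC
import Cfsg.Agent.Lib.Helper7.Sp6MulK28

/-! # The multiplier of the symplectic group of degree six over the field of two elements: the check of the rows 93312 to 95903 of the certificate (generated) -/

set_option autoImplicit false
set_option maxRecDepth 100000

namespace Cfsg.Agent.Lib.Helper7.Sp6Mul

theorem rows_ok_288 : rowsOK 93312 324 = true := by decide +kernel

theorem rows_ok_289 : rowsOK 93636 324 = true := by decide +kernel

theorem rows_ok_290 : rowsOK 93960 324 = true := by decide +kernel

theorem rows_ok_291 : rowsOK 94284 324 = true := by decide +kernel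

theorem rows_ok_292 : rowsOK 94608 324 = true := by decide +kernel

theorem rows_ok_293 : rowsOK 94932 324 = true := by decide +kernel

theorem rows_ok_294 : rowsOK 95256 324 = true := by decide +kernel

theorem rows_ok_295 : rowsOK 95580 324 = true := by decide +kernel

end Cfsg.Agent.Lib.Helper7.Sp6Mul
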