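import Cfsg.Agent.Lib.Helper7.Sp6MulC
import Cfsg.Agent.Lib.Helper7.Sp6MulK29

/-! # The multiplier of the symplectic group of degree six over the field of two elements: the check of the rows 95904 to 98495 of the certificate (generated) -/

set_option autoImplicit false
set_option maxRecDepth 100000

namespace Cfsg.Agent.Lib.Helper7.Sp6Mul

theorem rows_ok_296 : rowsOK 95904 324 = true := by decide +kernel

theorem rows_ok_297 : rowsOK 96228 324 = true := by decide +kernel

theorem rows_ok_298 : rowsOK 96552 324 = true := by decide +kernel

theorem rows_ok_299 : rowsOK 96876 324 = true := by decide +kernel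

theorem rows_ok_300 : rowsOK 97200 324 = true := by decide +kernel

theorem rows_ok_301 : rowsOK 97524 324 = true := by decide +kernel

theorem rows_ok_302 : rowsOK 97848 324 = true := by decide +kernel

theorem rows_ok_303 : rowsOK 98172 324 = true := by decide +kernel

end Cfsg.Agent.Lib.Helper7.Sp6Mul
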