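import Cfsg.Agent.Lib.Helper7.Sp6MulC
import Cfsg.Agent.Lib.Helper7.Sp6MulK31

/-! # The multiplier of the symplectic group of degree six over the field of two elements: the check of the rows 101088 to 103679 of the certificate (generated) -/

set_option autoImplicit false
set_option maxRecDepth 100000

namespace Cfsg.Agent.Lib.Helper7.Sp6Mul

theorem rows_ok_312 : rowsOK 101088 324 = true := by decide +kernel

theorem rows_ok_313 : rowsOK 101412 324 = true := by decide +kernel

theorem rows_ok_314 : rowsOK 101736 324 = true := by decide +kernel

theorem rows_ok_315 : rowsOK 102060 324 = true := by decide +kernel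

theorem rows_ok_316 : rowsOK 102384 324 = true := by decide +kernel

theorem rows_ok_317 : rowsOK 102708 324 = true := by decide +kernel

theorem rows_ok_318 : rowsOK 103032 324 = true := by decide +kernel

theorem rows_ok_319 : rowsOK 103356 324 = true := by decide +kernel

end Cfsg.Agent.Lib.Helper7.Sp6Mul
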