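import Cfsg.Agent.Lib.Helper7.Sp6MulC
import Cfsg.Agent.Lib.Helper7.Sp6MulK32

/-! # The multiplier of the symplectic group of degree six over the field of two elements: the check of the rows 103680 to 106271 of the certificate (generated) -/

set_option autoImplicit false
set_option maxRecDepth 100000

namespace Cfsg.Agent.Lib.Helper7.Sp6Mul

theorem rows_ok_320 : rowsOK 103680 324 = true := by decide +kernel

theorem rows_ok_321 : rowsOK 104004 324 = true := by decide +kernel

theorem rows_ok_322 : rowsOK 104328 324 = true := by decide +kernel

theorem rows_ok_323 : rowsOK 104652 324 = true := by decide +kernel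

theorem rows_ok_324 : rowsOK 104976 324 = true := by decide +kernel

theorem rows_ok_325 : rowsOK 105300 324 = true := by decide +kernel

theorem rows_ok_326 : rowsOK 105624 324 = true := by decide +kernel

theorem rows_ok_327 : rowsOK 105948 324 = true := by decide +kernel

end Cfsg.Agent.Lib.Helper7.Sp6Mul
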