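import Cfsg.Agent.Lib.Helper7.Sp6MulC
import Cfsg.Agent.Lib.Helper7.Sp6MulK33

/-! # The multiplier of the symplectic group of degree six over the field of two elements: the check of the rows 106272 to 108863 of the certificate (generated) -/

set_option autoImplicit false
set_option maxRecDepth 100000

namespace Cfsg.Agent.Lib.Helper7.Sp6Mul

theorem rows_ok_328 : rowsOK 106272 324 = true := by decide +kernel

theorem rows_ok_329 : rowsOK 106596 324 = true := by decide +kernel

theorem rows_ok_330 : rowsOK 106920 324 = true := by decide +kernel

theorem rows_ok_331 : rowsOK 107244 324 = true := by decide +kernel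

theorem rows_ok_332 : rowsOK 107568 324 = true := by decide +kernel

theorem rows_ok_333 : rowsOK 107892 324 = true := by decide +kernel

theorem rows_ok_334 : rowsOK 108216 324 = true := by decide +kernel

theorem rows_ok_335 : rowsOK 108540 324 = true := by decide +kernel

end Cfsg.Agent.Lib.Helper7.Sp6Mul
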