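import Cfsg.Agent.Lib.Helper7.Sp6MulC
import Cfsg.Agent.Lib.Helper7.Sp6MulK34

/-! # The multiplier of the symplectic group of degree six over the field of two elements: the check of the rows 108864 to 111455 of the certificate (generated) -/

set_option autoImplicit false
set_option maxRecDepth 100000

namespace Cfsg.Agent.Lib.Helper7.Sp6Mul

theorem rows_ok_336 : rowsOK 108864 324 = true := by decide +kernel

theorem rows_ok_337 : rowsOK 109188 324 = true := by decide +kernel

theorem rows_ok_338 : rowsOK 109512 324 = true := by decide +kernel

theorem rows_ok_339 : rowsOK 109836 324 = true := by decide +kernel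

theorem rows_ok_340 : rowsOK 110160 324 = true := by decide +kernel

theorem rows_ok_341 : rowsOK 110484 324 = true := by decide +kernel

theorem rows_ok_342 : rowsOK 110808 324 = true := by decide +kernel

theorem rows_ok_343 : rowsOK 111132 324 = true := by decide +kernel

end Cfsg.Agent.Lib.Helper7.Sp6Mul
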