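import Cfsg.Agent.Lib.Helper7.Sp6MulC
import Cfsg.Agent.Lib.Helper7.Sp6MulK35

/-! # The multiplier of the symplectic group of degree six over the field of two elements: the check of the rows 111456 to 114047 of the certificate (generated) -/

set_option autoImplicit false
set_option maxRecDepth 100000

namespace Cfsg.Agent.Lib.Helper7.Sp6Mul

theorem rows_ok_344 : rowsOK 111456 324 = true := by decide +kernel

theorem rows_ok_345 : rowsOK 111780 324 = true := by decide +kernel

theorem rows_ok_346 : rowsOK 112104 324 = true := by decide +kernel

theorem rows_ok_347 : rowsOK 112428 324 = true := by decide +kernel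

theorem rows_ok_348 : rowsOK 112752 324 = true := by decide +kernel

theorem rows_ok_349 : rowsOK 113076 324 = true := by decide +kernel

theorem rows_ok_350 : rowsOK 113400 324 = true := by decide +kernel

theorem rows_ok_351 : rowsOK 113724 324 = true := by decide +kernel

end Cfsg.Agent.Lib.Helper7.Sp6Mul
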