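import Cfsg.Agent.Lib.Helper7.Sp6MulC
import Cfsg.Agent.Lib.Helper7.Sp6MulK36

/-! # The multiplier of the symplectic group of degree six over the field of two elements: the check of the rows 114048 to 116639 of the certificate (generated) -/

set_option autoImplicit false
set_option maxRecDepth 100000

namespace Cfsg.Agent.Lib.Helper7.Sp6Mul

theorem rows_ok_352 : rowsOK 114048 324 = true := by decide +kernel

theorem rows_ok_353 : rowsOK 114372 324 = true := by decide +kernel

theorem rows_ok_354 : rowsOK 114696 324 = true := by decide +kernel

theorem rows_ok_355 : rowsOK 115020 324 = true := by decide +kernel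

theorem rows_ok_356 : rowsOK 115344 324 = true := by decide +kernel

theorem rows_ok_357 : rowsOK 115668 324 = true := by decide +kernel

theorem rows_ok_358 : rowsOK 115992 324 = true := by decide +kernel

theorem rows_ok_359 : rowsOK 116316 324 = true := by decide +kernel

end Cfsg.Agent.Lib.Helper7.Sp6Mul
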