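import Cfsg.Agent.Lib.Helper7.Sp6MulC
import Cfsg.Agent.Lib.Helper7.Sp6MulK37

/-! # The multiplier of the symplectic group of degree six over the field of two elements: the check of the rows 116640 to 119231 of the certificate (generated) -/

set_option autoImplicit false
set_option maxRecDepth 100000

namespace Cfsg.Agent.Lib.Helper7.Sp6Mul

theorem rows_ok_360 : rowsOK 116640 324 = true := by decide +kernel

theorem rows_ok_361 : rowsOK 116964 324 = true := by decide +kernel

theorem rows_ok_362 : rowsOK 117288 324 = true := by decide +kernel

theorem rows_ok_363 : rowsOK 117612 324 = true := by decide +kernel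

theorem rows_ok_364 : rowsOK 117936 324 = true := by decide +kernel

theorem rows_ok_365 : rowsOK 118260 324 = true := by decide +kernel

theorem rows_ok_366 : rowsOK 118584 324 = true := by decide +kernel

theorem rows_ok_367 : rowsOK 118908 324 = true := by decide +kernel

end Cfsg.Agent.Lib.Helper7.Sp6Mul
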