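import Cfsg.Agent.Lib.Helper7.Sp6MulC
import Cfsg.Agent.Lib.Helper7.Sp6MulK30

/-! # The multiplier of the symplectic group of degree six over the field of two elements: the check of the rows 98496 to 101087 of the certificate (generated) -/

set_option autoImplicit false
set_option maxRecDepth 100000

namespace Cfsg.Agent.Lib.Helper7.Sp6Mul

theorem rows_ok_304 : rowsOK 98496 324 = true := by decide +kernel

theorem rows_ok_305 : rowsOK 98820 324 = true := by decide +kernel

theorem rows_ok_306 : rowsOK 99144 324 = true := by decide +kernel

theorem rows_ok_307 : rowsOK 99468 324 = true := by decide +kernel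

theorem rows_ok_308 : rowsOK 99792 324 = true := by decide +kernel

theorem rows_ok_309 : rowsOK 100116 324 = true := by decide +kernel

theorem rows_ok_310 : rowsOK 100440 324 = true := by decide +kernel

theorem rows_ok_311 : rowsOK 100764 324 = true := by decide +kernel

end Cfsg.Agent.Lib.Helper7.Sp6Mul
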