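import Cfsg.Agent.Lib.Helper7.Sp6MulC
import Cfsg.Agent.Lib.Helper7.Sp6MulK38

/-! # The multiplier of the symplectic group of degree six over the field of two elements: the check of the rows 119232 to 121823 of the certificate (generated) -/

set_option autoImplicit false
set_option maxRecDepth 100000

namespace Cfsg.Agent.Lib.Helper7.Sp6Mul

theorem rows_ok_368 : rowsOK 119232 324 = true := by decide +kernel

theorem rows_ok_369 : rowsOK 119556 324 = true := by decide +kernel

theorem rows_ok_370 : rowsOK 119880 324 = true := by decide +kernel

theorem rows_ok_371 : rowsOK 120204 324 = true := by decide +kernel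

theorem rows_ok_372 : rowsOK 120528 324 = true := by decide +kernel

theorem rows_ok_373 : rowsOK 120852 324 = true := by decide +kernel

theorem rows_ok_374 : rowsOK 121176 324 = true := by decide +kernel

theorem rows_ok_375 : rowsOK 121500 324 = true := by decide +kernel

end Cfsg.Agent.Lib.Helper7.Sp6Mul
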