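import Cfsg.Agent.Lib.Helper7.Sp6MulC
import Cfsg.Agent.Lib.Helper7.Sp6MulK39

/-! # The multiplier of the symplectic group of degree six over the field of two elements: the check of the rows 121824 to 124415 of the certificate (generated) -/

set_option autoImplicit false
set_option maxRecDepth 100000

namespace Cfsg.Agent.Lib.Helper7.Sp6Mul

theorem rows_ok_376 : rowsOK 121824 324 = true := by decide +kernel

theorem rows_ok_377 : rowsOK 122148 324 = true := by decide +kernel

theorem rows_ok_378 : rowsOK 122472 324 = true := by decide +kernel

theorem rows_ok_379 : rowsOK 122796 324 = true := by decide +kernel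

theorem rows_ok_380 : rowsOK 123120 324 = true := by decide +kernel

theorem rows_ok_381 : rowsOK 123444 324 = true := by decide +kernel

theorem rows_ok_382 : rowsOK 123768 324 = true := by decide +kernel

theorem rows_ok_383 : rowsOK 124092 324 = true := by decide +kernel

end Cfsg.Agent.Lib.Helper7.Sp6Mul
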