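import Cfsg.Agent.Lib.Helper7.Sp6MulC
import Cfsg.Agent.Lib.Helper7.Sp6MulK40

/-! # The multiplier of the symplectic group of degree six over the field of two elements: the check of the rows 124416 to 127007 of the certificate (generated) -/

set_option autoImplicit false
set_option maxRecDepth 100000

namespace Cfsg.Agent.Lib.Helper7.Sp6Mul

theorem rows_ok_384 : rowsOK 124416 324 = true := by decide +kernel

theorem rows_ok_385 : rowsOK 124740 324 = true := by decide +kernel

theorem rows_ok_386 : rowsOK 125064 324 = true := by decide +kernel

theorem rows_ok_387 : rowsOK 125388 324 = true := by decide +kernel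

theorem rows_ok_388 : rowsOK 125712 324 = true := by decide +kernel

theorem rows_ok_389 : rowsOK 126036 324 = true := by decide +kernel

theorem rows_ok_390 : rowsOK 126360 324 = true := by decide +kernel

theorem rows_ok_391 : rowsOK 126684 324 = true := by decide +kernel

end Cfsg.Agent.Lib.Helper7.Sp6Mul
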