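import Cfsg.Agent.Lib.Helper7.Sp6MulC
import Cfsg.Agent.Lib.Helper7.Sp6MulK41

/-! # The multiplier of the symplectic group of degree six over the field of two elements: the check of the rows 127008 to 129599 of the certificate (generated) -/

set_option autoImplicit false
set_option maxRecDepth 100000

namespace Cfsg.Agent.Lib.Helper7.Sp6Mul

theorem rows_ok_392 : rowsOK 127008 324 = true := by decide +kernel

theorem rows_ok_393 : rowsOK 127332 324 = true := by decide +kernel

theorem rows_ok_394 : rowsOK 127656 324 = true := by decide +kernel

theorem rows_ok_395 : rowsOK 127980 324 = true := by decide +kernel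

theorem rows_ok_396 : rowsOK 128304 324 = true := by decide +kernel

theorem rows_ok_397 : rowsOK 128628 324 = true := by decide +kernel

theorem rows_ok_398 : rowsOK 128952 324 = true := by decide +kernel

theorem rows_ok_399 : rowsOK 129276 324 = true := by decide +kernel

end Cfsg.Agent.Lib.Helper7.Sp6Mul
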