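import Cfsg.Agent.Lib.Helper7.Sp6MulC
import Cfsg.Agent.Lib.Helper7.Sp6MulK42

/-! # The multiplier of the symplectic group of degree six over the field of two elements: the check of the rows 129600 to 132191 of the certificate (generated) -/

set_option autoImplicit false
set_option maxRecDepth 100000

namespace Cfsg.Agent.Lib.Helper7.Sp6Mul

theorem rows_ok_400 : rowsOK 129600 324 = true := by decide +kernel

theorem rows_ok_401 : rowsOK 129924 324 = true := by decide +kernel

theorem rows_ok_402 : rowsOK 130248 324 = true := by decide +kernel

theorem rows_ok_403 : rowsOK 130572 324 = true := by decide +kernel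

theorem rows_ok_404 : rowsOK 130896 324 = true := by decide +kernel

theorem rows_ok_405 : rowsOK 131220 324 = true := by decide +kernel

theorem rows_ok_406 : rowsOK 131544 324 = true := by decide +kernel

theorem rows_ok_407 : rowsOK 131868 324 = true := by decide +kernel

end Cfsg.Agent.Lib.Helper7.Sp6Mul
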