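import Cfsg.Agent.Lib.Helper7.Sp6MulC
import Cfsg.Agent.Lib.Helper7.Sp6MulK44

/-! # The multiplier of the symplectic group of degree six over the field of two elements: the check of the rows 134784 to 137375 of the certificate (generated) -/

set_option autoImplicit false
set_option maxRecDepth 100000

namespace Cfsg.Agent.Lib.Helper7.Sp6Mul

theorem rows_ok_416 : rowsOK 134784 324 = true := by decide +kernel

theorem rows_ok_417 : rowsOK 135108 324 = true := by decide +kernel

theorem rows_ok_418 : rowsOK 135432 324 = true := by decide +kernel

theorem rows_ok_419 : rowsOK 135756 324 = true := by decide +kernel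

theorem rows_ok_420 : rowsOK 136080 324 = true := by decide +kernel

theorem rows_ok_421 : rowsOK 136404 324 = true := by decide +kernel

theorem rows_ok_422 : rowsOK 136728 324 = true := by decide +kernel

theorem rows_ok_423 : rowsOK 137052 324 = true := by decide +kernel

end Cfsg.Agent.Lib.Helper7.Sp6Mul
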