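import Cfsg.Agent.Lib.Helper7.Sp6MulC
import Cfsg.Agent.Lib.Helper7.Sp6MulK45

/-! # The multiplier of the symplectic group of degree six over the field of two elements: the check of the rows 137376 to 139967 of the certificate (generated) -/

set_option autoImplicit false
set_option maxRecDepth 100000

namespace Cfsg.Agent.Lib.Helper7.Sp6Mul

theorem rows_ok_424 : rowsOK 137376 324 = true := by decide +kernel

theorem rows_ok_425 : rowsOK 137700 324 = true := by decide +kernel

theorem rows_ok_426 : rowsOK 138024 324 = true := by decide +kernel

theorem rows_ok_427 : rowsOK 138348 324 = true := by decide +kernel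

theorem rows_ok_428 : rowsOK 138672 324 = true := by decide +kernel

theorem rows_ok_429 : rowsOK 138996 324 = true := by decide +kernel

theorem rows_ok_430 : rowsOK 139320 324 = true := by decide +kernel

theorem rows_ok_431 : rowsOK 139644 324 = true := by decide +kernel

end Cfsg.Agent.Lib.Helper7.Sp6Mul
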