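import Cfsg.Agent.Lib.Helper7.Sp6MulC
import Cfsg.Agent.Lib.Helper7.Sp6MulK46

/-! # The multiplier of the symplectic group of degree six over the field of two elements: the check of the rows 139968 to 142559 of the certificate (generated) -/

set_option autoImplicit false
set_option maxRecDepth 100000

namespace Cfsg.Agent.Lib.Helper7.Sp6Mul

theorem rows_ok_432 : rowsOK 139968 324 = true := by decide +kernel

theorem rows_ok_433 : rowsOK 140292 324 = true := by decide +kernel

theorem rows_ok_434 : rowsOK 140616 324 = true := by decide +kernel

theorem rows_ok_435 : rowsOK 140940 324 = true := by decide +kernel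

theorem rows_ok_436 : rowsOK 141264 324 = true := by decide +kernel

theorem rows_ok_437 : rowsOK 141588 324 = true := by decide +kernel

theorem rows_ok_438 : rowsOK 141912 324 = true := by decide +kernel

theorem rows_ok_439 : rowsOK 142236 324 = true := by decide +kernel

end Cfsg.Agent.Lib.Helper7.Sp6Mul
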