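import Cfsg.Agent.Lib.Helper7.Sp6MulC
import Cfsg.Agent.Lib.Helper7.Sp6MulK47

/-! # The multiplier of the symplectic group of degree six over the field of two elements: the check of the rows 142560 to 145151 of the certificate (generated) -/

set_option autoImplicit false
set_option maxRecDepth 100000

namespace Cfsg.Agent.Lib.Helper7.Sp6Mul

theorem rows_ok_440 : rowsOK 142560 324 = true := by decide +kernel

theorem rows_ok_441 : rowsOK 142884 324 = true := by decide +kernel

theorem rows_ok_442 : rowsOK 143208 324 = true := by decide +kernel

theorem rows_ok_443 : rowsOK 143532 324 = true := by decide +kernel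

theorem rows_ok_444 : rowsOK 143856 324 = true := by decide +kernel

theorem rows_ok_445 : rowsOK 144180 324 = true := by decide +kernel

theorem rows_ok_446 : rowsOK 144504 324 = true := by decide +kernel

theorem rows_ok_447 : rowsOK 144828 324 = true := by decide +kernel

end Cfsg.Agent.Lib.Helper7.Sp6Mul
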