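import Cfsg.Agent.Lib.Helper7.Sp6MulC
import Cfsg.Agent.Lib.Helper7.Sp6MulK48

/-! # The multiplier of the symplectic group of degree six over the field of two elements: the check of the rows 145152 to 147743 of the certificate (generated) -/

set_option autoImplicit false
set_option maxRecDepth 100000

namespace Cfsg.Agent.Lib.Helper7.Sp6Mul

theorem rows_ok_448 : rowsOK 145152 324 = true := by decide +kernel

theorem rows_ok_449 : rowsOK 145476 324 = true := by decide +kernel

theorem rows_ok_450 : rowsOK 145800 324 = true := by decide +kernel

theorem rows_ok_451 : rowsOK 146124 324 = true := by decide +kernel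

theorem rows_ok_452 : rowsOK 146448 324 = true := by decide +kernel

theorem rows_ok_453 : rowsOK 146772 324 = true := by decide +kernel

theorem rows_ok_454 : rowsOK 147096 324 = true := by decide +kernel

theorem rows_ok_455 : rowsOK 147420 324 = true := by decide +kernel

end Cfsg.Agent.Lib.Helper7.Sp6Mul
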