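import Cfsg.Agent.Lib.Helper7.Sp6MulC
import Cfsg.Agent.Lib.Helper7.Sp6MulK49

/-! # The multiplier of the symplectic group of degree six over the field of two elements: the check of the rows 147744 to 150335 of the certificate (generated) -/

set_option autoImplicit false
set_option maxRecDepth 100000

namespace Cfsg.Agent.Lib.Helper7.Sp6Mul

theorem rows_ok_456 : rowsOK 147744 324 = true := by decide +kernel

theorem rows_ok_457 : rowsOK 148068 324 = true := by decide +kernel

theorem rows_ok_458 : rowsOK 148392 324 = true := by decide +kernel

theorem rows_ok_459 : rowsOK 148716 324 = true := by decide +kernel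

theorem rows_ok_460 : rowsOK 149040 324 = true := by decide +kernel

theorem rows_ok_461 : rowsOK 149364 324 = true := by decide +kernel

theorem rows_ok_462 : rowsOK 149688 324 = true := by decide +kernel

theorem rows_ok_463 : rowsOK 150012 324 = true := by decide +kernel

end Cfsg.Agent.Lib.Helper7.Sp6Mul
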