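import Cfsg.Agent.Lib.Helper7.Sp6MulC
import Cfsg.Agent.Lib.Helper7.Sp6MulK50

/-! # The multiplier of the symplectic group of degree six over the field of two elements: the check of the rows 150336 to 152927 of the certificate (generated) -/

set_option autoImplicit false
set_option maxRecDepth 100000

namespace Cfsg.Agent.Lib.Helper7.Sp6Mul

theorem rows_ok_464 : rowsOK 150336 324 = true := by decide +kernel

theorem rows_ok_465 : rowsOK 150660 324 = true := by decide +kernel

theorem rows_ok_466 : rowsOK 150984 324 = true := by decide +kernel

theorem rows_ok_467 : rowsOK 151308 324 = true := by decide +kernel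

theorem rows_ok_468 : rowsOK 151632 324 = true := by decide +kernel

theorem rows_ok_469 : rowsOK 151956 324 = true := by decide +kernel

theorem rows_ok_470 : rowsOK 152280 324 = true := by decide +kernel

theorem rows_ok_471 : rowsOK 152604 324 = true := by decide +kernel

end Cfsg.Agent.Lib.Helper7.Sp6Mul
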