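import Cfsg.Agent.Lib.Helper7.Sp6MulC
import Cfsg.Agent.Lib.Helper7.Sp6MulK43

/-! # The multiplier of the symplectic group of degree six over the field of two elements: the check of the rows 132192 to 134783 of the certificate (generated) -/

set_option autoImplicit false
set_option maxRecDepth 100000

namespace Cfsg.Agent.Lib.Helper7.Sp6Mul

theorem rows_ok_408 : rowsOK 132192 324 = true := by decide +kernel

theorem rows_ok_409 : rowsOK 132516 324 = true := by decide +kernel

theorem rows_ok_410 : rowsOK 132840 324 = true := by decide +kernel

theorem rows_ok_411 : rowsOK 133164 324 = true := by decide +kernel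

theorem rows_ok_412 : rowsOK 133488 324 = true := by decide +kernel

theorem rows_ok_413 : rowsOK 133812 324 = true := by decide +kernel

theorem rows_ok_414 : rowsOK 134136 324 = true := by decide +kernel

theorem rows_ok_415 : rowsOK 134460 324 = true := by decide +kernel

end Cfsg.Agent.Lib.Helper7.Sp6Mul
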