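import Cfsg.Agent.Lib.Helper7.Sp6MulC
import Cfsg.Agent.Lib.Helper7.Sp6MulK51

/-! # The multiplier of the symplectic group of degree six over the field of two elements: the check of the rows 152928 to 155519 of the certificate (generated) -/

set_option autoImplicit false
set_option maxRecDepth 100000

namespace Cfsg.Agent.Lib.Helper7.Sp6Mul

theorem rows_ok_472 : rowsOK 152928 324 = true := by decide +kernel

theorem rows_ok_473 : rowsOK 153252 324 = true := by decide +kernel

theorem rows_ok_474 : rowsOK 153576 324 = true := by decide +kernel

theorem rows_ok_475 : rowsOK 153900 324 = true := by decide +kernel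

theorem rows_ok_476 : rowsOK 154224 324 = true := by decide +kernel

theorem rows_ok_477 : rowsOK 154548 324 = true := by decide +kernel

theorem rows_ok_478 : rowsOK 154872 324 = true := by decide +kernel

theorem rows_ok_479 : rowsOK 155196 324 = true := by decide +kernel

end Cfsg.Agent.Lib.Helper7.Sp6Mul
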