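import Cfsg.Agent.Lib.Helper7.Sp6MulC
import Cfsg.Agent.Lib.Helper7.Sp6MulK52

/-! # The multiplier of the symplectic group of degree six over the field of two elements: the check of the rows 155520 to 158111 of the certificate (generated) -/

set_option autoImplicit false
set_option maxRecDepth 100000

namespace Cfsg.Agent.Lib.Helper7.Sp6Mul

theorem rows_ok_480 : rowsOK 155520 324 = true := by decide +kernel

theorem rows_ok_481 : rowsOK 155844 324 = true := by decide +kernel

theorem rows_ok_482 : rowsOK 156168 324 = true := by decide +kernel

theorem rows_ok_483 : rowsOK 156492 324 = true := by decide +kernel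

theorem rows_ok_484 : rowsOK 156816 324 = true := by decide +kernel

theorem rows_ok_485 : rowsOK 157140 324 = true := by decide +kernel

theorem rows_ok_486 : rowsOK 157464 324 = true := by decide +kernel

theorem rows_ok_487 : rowsOK 157788 324 = true := by decide +kernel

end Cfsg.Agent.Lib.Helper7.Sp6Mul
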