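import Cfsg.Agent.Lib.Helper7.Sp6MulC
import Cfsg.Agent.Lib.Helper7.Sp6MulK53

/-! # The multiplier of the symplectic group of degree six over the field of two elements: the check of the rows 158112 to 160703 of the certificate (generated) -/

set_option autoImplicit false
set_option maxRecDepth 100000

namespace Cfsg.Agent.Lib.Helper7.Sp6Mul

theorem rows_ok_488 : rowsOK 158112 324 = true := by decide +kernel

theorem rows_ok_489 : rowsOK 158436 324 = true := by decide +kernel

theorem rows_ok_490 : rowsOK 158760 324 = true := by decide +kernel

theorem rows_ok_491 : rowsOK 159084 324 = true := by decide +kernel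

theorem rows_ok_492 : rowsOK 159408 324 = true := by decide +kernel

theorem rows_ok_493 : rowsOK 159732 324 = true := by decide +kernel

theorem rows_ok_494 : rowsOK 160056 324 = true := by decide +kernel

theorem rows_ok_495 : rowsOK 160380 324 = true := by decide +kernel

end Cfsg.Agent.Lib.Helper7.Sp6Mul
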