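import Cfsg.Agent.Lib.Helper7.Sp6MulC
import Cfsg.Agent.Lib.Helper7.Sp6MulK54

/-! # The multiplier of the symplectic group of degree six over the field of two elements: the check of the rows 160704 to 163295 of the certificate (generated) -/

set_option autoImplicit false
set_option maxRecDepth 100000

namespace Cfsg.Agent.Lib.Helper7.Sp6Mul

theorem rows_ok_496 : rowsOK 160704 324 = true := by decide +kernel

theorem rows_ok_497 : rowsOK 161028 324 = true := by decide +kernel

theorem rows_ok_498 : rowsOK 161352 324 = true := by decide +kernel

theorem rows_ok_499 : rowsOK 161676 324 = true := by decide +kernel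

theorem rows_ok_500 : rowsOK 162000 324 = true := by decide +kernel

theorem rows_ok_501 : rowsOK 162324 324 = true := by decide +kernel

theorem rows_ok_502 : rowsOK 162648 324 = true := by decide +kernel

theorem rows_ok_503 : rowsOK 162972 324 = true := by decide +kernel

end Cfsg.Agent.Lib.Helper7.Sp6Mul
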