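import Cfsg.Agent.Lib.Helper7.Sp6MulC
import Cfsg.Agent.Lib.Helper7.Sp6MulK55

/-! # The multiplier of the symplectic group of degree six over the field of two elements: the check of the rows 163296 to 165887 of the certificate (generated) -/

set_option autoImplicit false
set_option maxRecDepth 100000

namespace Cfsg.Agent.Lib.Helper7.Sp6Mul

theorem rows_ok_504 : rowsOK 163296 324 = true := by decide +kernel

theorem rows_ok_505 : rowsOK 163620 324 = true := by decide +kernel

theorem rows_ok_506 : rowsOK 163944 324 = true := by decide +kernel

theorem rows_ok_507 : rowsOK 164268 324 = true := by decide +kernel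

theorem rows_ok_508 : rowsOK 164592 324 = true := by decide +kernel

theorem rows_ok_509 : rowsOK 164916 324 = true := by decide +kernel

theorem rows_ok_510 : rowsOK 165240 324 = true := by decide +kernel

theorem rows_ok_511 : rowsOK 165564 324 = true := by decide +kernel

end Cfsg.Agent.Lib.Helper7.Sp6Mul
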