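import Cfsg.Agent.Lib.Helper7.Sp6MulC
import Cfsg.Agent.Lib.Helper7.Sp6MulK57

/-! # The multiplier of the symplectic group of degree six over the field of two elements: the check of the rows 168480 to 171071 of the certificate (generated) -/

set_option autoImplicit false
set_option maxRecDepth 100000

namespace Cfsg.Agent.Lib.Helper7.Sp6Mul

theorem rows_ok_520 : rowsOK 168480 324 = true := by decide +kernel

theorem rows_ok_521 : rowsOK 168804 324 = true := by decide +kernel

theorem rows_ok_522 : rowsOK 169128 324 = true := by decide +kernel

theorem rows_ok_523 : rowsOK 169452 324 = true := by decide +kernel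

theorem rows_ok_524 : rowsOK 169776 324 = true := by decide +kernel

theorem rows_ok_525 : rowsOK 170100 324 = true := by decide +kernel

theorem rows_ok_526 : rowsOK 170424 324 = true := by decide +kernel

theorem rows_ok_527 : rowsOK 170748 324 = true := by decide +kernel

end Cfsg.Agent.Lib.Helper7.Sp6Mul
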