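import Cfsg.Agent.Lib.Helper7.Sp6MulC
import Cfsg.Agent.Lib.Helper7.Sp6MulK58

/-! # The multiplier of the symplectic group of degree six over the field of two elements: the check of the rows 171072 to 173663 of the certificate (generated) -/

set_option autoImplicit false
set_option maxRecDepth 100000

namespace Cfsg.Agent.Lib.Helper7.Sp6Mul

theorem rows_ok_528 : rowsOK 171072 324 = true := by decide +kernel

theorem rows_ok_529 : rowsOK 171396 324 = true := by decide +kernel

theorem rows_ok_530 : rowsOK 171720 324 = true := by decide +kernel

theorem rows_ok_531 : rowsOK 172044 324 = true := by decide +kernel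

theorem rows_ok_532 : rowsOK 172368 324 = true := by decide +kernel

theorem rows_ok_533 : rowsOK 172692 324 = true := by decide +kernel

theorem rows_ok_534 : rowsOK 173016 324 = true := by decide +kernel

theorem rows_ok_535 : rowsOK 173340 324 = true := by decide +kernel

end Cfsg.Agent.Lib.Helper7.Sp6Mul
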