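import Cfsg.Agent.Lib.Helper7.Sp6MulC
import Cfsg.Agent.Lib.Helper7.Sp6MulK59

/-! # The multiplier of the symplectic group of degree six over the field of two elements: the check of the rows 173664 to 176255 of the certificate (generated) -/

set_option autoImplicit false
set_option maxRecDepth 100000

namespace Cfsg.Agent.Lib.Helper7.Sp6Mul

theorem rows_ok_536 : rowsOK 173664 324 = true := by decide +kernel

theorem rows_ok_537 : rowsOK 173988 324 = true := by decide +kernel

theorem rows_ok_538 : rowsOK 174312 324 = true := by decide +kernel

theorem rows_ok_539 : rowsOK 174636 324 = true := by decide +kernel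

theorem rows_ok_540 : rowsOK 174960 324 = true := by decide +kernel

theorem rows_ok_541 : rowsOK 175284 324 = true := by decide +kernel

theorem rows_ok_542 : rowsOK 175608 324 = true := by decide +kernel

theorem rows_ok_543 : rowsOK 175932 324 = true := by decide +kernel

end Cfsg.Agent.Lib.Helper7.Sp6Mul
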