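import Cfsg.Agent.Lib.Helper7.Sp6MulC
import Cfsg.Agent.Lib.Helper7.Sp6MulK60

/-! # The multiplier of the symplectic group of degree six over the field of two elements: the check of the rows 176256 to 178847 of the certificate (generated) -/

set_option autoImplicit false
set_option maxRecDepth 100000

namespace Cfsg.Agent.Lib.Helper7.Sp6Mul

theorem rows_ok_544 : rowsOK 176256 324 = true := by decide +kernel

theorem rows_ok_545 : rowsOK 176580 324 = true := by decide +kernel

theorem rows_ok_546 : rowsOK 176904 324 = true := by decide +kernel

theorem rows_ok_547 : rowsOK 177228 324 = true := by decide +kernel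

theorem rows_ok_548 : rowsOK 177552 324 = true := by decide +kernel

theorem rows_ok_549 : rowsOK 177876 324 = true := by decide +kernel

theorem rows_ok_550 : rowsOK 178200 324 = true := by decide +kernel

theorem rows_ok_551 : rowsOK 178524 324 = true := by decide +kernel

end Cfsg.Agent.Lib.Helper7.Sp6Mul
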