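import Cfsg.Agent.Lib.Helper7.Sp6MulC
import Cfsg.Agent.Lib.Helper7.Sp6MulK61

/-! # The multiplier of the symplectic group of degree six over the field of two elements: the check of the rows 178848 to 181439 of the certificate (generated) -/

set_option autoImplicit false
set_option maxRecDepth 100000

namespace Cfsg.Agent.Lib.Helper7.Sp6Mul

theorem rows_ok_552 : rowsOK 178848 324 = true := by decide +kernel

theorem rows_ok_553 : rowsOK 179172 324 = true := by decide +kernel

theorem rows_ok_554 : rowsOK 179496 324 = true := by decide +kernel

theorem rows_ok_555 : rowsOK 179820 324 = true := by decide +kernel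

theorem rows_ok_556 : rowsOK 180144 324 = true := by decide +kernel

theorem rows_ok_557 : rowsOK 180468 324 = true := by decide +kernel

theorem rows_ok_558 : rowsOK 180792 324 = true := by decide +kernel

theorem rows_ok_559 : rowsOK 181116 324 = true := by decide +kernel

end Cfsg.Agent.Lib.Helper7.Sp6Mul
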