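import Cfsg.Agent.Lib.Helper7.Sp6MulC
import Cfsg.Agent.Lib.Helper7.Sp6MulK62

/-! # The multiplier of the symplectic group of degree six over the field of two elements: the check of the rows 181440 to 184031 of the certificate (generated) -/

set_option autoImplicit false
set_option maxRecDepth 100000

namespace Cfsg.Agent.Lib.Helper7.Sp6Mul

theorem rows_ok_560 : rowsOK 181440 324 = true := by decide +kernel

theorem rows_ok_561 : rowsOK 181764 324 = true := by decide +kernel

theorem rows_ok_562 : rowsOK 182088 324 = true := by decide +kernel

theorem rows_ok_563 : rowsOK 182412 324 = true := by decide +kernel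

theorem rows_ok_564 : rowsOK 182736 324 = true := by decide +kernel

theorem rows_ok_565 : rowsOK 183060 324 = true := by decide +kernel

theorem rows_ok_566 : rowsOK 183384 324 = true := by decide +kernel

theorem rows_ok_567 : rowsOK 183708 324 = true := by decide +kernel

end Cfsg.Agent.Lib.Helper7.Sp6Mul
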