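import Cfsg.Agent.Lib.Helper7.Sp6MulC
import Cfsg.Agent.Lib.Helper7.Sp6MulK63

/-! # The multiplier of the symplectic group of degree six over the field of two elements: the check of the rows 184032 to 186623 of the certificate (generated) -/

set_option autoImplicit false
set_option maxRecDepth 100000

namespace Cfsg.Agent.Lib.Helper7.Sp6Mul

theorem rows_ok_568 : rowsOK 184032 324 = true := by decide +kernel

theorem rows_ok_569 : rowsOK 184356 324 = true := by decide +kernel

theorem rows_ok_570 : rowsOK 184680 324 = true := by decide +kernel

theorem rows_ok_571 : rowsOK 185004 324 = true := by decide +kernel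

theorem rows_ok_572 : rowsOK 185328 324 = true := by decide +kernel

theorem rows_ok_573 : rowsOK 185652 324 = true := by decide +kernel

theorem rows_ok_574 : rowsOK 185976 324 = true := by decide +kernel

theorem rows_ok_575 : rowsOK 186300 324 = true := by decide +kernel

end Cfsg.Agent.Lib.Helper7.Sp6Mul
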