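import Cfsg.Agent.Lib.Helper7.Sp6MulC
import Cfsg.Agent.Lib.Helper7.Sp6MulK56

/-! # The multiplier of the symplectic group of degree six over the field of two elements: the check of the rows 165888 to 168479 of the certificate (generated) -/

set_option autoImplicit false
set_option maxRecDepth 100000

namespace Cfsg.Agent.Lib.Helper7.Sp6Mul

theorem rows_ok_512 : rowsOK 165888 324 = true := by decide +kernel

theorem rows_ok_513 : rowsOK 166212 324 = true := by decide +kernel

theorem rows_ok_514 : rowsOK 166536 324 = true := by decide +kernel

theorem rows_ok_515 : rowsOK 166860 324 = true := by decide +kernel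

theorem rows_ok_516 : rowsOK 167184 324 = true := by decide +kernel

theorem rows_ok_517 : rowsOK 167508 324 = true := by decide +kernel

theorem rows_ok_518 : rowsOK 167832 324 = true := by decide +kernel

theorem rows_ok_519 : rowsOK 168156 324 = true := by decide +kernel

end Cfsg.Agent.Lib.Helper7.Sp6Mul
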