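import Cfsg.Agent.Lib.Helper7.Sp6MulC
import Cfsg.Agent.Lib.Helper7.Sp6MulK64

/-! # The multiplier of the symplectic group of degree six over the field of two elements: the check of the rows 186624 to 189215 of the certificate (generated) -/

set_option autoImplicit false
set_option maxRecDepth 100000

namespace Cfsg.Agent.Lib.Helper7.Sp6Mul

theorem rows_ok_576 : rowsOK 186624 324 = true := by decide +kernel

theorem rows_ok_577 : rowsOK 186948 324 = true := by decide +kernel

theorem rows_ok_578 : rowsOK 187272 324 = true := by decide +kernel

theorem rows_ok_579 : rowsOK 187596 324 = true := by decide +kernel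

theorem rows_ok_580 : rowsOK 187920 324 = true := by decide +kernel

theorem rows_ok_581 : rowsOK 188244 324 = true := by decide +kernel

theorem rows_ok_582 : rowsOK 188568 324 = true := by decide +kernel

theorem rows_ok_583 : rowsOK 188892 324 = true := by decide +kernel

end Cfsg.Agent.Lib.Helper7.Sp6Mul
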