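import Cfsg.Agent.Lib.Helper7.Sp6MulC
import Cfsg.Agent.Lib.Helper7.Sp6MulK65

/-! # The multiplier of the symplectic group of degree six over the field of two elements: the check of the rows 189216 to 191807 of the certificate (generated) -/

set_option autoImplicit false
set_option maxRecDepth 100000

namespace Cfsg.Agent.Lib.Helper7.Sp6Mul

theorem rows_ok_584 : rowsOK 189216 324 = true := by decide +kernel

theorem rows_ok_585 : rowsOK 189540 324 = true := by decide +kernel

theorem rows_ok_586 : rowsOK 189864 324 = true := by decide +kernel

theorem rows_ok_587 : rowsOK 190188 324 = true := by decide +kernel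

theorem rows_ok_588 : rowsOK 190512 324 = true := by decide +kernel

theorem rows_ok_589 : rowsOK 190836 324 = true := by decide +kernel

theorem rows_ok_590 : rowsOK 191160 324 = true := by decide +kernel

theorem rows_ok_591 : rowsOK 191484 324 = true := by decide +kernel

end Cfsg.Agent.Lib.Helper7.Sp6Mul
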