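import Cfsg.Agent.Lib.Helper7.Sp6MulC
import Cfsg.Agent.Lib.Helper7.Sp6MulK66

/-! # The multiplier of the symplectic group of degree six over the field of two elements: the check of the rows 191808 to 194399 of the certificate (generated) -/

set_option autoImplicit false
set_option maxRecDepth 100000

namespace Cfsg.Agent.Lib.Helper7.Sp6Mul

theorem rows_ok_592 : rowsOK 191808 324 = true := by decide +kernel

theorem rows_ok_593 : rowsOK 192132 324 = true := by decide +kernel

theorem rows_ok_594 : rowsOK 192456 324 = true := by decide +kernel

theorem rows_ok_595 : rowsOK 192780 324 = true := by decide +kernel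

theorem rows_ok_596 : rowsOK 193104 324 = true := by decide +kernel

theorem rows_ok_597 : rowsOK 193428 324 = true := by decide +kernel

theorem rows_ok_598 : rowsOK 193752 324 = true := by decide +kernel

theorem rows_ok_599 : rowsOK 194076 324 = true := by decide +kernel

end Cfsg.Agent.Lib.Helper7.Sp6Mul
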