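import Cfsg.Agent.Lib.Helper7.Sp6MulC
import Cfsg.Agent.Lib.Helper7.Sp6MulK67

/-! # The multiplier of the symplectic group of degree six over the field of two elements: the check of the rows 194400 to 196991 of the certificate (generated) -/

set_option autoImplicit false
set_option maxRecDepth 100000

namespace Cfsg.Agent.Lib.Helper7.Sp6Mul

theorem rows_ok_600 : rowsOK 194400 324 = true := by decide +kernel

theorem rows_ok_601 : rowsOK 194724 324 = true := by decide +kernel

theorem rows_ok_602 : rowsOK 195048 324 = true := by decide +kernel

theorem rows_ok_603 : rowsOK 195372 324 = true := by decide +kernel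

theorem rows_ok_604 : rowsOK 195696 324 = true := by decide +kernel

theorem rows_ok_605 : rowsOK 196020 324 = true := by decide +kernel

theorem rows_ok_606 : rowsOK 196344 324 = true := by decide +kernel

theorem rows_ok_607 : rowsOK 196668 324 = true := by decide +kernel

end Cfsg.Agent.Lib.Helper7.Sp6Mul
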