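import Cfsg.Agent.Lib.Helper7.Sp6MulC
import Cfsg.Agent.Lib.Helper7.Sp6MulK68

/-! # The multiplier of the symplectic group of degree six over the field of two elements: the check of the rows 196992 to 199583 of the certificate (generated) -/

set_option autoImplicit false
set_option maxRecDepth 100000

namespace Cfsg.Agent.Lib.Helper7.Sp6Mul

theorem rows_ok_608 : rowsOK 196992 324 = true := by decide +kernel

theorem rows_ok_609 : rowsOK 197316 324 = true := by decide +kernel

theorem rows_ok_610 : rowsOK 197640 324 = true := by decide +kernel

theorem rows_ok_611 : rowsOK 197964 324 = true := by decide +kernel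

theorem rows_ok_612 : rowsOK 198288 324 = true := by decide +kernel

theorem rows_ok_613 : rowsOK 198612 324 = true := by decide +kernel

theorem rows_ok_614 : rowsOK 198936 324 = true := by decide +kernel

theorem rows_ok_615 : rowsOK 199260 324 = true := by decide +kernel

end Cfsg.Agent.Lib.Helper7.Sp6Mul
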