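import Cfsg.Agent.Lib.Helper7.Sp6MulC
import Cfsg.Agent.Lib.Helper7.Sp6MulK70

/-! # The multiplier of the symplectic group of degree six over the field of two elements: the check of the rows 202176 to 204767 of the certificate (generated) -/

set_option autoImplicit false
set_option maxRecDepth 100000

namespace Cfsg.Agent.Lib.Helper7.Sp6Mul

theorem rows_ok_624 : rowsOK 202176 324 = true := by decide +kernel

theorem rows_ok_625 : rowsOK 202500 324 = true := by decide +kernel

theorem rows_ok_626 : rowsOK 202824 324 = true := by decide +kernel

theorem rows_ok_627 : rowsOK 203148 324 = true := by decide +kernel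

theorem rows_ok_628 : rowsOK 203472 324 = true := by decide +kernel

theorem rows_ok_629 : rowsOK 203796 324 = true := by decide +kernel

theorem rows_ok_630 : rowsOK 204120 324 = true := by decide +kernel

theorem rows_ok_631 : rowsOK 204444 324 = true := by decide +kernel

end Cfsg.Agent.Lib.Helper7.Sp6Mul
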