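import Cfsg.Agent.Lib.Helper7.Sp6MulC
import Cfsg.Agent.Lib.Helper7.Sp6MulK71

/-! # The multiplier of the symplectic group of degree six over the field of two elements: the check of the rows 204768 to 207359 of the certificate (generated) -/

set_option autoImplicit false
set_option maxRecDepth 100000

namespace Cfsg.Agent.Lib.Helper7.Sp6Mul

theorem rows_ok_632 : rowsOK 204768 324 = true := by decide +kernel

theorem rows_ok_633 : rowsOK 205092 324 = true := by decide +kernel

theorem rows_ok_634 : rowsOK 205416 324 = true := by decide +kernel

theorem rows_ok_635 : rowsOK 205740 324 = true := by decide +kernel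

theorem rows_ok_636 : rowsOK 206064 324 = true := by decide +kernel

theorem rows_ok_637 : rowsOK 206388 324 = true := by decide +kernel

theorem rows_ok_638 : rowsOK 206712 324 = true := by decide +kernel

theorem rows_ok_639 : rowsOK 207036 324 = true := by decide +kernel

end Cfsg.Agent.Lib.Helper7.Sp6Mul
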