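import Cfsg.Agent.Lib.Helper7.Sp6MulK0
import Cfsg.Agent.Lib.Helper7.Sp6MulK1
import Cfsg.Agent.Lib.Helper7.Sp6MulK2
import Cfsg.Agent.Lib.Helper7.Sp6MulK3
import Cfsg.Agent.Lib.Helper7.Sp6MulK4
import Cfsg.Agent.Lib.Helper7.Sp6MulK5
import Cfsg.Agent.Lib.Helper7.Sp6MulK6
import Cfsg.Agent.Lib.Helper7.Sp6MulK7
import Cfsg.Agent.Lib.Helper7.Sp6MulK8
import Cfsg.Agent.Lib.Helper7.Sp6MulK9
import Cfsg.Agent.Lib.Helper7.Sp6MulK10
import Cfsg.Agent.Lib.Helper7.Sp6MulK11
import Cfsg.Agent.Lib.Helper7.Sp6MulK12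
import Cfsg.Agent.Lib.Helper7.Sp6MulK13
import Cfsg.Agent.Lib.Helper7.Sp6MulK14
import Cfsg.Agent.Lib.Helper7.Sp6MulK15
import Cfsg.Agent.Lib.Helper7.Sp6MulK16
import Cfsg.Agent.Lib.Helper7.Sp6MulK17
import Cfsg.Agent.Lib.Helper7.Sp6MulK18
import Cfsg.Agent.Lib.Helper7.Sp6MulK19
import Cfsg.Agent.Lib.Helper7.Sp6MulK20
import Cfsg.Agent.Lib.Helper7.Sp6MulK21
import Cfsg.Agent.Lib.Helper7.Sp6MulK22
import Cfsg.Agent.Lib.Helper7.Sp6MulK23
import Cfsg.Agent.Lib.Helper7.Sp6MulK24
import Cfsg.Agent.Lib.Helper7.Sp6MulK25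
import Cfsg.Agent.Lib.Helper7.Sp6MulK26
import Cfsg.Agent.Lib.Helper7.Sp6MulK27
import Cfsg.Agent.Lib.Helper7.Sp6MulK28
import Cfsg.Agent.Lib.Helper7.Sp6MulK29
import Cfsg.Agent.Lib.Helper7.Sp6MulK30
import Cfsg.Agent.Lib.Helper7.Sp6MulK31
import Cfsg.Agent.Lib.Helper7.Sp6MulK32
import Cfsg.Agent.Lib.Helper7.Sp6MulK33
import Cfsg.Agent.Lib.Helper7.Sp6MulK34
import Cfsg.Agent.Lib.Helper7.Sp6MulK35
import Cfsg.Agent.Lib.Helper7.Sp6MulK36
import Cfsg.Agent.Lib.Helper7.Sp6MulK37
import Cfsg.Agent.Lib.Helper7.Sp6MulK38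
import Cfsg.Agent.Lib.Helper7.Sp6MulK39
import Cfsg.Agent.Lib.Helper7.Sp6MulK40
import Cfsg.Agent.Lib.Helper7.Sp6MulK41
import Cfsg.Agent.Lib.Helper7.Sp6MulK42
import Cfsg.Agent.Lib.Helper7.Sp6MulK43
import Cfsg.Agent.Lib.Helper7.Sp6MulK44
import Cfsg.Agent.Lib.Helper7.Sp6MulK45
import Cfsg.Agent.Lib.Helper7.Sp6MulK46
import Cfsg.Agent.Lib.Helper7.Sp6MulK47
import Cfsg.Agent.Lib.Helper7.Sp6MulK48
import Cfsg.Agent.Lib.Helper7.Sp6MulK49
import Cfsg.Agent.Lib.Helper7.Sp6MulK50
import Cfsg.Agent.Lib.Helper7.Sp6MulK51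
import Cfsg.Agent.Lib.Helper7.Sp6MulK52
import Cfsg.Agent.Lib.Helper7.Sp6MulK53
import Cfsg.Agent.Lib.Helper7.Sp6MulK54
import Cfsg.Agent.Lib.Helper7.Sp6MulK55
import Cfsg.Agent.Lib.Helper7.Sp6MulK56
import Cfsg.Agent.Lib.Helper7.Sp6MulK57
import Cfsg.Agent.Lib.Helper7.Sp6MulK58
import Cfsg.Agent.Lib.Helper7.Sp6MulK59
import Cfsg.Agent.Lib.Helper7.Sp6MulK60
import Cfsg.Agent.Lib.Helper7.Sp6MulK61
import Cfsg.Agent.Lib.Helper7.Sp6MulK62
import Cfsg.Agent.Lib.Helper7.Sp6MulK63
import Cfsg.Agent.Lib.Helper7.Sp6MulK64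
import Cfsg.Agent.Lib.Helper7.Sp6MulK65
import Cfsg.Agent.Lib.Helper7.Sp6MulK66
import Cfsg.Agent.Lib.Helper7.Sp6MulK67
import Cfsg.Agent.Lib.Helper7.Sp6MulK68
import Cfsg.Agent.Lib.Helper7.Sp6MulK69
import Cfsg.Agent.Lib.Helper7.Sp6MulK70
import Cfsg.Agent.Lib.Helper7.Sp6MulK71
import Cfsg.Agent.Lib.Helper7.Sp6MulK72
import Cfsg.Agent.Lib.Helper7.Sp6MulK73
import Cfsg.Agent.Lib.Helper7.Sp6MulK74
import Cfsg.Agent.Lib.Helper7.Sp6MulK75
import Cfsg.Agent.Lib.Helper7.Sp6MulK76
import Cfsg.Agent.Lib.Helper7.Sp6MulK77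
import Cfsg.Agent.Lib.Helper7.Sp6MulK78
import Cfsg.Agent.Lib.Helper7.Sp6MulK79

/-! # The multiplier of the symplectic group of degree six over the field of two elements: all the rows and words of the certificate are checked, and the words that give the relations
between the classes are traced (generated) -/

set_option autoImplicit false
set_option maxRecDepth 100000

namespace Cfsg.Agent.Lib.Helper7.Sp6Mul

open Cfsg.Agent.Lib.Helper7.MG Cfsg.Agent.Lib.Helper7.HSMult

theorem rows_ok_all : ∀ k, k < 640 → rowsOK (324 * k) 324 = true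
  | 0, _ => rows_ok_0
  | 1, _ => rows_ok_1
  | 2, _ => rows_ok_2
  | 3, _ => rows_ok_3
  | 4, _ => rows_ok_4
  | 5, _ => rows_ok_5
  | 6, _ => rows_ok_6
  | 7, _ => rows_ok_7
  | 8, _ => rows_ok_8
  | 9, _ => rows_ok_9
  | 10, _ => rows_ok_10
  | 11, _ => rows_ok_11
  | 12, _ => rows_ok_12
  | 13, _ => rows_ok_13
  | 14, _ => rows_ok_14
  | 15, _ => rows_ok_15
  | 16, _ => rows_ok_16
  | 17, _ => rows_ok_17
  | 18, _ => rows_ok_18
  | 19, _ => rows_ok_19
  | 20, _ => rows_ok_20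
  | 21, _ => rows_ok_21
  | 22, _ => rows_ok_22
  | 23, _ => rows_ok_23
  | 24, _ => rows_ok_24
  | 25, _ => rows_ok_25
  | 26, _ => rows_ok_26
  | 27, _ => rows_ok_27
  | 28, _ => rows_ok_28
  | 29, _ => rows_ok_29
  | 30, _ => rows_ok_30
  | 31, _ => rows_ok_31
  | 32, _ => rows_ok_32
  | 33, _ => rows_ok_33
  | 34, _ => rows_ok_34
  | 35, _ => rows_ok_35
  | 36, _ => rows_ok_36
  | 37, _ => rows_ok_37
  | 38, _ => rows_ok_38
  | 39, _ => rows_ok_39
  | 40, _ => rows_ok_40
  | 41, _ => rows_ok_41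
  | 42, _ => rows_ok_42
  | 43, _ => rows_ok_43
  | 44, _ => rows_ok_44
  | 45, _ => rows_ok_45
  | 46, _ => rows_ok_46
  | 47, _ => rows_ok_47
  | 48, _ => rows_ok_48
  | 49, _ => rows_ok_49
  | 50, _ => rows_ok_50
  | 51, _ => rows_ok_51
  | 52, _ => rows_ok_52
  | 53, _ => rows_ok_53
  | 54, _ => rows_ok_54
  | 55, _ => rows_ok_55
  | 56, _ => rows_ok_56
  | 57, _ => rows_ok_57
  | 58, _ => rows_ok_58
  | 59, _ => rows_ok_59
  | 60, _ => rows_ok_60
  | 61, _ => rows_ok_61
  | 62, _ => rows_ok_62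
  | 63, _ => rows_ok_63
  | 64, _ => rows_ok_64
  | 65, _ => rows_ok_65
  | 66, _ => rows_ok_66
  | 67, _ => rows_ok_67
  | 68, _ => rows_ok_68
  | 69, _ => rows_ok_69
  | 70, _ => rows_ok_70
  | 71, _ => rows_ok_71
  | 72, _ => rows_ok_72
  | 73, _ => rows_ok_73
  | 74, _ => rows_ok_74
  | 75, _ => rows_ok_75
  | 76, _ => rows_ok_76
  | 77, _ => rows_ok_77
  | 78, _ => rows_ok_78
  | 79, _ => rows_ok_79
  | 80, _ => rows_ok_80
  | 81, _ => rows_ok_81
  | 82, _ => rows_ok_82
  | 83, _ => rows_ok_83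
  | 84, _ => rows_ok_84
  | 85, _ => rows_ok_85
  | 86, _ => rows_ok_86
  | 87, _ => rows_ok_87
  | 88, _ => rows_ok_88
  | 89, _ => rows_ok_89
  | 90, _ => rows_ok_90
  | 91, _ => rows_ok_91
  | 92, _ => rows_ok_92
  | 93, _ => rows_ok_93
  | 94, _ => rows_ok_94
  | 95, _ => rows_ok_95
  | 96, _ => rows_ok_96
  | 97, _ => rows_ok_97
  | 98, _ => rows_ok_98
  | 99, _ => rows_ok_99
  | 100, _ => rows_ok_100
  | 101, _ => rows_ok_101
  | 102, _ => rows_ok_102
  | 103, _ => rows_ok_103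
  | 104, _ => rows_ok_104
  | 105, _ => rows_ok_105
  | 106, _ => rows_ok_106
  | 107, _ => rows_ok_107
  | 108, _ => rows_ok_108
  | 109, _ => rows_ok_109
  | 110, _ => rows_ok_110
  | 111, _ => rows_ok_111
  | 112, _ => rows_ok_112
  | 113, _ => rows_ok_113
  | 114, _ => rows_ok_114
  | 115, _ => rows_ok_115
  | 116, _ => rows_ok_116
  | 117, _ => rows_ok_117
  | 118, _ => rows_ok_118
  | 119, _ => rows_ok_119
  | 120, _ => rows_ok_120
  | 121, _ => rows_ok_121
  | 122, _ => rows_ok_122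
  | 123, _ => rows_ok_123
  | 124, _ => rows_ok_124
  | 125, _ => rows_ok_125
  | 126, _ => rows_ok_126
  | 127, _ => rows_ok_127
  | 128, _ => rows_ok_128
  | 129, _ => rows_ok_129
  | 130, _ => rows_ok_130
  | 131, _ => rows_ok_131
  | 132, _ => rows_ok_132
  | 133, _ => rows_ok_133
  | 134, _ => rows_ok_134
  | 135, _ => rows_ok_135
  | 136, _ => rows_ok_136
  | 137, _ => rows_ok_137
  | 138, _ => rows_ok_138
  | 139, _ => rows_ok_139
  | 140, _ => rows_ok_140
  | 141, _ => rows_ok_141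
  | 142, _ => rows_ok_142
  | 143, _ => rows_ok_143
  | 144, _ => rows_ok_144
  | 145, _ => rows_ok_145
  | 146, _ => rows_ok_146
  | 147, _ => rows_ok_147
  | 148, _ => rows_ok_148
  | 149, _ => rows_ok_149
  | 150, _ => rows_ok_150
  | 151, _ => rows_ok_151
  | 152, _ => rows_ok_152
  | 153, _ => rows_ok_153
  | 154, _ => rows_ok_154
  | 155, _ => rows_ok_155
  | 156, _ => rows_ok_156
  | 157, _ => rows_ok_157
  | 158, _ => rows_ok_158
  | 159, _ => rows_ok_159
  | 160, _ => rows_ok_160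
  | 161, _ => rows_ok_161
  | 162, _ => rows_ok_162
  | 163, _ => rows_ok_163
  | 164, _ => rows_ok_164
  | 165, _ => rows_ok_165
  | 166, _ => rows_ok_166
  | 167, _ => rows_ok_167
  | 168, _ => rows_ok_168
  | 169, _ => rows_ok_169
  | 170, _ => rows_ok_170
  | 171, _ => rows_ok_171
  | 172, _ => rows_ok_172
  | 173, _ => rows_ok_173
  | 174, _ => rows_ok_174
  | 175, _ => rows_ok_175
  | 176, _ => rows_ok_176
  | 177, _ => rows_ok_177
  | 178, _ => rows_ok_178
  | 179, _ => rows_ok_179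
  | 180, _ => rows_ok_180
  | 181, _ => rows_ok_181
  | 182, _ => rows_ok_182
  | 183, _ => rows_ok_183
  | 184, _ => rows_ok_184
  | 185, _ => rows_ok_185
  | 186, _ => rows_ok_186
  | 187, _ => rows_ok_187
  | 188, _ => rows_ok_188
  | 189, _ => rows_ok_189
  | 190, _ => rows_ok_190
  | 191, _ => rows_ok_191
  | 192, _ => rows_ok_192
  | 193, _ => rows_ok_193
  | 194, _ => rows_ok_194
  | 195, _ => rows_ok_195
  | 196, _ => rows_ok_196
  | 197, _ => rows_ok_197
  | 198, _ => rows_ok_198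
  | 199, _ => rows_ok_199
  | 200, _ => rows_ok_200
  | 201, _ => rows_ok_201
  | 202, _ => rows_ok_202
  | 203, _ => rows_ok_203
  | 204, _ => rows_ok_204
  | 205, _ => rows_ok_205
  | 206, _ => rows_ok_206
  | 207, _ => rows_ok_207
  | 208, _ => rows_ok_208
  | 209, _ => rows_ok_209
  | 210, _ => rows_ok_210
  | 211, _ => rows_ok_211
  | 212, _ => rows_ok_212
  | 213, _ => rows_ok_213
  | 214, _ => rows_ok_214
  | 215, _ => rows_ok_215
  | 216, _ => rows_ok_216
  | 217, _ => rows_ok_217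
  | 218, _ => rows_ok_218
  | 219, _ => rows_ok_219
  | 220, _ => rows_ok_220
  | 221, _ => rows_ok_221
  | 222, _ => rows_ok_222
  | 223, _ => rows_ok_223
  | 224, _ => rows_ok_224
  | 225, _ => rows_ok_225
  | 226, _ => rows_ok_226
  | 227, _ => rows_ok_227
  | 228, _ => rows_ok_228
  | 229, _ => rows_ok_229
  | 230, _ => rows_ok_230
  | 231, _ => rows_ok_231
  | 232, _ => rows_ok_232
  | 233, _ => rows_ok_233
  | 234, _ => rows_ok_234
  | 235, _ => rows_ok_235
  | 236, _ => rows_ok_236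
  | 237, _ => rows_ok_237
  | 238, _ => rows_ok_238
  | 239, _ => rows_ok_239
  | 240, _ => rows_ok_240
  | 241, _ => rows_ok_241
  | 242, _ => rows_ok_242
  | 243, _ => rows_ok_243
  | 244, _ => rows_ok_244
  | 245, _ => rows_ok_245
  | 246, _ => rows_ok_246
  | 247, _ => rows_ok_247
  | 248, _ => rows_ok_248
  | 249, _ => rows_ok_249
  | 250, _ => rows_ok_250
  | 251, _ => rows_ok_251
  | 252, _ => rows_ok_252
  | 253, _ => rows_ok_253
  | 254, _ => rows_ok_254
  | 255, _ => rows_ok_255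
  | 256, _ => rows_ok_256
  | 257, _ => rows_ok_257
  | 258, _ => rows_ok_258
  | 259, _ => rows_ok_259
  | 260, _ => rows_ok_260
  | 261, _ => rows_ok_261
  | 262, _ => rows_ok_262
  | 263, _ => rows_ok_263
  | 264, _ => rows_ok_264
  | 265, _ => rows_ok_265
  | 266, _ => rows_ok_266
  | 267, _ => rows_ok_267
  | 268, _ => rows_ok_268
  | 269, _ => rows_ok_269
  | 270, _ => rows_ok_270
  | 271, _ => rows_ok_271
  | 272, _ => rows_ok_272
  | 273, _ => rows_ok_273
  | 274, _ => rows_ok_274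
  | 275, _ => rows_ok_275
  | 276, _ => rows_ok_276
  | 277, _ => rows_ok_277
  | 278, _ => rows_ok_278
  | 279, _ => rows_ok_279
  | 280, _ => rows_ok_280
  | 281, _ => rows_ok_281
  | 282, _ => rows_ok_282
  | 283, _ => rows_ok_283
  | 284, _ => rows_ok_284
  | 285, _ => rows_ok_285
  | 286, _ => rows_ok_286
  | 287, _ => rows_ok_287
  | 288, _ => rows_ok_288
  | 289, _ => rows_ok_289
  | 290, _ => rows_ok_290
  | 291, _ => rows_ok_291
  | 292, _ => rows_ok_292
  | 293, _ => rows_ok_293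
  | 294, _ => rows_ok_294
  | 295, _ => rows_ok_295
  | 296, _ => rows_ok_296
  | 297, _ => rows_ok_297
  | 298, _ => rows_ok_298
  | 299, _ => rows_ok_299
  | 300, _ => rows_ok_300
  | 301, _ => rows_ok_301
  | 302, _ => rows_ok_302
  | 303, _ => rows_ok_303
  | 304, _ => rows_ok_304
  | 305, _ => rows_ok_305
  | 306, _ => rows_ok_306
  | 307, _ => rows_ok_307
  | 308, _ => rows_ok_308
  | 309, _ => rows_ok_309
  | 310, _ => rows_ok_310
  | 311, _ => rows_ok_311
  | 312, _ => rows_ok_312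
  | 313, _ => rows_ok_313
  | 314, _ => rows_ok_314
  | 315, _ => rows_ok_315
  | 316, _ => rows_ok_316
  | 317, _ => rows_ok_317
  | 318, _ => rows_ok_318
  | 319, _ => rows_ok_319
  | 320, _ => rows_ok_320
  | 321, _ => rows_ok_321
  | 322, _ => rows_ok_322
  | 323, _ => rows_ok_323
  | 324, _ => rows_ok_324
  | 325, _ => rows_ok_325
  | 326, _ => rows_ok_326
  | 327, _ => rows_ok_327
  | 328, _ => rows_ok_328
  | 329, _ => rows_ok_329
  | 330, _ => rows_ok_330
  | 331, _ => rows_ok_331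
  | 332, _ => rows_ok_332
  | 333, _ => rows_ok_333
  | 334, _ => rows_ok_334
  | 335, _ => rows_ok_335
  | 336, _ => rows_ok_336
  | 337, _ => rows_ok_337
  | 338, _ => rows_ok_338
  | 339, _ => rows_ok_339
  | 340, _ => rows_ok_340
  | 341, _ => rows_ok_341
  | 342, _ => rows_ok_342
  | 343, _ => rows_ok_343
  | 344, _ => rows_ok_344
  | 345, _ => rows_ok_345
  | 346, _ => rows_ok_346
  | 347, _ => rows_ok_347
  | 348, _ => rows_ok_348
  | 349, _ => rows_ok_349
  | 350, _ => rows_ok_350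
  | 351, _ => rows_ok_351
  | 352, _ => rows_ok_352
  | 353, _ => rows_ok_353
  | 354, _ => rows_ok_354
  | 355, _ => rows_ok_355
  | 356, _ => rows_ok_356
  | 357, _ => rows_ok_357
  | 358, _ => rows_ok_358
  | 359, _ => rows_ok_359
  | 360, _ => rows_ok_360
  | 361, _ => rows_ok_361
  | 362, _ => rows_ok_362
  | 363, _ => rows_ok_363
  | 364, _ => rows_ok_364
  | 365, _ => rows_ok_365
  | 366, _ => rows_ok_366
  | 367, _ => rows_ok_367
  | 368, _ => rows_ok_368
  | 369, _ => rows_ok_369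
  | 370, _ => rows_ok_370
  | 371, _ => rows_ok_371
  | 372, _ => rows_ok_372
  | 373, _ => rows_ok_373
  | 374, _ => rows_ok_374
  | 375, _ => rows_ok_375
  | 376, _ => rows_ok_376
  | 377, _ => rows_ok_377
  | 378, _ => rows_ok_378
  | 379, _ => rows_ok_379
  | 380, _ => rows_ok_380
  | 381, _ => rows_ok_381
  | 382, _ => rows_ok_382
  | 383, _ => rows_ok_383
  | 384, _ => rows_ok_384
  | 385, _ => rows_ok_385
  | 386, _ => rows_ok_386
  | 387, _ => rows_ok_387
  | 388, _ => rows_ok_388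
  | 389, _ => rows_ok_389
  | 390, _ => rows_ok_390
  | 391, _ => rows_ok_391
  | 392, _ => rows_ok_392
  | 393, _ => rows_ok_393
  | 394, _ => rows_ok_394
  | 395, _ => rows_ok_395
  | 396, _ => rows_ok_396
  | 397, _ => rows_ok_397
  | 398, _ => rows_ok_398
  | 399, _ => rows_ok_399
  | 400, _ => rows_ok_400
  | 401, _ => rows_ok_401
  | 402, _ => rows_ok_402
  | 403, _ => rows_ok_403
  | 404, _ => rows_ok_404
  | 405, _ => rows_ok_405
  | 406, _ => rows_ok_406
  | 407, _ => rows_ok_407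
  | 408, _ => rows_ok_408
  | 409, _ => rows_ok_409
  | 410, _ => rows_ok_410
  | 411, _ => rows_ok_411
  | 412, _ => rows_ok_412
  | 413, _ => rows_ok_413
  | 414, _ => rows_ok_414
  | 415, _ => rows_ok_415
  | 416, _ => rows_ok_416
  | 417, _ => rows_ok_417
  | 418, _ => rows_ok_418
  | 419, _ => rows_ok_419
  | 420, _ => rows_ok_420
  | 421, _ => rows_ok_421
  | 422, _ => rows_ok_422
  | 423, _ => rows_ok_423
  | 424, _ => rows_ok_424
  | 425, _ => rows_ok_425
  | 426, _ => rows_ok_426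
  | 427, _ => rows_ok_427
  | 428, _ => rows_ok_428
  | 429, _ => rows_ok_429
  | 430, _ => rows_ok_430
  | 431, _ => rows_ok_431
  | 432, _ => rows_ok_432
  | 433, _ => rows_ok_433
  | 434, _ => rows_ok_434
  | 435, _ => rows_ok_435
  | 436, _ => rows_ok_436
  | 437, _ => rows_ok_437
  | 438, _ => rows_ok_438
  | 439, _ => rows_ok_439
  | 440, _ => rows_ok_440
  | 441, _ => rows_ok_441
  | 442, _ => rows_ok_442
  | 443, _ => rows_ok_443
  | 444, _ => rows_ok_444
  | 445, _ => rows_ok_445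
  | 446, _ => rows_ok_446
  | 447, _ => rows_ok_447
  | 448, _ => rows_ok_448
  | 449, _ => rows_ok_449
  | 450, _ => rows_ok_450
  | 451, _ => rows_ok_451
  | 452, _ => rows_ok_452
  | 453, _ => rows_ok_453
  | 454, _ => rows_ok_454
  | 455, _ => rows_ok_455
  | 456, _ => rows_ok_456
  | 457, _ => rows_ok_457
  | 458, _ => rows_ok_458
  | 459, _ => rows_ok_459
  | 460, _ => rows_ok_460
  | 461, _ => rows_ok_461
  | 462, _ => rows_ok_462
  | 463, _ => rows_ok_463
  | 464, _ => rows_ok_464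
  | 465, _ => rows_ok_465
  | 466, _ => rows_ok_466
  | 467, _ => rows_ok_467
  | 468, _ => rows_ok_468
  | 469, _ => rows_ok_469
  | 470, _ => rows_ok_470
  | 471, _ => rows_ok_471
  | 472, _ => rows_ok_472
  | 473, _ => rows_ok_473
  | 474, _ => rows_ok_474
  | 475, _ => rows_ok_475
  | 476, _ => rows_ok_476
  | 477, _ => rows_ok_477
  | 478, _ => rows_ok_478
  | 479, _ => rows_ok_479
  | 480, _ => rows_ok_480
  | 481, _ => rows_ok_481
  | 482, _ => rows_ok_482
  | 483, _ => rows_ok_483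
  | 484, _ => rows_ok_484
  | 485, _ => rows_ok_485
  | 486, _ => rows_ok_486
  | 487, _ => rows_ok_487
  | 488, _ => rows_ok_488
  | 489, _ => rows_ok_489
  | 490, _ => rows_ok_490
  | 491, _ => rows_ok_491
  | 492, _ => rows_ok_492
  | 493, _ => rows_ok_493
  | 494, _ => rows_ok_494
  | 495, _ => rows_ok_495
  | 496, _ => rows_ok_496
  | 497, _ => rows_ok_497
  | 498, _ => rows_ok_498
  | 499, _ => rows_ok_499
  | 500, _ => rows_ok_500
  | 501, _ => rows_ok_501
  | 502, _ => rows_ok_502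
  | 503, _ => rows_ok_503
  | 504, _ => rows_ok_504
  | 505, _ => rows_ok_505
  | 506, _ => rows_ok_506
  | 507, _ => rows_ok_507
  | 508, _ => rows_ok_508
  | 509, _ => rows_ok_509
  | 510, _ => rows_ok_510
  | 511, _ => rows_ok_511
  | 512, _ => rows_ok_512
  | 513, _ => rows_ok_513
  | 514, _ => rows_ok_514
  | 515, _ => rows_ok_515
  | 516, _ => rows_ok_516
  | 517, _ => rows_ok_517
  | 518, _ => rows_ok_518
  | 519, _ => rows_ok_519
  | 520, _ => rows_ok_520
  | 521, _ => rows_ok_521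
  | 522, _ => rows_ok_522
  | 523, _ => rows_ok_523
  | 524, _ => rows_ok_524
  | 525, _ => rows_ok_525
  | 526, _ => rows_ok_526
  | 527, _ => rows_ok_527
  | 528, _ => rows_ok_528
  | 529, _ => rows_ok_529
  | 530, _ => rows_ok_530
  | 531, _ => rows_ok_531
  | 532, _ => rows_ok_532
  | 533, _ => rows_ok_533
  | 534, _ => rows_ok_534
  | 535, _ => rows_ok_535
  | 536, _ => rows_ok_536
  | 537, _ => rows_ok_537
  | 538, _ => rows_ok_538
  | 539, _ => rows_ok_539
  | 540, _ => rows_ok_540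
  | 541, _ => rows_ok_541
  | 542, _ => rows_ok_542
  | 543, _ => rows_ok_543
  | 544, _ => rows_ok_544
  | 545, _ => rows_ok_545
  | 546, _ => rows_ok_546
  | 547, _ => rows_ok_547
  | 548, _ => rows_ok_548
  | 549, _ => rows_ok_549
  | 550, _ => rows_ok_550
  | 551, _ => rows_ok_551
  | 552, _ => rows_ok_552
  | 553, _ => rows_ok_553
  | 554, _ => rows_ok_554
  | 555, _ => rows_ok_555
  | 556, _ => rows_ok_556
  | 557, _ => rows_ok_557
  | 558, _ => rows_ok_558
  | 559, _ => rows_ok_559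
  | 560, _ => rows_ok_560
  | 561, _ => rows_ok_561
  | 562, _ => rows_ok_562
  | 563, _ => rows_ok_563
  | 564, _ => rows_ok_564
  | 565, _ => rows_ok_565
  | 566, _ => rows_ok_566
  | 567, _ => rows_ok_567
  | 568, _ => rows_ok_568
  | 569, _ => rows_ok_569
  | 570, _ => rows_ok_570
  | 571, _ => rows_ok_571
  | 572, _ => rows_ok_572
  | 573, _ => rows_ok_573
  | 574, _ => rows_ok_574
  | 575, _ => rows_ok_575
  | 576, _ => rows_ok_576
  | 577, _ => rows_ok_577
  | 578, _ => rows_ok_578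
  | 579, _ => rows_ok_579
  | 580, _ => rows_ok_580
  | 581, _ => rows_ok_581
  | 582, _ => rows_ok_582
  | 583, _ => rows_ok_583
  | 584, _ => rows_ok_584
  | 585, _ => rows_ok_585
  | 586, _ => rows_ok_586
  | 587, _ => rows_ok_587
  | 588, _ => rows_ok_588
  | 589, _ => rows_ok_589
  | 590, _ => rows_ok_590
  | 591, _ => rows_ok_591
  | 592, _ => rows_ok_592
  | 593, _ => rows_ok_593
  | 594, _ => rows_ok_594
  | 595, _ => rows_ok_595
  | 596, _ => rows_ok_596
  | 597, _ => rows_ok_597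
  | 598, _ => rows_ok_598
  | 599, _ => rows_ok_599
  | 600, _ => rows_ok_600
  | 601, _ => rows_ok_601
  | 602, _ => rows_ok_602
  | 603, _ => rows_ok_603
  | 604, _ => rows_ok_604
  | 605, _ => rows_ok_605
  | 606, _ => rows_ok_606
  | 607, _ => rows_ok_607
  | 608, _ => rows_ok_608
  | 609, _ => rows_ok_609
  | 610, _ => rows_ok_610
  | 611, _ => rows_ok_611
  | 612, _ => rows_ok_612
  | 613, _ => rows_ok_613
  | 614, _ => rows_ok_614
  | 615, _ => rows_ok_615
  | 616, _ => rows_ok_616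
  | 617, _ => rows_ok_617
  | 618, _ => rows_ok_618
  | 619, _ => rows_ok_619
  | 620, _ => rows_ok_620
  | 621, _ => rows_ok_621
  | 622, _ => rows_ok_622
  | 623, _ => rows_ok_623
  | 624, _ => rows_ok_624
  | 625, _ => rows_ok_625
  | 626, _ => rows_ok_626
  | 627, _ => rows_ok_627
  | 628, _ => rows_ok_628
  | 629, _ => rows_ok_629
  | 630, _ => rows_ok_630
  | 631, _ => rows_ok_631
  | 632, _ => rows_ok_632
  | 633, _ => rows_ok_633
  | 634, _ => rows_ok_634
  | 635, _ => rows_ok_635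
  | 636, _ => rows_ok_636
  | 637, _ => rows_ok_637
  | 638, _ => rows_ok_638
  | 639, _ => rows_ok_639
  | k + 640, h => absurd h (by omega)

/-- **every entry of the table is justified** -/
theorem cert_all : ∀ a, a < cert.n → ∀ x, x < cert.g → cert.slotOK a x = true := by
  intro a ha x hx
  have ha' : a < 207360 := ha
  have hx' : x < 4 := hx
  have h1 := rows_ok_all (a / 324) (by omega)
  rw [rowsOK, allN_iff] at h1
  have h2 := h1 (a % 324) (Nat.mod_lt _ (by norm_num))
  rw [allN_iff] at h2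
  have h3 := h2 x hx'
  have e : Nat.add (324 * (a / 324)) (a % 324) = a := Nat.div_add_mod a 324
  rw [e] at h3
  exact h3

theorem words_ok : wordsOK = true := by decide +kernel

/-- **every word of the certificate is justified** -/
theorem cert_wall : ∀ i, i < cert.nW → cert.wordOK i = true := by
  intro i hi
  have h := words_ok
  rw [wordsOK, allN_iff] at h
  exact h i hi

theorem close_0 : cert.scan 4095 (cert.W 8) 149213 0 = some (149213, 44130762423657567814483803954513945) := by decide +kernel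

theorem close_1 : cert.scan 4095 (cert.W 4) 66864 0 = some (66864, 93461432595066131636898243606028156) := by decide +kernel

theorem close_2 : cert.scan 4095 (cert.W 28) 123796 0 = some (123796, 59715273772665168449348457889576976) := by decide +kernel

theorem close_3 : cert.scan 4095 (cert.W 41) 99513 0 = some (99513, 62308889383868120478790757191303090) := by decide +kernel

theorem close_4 : cert.scan 4095 (cert.W 13) 24604 0 = some (24604, 46730716292697364269343724951080960) := by decide +kernel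

theorem close_5 : cert.scan 4095 (cert.W 31) 7431 0 = some (7431, 59708935517246175663138104306350075) := by decide +kernel

theorem close_6 : cert.scan 4095 (cert.W 38) 199827 0 = some (199827, 62306354069369480004181762868559974) := by decide +kernel

theorem close_7 : cert.scan 4095 (cert.W 14) 154967 0 = some (154967, 51917947573131724963603670584303095) := by decide +kernel

end Cfsg.Agent.Lib.Helper7.Sp6Mul
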