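/-! # The multiplier of the symplectic group of degree six over the field of two elements: the letters on 240 points (generated) -/

set_option autoImplicit false

namespace Cfsg.Agent.Lib.Helper7.Sp6Mul

/-- the packed images of the 240 points under the letter 0 -/
noncomputable def t4_0 : Nat := 0xedeceeefcbc9c5c3bbb9d8dab2b0b3acaab1aba9d4e5d5e4c6c7dbd99b99989697959492eabeebc0d7d6e8a6e9a49fcaa5c8938fe68ae78482898381dee2e1e3ad7daedfdce0dd7573c2c1c472707b7abf716d74d276d3d0ced1cfccbccd6563bd6462605fb6ba5d5b7859b7b4b8b57e8053af51a0a15c857c9ca79aa8a29da346449e4543684269773b908d918e668b8c7987568857865a2c5e2a377f55674a264b614e244f4749206e6b6f6c6a3c3d524019224d3417352838153913102f310f540e582d3f0c2e29500a4c251b0848211c1e0641053e1a3a03361632011233300d2b0b270923071f1d041802140011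

/-- the packed images of the 240 points under the letter 1 -/
noncomputable def t4_1 : Nat := 0xecedefeec9cbc3c5b9bbdad8b0b2b1aaacb3a9abd5e4d4e5c7c6d9db999b969895979294ebc0eabed6d7e9a4e8a6a5c89fca8f93e789e682848a8183e1e3dee27dadafe0dddfdc7375c4bfc270727a7bc16d7176d374d2d1cfd0cecdbdcc6365bc62645f60bab65b5d5978b8b5b7b47f5380ae77a1a05e86679aa89ca7a39ea244469d434542686a5161918e908d4d8c8b5688798758852c5a5c522e7e3f7c264a4c3b244e504820496f6c6e6b691b3e2a194041661734365415383a1013300f31282b570d5527370b4f234b093c1f47071d061e22183d0439143502331100322f2d0e290c250a21081c1a0516031201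

/-- the packed images of the 240 points under the letter 2 -/
noncomputable def t4_2 : Nat := 0xe4e5e0dfedecd6d7e9e8b8b7efeeabdcdda9d8daeba3eaa29e9d9b99d4d5d2d3b6bacac8959197908e8de68ce78be388e287b0b2ae83afbec081e1dea07fa17ecfce80b575b473d0d1a5719fdbd96f6e6dc4c2a76ca86bcc6acd69c764c6cbc962938fc5c37a7bc1bfbdbcbb58b95754b3b15361504f524cadac48aa47a645a48685439c9a98963c3b4e943a9239344d668a30892f784b84822a7c2928277d353625247956773e7674721d701c1b32556768421817656316155d5b14605f2b5e5c385a59370c230b2d511f094a33493d4121464405403f1e0311021a3112100f0e2e2c0d0a2608222007061904011300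

/-- the packed images of the 240 points under the letter 3 -/
noncomputable def t4_3 : Nat := 0xe3e2ebeadbd9e7e6c3c5eeefc1bfb5edecb4dfe0a3dca2dde8e9d2d3d0d1a7a8afae969891cd90cc94928c9e8b9d88b787b8868584ce82e5e4cfacaa7fbc7ebdb9bb7776e174de9a9c72a670dad8b1b3a4d7d66cd56bd46ac969cb658e63cac88dc7c6c4c25e5cc0be6f6e58ba57b6adb2b05155898a4c5a4a48ab47a946a544a1a09f9b9997953e3f5f3a93398f7c333230362f352d2c83814b40807d79267b7a66607859232175731d711c6d3d1f1a194920686764622e2b4f50612241135d5b0e270d31565453520a4e4d29081e07251845434214043c3b38373401121611100f0c2a280b240906051b0317150200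

/-- the packed images of the 240 points under the central element -/
noncomputable def t4_z : Nat := 0xeeefecedeaebe8e9e6e7e4e5e2e3dedfe0e1dcddd9d8dbdad6d7d4d5d2d3d0d1cecfcccdc9c8cbcac6c7c3c2c5c4bfbec1c0bcbdb9b6bbb7b8bab4b5b1b0b3b2aeaf7daaa9acaba7a8a49fa6a2a3a0a1a59d9e9a999c9b96959897928f949091938d8e8b8c898a8788858682818483537e7fad677a7b56595174737675706d726e6f716b6c696a427c4d636265643b5f605c5b5e5d2c785758793f28802a774f5024664b4c2620474844434645682219553d3e1b61393a152e35361732330f2f30370d5a0e520b540c4a094e0a41074908061c1d3c0440053402380310000113312b2d272923251f211e181a14161112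

end Cfsg.Agent.Lib.Helper7.Sp6Mul
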