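import Cfsg.Agent.Lib.Helper7.Sp6MulE
import Cfsg.Agent.Lib.Helper6.SpTransport
import Cfsg.Agent.S0246
import Cfsg.Prelude.Def_KGroupFacts

/-!
# The multiplier of the symplectic group of degree six over the field of two elements is cyclic of order two

The group generated by the pairs is a stem extension of the symplectic group with kernel of order two; together with
the bound for the kernels of all stem extensions, this gives the multiplier.  The statement is carried over to the
projective symplectic group over any field of two elements.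
-/

set_option autoImplicit false
set_option maxRecDepth 100000

namespace Cfsg.Agent.Lib.Helper7.Sp6Mul

open Cfsg Cfsg.Agent.Lib.Helper7.MG Cfsg.Agent.Lib.Helper7.HSMult Cfsg.Agent.Lib.Helper7.Sp6
open scoped IsMulCommutative

/-! ### the central element -/

/-- the central element of the extension -/
noncomputable def zetaE : ↥GE := VCert.wd gE zW

theorem wd_lK_zW : VCert.wd lK zW = 1 := by
  rw [← zW_eq]
  exact wd_lK_W (by norm_num)

theorem wd_lK_wpow_zW (m : ℕ) : VCert.wd lK (wpow m zW) = 1 := by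
  rw [wd_wpow, wd_lK_zW, one_pow]

theorem zetaE_comm (x : ℕ) (hx : x < 4) : gE x * zetaE = zetaE * gE x := by
  have h := wd_gE_eq (w := x :: zW) (w' := zW ++ [x]) (fun p hp => cen4 hx hp) (by
      rw [VCert.wd_cons, VCert.wd_append, wd_lK_zW, mul_one, one_mul, VCert.wd_cons, VCert.wd_nil, mul_one])
  rw [VCert.wd_cons, VCert.wd_append, VCert.wd_cons, VCert.wd_nil, mul_one] at h
  exact h

theorem zetaE_mem_center : zetaE ∈ Subgroup.center ↥GE := by
  apply central_of_comm_gens (gE '' Set.Iio 4) closure_gE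
  rintro _ ⟨x, hx, rfl⟩
  exact zetaE_comm x hx

/-- the central element of the extension, in the centre -/
noncomputable def zetaC : Subgroup.center ↥GE := ⟨zetaE, zetaE_mem_center⟩

/-- the central elements of the table -/
noncomputable def zE (j : ℕ) : Subgroup.center ↥GE := zetaC ^ mE j

theorem sigE_zetaE : sigE zetaE = 1 := by
  rw [zetaE, sigE_wd, wd_lK_zW]

theorem zetaE_pow_two : zetaE ^ 2 = 1 := by
  have h := wd_gE_eq (w := wpow 2 zW) (w' := []) (fun p hp => ord4 hp) (wd_lK_wpow_zW 2)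
  rw [wd_wpow] at h
  exact h

theorem zetaE_ne_one : zetaE ≠ 1 := by
  intro h
  have h0 : VCert.wd gE (wpow 1 zW) = 1 := by
    rw [wd_wpow, pow_one]
    exact h
  have h1 : (VCert.wd gE (wpow 1 zW) : ↥GE).1 = 1 := congrArg Subtype.val h0
  rw [wd_gE_val, wd_gX] at h1
  have h2 : VCert.wd pm4 (wpow 1 zW) = 1 := congrArg Prod.fst h1
  have h3 := wd_pm4_val (wpow 1 zW) ⟨0, by norm_num⟩
  rw [h2] at h3
  exact ne4 h3.symm

theorem orderOf_zetaE : orderOf zetaE = 2 :=
  have : Fact (Nat.Prime 2) := ⟨Nat.prime_two⟩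
  orderOf_eq_prime zetaE_pow_two zetaE_ne_one

/-! ### the hypotheses of the table -/

theorem gE_two_pow : gE 2 ^ 7 = 1 := by
  have h4 := chk_ex4
  rw [allN_iff] at h4
  have h := wd_gE_eq (w := wpow 7 [2]) (w' := [])
    (fun p hp => Nat.eq_of_beq_eq_true (Bool.and_eq_true _ _ ▸ h4 p hp).1) (by
      rw [← chk_W2]; exact wd_lK_W (by norm_num))
  rw [wd_wpow, VCert.wd_cons, VCert.wd_nil, mul_one] at h
  exact h

theorem gE_y_wd : VCert.wd gE (wpow 5 yW) = 1 := by
  have h4 := chk_ex4
  rw [allN_iff] at h4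
  exact wd_gE_eq (w := wpow 5 yW) (w' := [])
    (fun p hp => Nat.eq_of_beq_eq_true (Bool.and_eq_true _ _ ▸ h4 p hp).2) (by
      rw [← chk_W3]; exact wd_lK_W (by norm_num))

theorem gE_iv (x : ℕ) (hx : x < 4) : gE (Nat.xor x 1) = (gE x)⁻¹ := by
  rw [← ivx_eq x hx]
  exact gE_ivx x hx

theorem wd_gE_mem_ker {i : ℕ} (hi : i < 44) : VCert.wd gE (cert.W i) ∈ sigE.ker := by
  rw [MonoidHom.mem_ker, sigE_wd, wd_lK_W hi]

theorem zE_mem_ker (j : ℕ) : ((zE j : Subgroup.center ↥GE) : ↥GE) ∈ sigE.ker := by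
  rw [MonoidHom.mem_ker, zE, Subgroup.coe_pow, map_pow]
  show sigE zetaE ^ mE j = 1
  rw [sigE_zetaE, one_pow]

/-- the given words of the table are the powers of the central element -/
theorem wd_gE_ax {j : ℕ} (hj : j < 6) : VCert.wd gE (cert.W (axI j)) = zetaE ^ mE j := by
  have h := wd_gE_eq (w := cert.W (axI j)) (w' := wpow (mE j) zW) (fun p hp => ax4 hj hp) (by
      rw [wd_lK_W (axI_lt j), wd_lK_wpow_zW])
  rw [h, wd_wpow]
  rfl

theorem hW0_E : ∀ i, i < cert.nW → cert.wT i = 0 →
    VCert.wd gE (cert.W i) = ((cert.ek zE i : Subgroup.center ↥GE) : ↥GE) := by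
  intro i hi hT
  rcases chk_wT i hi hT with rfl | rfl | ⟨j, hj, rfl⟩
  · rw [VCert.ek, cert.kap_one _ fun l hl => (chk_ex l hl).1, chk_W2, wd_wpow, VCert.wd_cons, VCert.wd_nil, mul_one]
    exact gE_two_pow
  · rw [VCert.ek, cert.kap_one _ fun l hl => (chk_ex l hl).2, chk_W3]
    exact gE_y_wd
  · rw [VCert.ek, cert.kap_unit _ hj (chk_ax j hj), wd_gE_ax hj]
    rfl

theorem hgen_E : ∀ y : ↥GE, ∃ u : List ℕ, (∀ x ∈ u, x < cert.g) ∧ y = (u.map gE).prod := by
  apply exists_word_of_closure gE 4 (fun x => Nat.xor x 1) _ closure_gE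
  intro x hx
  refine ⟨?_, gE_iv x hx⟩
  have : x = 0 ∨ x = 1 ∨ x = 2 ∨ x = 3 := by omega
  rcases this with rfl | rfl | rfl | rfl <;> decide

instance instFiniteGE : Finite ↥GE := inferInstance

/-- **the kernel of the projection is generated by the powers of the central element that belong to the table** -/
theorem ker_sigE : sigE.ker = Zc zE 6 := by
  refine ker_eq_Zc sigE cert gE zE 2 7 sigE_surj (by rw [G_card]; rfl) (by decide) (by norm_num)
    ?_ gE_two_pow ?_ (fun j _ => zE_mem_ker j) hgen_E (by decide) (by decide) gE_iv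
    (fun i hi => wd_gE_mem_ker hi) hW0_E cert_all cert_wall
  · intro i hi
    rw [sigE_gE] at hi
    exact dvd_of_lK_two_pow hi
  · intro x hx
    rcases eq_two_or_three hx with rfl | rfl
    · exact Subgroup.mem_zpowers _
    · have : gE 3 = (gE 2)⁻¹ := gE_iv 2 (by norm_num)
      rw [this]
      exact Subgroup.inv_mem _ (Subgroup.mem_zpowers _)

theorem ker_sigE_le : sigE.ker ≤ Subgroup.zpowers zetaE := by
  rw [ker_sigE]
  exact Zc_le_zpowers zE 6 zetaC (fun j => (mE j : ℤ)) (fun j _ => by rw [zE, zpow_natCast])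

theorem zetaE_mem_ker : zetaE ∈ sigE.ker := MonoidHom.mem_ker.2 sigE_zetaE

/-! ### the extension is perfect -/

theorem chk_W9 : cert.W (axI 3) = wpow 9 [0, 2] := by decide +kernel

theorem chk_mE3 : mE 3 = 1 := rfl

theorem gE_zero_sq : gE 0 ^ 2 = zetaE := by
  rw [zetaE, zW, VCert.wd_cons, VCert.wd_cons, VCert.wd_nil, mul_one, pow_two]

theorem closure_pairE : Subgroup.closure {gE 0, gE 2} = (⊤ : Subgroup ↥GE) := by
  rw [eq_top_iff, ← closure_gE, Subgroup.closure_le]
  rintro _ ⟨x, hx, rfl⟩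
  have hx' : x < 4 := hx
  have : x = 0 ∨ x = 1 ∨ x = 2 ∨ x = 3 := by omega
  rcases this with rfl | rfl | rfl | rfl
  · exact Subgroup.subset_closure (by simp)
  · have : gE 1 = (gE 0)⁻¹ := gE_iv 0 (by norm_num)
    rw [SetLike.mem_coe, this]
    exact inv_mem (Subgroup.subset_closure (by simp))
  · exact Subgroup.subset_closure (by simp)
  · have : gE 3 = (gE 2)⁻¹ := gE_iv 2 (by norm_num)
    rw [SetLike.mem_coe, this]
    exact inv_mem (Subgroup.subset_closure (by simp))

theorem commutator_GE : commutator ↥GE = ⊤ := by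
  have h4 : gE 0 ^ 4 = 1 := by
    rw [show 4 = 2 * 2 from rfl, pow_mul, gE_zero_sq, zetaE_pow_two]
  have h9 : (gE 0 * gE 2) ^ 9 = gE 0 ^ 2 := by
    have h := wd_gE_ax (j := 3) (by norm_num)
    rw [chk_W9, wd_wpow, VCert.wd_cons, VCert.wd_cons, VCert.wd_nil, mul_one, chk_mE3, pow_one] at h
    rw [h, gE_zero_sq]
  exact perfect_of_relation closure_pairE h4 gE_two_pow h9 (by norm_num) (by norm_num) (by norm_num)

/-- **a stem extension of the symplectic group with kernel of order two** -/
theorem stem_GE : IsStemExtension sigE ∧ Nonempty (↥sigE.ker ≃* Multiplicative (ZMod 2)) := by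
  refine ⟨⟨sigE_surj, ?_, ?_⟩, ?_⟩
  · rw [ker_sigE]
    exact Zc_le_center zE 6
  · rw [commutator_GE]
    exact le_top
  · exact nonempty_equiv_zmod sigE.ker zetaE zetaE_mem_ker ker_sigE_le 2 orderOf_zetaE

/-! ### the projective symplectic group over any field of two elements -/

/-- a stem extension composed with isomorphisms on both sides -/
theorem stem_of_equiv {Γ : Type*} {Γ' : Type*} {G : Type*} {G' : Type*} [Group Γ] [Group Γ'] [Group G] [Group G']
    (ε : Γ' ≃* Γ) (e : G ≃* G') (σ : Γ →* G) (h : IsStemExtension σ) :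
    IsStemExtension ((e.toMonoidHom.comp σ).comp ε.toMonoidHom) ∧
      Nonempty (↥((e.toMonoidHom.comp σ).comp ε.toMonoidHom).ker ≃* ↥σ.ker) := by
  obtain ⟨hs, hc, hd⟩ := h
  have hker : ∀ x : Γ', x ∈ ((e.toMonoidHom.comp σ).comp ε.toMonoidHom).ker ↔ ε x ∈ σ.ker := by
    intro x
    rw [MonoidHom.mem_ker, MonoidHom.mem_ker]
    show e (σ (ε x)) = 1 ↔ σ (ε x) = 1
    rw [MulEquiv.map_eq_one_iff]
  refine ⟨⟨?_, ?_, ?_⟩, ⟨?_⟩⟩
  · exact (e.surjective.comp hs).comp ε.surjective
  · intro x hx
    have h1 := hc ((hker x).1 hx)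
    rw [Subgroup.mem_center_iff] at h1 ⊢
    intro y
    apply ε.injective
    rw [map_mul, map_mul]
    exact h1 (ε y)
  · intro x hx
    have h1 : ε x ∈ commutator Γ := hd ((hker x).1 hx)
    have h2 : Subgroup.map ε.toMonoidHom (commutator Γ') = commutator Γ := by
      rw [commutator_def, commutator_def, Subgroup.map_commutator, ← MonoidHom.range_eq_map,
        MonoidHom.range_eq_top.2 ε.surjective]
    rw [← h2] at h1
    obtain ⟨y, hy, hyx⟩ := h1
    have : y = x := ε.injective hyx
    rw [← this]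
    exact hy
  · exact
      { toFun := fun x => ⟨ε x.1, (hker x.1).1 x.2⟩
        invFun := fun y => ⟨ε.symm y.1, (hker _).2 (by rw [MulEquiv.apply_symm_apply]; exact y.2)⟩
        left_inv := fun x => Subtype.ext (ε.symm_apply_apply x.1)
        right_inv := fun y => Subtype.ext (ε.apply_symm_apply y.1)
        map_mul' := fun x y => Subtype.ext (map_mul ε x.1 y.1) }

/-- the kernel is not changed by an isomorphism of the target -/
theorem ker_comp_equiv6 {Γ A B : Type*} [Group Γ] [Group A] [Group B] (e : A ≃* B) (σ : Γ →* A) :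
    (e.toMonoidHom.comp σ).ker = σ.ker := by
  ext x
  simp only [MonoidHom.mem_ker, MonoidHom.coe_comp, Function.comp_apply, MulEquiv.coe_toMonoidHom]
  exact e.map_eq_one_iff

theorem center_G0 : Subgroup.center G0 = ⊥ := by
  apply Subgroup.eq_bot_of_card_eq
  have h := Cfsg.Agent.S0246.result (F := ZMod 2) (q := 2) (ZMod.card 2) 3 (by norm_num)
  rw [h]
  rfl

/-- the projective symplectic group over the integers modulo two is the symplectic group -/
noncomputable def pspEquivG0 : Cfsg.PSp 3 (ZMod 2) ≃* G0 :=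
  (QuotientGroup.quotientMulEquivOfEq center_G0).trans QuotientGroup.quotientBot

/-- **the Schur multiplier of the projective symplectic group of degree six over a field of two elements is cyclic of
order two** -/
theorem multiplier_psp {F : Type*} [Field F] [Fintype F] (hF : Fintype.card F = 2) :
    Cfsg.HasCyclicSchurMultiplier (Cfsg.PSp 3 F) 2 := by
  let e0 : F ≃+* ZMod 2 := FiniteField.ringEquivOfCardEq (by rw [hF, ZMod.card])
  let e : Cfsg.PSp 3 F ≃* G0 := (Cfsg.Agent.Lib.Helper6.SpTransport.pspEquiv e0 3).trans pspEquivG0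
  constructor
  · obtain ⟨hst, ⟨iso⟩⟩ := stem_GE
    obtain ⟨h1, ⟨iso'⟩⟩ := stem_of_equiv (MulEquiv.ulift (α := ↥GE)) e.symm sigE hst
    exact ⟨ULift ↥GE, inferInstance, inferInstance, _, h1, ⟨iso'.trans iso⟩⟩
  · intro Γ _ _ σ hσ
    have hk : (e.toMonoidHom.comp σ).ker = σ.ker := ker_comp_equiv6 e σ
    have h := exists_surj_of_stem (e.toMonoidHom.comp σ) (e.surjective.comp hσ.1)
      (by rw [hk]; exact hσ.2.1) (by rw [hk]; exact hσ.2.2)
    rw [hk] at h
    exact h

end Cfsg.Agent.Lib.Helper7.Sp6Mul
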