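import Cfsg.Agent.Lib.Helper7.Sp6MulGD
import Cfsg.Agent.Lib.Helper7.Sp6MulC
import Cfsg.Agent.Lib.Helper7.Sp6Base
import Cfsg.Agent.Lib.Helper7.MGenE
import Cfsg.Agent.S0245
import Cfsg.Agent.S0765

/-!
# The multiplier of the symplectic group of degree six over the field of two elements: the letters in the symplectic group

A transvection and an element of order seven generate the symplectic group, since all transvections are words in
them, and they satisfy all the words of the certificate.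
-/

set_option autoImplicit false
set_option maxRecDepth 100000

namespace Cfsg.Agent.Lib.Helper7.Sp6Mul

open Matrix Cfsg Cfsg.Agent.Lib.Helper7.MG Cfsg.Agent.Lib.Helper7.HSMult Cfsg.Agent.Lib.Helper7.Sp6

/-- the symplectic group of degree six over the field of two elements -/
abbrev G0 : Type := ↥(symplecticGroup (Fin 3) (ZMod 2))

/-- the rows of the letters -/
def letR : ℕ → List ℕ
  | 0 => rA
  | 1 => rA
  | 2 => rC
  | 3 => rCi
  | _ => rI

theorem letR_ok : ∀ x, actOK (letR x)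
  | 0 => by decide
  | 1 => by decide
  | 2 => by decide
  | 3 => by decide
  | _ + 4 => by
    show actOK rI
    decide

theorem letR_mem : ∀ x, mk6 (letR x) ∈ symplecticGroup (Fin 3) (ZMod 2)
  | 0 => by rw [SymplecticGroup.mem_iff]; decide
  | 1 => by rw [SymplecticGroup.mem_iff]; decide
  | 2 => by rw [SymplecticGroup.mem_iff]; decide
  | 3 => by rw [SymplecticGroup.mem_iff]; decide
  | _ + 4 => by
    show mk6 rI ∈ symplecticGroup (Fin 3) (ZMod 2)
    rw [SymplecticGroup.mem_iff]; decide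

/-- the letters in the symplectic group -/
def lK (x : ℕ) : G0 := ⟨mk6 (letR x), letR_mem x⟩

theorem lK_val (x : ℕ) : (lK x).1 = mk6 (letR x) := rfl

/-- the number of the image of a vector under a word -/
def evK : List ℕ → ℕ → ℕ
  | [], p => p
  | x :: w, p => mvN (letR x) (evK w p)

theorem wd_lK_mulVec : ∀ (w : List ℕ) (p : ℕ), p < 64 →
    (VCert.wd lK w : G0).1 *ᵥ dec p = dec (evK w p) ∧ evK w p < 64
  | [], p, hp => by
    refine ⟨?_, hp⟩
    show (1 : Matrix (Fin 3 ⊕ Fin 3) (Fin 3 ⊕ Fin 3) (ZMod 2)) *ᵥ dec p = dec p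
    rw [Matrix.one_mulVec]
  | x :: w, p, hp => by
    obtain ⟨h1, h2⟩ := wd_lK_mulVec w p hp
    obtain ⟨h3, h4⟩ := letR_ok x (evK w p) h2
    refine ⟨?_, h4⟩
    rw [VCert.wd_cons]
    show ((lK x).1 * (VCert.wd lK w : G0).1) *ᵥ dec p = dec (mvN (letR x) (evK w p))
    rw [← Matrix.mulVec_mulVec, h1, lK_val, h3]

theorem wd_lK_eq {w w' : List ℕ} (h : ∀ k, k < 6 → evK w (2 ^ k) = evK w' (2 ^ k)) :
    VCert.wd lK w = VCert.wd lK w' := by
  apply Subtype.ext
  apply mat_eq_of_basis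
  intro k hk
  have hp : 2 ^ k < 64 := by
    have : 2 ^ k < 2 ^ 6 := Nat.pow_lt_pow_right (by norm_num) hk
    simpa using this
  rw [(wd_lK_mulVec w _ hp).1, (wd_lK_mulVec w' _ hp).1, h k hk]

theorem wd_lK_eq_one {w : List ℕ} (h : ∀ k, k < 6 → evK w (2 ^ k) = 2 ^ k) : VCert.wd lK w = 1 :=
  wd_lK_eq (w' := []) h

/-! ### the checks -/

theorem chk_wordsK : allN 44 (fun i => strictL (cert.W i) fun w => allN 6 fun k => Nat.beq (evK w (2 ^ k)) (2 ^ k)) = true := by
  decide +kernel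

theorem chk_invK : ∀ x < 4, ∀ k < 6, evK [x, Nat.xor x 1] (2 ^ k) = 2 ^ k := by decide +kernel

theorem chk_ordK : (∀ k < 6, evK (wpow 7 [2]) (2 ^ k) = 2 ^ k) ∧ evK [2] 1 ≠ 1 := by decide +kernel

theorem chk_tri : (∀ k < 6, evK (wpow 2 [0]) (2 ^ k) = 2 ^ k) ∧ (∀ k < 6, evK (wpow 9 [0, 2]) (2 ^ k) = 2 ^ k) := by
  decide +kernel

theorem chk_tw : ∀ n, n < 64 → ∀ k, k < 6 → evK (tw n) (2 ^ k) = tvN n (2 ^ k) := by decide +kernel

/-! ### the consequences -/

/-- **all the words of the certificate are trivial in the symplectic group** -/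
theorem wd_lK_W {i : ℕ} (hi : i < 44) : VCert.wd lK (cert.W i) = 1 := by
  have h := chk_wordsK
  rw [allN_iff] at h
  have h1 := h i hi
  rw [strictL_eq, allN_iff] at h1
  exact wd_lK_eq_one fun k hk => Nat.eq_of_beq_eq_true (h1 k hk)

theorem lK_iv {x : ℕ} (hx : x < 4) : lK (Nat.xor x 1) = (lK x)⁻¹ := by
  have h := wd_lK_eq_one (chk_invK x hx)
  rw [VCert.wd_cons, VCert.wd_cons, VCert.wd_nil, mul_one] at h
  exact eq_inv_of_mul_eq_one_right h

theorem lK_of_ge {x : ℕ} (hx : 4 ≤ x) : lK x = 1 := by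
  obtain ⟨y, rfl⟩ : ∃ y, x = y + 4 := ⟨x - 4, by omega⟩
  have h : VCert.wd lK [y + 4] = 1 := wd_lK_eq_one (w := [y + 4]) (by
    show ∀ k, k < 6 → mvN rI (2 ^ k) = 2 ^ k
    decide)
  rw [VCert.wd_cons, VCert.wd_nil, mul_one] at h
  exact h

theorem lK_two_pow : lK 2 ^ 7 = 1 := by
  have h := wd_lK_eq_one chk_ordK.1
  rw [wd_wpow, VCert.wd_cons, VCert.wd_nil, mul_one] at h
  exact h

theorem lK_two_ne : lK 2 ≠ 1 := by
  intro h
  have h1 := (wd_lK_mulVec [2] 1 (by norm_num)).1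
  rw [VCert.wd_cons, VCert.wd_nil, mul_one, h] at h1
  have h2 : dec 1 = dec (evK [2] 1) := by
    rw [← h1]
    show dec 1 = (1 : Matrix (Fin 3 ⊕ Fin 3) (Fin 3 ⊕ Fin 3) (ZMod 2)) *ᵥ dec 1
    rw [Matrix.one_mulVec]
  revert h2
  decide

theorem orderOf_lK_two : orderOf (lK 2) = 7 :=
  have : Fact (Nat.Prime 7) := ⟨by norm_num⟩
  orderOf_eq_prime lK_two_pow lK_two_ne

theorem dvd_of_lK_two_pow {i : ℕ} (h : lK 2 ^ i = 1) : 7 ∣ i := by
  rw [← orderOf_lK_two]
  exact orderOf_dvd_of_pow_eq_one h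

/-! ### the letters generate the group -/

theorem lK_mem (x : ℕ) : lK x ∈ Subgroup.closure (lK '' Set.Iio 4) := by
  rcases Nat.lt_or_ge x 4 with h | h
  · exact Subgroup.subset_closure ⟨x, h, rfl⟩
  · rw [lK_of_ge h]; exact one_mem _

theorem wd_lK_mem : ∀ w : List ℕ, VCert.wd lK w ∈ Subgroup.closure (lK '' Set.Iio 4)
  | [] => one_mem _
  | x :: w => by
    rw [VCert.wd_cons]
    exact mul_mem (lK_mem x) (wd_lK_mem w)

/-- every transvection is a word in the letters -/
theorem transvection_eq (n : ℕ) (hn : n < 64) (A : G0) (hA : A.1 = Cfsg.sympTransvection 3 (dec n) 1) :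
    A = VCert.wd lK (tw n) := by
  apply Subtype.ext
  apply mat_eq_of_basis
  intro k hk
  have hp : 2 ^ k < 64 := by
    have : 2 ^ k < 2 ^ 6 := Nat.pow_lt_pow_right (by norm_num) hk
    simpa using this
  rw [hA, tv_tab n hn k hk, (wd_lK_mulVec (tw n) _ hp).1, chk_tw n hn k hk]

/-- **the letters generate the symplectic group** -/
theorem closure_lK : Subgroup.closure (lK '' Set.Iio 4) = ⊤ := by
  rw [eq_top_iff, ← Cfsg.Agent.S0765.result (F := ZMod 2) 3, Subgroup.closure_le]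
  rintro A ⟨w, c, hA⟩
  obtain ⟨n, hn, rfl⟩ := exists_code w
  have hc : ∀ c : ZMod 2, c = 0 ∨ c = 1 := by decide
  rcases hc c with rfl | rfl
  · have : A = 1 := by
      apply Subtype.ext
      rw [hA, sympTransvection_zero6]
      rfl
    rw [this]
    exact one_mem _
  · rw [transvection_eq n hn A hA]
    exact wd_lK_mem _

theorem G_card : Nat.card G0 = 1451520 := by
  have h := Cfsg.Agent.S0245.result (F := ZMod 2) (q := 2) (ZMod.card 2) 3
  rw [h]
  decide

theorem closure_pair : Subgroup.closure {lK 0, lK 2} = (⊤ : Subgroup G0) := by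
  rw [eq_top_iff, ← closure_lK, Subgroup.closure_le]
  rintro _ ⟨x, hx, rfl⟩
  have hx' : x < 4 := hx
  have : x = 0 ∨ x = 1 ∨ x = 2 ∨ x = 3 := by omega
  rcases this with rfl | rfl | rfl | rfl
  · exact Subgroup.subset_closure (by simp)
  · have : lK 1 = (lK 0)⁻¹ := lK_iv (x := 0) (by norm_num)
    rw [SetLike.mem_coe, this]
    exact inv_mem (Subgroup.subset_closure (by simp))
  · exact Subgroup.subset_closure (by simp)
  · have : lK 3 = (lK 2)⁻¹ := lK_iv (x := 2) (by norm_num)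
    rw [SetLike.mem_coe, this]
    exact inv_mem (Subgroup.subset_closure (by simp))

/-- the symplectic group is perfect -/
theorem G_perfect : commutator G0 = ⊤ := by
  have h2 : lK 0 ^ 2 = 1 := by
    have h := wd_lK_eq_one chk_tri.1
    rw [wd_wpow, VCert.wd_cons, VCert.wd_nil, mul_one] at h
    exact h
  have h9 : (lK 0 * lK 2) ^ 9 = 1 := by
    have h := wd_lK_eq_one chk_tri.2
    rw [wd_wpow, VCert.wd_cons, VCert.wd_cons, VCert.wd_nil, mul_one] at h
    exact h
  exact perfect_of_triangle closure_pair h2 lK_two_pow h9 (by norm_num) (by norm_num)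

end Cfsg.Agent.Lib.Helper7.Sp6Mul
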