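import Mathlib

/-! # The multiplier of the symplectic group of degree six over the field of two elements: the rows of the letters, and words for the transvections (generated) -/

set_option autoImplicit false

namespace Cfsg.Agent.Lib.Helper7.Sp6Mul

/-- the rows of the first generator, a transvection -/
def rA : List ℕ := [1, 2, 36, 8, 16, 32]

/-- the rows of the second generator, of order seven -/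
def rC : List ℕ := [24, 40, 8, 26, 44, 15]

/-- the rows of the inverse of the second generator -/
def rCi : List ℕ := [63, 9, 18, 4, 5, 6]

/-- the rows of the identity -/
def rI : List ℕ := [1, 2, 4, 8, 16, 32]

/-- words for the transvections -/
def tw : ℕ → List ℕ
  | 0 => []
  | 1 => [3, 0, 2, 0, 3, 3, 3, 0, 2, 2, 2, 0, 3, 0, 2]
  | 2 => [2, 2, 2, 0, 2, 0, 3, 0, 3, 3, 3]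
  | 3 => [2, 0, 2, 0, 2, 2, 0, 2, 0, 3, 0, 3, 3, 0, 3, 0, 3]
  | 4 => [0]
  | 5 => [2, 0, 3, 0, 3, 3, 0, 3, 3, 0, 3, 0, 2, 0, 2, 2, 0, 2, 2, 0, 2, 0, 3]
  | 6 => [3, 3, 0, 2, 0, 2, 2, 0, 2, 0, 3, 0, 3, 3, 0, 3, 0, 2, 2]
  | 7 => [3, 0, 3, 3, 3, 0, 2, 2, 2, 0, 2]
  | 8 => [3, 0, 3, 0, 3, 3, 0, 3, 0, 2, 0, 2, 2, 0, 2, 0, 2]
  | 9 => [3, 3, 3, 0, 2, 0, 2, 2, 0, 2, 2, 0, 2, 0, 3, 0, 3, 3, 0, 3, 3, 0, 3, 0, 2, 2, 2]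
  | 10 => [2, 0, 3, 0, 2, 2, 2, 0, 3, 3, 3, 0, 2, 0, 3]
  | 11 => [3, 0, 2, 2, 0, 2, 2, 0, 2, 0, 3, 0, 3, 3, 0, 3, 3, 0, 2]
  | 12 => [2, 0, 2, 2, 2, 0, 3, 3, 3, 0, 3]
  | 13 => [3, 0, 2, 0, 2, 0, 3, 0, 3, 0, 2]
  | 14 => [3, 0, 2, 0, 2, 2, 0, 2, 2, 0, 2, 0, 3, 0, 3, 3, 0, 3, 3, 0, 3, 0, 2]
  | 15 => [2, 2, 0, 2, 2, 2, 0, 3, 3, 3, 0, 3, 3]
  | 16 => [2, 2, 0, 3, 0, 3, 3, 0, 3, 3, 0, 3, 0, 2, 0, 2, 2, 0, 2, 2, 0, 2, 0, 3, 3]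
  | 17 => [3, 0, 3, 0, 3, 0, 2, 0, 2, 0, 2]
  | 18 => [3, 0, 2, 2, 0, 2, 0, 3, 0, 3, 3, 0, 2]
  | 19 => [2, 2, 2, 0, 2, 2, 0, 2, 0, 3, 0, 3, 3, 0, 3, 3, 3]
  | 20 => [3, 3, 0, 2, 2]
  | 21 => [2, 0, 2, 0, 2, 0, 3, 0, 3, 0, 3]
  | 22 => [3, 3, 0, 3, 0, 3, 0, 2, 0, 2, 0, 2, 2]
  | 23 => [2, 2, 0, 3, 0, 2, 2, 2, 0, 3, 3, 3, 0, 2, 0, 3, 3]
  | 24 => [3, 0, 2, 0, 2, 2, 0, 2, 0, 3, 0, 3, 3, 0, 3, 0, 2]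
  | 25 => [2, 2, 0, 2, 0, 2, 0, 3, 0, 3, 0, 3, 3]
  | 26 => [2, 2, 0, 2, 2, 0, 2, 2, 0, 2, 0, 3, 0, 3, 3, 0, 3, 3, 0, 3, 3]
  | 27 => [2, 2, 0, 3, 3]
  | 28 => [2, 0, 3, 0, 3, 3, 0, 3, 0, 2, 0, 2, 2, 0, 2, 0, 3]
  | 29 => [2, 0, 3, 3, 0, 3, 0, 2, 0, 2, 2, 0, 3]
  | 30 => [3, 3, 0, 3, 3, 0, 3, 3, 0, 3, 0, 2, 0, 2, 2, 0, 2, 2, 0, 2, 2]
  | 31 => [3, 3, 0, 2, 0, 2, 2, 0, 2, 2, 0, 2, 0, 3, 0, 3, 3, 0, 3, 3, 0, 3, 0, 2, 2]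
  | 32 => [0, 2, 0, 3, 3, 3, 0, 2, 2, 2, 0, 3, 0]
  | 33 => [0, 2, 2, 0, 2, 0, 3, 0, 3, 3, 0]
  | 34 => [3, 0, 2, 2, 2, 0, 3, 3, 3, 0, 2]
  | 35 => [2, 0, 2, 2, 0, 2, 2, 0, 2, 0, 3, 0, 3, 3, 0, 3, 3, 0, 3]
  | 36 => [2, 0, 3, 3, 3, 0, 2, 2, 2, 0, 3]
  | 37 => [2, 2, 0, 2, 0, 3, 0, 3, 3]
  | 38 => [0, 3, 0, 2, 2, 2, 0, 3, 3, 3, 0, 2, 0]
  | 39 => [0, 2, 0, 2, 2, 0, 2, 2, 0, 2, 0, 3, 0, 3, 3, 0, 3, 3, 0, 3, 0]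
  | 40 => [3, 3, 0, 3, 0, 2, 0, 2, 2]
  | 41 => [0, 3, 0, 3, 0, 2, 0, 2, 0]
  | 42 => [0, 3, 0, 3, 3, 0, 3, 3, 0, 3, 0, 2, 0, 2, 2, 0, 2, 2, 0, 2, 0]
  | 43 => [2, 0, 2, 0, 3, 0, 3]
  | 44 => [0, 3, 3, 0, 3, 0, 2, 0, 2, 2, 0]
  | 45 => [3, 0, 3, 0, 2, 0, 2]
  | 46 => [3, 0, 3, 3, 0, 3, 3, 0, 3, 0, 2, 0, 2, 2, 0, 2, 2, 0, 2]
  | 47 => [0, 2, 0, 2, 0, 3, 0, 3, 0]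
  | 48 => [2, 0, 3]
  | 49 => [3, 3, 0, 3, 3, 0, 3, 0, 2, 0, 2, 2, 0, 2, 2]
  | 50 => [2, 0, 2, 2, 0, 2, 0, 3, 0, 3, 3, 0, 3]
  | 51 => [2, 2, 0, 2, 2, 0, 2, 0, 3, 0, 3, 3, 0, 3, 3]
  | 52 => [0, 2, 0, 3, 0]
  | 53 => [0, 3, 3, 0, 3, 3, 0, 3, 0, 2, 0, 2, 2, 0, 2, 2, 0]
  | 54 => [0, 2, 0, 2, 2, 0, 2, 0, 3, 0, 3, 3, 0, 3, 0]
  | 55 => [0, 2, 2, 0, 2, 2, 0, 2, 0, 3, 0, 3, 3, 0, 3, 3, 0]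
  | 56 => [0, 3, 3, 3, 0, 2, 2, 2, 0]
  | 57 => [3, 0, 2]
  | 58 => [0, 2, 2, 2, 0, 3, 3, 3, 0]
  | 59 => [3, 0, 3, 3, 0, 3, 0, 2, 0, 2, 2, 0, 2]
  | 60 => [3, 3, 3, 0, 2, 2, 2]
  | 61 => [0, 3, 0, 2, 0]
  | 62 => [2, 2, 2, 0, 3, 3, 3]
  | 63 => [0, 3, 0, 3, 3, 0, 3, 0, 2, 0, 2, 2, 0, 2, 0]
  | _ => []

end Cfsg.Agent.Lib.Helper7.Sp6Mul
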