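import Cfsg.Agent.Lib.Helper7.Sp6MulC
import Cfsg.Agent.Lib.Helper7.Sp6MulK69

/-! # The multiplier of the symplectic group of degree six over the field of two elements: the check of the rows 199584 to 202175 of the certificate (generated) -/

set_option autoImplicit false
set_option maxRecDepth 100000

namespace Cfsg.Agent.Lib.Helper7.Sp6Mul

theorem rows_ok_616 : rowsOK 199584 324 = true := by decide +kernel

theorem rows_ok_617 : rowsOK 199908 324 = true := by decide +kernel

theorem rows_ok_618 : rowsOK 200232 324 = true := by decide +kernel

theorem rows_ok_619 : rowsOK 200556 324 = true := by decide +kernel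

theorem rows_ok_620 : rowsOK 200880 324 = true := by decide +kernel

theorem rows_ok_621 : rowsOK 201204 324 = true := by decide +kernel

theorem rows_ok_622 : rowsOK 201528 324 = true := by decide +kernel

theorem rows_ok_623 : rowsOK 201852 324 = true := by decide +kernel

end Cfsg.Agent.Lib.Helper7.Sp6Mul
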