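import Mathlib
import Cfsg.Agent.Lib.Helper7.SpRegC

/-!
# Three conjugate regular unipotent elements of `Sp₂ₙ(F)`: all symmetric matrices (helper7)
-/

set_option autoImplicit false

namespace Cfsg.Agent.Lib.Helper7.SpReg

open Matrix Cfsg.Agent.H9.SpA Cfsg.Agent.Lib.Helper7.RegUnip

variable {n : ℕ} {F : Type*} [Field F]

variable {H : Subgroup (SpG n F)} {c : ℕ → F} {t : F}

theorem Rm_ev_eq_single (i : Fin n) : Rm (ev i.val : Fin n → F) = Matrix.single i i 1 := by
  unfold Rm
  rw [ev_eq_single i.val i.isLt, single_eq_single_vecMulVec_single]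

theorem Pm_ev_eq_single (i j : Fin n) :
    Pm (ev i.val : Fin n → F) (ev j.val) = Matrix.single i j 1 + Matrix.single j i 1 := by
  unfold Pm
  rw [ev_eq_single i.val i.isLt, ev_eq_single j.val j.isLt, single_eq_single_vecMulVec_single,
    single_eq_single_vecMulVec_single]

theorem symm_decomp {S : Matrix (Fin n) (Fin n) F} (hS : S.IsSymm) :
    S = (∑ i : Fin n, S i i • Rm (ev i.val : Fin n → F))
      + ∑ i : Fin n, ∑ j : Fin n, (if i < j then S i j else 0) • Pm (ev i.val : Fin n → F) (ev j.val) := by
  set U : Matrix (Fin n) (Fin n) F := Matrix.of fun i j => if i < j then S i j else 0 with hU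
  have e1 : (∑ i : Fin n, S i i • Rm (ev i.val : Fin n → F)) = diagonal (fun i => S i i) := by
    rw [← sum_single_eq_diagonal]
    apply Finset.sum_congr rfl
    intro i _
    rw [Rm_ev_eq_single, smul_single, smul_eq_mul, mul_one]
  have e2 : (∑ i : Fin n, ∑ j : Fin n,
      (if i < j then S i j else 0) • Pm (ev i.val : Fin n → F) (ev j.val)) = U + Uᵀ := by
    conv_rhs => rw [matrix_eq_sum_single U, transpose_sum, ← Finset.sum_add_distrib]
    apply Finset.sum_congr rfl
    intro i _
    rw [transpose_sum, ← Finset.sum_add_distrib]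
    apply Finset.sum_congr rfl
    intro j _
    rw [Pm_ev_eq_single, smul_add, smul_single, smul_single, smul_eq_mul, mul_one,
      transpose_single]
    rfl
  rw [e1, e2]
  ext a b
  simp only [Matrix.add_apply, Matrix.diagonal_apply, Matrix.transpose_apply, hU, Matrix.of_apply]
  rcases lt_trichotomy a b with hab | hab | hab
  · rw [if_neg (ne_of_lt hab), if_pos hab, if_neg (not_lt_of_gt hab), zero_add, add_zero]
  · subst hab
    rw [if_pos rfl, if_neg (lt_irrefl a), add_zero, add_zero]
  · rw [if_neg (ne_of_gt hab), if_neg (not_lt_of_gt hab), if_pos hab, zero_add, zero_add]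
    exact hS.apply b a

theorem all_symm (hK : Known H (n - 1))
    (hR : ∀ k, k + 1 ≤ n → Rm (ev k : Fin n → F) ∈ Acore H)
    {S : Matrix (Fin n) (Fin n) F} (hS : S.IsSymm) : S ∈ Acore H := by
  rw [symm_decomp hS]
  apply add_mem
  · apply sum_mem
    intro i _
    exact (Acore H).smul_mem _ (hR i.val (by have := i.isLt; omega))
  · apply sum_mem
    intro i _
    apply sum_mem
    intro j _
    exact (Acore H).smul_mem _
      (hK _ _ (by have := i.isLt; omega) (by have := j.isLt; omega))

theorem sie_mem_of_all (hK : Known H (n - 1))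
    (hR : ∀ k, k + 1 ≤ n → Rm (ev k : Fin n → F) ∈ Acore H)
    (S : Matrix (Fin n) (Fin n) F) (hS : S.IsSymm) : sie S hS ∈ H :=
  sie_mem_of_mem_Acal (Acore_le (all_symm hK hR hS)) hS

end Cfsg.Agent.Lib.Helper7.SpReg
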