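import Mathlib
import Cfsg.Agent.Lib.Helper7.SpRegD

/-!
# Three conjugate regular unipotent elements of `Sp₂ₙ(F)`: odd characteristic (helper7)
-/

set_option autoImplicit false

namespace Cfsg.Agent.Lib.Helper7.SpReg

open Matrix Cfsg.Agent.H9.SpA Cfsg.Agent.Lib.Helper7.RegUnip

/-- an additive subgroup of a finite field of odd characteristic containing `2` and closed under
multiplication by `2 ζ²`, `ζ` a generator of the multiplicative group, is everything -/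
theorem addSubgroup_eq_top_of_mul_closed {F : Type*} [Field F] [Fintype F] (h2 : (2 : F) ≠ 0)
    (ζ : F) (hζ : ∀ x : F, x ≠ 0 → ∃ k : ℕ, x = ζ ^ k) (𝔰 : AddSubgroup F)
    (h2mem : (2 : F) ∈ 𝔰) (hcl : ∀ s ∈ 𝔰, 2 * ζ ^ 2 * s ∈ 𝔰) (x : F) : x ∈ 𝔰 := by
  -- the multiplier ring
  let R : Subring F :=
    { carrier := {x | ∀ s ∈ 𝔰, x * s ∈ 𝔰}
      mul_mem' := fun {a b} ha hb s hs => by rw [mul_assoc]; exact ha _ (hb s hs)
      one_mem' := fun s hs => by rw [one_mul]; exact hs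
      add_mem' := fun {a b} ha hb s hs => by rw [add_mul]; exact add_mem (ha s hs) (hb s hs)
      zero_mem' := fun s hs => by rw [zero_mul]; exact zero_mem _
      neg_mem' := fun {a} ha s hs => by rw [neg_mul]; exact neg_mem (ha s hs) }
  have hRmem : ∀ a : F, a ∈ R ↔ ∀ s ∈ 𝔰, a * s ∈ 𝔰 := fun a => Iff.rfl
  have hinv : ∀ a ∈ R, a ≠ 0 → a⁻¹ ∈ R := by
    intro a ha ha0
    have hq : a ^ (Fintype.card F - 1) = 1 := FiniteField.pow_card_sub_one_eq_one a ha0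
    have hcard : 2 ≤ Fintype.card F := Fintype.one_lt_card
    have e : a⁻¹ = a ^ (Fintype.card F - 2) := by
      symm
      apply eq_inv_of_mul_eq_one_left
      rw [← pow_succ]
      have : Fintype.card F - 2 + 1 = Fintype.card F - 1 := by omega
      rw [this, hq]
    rw [e]
    exact pow_mem ha _
  have ht : 2 * ζ ^ 2 ∈ R := fun s hs => hcl s hs
  have h2R : (2 : F) ∈ R := by
    have := R.add_mem R.one_mem R.one_mem
    rwa [one_add_one_eq_two] at this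
  have hz2 : ζ ^ 2 ∈ R := by
    have := R.mul_mem (hinv 2 h2R h2) ht
    rwa [← mul_assoc, inv_mul_cancel₀ h2, one_mul] at this
  have hsq : ∀ y : F, y ^ 2 ∈ R := by
    intro y
    by_cases hy : y = 0
    · rw [hy, zero_pow (by norm_num)]
      exact R.zero_mem
    · obtain ⟨k, hk⟩ := hζ y hy
      rw [hk, ← pow_mul, mul_comm, pow_mul]
      exact pow_mem hz2 k
  have hall : ∀ y : F, y ∈ R := by
    intro y
    have : y = ((y + 1) / 2) ^ 2 - ((y - 1) / 2) ^ 2 := by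
      field_simp
      ring
    rw [this]
    exact R.sub_mem (hsq _) (hsq _)
  have := (hRmem _).mp (hall (x / 2)) 2 h2mem
  rwa [div_mul_cancel₀ _ h2] at this

variable {n : ℕ} {F : Type*} [Field F]

variable {H : Subgroup (SpG n F)} {c : ℕ → F} {t : F}

theorem cjL_Rm_zero (hn : 2 ≤ n) (c : ℕ → F) : cj (Lm c) (Rm (ev 0 : Fin n → F))
    = Rm (ev 0) + (c 0 * c 0) • Rm (ev 1) + c 0 • Pm (ev 0) (ev 1) := by
  rw [cj_Rm, Lm_mulVec_ev c 0 (by omega), Rm_add, Rm_smul, Pm_smul_right]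

theorem cjJ_Rm_zero : cj Jm (Rm (ev 0 : Fin n → F)) = Rm (ev 0) := by
  rw [cj_Rm, Jm_mulVec_ev_zero]

theorem cjJ_Rm_one (hn : 2 ≤ n) : cj Jm (Rm (ev 1 : Fin n → F))
    = Rm (ev 1) + Rm (ev 0) + Pm (ev 0) (ev 1) := by
  rw [cj_Rm, Jm_mulVec_ev_one hn, Rm_add, Pm_comm]

theorem cjJ_Pm_zero_one (hn : 2 ≤ n) : cj Jm (Pm (ev 0 : Fin n → F) (ev 1))
    = Pm (ev 0) (ev 1) + (Rm (ev 0) + Rm (ev 0)) := by
  rw [cj_Pm, Jm_mulVec_ev_zero, Jm_mulVec_ev_one hn, Pm_add_right, Pm_self]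

/-- the seed in odd characteristic -/
theorem Ctx.seed_odd (h : Ctx H c t)
    (hg : sie (Pm (ev 0 : Fin n → F) (ev 1)) (isSymm_Pm _ _) * uReg n F
      * (sie (Pm (ev 0 : Fin n → F) (ev 1)) (isSymm_Pm _ _))⁻¹ ∈ H) :
    (2 : F) • Rm (ev 0 : Fin n → F) ∈ Acal H := by
  have hu := h.hu
  rw [uReg_eq] at hu hg
  have := Acal_seed _ _ hu _ hg
  rw [cjJ_Pm_zero_one h.hn, add_sub_cancel_left] at this
  rwa [two_smul]

theorem Ctx.odd_step (h : Ctx H c t) (s : F) (hs : s • Rm (ev 0 : Fin n → F) ∈ Acal H) :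
    (2 * c 0 ^ 2 * s) • Rm (ev 0 : Fin n → F) ∈ Acal H := by
  have hn := h.hn
  have h0 : (s • Rm (ev 0 : Fin n → F)) *ᵥ ev (n - 1) = 0 := by
    rw [smul_mulVec, Rm_mulVec_last 0 (by omega), smul_zero]
  have m1 := h.R3 hs h0
  have b1 := sub_mem m1 hs
  have b2 := sub_mem (h.R1 b1) b1
  have b3 := sub_mem (h.R1 b2) b2
  have e : cj Jm (cj Jm (cj (Lm c) (s • Rm (ev 0 : Fin n → F)) - s • Rm (ev 0))
        - (cj (Lm c) (s • Rm (ev 0 : Fin n → F)) - s • Rm (ev 0)))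
      - (cj Jm (cj (Lm c) (s • Rm (ev 0 : Fin n → F)) - s • Rm (ev 0))
        - (cj (Lm c) (s • Rm (ev 0 : Fin n → F)) - s • Rm (ev 0)))
      = (2 * c 0 ^ 2 * s) • Rm (ev 0 : Fin n → F) := by
    simp only [map_sub, map_smul, map_add, cjL_Rm_zero hn, cjJ_Rm_zero, cjJ_Rm_one hn,
      cjJ_Pm_zero_one hn]
    module
  rwa [e] at b3

theorem Ctx.Rm_zero_mem_odd [Fintype F] (h : Ctx H c t) (h2 : (2 : F) ≠ 0)
    (hgen : ∀ x : F, x ≠ 0 → ∃ k : ℕ, x = c 0 ^ k)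
    (hg : sie (Pm (ev 0 : Fin n → F) (ev 1)) (isSymm_Pm _ _) * uReg n F
      * (sie (Pm (ev 0 : Fin n → F) (ev 1)) (isSymm_Pm _ _))⁻¹ ∈ H) :
    Rm (ev 0 : Fin n → F) ∈ Acore H := by
  let 𝔰 : AddSubgroup F :=
    { carrier := {s | s • Rm (ev 0 : Fin n → F) ∈ Acal H}
      add_mem' := fun {a b} ha hb => by
        change (a + b) • Rm (ev 0 : Fin n → F) ∈ Acal H
        rw [add_smul]
        exact add_mem ha hb
      zero_mem' := by
        change (0 : F) • Rm (ev 0 : Fin n → F) ∈ Acal H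
        rw [zero_smul]
        exact zero_mem _
      neg_mem' := fun {a} ha => by
        change (-a) • Rm (ev 0 : Fin n → F) ∈ Acal H
        rw [neg_smul]
        exact neg_mem ha }
  intro s
  exact addSubgroup_eq_top_of_mul_closed h2 (c 0) hgen 𝔰 (h.seed_odd hg)
    (fun s hs => h.odd_step s hs) s

theorem Ctx.known_one_odd (h : Ctx H c t) (hR : Rm (ev 0 : Fin n → F) ∈ Acore H) :
    Pm (ev 0 : Fin n → F) (ev 1) ∈ Acore H ∧ Rm (ev 1 : Fin n → F) ∈ Acore H := by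
  have hn := h.hn
  have m1 := h.R3core hR (Rm_mulVec_last 0 (by omega))
  have b1 := sub_mem m1 hR
  have b2 := sub_mem (h.R1core b1) b1
  have hc0 := h.hc 0
  have hP : Pm (ev 0 : Fin n → F) (ev 1) ∈ Acore H := by
    have e : cj Jm (cj (Lm c) (Rm (ev 0 : Fin n → F)) - Rm (ev 0))
        - (cj (Lm c) (Rm (ev 0 : Fin n → F)) - Rm (ev 0))
        = (c 0 * c 0 + (c 0 + c 0)) • Rm (ev 0) + (c 0 * c 0) • Pm (ev 0) (ev 1) := by
      simp only [map_sub, map_smul, map_add, cjL_Rm_zero hn, cjJ_Rm_zero, cjJ_Rm_one hn,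
        cjJ_Pm_zero_one hn]
      module
    rw [e] at b2
    have h3 := sub_mem b2 ((Acore H).smul_mem (c 0 * c 0 + (c 0 + c 0)) hR)
    rw [add_sub_cancel_left] at h3
    exact Acore_of_smul (mul_ne_zero hc0 hc0) h3
  refine ⟨hP, ?_⟩
  rw [cjL_Rm_zero hn] at b1
  have h4 := sub_mem b1 ((Acore H).smul_mem (c 0) hP)
  have e2 : Rm (ev 0 : Fin n → F) + (c 0 * c 0) • Rm (ev 1) + c 0 • Pm (ev 0) (ev 1) - Rm (ev 0)
      - c 0 • Pm (ev 0) (ev 1) = (c 0 * c 0) • Rm (ev 1) := by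
    abel
  rw [e2] at h4
  exact Acore_of_smul (mul_ne_zero hc0 hc0) h4

/-- the main line in odd characteristic -/
theorem Ctx.all_sie_odd [Fintype F] (h : Ctx H c t) (h2 : (2 : F) ≠ 0)
    (hgen : ∀ x : F, x ≠ 0 → ∃ k : ℕ, x = c 0 ^ k)
    (hg : sie (Pm (ev 0 : Fin n → F) (ev 1)) (isSymm_Pm _ _) * uReg n F
      * (sie (Pm (ev 0 : Fin n → F) (ev 1)) (isSymm_Pm _ _))⁻¹ ∈ H)
    (S : Matrix (Fin n) (Fin n) F) (hS : S.IsSymm) : sie S hS ∈ H := by
  have hn := h.hn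
  have hR0 := h.Rm_zero_mem_odd h2 hgen hg
  obtain ⟨hP01, hR1⟩ := h.known_one_odd hR0
  have hdiag : ∀ a : Fin n → F, Rm a + Rm a ∈ Acore H → Rm a ∈ Acore H := by
    intro a ha
    have : Rm a + Rm a = (2 : F) • Rm a := (two_smul F _).symm
    rw [this] at ha
    exact Acore_of_smul h2 ha
  have hK1 : Known H 1 := by
    intro i j hi hj
    have hi' : i = 0 ∨ i = 1 := by omega
    have hj' : j = 0 ∨ j = 1 := by omega
    rcases hi' with rfl | rfl <;> rcases hj' with rfl | rfl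
    · rw [Pm_self]
      exact add_mem hR0 hR0
    · exact hP01
    · rw [Pm_comm]
      exact hP01
    · rw [Pm_self]
      exact add_mem hR1 hR1
  have hK : Known H (n - 1) := h.known_all hK1 (n - 1) (by omega) (by omega)
  refine sie_mem_of_all hK ?_ S hS
  intro k hk
  apply hdiag
  rw [← Pm_self]
  exact hK k k (by omega) (by omega)

end Cfsg.Agent.Lib.Helper7.SpReg
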