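import Mathlib
import Cfsg.Agent.Lib.Helper7.SpRegD

/-!
# Three conjugate regular unipotent elements of `Sp₂ₙ(F)`: characteristic two, `n ≥ 3` (helper7)
-/

set_option autoImplicit false
set_option linter.unusedSimpArgs false

namespace Cfsg.Agent.Lib.Helper7.SpReg

open Matrix Cfsg.Agent.H9.SpA Cfsg.Agent.Lib.Helper7.RegUnip

variable {n : ℕ} {F : Type*} [Field F]

variable {H : Subgroup (SpG n F)} {c : ℕ → F} {t : F}

theorem sieN_inv' (S : Matrix (Fin n) (Fin n) F) (hS : S.IsSymm) :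
    (sieN S hS)⁻¹ = sieN (-S) hS.neg := by
  rw [inv_eq_iff_mul_eq_one, sieN_mul_sieN, ← sieN_zero]
  exact sieN_congr _ (by simp)

theorem isSymm_STS {T S : Matrix (Fin n) (Fin n) F} (hT : T.IsSymm) (hS : S.IsSymm) :
    (S + S * T * S).IsSymm := by
  unfold Matrix.IsSymm
  rw [transpose_add, transpose_mul, transpose_mul, hS.eq, hT.eq, Matrix.mul_assoc]

theorem one_add_mul_one_sub {T S : Matrix (Fin n) (Fin n) F} (h0 : T * S * T = 0) :
    (1 + S * T) * (1 - S * T) = 1 := by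
  have : S * T * (S * T) = 0 := by
    rw [← Matrix.mul_assoc, Matrix.mul_assoc S T S, Matrix.mul_assoc S, h0, Matrix.mul_zero]
  rw [Matrix.add_mul, Matrix.one_mul, Matrix.mul_sub, Matrix.mul_one, this]
  abel

/-- conjugating an upper Siegel element by a lower one, when `T S T = 0` -/
theorem sieN_conj_sie {T S : Matrix (Fin n) (Fin n) F} (hT : T.IsSymm) (hS : S.IsSymm)
    (h0 : T * S * T = 0) :
    (sieN T hT)⁻¹ * sie S hS * sieN T hT
      = sie (S + S * T * S) (isSymm_STS hT hS)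
        * lev (1 + S * T) (1 - S * T) (one_add_mul_one_sub h0) := by
  rw [sieN_inv']
  apply Subtype.ext
  rw [Submonoid.coe_mul, Submonoid.coe_mul, Submonoid.coe_mul, sieN_val, sie_val, sieN_val,
    sie_val, lev_val, fromBlocks_multiply, fromBlocks_multiply, fromBlocks_multiply]
  have hT' : (1 - S * T)ᵀ = 1 - T * S := by
    rw [transpose_sub, transpose_one, transpose_mul, hS.eq, hT.eq]
  rw [hT']
  congr 1
  · simp only [Matrix.mul_one, Matrix.one_mul, Matrix.mul_zero, Matrix.zero_mul, add_zero,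
      zero_add]
  · simp only [Matrix.mul_one, Matrix.one_mul, Matrix.mul_zero, Matrix.zero_mul, add_zero,
      zero_add]
    rw [Matrix.add_mul, Matrix.mul_sub, Matrix.mul_sub, Matrix.mul_one, Matrix.mul_one]
    have : S * T * S * (T * S) = 0 := by
      rw [Matrix.mul_assoc S T S, Matrix.mul_assoc S (T * S), ← Matrix.mul_assoc (T * S),
        h0, Matrix.zero_mul, Matrix.mul_zero]
    rw [this, ← Matrix.mul_assoc]
    abel
  · simp only [Matrix.mul_one, Matrix.one_mul, Matrix.mul_zero, Matrix.zero_mul, add_zero,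
      zero_add]
    rw [Matrix.add_mul, Matrix.one_mul, Matrix.neg_mul, Matrix.neg_mul, h0]
    abel
  · simp only [Matrix.mul_one, Matrix.one_mul, Matrix.mul_zero, Matrix.zero_mul, add_zero,
      zero_add]
    rw [Matrix.neg_mul]
    abel

/-! ### Formulas in characteristic two -/

theorem Rm_add_self (h2 : (2 : F) = 0) (a : Fin n → F) : Rm a + Rm a = 0 := by
  rw [← two_smul F, h2, zero_smul]

theorem Pm_self_even (h2 : (2 : F) = 0) (a : Fin n → F) : Pm a a = 0 := by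
  rw [Pm_self, Rm_add_self h2]

theorem Jm_mulVec_ev_two (hn : 3 ≤ n) :
    (Jm : Matrix (Fin n) (Fin n) F) *ᵥ ev 2 = ev 2 + ev 1 :=
  Jm_mulVec_ev_succ 1 (by omega)

theorem cjJ_Pm01_even (h2 : (2 : F) = 0) (hn : 3 ≤ n) :
    cj Jm (Pm (ev 0 : Fin n → F) (ev 1)) = Pm (ev 0) (ev 1) := by
  rw [cj_Pm, Jm_mulVec_ev_zero, Jm_mulVec_ev_one (by omega), Pm_add_right, Pm_self_even h2,
    add_zero]

theorem cjJ_Pm02 (hn : 3 ≤ n) :
    cj Jm (Pm (ev 0 : Fin n → F) (ev 2)) = Pm (ev 0) (ev 2) + Pm (ev 0) (ev 1) := by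
  rw [cj_Pm, Jm_mulVec_ev_zero, Jm_mulVec_ev_two hn, Pm_add_right]

theorem cjJ_Pm12_even (h2 : (2 : F) = 0) (hn : 3 ≤ n) :
    cj Jm (Pm (ev 1 : Fin n → F) (ev 2))
      = Pm (ev 1) (ev 2) + Pm (ev 0) (ev 2) + Pm (ev 0) (ev 1) := by
  rw [cj_Pm, Jm_mulVec_ev_one (by omega), Jm_mulVec_ev_two hn, Pm_add_right, Pm_add_left,
    Pm_add_left, Pm_self_even h2]
  abel

theorem cjL_Pm01_even (h2 : (2 : F) = 0) (hn : 3 ≤ n) (c : ℕ → F) :
    cj (Lm c) (Pm (ev 0 : Fin n → F) (ev 1))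
      = Pm (ev 0) (ev 1) + c 1 • Pm (ev 0) (ev 2) + (c 0 * c 1) • Pm (ev 1) (ev 2) := by
  rw [cj_Pm, Lm_mulVec_ev c 0 (by omega), Lm_mulVec_ev c 1 (by omega), Pm_add_right, Pm_add_left,
    Pm_add_left, Pm_smul_left, Pm_smul_right, Pm_smul_left, Pm_smul_right, Pm_self_even h2,
    smul_zero, add_zero, smul_smul]
  abel

/-- the seed in characteristic two -/
theorem Ctx.seed_even (h : Ctx H c t) (hn : 3 ≤ n)
    (hg : sie (Pm (ev 0 : Fin n → F) (ev 2)) (isSymm_Pm _ _) * uReg n F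
      * (sie (Pm (ev 0 : Fin n → F) (ev 2)) (isSymm_Pm _ _))⁻¹ ∈ H) :
    Pm (ev 0 : Fin n → F) (ev 1) ∈ Acal H := by
  have hu := h.hu
  rw [uReg_eq] at hu hg
  have := Acal_seed _ _ hu _ hg
  rwa [cjJ_Pm02 hn, add_sub_cancel_left] at this

theorem Ctx.even_step (h : Ctx H c t) (h2 : (2 : F) = 0) (hn : 3 ≤ n) (s : F)
    (hs : s • Pm (ev 0 : Fin n → F) (ev 1) ∈ Acal H) :
    (c 0 * c 1 * s) • Pm (ev 0 : Fin n → F) (ev 1) ∈ Acal H := by
  have h0 : (s • Pm (ev 0 : Fin n → F) (ev 1)) *ᵥ ev (n - 1) = 0 := by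
    rw [smul_mulVec, Pm_mulVec_last 0 1 (by omega) (by omega), smul_zero]
  have m1 := h.R3 hs h0
  have b1 := sub_mem m1 hs
  have b2 := sub_mem (h.R1 b1) b1
  have b3 := sub_mem (h.R1 b2) b2
  have e : cj Jm (cj Jm (cj (Lm c) (s • Pm (ev 0 : Fin n → F) (ev 1)) - s • Pm (ev 0) (ev 1))
        - (cj (Lm c) (s • Pm (ev 0 : Fin n → F) (ev 1)) - s • Pm (ev 0) (ev 1)))
      - (cj Jm (cj (Lm c) (s • Pm (ev 0 : Fin n → F) (ev 1)) - s • Pm (ev 0) (ev 1))
        - (cj (Lm c) (s • Pm (ev 0 : Fin n → F) (ev 1)) - s • Pm (ev 0) (ev 1)))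
      = (c 0 * c 1 * s) • Pm (ev 0 : Fin n → F) (ev 1) := by
    simp only [map_sub, map_smul, map_add, cjL_Pm01_even h2 hn, cjJ_Pm01_even h2 hn, cjJ_Pm02 hn,
      cjJ_Pm12_even h2 hn]
    module
  rwa [e] at b3

theorem Ctx.Pm01_mem_even (h : Ctx H c t) (h2 : (2 : F) = 0) (hn : 3 ≤ n)
    (hgen : ∀ x : F, x ≠ 0 → ∃ k : ℕ, x = (c 0 * c 1) ^ k)
    (hg : sie (Pm (ev 0 : Fin n → F) (ev 2)) (isSymm_Pm _ _) * uReg n F
      * (sie (Pm (ev 0 : Fin n → F) (ev 2)) (isSymm_Pm _ _))⁻¹ ∈ H) :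
    Pm (ev 0 : Fin n → F) (ev 1) ∈ Acore H := by
  have hpow : ∀ k : ℕ, ((c 0 * c 1) ^ k) • Pm (ev 0 : Fin n → F) (ev 1) ∈ Acal H := by
    intro k
    induction k with
    | zero =>
      rw [pow_zero, one_smul]
      exact h.seed_even hn hg
    | succ k ih =>
      have := h.even_step h2 hn _ ih
      rwa [← pow_succ'] at this
  intro s
  by_cases hs : s = 0
  · rw [hs, zero_smul]
    exact zero_mem _
  · obtain ⟨k, hk⟩ := hgen s hs
    rw [hk]
    exact hpow k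

end Cfsg.Agent.Lib.Helper7.SpReg
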