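import Mathlib
import Cfsg.Agent.Lib.Helper7.SpRegF

/-!
# Three conjugate regular unipotent elements of `Sp₂ₙ(F)`: the long root elements (helper7)
-/

set_option autoImplicit false

namespace Cfsg.Agent.Lib.Helper7.SpReg

open Matrix Cfsg.Agent.H9.SpA Cfsg.Agent.Lib.Helper7.RegUnip

variable {n : ℕ} {F : Type*} [Field F]

variable {H : Subgroup (SpG n F)} {c : ℕ → F} {t : F}

theorem ev_last_dot_self (hn : 1 ≤ n) : (ev (n - 1) : Fin n → F) ⬝ᵥ ev (n - 1) = 1 :=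
  ev_dot_ev_self (by omega)

theorem Pm_zero_last_mulVec_last (hn : 2 ≤ n) :
    Pm (ev 0 : Fin n → F) (ev (n - 1)) *ᵥ ev (n - 1) = ev 0 := by
  rw [Pm_mulVec, ev_last_dot_self (by omega), ev_dot_ev_ne (by omega), one_smul, zero_smul,
    add_zero]

theorem last_vecMul_Pm_zero_last (hn : 2 ≤ n) :
    (ev (n - 1) : Fin n → F) ᵥ* Pm (ev 0 : Fin n → F) (ev (n - 1)) = ev 0 := by
  rw [← (isSymm_Pm (ev 0 : Fin n → F) (ev (n - 1))).eq, vecMul_transpose,
    Pm_zero_last_mulVec_last hn]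

section

variable (lam t : F)

theorem hST (hn : 2 ≤ n) : (lam • Pm (ev 0 : Fin n → F) (ev (n - 1))) * (t • Rm (ev (n - 1)))
    = (lam * t) • vecMulVec (ev 0) (ev (n - 1)) := by
  unfold Rm
  rw [Matrix.smul_mul, Matrix.mul_smul, mul_vecMulVec, Pm_zero_last_mulVec_last hn, smul_smul]

theorem hSTS (hn : 2 ≤ n) : (lam • Pm (ev 0 : Fin n → F) (ev (n - 1))) * (t • Rm (ev (n - 1)))
    * (lam • Pm (ev 0 : Fin n → F) (ev (n - 1))) = (lam * (lam * t)) • Rm (ev 0) := by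
  rw [hST lam t hn, Matrix.smul_mul, Matrix.mul_smul, vecMulVec_mul, last_vecMul_Pm_zero_last hn,
    smul_smul, mul_comm]
  rfl

theorem hTST (hn : 2 ≤ n) : (t • Rm (ev (n - 1) : Fin n → F))
    * (lam • Pm (ev 0 : Fin n → F) (ev (n - 1))) * (t • Rm (ev (n - 1))) = 0 := by
  rw [Matrix.mul_assoc, hST lam t hn, Matrix.smul_mul, Matrix.mul_smul]
  unfold Rm
  rw [vecMulVec_mul_vecMulVec, ev_dot_ev_ne (by omega), zero_smul, vecMulVec_zero, smul_zero,
    smul_zero]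

theorem hAJ : (1 + (lam * t) • vecMulVec (ev 0 : Fin n → F) (ev (n - 1))) * Jm
    = Jm * (1 + (lam * t) • vecMulVec (ev 0 : Fin n → F) (ev (n - 1))) := by
  rw [Matrix.add_mul, Matrix.one_mul, Matrix.mul_add, Matrix.mul_one, Matrix.smul_mul,
    Matrix.mul_smul, vecMulVec_mul, mul_vecMulVec, Jm_mulVec_ev_zero, ev_vecMul_Jm]
  by_cases hn : 1 ≤ n
  · rw [ev_eq_zero (n - 1 + 1) (by omega), add_zero]
  · have : n = 0 := by omega
    subst this
    rw [ev_eq_zero (0 - 1 + 1) (by omega), add_zero]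

theorem hA_mulVec_last (hn : 1 ≤ n) :
    ((1 : Matrix (Fin n) (Fin n) F) + (lam * t) • vecMulVec (ev 0 : Fin n → F) (ev (n - 1)))
        *ᵥ ev (n - 1)
      = ev (n - 1) + (lam * t) • ev 0 := by
  rw [add_mulVec, one_mulVec, smul_mulVec, vecMulVec_mulVec, ev_last_dot_self hn,
    op_smul_eq_smul, one_smul]

theorem Jm_mulVec_ev_last (hn : 2 ≤ n) :
    (Jm : Matrix (Fin n) (Fin n) F) *ᵥ ev (n - 1) = ev (n - 1) + ev (n - 2) := by
  have := Jm_mulVec_ev_succ (n := n) (F := F) (n - 2) (by omega)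
  have e : n - 2 + 1 = n - 1 := by omega
  rwa [e] at this

end

/-- the long root step: squares times `Rm e₀` -/
theorem Ctx.long_root (h : Ctx H c t) (hK : Known H (n - 1)) (lam : F) :
    ((lam * t) * (lam * t)) • Rm (ev 0 : Fin n → F) ∈ Acal H := by
  have hn := h.hn
  set S1 : Matrix (Fin n) (Fin n) F := lam • Pm (ev 0 : Fin n → F) (ev (n - 1)) with hS1def
  have hS1 : S1.IsSymm := isSymm_smul (isSymm_Pm _ _) lam
  set T0 : Matrix (Fin n) (Fin n) F := t • Rm (ev (n - 1)) with hT0def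
  have hT0 : T0.IsSymm := isSymm_smul (isSymm_Rm _) t
  -- (i)
  have hi : cj (Lm c) S1 ∈ Acal H := by
    have e : cj (Lm c) S1 = lam • (Pm (ev 0 : Fin n → F) (ev (n - 1))
        + c 0 • Pm (ev 1) (ev (n - 1))) := by
      rw [hS1def, map_smul, cj_Pm, Lm_mulVec_ev c 0 (by omega), Lm_mulVec_ev c (n - 1) (by omega),
        ev_eq_zero (n - 1 + 1) (by omega), smul_zero, add_zero, Pm_add_left, Pm_smul_left]
    rw [e]
    exact Acore_le ((Acore H).smul_mem lam (add_mem (hK 0 (n - 1) (by omega) le_rfl)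
      ((Acore H).smul_mem (c 0) (hK 1 (n - 1) (by omega) le_rfl))))
  -- (ii)
  have hV := h.hV
  rw [VReg_eq] at hV
  have hy1 : (sieN T0 hT0)⁻¹ * sie S1 hS1 * sieN T0 hT0 ∈ H := by
    have hmem := H.mul_mem (H.mul_mem (H.inv_mem hV) (sie_mem_of_mem_Acal hi (isSymm_cj hS1 _))) hV
    have e : (lev (Lm c) (Lm c)⁻¹ (Lm_mul_inv c) * sieN T0 hT0)⁻¹
        * sie (cj (Lm c) S1) (isSymm_cj hS1 _)
        * (lev (Lm c) (Lm c)⁻¹ (Lm_mul_inv c) * sieN T0 hT0)
        = (sieN T0 hT0)⁻¹ * sie S1 hS1 * sieN T0 hT0 := by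
      have e0 : sie (cj (Lm c) S1) (isSymm_cj hS1 _)
          = lev (Lm c) (Lm c)⁻¹ (Lm_mul_inv c) * sie S1 hS1
            * (lev (Lm c) (Lm c)⁻¹ (Lm_mul_inv c))⁻¹ := by
        rw [lev_conj_sie]
        rfl
      rw [e0]
      group
    rw [← e]
    exact hmem
  -- (iii)
  have h0 : T0 * S1 * T0 = 0 := hTST lam t hn
  rw [sieN_conj_sie hT0 hS1 h0] at hy1
  -- (iv)
  have hu := h.hu
  rw [uReg_eq] at hu
  have hAC : (1 + S1 * T0) * Jm = Jm * (1 + S1 * T0) := by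
    rw [hS1def, hT0def, hST lam t hn]
    exact hAJ lam t
  have hcomm := H.mul_mem (H.mul_mem (H.mul_mem hy1 hu) (H.inv_mem hy1)) (H.inv_mem hu)
  rw [comm_sie_lev (isSymm_STS hT0 hS1) (one_add_mul_one_sub h0) (isSymm_Rm _) Jm_mul_inv hAC]
    at hcomm
  have hZ : S1 + S1 * T0 * S1 + cj (1 + S1 * T0) (Rm (ev (n - 1))) - Rm (ev (n - 1))
      - cj Jm (S1 + S1 * T0 * S1) ∈ Acal H := ⟨_, hcomm⟩
  -- (v)
  have e : S1 + S1 * T0 * S1 + cj (1 + S1 * T0) (Rm (ev (n - 1))) - Rm (ev (n - 1))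
      - cj Jm (S1 + S1 * T0 * S1)
      = ((lam * t) * (lam * t)) • Rm (ev 0 : Fin n → F)
        + (lam * t) • Pm (ev 0) (ev (n - 1)) - lam • Pm (ev 0) (ev (n - 2)) := by
    rw [hS1def, hT0def, hSTS lam t hn, hST lam t hn, cj_Rm, hA_mulVec_last lam t (by omega),
      map_add, map_smul, map_smul, cj_Pm, cj_Rm, Jm_mulVec_ev_zero, Jm_mulVec_ev_last hn,
      Rm_add, Rm_smul, Pm_smul_right, Pm_add_right, Pm_comm (ev (n - 1)) (ev 0)]
    module
  rw [e] at hZ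
  -- (vi)
  have h1 : (lam * t) • Pm (ev 0 : Fin n → F) (ev (n - 1)) ∈ Acal H :=
    hK 0 (n - 1) (by omega) le_rfl _
  have h2 : lam • Pm (ev 0 : Fin n → F) (ev (n - 2)) ∈ Acal H :=
    hK 0 (n - 2) (by omega) (by omega) _
  have := add_mem (sub_mem hZ h1) h2
  have e2 : ((lam * t) * (lam * t)) • Rm (ev 0 : Fin n → F)
        + (lam * t) • Pm (ev 0) (ev (n - 1)) - lam • Pm (ev 0) (ev (n - 2))
        - (lam * t) • Pm (ev 0) (ev (n - 1)) + lam • Pm (ev 0) (ev (n - 2))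
      = ((lam * t) * (lam * t)) • Rm (ev 0 : Fin n → F) := by abel
  rwa [e2] at this

/-- the main line in characteristic two, `n ≥ 3` -/
theorem Ctx.all_sie_even [Fintype F] (h : Ctx H c t) (h2 : (2 : F) = 0) (hn : 3 ≤ n)
    (hgen : ∀ x : F, x ≠ 0 → ∃ k : ℕ, x = (c 0 * c 1) ^ k)
    (hg : sie (Pm (ev 0 : Fin n → F) (ev 2)) (isSymm_Pm _ _) * uReg n F
      * (sie (Pm (ev 0 : Fin n → F) (ev 2)) (isSymm_Pm _ _))⁻¹ ∈ H)
    (S : Matrix (Fin n) (Fin n) F) (hS : S.IsSymm) : sie S hS ∈ H := by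
  have hP01 := h.Pm01_mem_even h2 hn hgen hg
  have hK1 : Known H 1 := by
    intro i j hi hj
    have hi' : i = 0 ∨ i = 1 := by omega
    have hj' : j = 0 ∨ j = 1 := by omega
    rcases hi' with rfl | rfl <;> rcases hj' with rfl | rfl
    · rw [Pm_self_even h2]
      exact zero_mem _
    · exact hP01
    · rw [Pm_comm]
      exact hP01
    · rw [Pm_self_even h2]
      exact zero_mem _
  have hK : Known H (n - 1) := h.known_all hK1 (n - 1) (by omega) (by omega)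
  have hR0 : Rm (ev 0 : Fin n → F) ∈ Acore H := by
    intro s
    have : CharP F 2 := CharTwo.of_one_ne_zero_of_two_eq_zero one_ne_zero h2
    have hch : ringChar F = 2 := ringChar.eq F 2
    obtain ⟨r, hr⟩ := FiniteField.isSquare_of_char_two hch s
    have := h.long_root hK (r / t)
    rw [div_mul_cancel₀ _ h.ht] at this
    rwa [hr]
  exact sie_mem_of_all hK (h.diag_all hK hR0) S hS

end Cfsg.Agent.Lib.Helper7.SpReg
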