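import Mathlib
import Cfsg.Agent.Lib.Helper7.SpRegE
import Cfsg.Agent.Lib.Helper7.SpRegG
import Cfsg.Agent.Lib.Helper7.SpRegI
import Cfsg.Agent.Lib.SpRU.Reg

/-!
# Three conjugate regular unipotent elements generate `Sp₂ₙ(F)`: odd `q`, and even `q` with `n ≥ 3`
(helper7, with lead's `Lib/SpRU`)
-/

set_option autoImplicit false

namespace Cfsg.Agent.Lib.Helper7.SpReg

open Matrix Cfsg.Agent.H9.SpA Cfsg.Agent.Lib.Helper7.RegUnip Cfsg.Agent.SpRU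

/-- a generator of the multiplicative group of a finite field -/
theorem exists_gen (F : Type*) [Field F] [Fintype F] :
    ∃ ζ : F, ζ ≠ 0 ∧ ∀ x : F, x ≠ 0 → ∃ k : ℕ, x = ζ ^ k := by
  classical
  obtain ⟨ζ', hζ'⟩ : ∃ ζ : Fˣ, ∀ y : Fˣ, y ∈ Submonoid.powers ζ :=
    IsCyclic.exists_monoid_generator
  refine ⟨(ζ' : F), ζ'.ne_zero, ?_⟩
  intro x hx
  obtain ⟨k, hk⟩ := (Submonoid.mem_powers_iff _ _).mp (hζ' (Units.mk0 x hx))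
  refine ⟨k, ?_⟩
  have := congrArg Units.val hk
  simpa using this.symm

variable {F : Type*} [Field F] [Fintype F]

/-- the common part: from a seed element `g` to generation -/
theorem main_of_seed {k : ℕ} (hn : 2 ≤ k + 1) {ζ : F} (hζ0 : ζ ≠ 0) (g : SpG (k + 1) F)
    (hmain : ∀ H : Subgroup (SpG (k + 1) F), Ctx H (cc ζ) (ζ⁻¹ * ζ⁻¹) →
      g * uReg (k + 1) F * g⁻¹ ∈ H →
      ∀ (S : Matrix (Fin (k + 1)) (Fin (k + 1)) F) (hS : S.IsSymm), sie S hS ∈ H) :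
    ∃ u g h : SpG (k + 1) F,
      IsNilpotent ((u : Matrix (Fin (k + 1) ⊕ Fin (k + 1)) (Fin (k + 1) ⊕ Fin (k + 1)) F) - 1) ∧
      ((u : Matrix (Fin (k + 1) ⊕ Fin (k + 1)) (Fin (k + 1) ⊕ Fin (k + 1)) F) - 1)
        ^ (2 * (k + 1) - 1) ≠ 0 ∧
      Subgroup.closure ({u, g * u * g⁻¹, h * u * h⁻¹} : Set (SpG (k + 1) F)) = ⊤ := by
  obtain ⟨h, hh⟩ := exists_conj hn hζ0
  refine ⟨uReg (k + 1) F, g, h, uReg_nilpotent, uReg_pow_ne_zero (by omega), ?_⟩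
  have ht : ζ⁻¹ * ζ⁻¹ ≠ 0 := mul_ne_zero (inv_ne_zero hζ0) (inv_ne_zero hζ0)
  have huH : uReg (k + 1) F ∈ Subgroup.closure ({uReg (k + 1) F,
      g * uReg (k + 1) F * g⁻¹, h * uReg (k + 1) F * h⁻¹} : Set (SpG (k + 1) F)) :=
    Subgroup.subset_closure (by simp)
  have hgH : g * uReg (k + 1) F * g⁻¹ ∈ Subgroup.closure ({uReg (k + 1) F,
      g * uReg (k + 1) F * g⁻¹, h * uReg (k + 1) F * h⁻¹} : Set (SpG (k + 1) F)) :=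
    Subgroup.subset_closure (by simp)
  have hhH : h * uReg (k + 1) F * h⁻¹ ∈ Subgroup.closure ({uReg (k + 1) F,
      g * uReg (k + 1) F * g⁻¹, h * uReg (k + 1) F * h⁻¹} : Set (SpG (k + 1) F)) :=
    Subgroup.subset_closure (by simp)
  have hVH : VReg (k + 1) (cc ζ) (ζ⁻¹ * ζ⁻¹) ∈ Subgroup.closure ({uReg (k + 1) F,
      g * uReg (k + 1) F * g⁻¹, h * uReg (k + 1) F * h⁻¹} : Set (SpG (k + 1) F)) := by
    have e : VReg (k + 1) (cc ζ) (ζ⁻¹ * ζ⁻¹) = (h * uReg (k + 1) F * h⁻¹)⁻¹ := by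
      rw [hh, inv_inv]
    rw [e]
    exact Subgroup.inv_mem _ hhH
  have ctx : Ctx (Subgroup.closure ({uReg (k + 1) F,
      g * uReg (k + 1) F * g⁻¹, h * uReg (k + 1) F * h⁻¹} : Set (SpG (k + 1) F)))
      (cc ζ) (ζ⁻¹ * ζ⁻¹) := ⟨hn, cc_ne_zero hζ0, ht, huH, hVH⟩
  exact eq_top_of_all_sie (cc_ne_zero hζ0) ht hVH (hmain _ ctx hgH)

/-- odd characteristic, all `n ≥ 2` -/
theorem main_odd {n : ℕ} (hn : 2 ≤ n) (h2 : (2 : F) ≠ 0) :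
    ∃ u g h : SpG n F,
      IsNilpotent ((u : Matrix (Fin n ⊕ Fin n) (Fin n ⊕ Fin n) F) - 1) ∧
      ((u : Matrix (Fin n ⊕ Fin n) (Fin n ⊕ Fin n) F) - 1) ^ (2 * n - 1) ≠ 0 ∧
      Subgroup.closure ({u, g * u * g⁻¹, h * u * h⁻¹} : Set (SpG n F)) = ⊤ := by
  obtain ⟨k, rfl⟩ : ∃ k, n = k + 1 := ⟨n - 1, by omega⟩
  obtain ⟨ζ, hζ0, hgen⟩ := exists_gen F
  refine main_of_seed hn hζ0 (sie (Pm (ev 0) (ev 1)) (isSymm_Pm _ _)) ?_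
  intro H ctx hg
  exact ctx.all_sie_odd h2 (by rw [cc_zero]; exact hgen) hg

/-- characteristic two, `n ≥ 3` -/
theorem main_even {n : ℕ} (hn : 3 ≤ n) (h2 : (2 : F) = 0) :
    ∃ u g h : SpG n F,
      IsNilpotent ((u : Matrix (Fin n ⊕ Fin n) (Fin n ⊕ Fin n) F) - 1) ∧
      ((u : Matrix (Fin n ⊕ Fin n) (Fin n ⊕ Fin n) F) - 1) ^ (2 * n - 1) ≠ 0 ∧
      Subgroup.closure ({u, g * u * g⁻¹, h * u * h⁻¹} : Set (SpG n F)) = ⊤ := by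
  obtain ⟨k, rfl⟩ : ∃ k, n = k + 1 := ⟨n - 1, by omega⟩
  obtain ⟨ζ, hζ0, hgen⟩ := exists_gen F
  refine main_of_seed (by omega) hζ0 (sie (Pm (ev 0) (ev 2)) (isSymm_Pm _ _)) ?_
  intro H ctx hg
  exact ctx.all_sie_even h2 hn (by rw [cc_zero, cc_one, mul_one]; exact hgen) hg

end Cfsg.Agent.Lib.Helper7.SpReg
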