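import Mathlib
import Cfsg.Agent.Lib.Helper7.SpRegE
import Cfsg.Agent.Lib.Helper7.SpRegG

/-!
# The main line of `SpReg` from weaker seeds (helper7)

Variants of `Ctx.all_sie_odd` and `Ctx.all_sie_even` where the seed is an element
`cj (Lm c) Z - Z` of the Siegel radical (`Z` a multiple of `Rm e₀`, resp. of `Pm e₀ e₁`); used for
the generation of `Sp₂ₙ(F)` by two elements.
-/

set_option autoImplicit false

namespace Cfsg.Agent.Lib.Helper7.SpReg

open Matrix Cfsg.Agent.H9.SpA Cfsg.Agent.Lib.Helper7.RegUnip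

theorem addSubgroup_eq_top_of_mul_closed' {F : Type*} [Field F] [Fintype F] (h2 : (2 : F) ≠ 0)
    (ζ : F) (hζ : ∀ x : F, x ≠ 0 → ∃ k : ℕ, x = ζ ^ k) (𝔰 : AddSubgroup F) (s₀ : F)
    (hs₀ : s₀ ≠ 0) (hmem : s₀ ∈ 𝔰) (hcl : ∀ s ∈ 𝔰, 2 * ζ ^ 2 * s ∈ 𝔰) (x : F) : x ∈ 𝔰 := by
  have key := addSubgroup_eq_top_of_mul_closed h2 ζ hζ
    (𝔰.comap (AddMonoidHom.mulRight (s₀ / 2)))
    (by
      rw [AddSubgroup.mem_comap, AddMonoidHom.mulRight_apply, mul_div_cancel₀ _ h2]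
      exact hmem)
    (by
      intro s hs
      rw [AddSubgroup.mem_comap, AddMonoidHom.mulRight_apply] at hs ⊢
      have := hcl _ hs
      rwa [← mul_assoc] at this)
    (x / (s₀ / 2))
  rw [AddSubgroup.mem_comap, AddMonoidHom.mulRight_apply,
    div_mul_cancel₀ _ (div_ne_zero hs₀ h2)] at key
  exact key

variable {n : ℕ} {F : Type*} [Field F]

variable {H : Subgroup (SpG n F)} {c : ℕ → F} {t : F}

/-! ### Odd characteristic -/

theorem Ctx.odd_step' (h : Ctx H c t) (s : F)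
    (hb1 : cj (Lm c) (s • Rm (ev 0 : Fin n → F)) - s • Rm (ev 0) ∈ Acal H) :
    (2 * c 0 ^ 2 * s) • Rm (ev 0 : Fin n → F) ∈ Acal H := by
  have hn := h.hn
  have b2 := sub_mem (h.R1 hb1) hb1
  have b3 := sub_mem (h.R1 b2) b2
  have e : cj Jm (cj Jm (cj (Lm c) (s • Rm (ev 0 : Fin n → F)) - s • Rm (ev 0))
        - (cj (Lm c) (s • Rm (ev 0 : Fin n → F)) - s • Rm (ev 0)))
      - (cj Jm (cj (Lm c) (s • Rm (ev 0 : Fin n → F)) - s • Rm (ev 0))
        - (cj (Lm c) (s • Rm (ev 0 : Fin n → F)) - s • Rm (ev 0)))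
      = (2 * c 0 ^ 2 * s) • Rm (ev 0 : Fin n → F) := by
    simp only [map_sub, map_smul, map_add, cjL_Rm_zero hn, cjJ_Rm_zero, cjJ_Rm_one hn,
      cjJ_Pm_zero_one hn]
    module
  rwa [e] at b3

theorem Ctx.Rm_zero_mem_odd' [Fintype F] (h : Ctx H c t) (h2 : (2 : F) ≠ 0)
    (hgen : ∀ x : F, x ≠ 0 → ∃ k : ℕ, x = c 0 ^ k) (s₀ : F) (hs₀ : s₀ ≠ 0)
    (hb1 : cj (Lm c) (s₀ • Rm (ev 0 : Fin n → F)) - s₀ • Rm (ev 0) ∈ Acal H) :
    Rm (ev 0 : Fin n → F) ∈ Acore H := by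
  let 𝔰 : AddSubgroup F :=
    { carrier := {s | s • Rm (ev 0 : Fin n → F) ∈ Acal H}
      add_mem' := fun {a b} ha hb => by
        change (a + b) • Rm (ev 0 : Fin n → F) ∈ Acal H
        rw [add_smul]
        exact add_mem ha hb
      zero_mem' := by
        change (0 : F) • Rm (ev 0 : Fin n → F) ∈ Acal H
        rw [zero_smul]
        exact zero_mem _
      neg_mem' := fun {a} ha => by
        change (-a) • Rm (ev 0 : Fin n → F) ∈ Acal H
        rw [neg_smul]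
        exact neg_mem ha }
  intro s
  have hc0 := h.hc 0
  exact addSubgroup_eq_top_of_mul_closed' h2 (c 0) hgen 𝔰 (2 * c 0 ^ 2 * s₀)
    (mul_ne_zero (mul_ne_zero h2 (pow_ne_zero 2 hc0)) hs₀) (h.odd_step' s₀ hb1)
    (fun s hs => h.odd_step s hs) s

theorem Ctx.all_sie_odd' [Fintype F] (h : Ctx H c t) (h2 : (2 : F) ≠ 0)
    (hgen : ∀ x : F, x ≠ 0 → ∃ k : ℕ, x = c 0 ^ k) (s₀ : F) (hs₀ : s₀ ≠ 0)
    (hb1 : cj (Lm c) (s₀ • Rm (ev 0 : Fin n → F)) - s₀ • Rm (ev 0) ∈ Acal H)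
    (S : Matrix (Fin n) (Fin n) F) (hS : S.IsSymm) : sie S hS ∈ H := by
  have hn := h.hn
  have hR0 := h.Rm_zero_mem_odd' h2 hgen s₀ hs₀ hb1
  obtain ⟨hP01, hR1⟩ := h.known_one_odd hR0
  have hdiag : ∀ a : Fin n → F, Rm a + Rm a ∈ Acore H → Rm a ∈ Acore H := by
    intro a ha
    have : Rm a + Rm a = (2 : F) • Rm a := (two_smul F _).symm
    rw [this] at ha
    exact Acore_of_smul h2 ha
  have hK1 : Known H 1 := by
    intro i j hi hj
    have hi' : i = 0 ∨ i = 1 := by omega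
    have hj' : j = 0 ∨ j = 1 := by omega
    rcases hi' with rfl | rfl <;> rcases hj' with rfl | rfl
    · rw [Pm_self]
      exact add_mem hR0 hR0
    · exact hP01
    · rw [Pm_comm]
      exact hP01
    · rw [Pm_self]
      exact add_mem hR1 hR1
  have hK : Known H (n - 1) := h.known_all hK1 (n - 1) (by omega) (by omega)
  refine sie_mem_of_all hK ?_ S hS
  intro k hk
  apply hdiag
  rw [← Pm_self]
  exact hK k k (by omega) (by omega)

/-! ### Characteristic two, `n ≥ 3` -/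

theorem Ctx.even_step' (h : Ctx H c t) (h2 : (2 : F) = 0) (hn : 3 ≤ n) (s : F)
    (hb1 : cj (Lm c) (s • Pm (ev 0 : Fin n → F) (ev 1)) - s • Pm (ev 0) (ev 1) ∈ Acal H) :
    (c 0 * c 1 * s) • Pm (ev 0 : Fin n → F) (ev 1) ∈ Acal H := by
  have b2 := sub_mem (h.R1 hb1) hb1
  have b3 := sub_mem (h.R1 b2) b2
  have e : cj Jm (cj Jm (cj (Lm c) (s • Pm (ev 0 : Fin n → F) (ev 1)) - s • Pm (ev 0) (ev 1))
        - (cj (Lm c) (s • Pm (ev 0 : Fin n → F) (ev 1)) - s • Pm (ev 0) (ev 1)))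
      - (cj Jm (cj (Lm c) (s • Pm (ev 0 : Fin n → F) (ev 1)) - s • Pm (ev 0) (ev 1))
        - (cj (Lm c) (s • Pm (ev 0 : Fin n → F) (ev 1)) - s • Pm (ev 0) (ev 1)))
      = (c 0 * c 1 * s) • Pm (ev 0 : Fin n → F) (ev 1) := by
    simp only [map_sub, map_smul, map_add, cjL_Pm01_even h2 hn, cjJ_Pm01_even h2 hn, cjJ_Pm02 hn,
      cjJ_Pm12_even h2 hn]
    module
  rwa [e] at b3

theorem Ctx.Pm01_mem_even' (h : Ctx H c t) (h2 : (2 : F) = 0) (hn : 3 ≤ n)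
    (hgen : ∀ x : F, x ≠ 0 → ∃ k : ℕ, x = (c 0 * c 1) ^ k) (s₀ : F) (hs₀ : s₀ ≠ 0)
    (hb1 : cj (Lm c) (s₀ • Pm (ev 0 : Fin n → F) (ev 1)) - s₀ • Pm (ev 0) (ev 1) ∈ Acal H) :
    Pm (ev 0 : Fin n → F) (ev 1) ∈ Acore H := by
  have hpow : ∀ k : ℕ,
      ((c 0 * c 1) ^ k * (c 0 * c 1 * s₀)) • Pm (ev 0 : Fin n → F) (ev 1) ∈ Acal H := by
    intro k
    induction k with
    | zero =>
      rw [pow_zero, one_mul]
      exact h.even_step' h2 hn s₀ hb1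
    | succ k ih =>
      have := h.even_step h2 hn _ ih
      rwa [← mul_assoc, ← pow_succ'] at this
  have hne : c 0 * c 1 * s₀ ≠ 0 := mul_ne_zero (mul_ne_zero (h.hc 0) (h.hc 1)) hs₀
  intro s
  by_cases hs : s = 0
  · rw [hs, zero_smul]
    exact zero_mem _
  · obtain ⟨k, hk⟩ := hgen (s / (c 0 * c 1 * s₀)) (div_ne_zero hs hne)
    have := hpow k
    rwa [← hk, div_mul_cancel₀ _ hne] at this

theorem Ctx.all_sie_even' [Fintype F] (h : Ctx H c t) (h2 : (2 : F) = 0) (hn : 3 ≤ n)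
    (hgen : ∀ x : F, x ≠ 0 → ∃ k : ℕ, x = (c 0 * c 1) ^ k) (s₀ : F) (hs₀ : s₀ ≠ 0)
    (hb1 : cj (Lm c) (s₀ • Pm (ev 0 : Fin n → F) (ev 1)) - s₀ • Pm (ev 0) (ev 1) ∈ Acal H)
    (S : Matrix (Fin n) (Fin n) F) (hS : S.IsSymm) : sie S hS ∈ H := by
  have hP01 := h.Pm01_mem_even' h2 hn hgen s₀ hs₀ hb1
  have hK1 : Known H 1 := by
    intro i j hi hj
    have hi' : i = 0 ∨ i = 1 := by omega
    have hj' : j = 0 ∨ j = 1 := by omega
    rcases hi' with rfl | rfl <;> rcases hj' with rfl | rfl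
    · rw [Pm_self_even h2]
      exact zero_mem _
    · exact hP01
    · rw [Pm_comm]
      exact hP01
    · rw [Pm_self_even h2]
      exact zero_mem _
  have hK : Known H (n - 1) := h.known_all hK1 (n - 1) (by omega) (by omega)
  have hR0 : Rm (ev 0 : Fin n → F) ∈ Acore H := by
    intro s
    have : CharP F 2 := CharTwo.of_one_ne_zero_of_two_eq_zero one_ne_zero h2
    have hch : ringChar F = 2 := ringChar.eq F 2
    obtain ⟨r, hr⟩ := FiniteField.isSquare_of_char_two hch s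
    have := h.long_root hK (r / t)
    rw [div_mul_cancel₀ _ h.ht] at this
    rwa [hr]
  exact sie_mem_of_all hK (h.diag_all hK hR0) S hS

end Cfsg.Agent.Lib.Helper7.SpReg
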