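import Mathlib
import Cfsg.Agent.Lib.Helper7.SpRegH

/-!
# Two generators of `Sp₂ₙ(F)`: the second generator and the seed (helper7)

`hEl ζ` conjugates `uReg` to `(VReg (cc ζ) ζ⁻²)⁻¹` and has central square. For a Siegel element
`z = sie Z` commuting with `uReg` and `b = hEl ζ * z`, the subgroup generated by `uReg` and `b`
contains `VReg` and the Siegel element of `cj (Lm (cc ζ)) Z - Z`.
-/

set_option autoImplicit false
set_option linter.unusedSimpArgs false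

namespace Cfsg.Agent.Lib.Helper7.SpReg

open Matrix Cfsg.Agent.H9.SpA Cfsg.Agent.Lib.Helper7.RegUnip

variable {n : ℕ} {F : Type*} [Field F]

/-- the conjugating element `diag(D, D⁻¹) · J` -/
noncomputable def hEl (n : ℕ) {F : Type*} [Field F] (ζ : F) (hζ : ζ ≠ 0) : SpG n F :=
  lev (diagonal (dd n ζ)) (diagonal (dd n ζ⁻¹)) (diag_dd_mul hζ) * Jel n F

theorem hEl_conj (hn : 2 ≤ n) {ζ : F} (hζ : ζ ≠ 0) :
    hEl n ζ hζ * uReg n F * (hEl n ζ hζ)⁻¹ = (VReg n (cc ζ) (ζ⁻¹ * ζ⁻¹))⁻¹ := by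
  rw [uReg_eq, VReg_eq]
  exact conj_of_key (Lm_mul_inv (cc ζ)) Jm_mul_inv (diag_dd_mul hζ) (isSymm_diagonal _)
    (isSymm_diagonal _) (isSymm_Rm _) (isSymm_smul (isSymm_Rm _) _) (Lm_mul_diag ζ)
    (diag_mul_Rm_last hn hζ)

theorem hEl_sq_val {ζ : F} (hζ : ζ ≠ 0) : (hEl n ζ hζ * hEl n ζ hζ).1 = -1 := by
  unfold hEl
  simp only [Submonoid.coe_mul, lev_val, Jel_val, fromBlocks_multiply, Matrix.mul_one,
    Matrix.one_mul, Matrix.mul_zero, Matrix.zero_mul, add_zero, zero_add, Matrix.mul_neg,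
    Matrix.neg_mul, neg_zero]
  have h1 : (diagonal (dd n ζ) : Matrix (Fin n) (Fin n) F) * (diagonal (dd n ζ⁻¹))ᵀ = 1 := by
    rw [diagonal_transpose]
    exact diag_dd_mul hζ
  have h2 : (diagonal (dd n ζ⁻¹) : Matrix (Fin n) (Fin n) F)ᵀ * diagonal (dd n ζ) = 1 := by
    rw [diagonal_transpose]
    exact mul_eq_one_comm.mp (diag_dd_mul hζ)
  rw [h1, h2]
  have : (-1 : Matrix (Fin n ⊕ Fin n) (Fin n ⊕ Fin n) F)
      = fromBlocks (-1 : Matrix (Fin n) (Fin n) F) 0 0 (-1) := by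
    rw [← fromBlocks_one, fromBlocks_neg, neg_zero]
  rw [this]

/-- the square of `hEl` is central -/
theorem hEl_sq_comm {ζ : F} (hζ : ζ ≠ 0) (g : SpG n F) :
    hEl n ζ hζ * hEl n ζ hζ * g = g * (hEl n ζ hζ * hEl n ζ hζ) := by
  apply Subtype.ext
  have e1 : (hEl n ζ hζ * hEl n ζ hζ * g).1 = (hEl n ζ hζ * hEl n ζ hζ).1 * g.1 := rfl
  have e2 : (g * (hEl n ζ hζ * hEl n ζ hζ)).1 = g.1 * (hEl n ζ hζ * hEl n ζ hζ).1 := rfl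
  rw [e1, e2, hEl_sq_val, Matrix.neg_mul, Matrix.mul_neg, Matrix.one_mul, Matrix.mul_one]

theorem hEl_inv_conj {ζ : F} (hζ : ζ ≠ 0) (g : SpG n F) :
    (hEl n ζ hζ)⁻¹ * g * hEl n ζ hζ = hEl n ζ hζ * g * (hEl n ζ hζ)⁻¹ := by
  have h := hEl_sq_comm hζ g
  generalize hEl n ζ hζ = x at h ⊢
  calc x⁻¹ * g * x = x⁻¹ * (g * (x * x)) * x⁻¹ := by group
    _ = x⁻¹ * (x * x * g) * x⁻¹ := by rw [h]
    _ = x * g * x⁻¹ := by group

/-- conjugating a Siegel element by an element of the opposite parabolic that kills it -/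
theorem conj_sie_opp {T A A' : Matrix (Fin n) (Fin n) F} (hT : T.IsSymm) (hA : A * A' = 1)
    {S : Matrix (Fin n) (Fin n) F} (hS : S.IsSymm) (hTS : T * S = 0) :
    (lev A A' hA * sieN T hT) * sie S hS * (lev A A' hA * sieN T hT)⁻¹
      = sie (cj A S) (isSymm_cj hS A) := by
  have e1 : (lev A A' hA * sieN T hT) * sie S hS * (lev A A' hA * sieN T hT)⁻¹
      = lev A A' hA * (sieN T hT * sie S hS * (sieN T hT)⁻¹) * (lev A A' hA)⁻¹ := by group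
  rw [e1, sieN_comm_sie hT hS hTS, mul_inv_cancel_right, lev_conj_sie]
  rfl

/-- a Siegel element fixed by the congruence with `Jm` commutes with `uReg` -/
theorem sie_comm_uReg {Z : Matrix (Fin n) (Fin n) F} (hZ : Z.IsSymm) (hJZ : cj Jm Z = Z) :
    sie Z hZ * uReg n F * (sie Z hZ)⁻¹ = uReg n F := by
  have h1 : uReg n F * sie Z hZ * (uReg n F)⁻¹ = sie Z hZ := by
    rw [uReg_eq, conj_sie_lev]
    exact sie_congr _ hJZ
  generalize sie Z hZ = z at h1 ⊢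
  generalize uReg n F = u at h1 ⊢
  have h2 : u * z = z * u := by
    calc u * z = (u * z * u⁻¹) * u := by group
      _ = z * u := by rw [h1]
  calc z * u * z⁻¹ = (u * z) * z⁻¹ := by rw [h2]
    _ = u := by group

/-- the two-generator seed -/
theorem seed_of_two (hn : 2 ≤ n) {ζ : F} (hζ : ζ ≠ 0) {H : Subgroup (SpG n F)}
    {Z : Matrix (Fin n) (Fin n) F} (hZ : Z.IsSymm) (hJZ : cj Jm Z = Z)
    (hTZ : Z *ᵥ ev (n - 1) = 0) (hu : uReg n F ∈ H) (hb : hEl n ζ hζ * sie Z hZ ∈ H) :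
    VReg n (cc ζ) (ζ⁻¹ * ζ⁻¹) ∈ H ∧ cj (Lm (cc ζ)) Z - Z ∈ Acal H := by
  have hzu := sie_comm_uReg hZ hJZ
  have hconj := hEl_conj hn hζ
  have hinv := hEl_inv_conj hζ (uReg n F)
  -- `b u b⁻¹ = V⁻¹`
  have h1 : (hEl n ζ hζ * sie Z hZ) * uReg n F * (hEl n ζ hζ * sie Z hZ)⁻¹
      = (VReg n (cc ζ) (ζ⁻¹ * ζ⁻¹))⁻¹ := by
    rw [← hconj]
    generalize hEl n ζ hζ = x at *
    generalize sie Z hZ = z at *
    generalize uReg n F = u at *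
    calc x * z * u * (x * z)⁻¹ = x * (z * u * z⁻¹) * x⁻¹ := by group
      _ = x * u * x⁻¹ := by rw [hzu]
  -- `b⁻¹ u b = z⁻¹ V⁻¹ z`
  have h2 : (hEl n ζ hζ * sie Z hZ)⁻¹ * uReg n F * (hEl n ζ hζ * sie Z hZ)
      = (sie Z hZ)⁻¹ * (VReg n (cc ζ) (ζ⁻¹ * ζ⁻¹))⁻¹ * sie Z hZ := by
    rw [← hconj, ← hinv]
    group
  have hV : VReg n (cc ζ) (ζ⁻¹ * ζ⁻¹) ∈ H := by
    have := H.inv_mem (H.mul_mem (H.mul_mem hb hu) (H.inv_mem hb))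
    rwa [h1, inv_inv] at this
  refine ⟨hV, ?_⟩
  have h3 : (sie Z hZ)⁻¹ * (VReg n (cc ζ) (ζ⁻¹ * ζ⁻¹))⁻¹ * sie Z hZ ∈ H := by
    rw [← h2]
    exact H.mul_mem (H.mul_mem (H.inv_mem hb) hu) hb
  have h4 := H.mul_mem hV h3
  -- `V z⁻¹ V⁻¹ z = sie (Z - cj L Z)`
  have hT : (ζ⁻¹ * ζ⁻¹) • Rm (ev (n - 1) : Fin n → F) * (-Z) = 0 := by
    rw [Matrix.mul_neg, last_mul_eq_zero hZ hTZ, neg_zero]
  have e : VReg n (cc ζ) (ζ⁻¹ * ζ⁻¹)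
      * ((sie Z hZ)⁻¹ * (VReg n (cc ζ) (ζ⁻¹ * ζ⁻¹))⁻¹ * sie Z hZ)
      = sie (cj (Lm (cc ζ)) (-Z) + Z) ((isSymm_cj hZ.neg _).add hZ) := by
    have e1 : VReg n (cc ζ) (ζ⁻¹ * ζ⁻¹)
        * ((sie Z hZ)⁻¹ * (VReg n (cc ζ) (ζ⁻¹ * ζ⁻¹))⁻¹ * sie Z hZ)
        = (VReg n (cc ζ) (ζ⁻¹ * ζ⁻¹) * (sie Z hZ)⁻¹ * (VReg n (cc ζ) (ζ⁻¹ * ζ⁻¹))⁻¹)
          * sie Z hZ := by group
    rw [e1, sie_inv, VReg_eq, conj_sie_opp _ _ hZ.neg hT, sie_mul_sie]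
  rw [e] at h4
  have h5 : cj (Lm (cc ζ)) (-Z) + Z ∈ Acal H := ⟨_, h4⟩
  have h6 := neg_mem h5
  have e2 : -(cj (Lm (cc ζ)) (-Z) + Z) = cj (Lm (cc ζ)) Z - Z := by
    rw [map_neg]
    abel
  rwa [e2] at h6

end Cfsg.Agent.Lib.Helper7.SpReg
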