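import Mathlib
import Cfsg.Agent.Lib.Helper7.SpRegJ
import Cfsg.Agent.Lib.Helper7.SpRegK
import Cfsg.Agent.Lib.Helper7.SpRegL

/-!
# `Sp₂ₙ(F)` is generated by two elements: odd `q`, and even `q` with `n ≥ 3` (helper7)
-/

set_option autoImplicit false

namespace Cfsg.Agent.Lib.Helper7.SpReg

open Matrix Cfsg.Agent.H9.SpA Cfsg.Agent.Lib.Helper7.RegUnip Cfsg.Agent.SpRU

variable {F : Type*} [Field F] [Fintype F]

/-- odd characteristic, all `n ≥ 2` -/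
theorem two_gen_odd {n : ℕ} (hn : 2 ≤ n) (h2 : (2 : F) ≠ 0) :
    ∃ a b : SpG n F, Subgroup.closure ({a, b} : Set (SpG n F)) = ⊤ := by
  obtain ⟨k, rfl⟩ : ∃ k, n = k + 1 := ⟨n - 1, by omega⟩
  obtain ⟨ζ, hζ0, hgen⟩ := exists_gen F
  refine ⟨uReg (k + 1) F, hEl (k + 1) ζ hζ0 * sie (Rm (ev 0)) (isSymm_Rm _), ?_⟩
  have ht : ζ⁻¹ * ζ⁻¹ ≠ 0 := mul_ne_zero (inv_ne_zero hζ0) (inv_ne_zero hζ0)
  have hu : uReg (k + 1) F ∈ Subgroup.closure ({uReg (k + 1) F,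
      hEl (k + 1) ζ hζ0 * sie (Rm (ev 0)) (isSymm_Rm _)} : Set (SpG (k + 1) F)) :=
    Subgroup.subset_closure (by simp)
  have hb : hEl (k + 1) ζ hζ0 * sie (Rm (ev 0)) (isSymm_Rm _) ∈ Subgroup.closure ({uReg (k + 1) F,
      hEl (k + 1) ζ hζ0 * sie (Rm (ev 0)) (isSymm_Rm _)} : Set (SpG (k + 1) F)) :=
    Subgroup.subset_closure (by simp)
  obtain ⟨hV, hseed⟩ := seed_of_two hn hζ0 (isSymm_Rm _) cjJ_Rm_zero
    (Rm_mulVec_last 0 (by omega)) hu hb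
  have ctx : Ctx (Subgroup.closure ({uReg (k + 1) F,
      hEl (k + 1) ζ hζ0 * sie (Rm (ev 0)) (isSymm_Rm _)} : Set (SpG (k + 1) F)))
      (cc ζ) (ζ⁻¹ * ζ⁻¹) := ⟨hn, cc_ne_zero hζ0, ht, hu, hV⟩
  have hall := ctx.all_sie_odd' h2 (by rw [cc_zero]; exact hgen) 1 one_ne_zero
    (by rw [one_smul]; exact hseed)
  exact eq_top_of_all_sie (cc_ne_zero hζ0) ht hV hall

/-- characteristic two, `n ≥ 3` -/
theorem two_gen_even {n : ℕ} (hn : 3 ≤ n) (h2 : (2 : F) = 0) :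
    ∃ a b : SpG n F, Subgroup.closure ({a, b} : Set (SpG n F)) = ⊤ := by
  obtain ⟨k, rfl⟩ : ∃ k, n = k + 1 := ⟨n - 1, by omega⟩
  obtain ⟨ζ, hζ0, hgen⟩ := exists_gen F
  refine ⟨uReg (k + 1) F, hEl (k + 1) ζ hζ0 * sie (Pm (ev 0) (ev 1)) (isSymm_Pm _ _), ?_⟩
  have ht : ζ⁻¹ * ζ⁻¹ ≠ 0 := mul_ne_zero (inv_ne_zero hζ0) (inv_ne_zero hζ0)
  have hu : uReg (k + 1) F ∈ Subgroup.closure ({uReg (k + 1) F,
      hEl (k + 1) ζ hζ0 * sie (Pm (ev 0) (ev 1)) (isSymm_Pm _ _)} : Set (SpG (k + 1) F)) :=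
    Subgroup.subset_closure (by simp)
  have hb : hEl (k + 1) ζ hζ0 * sie (Pm (ev 0) (ev 1)) (isSymm_Pm _ _) ∈
      Subgroup.closure ({uReg (k + 1) F,
      hEl (k + 1) ζ hζ0 * sie (Pm (ev 0) (ev 1)) (isSymm_Pm _ _)} : Set (SpG (k + 1) F)) :=
    Subgroup.subset_closure (by simp)
  obtain ⟨hV, hseed⟩ := seed_of_two (by omega) hζ0 (isSymm_Pm _ _) (cjJ_Pm01_even h2 hn)
    (Pm_mulVec_last 0 1 (by omega) (by omega)) hu hb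
  have ctx : Ctx (Subgroup.closure ({uReg (k + 1) F,
      hEl (k + 1) ζ hζ0 * sie (Pm (ev 0) (ev 1)) (isSymm_Pm _ _)} : Set (SpG (k + 1) F)))
      (cc ζ) (ζ⁻¹ * ζ⁻¹) := ⟨by omega, cc_ne_zero hζ0, ht, hu, hV⟩
  have hall := ctx.all_sie_even' h2 hn (by rw [cc_zero, cc_one, mul_one]; exact hgen) 1 one_ne_zero
    (by rw [one_smul]; exact hseed)
  exact eq_top_of_all_sie (cc_ne_zero hζ0) ht hV hall

end Cfsg.Agent.Lib.Helper7.SpReg
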