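import Mathlib
import Cfsg.Prelude.Def_FusionSystem
import Cfsg.Agent.Lib.Helper7.ModelConstrained
import Cfsg.Agent.Lib.Helper7.FusionSat

set_option autoImplicit false

namespace Cfsg.Agent.Lib.Helper7.Sparse

open Cfsg Cfsg.FusionSystem Cfsg.Agent.Lib.Helper7

variable {Ω : Type*} [Group Ω] {G : Type*} [Group G]

/-- The fusion system over `Q` induced by an injective homomorphism `ι : Q →* G`. -/
noncomputable def pullSystem (Q : Subgroup Ω) (ι : Q →* G) (hinj : Function.Injective ι) :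
    FusionSystem Q where
  Hom P := {φ | ∃ (hP : P ≤ Q) (hφ : ∀ x : P, φ x ∈ Q), ∃ g : G, ∀ x : P,
      ι ⟨φ x, hφ x⟩ = g * ι ⟨x, hP x.2⟩ * g⁻¹}
  le_of_mem := by
    rintro P φ ⟨hP, hφ, -⟩
    exact ⟨hP, hφ⟩
  injective_of_mem := by
    rintro P φ ⟨hP, hφ, n, hn⟩ a b hab
    have h1 : ι ⟨φ a, hφ a⟩ = ι ⟨φ b, hφ b⟩ := by
      congr 1; exact Subtype.ext hab
    rw [hn a, hn b] at h1
    have h2 := hinj (mul_left_cancel (mul_right_cancel h1))
    exact Subtype.ext (congrArg (fun s : Q => (s : Ω)) h2)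
  conj_mem := by
    intro P g hP hg
    have hval : ∀ x : P, conjHom P g x ∈ Q := fun x =>
      Q.mul_mem (Q.mul_mem hg (hP x.2)) (Q.inv_mem hg)
    refine ⟨hP, hval, ι ⟨g, hg⟩, fun x => ?_⟩
    rw [← map_inv, ← map_mul, ← map_mul]
    congr 1
  comp_mem := by
    rintro P R φ ψ ⟨hP, hφ, n, hne⟩ ⟨hR, hψ, m, hme⟩ h
    refine ⟨hP, fun x => hψ _, m * n, fun x => ?_⟩
    show ι ⟨ψ ⟨φ x, h x⟩, _⟩ = _
    rw [hme ⟨φ x, h x⟩]
    show m * ι ⟨φ x, _⟩ * m⁻¹ = _
    rw [hne x]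
    group
  inv_mem := by
    rintro P φ ⟨hP, hφ, n, hne⟩
    have hφinj : Function.Injective φ := by
      intro a b hab
      have h1 : ι ⟨φ a, hφ a⟩ = ι ⟨φ b, hφ b⟩ := by
        congr 1; exact Subtype.ext hab
      rw [hne a, hne b] at h1
      have h2 := hinj (mul_left_cancel (mul_right_cancel h1))
      exact Subtype.ext (congrArg (fun s : Q => (s : Ω)) h2)
    set e := MonoidHom.ofInjective hφinj with he
    have hsymm : ∀ x : P, e.symm ⟨φ x, ⟨x, rfl⟩⟩ = x := by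
      intro x
      apply e.injective
      rw [MulEquiv.apply_symm_apply]
      exact Subtype.ext rfl
    have hrange : φ.range ≤ Q := by
      rintro _ ⟨x, rfl⟩; exact hφ x
    refine ⟨P.subtype.comp e.symm.toMonoidHom, ⟨hrange, fun y => hP (e.symm y).2, n⁻¹, ?_⟩,
      fun x => ?_⟩
    · rintro ⟨_, x, rfl⟩
      show ι ⟨((e.symm ⟨φ x, ⟨x, rfl⟩⟩ : P) : Ω), _⟩ = n⁻¹ * ι ⟨φ x, _⟩ * n⁻¹⁻¹
      have h3 := hne x
      have h4 : ι ⟨((e.symm ⟨φ x, ⟨x, rfl⟩⟩ : P) : Ω), hP (e.symm ⟨φ x, ⟨x, rfl⟩⟩).2⟩ =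
          ι ⟨x, hP x.2⟩ := by
        congr 1
        exact Subtype.ext (congrArg (fun s : P => (s : Ω)) (hsymm x))
      rw [h4]
      have h5 : ι ⟨φ x, hrange ⟨x, rfl⟩⟩ = ι ⟨φ x, hφ x⟩ := rfl
      rw [h5, h3]
      group
    · show ((e.symm ⟨φ x, ⟨x, rfl⟩⟩ : P) : Ω) = x
      rw [hsymm x]

theorem pullSystem_isRealizedBy (Q : Subgroup Ω) (ι : Q →* G) (hinj : Function.Injective ι) :
    (pullSystem Q ι hinj).IsRealizedBy ι := by
  refine ⟨hinj, fun P hP φ hφ => ⟨?_, ?_⟩⟩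
  · rintro ⟨_, _, g, hg⟩
    exact ⟨g, hg⟩
  · rintro ⟨g, hg⟩
    exact ⟨hP, hφ, g, hg⟩

/-- The semidirect product of `Q` with the cyclic group generated by an automorphism. -/
abbrev SD (Q : Subgroup Ω) (β : MulAut Q) :=
  SemidirectProduct ↥Q ↥(Subgroup.zpowers β) (Subgroup.zpowers β).subtype

theorem sd_conj (Q : Subgroup Ω) (β : MulAut Q) (g : SD Q β) (x : Q) :
    g * SemidirectProduct.inl x * g⁻¹ =
      SemidirectProduct.inl (g.left * ((g.right : MulAut Q) x) * g.left⁻¹) := by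
  apply SemidirectProduct.ext
  · simp only [SemidirectProduct.mul_left, SemidirectProduct.mul_right, SemidirectProduct.inv_left,
      SemidirectProduct.left_inl, SemidirectProduct.right_inl, mul_one,
      Subgroup.coe_subtype, map_inv]
    simp
  · simp

/-- The system over `Q` generated by `Inn(Q)` and `β`. -/
noncomputable def betaSystem (Q : Subgroup Ω) (β : MulAut Q) : FusionSystem Q :=
  pullSystem Q (SemidirectProduct.inl : ↥Q →* SD Q β) SemidirectProduct.inl_injective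

theorem mem_betaSystem_iff (Q : Subgroup Ω) (β : MulAut Q) (P : Subgroup Ω) (φ : P →* Ω) :
    φ ∈ (betaSystem Q β).Hom P ↔ ∃ (hP : P ≤ Q) (a : Q) (b : MulAut Q), b ∈ Subgroup.zpowers β ∧
      ∀ x : P, φ x = ((a * b ⟨x, hP x.2⟩ * a⁻¹ : Q) : Ω) := by
  constructor
  · rintro ⟨hP, hφ, g, hg⟩
    refine ⟨hP, g.left, (g.right : MulAut Q), g.right.2, fun x => ?_⟩
    have h1 := hg x
    rw [sd_conj] at h1
    have h2 := SemidirectProduct.inl_injective h1
    exact congrArg (fun z : Q => (z : Ω)) h2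
  · rintro ⟨hP, a, b, hb, hφ⟩
    have hval : ∀ x : P, φ x ∈ Q := fun x => by rw [hφ x]; exact (a * b ⟨x, hP x.2⟩ * a⁻¹).2
    refine ⟨hP, hval, ⟨a, ⟨b, hb⟩⟩, fun x => ?_⟩
    rw [sd_conj]
    congr 1
    exact Subtype.ext (hφ x)

theorem betaSystem_isSaturated (p : ℕ) [Fact p.Prime] (Q : Subgroup Ω) [Finite Q] (hQ : IsPGroup p Q)
    (β : MulAut Q) (hβ : ¬ p ∣ orderOf β) : (betaSystem Q β).IsSaturated p := by
  have hfinA : Finite (MulAut Q) := Finite.of_injective (fun f : MulAut Q => (f : Q → Q))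
    (fun f g h => MulEquiv.ext (congrFun h))
  have hfinZ : Finite ↥(Subgroup.zpowers β) := inferInstance
  have hfinG : Finite (SD Q β) := Finite.of_equiv _ SemidirectProduct.equivProd.symm
  set ι : ↥Q →* SD Q β := SemidirectProduct.inl with hι
  have hinj : Function.Injective ι := SemidirectProduct.inl_injective
  have hrange : IsPGroup p ι.range := hQ.of_equiv (MonoidHom.ofInjective hinj)
  have hcard : Nat.card (SD Q β) = Nat.card Q * orderOf β := by
    rw [SemidirectProduct.card, Nat.card_zpowers]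
  have hcr : Nat.card ι.range = Nat.card Q := (Nat.card_congr (MonoidHom.ofInjective hinj).toEquiv).symm
  have hindex : ι.range.index = orderOf β := by
    have h1 := ι.range.card_mul_index
    rw [hcr, hcard] at h1
    exact Nat.eq_of_mul_eq_mul_left Nat.card_pos h1
  have hnd : ¬ p ∣ ι.range.index := by rw [hindex]; exact hβ
  exact isSaturated_of_isRealizedBy_sylow p (betaSystem Q β) ι
    (pullSystem_isRealizedBy Q ι hinj) (hrange.toSylow hnd) (IsPGroup.toSylow_coe hrange hnd)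

end Cfsg.Agent.Lib.Helper7.Sparse
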