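import Mathlib
import Cfsg.Prelude.Def_FusionSystem
import Cfsg.Agent.Lib.Helper7.SparseA
import Cfsg.Agent.Lib.Helper7.FusionInner
import Cfsg.Agent.Lib.Helper7.FusionNormal
import Cfsg.Agent.Lib.Helper7.FusionEssential
import Cfsg.Agent.Lib.Helper7.StrongInv
import Cfsg.Agent.Lib.Helper7.FusionSat2
import Cfsg.Agent.Lib.Helper7.FusionGrun
import Cfsg.Agent.Lib.Helper7.FusionHyperfocal
import Cfsg.Agent.Lib.Helper7.FusionFocal
import Cfsg.Agent.Lib.Helper7.Stability
import Cfsg.Agent.Lib.Helper7.ConstrNormalB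

set_option autoImplicit false

namespace Cfsg.Agent.Lib.Helper7.Sparse

open Cfsg Cfsg.FusionSystem Cfsg.Agent.Lib.Helper7

variable {Ω : Type*} [Group Ω] {S : Subgroup Ω}

theorem exists_prime_order_of_not_isPGroup {A : Type*} [Group A] [Finite A] (p : ℕ) [Fact p.Prime]
    (h : ¬ IsPGroup p A) : ∃ (q : ℕ) (β : A), q.Prime ∧ q ≠ p ∧ orderOf β = q := by
  by_contra hcon
  apply h
  have h1 : ∀ {d : ℕ}, d.Prime → d ∣ Nat.card A → d = p := by
    intro d hd hdvd
    by_contra hne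
    have : Fact d.Prime := ⟨hd⟩
    obtain ⟨x, hx⟩ := exists_prime_orderOf_dvd_card' d hdvd
    exact hcon ⟨d, x, hd, hne, hx⟩
  exact IsPGroup.of_card (Nat.eq_prime_pow_of_unique_prime_dvd Nat.card_pos.ne' h1)

theorem betaSystem_sub (F : FusionSystem S) {Q : Subgroup Ω} (hQ : Q ≤ S) {β : MulAut Q}
    (hβ : β ∈ F.autGroup Q) : (betaSystem Q β).IsSubsystemOf F := by
  intro P φ hφ
  rw [mem_betaSystem_iff] at hφ
  obtain ⟨hP, a, b, hb, hφ⟩ := hφ
  have hbA : b ∈ F.autGroup Q := (Subgroup.zpowers_le.mpr hβ) hb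
  have h1 := (mem_autGroup_iff F hQ b).mp hbA
  have h2 := fs_restrict_mem F hP h1
  have h3 : conjHom Q (a : Ω) ∈ F.Hom Q := F.conj_mem hQ (hQ a.2)
  refine fs_comp_mem_of_agree F h2 h3 (fun x => (b ⟨x, hP x.2⟩).2) φ (fun x => ?_)
  rw [hφ x]
  simp [conjHom]
  rfl

theorem betaSystem_self_mem (Q : Subgroup Ω) (β : MulAut Q) :
    Q.subtype.comp β.toMonoidHom ∈ (betaSystem Q β).Hom Q := by
  rw [mem_betaSystem_iff]
  exact ⟨le_rfl, 1, β, Subgroup.mem_zpowers β, fun x => by simp⟩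

theorem betaSystem_not_inner (p : ℕ) [Fact p.Prime] {Q : Subgroup Ω} (hQ : IsPGroup p Q)
    {β : MulAut Q} {q : ℕ} (hq : q.Prime) (hqp : q ≠ p) (hβq : orderOf β = q) :
    ¬ ∀ P : Subgroup Ω, (betaSystem Q β).Hom P = (innerFusionSystem Q).Hom P := by
  intro h
  have h1 := betaSystem_self_mem Q β
  rw [h Q] at h1
  obtain ⟨-, g, hg, hge⟩ := h1
  have hβI : β ∈ Inn Q := by
    refine ⟨⟨g, hg⟩, ?_⟩
    ext x
    simp only [MulAut.conj_apply]
    have := hge x
    simp only [MonoidHom.coe_comp, Subgroup.coe_subtype, Function.comp_apply, MulEquiv.coe_toMonoidHom] at this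
    rw [this]
    simp
  obtain ⟨n, hn⟩ := (isPGroup_inn hQ) ⟨β, hβI⟩
  have h2 : β ^ p ^ n = 1 := congrArg Subtype.val hn
  have h3 := orderOf_dvd_of_pow_eq_one h2
  rw [hβq] at h3
  have h4 := (Nat.prime_dvd_prime_iff_eq hq Fact.out).mp (hq.dvd_of_dvd_pow h3)
  exact hqp h4

/-- The sparse hypothesis. -/
def IsSparse (p : ℕ) (F : FusionSystem S) : Prop :=
  ∀ (T : Subgroup Ω) (E : Cfsg.FusionSystem T), E.IsSaturated p → E.IsSubsystemOf F →
    (T = S ∧ ∀ P : Subgroup Ω, E.Hom P = F.Hom P) ∨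
      (∀ P : Subgroup Ω, E.Hom P = (Cfsg.innerFusionSystem T).Hom P)

/-- Step B: proper subgroups have `p`-groups of automorphisms. -/
theorem isPGroup_autGroup_of_ne [Finite S] (p : ℕ) [Fact p.Prime] (hS : IsPGroup p S)
    (F : FusionSystem S) (hsp : IsSparse p F) {Q : Subgroup Ω} (hQ : Q ≤ S) (hne : Q ≠ S) :
    IsPGroup p (F.autGroup Q) := by
  have hfinQ := finite_of_le hQ
  have hfinA : Finite (MulAut Q) := Finite.of_injective (fun f : MulAut Q => (f : Q → Q))
    (fun f g h => MulEquiv.ext (congrFun h))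
  by_contra hcon
  obtain ⟨q, β, hq, hqp, hβq⟩ := exists_prime_order_of_not_isPGroup p hcon
  have hβq' : orderOf (β : MulAut Q) = q := by rw [Subgroup.orderOf_coe]; exact hβq
  have hQp : IsPGroup p Q := hS.to_le hQ
  have hnd : ¬ p ∣ orderOf (β : MulAut Q) := by
    rw [hβq']
    intro hd
    exact hqp ((Nat.prime_dvd_prime_iff_eq Fact.out hq).mp hd).symm
  have hsat := betaSystem_isSaturated p Q hQp (β : MulAut Q) hnd
  rcases hsp Q _ hsat (betaSystem_sub F hQ β.2) with ⟨h1, -⟩ | h2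
  · exact hne h1
  · exact betaSystem_not_inner p hQp hq hqp hβq' h2

/-- Step C/D: `S` is normal in a sparse system. -/
theorem isNormal_top_of_sparse [Finite S] (p : ℕ) [Fact p.Prime] (hS : IsPGroup p S)
    (F : FusionSystem S) (hF : F.IsSaturated p) (hsp : IsSparse p F) : F.IsNormal S := by
  rw [isNormal_iff_essential_invariant p hS F hF]
  have key : ∀ α ∈ F.autGroup S, (S.subgroupOf S).map α.toMonoidHom = S.subgroupOf S := by
    intro α _
    rw [Subgroup.subgroupOf_self]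
    rw [← MonoidHom.range_eq_map]
    exact MonoidHom.range_eq_top.mpr α.surjective
  intro P hP
  by_cases hPS : P = S
  · subst hPS
    exact ⟨le_rfl, key⟩
  · rcases hP with h | hess
    · exact absurd h hPS
    · exact absurd hess (not_isEssential_of_isPGroup p F
        (isPGroup_autGroup_of_ne p hS F hsp hess.1.1 hPS))

/-- Step E. -/
theorem exists_beta_of_sparse [Finite S] (p : ℕ) [Fact p.Prime] (hS : IsPGroup p S)
    (F : FusionSystem S) (hF : F.IsSaturated p)
    (hni : ¬ (∀ P : Subgroup Ω, F.Hom P = (Cfsg.innerFusionSystem S).Hom P)) (hsp : IsSparse p F) :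
    ∃ (q : ℕ) (β : MulAut ↥S), q.Prime ∧ q ≠ p ∧ β ∈ F.autGroup S ∧ orderOf β = q ∧
      (F.autGroup S : Subgroup (MulAut ↥S)) = Cfsg.Inn ↥S ⊔ Subgroup.zpowers β := by
  have hfinA : Finite (MulAut S) := Finite.of_injective (fun f : MulAut S => (f : S → S))
    (fun f g h => MulEquiv.ext (congrFun h))
  have hnp : ¬ IsPGroup p (F.autGroup S) := by
    intro h
    apply hni
    have h1 := eq_innerFusionSystem_of_isPGroup p hS F hF (fun P hP => by
      by_cases hPS : P = S
      · subst hPS; exact h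
      · exact isPGroup_autGroup_of_ne p hS F hsp hP hPS)
    intro P
    rw [h1]
  obtain ⟨q, β, hq, hqp, hβq⟩ := exists_prime_order_of_not_isPGroup p hnp
  have hβq' : orderOf (β : MulAut S) = q := by rw [Subgroup.orderOf_coe]; exact hβq
  have hnd : ¬ p ∣ orderOf (β : MulAut S) := by
    rw [hβq']
    intro hd
    exact hqp ((Nat.prime_dvd_prime_iff_eq Fact.out hq).mp hd).symm
  have hsat := betaSystem_isSaturated p S hS (β : MulAut S) hnd
  refine ⟨q, (β : MulAut S), hq, hqp, β.2, hβq', ?_⟩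
  rcases hsp S _ hsat (betaSystem_sub F le_rfl β.2) with ⟨-, h1⟩ | h2
  · apply le_antisymm
    · intro α hα
      have h2 := (mem_autGroup_iff F le_rfl α).mp hα
      rw [← h1 S, mem_betaSystem_iff] at h2
      obtain ⟨hSS, a, b, hb, hab⟩ := h2
      have e : α = MulAut.conj a * b := by
        ext x
        have := hab x
        simp only [MonoidHom.coe_comp, Subgroup.coe_subtype, Function.comp_apply,
          MulEquiv.coe_toMonoidHom] at this
        rw [this]
        simp [MulAut.conj_apply]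
      rw [e]
      exact Subgroup.mul_mem _ (Subgroup.mem_sup_left ⟨a, rfl⟩) (Subgroup.mem_sup_right hb)
    · exact sup_le (inn_le_autGroup F le_rfl) (Subgroup.zpowers_le.mpr β.2)
  · exact absurd h2 (betaSystem_not_inner p hS hq hqp hβq')

/-- Restriction of an automorphism of `S` in the system to a strongly closed subgroup. -/
theorem exists_restrict_aut [Finite S] (F : FusionSystem S) {H : Subgroup Ω}
    (hH : F.StronglyClosed H) {β : MulAut S} (hβ : β ∈ F.autGroup S) :
    ∃ k ∈ F.autGroup H, ∀ x : H, β (Subgroup.inclusion hH.1 x) = Subgroup.inclusion hH.1 (k x) := by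
  have hfinH := finite_of_le hH.1
  have h1 := (mem_autGroup_iff F le_rfl β).mp hβ
  have h2 := fs_restrict_mem F hH.1 h1
  have hmem : ∀ x : H, ((β (Subgroup.inclusion hH.1 x) : S) : Ω) ∈ H :=
    fun x => hH.2 H le_rfl _ h2 x
  obtain ⟨k, hk⟩ := exists_restrict_mulAut hH.1 β hmem
  refine ⟨k, ?_, fun x => Subtype.ext (hk x)⟩
  rw [mem_autGroup_iff F hH.1]
  convert h2 using 1
  ext x
  exact (hk x).symm

/-- Step F. -/
theorem hyperfocal_eq_of_sparse [Finite S] (p : ℕ) [Fact p.Prime] (hS : IsPGroup p S)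
    (F : FusionSystem S) (hF : F.IsSaturated p) (hsp : IsSparse p F) {q : ℕ} {β : MulAut S}
    (hq : q.Prime) (hqp : q ≠ p) (hβ : β ∈ F.autGroup S) (hβq : orderOf β = q) :
    F.hyperfocalSubgroup p = S := by
  have hHS : F.hyperfocalSubgroup p ≤ S := hyperfocalSubgroup_le F p
  have hsc : F.StronglyClosed (F.hyperfocalSubgroup p) := hyperfocalSubgroup_stronglyClosed p hS F hF
  by_contra hne
  have hAp := isPGroup_autGroup_of_ne p hS F hsp hHS hne
  obtain ⟨k, hk, hkβ⟩ := exists_restrict_aut F hsc hβ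
  obtain ⟨n, hn⟩ := hAp ⟨k, hk⟩
  have hkn : k ^ p ^ n = 1 := congrArg Subtype.val hn
  have hkq : k ^ q = 1 := by
    ext x
    have h1 := pow_apply_of_extends hHS k β hkβ q x
    rw [← hβq, pow_orderOf_eq_one] at h1
    have h2 := congrArg (fun z : S => (z : Ω)) h1
    rw [hβq] at h2
    exact h2.symm
  have hk1 : k = 1 := by
    have h1 := orderOf_dvd_of_pow_eq_one hkn
    have h2 := orderOf_dvd_of_pow_eq_one hkq
    have hcop : Nat.Coprime (p ^ n) q :=
      Nat.Coprime.pow_left n ((Nat.coprime_primes Fact.out hq).mpr (Ne.symm hqp))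
    exact orderOf_eq_one_iff.mp (Nat.eq_one_of_dvd_coprimes hcop h1 h2)
  -- β fixes H pointwise
  have hfix : ∀ x : S, (x : Ω) ∈ F.hyperfocalSubgroup p → β x = x := by
    intro x hx
    have := hkβ ⟨x, hx⟩
    rw [hk1] at this
    exact this
  have hcomm : ∀ x : S, ((x : Ω)⁻¹ * ((β x : S) : Ω)) ∈ F.hyperfocalSubgroup p := by
    intro x
    apply Subgroup.subset_closure
    refine ⟨S, ⟨β, hβ⟩, x, le_rfl, ?_, rfl⟩
    apply Subgroup.subset_closure
    show Nat.Coprime (orderOf (⟨β, hβ⟩ : F.autGroup S)) p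
    rw [← Subgroup.orderOf_coe]
    show Nat.Coprime (orderOf β) p
    rw [hβq]
    exact (Nat.coprime_primes hq Fact.out).mpr hqp
  have hAinv : ∀ i, ∀ α ∈ F.autGroup S, ∀ x ∈ ConstrNormal.chainQ (P := S) (F.hyperfocalSubgroup p) i,
      α x ∈ ConstrNormal.chainQ (P := S) (F.hyperfocalSubgroup p) i := by
    intro i α hα x hx
    match i, hx with
    | 0, hx =>
      have hx' : x = 1 := Subgroup.mem_bot.mp hx
      rw [hx', map_one]
      exact Subgroup.one_mem _
    | 1, hx =>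
      show α x ∈ (F.hyperfocalSubgroup p).subgroupOf S
      rw [Subgroup.mem_subgroupOf]
      have hxH : (x : Ω) ∈ F.hyperfocalSubgroup p := Subgroup.mem_subgroupOf.mp hx
      have h1 := (mem_autGroup_iff F le_rfl α).mp hα
      have h2 := fs_restrict_mem F hHS h1
      exact hsc.2 _ le_rfl _ h2 ⟨x, hxH⟩
    | (n + 2), hx => exact Subgroup.mem_top _
  have hstabp := isPGroup_stabChain hS (F.autGroup S)
    (ConstrNormal.chainQ (P := S) (F.hyperfocalSubgroup p)) 2 hAinv rfl rfl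
  have hβs : β ∈ stabChain (F.autGroup S) (ConstrNormal.chainQ (P := S) (F.hyperfocalSubgroup p)) 2
      hAinv := by
    refine ⟨hβ, fun i hi x hx => ?_⟩
    match i, hi, hx with
    | 0, _, hx =>
      have hxH : (x : Ω) ∈ F.hyperfocalSubgroup p := Subgroup.mem_subgroupOf.mp hx
      rw [hfix x hxH, inv_mul_cancel]
      exact Subgroup.one_mem _
    | 1, _, hx =>
      show x⁻¹ * β x ∈ (F.hyperfocalSubgroup p).subgroupOf S
      rw [Subgroup.mem_subgroupOf]
      exact hcomm x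
  obtain ⟨m, hm⟩ := hstabp ⟨β, hβs⟩
  have hβm : β ^ p ^ m = 1 := congrArg Subtype.val hm
  have h3 := orderOf_dvd_of_pow_eq_one hβm
  rw [hβq] at h3
  exact hqp ((Nat.prime_dvd_prime_iff_eq hq Fact.out).mp (hq.dvd_of_dvd_pow h3))

end Cfsg.Agent.Lib.Helper7.Sparse
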