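import Mathlib
import Cfsg.Prelude.Def_FusionSystem
import Cfsg.Prelude.Def_FusionReduction
import Cfsg.Prelude.Def_FusionComponents
import Cfsg.Agent.Lib.Helper7.GTFf
import Cfsg.Agent.Lib.Helper7.QdQe
import Cfsg.Agent.Lib.Helper7.ZJKa
import Cfsg.Agent.Lib.Helper7.ThA1

/-!
# Sparse fusion systems are constrained (Glesser), for `p` odd or `S₄`-free systems
-/

set_option autoImplicit false

namespace Cfsg.Agent.Lib.Helper7.SparseC

open Cfsg Cfsg.FusionSystem Cfsg.Agent.Lib.Helper7 Cfsg.Agent.Lib.Helper7.WCtl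
  Cfsg.Agent.Lib.Helper7.TNP Cfsg.Agent.Lib.Helper7.GTF

universe u

variable {Ω : Type u} [Group Ω] {S : Subgroup Ω}

/-- the sparse hypothesis, over the same `S` -/
def IsSparseS (p : ℕ) (F : FusionSystem S) : Prop :=
  ∀ E : FusionSystem S, E.IsSaturated p → E.IsSubsystemOf F →
    (∀ P : Subgroup Ω, E.Hom P = F.Hom P) ∨
      (∀ P : Subgroup Ω, E.Hom P = (innerFusionSystem S).Hom P)

theorem castSystem_isSaturated {S T : Subgroup Ω} (h : S = T) (F : FusionSystem S) (p : ℕ) :
    (ZJK.castSystem h F).IsSaturated p ↔ F.IsSaturated p := by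
  subst h
  rfl

/-- in a sparse system, the normalizer system of a subgroup normal in `S` but not in `F` is inner -/
theorem NIn_of_sparse [Finite S] {p : ℕ} [Fact p.Prime] (hS : IsPGroup p S) (F : FusionSystem S)
    (hF : F.IsSaturated p) (hsp : IsSparseS p F) {R : Subgroup Ω} (hRS : R ≤ S)
    (hSR : S ≤ Subgroup.normalizer (R : Set Ω)) (hnn : ¬ F.IsNormal R) : NIn F R := by
  have hTeq : normalizerIn S R = S := inf_eq_left.mpr hSR
  obtain ⟨N, hN⟩ := exists_normalizerSystem F R hRS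
  have hRfn : F.IsFullyNormalized R :=
    Cfsg.Agent.Lib.Helper7.MaxClass.isFullyNormalized_of_normalizer F hRS hSR
  have hNsat := normalizerSystem_isSaturated p hS F hF R hRfn N hN
  have hN'sat : (ZJK.castSystem hTeq N).IsSaturated p :=
    (castSystem_isSaturated hTeq N p).mpr hNsat
  have hsub : (ZJK.castSystem hTeq N).IsSubsystemOf F := by
    intro P φ hφ
    rw [ZJK.castSystem_hom, hN P] at hφ
    exact hφ.1
  rcases hsp _ hN'sat hsub with h | h
  · exfalso
    apply hnn
    apply isNormal_of_forall_mem F hRS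
    intro P φ hφ
    rw [← h P, ZJK.castSystem_hom, hN P] at hφ
    exact hφ
  · intro X φ hφ
    rw [← hN X, ← ZJK.castSystem_hom hTeq N X, h X] at hφ
    obtain ⟨-, s, hs, hsφ⟩ := hφ
    exact ⟨s, hs, hsφ⟩

/-- maps of the centralizer system are maps of the normalizer system -/
theorem centralizerHom_subset_normalizerHom (F : FusionSystem S) {Z X : Subgroup Ω} {φ : X →* Ω}
    (h : φ ∈ F.centralizerHom Z X) : φ ∈ F.normalizerHom Z X := by
  obtain ⟨hφ, hX, hφC, ψ, hψ, hext, hfix⟩ := h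
  have hle : centralizerIn S Z ≤ normalizerIn S Z :=
    inf_le_inf_left S (Subgroup.centralizer_le_normalizer _)
  refine ⟨hφ, hX.trans hle, fun x => hle (hφC x), ψ, hψ, hext, ?_⟩
  ext y
  constructor
  · rintro ⟨s, hs, rfl⟩
    have h1 := hfix ⟨s, Subgroup.mem_subgroupOf.mp hs⟩
    have e : Subgroup.inclusion le_sup_right (⟨s, Subgroup.mem_subgroupOf.mp hs⟩ : Z) = s :=
      Subtype.ext rfl
    rw [e] at h1
    rw [h1]
    exact Subgroup.mem_subgroupOf.mp hs
  · intro hy
    refine ⟨Subgroup.inclusion le_sup_right ⟨y, hy⟩, Subgroup.mem_subgroupOf.mpr hy, ?_⟩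
    exact hfix ⟨y, hy⟩

/-- if the factor system modulo `Q` is inner, then `F` is inner modulo `Q` -/
theorem innerMod_of_factor_inner [Finite S] {p : ℕ} [Fact p.Prime] (hS : IsPGroup p S)
    (F : FusionSystem S) (hF : F.IsSaturated p) {Q : Subgroup Ω} (hQsc : F.StronglyClosed Q)
    [hQn : (Q.subgroupOf S).Normal]
    (E : FusionSystem (⊤ : Subgroup (↥S ⧸ Q.subgroupOf S)))
    (hE : F.IsFactorSystem Q (QuotientGroup.mk' (Q.subgroupOf S)) E)
    (hEinner : E = innerFusionSystem ⊤) : InnerMod F Q := by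
  have hker := hE.2.1
  intro P φ hφ
  obtain ⟨⟨hθS', hmor⟩, -, -⟩ := factor_map_surjective_morphism p hS F hF Q hQsc _ E hE
  obtain ⟨φ', hφ', hP, hφS, hP', hind⟩ := hmor P φ hφ
  rw [hEinner] at hφ'
  obtain ⟨-, s', -, hs'φ⟩ := hφ'
  obtain ⟨s, rfl⟩ := QuotientGroup.mk'_surjective (Q.subgroupOf S) s'
  refine ⟨s, s.2, fun x => ?_⟩
  have h1 := hind x
  rw [hs'φ] at h1
  have hmem : (s * (x : Ω) * s⁻¹)⁻¹ * φ x ∈ S :=
    S.mul_mem (S.inv_mem (S.mul_mem (S.mul_mem s.2 (hP x.2)) (S.inv_mem s.2))) (hφS x)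
  have h2 : QuotientGroup.mk' (Q.subgroupOf S) ⟨(s * (x : Ω) * s⁻¹)⁻¹ * φ x, hmem⟩ = 1 := by
    have h3 : (⟨(s * (x : Ω) * s⁻¹)⁻¹ * φ x, hmem⟩ : ↥S) =
        (s * ⟨x, hP x.2⟩ * s⁻¹)⁻¹ * ⟨φ x, hφS x⟩ := rfl
    rw [h3, map_mul, map_inv, map_mul, map_mul, map_inv, ← h1]
    exact inv_mul_cancel _
  exact (hker _).mp h2

/-- **Glesser's theorem**: a sparse fusion system is constrained, if `p` is odd or the system is `S₄`-free -/
theorem sparse_constrained [Finite S] {p : ℕ} [Fact p.Prime] (hS : IsPGroup p S) (F : FusionSystem S)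
    (hF : F.IsSaturated p) (hni : F ≠ innerFusionSystem S) (hsp : IsSparseS p F)
    (hp : p ≠ 2 ∨ F.IsSectionFree p (Equiv.Perm (Fin 4))) : F.IsConstrained p := by
  have hQ : F.IsNormal F.core := isNormal_core F
  have hQS : F.core ≤ S := hQ.1
  have hfinQ : Finite ↥F.core := finite_of_le hQS
  have hQsc := stronglyClosed_of_isNormal F hQ
  have hSQ : S ≤ Subgroup.normalizer ((F.core : Subgroup Ω) : Set Ω) :=
    le_normalizer_of_stronglyClosed F hQsc
  refine ⟨hF, F.core, hQ, hQS, ?_⟩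
  -- it suffices to show `C_S(Q) ≤ Q`
  suffices hc : centralizerIn S F.core ≤ F.core by
    rintro Q' ⟨φ, hφ, hr⟩
    have hQ'eq : Q' = F.core := by
      have hle : Q' ≤ F.core := by
        rw [← hr]
        rintro _ ⟨x, rfl⟩
        exact hQsc.2 F.core le_rfl φ hφ x
      have hcard : Nat.card ↥Q' = Nat.card ↥F.core := by
        rw [← hr]
        exact (Nat.card_congr (Equiv.ofInjective φ (F.injective_of_mem hφ))).symm
      exact Subgroup.eq_of_le_of_card_ge hle (le_of_eq hcard.symm)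
    rw [hQ'eq]
    exact hc
  by_contra hc
  -- the quotient system
  have hQn : (F.core.subgroupOf S).Normal :=
    (Subgroup.normal_subgroupOf_iff_le_normalizer hQS).mpr hSQ
  obtain ⟨E, hE⟩ := exists_factorSystem_quotient F F.core hQsc
  have hker := hE.2.1
  have hrange := hE.2.2.1
  have hS' : IsPGroup p ↥(⊤ : Subgroup (↥S ⧸ F.core.subgroupOf S)) :=
    (hS.to_quotient (F.core.subgroupOf S)).to_subgroup _
  have hEsat := isSaturated_of_isFactorSystem p hS F hF F.core hQsc _ E hE
  have hQne : F.core ≠ S := by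
    intro h
    apply hc
    rw [h]
    exact inf_le_left
  -- the quotient is nontrivial
  have hne' : ∃ s : ↥S, QuotientGroup.mk' (F.core.subgroupOf S) s ≠ 1 := by
    by_contra hcon
    push Not at hcon
    apply hQne
    apply le_antisymm hQS
    intro s hs
    exact (hker ⟨s, hs⟩).mp (hcon ⟨s, hs⟩)
  -- the key: normalizer systems of nontrivial normal subgroups of the quotient are inner
  have key : ∀ V' : Subgroup (↥S ⧸ F.core.subgroupOf S),
      (⊤ : Subgroup (↥S ⧸ F.core.subgroupOf S)) ≤ Subgroup.normalizer (V' : Set (↥S ⧸ F.core.subgroupOf S)) →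
      V' ≠ ⊥ → NIn E V' := by
    intro V' hV'n hV'ne
    have hRS : preimageAlong (QuotientGroup.mk' (F.core.subgroupOf S)) V' ≤ S := preimageAlong_le _ _
    have hSR : S ≤ Subgroup.normalizer ((preimageAlong (QuotientGroup.mk' (F.core.subgroupOf S)) V' :
        Subgroup Ω) : Set Ω) :=
      fun y hy => mem_normalizer_preimage _ hy (hV'n (Subgroup.mem_top _))
    have hRn : ¬ F.IsNormal (preimageAlong (QuotientGroup.mk' (F.core.subgroupOf S)) V') := by
      intro hRn
      apply hV'ne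
      have hle : preimageAlong (QuotientGroup.mk' (F.core.subgroupOf S)) V' ≤ F.core := le_sSup hRn
      rw [eq_bot_iff]
      intro v hv
      obtain ⟨s, rfl⟩ := QuotientGroup.mk'_surjective (F.core.subgroupOf S) v
      have h1 : (s : Ω) ∈ preimageAlong (QuotientGroup.mk' (F.core.subgroupOf S)) V' :=
        (mem_preimageAlong _ _ _).mpr ⟨s.2, hv⟩
      rw [Subgroup.mem_bot]
      exact (hker s).mpr (hle h1)
    exact NIn_factor F F.core _ E hE hSR (NIn_of_sparse hS F hF hsp hRS hSR hRn)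
  have htopne : (⊤ : Subgroup (↥S ⧸ F.core.subgroupOf S)) ≠ ⊥ := by
    obtain ⟨s, hs⟩ := hne'
    intro h
    apply hs
    have : QuotientGroup.mk' (F.core.subgroupOf S) s ∈ (⊤ : Subgroup (↥S ⧸ F.core.subgroupOf S)) :=
      Subgroup.mem_top _
    rw [h, Subgroup.mem_bot] at this
    exact this
  have hfinS' : Finite ↥(⊤ : Subgroup (↥S ⧸ F.core.subgroupOf S)) := inferInstance
  -- the quotient system is inner, by Thompson's theorem
  have hEinner : E = innerFusionSystem ⊤ := by
    apply thompson_fusion p hS' E hEsat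
    · rcases hp with hp | hp
      · exact Or.inl hp
      · exact Or.inr (Cfsg.Agent.Lib.Helper7.QdQ.isSectionFree_factor p hS F hF F.core hQsc _ hp _ E hE)
    · intro X φ hφ
      have hZeq : ((⊤ : Subgroup (↥S ⧸ F.core.subgroupOf S)) ⊓
          Subgroup.centralizer ((⊤ : Subgroup (↥S ⧸ F.core.subgroupOf S)) : Set (↥S ⧸ F.core.subgroupOf S))) =
          Subgroup.center (↥S ⧸ F.core.subgroupOf S) := by
        rw [top_inf_eq, Subgroup.coe_top, Subgroup.centralizer_univ]
      rw [hZeq] at hφ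
      apply key _ _ _ X φ (centralizerHom_subset_normalizerHom E hφ)
      · rw [Subgroup.normalizer_eq_top]
      · have hS'' : IsPGroup p (↥S ⧸ F.core.subgroupOf S) := hS.to_quotient _
        have hnt : Nontrivial (↥S ⧸ F.core.subgroupOf S) := by
          obtain ⟨s, hs⟩ := hne'
          exact ⟨⟨_, _, hs⟩⟩
        exact (Subgroup.nontrivial_iff_ne_bot _).mp (IsPGroup.center_nontrivial hS'')
    · intro X φ hφ
      apply key _ _ _ X φ hφ
      · exact le_normalizer_WT JW (JW_iso p) hS'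
      · exact Cfsg.Agent.Lib.Helper7.ThA.JA_ne_bot htopne
  have hmod : InnerMod F F.core := innerMod_of_factor_inner hS F hF hQsc E hE hEinner
  have hR₀S : F.core ⊔ centralizerIn S F.core ≤ S := sup_le hQS inf_le_left
  have hR₀n : ¬ F.IsNormal (F.core ⊔ centralizerIn S F.core) := by
    intro h
    apply hc
    have h1 : F.core ⊔ centralizerIn S F.core ≤ F.core := le_sSup h
    exact le_sup_right.trans h1
  have hSR₀ : S ≤ Subgroup.normalizer ((F.core ⊔ centralizerIn S F.core : Subgroup Ω) : Set Ω) := by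
    intro g hg
    have h1 : g ∈ normalizerIn S F.core := ⟨hg, hSQ hg⟩
    exact (normalizerIn_le_sup_centralizerIn (S := S) hQS h1).2
  have hR₀in := NIn_of_sparse hS F hF hsp hR₀S hSR₀ hR₀n
  exact hni (eq_inner_of_innerMod p hS F hF hQ hmod hR₀in)

end Cfsg.Agent.Lib.Helper7.SparseC
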