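import Mathlib
import Cfsg.Agent.Lib.Helper7.SparseC

/-!
# Non-inner saturated systems contain sparse (hence constrained) subsystems
-/

set_option autoImplicit false

namespace Cfsg.Agent.Lib.Helper7.SparseC

open Cfsg Cfsg.FusionSystem Cfsg.Agent.Lib.Helper7 Cfsg.Agent.Lib.Helper7.WCtl
  Cfsg.Agent.Lib.Helper7.TNP Cfsg.Agent.Lib.Helper7.GTF

universe u

variable {Ω : Type u} [Group Ω] {S : Subgroup Ω}

/-- a non-inner saturated system contains a sparse subsystem over the same group -/
theorem exists_sparse_le [Finite S] {p : ℕ} (F : FusionSystem S)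
    (hF : F.IsSaturated p) (hni : F ≠ innerFusionSystem S) :
    ∃ E : FusionSystem S, E ≤ F ∧ E.IsSaturated p ∧ E ≠ innerFusionSystem S ∧ IsSparseS p E := by
  classical
  have hex : ∃ m : ℕ, ∃ E : FusionSystem S, E ≤ F ∧ E.IsSaturated p ∧ E ≠ innerFusionSystem S ∧
      mu E = m := ⟨mu F, F, fun _ => le_rfl, hF, hni, rfl⟩
  obtain ⟨E, hEF, hEsat, hEni, hEm⟩ := Nat.find_spec hex
  refine ⟨E, hEF, hEsat, hEni, ?_⟩
  intro E' hE'sat hE'sub
  by_cases hE'in : E' = innerFusionSystem S
  · right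
    intro P
    rw [hE'in]
  · left
    intro P
    apply Set.Subset.antisymm (hE'sub P)
    intro φ hφ
    by_contra hn
    have hlt : mu E' < mu E := mu_lt E E' (fun P φ h => hE'sub P h) hφ hn
    have hE'F : E' ≤ F := fun P φ h => hEF P (hE'sub P h)
    have := Nat.find_min' hex ⟨E', hE'F, hE'sat, hE'in, rfl⟩
    omega

end Cfsg.Agent.Lib.Helper7.SparseC
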