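import Mathlib
import Cfsg.Prelude.Def_EvenType
import Cfsg.Agent.Lib.Lead.StronglyEmbedded
import Cfsg.Agent.Lib.Lead.PResidual
import Cfsg.Agent.Lib.Helper7.SylowLib
import Cfsg.Agent.Lib.Helper7.StrEmb

set_option autoImplicit false

namespace Cfsg.Agent.Lib.Helper7

open Cfsg Cfsg.Agent.Lib.Lead.Conj Cfsg.Agent.Lib.Lead.StronglyEmbedded

variable {G : Type*} [Group G] [Finite G] {p : ℕ} [Fact p.Prime]

omit [Finite G] [Fact p.Prime] in
/-- The ambient description of `O^p(N)`. -/
theorem pResidual_map_subtype (p : ℕ) (N : Subgroup G) :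
    (pResidual p ↥N).map N.subtype =
      Subgroup.closure {g : G | g ∈ N ∧ (orderOf g).Coprime p} := by
  unfold pResidual
  rw [MonoidHom.map_closure]
  congr 1
  ext g
  constructor
  · rintro ⟨n, hn, rfl⟩
    refine ⟨n.2, ?_⟩
    have : orderOf ((N.subtype n : G)) = orderOf n := Subgroup.orderOf_coe n
    rw [this]
    exact hn
  · rintro ⟨hgN, hg⟩
    refine ⟨⟨g, hgN⟩, ?_, rfl⟩
    show (orderOf (⟨g, hgN⟩ : ↥N)).Coprime p
    rw [Subgroup.orderOf_mk]
    exact hg

/-- A strongly `p`-embedded subgroup `H` and a normal subgroup `N` of order divisible by `p`: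
`G = H O^p(N)`. -/
theorem stronglyPEmbedded_sup_pResidual_normal {H : Subgroup G} (hSE : IsStronglyPEmbedded p H)
    (N : Subgroup G) [hNn : N.Normal] (hN : p ∣ Nat.card N) :
    H ⊔ Subgroup.closure {g : G | g ∈ N ∧ (orderOf g).Coprime p} = ⊤ := by
  have hp : p.Prime := Fact.out
  obtain ⟨P, hPH, -⟩ := sylow_le hSE
  have hR : IsSylowIn p ((P : Subgroup G) ⊓ N) N :=
    (IsSylowIn.of_sylow_top P).inf_normal N le_top (by rw [Subgroup.normalizer_eq_top])
  have hRne : (P : Subgroup G) ⊓ N ≠ ⊥ := by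
    intro hb
    have h1 := hR.2
    rw [hb, Subgroup.card_bot] at h1
    have hpos : 0 < (Nat.card ↥N).factorization p := hp.factorization_pos_of_dvd Nat.card_pos.ne' hN
    have : 1 < p ^ (Nat.card ↥N).factorization p := Nat.one_lt_pow hpos.ne' hp.one_lt
    omega
  obtain ⟨R', hR'⟩ := hR.exists_sylow
  have hmapR : (R' : Subgroup ↥N).map N.subtype = (P : Subgroup G) ⊓ N := by
    rw [hR', Subgroup.subgroupOf_map_subtype, inf_eq_left.mpr inf_le_right]
  have hfrat := Sylow.normalizer_sup_eq_top R'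
  rw [hmapR] at hfrat
  have hNR : Subgroup.normalizer ((((P : Subgroup G) ⊓ N : Subgroup G)) : Set G) ≤ H :=
    normalizer_le hSE (inf_le_left.trans hPH) (P.isPGroup'.to_inf_left) hRne
  have h7 : H ⊔ N = ⊤ := by
    rw [eq_top_iff, ← hfrat]
    exact sup_le_sup_right hNR N
  have h8 : N ≤ ((P : Subgroup G) ⊓ N) ⊔ Subgroup.closure {g : G | g ∈ N ∧ (orderOf g).Coprime p} := by
    have := Cfsg.Agent.Lib.Lead.PResidual.sup_eq_top (p := p) (R' : Subgroup ↥N) R'.not_dvd_index
    have h := congrArg (Subgroup.map N.subtype) this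
    rw [Subgroup.map_sup, hmapR, pResidual_map_subtype, ← MonoidHom.range_eq_map, Subgroup.range_subtype] at h
    exact le_of_eq h.symm
  rw [eq_top_iff, ← h7]
  apply sup_le le_sup_left
  refine h8.trans (sup_le ?_ le_sup_right)
  exact (inf_le_left.trans hPH).trans le_sup_left

end Cfsg.Agent.Lib.Helper7
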