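import Mathlib
import Cfsg.Prelude.Def_JComponents
import Cfsg.Prelude.Def_Involutions
import Cfsg.Agent.S0214
import Cfsg.Agent.Lib.Helper7.Core

set_option autoImplicit false

namespace Cfsg.Agent.Lib.Helper7

open Cfsg

variable {G : Type*} [Group G] [Finite G]

/-- A strongly embedded subgroup contains the normalizers of its nontrivial `2`-subgroups. -/
theorem IsStronglyEmbedded.normalizer_le {M : Subgroup G} (hM : Cfsg.IsStronglyEmbedded M)
    {X : Subgroup G} (hXM : X ≤ M) (hX : IsPGroup 2 ↥X) (hne : X ≠ ⊥) :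
    Subgroup.normalizer (X : Set G) ≤ M := by
  haveI : Fact (Nat.Prime 2) := ⟨Nat.prime_two⟩
  obtain ⟨Q, hQ⟩ := (hX.comap_subtype (K := M)).exists_le_sylow
  have hmap : (X.subgroupOf M).map M.subtype = X := Subgroup.map_subgroupOf_eq_of_le hXM
  have hne' : X.subgroupOf M ≠ ⊥ := by
    intro h
    apply hne
    rw [← hmap, h, Subgroup.map_bot]
  have hQne : (Q : Subgroup ↥M) ≠ ⊥ := by
    intro h
    apply hne'
    rw [eq_bot_iff, ← h]; exact hQ
  have := (Cfsg.Agent.S0214.result M hM.1 Q hQne).mp hM (X.subgroupOf M) hQ hne'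
  rwa [hmap] at this

/-- A `2`-subgroup meeting a strongly embedded subgroup nontrivially lies in it. -/
theorem IsStronglyEmbedded.le_of_inf_ne_bot {M : Subgroup G} (hM : Cfsg.IsStronglyEmbedded M)
    {P : Subgroup G} (hP : IsPGroup 2 ↥P) (hne : P ⊓ M ≠ ⊥) : P ≤ M := by
  haveI : Fact (Nat.Prime 2) := ⟨Nat.prime_two⟩
  by_contra hPM
  set P₀ := P ⊓ M with hP₀
  have hlt : P₀ < P := lt_of_le_of_ne inf_le_left (fun h => hPM (h ▸ inf_le_right))
  have hN := IsStronglyEmbedded.normalizer_le hM (inf_le_right : P₀ ≤ M) (hP.to_le inf_le_left) hne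
  -- normalizer grows in P
  haveI : Group.IsNilpotent ↥P := hP.isNilpotent
  have hnc := Group.normalizerCondition_of_isNilpotent (G := ↥P)
  have hlt' : P₀.subgroupOf P < ⊤ := by
    rw [lt_top_iff_ne_top, Ne, Subgroup.subgroupOf_eq_top]
    exact fun h => hPM (h.trans inf_le_right)
  have h1 := hnc _ hlt'
  obtain ⟨x, hxN, hxP⟩ := SetLike.exists_of_lt h1
  apply hxP
  rw [Subgroup.mem_subgroupOf]
  refine Subgroup.mem_inf.mpr ⟨x.2, hN ?_⟩
  rw [Subgroup.mem_normalizer_iff] at hxN ⊢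
  intro y
  constructor
  · intro hy
    have hyP : y ∈ P := hy.1
    have := (hxN ⟨y, hyP⟩).mp (Subgroup.mem_subgroupOf.mpr hy)
    exact Subgroup.mem_subgroupOf.mp this
  · intro hy
    have hyP : y ∈ P := by
      have h2 : (x : G) * y * (x : G)⁻¹ ∈ P := hy.1
      have := P.mul_mem (P.mul_mem (P.inv_mem x.2) h2) x.2
      convert this using 1; group
    have := (hxN ⟨y, hyP⟩).mpr (Subgroup.mem_subgroupOf.mpr hy)
    exact Subgroup.mem_subgroupOf.mp this


theorem stronglyEmbedded_iff_no_straddling (hO : Cfsg.pCore 2 G = ⊥) (M : Subgroup G)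
    (hM : Cfsg.IsTwoLocal M) :
    Cfsg.IsStronglyEmbedded M ↔ Cfsg.straddlingTwoSubgroups M = ∅ := by
  haveI : Fact (Nat.Prime 2) := ⟨Nat.prime_two⟩
  constructor
  · intro hSE
    rw [Set.eq_empty_iff_forall_notMem]
    rintro T ⟨hT2, hTne, hTM, L, ⟨R, hR2, hRne, rfl⟩, hTL, hLM⟩
    apply hLM
    have hP2 : IsPGroup 2 ↥(T ⊔ R) :=
      IsPGroup.to_sup_of_normal_right' hT2 hR2 hTL
    have hne : (T ⊔ R) ⊓ M ≠ ⊥ := by
      intro h
      apply hTne
      rw [eq_bot_iff, ← h]
      exact le_inf le_sup_left hTM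
    have hle := IsStronglyEmbedded.le_of_inf_ne_bot hSE hP2 hne
    exact IsStronglyEmbedded.normalizer_le hSE (le_sup_right.trans hle) hR2 hRne
  · intro hemp
    obtain ⟨R₀, hR₀2, hR₀ne, hMR₀⟩ := id hM
    have hR₀M : R₀ ≤ M := by rw [hMR₀]; exact Subgroup.le_normalizer
    have hMtop : M ≠ ⊤ := by
      intro h
      apply hR₀ne
      rw [eq_bot_iff, ← hO]
      apply le_pCore _ hR₀2
      rw [← Subgroup.normalizer_eq_top_iff, ← hMR₀, h]
    obtain ⟨P, hP⟩ := (hR₀2.comap_subtype (K := M)).exists_le_sylow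
    have hmap : (R₀.subgroupOf M).map M.subtype = R₀ := Subgroup.map_subgroupOf_eq_of_le hR₀M
    have hPne : (P : Subgroup ↥M) ≠ ⊥ := by
      intro h
      apply hR₀ne
      rw [← hmap, eq_bot_iff, ← Subgroup.map_bot M.subtype, ← h]
      exact Subgroup.map_mono hP
    rw [Cfsg.Agent.S0214.result M hMtop P hPne]
    intro X hXP hXne
    by_contra hN
    have hmem : X.map M.subtype ∈ Cfsg.straddlingTwoSubgroups M := by
      have hX2 : IsPGroup 2 ↥(X.map M.subtype) := (P.isPGroup'.to_le hXP).map _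
      have hXne' : X.map M.subtype ≠ ⊥ := by
        rw [Ne, Subgroup.map_eq_bot_iff_of_injective _ M.subtype_injective]
        exact hXne
      exact ⟨hX2, hXne', Subgroup.map_subtype_le _, _, ⟨_, hX2, hXne', rfl⟩,
        Subgroup.le_normalizer, hN⟩
    rw [hemp] at hmem
    exact hmem
end Cfsg.Agent.Lib.Helper7
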