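import Mathlib

/-!
# Universal Schmidt groups: the data `SD`

An `SD`-datum is a group `P` with an automorphism `τ` (with `τ ^ q = 1`) and a surjective
homomorphism `ψ` onto the additive group of a field `F`, whose kernel is central and fixed
elementwise by `τ`, and with `ψ (τ n) = ω * ψ n`.
-/

set_option autoImplicit false

namespace Cfsg.Agent.Lib.Helper7.SchU

open scoped commutatorElement

/-- the datum -/
structure SD (q : ℕ) {F : Type*} [Field F] (ω : F) {P : Type*} [Group P] (τ : MulAut P)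
    (ψ : P → F) : Prop where
  pow : τ ^ q = 1
  add : ∀ u v : P, ψ (u * v) = ψ u + ψ v
  surj : Function.Surjective ψ
  ker_central : ∀ n : P, ψ n = 0 → ∀ m : P, m * n = n * m
  ker_fixed : ∀ n : P, ψ n = 0 → τ n = n
  equi : ∀ n : P, ψ (τ n) = ω * ψ n

section basic

variable {q : ℕ} {F : Type*} [Field F] {ω : F} {P : Type*} [Group P] {τ : MulAut P} {ψ : P → F}

theorem SD.map_one (h : SD q ω τ ψ) : ψ 1 = 0 := by
  have := h.add 1 1
  rw [mul_one] at this
  exact left_eq_add.1 this

theorem SD.map_inv (h : SD q ω τ ψ) (u : P) : ψ u⁻¹ = - ψ u := by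
  have := h.add u u⁻¹
  rw [mul_inv_cancel, h.map_one] at this
  exact (neg_eq_of_add_eq_zero_right this.symm).symm

theorem SD.map_pow (h : SD q ω τ ψ) (u : P) (k : ℕ) : ψ (u ^ k) = k • ψ u := by
  induction k with
  | zero => simp [h.map_one]
  | succ k ih => rw [pow_succ, h.add, ih, succ_nsmul]

theorem SD.map_conj (h : SD q ω τ ψ) (u v : P) : ψ (u * v * u⁻¹) = ψ v := by
  rw [h.add, h.add, h.map_inv]; ring

theorem SD.map_comm (h : SD q ω τ ψ) (u v : P) : ψ ⁅u, v⁆ = 0 := by
  rw [commutatorElement_def, h.add, h.add, h.add, h.map_inv, h.map_inv]; ring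

theorem SD.iter (h : SD q ω τ ψ) (n : P) (k : ℕ) : ψ ((τ ^ k) n) = ω ^ k * ψ n := by
  induction k with
  | zero => simp
  | succ k ih =>
    rw [pow_succ', MulAut.mul_apply, h.equi, ih, pow_succ]; ring

end basic

end Cfsg.Agent.Lib.Helper7.SchU
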