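import Mathlib
import Cfsg.Agent.Lib.Helper7.SuA
import Cfsg.Agent.Lib.Helper8.SchmidtForm
import Cfsg.Agent.H1.AutOrbC

/-!
# Universal Schmidt groups: the core bound

For an `SD`-datum `(D, τ, ψ)` the subgroup `NN τ = ⟨d⁻¹ τ(d)⟩` has order at most `p ^ a₀`.
-/

set_option autoImplicit false
set_option linter.unusedSectionVars false
set_option linter.unusedVariables false

namespace Cfsg.Agent.Lib.Helper7.SchU

open scoped commutatorElement
open Cfsg.Agent.Lib.Helper8.SchmidtForm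

section core

variable {p q a : ℕ} {F : Type*} [Field F] {ω : F} {D : Type*} [Group D] {τ : MulAut D}
  {ψ : D → F}

/-- the generating set -/
def gens (τ : MulAut D) : Set D := {x | ∃ d : D, x = d⁻¹ * τ d}

/-- the subgroup `[D, τ]` -/
def NN (τ : MulAut D) : Subgroup D := Subgroup.closure (gens τ)

theorem tau_mem_NN {n : D} (hn : n ∈ NN τ) : τ n ∈ NN τ := by
  unfold NN at hn ⊢
  refine Subgroup.closure_induction (p := fun x _ => τ x ∈ Subgroup.closure (gens τ)) ?_ ?_ ?_ ?_ hn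
  · rintro x ⟨d, rfl⟩
    apply Subgroup.subset_closure
    exact ⟨τ d, by rw [map_mul, map_inv]⟩
  · rw [map_one]; exact Subgroup.one_mem _
  · intro x y _ _ hx hy
    rw [map_mul]; exact Subgroup.mul_mem _ hx hy
  · intro x _ hx
    rw [map_inv]; exact Subgroup.inv_mem _ hx

theorem tau_pow_mem_NN {n : D} (hn : n ∈ NN τ) (k : ℕ) : (τ ^ k) n ∈ NN τ := by
  induction k with
  | zero => simpa using hn
  | succ k ih => rw [pow_succ', MulAut.mul_apply]; exact tau_mem_NN ih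

theorem exists_gen (h : SD q ω τ ψ) (hω1 : ω ≠ 1) (x : F) : ∃ n ∈ gens τ, ψ n = x := by
  have hne : ω - 1 ≠ 0 := sub_ne_zero.2 hω1
  obtain ⟨d, hd⟩ := h.surj ((ω - 1)⁻¹ * x)
  refine ⟨d⁻¹ * τ d, ⟨d, rfl⟩, ?_⟩
  rw [h.add, h.map_inv, h.equi, hd]
  field_simp
  ring

theorem exists_mem_NN (h : SD q ω τ ψ) (hω1 : ω ≠ 1) (x : F) : ∃ n ∈ NN τ, ψ n = x := by
  obtain ⟨n, hn, hx⟩ := exists_gen h hω1 x
  exact ⟨n, Subgroup.subset_closure hn, hx⟩

theorem comm_center (h : SD q ω τ ψ) (u v : D) : ⁅u, v⁆ ∈ Subgroup.center D :=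
  Subgroup.mem_center_iff.2 (fun g => h.ker_central _ (h.map_comm u v) g)

theorem ker_center (h : SD q ω τ ψ) {z : D} (hz : ψ z = 0) : z ∈ Subgroup.center D :=
  Subgroup.mem_center_iff.2 (fun g => h.ker_central _ hz g)

theorem natCast_eq_zero_of_card [Finite F] (hp : p.Prime) (hcard : Nat.card F = p ^ a) :
    (p : F) = 0 := by
  have h1 : ∀ x : F, Nat.card F • x = 0 := fun x => card_nsmul_eq_zero' (G := F) (x := x)
  have h2 := h1 1
  rw [hcard, nsmul_eq_mul, mul_one, Nat.cast_pow] at h2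
  exact pow_eq_zero_iff (by
    rintro rfl
    rw [pow_zero] at hcard
    have := Finite.one_lt_card (α := F)
    omega) |>.1 h2

theorem pow_p_ker (h : SD q ω τ ψ) (hp0 : (p : F) = 0) (u : D) : ψ (u ^ p) = 0 := by
  rw [h.map_pow, nsmul_eq_mul, hp0, zero_mul]

theorem comm_pow_p (h : SD q ω τ ψ) (hp0 : (p : F) = 0) (u v : D) : ⁅u, v⁆ ^ p = 1 := by
  rw [← Cfsg.Agent.H1.AutOrbC.comm_pow_left (comm_center h)]
  rw [commutatorElement_eq_one_iff_mul_comm]
  exact (h.ker_central _ (pow_p_ker h hp0 u) v).symm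

theorem comm_congr (h : SD q ω τ ψ) {n n' m m' : D} (h1 : ψ n = ψ n') (h2 : ψ m = ψ m') :
    ⁅n, m⁆ = ⁅n', m'⁆ := by
  have key : ∀ {n n' m : D}, ψ n = ψ n' → ⁅n, m⁆ = ⁅n', m⁆ := by
    intro n n' m h1
    have hz : ψ (n'⁻¹ * n) = 0 := by rw [h.add, h.map_inv, h1]; ring
    have : n = n' * (n'⁻¹ * n) := by group
    rw [this, Cfsg.Agent.H1.AutOrbC.comm_mul_left (comm_center h)]
    have : ⁅n'⁻¹ * n, m⁆ = 1 := by
      rw [commutatorElement_eq_one_iff_mul_comm]
      exact (h.ker_central _ hz m).symm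
    rw [this, mul_one]
  rw [key h1, ← commutatorElement_inv m' n', ← commutatorElement_inv m n', key h2]

end core

end Cfsg.Agent.Lib.Helper7.SchU
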