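import Mathlib
import Cfsg.Agent.Lib.Helper7.SuB

/-!
# Universal Schmidt groups: exponents and the norm argument
-/

set_option autoImplicit false
set_option linter.unusedSectionVars false
set_option linter.unusedVariables false

namespace Cfsg.Agent.Lib.Helper7.SchU

open scoped commutatorElement
open Cfsg.Agent.H1.AutOrbC

section expo

variable {p q a : ℕ} {F : Type*} [Field F] {ω : F} {D : Type*} [Group D] {τ : MulAut D}
  {ψ : D → F}

theorem mul_pow_p (h : SD q ω τ ψ) (hp : p.Prime) (hp2 : p ≠ 2) (hp0 : (p : F) = 0) (u v : D) :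
    (u * v) ^ p = u ^ p * v ^ p := by
  rw [mul_pow_class2 (comm_center h)]
  have hdvd : p ∣ p.choose 2 :=
    hp.dvd_choose_self (by norm_num) (lt_of_le_of_ne hp.two_le (Ne.symm hp2))
  obtain ⟨k, hk⟩ := hdvd
  rw [hk, pow_mul, comm_pow_p h hp0, one_pow, mul_one]

theorem mul_pow_psq (h : SD q ω τ ψ) (hp : p.Prime) (hp0 : (p : F) = 0) (u v : D) :
    (u * v) ^ (p ^ 2) = u ^ (p ^ 2) * v ^ (p ^ 2) := by
  rw [mul_pow_class2 (comm_center h)]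
  have hdvd : p ∣ (p ^ 2).choose 2 := by
    apply hp.dvd_choose_pow (by norm_num)
    have := hp.two_le
    nlinarith
  obtain ⟨k, hk⟩ := hdvd
  rw [hk, pow_mul, comm_pow_p h hp0, one_pow, mul_one]

theorem pow_p_eq_one_of_mem (h : SD q ω τ ψ) (hp : p.Prime) (hp2 : p ≠ 2) (hp0 : (p : F) = 0)
    {n : D} (hn : n ∈ NN τ) : n ^ p = 1 := by
  unfold NN at hn
  refine Subgroup.closure_induction (p := fun x _ => x ^ p = 1) ?_ ?_ ?_ ?_ hn
  · rintro x ⟨d, rfl⟩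
    rw [mul_pow_p h hp hp2 hp0, inv_pow, ← map_pow, h.ker_fixed _ (pow_p_ker h hp0 d),
      inv_mul_cancel]
  · exact one_pow _
  · intro x y _ _ hx hy
    rw [mul_pow_p h hp hp2 hp0, hx, hy, one_mul]
  · intro x _ hx
    rw [inv_pow, hx, inv_one]

theorem pow_psq_ker (h : SD q ω τ ψ) (hp0 : (p : F) = 0) (u : D) : ψ (u ^ (p ^ 2)) = 0 := by
  rw [h.map_pow, nsmul_eq_mul, Nat.cast_pow, hp0]; ring

theorem pow_psq_eq_one_of_mem (h : SD q ω τ ψ) (hp : p.Prime) (hp0 : (p : F) = 0)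
    {n : D} (hn : n ∈ NN τ) : n ^ (p ^ 2) = 1 := by
  unfold NN at hn
  refine Subgroup.closure_induction (p := fun x _ => x ^ (p ^ 2) = 1) ?_ ?_ ?_ ?_ hn
  · rintro x ⟨d, rfl⟩
    rw [mul_pow_psq h hp hp0, inv_pow, ← map_pow, h.ker_fixed _ (pow_psq_ker h hp0 d),
      inv_mul_cancel]
  · exact one_pow _
  · intro x y _ _ hx hy
    rw [mul_pow_psq h hp hp0, hx, hy, one_mul]
  · intro x _ hx
    rw [inv_pow, hx, inv_one]

/-- the partial norms `n · τ n ⋯ τ^(k-1) n` -/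
def nrm (τ : MulAut D) (n : D) : ℕ → D
  | 0 => 1
  | k + 1 => nrm τ n k * (τ ^ k) n

theorem nrm_gen (d : D) (k : ℕ) : nrm τ (d⁻¹ * τ d) k = d⁻¹ * (τ ^ k) d := by
  induction k with
  | zero => simp [nrm]
  | succ k ih =>
    rw [nrm, ih, map_mul, map_inv, pow_succ, MulAut.mul_apply]
    group

theorem nrm_fixed {z : D} (hz : τ z = z) (k : ℕ) : nrm τ z k = z ^ k := by
  have hk : ∀ j : ℕ, (τ ^ j) z = z := by
    intro j
    induction j with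
    | zero => simp
    | succ j ih => rw [pow_succ, MulAut.mul_apply, hz, ih]
  induction k with
  | zero => simp [nrm]
  | succ k ih => rw [nrm, ih, hk, pow_succ]

theorem nrm_mem {n : D} (hn : n ∈ NN τ) (k : ℕ) : nrm τ n k ∈ NN τ := by
  induction k with
  | zero => exact Subgroup.one_mem _
  | succ k ih => exact Subgroup.mul_mem _ ih (tau_pow_mem_NN hn k)

theorem nrm_one (k : ℕ) : nrm τ (1 : D) k = 1 := by
  induction k with
  | zero => rfl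
  | succ k ih => rw [nrm, ih, map_one, one_mul]

theorem nrm_mul (h : SD q ω τ ψ) (Φ : Subgroup D) (hΦc : ∀ c ∈ Φ, c ∈ Subgroup.center D)
    (hΦ : ∀ n ∈ NN τ, ∀ n' ∈ NN τ, ⁅n, n'⁆ ∈ Φ) {n n' : D} (hn : n ∈ NN τ) (hn' : n' ∈ NN τ)
    (k : ℕ) : ∃ c ∈ Φ, nrm τ (n * n') k = nrm τ n k * nrm τ n' k * c := by
  induction k with
  | zero => exact ⟨1, Φ.one_mem, by simp [nrm]⟩
  | succ k ih =>
    obtain ⟨c, hc, hk⟩ := ih
    refine ⟨⁅nrm τ n' k, (τ ^ k) n⁆ * c, Φ.mul_mem (hΦ _ (nrm_mem hn' k) _ (tau_pow_mem_NN hn k)) hc,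
      ?_⟩
    have hcc : ∀ x : D, x * c = c * x := fun x => Subgroup.mem_center_iff.1 (hΦc c hc) x
    have hcomm : ∀ x : D, x * ⁅nrm τ n' k, (τ ^ k) n⁆ = ⁅nrm τ n' k, (τ ^ k) n⁆ * x :=
      fun x => Subgroup.mem_center_iff.1 (comm_center h _ _) x
    have hswap := mul_swap (comm_center h) (nrm τ n' k) ((τ ^ k) n)
    rw [nrm, nrm, nrm, hk, map_mul]
    calc nrm τ n k * nrm τ n' k * c * ((τ ^ k) n * (τ ^ k) n')
        = nrm τ n k * (nrm τ n' k * (τ ^ k) n) * (τ ^ k) n' * c := by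
          rw [mul_assoc (nrm τ n k * nrm τ n' k) c, ← hcc]; group
      _ = nrm τ n k * ((τ ^ k) n * nrm τ n' k * ⁅nrm τ n' k, (τ ^ k) n⁆) * (τ ^ k) n' * c := by
          rw [hswap]
      _ = nrm τ n k * (τ ^ k) n * nrm τ n' k * (⁅nrm τ n' k, (τ ^ k) n⁆ * (τ ^ k) n') * c := by
          group
      _ = nrm τ n k * (τ ^ k) n * nrm τ n' k * ((τ ^ k) n' * ⁅nrm τ n' k, (τ ^ k) n⁆) * c := by
          rw [← hcomm ((τ ^ k) n')]
      _ = nrm τ n k * (τ ^ k) n * (nrm τ n' k * (τ ^ k) n') * (⁅nrm τ n' k, (τ ^ k) n⁆ * c) := by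
          group

theorem nrm_q_mem (h : SD q ω τ ψ) (Φ : Subgroup D) (hΦc : ∀ c ∈ Φ, c ∈ Subgroup.center D)
    (hΦ : ∀ n ∈ NN τ, ∀ n' ∈ NN τ, ⁅n, n'⁆ ∈ Φ) {n : D} (hn : n ∈ NN τ) : nrm τ n q ∈ Φ := by
  have hn0 := hn
  unfold NN at hn
  refine Subgroup.closure_induction (p := fun x _ => nrm τ x q ∈ Φ) ?_ ?_ ?_ ?_ hn
  · rintro x ⟨d, rfl⟩
    rw [nrm_gen, h.pow, MulAut.one_apply, inv_mul_cancel]
    exact Φ.one_mem
  · rw [nrm_one]; exact Φ.one_mem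
  · intro x y hx hy hx' hy'
    obtain ⟨c, hc, hk⟩ := nrm_mul h Φ hΦc hΦ (n := x) (n' := y) hx hy q
    rw [hk]
    exact Φ.mul_mem (Φ.mul_mem hx' hy') hc
  · intro x hx hx'
    obtain ⟨c, hc, hk⟩ := nrm_mul h Φ hΦc hΦ (n := x) (n' := x⁻¹) hx
      ((Subgroup.closure (gens τ)).inv_mem hx) q
    rw [mul_inv_cancel, nrm_one] at hk
    have : nrm τ x⁻¹ q = (nrm τ x q)⁻¹ * c⁻¹ := by
      have h2 : nrm τ x q * nrm τ x⁻¹ q * c = 1 := hk.symm
      have h3 : nrm τ x⁻¹ q = (nrm τ x q)⁻¹ * (nrm τ x q * nrm τ x⁻¹ q * c) * c⁻¹ := by group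
      rw [h3, h2, mul_one]
    rw [this]
    exact Φ.mul_mem (Φ.inv_mem hx') (Φ.inv_mem hc)

end expo

end Cfsg.Agent.Lib.Helper7.SchU
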