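import Mathlib
import Cfsg.Agent.Lib.Helper7.SuC

/-!
# Universal Schmidt groups: the bound on `NN τ`
-/

set_option autoImplicit false
set_option linter.unusedSectionVars false
set_option linter.unusedVariables false

namespace Cfsg.Agent.Lib.Helper7.SchU

open scoped commutatorElement
open scoped IsMulCommutative
open Cfsg.Agent.H1.AutOrbC
open Cfsg.Agent.Lib.Helper8.SchmidtForm

section phi

variable {p q a : ℕ} {F : Type*} [Field F] {ω : F} {D : Type*} [Group D] {τ : MulAut D}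
  {ψ : D → F}

/-- the "Frattini part" of `NN τ` -/
def PhiN (p : ℕ) (τ : MulAut D) : Subgroup D :=
  Subgroup.closure ({x | ∃ n ∈ NN τ, ∃ n' ∈ NN τ, x = ⁅n, n'⁆} ∪ {x | ∃ n ∈ NN τ, x = n ^ p})

theorem comm_mem_PhiN {n n' : D} (hn : n ∈ NN τ) (hn' : n' ∈ NN τ) : ⁅n, n'⁆ ∈ PhiN p τ :=
  Subgroup.subset_closure (Or.inl ⟨n, hn, n', hn', rfl⟩)

theorem pow_mem_PhiN {n : D} (hn : n ∈ NN τ) : n ^ p ∈ PhiN p τ :=
  Subgroup.subset_closure (Or.inr ⟨n, hn, rfl⟩)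

theorem PhiN_le_NN : PhiN p τ ≤ NN τ := by
  unfold PhiN
  rw [Subgroup.closure_le]
  rintro x (⟨n, hn, n', hn', rfl⟩ | ⟨n, hn, rfl⟩)
  · rw [commutatorElement_def]
    exact (NN τ).mul_mem ((NN τ).mul_mem ((NN τ).mul_mem hn hn') ((NN τ).inv_mem hn))
      ((NN τ).inv_mem hn')
  · exact (NN τ).pow_mem hn p

theorem PhiN_ker (h : SD q ω τ ψ) (hp0 : (p : F) = 0) {c : D} (hc : c ∈ PhiN p τ) : ψ c = 0 := by
  unfold PhiN at hc
  refine Subgroup.closure_induction (p := fun x _ => ψ x = 0) ?_ ?_ ?_ ?_ hc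
  · rintro x (⟨n, hn, n', hn', rfl⟩ | ⟨n, hn, rfl⟩)
    · exact h.map_comm _ _
    · exact pow_p_ker h hp0 _
  · exact h.map_one
  · intro x y _ _ hx hy
    rw [h.add, hx, hy, add_zero]
  · intro x _ hx
    rw [h.map_inv, hx, neg_zero]

theorem PhiN_center (h : SD q ω τ ψ) (hp0 : (p : F) = 0) {c : D} (hc : c ∈ PhiN p τ) :
    c ∈ Subgroup.center D := ker_center h (PhiN_ker h hp0 hc)

theorem PhiN_pow (h : SD q ω τ ψ) (hp : p.Prime) (hp0 : (p : F) = 0) {c : D}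
    (hc : c ∈ PhiN p τ) : c ^ p = 1 := by
  have hc0 := hc
  unfold PhiN at hc
  refine Subgroup.closure_induction
    (p := fun x _ => x ∈ Subgroup.center D ∧ x ^ p = 1) ?_ ?_ ?_ ?_ hc |>.2
  · rintro x (⟨n, hn, n', hn', rfl⟩ | ⟨n, hn, rfl⟩)
    · exact ⟨comm_center h _ _, comm_pow_p h hp0 _ _⟩
    · refine ⟨ker_center h (pow_p_ker h hp0 _), ?_⟩
      rw [← pow_mul, ← sq]
      exact pow_psq_eq_one_of_mem h hp hp0 hn
  · exact ⟨Subgroup.one_mem _, one_pow _⟩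
  · rintro x y _ _ ⟨hx, hx'⟩ ⟨hy, hy'⟩
    refine ⟨Subgroup.mul_mem _ hx hy, ?_⟩
    have hcomm : Commute x y := (Subgroup.mem_center_iff.1 hy x)
    rw [hcomm.mul_pow, hx', hy', one_mul]
  · rintro x _ ⟨hx, hx'⟩
    exact ⟨Subgroup.inv_mem _ hx, by rw [inv_pow, hx', inv_one]⟩

theorem ker_le_PhiN (h : SD q ω τ ψ) (hp : p.Prime) (hq : q.Prime) (hpq : p ≠ q)
    (hp0 : (p : F) = 0) {z : D} (hz : z ∈ NN τ) (hψ : ψ z = 0) : z ∈ PhiN p τ := by
  have h1 : z ^ q ∈ PhiN p τ := by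
    rw [← nrm_fixed (τ := τ) (h.ker_fixed z hψ) q]
    exact nrm_q_mem h (PhiN p τ) (fun c hc => PhiN_center h hp0 hc)
      (fun n hn n' hn' => comm_mem_PhiN hn hn') hz
  have h2 : z ^ p ∈ PhiN p τ := pow_mem_PhiN hz
  have hco : Nat.Coprime p q := (Nat.coprime_primes hp hq).2 hpq
  have hb := Nat.gcd_eq_gcd_ab p q
  rw [hco.gcd_eq_one] at hb
  have : z = (z ^ p) ^ (Nat.gcdA p q) * (z ^ q) ^ (Nat.gcdB p q) := by
    rw [← zpow_natCast z p, ← zpow_natCast z q, ← zpow_mul, ← zpow_mul, ← zpow_add, ← hb]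
    simp
  rw [this]
  exact (PhiN p τ).mul_mem ((PhiN p τ).zpow_mem h2 _) ((PhiN p τ).zpow_mem h1 _)

/-- a chosen preimage in `NN τ` -/
noncomputable def lift (h : SD q ω τ ψ) (hω1 : ω ≠ 1) (x : F) : D :=
  Classical.choose (exists_mem_NN h hω1 x)

theorem lift_mem (h : SD q ω τ ψ) (hω1 : ω ≠ 1) (x : F) : lift h hω1 x ∈ NN τ :=
  (Classical.choose_spec (exists_mem_NN h hω1 x)).1

theorem psi_lift (h : SD q ω τ ψ) (hω1 : ω ≠ 1) (x : F) : ψ (lift h hω1 x) = x :=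
  (Classical.choose_spec (exists_mem_NN h hω1 x)).2

theorem eq_lift_mul (h : SD q ω τ ψ) (hp : p.Prime) (hq : q.Prime) (hpq : p ≠ q)
    (hp0 : (p : F) = 0) (hω1 : ω ≠ 1) {n : D} (hn : n ∈ NN τ) :
    ∃ z ∈ PhiN p τ, n = lift h hω1 (ψ n) * z := by
  refine ⟨(lift h hω1 (ψ n))⁻¹ * n, ?_, by group⟩
  apply ker_le_PhiN h hp hq hpq hp0
  · exact (NN τ).mul_mem ((NN τ).inv_mem (lift_mem h hω1 _)) hn
  · rw [h.add, h.map_inv, psi_lift h hω1]; ring

theorem pow_eq_lift_pow (h : SD q ω τ ψ) (hp : p.Prime) (hq : q.Prime) (hpq : p ≠ q)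
    (hp0 : (p : F) = 0) (hω1 : ω ≠ 1) {n : D} (hn : n ∈ NN τ) :
    n ^ p = (lift h hω1 (ψ n)) ^ p := by
  obtain ⟨z, hz, hnz⟩ := eq_lift_mul h hp hq hpq hp0 hω1 hn
  have hcomm : Commute (lift h hω1 (ψ n)) z :=
    (Subgroup.mem_center_iff.1 (PhiN_center h hp0 hz) _)
  conv_lhs => rw [hnz]
  rw [hcomm.mul_pow, PhiN_pow h hp hp0 hz, mul_one]

/-- the commutator form -/
noncomputable def beta (h : SD q ω τ ψ) (hω1 : ω ≠ 1) (x y : F) :
    Additive (Subgroup.center D) :=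
  Additive.ofMul ⟨⁅lift h hω1 y, lift h hω1 x⁆, comm_center h _ _⟩

/-- the power map -/
noncomputable def spow (h : SD q ω τ ψ) (hω1 : ω ≠ 1) (hp0 : (p : F) = 0) (x : F) :
    Additive (Subgroup.center D) :=
  Additive.ofMul ⟨(lift h hω1 x) ^ p, ker_center h (pow_p_ker h hp0 _)⟩

theorem beta_isForm (h : SD q ω τ ψ) (hω1 : ω ≠ 1) : IsForm ω (beta h hω1) := by
  constructor
  · intro x y z
    show Additive.ofMul _ = Additive.ofMul (_ * _)
    congr 1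
    apply Subtype.ext
    show ⁅lift h hω1 z, lift h hω1 (x + y)⁆ = ⁅lift h hω1 z, lift h hω1 x⁆ * ⁅lift h hω1 z, lift h hω1 y⁆
    rw [← comm_mul_right (comm_center h)]
    apply comm_congr h rfl
    rw [h.add, psi_lift h hω1, psi_lift h hω1, psi_lift h hω1]
  · intro x y z
    show Additive.ofMul _ = Additive.ofMul (_ * _)
    congr 1
    apply Subtype.ext
    show ⁅lift h hω1 (y + z), lift h hω1 x⁆ = ⁅lift h hω1 y, lift h hω1 x⁆ * ⁅lift h hω1 z, lift h hω1 x⁆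
    rw [← comm_mul_left (comm_center h)]
    apply comm_congr h _ rfl
    rw [h.add, psi_lift h hω1, psi_lift h hω1, psi_lift h hω1]
  · intro x y
    show Additive.ofMul _ = Additive.ofMul _
    congr 1
    apply Subtype.ext
    show ⁅lift h hω1 (ω * y), lift h hω1 (ω * x)⁆ = ⁅lift h hω1 y, lift h hω1 x⁆
    have h1 : ⁅lift h hω1 (ω * y), lift h hω1 (ω * x)⁆ = ⁅τ (lift h hω1 y), τ (lift h hω1 x)⁆ := by
      apply comm_congr h
      · rw [psi_lift h hω1, h.equi, psi_lift h hω1]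
      · rw [psi_lift h hω1, h.equi, psi_lift h hω1]
    rw [h1, ← map_commutatorElement]
    exact h.ker_fixed _ (h.map_comm _ _)
  · intro x
    show Additive.ofMul _ = Additive.ofMul 1
    congr 1
    apply Subtype.ext
    show ⁅lift h hω1 x, lift h hω1 x⁆ = 1
    exact commutatorElement_self _

end phi

end Cfsg.Agent.Lib.Helper7.SchU
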