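import Mathlib
import Cfsg.Agent.Lib.Helper7.SuD

/-!
# Universal Schmidt groups: the bound on `NN τ`, final form
-/

set_option autoImplicit false
set_option linter.unusedSectionVars false
set_option linter.unusedVariables false

namespace Cfsg.Agent.Lib.Helper7.SchU

open scoped commutatorElement
open scoped IsMulCommutative
open Cfsg.Agent.H1.AutOrbC
open Cfsg.Agent.Lib.Helper8.SchmidtForm

section bnd

variable {p q a : ℕ} {F : Type*} [Field F] [Finite F] {ω : F} {D : Type*} [Group D] {τ : MulAut D}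
  {ψ : D → F}

theorem omega_ne_one (hq : q.Prime) (hω : orderOf ω = q) : ω ≠ 1 := by
  rintro rfl
  rw [orderOf_one] at hω
  exact hq.ne_one hω.symm

theorem spow_omega (h : SD q ω τ ψ) (hp : p.Prime) (hq : q.Prime) (hpq : p ≠ q)
    (hp0 : (p : F) = 0) (hω1 : ω ≠ 1) (x : F) :
    spow h hω1 hp0 (ω * x) = spow h hω1 hp0 x := by
  show Additive.ofMul _ = Additive.ofMul _
  congr 1
  apply Subtype.ext
  show (lift h hω1 (ω * x)) ^ p = (lift h hω1 x) ^ p
  have hn : τ (lift h hω1 x) ∈ NN τ := tau_mem_NN (lift_mem h hω1 x)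
  have h1 := pow_eq_lift_pow h hp hq hpq hp0 hω1 hn
  rw [h.equi, psi_lift h hω1] at h1
  rw [← h1, ← map_pow]
  exact h.ker_fixed _ (pow_p_ker h hp0 _)

theorem spow_add_two (h : SD q ω τ ψ) (hq : q.Prime) (hpq : 2 ≠ q)
    (hp0 : ((2 : ℕ) : F) = 0) (hω1 : ω ≠ 1) (x y : F) :
    spow h hω1 hp0 (x + y) = spow h hω1 hp0 x + spow h hω1 hp0 y + beta h hω1 x y := by
  show Additive.ofMul _ = Additive.ofMul ((_ : Subgroup.center D) * _ * _)
  congr 1
  apply Subtype.ext
  show (lift h hω1 (x + y)) ^ 2 =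
    (lift h hω1 x) ^ 2 * (lift h hω1 y) ^ 2 * ⁅lift h hω1 y, lift h hω1 x⁆
  have hn : lift h hω1 x * lift h hω1 y ∈ NN τ :=
    (NN τ).mul_mem (lift_mem h hω1 x) (lift_mem h hω1 y)
  have h1 := pow_eq_lift_pow h Nat.prime_two hq hpq hp0 hω1 hn
  rw [h.add, psi_lift h hω1, psi_lift h hω1] at h1
  rw [← h1, mul_pow_class2 (comm_center h)]
  norm_num

theorem exists_NM (hp : p.Prime) (hq : q.Prime) (hpq : p ≠ q) (hcard : Nat.card F = p ^ a)
    (hω : orderOf ω = q) (ha : orderOf (p : ZMod q) = a) (h : SD q ω τ ψ)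
    (hp0 : (p : F) = 0) (hω1 : ω ≠ 1) :
    ∃ NM : AddSubgroup (Additive (Subgroup.center D)),
      (∀ x y, beta h hω1 x y ∈ NM) ∧ (∀ x, spow h hω1 hp0 x ∈ NM) ∧
      Nat.card NM ≤ p ^ (a / 2) ∧ (a % 2 = 1 → NM = ⊥) := by
  rcases eq_or_ne p 2 with rfl | hp2
  · exact bound_of_orderOf hp hcard hq hω ha (beta_isForm h hω1)
      (spow_add_two h hq hpq hp0 hω1) (spow_omega h hp hq hpq hp0 hω1)
  · obtain ⟨NM, h1, h2, h3⟩ := (beta_isForm h hω1).bound hp hcard (closure_eq_top hp hcard hq hω ha)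
    refine ⟨NM, h1, ?_, h2, h3⟩
    intro x
    have : spow h hω1 hp0 x = 0 := by
      show Additive.ofMul _ = Additive.ofMul 1
      congr 1
      apply Subtype.ext
      show (lift h hω1 x) ^ p = 1
      exact pow_p_eq_one_of_mem h hp hp2 hp0 (lift_mem h hω1 x)
    rw [this]
    exact NM.zero_mem

theorem card_PhiN_le [Finite D] (hp : p.Prime) (hq : q.Prime) (hpq : p ≠ q)
    (hcard : Nat.card F = p ^ a)
    (hω : orderOf ω = q) (ha : orderOf (p : ZMod q) = a) (h : SD q ω τ ψ) :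
    Nat.card (PhiN p τ) ≤ p ^ (a / 2) ∧ (a % 2 = 1 → PhiN p τ = ⊥) := by
  have hp0 : (p : F) = 0 := natCast_eq_zero_of_card hp hcard
  have hω1 : ω ≠ 1 := omega_ne_one hq hω
  obtain ⟨NM, h1, h2, h3, h4⟩ := exists_NM hp hq hpq hcard hω ha h hp0 hω1
  obtain ⟨K, hK⟩ : ∃ K : Subgroup D,
      K = (AddSubgroup.toSubgroup' NM).map (Subgroup.center D).subtype := ⟨_, rfl⟩
  have hmemK : ∀ (x : D) (hx : x ∈ Subgroup.center D),
      (Additive.ofMul (⟨x, hx⟩ : Subgroup.center D)) ∈ NM → x ∈ K := by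
    intro x hx hm
    rw [hK]
    exact ⟨⟨x, hx⟩, hm, rfl⟩
  have hle : PhiN p τ ≤ K := by
    unfold PhiN
    rw [Subgroup.closure_le]
    rintro x (⟨n, hn, n', hn', rfl⟩ | ⟨n, hn, rfl⟩)
    · have e : ⁅n, n'⁆ = ⁅lift h hω1 (ψ n), lift h hω1 (ψ n')⁆ :=
        comm_congr h (psi_lift h hω1 _).symm (psi_lift h hω1 _).symm
      rw [SetLike.mem_coe, e]
      exact hmemK _ (comm_center h _ _) (h1 (ψ n') (ψ n))
    · rw [SetLike.mem_coe, pow_eq_lift_pow h hp hq hpq hp0 hω1 hn]
      exact hmemK _ (ker_center h (pow_p_ker h hp0 _)) (h2 (ψ n))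
  have hcardK : Nat.card K = Nat.card NM := by
    rw [hK, Subgroup.card_map_of_injective (Subgroup.subtype_injective _)]
    exact Nat.card_congr
      ⟨fun x => ⟨Additive.ofMul x.1, x.2⟩, fun y => ⟨Additive.toMul y.1, y.2⟩,
        fun x => rfl, fun y => rfl⟩
  constructor
  · calc Nat.card (PhiN p τ) ≤ Nat.card K := Subgroup.card_le_of_le hle
      _ = Nat.card NM := hcardK
      _ ≤ p ^ (a / 2) := h3
  · intro hodd
    have hK1 : Nat.card K = 1 := by
      rw [hcardK, h4 hodd]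
      exact AddSubgroup.card_bot
    rw [Subgroup.card_eq_one] at hK1
    rw [eq_bot_iff, ← hK1]
    exact hle

/-- `ψ` restricted to `NN τ`, as a homomorphism -/
def psiHom (h : SD q ω τ ψ) : ↥(NN τ) →* Multiplicative F where
  toFun n := Multiplicative.ofAdd (ψ (n : D))
  map_one' := by
    show Multiplicative.ofAdd (ψ ((1 : D))) = 1
    rw [h.map_one]; rfl
  map_mul' := by
    intro x y
    show Multiplicative.ofAdd (ψ ((x : D) * (y : D))) = _
    rw [h.add]; rfl

/-- **the core bound** -/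
theorem card_NN_le [Finite D] (hp : p.Prime) (hq : q.Prime) (hpq : p ≠ q)
    (hcard : Nat.card F = p ^ a)
    (hω : orderOf ω = q) (ha : orderOf (p : ZMod q) = a) (h : SD q ω τ ψ) :
    Nat.card (NN τ) ≤ p ^ (if a % 2 = 1 then a else 3 * a / 2) := by
  have hp0 : (p : F) = 0 := natCast_eq_zero_of_card hp hcard
  obtain ⟨hΦ1, hΦ2⟩ := card_PhiN_le hp hq hpq hcard hω ha h
  have h1 : Nat.card (psiHom h).ker * Nat.card (psiHom h).range = Nat.card (NN τ) := by
    rw [← Subgroup.index_ker]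
    exact Subgroup.card_mul_index _
  have h2 : Nat.card (psiHom h).range ≤ p ^ a := by
    have := Subgroup.card_le_card_group (psiHom h).range
    have e : Nat.card (Multiplicative F) = p ^ a := by
      rw [← hcard]; exact Nat.card_congr Multiplicative.toAdd
    rwa [e] at this
  have hle : (psiHom h).ker.map (NN τ).subtype ≤ PhiN p τ := by
    rintro _ ⟨n, hn, rfl⟩
    have hn' : Multiplicative.ofAdd (ψ (n : D)) = 1 := hn
    have hψ : ψ (n : D) = 0 := hn'
    exact ker_le_PhiN h hp hq hpq hp0 n.2 hψ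
  have h3 : Nat.card (psiHom h).ker ≤ Nat.card (PhiN p τ) := by
    rw [← Subgroup.card_map_of_injective (Subgroup.subtype_injective (NN τ))]
    exact Subgroup.card_le_of_le hle
  have hpos : 0 < p := hp.pos
  by_cases hodd : a % 2 = 1
  · rw [if_pos hodd]
    have : Nat.card (PhiN p τ) = 1 := by
      rw [hΦ2 hodd]; exact Subgroup.card_bot
    have h4 : Nat.card (psiHom h).ker = 1 := by
      have := Nat.card_pos (α := (psiHom h).ker)
      omega
    rw [← h1, h4, one_mul]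
    exact h2
  · rw [if_neg hodd]
    have e : 3 * a / 2 = a / 2 + a := by omega
    rw [← h1, e, pow_add]
    exact Nat.mul_le_mul (h3.trans hΦ1) h2

end bnd

end Cfsg.Agent.Lib.Helper7.SchU
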