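import Mathlib
import Cfsg.Agent.Lib.Helper7.SuE

/-!
# Universal Schmidt groups: the graph trick

Two `SD`-data over the same `(F, ω)`; if the first has order `p ^ a₀` and both are irreducible
there is a surjective equivariant homomorphism from the first to the second.
-/

set_option autoImplicit false
set_option linter.unusedSectionVars false
set_option linter.unusedVariables false

namespace Cfsg.Agent.Lib.Helper7.SchU

open scoped commutatorElement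

section graph

variable {p q a : ℕ} {F : Type*} [Field F] {ω : F}
  {P₀ : Type*} [Group P₀] {τ₀ : MulAut P₀} {ψ₀ : P₀ → F}
  {P : Type*} [Group P] {α : MulAut P} {ψ : P → F}

/-- the diagonal subgroup -/
def Delta (h₀ : SD q ω τ₀ ψ₀) (h₁ : SD q ω α ψ) : Subgroup (P₀ × P) where
  carrier := {x | ψ₀ x.1 = ψ x.2}
  mul_mem' := by
    intro x y hx hy
    have hx' : ψ₀ x.1 = ψ x.2 := hx
    have hy' : ψ₀ y.1 = ψ y.2 := hy
    show ψ₀ (x * y).1 = ψ (x * y).2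
    rw [Prod.fst_mul, Prod.snd_mul, h₀.add, h₁.add, hx', hy']
  one_mem' := by
    show ψ₀ (1 : P₀ × P).1 = ψ (1 : P₀ × P).2
    rw [Prod.fst_one, Prod.snd_one, h₀.map_one, h₁.map_one]
  inv_mem' := by
    intro x hx
    have hx' : ψ₀ x.1 = ψ x.2 := hx
    show ψ₀ (x⁻¹).1 = ψ (x⁻¹).2
    rw [Prod.fst_inv, Prod.snd_inv, h₀.map_inv, h₁.map_inv, hx']

theorem mem_Delta (h₀ : SD q ω τ₀ ψ₀) (h₁ : SD q ω α ψ) (x : P₀ × P) :
    x ∈ Delta h₀ h₁ ↔ ψ₀ x.1 = ψ x.2 := Iff.rfl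

theorem SD.symm_apply (h : SD q ω α ψ) (hω0 : ω ≠ 0) (n : P) : ψ (α.symm n) = ω⁻¹ * ψ n := by
  have := h.equi (α.symm n)
  rw [MulEquiv.apply_symm_apply] at this
  rw [this, inv_mul_cancel_left₀ hω0]

/-- the operator on the diagonal subgroup -/
def tauDelta (h₀ : SD q ω τ₀ ψ₀) (h₁ : SD q ω α ψ) (hω0 : ω ≠ 0) : MulAut ↥(Delta h₀ h₁) where
  toFun x := ⟨(τ₀ x.1.1, α x.1.2), by
    show ψ₀ (τ₀ x.1.1) = ψ (α x.1.2)
    rw [h₀.equi, h₁.equi, (mem_Delta h₀ h₁ x.1).1 x.2]⟩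
  invFun x := ⟨(τ₀.symm x.1.1, α.symm x.1.2), by
    show ψ₀ (τ₀.symm x.1.1) = ψ (α.symm x.1.2)
    rw [h₀.symm_apply hω0, h₁.symm_apply hω0, (mem_Delta h₀ h₁ x.1).1 x.2]⟩
  left_inv x := by
    apply Subtype.ext
    apply Prod.ext
    · exact τ₀.symm_apply_apply _
    · exact α.symm_apply_apply _
  right_inv x := by
    apply Subtype.ext
    apply Prod.ext
    · exact τ₀.apply_symm_apply _
    · exact α.apply_symm_apply _
  map_mul' x y := by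
    apply Subtype.ext
    apply Prod.ext
    · show τ₀ ((x * y : ↥(Delta h₀ h₁)) : P₀ × P).1 = _
      rw [Subgroup.coe_mul, Prod.fst_mul, map_mul]; rfl
    · show α ((x * y : ↥(Delta h₀ h₁)) : P₀ × P).2 = _
      rw [Subgroup.coe_mul, Prod.snd_mul, map_mul]; rfl

theorem tauDelta_fst (h₀ : SD q ω τ₀ ψ₀) (h₁ : SD q ω α ψ) (hω0 : ω ≠ 0) (x : ↥(Delta h₀ h₁)) :
    ((tauDelta h₀ h₁ hω0 x : ↥(Delta h₀ h₁)) : P₀ × P).1 = τ₀ (x : P₀ × P).1 := rfl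

theorem tauDelta_snd (h₀ : SD q ω τ₀ ψ₀) (h₁ : SD q ω α ψ) (hω0 : ω ≠ 0) (x : ↥(Delta h₀ h₁)) :
    ((tauDelta h₀ h₁ hω0 x : ↥(Delta h₀ h₁)) : P₀ × P).2 = α (x : P₀ × P).2 := rfl

theorem tauDelta_pow_fst (h₀ : SD q ω τ₀ ψ₀) (h₁ : SD q ω α ψ) (hω0 : ω ≠ 0) (k : ℕ)
    (x : ↥(Delta h₀ h₁)) :
    (((tauDelta h₀ h₁ hω0 ^ k) x : ↥(Delta h₀ h₁)) : P₀ × P).1 = (τ₀ ^ k) (x : P₀ × P).1 := by
  induction k with
  | zero => simp
  | succ k ih => rw [pow_succ', MulAut.mul_apply, tauDelta_fst, ih, pow_succ', MulAut.mul_apply]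

theorem tauDelta_pow_snd (h₀ : SD q ω τ₀ ψ₀) (h₁ : SD q ω α ψ) (hω0 : ω ≠ 0) (k : ℕ)
    (x : ↥(Delta h₀ h₁)) :
    (((tauDelta h₀ h₁ hω0 ^ k) x : ↥(Delta h₀ h₁)) : P₀ × P).2 = (α ^ k) (x : P₀ × P).2 := by
  induction k with
  | zero => simp
  | succ k ih => rw [pow_succ', MulAut.mul_apply, tauDelta_snd, ih, pow_succ', MulAut.mul_apply]

/-- the diagonal datum -/
theorem sd_Delta (h₀ : SD q ω τ₀ ψ₀) (h₁ : SD q ω α ψ) (hω0 : ω ≠ 0) :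
    SD q ω (tauDelta h₀ h₁ hω0) (fun x : ↥(Delta h₀ h₁) => ψ₀ (x : P₀ × P).1) := by
  refine ⟨?_, ?_, ?_, ?_, ?_, ?_⟩
  · ext x
    · rw [tauDelta_pow_fst, h₀.pow]; rfl
    · rw [tauDelta_pow_snd, h₁.pow]; rfl
  · intro u v
    show ψ₀ ((u * v : ↥(Delta h₀ h₁)) : P₀ × P).1 = _
    rw [Subgroup.coe_mul, Prod.fst_mul, h₀.add]
  · intro x
    obtain ⟨n₀, hn₀⟩ := h₀.surj x
    obtain ⟨n, hn⟩ := h₁.surj x
    exact ⟨⟨(n₀, n), by rw [mem_Delta]; simp [hn₀, hn]⟩, hn₀⟩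
  · intro n hn m
    have hn0 : ψ₀ (n : P₀ × P).1 = 0 := hn
    have hn1 : ψ (n : P₀ × P).2 = 0 := by rw [← (mem_Delta h₀ h₁ n.1).1 n.2]; exact hn0
    apply Subtype.ext
    apply Prod.ext
    · show ((m * n : ↥(Delta h₀ h₁)) : P₀ × P).1 = ((n * m : ↥(Delta h₀ h₁)) : P₀ × P).1
      rw [Subgroup.coe_mul, Subgroup.coe_mul, Prod.fst_mul, Prod.fst_mul]
      exact h₀.ker_central _ hn0 _
    · show ((m * n : ↥(Delta h₀ h₁)) : P₀ × P).2 = ((n * m : ↥(Delta h₀ h₁)) : P₀ × P).2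
      rw [Subgroup.coe_mul, Subgroup.coe_mul, Prod.snd_mul, Prod.snd_mul]
      exact h₁.ker_central _ hn1 _
  · intro n hn
    have hn0 : ψ₀ (n : P₀ × P).1 = 0 := hn
    have hn1 : ψ (n : P₀ × P).2 = 0 := by rw [← (mem_Delta h₀ h₁ n.1).1 n.2]; exact hn0
    apply Subtype.ext
    apply Prod.ext
    · rw [tauDelta_fst]; exact h₀.ker_fixed _ hn0
    · rw [tauDelta_snd]; exact h₁.ker_fixed _ hn1
  · intro n
    show ψ₀ ((tauDelta h₀ h₁ hω0 n : ↥(Delta h₀ h₁)) : P₀ × P).1 = _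
    rw [tauDelta_fst, h₀.equi]

end graph

end Cfsg.Agent.Lib.Helper7.SchU
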