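import Mathlib
import Cfsg.Agent.Lib.Helper7.SuF

/-!
# Universal Schmidt groups: the equivariant homomorphism
-/

set_option autoImplicit false
set_option linter.unusedSectionVars false
set_option linter.unusedVariables false

namespace Cfsg.Agent.Lib.Helper7.SchU

open scoped commutatorElement

section graph2

variable {p q a : ℕ} {F : Type*} [Field F] [Finite F] {ω : F}
  {P₀ : Type*} [Group P₀] [Finite P₀] {τ₀ : MulAut P₀} {ψ₀ : P₀ → F}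
  {P : Type*} [Group P] [Finite P] {α : MulAut P} {ψ : P → F}

theorem omega_ne_zero (hq : q.Prime) (hω : orderOf ω = q) : ω ≠ 0 := by
  rintro rfl
  have h1 : (0 : F) ^ q = 1 := hω ▸ pow_orderOf_eq_one (0 : F)
  rw [zero_pow hq.ne_zero] at h1
  exact zero_ne_one h1

theorem exists_equivariant_hom (hp : p.Prime) (hq : q.Prime) (hpq : p ≠ q)
    (hcard : Nat.card F = p ^ a) (hω : orderOf ω = q) (ha : orderOf (p : ZMod q) = a)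
    (h₀ : SD q ω τ₀ ψ₀) (h₁ : SD q ω α ψ)
    (hirr₀ : ∀ M : Subgroup P₀, (∀ u ∈ M, τ₀ u ∈ M) → (∃ u ∈ M, ψ₀ u ≠ 0) → M = ⊤)
    (hirr₁ : ∀ M : Subgroup P, (∀ u ∈ M, α u ∈ M) → (∃ u ∈ M, ψ u ≠ 0) → M = ⊤)
    (hcardP₀ : Nat.card P₀ = p ^ (if a % 2 = 1 then a else 3 * a / 2)) :
    ∃ f : P₀ →* P, Function.Surjective f ∧ (∀ n₀, ψ (f n₀) = ψ₀ n₀) ∧
      (∀ n₀, f (τ₀ n₀) = α (f n₀)) := by
  have hω0 : ω ≠ 0 := omega_ne_zero hq hω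
  have hω1 : ω ≠ 1 := omega_ne_one hq hω
  have hΔ := sd_Delta h₀ h₁ hω0
  obtain ⟨N, hN⟩ : ∃ N : Subgroup ↥(Delta h₀ h₁), N = NN (tauDelta h₀ h₁ hω0) := ⟨_, rfl⟩
  have hcardN : Nat.card N ≤ Nat.card P₀ := by
    rw [hcardP₀, hN]
    exact card_NN_le hp hq hpq hcard hω ha hΔ
  -- the projections
  obtain ⟨g₁, hg₁⟩ : ∃ g₁ : ↥N →* P₀,
      g₁ = (MonoidHom.fst P₀ P).comp ((Delta h₀ h₁).subtype.comp N.subtype) := ⟨_, rfl⟩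
  obtain ⟨g₂, hg₂⟩ : ∃ g₂ : ↥N →* P,
      g₂ = (MonoidHom.snd P₀ P).comp ((Delta h₀ h₁).subtype.comp N.subtype) := ⟨_, rfl⟩
  have hg₁a : ∀ n : ↥N, g₁ n = ((n : ↥(Delta h₀ h₁)) : P₀ × P).1 := fun n => by rw [hg₁]; rfl
  have hg₂a : ∀ n : ↥N, g₂ n = ((n : ↥(Delta h₀ h₁)) : P₀ × P).2 := fun n => by rw [hg₂]; rfl
  have htau : ∀ n : ↥N, tauDelta h₀ h₁ hω0 (n : ↥(Delta h₀ h₁)) ∈ N := by
    intro n
    have hmemN : ∀ x, x ∈ N ↔ x ∈ NN (tauDelta h₀ h₁ hω0) := fun x => by rw [hN]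
    exact (hmemN _).2 (tau_mem_NN ((hmemN _).1 n.2))
  obtain ⟨n1, hn1, hn1'⟩ := exists_mem_NN hΔ hω1 1
  have hn1N : n1 ∈ N := by rw [hN]; exact hn1
  -- surjectivity of `g₁`
  have hs₁ : Function.Surjective g₁ := by
    rw [← MonoidHom.range_eq_top]
    apply hirr₀
    · rintro _ ⟨n, rfl⟩
      refine ⟨⟨_, htau n⟩, ?_⟩
      rw [hg₁a, hg₁a]
      rfl
    · refine ⟨g₁ ⟨n1, hn1N⟩, ⟨_, rfl⟩, ?_⟩
      rw [hg₁a]
      show ψ₀ (n1 : P₀ × P).1 ≠ 0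
      rw [hn1']
      exact one_ne_zero
  have hs₂ : Function.Surjective g₂ := by
    rw [← MonoidHom.range_eq_top]
    apply hirr₁
    · rintro _ ⟨n, rfl⟩
      refine ⟨⟨_, htau n⟩, ?_⟩
      rw [hg₂a, hg₂a]
      rfl
    · refine ⟨g₂ ⟨n1, hn1N⟩, ⟨_, rfl⟩, ?_⟩
      rw [hg₂a]
      show ψ (n1 : P₀ × P).2 ≠ 0
      rw [← (mem_Delta h₀ h₁ n1.1).1 n1.2, hn1']
      exact one_ne_zero
  have hb₁ : Function.Bijective g₁ := hs₁.bijective_of_nat_card_le hcardN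
  obtain ⟨e₁, he₁⟩ : ∃ e₁ : ↥N ≃* P₀, ∀ n, e₁ n = g₁ n :=
    ⟨MulEquiv.ofBijective g₁ hb₁, fun n => rfl⟩
  refine ⟨g₂.comp e₁.symm.toMonoidHom, ?_, ?_, ?_⟩
  · intro u
    obtain ⟨n, rfl⟩ := hs₂ u
    exact ⟨e₁ n, by simp⟩
  · intro n₀
    obtain ⟨n, rfl⟩ := e₁.surjective n₀
    show ψ (g₂ (e₁.symm (e₁ n))) = ψ₀ (e₁ n)
    rw [e₁.symm_apply_apply, he₁, hg₁a, hg₂a]
    exact ((mem_Delta h₀ h₁ _).1 (n : ↥(Delta h₀ h₁)).2).symm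
  · intro n₀
    obtain ⟨n, rfl⟩ := e₁.surjective n₀
    show g₂ (e₁.symm (τ₀ (e₁ n))) = α (g₂ (e₁.symm (e₁ n)))
    rw [e₁.symm_apply_apply]
    have : τ₀ (e₁ n) = e₁ ⟨_, htau n⟩ := by
      rw [he₁, he₁, hg₁a, hg₁a]
      rfl
    rw [this, e₁.symm_apply_apply, hg₂a, hg₂a]
    rfl

end graph2

end Cfsg.Agent.Lib.Helper7.SchU
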