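import Mathlib
import Cfsg.Agent.Lib.Helper7.SuA

/-!
# Universal Schmidt groups: the semidirect product `P₀ ⋊ C_n`
-/

set_option autoImplicit false
set_option linter.unusedSectionVars false
set_option linter.unusedVariables false

namespace Cfsg.Agent.Lib.Helper7.SchU

open scoped commutatorElement

section zhom

variable {M : Type*} [Group M] {n : ℕ} [NeZero n]

/-- the homomorphism `C_n → M` sending the generator to `x` -/
def zhom (x : M) (hx : x ^ n = 1) : Multiplicative (ZMod n) →* M where
  toFun c := x ^ (Multiplicative.toAdd c).val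
  map_one' := by simp
  map_mul' := by
    intro c d
    rw [toAdd_mul, ZMod.val_add, ← pow_eq_pow_mod _ hx, pow_add]

theorem zhom_apply (x : M) (hx : x ^ n = 1) (c : Multiplicative (ZMod n)) :
    zhom x hx c = x ^ (Multiplicative.toAdd c).val := rfl

theorem zhom_natCast (x : M) (hx : x ^ n = 1) (k : ℕ) :
    zhom x hx (Multiplicative.ofAdd (k : ZMod n)) = x ^ k := by
  rw [zhom_apply, toAdd_ofAdd, ZMod.val_natCast, ← pow_eq_pow_mod _ hx]

/-- the generator -/
def cgen (n : ℕ) : Multiplicative (ZMod n) := Multiplicative.ofAdd (1 : ZMod n)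

theorem zhom_cgen (x : M) (hx : x ^ n = 1) : zhom x hx (cgen n) = x := by
  have := zhom_natCast x hx 1
  rw [Nat.cast_one, pow_one] at this
  exact this

theorem eq_cgen_pow (c : Multiplicative (ZMod n)) : c = cgen n ^ (Multiplicative.toAdd c).val := by
  apply Multiplicative.toAdd.injective
  rw [toAdd_pow, cgen, toAdd_ofAdd, nsmul_eq_mul, mul_one, ZMod.natCast_zmod_val]

theorem card_mult_zmod : Nat.card (Multiplicative (ZMod n)) = n := by
  rw [Nat.card_congr Multiplicative.toAdd, Nat.card_zmod]

end zhom

end Cfsg.Agent.Lib.Helper7.SchU
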