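import Mathlib
import Cfsg.Agent.Lib.Helper7.SuH1

/-!
# Universal Schmidt groups: cyclic groups of prime power order; the action
-/

set_option autoImplicit false
set_option linter.unusedSectionVars false
set_option linter.unusedVariables false

namespace Cfsg.Agent.Lib.Helper7.SchU

open scoped commutatorElement

section cyc

variable {q r : ℕ}

/-- an element of `C_{q^r}` is a `q`-th power or a generator -/
theorem qpow_or_gen (hq : q.Prime) [NeZero (q ^ r)] (c : Multiplicative (ZMod (q ^ r))) :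
    (∃ d : Multiplicative (ZMod (q ^ r)), c = d ^ q) ∨
      (∀ d : Multiplicative (ZMod (q ^ r)), ∃ i : ℕ, d = c ^ i) := by
  obtain ⟨k, hk⟩ : ∃ k : ZMod (q ^ r), k = Multiplicative.toAdd c := ⟨_, rfl⟩
  by_cases hdvd : q ∣ k.val
  · left
    obtain ⟨v', hv'⟩ := hdvd
    refine ⟨Multiplicative.ofAdd (v' : ZMod (q ^ r)), ?_⟩
    apply Multiplicative.toAdd.injective
    rw [toAdd_pow, toAdd_ofAdd, ← hk, nsmul_eq_mul, ← Nat.cast_mul, ← hv', ZMod.natCast_zmod_val]
  · right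
    have hcop : Nat.Coprime k.val (q ^ r) :=
      Nat.Coprime.pow_right r ((Nat.Prime.coprime_iff_not_dvd hq).2 hdvd).symm
    have hunit : IsUnit k := by
      have := (ZMod.isUnit_iff_coprime k.val (q ^ r)).2 hcop
      rwa [ZMod.natCast_zmod_val] at this
    obtain ⟨u, hu⟩ := hunit
    intro d
    refine ⟨(Multiplicative.toAdd d * ((u⁻¹ : (ZMod (q ^ r))ˣ) : ZMod (q ^ r))).val, ?_⟩
    apply Multiplicative.toAdd.injective
    rw [toAdd_pow, ← hk, nsmul_eq_mul, ZMod.natCast_zmod_val, ← hu, mul_assoc, Units.inv_mul,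
      mul_one]

end cyc

section act

variable {q : ℕ} {F : Type*} [Field F] {ω : F} {P₀ : Type*} [Group P₀] {τ₀ : MulAut P₀}
  {ψ₀ : P₀ → F} {n : ℕ} [NeZero n]

theorem zhom_qpow (h : SD q ω τ₀ ψ₀) (hτ : τ₀ ^ n = 1) (d : Multiplicative (ZMod n)) :
    zhom τ₀ hτ (d ^ q) = 1 := by
  rw [map_pow, zhom_apply, ← pow_mul, mul_comm, pow_mul, h.pow, one_pow]

theorem zhom_psi (h : SD q ω τ₀ ψ₀) (hτ : τ₀ ^ n = 1) (c : Multiplicative (ZMod n)) (u : P₀) :
    ψ₀ (zhom τ₀ hτ c u) = ω ^ (Multiplicative.toAdd c).val * ψ₀ u := by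
  rw [zhom_apply, h.iter]

theorem zhom_fixed (h : SD q ω τ₀ ψ₀) (hτ : τ₀ ^ n = 1) (c : Multiplicative (ZMod n)) {u : P₀}
    (hu : ψ₀ u = 0) : zhom τ₀ hτ c u = u := by
  rw [zhom_apply]
  have hfix := h.ker_fixed u hu
  generalize (Multiplicative.toAdd c).val = k
  induction k with
  | zero => simp
  | succ k ih => rw [pow_succ, MulAut.mul_apply, hfix, ih]

end act

end Cfsg.Agent.Lib.Helper7.SchU
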