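import Mathlib
import Cfsg.Agent.Lib.Helper7.SuH2
import Cfsg.Agent.Lib.Lead.NormalPComplement
import Cfsg.Prelude.Def_Transfer

/-!
# Universal Schmidt groups: `P₀ ⋊ C_n` has no normal `p`-complement
-/

set_option autoImplicit false
set_option linter.unusedSectionVars false
set_option linter.unusedVariables false

namespace Cfsg.Agent.Lib.Helper7.SchU

open scoped commutatorElement
open SemidirectProduct

section notnil

variable {p q e : ℕ} {F : Type*} [Field F] {ω : F} {P₀ : Type*} [Group P₀] [Finite P₀]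
  {τ₀ : MulAut P₀} {ψ₀ : P₀ → F} {n : ℕ} [NeZero n]

instance finite_semi (φ : Multiplicative (ZMod n) →* MulAut P₀) :
    Finite (P₀ ⋊[φ] Multiplicative (ZMod n)) :=
  Finite.of_equiv _ SemidirectProduct.equivProd.symm

theorem cgen_pow_card : cgen n ^ n = 1 := by
  apply Multiplicative.toAdd.injective
  rw [toAdd_pow, cgen, toAdd_ofAdd, nsmul_eq_mul, mul_one, ZMod.natCast_self]
  rfl

theorem not_pnilp [hp : Fact p.Prime] (h : SD q ω τ₀ ψ₀) (hω1 : ω ≠ 1) (hτ : τ₀ ^ n = 1)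
    (hcardP : Nat.card P₀ = p ^ e) (hn : Nat.Coprime n p) :
    ¬ Cfsg.HasNormalPComplement p (P₀ ⋊[zhom τ₀ hτ] Multiplicative (ZMod n)) := by
  intro hc
  obtain ⟨N, hN, hcop, k, hk⟩ :=
    Cfsg.Agent.Lib.Lead.NormalPComplement.exists_normal_of_hasNormalPComplement hc
  haveI := hN
  obtain ⟨y₀, hy₀⟩ : ∃ y₀ : P₀ ⋊[zhom τ₀ hτ] Multiplicative (ZMod n), y₀ = inr (cgen n) := ⟨_, rfl⟩
  have hy₀n : y₀ ^ n = 1 := by rw [hy₀, ← map_pow, cgen_pow_card, map_one]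
  have hy₀N : y₀ ∈ N := by
    rw [← QuotientGroup.eq_one_iff]
    have h1 : ((y₀ : P₀ ⋊[zhom τ₀ hτ] Multiplicative (ZMod n)) : _ ⧸ N) ^ n = 1 := by
      rw [← QuotientGroup.mk_pow, hy₀n]; rfl
    have h2 : ((y₀ : P₀ ⋊[zhom τ₀ hτ] Multiplicative (ZMod n)) : _ ⧸ N) ^ (p ^ k) = 1 := by
      rw [← hk]
      exact pow_card_eq_one'
    have h3 := pow_gcd_eq_one.2 ⟨h1, h2⟩
    rwa [(Nat.Coprime.pow_right k hn), pow_one] at h3
  have hfix : ∀ u : P₀, τ₀ u = u := by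
    intro u
    have h1 : y₀ * (inl u * y₀⁻¹ * (inl u)⁻¹) ∈ N :=
      N.mul_mem hy₀N (hN.conj_mem _ (N.inv_mem hy₀N) _)
    have h2 : y₀ * (inl u * y₀⁻¹ * (inl u)⁻¹) = inl (τ₀ u * u⁻¹) := by
      have h3 := inl_aut (φ := zhom τ₀ hτ) (cgen n) u
      rw [zhom_cgen] at h3
      rw [map_mul, h3, hy₀, map_inv, map_inv]
      group
    rw [h2] at h1
    have h4 : (inl (τ₀ u * u⁻¹) : P₀ ⋊[zhom τ₀ hτ] Multiplicative (ZMod n)) ^ (p ^ e) = 1 := by
      rw [← map_pow, ← hcardP, pow_card_eq_one', map_one]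
    have h5 : (inl (τ₀ u * u⁻¹) : P₀ ⋊[zhom τ₀ hτ] Multiplicative (ZMod n)) ^ (Nat.card N) = 1 := by
      have e1 : ((⟨_, h1⟩ : N) ^ Nat.card N : N) = 1 := pow_card_eq_one'
      have e2 := congrArg Subtype.val e1
      rw [Subgroup.coe_pow, Subgroup.coe_one] at e2
      exact e2
    have h6 := pow_gcd_eq_one.2 ⟨h5, h4⟩
    rw [(Nat.Coprime.pow_right e hcop), pow_one] at h6
    have h7 : τ₀ u * u⁻¹ = 1 := inl_injective (by rw [h6, map_one])
    exact mul_inv_eq_one.1 h7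
  obtain ⟨u, hu⟩ := h.surj 1
  have := h.equi u
  rw [hfix, hu, mul_one] at this
  exact hω1 this.symm

end notnil

end Cfsg.Agent.Lib.Helper7.SchU
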