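import Mathlib
import Cfsg.Agent.Lib.Helper7.SuH3
import Cfsg.Agent.Lib.Helper7.SuB

/-!
# Universal Schmidt groups: proper subgroups of `P₀ ⋊ C_{q^r}` are nilpotent
-/

set_option autoImplicit false
set_option linter.unusedSectionVars false
set_option linter.unusedVariables false

namespace Cfsg.Agent.Lib.Helper7.SchU

open scoped commutatorElement
open SemidirectProduct
open Cfsg.Agent.Lib.Helper8.SchmidtForm

section cyc2

variable {q r : ℕ}

theorem qpow_of_dvd [NeZero (q ^ r)] (c : Multiplicative (ZMod (q ^ r)))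
    (hdvd : q ∣ (Multiplicative.toAdd c).val) :
    ∃ d : Multiplicative (ZMod (q ^ r)), c = d ^ q := by
  obtain ⟨v', hv'⟩ := hdvd
  refine ⟨Multiplicative.ofAdd (v' : ZMod (q ^ r)), ?_⟩
  apply Multiplicative.toAdd.injective
  rw [toAdd_pow, toAdd_ofAdd, nsmul_eq_mul, ← Nat.cast_mul, ← hv', ZMod.natCast_zmod_val]

theorem gen_of_not_dvd (hq : q.Prime) [NeZero (q ^ r)] (c : Multiplicative (ZMod (q ^ r)))
    (hdvd : ¬ q ∣ (Multiplicative.toAdd c).val) :
    ∀ d : Multiplicative (ZMod (q ^ r)), ∃ i : ℕ, d = c ^ i := by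
  rcases qpow_or_gen hq c with ⟨d, hd⟩ | hg
  · exfalso
    apply hdvd
    obtain ⟨k, hk⟩ : ∃ k : ZMod (q ^ r), k = Multiplicative.toAdd d := ⟨_, rfl⟩
    rw [hd, toAdd_pow, ← hk, nsmul_eq_mul, ZMod.val_mul, ZMod.val_natCast]
    have hr : r ≠ 0 := by
      rintro rfl
      -- `q ^ 0 = 1`: every value is `0`
      apply hdvd
      have : (Multiplicative.toAdd c).val < 1 := by
        have := ZMod.val_lt (Multiplicative.toAdd c)
        simpa using this
      have h0 : (Multiplicative.toAdd c).val = 0 := by omega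
      rw [h0]
      exact dvd_zero q
    have hqr : q ∣ q ^ r := dvd_pow_self q hr
    have h1 : q ∣ q % q ^ r * k.val := by
      apply Dvd.dvd.mul_right
      exact (Nat.dvd_mod_iff hqr).2 (dvd_refl q)
    exact (Nat.dvd_mod_iff hqr).2 h1
  · exact hg

end cyc2

section proper

variable {p q r a e : ℕ} {F : Type*} [Field F] [Finite F] {ω : F} {P₀ : Type*} [Group P₀]
  [Finite P₀] {τ₀ : MulAut P₀} {ψ₀ : P₀ → F} [NeZero (q ^ r)]

/-- kernel elements are central in the semidirect product -/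
theorem inl_ker_central (h : SD q ω τ₀ ψ₀) (hτ : τ₀ ^ (q ^ r) = 1) {u : P₀} (hu : ψ₀ u = 0)
    (g : P₀ ⋊[zhom τ₀ hτ] Multiplicative (ZMod (q ^ r))) : g * inl u = inl u * g := by
  rw [← inl_left_mul_inr_right g]
  have h1 : (inr g.right : P₀ ⋊[zhom τ₀ hτ] Multiplicative (ZMod (q ^ r))) * inl u =
      inl u * inr g.right := by
    have h2 := inl_aut (φ := zhom τ₀ hτ) g.right u
    rw [zhom_fixed h hτ _ hu] at h2
    calc (inr g.right : P₀ ⋊[zhom τ₀ hτ] Multiplicative (ZMod (q ^ r))) * inl u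
        = (inr g.right * inl u * inr g.right⁻¹) * inr g.right := by
          rw [map_inv]; group
      _ = inl u * inr g.right := by rw [← h2]
  have h3 : (inl g.left : P₀ ⋊[zhom τ₀ hτ] Multiplicative (ZMod (q ^ r))) * inl u =
      inl u * inl g.left := by
    rw [← map_mul, ← map_mul, h.ker_central u hu g.left]
  rw [mul_assoc, h1, ← mul_assoc, h3, mul_assoc]

theorem proper_nilpotent [hp : Fact p.Prime] (hq : q.Prime) (hcard : Nat.card F = p ^ a)
    (hω : orderOf ω = q) (ha : orderOf (p : ZMod q) = a) (h : SD q ω τ₀ ψ₀)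
    (hcomm : ∀ n : P₀, ψ₀ n = 0 → ∃ u v : P₀, n = ⁅u, v⁆) (hτ : τ₀ ^ (q ^ r) = 1)
    (hcardP : Nat.card P₀ = p ^ e)
    (K : Subgroup (P₀ ⋊[zhom τ₀ hτ] Multiplicative (ZMod (q ^ r)))) (hK : K ≠ ⊤) :
    Group.IsNilpotent K := by
  haveI : Group.IsNilpotent P₀ := (IsPGroup.of_card hcardP).isNilpotent
  by_cases h1 : ∀ k ∈ K, q ∣ (Multiplicative.toAdd k.right).val
  · -- all `q`-parts are central
    have hact : ∀ k ∈ K, zhom τ₀ hτ k.right = 1 := by
      intro k hk
      obtain ⟨d, hd⟩ := qpow_of_dvd k.right (h1 k hk)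
      rw [hd, zhom_qpow h]
    let f : ↥K →* P₀ :=
      { toFun := fun k => k.1.left
        map_one' := rfl
        map_mul' := by
          intro k k'
          show ((k : P₀ ⋊[zhom τ₀ hτ] Multiplicative (ZMod (q ^ r))) * k').left = _
          rw [mul_left, hact k.1 k.2, MulAut.one_apply] }
    have hker : f.ker ≤ Subgroup.center ↥K := by
      intro k hk
      have hk1 : k.1.left = 1 := hk
      rw [Subgroup.mem_center_iff]
      intro k'
      apply Subtype.ext
      show (k' : P₀ ⋊[zhom τ₀ hτ] Multiplicative (ZMod (q ^ r))) * k = k * k'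
      apply SemidirectProduct.ext
      · rw [mul_left, mul_left, hk1, map_one, mul_one, one_mul, hact k.1 k.2, MulAut.one_apply]
      · rw [mul_right, mul_right, mul_comm]
    exact isNilpotent_of_ker_le_center f hker
  · push Not at h1
    obtain ⟨k₀, hk₀K, hk₀⟩ := h1
    have hgen := gen_of_not_dvd hq k₀.right hk₀
    obtain ⟨ev, hev⟩ : ∃ ev : ℕ, ev = (Multiplicative.toAdd k₀.right).val := ⟨_, rfl⟩
    have hcop : Nat.Coprime q ev := by
      rw [hev]; exact (Nat.Prime.coprime_iff_not_dvd hq).2 hk₀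
    have hlam : orderOf (ω ^ ev) = q := by
      rw [Nat.Coprime.orderOf_pow (by rw [hω]; exact hcop), hω]
    have hk₀eq : k₀ = inl k₀.left * inr k₀.right := (inl_left_mul_inr_right k₀).symm
    -- the subgroup `M`
    obtain ⟨M, hM⟩ : ∃ M : Subgroup P₀, M = K.comap inl := ⟨_, rfl⟩
    have hmemM : ∀ u, u ∈ M ↔ (inl u : P₀ ⋊[zhom τ₀ hτ] Multiplicative (ZMod (q ^ r))) ∈ K := by
      intro u; rw [hM]; rfl
    have hinv : ∀ u ∈ M, k₀.left * (zhom τ₀ hτ k₀.right u) * k₀.left⁻¹ ∈ M := by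
      intro u hu
      rw [hmemM] at hu ⊢
      have h2 : k₀ * inl u * k₀⁻¹ ∈ K := K.mul_mem (K.mul_mem hk₀K hu) (K.inv_mem hk₀K)
      have h3 : k₀ * inl u * k₀⁻¹ = inl (k₀.left * (zhom τ₀ hτ k₀.right u) * k₀.left⁻¹) := by
        rw [map_mul, map_mul, inl_aut, map_inv]
        conv_lhs => rw [hk₀eq]
        rw [map_inv]
        group
      rwa [h3] at h2
    -- the image is an ideal
    obtain ⟨S, hS⟩ : ∃ S : Subring F, ∀ c, c ∈ S ↔ ∀ u ∈ M, ∃ v ∈ M, ψ₀ v = c * ψ₀ u :=
      ⟨{ carrier := {c | ∀ u ∈ M, ∃ v ∈ M, ψ₀ v = c * ψ₀ u}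
         mul_mem' := by
           intro c d hc hd u hu
           obtain ⟨v, hv, hvd⟩ := hd u hu
           obtain ⟨w, hw, hwc⟩ := hc v hv
           exact ⟨w, hw, by rw [hwc, hvd, mul_assoc]⟩
         one_mem' := by
           intro u hu
           exact ⟨u, hu, by rw [one_mul]⟩
         add_mem' := by
           intro c d hc hd u hu
           obtain ⟨v, hv, hvc⟩ := hc u hu
           obtain ⟨w, hw, hwd⟩ := hd u hu
           exact ⟨v * w, M.mul_mem hv hw, by rw [h.add, hvc, hwd, add_mul]⟩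
         zero_mem' := by
           intro u hu
           exact ⟨1, M.one_mem, by rw [h.map_one, zero_mul]⟩
         neg_mem' := by
           intro c hc u hu
           obtain ⟨v, hv, hvc⟩ := hc u hu
           exact ⟨v⁻¹, M.inv_mem hv, by rw [h.map_inv, hvc, neg_mul]⟩ }, fun c => Iff.rfl⟩
    have hlamS : ω ^ ev ∈ S := by
      rw [hS]
      intro u hu
      refine ⟨_, hinv u hu, ?_⟩
      rw [h.map_conj, zhom_psi h hτ, hev]
    have htop : S = ⊤ := by
      rw [eq_top_iff, ← closure_eq_top hp.out hcard hq hlam ha, Subring.closure_le]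
      intro x hx
      rw [Set.mem_singleton_iff] at hx
      rw [hx]
      exact hlamS
    by_cases hI : ∃ u ∈ M, ψ₀ u ≠ 0
    · exfalso
      obtain ⟨u₁, hu₁, hu₁0⟩ := hI
      have hall : ∀ v : P₀, ∃ u ∈ M, ψ₀ u = ψ₀ v := by
        intro v
        have hmem : ψ₀ v * (ψ₀ u₁)⁻¹ ∈ S := htop ▸ Subring.mem_top _
        obtain ⟨w, hw, hwv⟩ := (hS _).1 hmem u₁ hu₁
        exact ⟨w, hw, by rw [hwv, mul_assoc, inv_mul_cancel₀ hu₁0, mul_one]⟩
      have hkerM : ∀ z : P₀, ψ₀ z = 0 → z ∈ M := by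
        intro z hz
        obtain ⟨a', b', hab⟩ := hcomm z hz
        obtain ⟨ua, hua, hua'⟩ := hall a'
        obtain ⟨ub, hub, hub'⟩ := hall b'
        have : z = ⁅ua, ub⁆ := by rw [hab]; exact comm_congr h hua'.symm hub'.symm
        rw [this, commutatorElement_def]
        exact M.mul_mem (M.mul_mem (M.mul_mem hua hub) (M.inv_mem hua)) (M.inv_mem hub)
      have hMtop : ∀ v : P₀, v ∈ M := by
        intro v
        obtain ⟨u, hu, huv⟩ := hall v
        have : v = u * (u⁻¹ * v) := by group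
        rw [this]
        apply M.mul_mem hu
        apply hkerM
        rw [h.add, h.map_inv, huv]; ring
      apply hK
      rw [eq_top_iff]
      intro g _
      rw [← inl_left_mul_inr_right g]
      apply K.mul_mem ((hmemM _).1 (hMtop _))
      have hinr : (inr k₀.right : P₀ ⋊[zhom τ₀ hτ] Multiplicative (ZMod (q ^ r))) ∈ K := by
        have : (inr k₀.right : P₀ ⋊[zhom τ₀ hτ] Multiplicative (ZMod (q ^ r))) =
            (inl k₀.left)⁻¹ * k₀ := by
          calc (inr k₀.right : P₀ ⋊[zhom τ₀ hτ] Multiplicative (ZMod (q ^ r)))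
              = (inl k₀.left)⁻¹ * (inl k₀.left * inr k₀.right) := by group
            _ = (inl k₀.left)⁻¹ * k₀ := by rw [inl_left_mul_inr_right]
        rw [this]
        exact K.mul_mem (K.inv_mem ((hmemM _).1 (hMtop _))) hk₀K
      obtain ⟨i, hi⟩ := hgen g.right
      rw [hi, map_pow]
      exact K.pow_mem hinr i
    · push Not at hI
      -- `K` is abelian
      have hdecomp : ∀ k ∈ K, ∃ (z : P₀) (i : ℕ), ψ₀ z = 0 ∧ k = inl z * k₀ ^ i := by
        intro k hk
        obtain ⟨i, hi⟩ := hgen k.right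
        have hzK : k * (k₀ ^ i)⁻¹ ∈ K := K.mul_mem hk (K.inv_mem (K.pow_mem hk₀K i))
        have hzr : (k * (k₀ ^ i)⁻¹).right = 1 := by
          rw [mul_right, inv_right, ← rightHom_eq_right, map_pow, rightHom_eq_right, hi,
            mul_inv_cancel]
        have hz : k * (k₀ ^ i)⁻¹ = inl (k * (k₀ ^ i)⁻¹).left := by
          conv_lhs => rw [← inl_left_mul_inr_right (k * (k₀ ^ i)⁻¹), hzr, map_one, mul_one]
        refine ⟨(k * (k₀ ^ i)⁻¹).left, i, ?_, ?_⟩
        · apply hI
          rw [hmemM, ← hz]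
          exact hzK
        · rw [← hz]; group
      have hcommK : ∀ k k' : ↥K, k * k' = k' * k := by
        intro k k'
        obtain ⟨z, i, hz, hk⟩ := hdecomp k.1 k.2
        obtain ⟨z', j, hz', hk'⟩ := hdecomp k'.1 k'.2
        apply Subtype.ext
        show (k : P₀ ⋊[zhom τ₀ hτ] Multiplicative (ZMod (q ^ r))) * k' = k' * k
        have c1 := inl_ker_central h hτ hz
        have c2 := inl_ker_central h hτ hz'
        rw [hk, hk']
        have e1 : k₀ ^ i * inl z' = inl z' * k₀ ^ i := c2 _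
        have e2 : (inl z : P₀ ⋊[zhom τ₀ hτ] Multiplicative (ZMod (q ^ r))) * inl z' =
            inl z' * inl z := c2 _
        have e3 : k₀ ^ j * inl z = inl z * k₀ ^ j := c1 _
        have e4 : k₀ ^ i * k₀ ^ j = k₀ ^ j * k₀ ^ i := (Commute.pow_pow_self k₀ i j).eq
        calc inl z * k₀ ^ i * (inl z' * k₀ ^ j) = inl z * (k₀ ^ i * inl z') * k₀ ^ j := by
              simp only [mul_assoc]
          _ = inl z * (inl z' * k₀ ^ i) * k₀ ^ j := by rw [e1]
          _ = (inl z * inl z') * (k₀ ^ i * k₀ ^ j) := by simp only [mul_assoc]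
          _ = (inl z' * inl z) * (k₀ ^ j * k₀ ^ i) := by rw [e2, e4]
          _ = inl z' * (inl z * k₀ ^ j) * k₀ ^ i := by simp only [mul_assoc]
          _ = inl z' * (k₀ ^ j * inl z) * k₀ ^ i := by rw [e3]
          _ = inl z' * k₀ ^ j * (inl z * k₀ ^ i) := by simp only [mul_assoc]
      exact isNilpotent_of_ker_le_center (1 : ↥K →* Unit)
        (by
          intro k _
          rw [Subgroup.mem_center_iff]
          intro g
          exact hcommK g k)

end proper

end Cfsg.Agent.Lib.Helper7.SchU
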