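import Mathlib
import Cfsg.Agent.Lib.Helper7.SuX1

/-!
# Universal Schmidt groups: the `X`-side, part 2 (an eigen-homomorphism)
-/

set_option autoImplicit false
set_option linter.unusedSectionVars false
set_option linter.unusedVariables false

namespace Cfsg.Agent.Lib.Helper7.SchU

open scoped commutatorElement
open Cfsg.Agent.Lib.Helper7

section avg

variable {p q : ℕ} [hp : Fact p.Prime] {R : Type*} [Group R] [Finite R] {α : MulAut R}
  {F : Type*} [Field F]

/-- an additive character not vanishing at a given element outside the Frattini subgroup -/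
theorem exists_additive_of_not_mem_frattini [CharP F p] (hR : IsPGroup p R) {w : R}
    (hw : w ∉ frattini R) :
    ∃ χ : R → F, (∀ u v, χ (u * v) = χ u + χ v) ∧ χ w ≠ 0 := by
  have hex : ∃ M : Subgroup R, IsCoatom M ∧ w ∉ M := by
    by_contra hcon
    push Not at hcon
    apply hw
    unfold frattini Order.radical
    rw [Subgroup.mem_iInf]
    intro M
    rw [Subgroup.mem_iInf]
    intro hM
    exact hcon M hM
  obtain ⟨M, hM, hwM⟩ := hex
  obtain ⟨hMn, hidx⟩ := Cfsg.Agent.H1.coatom_normal_index_of_pgroup hR M hM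
  haveI := hMn
  have hcardQ : Nat.card (R ⧸ M) = p := hidx
  haveI hcyc : IsCyclic (R ⧸ M) := isCyclic_of_prime_card hcardQ
  obtain ⟨g, hg⟩ := hcyc.exists_generator
  have hog : orderOf g = p := by rw [orderOf_eq_card_of_forall_mem_zpowers hg, hcardQ]
  choose k hk using fun u : R => Subgroup.mem_zpowers_iff.1 (hg (QuotientGroup.mk u))
  refine ⟨fun u => ((k u : ℤ) : F), ?_, ?_⟩
  · intro u v
    have h1 : g ^ (k (u * v)) = g ^ (k u + k v) := by
      rw [zpow_add, hk, hk, hk]; rfl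
    rw [zpow_eq_zpow_iff_modEq, hog] at h1
    obtain ⟨c, hc⟩ := h1.dvd
    have h2 : ((k u + k v - k (u * v) : ℤ) : F) = 0 := by
      rw [hc]; push_cast; rw [CharP.cast_eq_zero F p, zero_mul]
    push_cast at h2
    show ((k (u * v) : ℤ) : F) = ((k u : ℤ) : F) + ((k v : ℤ) : F)
    linear_combination -h2
  · intro h0
    have h1 : (p : ℤ) ∣ k w := (CharP.intCast_eq_zero_iff F p (k w)).1 h0
    obtain ⟨c, hc⟩ := h1
    have h2 : (QuotientGroup.mk w : R ⧸ M) = 1 := by
      rw [← hk, hc, zpow_mul, zpow_natCast, ← hog, pow_orderOf_eq_one, one_zpow]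
    exact hwM ((QuotientGroup.eq_one_iff w).1 h2)

/-- the `j`-th isotypic projection of an additive character -/
noncomputable def avg (q : ℕ) (α : MulAut R) (ω : F) (χ : R → F) (j : ℕ) (u : R) : F :=
  ∑ i ∈ Finset.range q, (ω ^ (j * i))⁻¹ * χ ((α ^ i) u)

theorem avg_add {ω : F} {χ : R → F} (hχ : ∀ u v, χ (u * v) = χ u + χ v) (j : ℕ) (u v : R) :
    avg q α ω χ j (u * v) = avg q α ω χ j u + avg q α ω χ j v := by
  unfold avg
  rw [← Finset.sum_add_distrib]
  apply Finset.sum_congr rfl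
  intro i _
  rw [map_mul, hχ, mul_add]

theorem avg_eigen {ω : F} (hq0 : 0 < q) (hω : ω ^ q = 1) (hα : α ^ q = 1) (χ : R → F) (j : ℕ)
    (u : R) : avg q α ω χ j (α u) = ω ^ j * avg q α ω χ j u := by
  have hω0 : ω ≠ 0 := by
    rintro rfl
    rw [zero_pow hq0.ne'] at hω
    exact zero_ne_one hω
  unfold avg
  obtain ⟨T, hT⟩ : ∃ T : ℕ → F, T = fun i => (ω ^ (j * i))⁻¹ * χ ((α ^ i) u) := ⟨_, rfl⟩
  have h1 : ∀ i, (ω ^ (j * i))⁻¹ * χ ((α ^ i) (α u)) = ω ^ j * T (i + 1) := by
    intro i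
    rw [hT]
    show _ = ω ^ j * ((ω ^ (j * (i + 1)))⁻¹ * χ ((α ^ (i + 1)) u))
    rw [pow_succ α i, MulAut.mul_apply, mul_add, mul_one, pow_add, mul_inv, ← mul_assoc,
      ← mul_assoc, mul_comm (ω ^ j), mul_assoc _ (ω ^ j), mul_inv_cancel₀ (pow_ne_zero _ hω0),
      mul_one]
  have h2 : ∑ i ∈ Finset.range q, T (i + 1) = ∑ i ∈ Finset.range q, T i := by
    have e1 := Finset.sum_range_succ' T q
    have e2 := Finset.sum_range_succ T q
    have e3 : T q = T 0 := by
      rw [hT]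
      show (ω ^ (j * q))⁻¹ * χ ((α ^ q) u) = (ω ^ (j * 0))⁻¹ * χ ((α ^ 0) u)
      rw [hα, mul_comm j q, pow_mul, hω, one_pow, mul_zero, pow_zero, pow_zero]
    rw [e2, e3] at e1
    exact (add_right_cancel e1).symm
  rw [Finset.sum_congr rfl (fun i _ => h1 i), ← Finset.mul_sum, h2, hT]

theorem sum_avg {ω : F} (hq : q.Prime) (hω : orderOf ω = q) (χ : R → F) (u : R) :
    ∑ j ∈ Finset.range q, avg q α ω χ j u = (q : F) * χ u := by
  unfold avg
  rw [Finset.sum_comm]
  have hωq : ω ^ q = 1 := hω ▸ pow_orderOf_eq_one ω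
  have h1 : ∀ i ∈ Finset.range q, ∑ j ∈ Finset.range q, (ω ^ (j * i))⁻¹ * χ ((α ^ i) u) =
      (if i = 0 then (q : F) else 0) * χ ((α ^ i) u) := by
    intro i hi
    rw [← Finset.sum_mul]
    congr 1
    have e : ∀ j, (ω ^ (j * i))⁻¹ = ((ω ^ i)⁻¹) ^ j := by
      intro j
      rw [mul_comm, pow_mul, inv_pow]
    rw [Finset.sum_congr rfl (fun j _ => e j)]
    split_ifs with hi0
    · subst hi0
      simp
    · have hne : (ω ^ i)⁻¹ ≠ 1 := by
        intro h1
        have h2 : ω ^ i = 1 := by rwa [inv_eq_one] at h1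
        have h3 : q ∣ i := hω ▸ orderOf_dvd_of_pow_eq_one h2
        have h4 := Finset.mem_range.1 hi
        have := Nat.le_of_dvd (Nat.pos_of_ne_zero hi0) h3
        omega
      rw [geom_sum_eq hne, inv_pow, ← pow_mul, mul_comm, pow_mul, hωq, one_pow, inv_one, sub_self,
        zero_div]
  rw [Finset.sum_congr rfl h1, Finset.sum_eq_single 0]
  · simp
  · intro i _ hi0
    rw [if_neg hi0, zero_mul]
  · intro h0
    exfalso
    exact h0 (Finset.mem_range.2 hq.pos)

end avg

end Cfsg.Agent.Lib.Helper7.SchU
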