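import Mathlib
import Cfsg.Agent.Lib.Helper7.SuX2
import Cfsg.Agent.Lib.Helper8.SchmidtForm

/-!
# Universal Schmidt groups: the `X`-side, part 3 (properties of the eigen-homomorphism)
-/

set_option autoImplicit false
set_option linter.unusedSectionVars false
set_option linter.unusedVariables false

namespace Cfsg.Agent.Lib.Helper7.SchU

open scoped commutatorElement
open Cfsg.Agent.Lib.Helper7
open Cfsg.Agent.Lib.Helper8.SchmidtForm

section eig

variable {p q a : ℕ} [hp : Fact p.Prime] {R : Type*} [Group R] [Finite R] {α : MulAut R}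
  {F : Type*} [Field F]

theorem additive_one {χ : R → F} (hχ : ∀ u v, χ (u * v) = χ u + χ v) : χ 1 = 0 := by
  have := hχ 1 1
  rw [mul_one] at this
  exact left_eq_add.1 this

theorem additive_inv {χ : R → F} (hχ : ∀ u v, χ (u * v) = χ u + χ v) (u : R) :
    χ u⁻¹ = - χ u := by
  have := hχ u u⁻¹
  rw [mul_inv_cancel, additive_one hχ] at this
  exact (neg_eq_of_add_eq_zero_right this.symm).symm

theorem frattini_fixed (h : Sch.Hyp p q R α) {u : R} (hu : u ∈ frattini R) : α u = u := by
  haveI := h.nontrivial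
  have hne : frattini R ≠ ⊤ := by
    intro htop
    have h1 : (⊥ : Subgroup R) ⊔ frattini R = ⊤ := by rw [htop, sup_top_eq]
    exact bot_ne_top (frattini_nongenerating h1)
  apply h.irred (frattini R) hne
  · intro x hx
    have := (Subgroup.characteristic_iff_map_le.mp (frattini_characteristic (G := R))) α
    exact this (Subgroup.mem_map_of_mem _ hx)
  · exact hu

theorem exists_eigen [CharP F p] (h : Sch.Hyp p q R α) {ω : F} (hω : orderOf ω = q) :
    ∃ (j : ℕ) (χ : R → F), 0 < j ∧ j < q ∧ (∀ u v, χ (u * v) = χ u + χ v) ∧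
      (∀ u, χ (α u) = ω ^ j * χ u) ∧ ∃ u, χ u ≠ 0 := by
  have hq : q.Prime := h.rprime
  have hωq : ω ^ q = 1 := hω ▸ pow_orderOf_eq_one ω
  obtain ⟨u₀, hu₀⟩ : ∃ u₀, α (u₀⁻¹ * α u₀) ≠ u₀⁻¹ * α u₀ := by
    by_contra hc
    push Not at hc
    exact h.false_of_diff_fixed hc
  have hw : u₀⁻¹ * α u₀ ∉ frattini R := fun hm => hu₀ (frattini_fixed h hm)
  obtain ⟨χ₀, hadd, hχw⟩ := exists_additive_of_not_mem_frattini (F := F) h.pgroup hw
  have hne0 : χ₀ (α u₀) ≠ χ₀ u₀ := by
    intro he
    apply hχw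
    rw [hadd, additive_inv hadd, he]; ring
  by_contra hall
  push Not at hall
  have hz : ∀ j, 0 < j → j < q → ∀ u, avg q α ω χ₀ j u = 0 := by
    intro j hj0 hjq
    exact hall j (avg q α ω χ₀ j) hj0 hjq (avg_add hadd j) (avg_eigen hq.pos hωq h.pow χ₀ j)
  have hsum : ∀ u, avg q α ω χ₀ 0 u = (q : F) * χ₀ u := by
    intro u
    rw [← sum_avg (α := α) hq hω χ₀ u]
    symm
    apply Finset.sum_eq_single 0
    · intro j hj hj0
      exact hz j (Nat.pos_of_ne_zero hj0) (Finset.mem_range.1 hj) u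
    · intro h0
      exact absurd (Finset.mem_range.2 hq.pos) h0
  have h1 := avg_eigen hq.pos hωq h.pow χ₀ 0 u₀
  rw [pow_zero, one_mul, hsum, hsum] at h1
  have hq0 : (q : F) ≠ 0 := by
    intro h0
    have := (CharP.cast_eq_zero_iff F p q).1 h0
    exact h.rne ((Nat.prime_dvd_prime_iff_eq hp.out hq).1 this).symm
  exact hne0 (mul_left_cancel₀ hq0 h1)

/-- kernel of an eigen-homomorphism -/
theorem eigen_ker (h : Sch.Hyp p q R α) {lam : F} (hlam : lam ≠ 1) {χ : R → F}
    (hadd : ∀ u v, χ (u * v) = χ u + χ v) (heig : ∀ u, χ (α u) = lam * χ u)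
    (hne : ∃ u, χ u ≠ 0) (u : R) : χ u = 0 ↔ α u = u := by
  constructor
  · intro hu
    obtain ⟨M, hM⟩ : ∃ M : Subgroup R, ∀ x, x ∈ M ↔ χ x = 0 :=
      ⟨{ carrier := {x | χ x = 0}
         mul_mem' := by
           intro x y hx hy
           have hx' : χ x = 0 := hx
           have hy' : χ y = 0 := hy
           show χ (x * y) = 0
           rw [hadd, hx', hy', add_zero]
         one_mem' := additive_one hadd
         inv_mem' := by
           intro x hx
           have hx' : χ x = 0 := hx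
           show χ x⁻¹ = 0
           rw [additive_inv hadd, hx', neg_zero] }, fun x => Iff.rfl⟩
    have hMne : M ≠ ⊤ := by
      intro htop
      obtain ⟨v, hv⟩ := hne
      exact hv ((hM v).1 (htop ▸ Subgroup.mem_top v))
    apply h.irred M hMne
    · intro x hx
      rw [hM] at hx ⊢
      rw [heig, hx, mul_zero]
    · exact (hM u).2 hu
  · intro hu
    have h1 := heig u
    rw [hu] at h1
    have h2 : (lam - 1) * χ u = 0 := by rw [sub_mul, one_mul, ← h1, sub_self]
    rcases mul_eq_zero.1 h2 with h3 | h3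
    · exact absurd (sub_eq_zero.1 h3) hlam
    · exact h3

/-- an eigen-homomorphism is onto -/
theorem eigen_surj [Finite F] (hq : q.Prime) (hcard : Nat.card F = p ^ a)
    (ha : orderOf (p : ZMod q) = a) {lam : F} (hlam : orderOf lam = q) {χ : R → F}
    (hadd : ∀ u v, χ (u * v) = χ u + χ v) (heig : ∀ u, χ (α u) = lam * χ u)
    (hne : ∃ u, χ u ≠ 0) : Function.Surjective χ := by
  obtain ⟨S, hS⟩ : ∃ S : Subring F, ∀ c, c ∈ S ↔ ∀ x ∈ Set.range χ, c * x ∈ Set.range χ :=
    ⟨{ carrier := {c | ∀ x ∈ Set.range χ, c * x ∈ Set.range χ}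
       mul_mem' := by
         intro c d hc hd x hx
         rw [mul_assoc]
         exact hc _ (hd x hx)
       one_mem' := by
         intro x hx
         rwa [one_mul]
       add_mem' := by
         intro c d hc hd x hx
         obtain ⟨u, hu⟩ := hc x hx
         obtain ⟨v, hv⟩ := hd x hx
         exact ⟨u * v, by rw [hadd, hu, hv, add_mul]⟩
       zero_mem' := by
         intro x hx
         exact ⟨1, by rw [additive_one hadd, zero_mul]⟩
       neg_mem' := by
         intro c hc x hx
         obtain ⟨u, hu⟩ := hc x hx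
         exact ⟨u⁻¹, by rw [additive_inv hadd, hu, neg_mul]⟩ }, fun c => Iff.rfl⟩
  have hlamS : lam ∈ S := by
    rw [hS]
    rintro _ ⟨u, rfl⟩
    exact ⟨α u, heig u⟩
  have htop : S = ⊤ := by
    rw [eq_top_iff, ← closure_eq_top hp.out hcard hq hlam ha, Subring.closure_le]
    intro x hx
    rw [Set.mem_singleton_iff] at hx
    rw [hx]
    exact hlamS
  obtain ⟨u₀, hu₀⟩ := hne
  intro y
  have hmem : y * (χ u₀)⁻¹ ∈ S := htop ▸ Subring.mem_top _
  have := (hS _).1 hmem (χ u₀) ⟨u₀, rfl⟩
  rwa [mul_assoc, inv_mul_cancel₀ hu₀, mul_one] at this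

end eig

end Cfsg.Agent.Lib.Helper7.SchU
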