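import Mathlib
import Cfsg.Agent.Lib.Helper7.SuX3

/-!
# Universal Schmidt groups: the `X`-side, part 4 (the datum for a power of `α`)
-/

set_option autoImplicit false
set_option linter.unusedSectionVars false
set_option linter.unusedVariables false

namespace Cfsg.Agent.Lib.Helper7.SchU

open scoped commutatorElement
open Cfsg.Agent.Lib.Helper7
open Cfsg.Agent.Lib.Helper8.SchmidtForm

section adj

variable {p q a : ℕ} [hp : Fact p.Prime] {R : Type*} [Group R] [Finite R] {α : MulAut R}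
  {F : Type*} [Field F]

theorem pow_fixed {u : R} (hu : α u = u) (k : ℕ) : (α ^ k) u = u := by
  induction k with
  | zero => simp
  | succ k ih => rw [pow_succ, MulAut.mul_apply, hu, ih]

theorem pow_invariant {M : Subgroup R} {β : MulAut R} (hM : ∀ u ∈ M, β u ∈ M) (k : ℕ) :
    ∀ u ∈ M, (β ^ k) u ∈ M := by
  induction k with
  | zero => intro u hu; simpa using hu
  | succ k ih => intro u hu; rw [pow_succ', MulAut.mul_apply]; exact hM _ (ih u hu)

theorem exists_sd_of_hyp [CharP F p] [Finite F] (h : Sch.Hyp p q R α)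
    (hcard : Nat.card F = p ^ a) (ha : orderOf (p : ZMod q) = a) {ω : F} (hω : orderOf ω = q) :
    ∃ (m : ℕ) (ψ : R → F), m.Coprime q ∧ SD q ω (α ^ m) ψ ∧
      (∀ M : Subgroup R, (∀ u ∈ M, (α ^ m) u ∈ M) → (∃ u ∈ M, ψ u ≠ 0) → M = ⊤) := by
  have hq : q.Prime := h.rprime
  have hωq : ω ^ q = 1 := hω ▸ pow_orderOf_eq_one ω
  obtain ⟨j, χ, hj0, hjq, hadd, heig, hne⟩ := exists_eigen h hω
  have hcop : Nat.Coprime q j :=
    (Nat.Prime.coprime_iff_not_dvd hq).2 (Nat.not_dvd_of_pos_of_lt hj0 hjq)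
  have hlam : orderOf (ω ^ j) = q := by
    rw [Nat.Coprime.orderOf_pow (by rw [hω]; exact hcop), hω]
  have hlam1 : ω ^ j ≠ 1 := by
    intro h1
    rw [h1, orderOf_one] at hlam
    exact hq.ne_one hlam.symm
  obtain ⟨m, -, hm⟩ := Nat.exists_mul_mod_eq_one_of_coprime hcop.symm hq.one_lt
  have hmq : m.Coprime q := by
    rw [Nat.coprime_comm, Nat.Prime.coprime_iff_not_dvd hq]
    intro hd
    obtain ⟨c, rfl⟩ := hd
    have : j * (q * c) % q = 0 := by
      rw [← mul_assoc, mul_comm j q, mul_assoc]; exact Nat.mul_mod_right _ _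
    omega
  have hker := eigen_ker h hlam1 hadd heig hne
  have hαm : (α ^ m) ^ j = α := by
    rw [← pow_mul, mul_comm, pow_eq_pow_mod (j * m) h.pow, hm, pow_one]
  have heigm : ∀ k : ℕ, ∀ u, χ ((α ^ k) u) = (ω ^ j) ^ k * χ u := by
    intro k
    induction k with
    | zero => intro u; simp
    | succ k ih => intro u; rw [pow_succ', MulAut.mul_apply, heig, ih, pow_succ]; ring
  refine ⟨m, χ, hmq, ⟨?_, hadd, ?_, ?_, ?_, ?_⟩, ?_⟩
  · rw [← pow_mul, mul_comm, pow_mul, h.pow, one_pow]
  · exact eigen_surj hq hcard ha hlam hadd heig hne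
  · intro n hn g
    have hc := h.fixed_mem_center ((hker n).1 hn)
    exact Subgroup.mem_center_iff.1 hc g
  · intro n hn
    exact pow_fixed ((hker n).1 hn) m
  · intro n
    rw [heigm, ← pow_mul, pow_eq_pow_mod (j * m) hωq, hm, pow_one]
  · intro M hM hex
    by_contra hMne
    have hMα : ∀ u ∈ M, α u ∈ M := by
      intro u hu
      have := pow_invariant hM j u hu
      rwa [hαm] at this
    obtain ⟨u, hu, hχu⟩ := hex
    exact hχu ((hker u).2 (h.irred M hMne hMα u hu))

end adj

end Cfsg.Agent.Lib.Helper7.SchU
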