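import Mathlib
import Cfsg.Agent.Lib.Helper7.SuX4
import Cfsg.Agent.S0132
import Cfsg.Agent.Lib.Helper5.BGBetaA

/-!
# Universal Schmidt groups: the `X`-side, final form
-/

set_option autoImplicit false
set_option linter.unusedSectionVars false
set_option linter.unusedVariables false

namespace Cfsg.Agent.Lib.Helper7.SchU

open scoped commutatorElement
open Cfsg.Agent.Lib.Helper7

universe u

theorem xside {X : Type u} [Group X] [Finite X] {p q r t a : ℕ} [hp : Fact p.Prime]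
    (hq : q.Prime) (hpq : p ≠ q)
    (h1 : ¬ Cfsg.HasNormalPComplement p X)
    (h2 : ∀ K : Subgroup X, K ≠ ⊤ → Cfsg.HasNormalPComplement p ↥K)
    (hcardX : Nat.card X = p ^ t * q ^ r)
    {F : Type*} [Field F] [Finite F] (hcard : Nat.card F = p ^ a)
    (ha : orderOf (p : ZMod q) = a) {ω : F} (hω : orderOf ω = q) :
    ∃ (P : Sylow p X) (hPn : (P : Subgroup X).Normal) (y : X) (ψ : ↥(P : Subgroup X) → F),
      orderOf y = q ^ r ∧ Subgroup.zpowers y ⊔ (P : Subgroup X) = ⊤ ∧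
      SD q ω (@MulAut.conjNormal X _ (P : Subgroup X) hPn y) ψ ∧
      (∀ M : Subgroup ↥(P : Subgroup X),
        (∀ u ∈ M, (@MulAut.conjNormal X _ (P : Subgroup X) hPn y) u ∈ M) →
        (∃ u ∈ M, ψ u ≠ 0) → M = ⊤) := by
  classical
  obtain ⟨hnilp, hnnil, hsyl⟩ := Cfsg.Agent.S0132.result h1 h2
  obtain ⟨P⟩ : Nonempty (Sylow p X) := inferInstance
  have hPn : (P : Subgroup X).Normal := hsyl P
  have hpX : p ∣ Nat.card X := by
    by_contra hnd
    exact h1 (Cfsg.Agent.Lib.Helper5.BGBeta.hasNormalPComplement_of_not_dvd hnd)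
  have hP1 : (P : Subgroup X) ≠ ⊥ := P.ne_bot_of_dvd_card hpX
  obtain ⟨r', y₀, n, hr', hne, hn0, hordy, hsup, hyp⟩ := exists_hyp_y ⟨hnnil, hnilp⟩ P hPn hP1
  -- `r' = q`
  have hr'q : r' = q := by
    have h3 : r' ∣ Nat.card X := by
      have h4 : r' ∣ orderOf y₀ := by rw [hordy]; exact dvd_pow_self r' hn0
      exact h4.trans (orderOf_dvd_natCard y₀)
    rw [hcardX] at h3
    rcases (Nat.Prime.dvd_mul hr').1 h3 with h5 | h5
    · exact absurd ((Nat.prime_dvd_prime_iff_eq hr' hp.out).1 (hr'.dvd_of_dvd_pow h5)) hne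
    · exact (Nat.prime_dvd_prime_iff_eq hr' hq).1 (hr'.dvd_of_dvd_pow h5)
  subst hr'q
  -- `|P| = p ^ t`
  have hcop : Nat.Coprime (p ^ t) (r' ^ r) :=
    Nat.Coprime.pow _ _ ((Nat.coprime_primes hp.out hq).2 hpq)
  obtain ⟨k, hk⟩ := IsPGroup.iff_card.1 P.isPGroup'
  have hidx : ¬ p ∣ (P : Subgroup X).index := P.not_dvd_index
  have hmul := (P : Subgroup X).card_mul_index
  rw [hk, hcardX] at hmul
  have hcopi : Nat.Coprime (p ^ t) (P : Subgroup X).index :=
    Nat.Coprime.pow_left _ ((Nat.Prime.coprime_iff_not_dvd hp.out).2 hidx)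
  have hkt : k = t := by
    have h3 : p ^ k ∣ p ^ t := by
      have : p ^ k ∣ p ^ t * r' ^ r := ⟨_, hmul.symm⟩
      exact (Nat.Coprime.pow_left k ((Nat.coprime_primes hp.out hq).2 hpq) |>.pow_right r).dvd_of_dvd_mul_right this
    have h4 : p ^ t ∣ p ^ k := by
      have : p ^ t ∣ p ^ k * (P : Subgroup X).index := ⟨_, hmul⟩
      exact hcopi.dvd_of_dvd_mul_right this
    have h5 := (Nat.pow_dvd_pow_iff_le_right hp.out.one_lt).1 h3
    have h6 := (Nat.pow_dvd_pow_iff_le_right hp.out.one_lt).1 h4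
    omega
  subst hkt
  have hidx' : (P : Subgroup X).index = r' ^ r :=
    Nat.eq_of_mul_eq_mul_left (pow_pos hp.out.pos k) hmul
  -- `n = r`
  have hnr : n = r := by
    have h3 : r' ^ r ∣ r' ^ n := by
      have h4 : (P : Subgroup X).index = (P : Subgroup X).relIndex (Subgroup.zpowers y₀) := by
        rw [← Subgroup.relIndex_top_right, ← hsup, Subgroup.relIndex_sup_right]
      rw [← hidx', h4, ← hordy, ← Nat.card_zpowers]
      exact Subgroup.relIndex_dvd_card _ _
    have h5 : r' ^ n ∣ r' ^ r := by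
      have h6 : r' ^ n ∣ p ^ k * r' ^ r := by
        rw [← hordy, ← hcardX]; exact orderOf_dvd_natCard y₀
      exact (Nat.Coprime.pow_left n ((Nat.coprime_primes hq hp.out).2 hpq.symm) |>.pow_right k).dvd_of_dvd_mul_left h6
    have h7 := (Nat.pow_dvd_pow_iff_le_right hq.one_lt).1 h3
    have h8 := (Nat.pow_dvd_pow_iff_le_right hq.one_lt).1 h5
    omega
  subst hnr
  -- the characteristic
  haveI : Fintype F := Fintype.ofFinite F
  haveI : CharP F p := by
    apply charP_of_card_eq_prime_pow (f := a)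
    rw [← Nat.card_eq_fintype_card]
    exact hcard
  obtain ⟨m, ψ, hmq, hsd, hirr⟩ := exists_sd_of_hyp hyp hcard ha hω
  have hconj : (@MulAut.conjNormal X _ (P : Subgroup X) hPn (y₀ ^ m)) =
      (@MulAut.conjNormal X _ (P : Subgroup X) hPn y₀) ^ m := map_pow _ _ _
  have hordm : orderOf (y₀ ^ m) = r' ^ n := by
    rw [Nat.Coprime.orderOf_pow, hordy]
    rw [hordy]
    exact (Nat.Coprime.pow_right n hmq).symm
  refine ⟨P, hPn, y₀ ^ m, ψ, hordm, ?_, ?_, ?_⟩
  · have : Subgroup.zpowers (y₀ ^ m) = Subgroup.zpowers y₀ := by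
      apply Subgroup.eq_of_le_of_card_ge
      · rw [Subgroup.zpowers_le]
        exact Subgroup.pow_mem _ (Subgroup.mem_zpowers y₀) m
      · rw [Nat.card_zpowers, Nat.card_zpowers, hordm, hordy]
    rw [this]
    exact hsup
  · rw [hconj]; exact hsd
  · rw [hconj]; exact hirr

end Cfsg.Agent.Lib.Helper7.SchU
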