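import Mathlib
import Cfsg.Agent.Lib.Helper7.SuG
import Cfsg.Agent.Lib.Helper7.SuX5
import Cfsg.Agent.Lib.Helper7.SuH4
import Cfsg.Agent.H1.Splitting

/-!
# Universal Schmidt groups: assembly
-/

set_option autoImplicit false
set_option linter.unusedSectionVars false
set_option linter.unusedVariables false
set_option linter.deprecated false

namespace Cfsg.Agent.Lib.Helper7.SchU

open scoped commutatorElement
open SemidirectProduct
open Cfsg.Agent.Lib.Helper8.SchmidtForm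

universe u

section irr

variable {p q a : ℕ} {F : Type*} [Field F] {ω : F} {P₀ : Type*} [Group P₀]
  {τ₀ : MulAut P₀} {ψ₀ : P₀ → F}

/-- irreducibility of a datum whose kernel consists of commutators -/
theorem irr_of_comm (h : SD q ω τ₀ ψ₀) (hcomm : ∀ n : P₀, ψ₀ n = 0 → ∃ u v : P₀, n = ⁅u, v⁆)
    (hgen : Subring.closure {ω} = ⊤) (M : Subgroup P₀) (hM : ∀ u ∈ M, τ₀ u ∈ M)
    (hex : ∃ u ∈ M, ψ₀ u ≠ 0) : M = ⊤ := by
  obtain ⟨S, hS⟩ : ∃ S : Subring F, ∀ c, c ∈ S ↔ ∀ u ∈ M, ∃ v ∈ M, ψ₀ v = c * ψ₀ u :=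
    ⟨{ carrier := {c | ∀ u ∈ M, ∃ v ∈ M, ψ₀ v = c * ψ₀ u}
       mul_mem' := by
         intro c d hc hd u hu
         obtain ⟨v, hv, hvd⟩ := hd u hu
         obtain ⟨w, hw, hwc⟩ := hc v hv
         exact ⟨w, hw, by rw [hwc, hvd, mul_assoc]⟩
       one_mem' := by
         intro u hu
         exact ⟨u, hu, by rw [one_mul]⟩
       add_mem' := by
         intro c d hc hd u hu
         obtain ⟨v, hv, hvc⟩ := hc u hu
         obtain ⟨w, hw, hwd⟩ := hd u hu
         exact ⟨v * w, M.mul_mem hv hw, by rw [h.add, hvc, hwd, add_mul]⟩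
       zero_mem' := by
         intro u hu
         exact ⟨1, M.one_mem, by rw [h.map_one, zero_mul]⟩
       neg_mem' := by
         intro c hc u hu
         obtain ⟨v, hv, hvc⟩ := hc u hu
         exact ⟨v⁻¹, M.inv_mem hv, by rw [h.map_inv, hvc, neg_mul]⟩ }, fun c => Iff.rfl⟩
  have hωS : ω ∈ S := by
    rw [hS]
    intro u hu
    exact ⟨τ₀ u, hM u hu, h.equi u⟩
  have htop : S = ⊤ := by
    rw [eq_top_iff, ← hgen, Subring.closure_le]
    intro x hx
    rw [Set.mem_singleton_iff] at hx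
    rw [hx]
    exact hωS
  obtain ⟨u₁, hu₁, hu₁0⟩ := hex
  have hall : ∀ v : P₀, ∃ u ∈ M, ψ₀ u = ψ₀ v := by
    intro v
    have hmem : ψ₀ v * (ψ₀ u₁)⁻¹ ∈ S := htop ▸ Subring.mem_top _
    obtain ⟨w, hw, hwv⟩ := (hS _).1 hmem u₁ hu₁
    exact ⟨w, hw, by rw [hwv, mul_assoc, inv_mul_cancel₀ hu₁0, mul_one]⟩
  have hkerM : ∀ z : P₀, ψ₀ z = 0 → z ∈ M := by
    intro z hz
    obtain ⟨a', b', hab⟩ := hcomm z hz
    obtain ⟨ua, hua, hua'⟩ := hall a'
    obtain ⟨ub, hub, hub'⟩ := hall b'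
    have : z = ⁅ua, ub⁆ := by rw [hab]; exact comm_congr h hua'.symm hub'.symm
    rw [this, commutatorElement_def]
    exact M.mul_mem (M.mul_mem (M.mul_mem hua hub) (M.inv_mem hua)) (M.inv_mem hub)
  rw [eq_top_iff]
  intro v _
  obtain ⟨u, hu, huv⟩ := hall v
  have : v = u * (u⁻¹ * v) := by group
  rw [this]
  apply M.mul_mem hu
  apply hkerM
  rw [h.add, h.map_inv, huv]; ring

end irr

end Cfsg.Agent.Lib.Helper7.SchU
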