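import Mathlib
import Cfsg.Agent.Lib.Helper7.SuI

/-!
# Universal Schmidt groups: the universal property of `P₀ ⋊ C_{q^r}`
-/

set_option autoImplicit false
set_option linter.unusedSectionVars false
set_option linter.unusedVariables false
set_option linter.deprecated false

namespace Cfsg.Agent.Lib.Helper7.SchU

open scoped commutatorElement
open SemidirectProduct
open Cfsg.Agent.Lib.Helper8.SchmidtForm

universe u

section univ

variable {p q r a : ℕ} {F : Type*} [Field F] [Finite F] {ω : F} {P₀ : Type*} [Group P₀]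
  [Finite P₀] {τ₀ : MulAut P₀} {ψ₀ : P₀ → F} [NeZero (q ^ r)]

/-- the universal property -/
theorem exists_hom_of_xside [hp : Fact p.Prime] (hq : q.Prime) (hpq : p ≠ q)
    (hcard : Nat.card F = p ^ a) (ha : orderOf (p : ZMod q) = a) (hω : orderOf ω = q)
    (h₀ : SD q ω τ₀ ψ₀) (hcomm : ∀ n : P₀, ψ₀ n = 0 → ∃ u v : P₀, n = ⁅u, v⁆)
    (hcardP₀ : Nat.card P₀ = p ^ (if a % 2 = 1 then a else 3 * a / 2))
    (hτ : τ₀ ^ (q ^ r) = 1)
    {X : Type*} [Group X] [Finite X] (P : Sylow p X) (hPn : (P : Subgroup X).Normal) (y : X)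
    (ψ : ↥(P : Subgroup X) → F) (hordy : orderOf y = q ^ r)
    (hsup : Subgroup.zpowers y ⊔ (P : Subgroup X) = ⊤)
    (hsd : SD q ω (@MulAut.conjNormal X _ (P : Subgroup X) hPn y) ψ)
    (hirr : ∀ M : Subgroup ↥(P : Subgroup X),
        (∀ u ∈ M, (@MulAut.conjNormal X _ (P : Subgroup X) hPn y) u ∈ M) →
        (∃ u ∈ M, ψ u ≠ 0) → M = ⊤) :
    ∃ φ : (P₀ ⋊[zhom τ₀ hτ] Multiplicative (ZMod (q ^ r))) →* X, Function.Surjective φ ∧
      φ.ker ≤ Subgroup.center (P₀ ⋊[zhom τ₀ hτ] Multiplicative (ZMod (q ^ r))) := by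
  have hgen := closure_eq_top hp.out hcard hq hω ha
  obtain ⟨f, hfs, hfψ, hfτ⟩ := exists_equivariant_hom hp.out hq hpq hcard hω ha h₀ hsd
    (irr_of_comm h₀ hcomm hgen) hirr hcardP₀
  have hyq : y ^ (q ^ r) = 1 := hordy ▸ pow_orderOf_eq_one y
  -- equivariance in `X`
  have hconj : ∀ v : ↥(P : Subgroup X),
      ((@MulAut.conjNormal X _ (P : Subgroup X) hPn y v : ↥(P : Subgroup X)) : X) =
        y * v * y⁻¹ := fun v => @MulAut.conjNormal_apply X _ (P : Subgroup X) hPn y v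
  have hpow : ∀ (k : ℕ) (u : P₀), ((f ((τ₀ ^ k) u) : ↥(P : Subgroup X)) : X) =
      y ^ k * (f u : X) * (y ^ k)⁻¹ := by
    intro k
    induction k with
    | zero => intro u; simp
    | succ k ih =>
      intro u
      rw [pow_succ', MulAut.mul_apply, hfτ, hconj, ih, pow_succ']
      group
  obtain ⟨f₁, hf₁⟩ : ∃ f₁ : P₀ →* X, f₁ = (P : Subgroup X).subtype.comp f := ⟨_, rfl⟩
  have hf₁a : ∀ u, f₁ u = (f u : X) := fun u => by rw [hf₁]; rfl
  have hcompat : ∀ g : Multiplicative (ZMod (q ^ r)),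
      f₁.comp (MulEquiv.toMonoidHom (zhom τ₀ hτ g)) =
        (MulEquiv.toMonoidHom (MulAut.conj (zhom y hyq g))).comp f₁ := by
    intro g
    ext u
    show f₁ ((zhom τ₀ hτ g) u) = MulAut.conj (zhom y hyq g) (f₁ u)
    rw [MulAut.conj_apply, hf₁a, hf₁a, zhom_apply, zhom_apply, hpow]
  obtain ⟨φ, hφ⟩ : ∃ φ : (P₀ ⋊[zhom τ₀ hτ] Multiplicative (ZMod (q ^ r))) →* X,
      φ = SemidirectProduct.lift f₁ (zhom y hyq) hcompat := ⟨_, rfl⟩
  have hφl : ∀ u : P₀, φ (inl u) = (f u : X) := fun u => by rw [hφ, lift_inl, hf₁a]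
  have hφr : ∀ c : Multiplicative (ZMod (q ^ r)), φ (inr c) = zhom y hyq c :=
    fun c => by rw [hφ, lift_inr]
  refine ⟨φ, ?_, ?_⟩
  · rw [← MonoidHom.range_eq_top, eq_top_iff, ← hsup]
    apply sup_le
    · rw [Subgroup.zpowers_le]
      exact ⟨inr (cgen (q ^ r)), by rw [hφr, zhom_cgen]⟩
    · intro v hv
      obtain ⟨u, hu⟩ := hfs ⟨v, hv⟩
      exact ⟨inl u, by rw [hφl, hu]⟩
  · intro g hg
    rw [MonoidHom.mem_ker] at hg
    rw [← inl_left_mul_inr_right g, map_mul, hφl, hφr, zhom_apply] at hg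
    obtain ⟨k, hk⟩ : ∃ k : ℕ, k = (Multiplicative.toAdd g.right).val := ⟨_, rfl⟩
    rw [← hk] at hg
    -- `y ^ k ∈ P`
    have hykP : y ^ k ∈ (P : Subgroup X) := by
      have : y ^ k = ((f g.left : ↥(P : Subgroup X)) : X)⁻¹ := eq_inv_of_mul_eq_one_right hg
      rw [this]
      exact (P : Subgroup X).inv_mem (f g.left).2
    have hyk1 : y ^ k = 1 := by
      obtain ⟨j, hj⟩ := P.isPGroup' ⟨y ^ k, hykP⟩
      have hj' : (y ^ k) ^ (p ^ j) = 1 := by
        have := congrArg Subtype.val hj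
        simpa using this
      have h2 : (y ^ k) ^ (q ^ r) = 1 := by rw [← pow_mul, mul_comm, pow_mul, hyq, one_pow]
      have h3 := pow_gcd_eq_one.2 ⟨hj', h2⟩
      have hcop : Nat.Coprime (p ^ j) (q ^ r) :=
        Nat.Coprime.pow _ _ ((Nat.coprime_primes hp.out hq).2 hpq)
      rwa [hcop, pow_one] at h3
    have hk0 : k = 0 := by
      have h1 : q ^ r ∣ k := hordy ▸ orderOf_dvd_of_pow_eq_one hyk1
      have h2 : k < q ^ r := by rw [hk]; exact ZMod.val_lt _
      exact Nat.eq_zero_of_dvd_of_lt h1 h2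
    have hright : g.right = 1 := by
      apply Multiplicative.toAdd.injective
      rw [toAdd_one]
      exact (ZMod.val_eq_zero _).1 (hk ▸ hk0)
    rw [hyk1, mul_one] at hg
    have hfl : f g.left = 1 := Subtype.ext hg
    have hψ : ψ₀ g.left = 0 := by
      rw [← hfψ, hfl, hsd.map_one]
    rw [Subgroup.mem_center_iff]
    intro x
    have hgl : g = inl g.left := by
      conv_lhs => rw [← inl_left_mul_inr_right g, hright, map_one, mul_one]
    rw [hgl]
    exact inl_ker_central h₀ hτ hψ x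

end univ

end Cfsg.Agent.Lib.Helper7.SchU
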