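import Mathlib
import Cfsg.Agent.Lib.Helper7.Stability

set_option autoImplicit false

namespace Cfsg.Agent.Lib.Helper7.Super

open Cfsg Cfsg.Agent.Lib.Helper7

variable {P : Type*} [Group P]

/-- The hypothesis: an `A`-invariant chain of normal subgroups with cyclic steps. -/
structure CycChain (A : Subgroup (MulAut P)) (D : ℕ → Subgroup P) (m : ℕ) : Prop where
  inv : ∀ i, ∀ α ∈ A, ∀ x ∈ D i, α x ∈ D i
  normal : ∀ i, (D i).Normal
  cyc : ∀ i < m, ∃ x : P, D (i + 1) ≤ D i ⊔ Subgroup.zpowers x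

/-- A generator of the image of `D (i+1)` modulo `D i`. -/
theorem CycChain.exists_gen {A : Subgroup (MulAut P)} {D : ℕ → Subgroup P} {m : ℕ}
    (h : CycChain A D m) {i : ℕ} (hi : i < m) :
    haveI := h.normal i
    ∃ y₀ ∈ D (i + 1), ∀ y ∈ D (i + 1), (QuotientGroup.mk y : P ⧸ D i) ∈
      Subgroup.zpowers (QuotientGroup.mk y₀ : P ⧸ D i) := by
  have hn := h.normal i
  obtain ⟨x, hx⟩ := h.cyc i hi
  have hle : (D (i + 1)).map (QuotientGroup.mk' (D i)) ≤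
      Subgroup.zpowers (QuotientGroup.mk x : P ⧸ D i) := by
    rintro _ ⟨y, hy, rfl⟩
    have h1 : (QuotientGroup.mk' (D i)) y ∈ (D i ⊔ Subgroup.zpowers x).map (QuotientGroup.mk' (D i)) :=
      ⟨y, hx hy, rfl⟩
    rw [Subgroup.map_sup, QuotientGroup.map_mk'_self, bot_sup_eq, MonoidHom.map_zpowers] at h1
    exact h1
  have hcyc : IsCyclic ↥((D (i + 1)).map (QuotientGroup.mk' (D i))) := Subgroup.isCyclic_of_le hle
  obtain ⟨g, hg⟩ := (Subgroup.isCyclic_iff_exists_zpowers_eq_top _).mp hcyc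
  have hgm : g ∈ (D (i + 1)).map (QuotientGroup.mk' (D i)) := by
    rw [← hg]; exact Subgroup.mem_zpowers g
  obtain ⟨y₀, hy₀, rfl⟩ := hgm
  refine ⟨y₀, hy₀, fun y hy => ?_⟩
  have : (QuotientGroup.mk' (D i)) y ∈ (D (i + 1)).map (QuotientGroup.mk' (D i)) := ⟨y, hy, rfl⟩
  rw [← hg] at this
  exact this

/-- On each step of the chain an element of `A` acts as a power map. -/
theorem CycChain.pow_map {A : Subgroup (MulAut P)} {D : ℕ → Subgroup P} {m : ℕ}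
    (h : CycChain A D m) {α : MulAut P} (hα : α ∈ A) {i : ℕ} (hi : i < m) :
    haveI := h.normal i
    ∃ k : ℤ, ∀ y ∈ D (i + 1), (QuotientGroup.mk (α y) : P ⧸ D i) = (QuotientGroup.mk y) ^ k := by
  have hn := h.normal i
  obtain ⟨x, hx1, hz⟩ := h.exists_gen hi
  obtain ⟨k, hk⟩ := Subgroup.mem_zpowers_iff.mp (hz (α x) (h.inv (i + 1) α hα x hx1))
  refine ⟨k, fun y hy => ?_⟩
  obtain ⟨l, hl⟩ := Subgroup.mem_zpowers_iff.mp (hz y hy)
  have hd : (x ^ l)⁻¹ * y ∈ D i := by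
    rw [← QuotientGroup.eq, QuotientGroup.mk_zpow]
    exact hl
  have hy' : y = x ^ l * ((x ^ l)⁻¹ * y) := by group
  have hαd := h.inv i α hα _ hd
  have e1 : (QuotientGroup.mk (α y) : P ⧸ D i) = (QuotientGroup.mk (α x)) ^ l := by
    conv_lhs => rw [hy']
    rw [map_mul, map_zpow, QuotientGroup.mk_mul, QuotientGroup.mk_zpow,
      (QuotientGroup.eq_one_iff _).mpr hαd, mul_one]
  rw [e1, ← hk, ← hl, ← zpow_mul, ← zpow_mul, mul_comm]

/-- Commutators stabilize the chain. -/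
theorem CycChain.comm_mem {A : Subgroup (MulAut P)} {D : ℕ → Subgroup P} {m : ℕ}
    (h : CycChain A D m) {α β : MulAut P} (hα : α ∈ A) (hβ : β ∈ A) :
    α * β * α⁻¹ * β⁻¹ ∈ stabChain A D m h.inv := by
  refine ⟨A.mul_mem (A.mul_mem (A.mul_mem hα hβ) (A.inv_mem hα)) (A.inv_mem hβ), fun i hi y hy => ?_⟩
  have hn := h.normal i
  obtain ⟨k, hk⟩ := h.pow_map hα hi
  obtain ⟨l, hl⟩ := h.pow_map hβ hi
  have hswap : ∀ z ∈ D (i + 1), (QuotientGroup.mk (α (β z)) : P ⧸ D i) = QuotientGroup.mk (β (α z)) := by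
    intro z hz
    rw [hk _ (h.inv (i + 1) β hβ z hz), hl z hz, hl _ (h.inv (i + 1) α hα z hz), hk z hz,
      ← zpow_mul, ← zpow_mul, mul_comm]
  set z := α⁻¹ (β⁻¹ y) with hzdef
  have hz : z ∈ D (i + 1) :=
    h.inv (i + 1) α⁻¹ (A.inv_mem hα) _ (h.inv (i + 1) β⁻¹ (A.inv_mem hβ) y hy)
  have e1 : (α * β * α⁻¹ * β⁻¹) y = α (β z) := by
    simp [MulAut.mul_apply, hzdef]
  have e2 : β (α z) = y := by simp [hzdef]
  rw [← QuotientGroup.eq, e1, hswap z hz, e2]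

theorem CycChain.pow_iter {A : Subgroup (MulAut P)} {D : ℕ → Subgroup P} {m : ℕ}
    (h : CycChain A D m) {α : MulAut P} (hα : α ∈ A) {i : ℕ} (k : ℤ)
    (hk : haveI := h.normal i; ∀ y ∈ D (i + 1),
      (QuotientGroup.mk (α y) : P ⧸ D i) = (QuotientGroup.mk y) ^ k) (N : ℕ) :
    haveI := h.normal i
    ∀ y ∈ D (i + 1), (QuotientGroup.mk ((α ^ N) y) : P ⧸ D i) = (QuotientGroup.mk y) ^ (k ^ N) := by
  have hn := h.normal i
  induction N with
  | zero => intro y _; simp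
  | succ N ih =>
    intro y hy
    have hy' : (α ^ N) y ∈ D (i + 1) := h.inv (i + 1) _ (A.pow_mem hα N) y hy
    rw [pow_succ', MulAut.mul_apply, hk _ hy', ih y hy, ← zpow_mul, pow_succ]

/-- `(α ^ (p - 1)) ^ (p ^ n)` stabilizes the chain, when `P` has exponent dividing `p ^ n`. -/
theorem CycChain.pow_mem {A : Subgroup (MulAut P)} {D : ℕ → Subgroup P} {m : ℕ}
    (h : CycChain A D m) {p : ℕ} (hp : p.Prime) {n : ℕ} (hexp : ∀ y : P, y ^ (p ^ n) = 1)
    {α : MulAut P} (hα : α ∈ A) :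
    (α ^ (p - 1)) ^ (p ^ n) ∈ stabChain A D m h.inv := by
  refine ⟨A.pow_mem (A.pow_mem hα _) _, fun i hi y hy => ?_⟩
  have hn := h.normal i
  obtain ⟨k, hk⟩ := h.pow_map hα hi
  obtain ⟨k', hk'⟩ := h.pow_map (A.inv_mem hα) hi
  rw [← pow_mul, ← QuotientGroup.eq, h.pow_iter hα k hk _ y hy]
  set yb : P ⧸ D i := QuotientGroup.mk y with hyb
  -- yb ^ (k' * k - 1) = 1
  have h1 : yb ^ (k' * k) = yb := by
    have e := hk (α⁻¹ y) (h.inv (i + 1) _ (A.inv_mem hα) y hy)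
    rw [MulAut.apply_inv_self, hk' y hy, ← zpow_mul] at e
    exact e.symm
  have hord : yb ^ (p ^ n) = 1 := by
    rw [hyb, ← QuotientGroup.mk_pow, hexp y, QuotientGroup.mk_one]
  obtain ⟨j, hj, hoj⟩ := (Nat.dvd_prime_pow hp).mp (orderOf_dvd_of_pow_eq_one hord)
  rcases Nat.eq_zero_or_pos j with hj0 | hjpos
  · rw [hj0, pow_zero, orderOf_eq_one_iff] at hoj
    rw [hoj, one_zpow]
  · have hpo : (p : ℤ) ∣ (orderOf yb : ℤ) := by
      rw [hoj]; exact_mod_cast dvd_pow_self p hjpos.ne'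
    have h2 : yb ^ (k' * k - 1) = 1 := by
      rw [zpow_sub_one, h1, mul_inv_cancel]
    have h3 : (orderOf yb : ℤ) ∣ k' * k - 1 := orderOf_dvd_iff_zpow_eq_one.mpr h2
    obtain ⟨t, ht⟩ := hpo.trans h3
    have hcop : IsCoprime k (p : ℤ) := ⟨k', -t, by linarith⟩
    have hf := Int.ModEq.pow_card_sub_one_eq_one hp hcop
    have hf' : (p : ℤ) ∣ k ^ (p - 1) - 1 := (Int.modEq_iff_dvd.mp hf.symm)
    have h4 := dvd_sub_pow_of_dvd_sub hf' n
    rw [one_pow, ← pow_mul] at h4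
    have h5 : (orderOf yb : ℤ) ∣ k ^ ((p - 1) * p ^ n) - 1 := by
      have : (orderOf yb : ℤ) ∣ (p : ℤ) ^ (n + 1) := by
        rw [hoj]
        exact_mod_cast pow_dvd_pow p (by omega : j ≤ n + 1)
      exact this.trans h4
    have h6 := orderOf_dvd_iff_zpow_eq_one.mp h5
    rw [zpow_sub_one] at h6
    exact (mul_inv_eq_one.mp h6).symm

/-- An element of the stability group of order prime to `p` is trivial. -/
theorem CycChain.eq_one_of_coprime [Finite P] {p : ℕ} [Fact p.Prime] (hP : IsPGroup p P)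
    {A : Subgroup (MulAut P)} {D : ℕ → Subgroup P} {m : ℕ}
    (h : CycChain A D m) (h0 : D 0 = ⊥) (hm : D m = ⊤) {γ : MulAut P}
    (hγ : γ ∈ stabChain A D m h.inv) (hc : (orderOf γ).Coprime p) : γ = 1 := by
  obtain ⟨k, hk⟩ := isPGroup_stabChain hP A D m h.inv h0 hm ⟨γ, hγ⟩
  have hk' : γ ^ p ^ k = 1 := congrArg Subtype.val hk
  have h1 : orderOf γ ∣ p ^ k := orderOf_dvd_of_pow_eq_one hk'
  have h2 : (orderOf γ).Coprime (p ^ k) := hc.pow_right k
  exact orderOf_eq_one_iff.mp (Nat.Coprime.eq_one_of_dvd h2 h1)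

/-- A `p'`-subgroup of `A` is abelian of exponent dividing `p - 1`. -/
theorem CycChain.abelian_of_coprime [Finite P] {p : ℕ} [Fact p.Prime] (hP : IsPGroup p P)
    {A : Subgroup (MulAut P)} {D : ℕ → Subgroup P} {m : ℕ}
    (h : CycChain A D m) (h0 : D 0 = ⊥) (hm : D m = ⊤) {H : Subgroup (MulAut P)}
    (hHA : H ≤ A) (hc : (Nat.card ↥H).Coprime p) :
    (∀ α ∈ H, ∀ β ∈ H, α * β = β * α) ∧ ∀ α ∈ H, α ^ (p - 1) = 1 := by
  have hfinA : Finite (MulAut P) := Finite.of_injective (fun f : MulAut P => (f : P → P))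
    (fun f g h => MulEquiv.ext (congrFun h))
  have hp : p.Prime := Fact.out
  have hcop : ∀ γ ∈ H, (orderOf γ).Coprime p := fun γ hγ =>
    Nat.Coprime.coprime_dvd_left (Subgroup.orderOf_dvd_natCard H hγ) hc
  constructor
  · intro α hα β hβ
    have h1 := h.comm_mem (hHA hα) (hHA hβ)
    have h2 : α * β * α⁻¹ * β⁻¹ ∈ H := H.mul_mem (H.mul_mem (H.mul_mem hα hβ) (H.inv_mem hα)) (H.inv_mem hβ)
    have h3 := h.eq_one_of_coprime hP h0 hm h1 (hcop _ h2)
    have h4 : α * β = (α * β * α⁻¹ * β⁻¹) * (β * α) := by group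
    rw [h4, h3, one_mul]
  · intro α hα
    obtain ⟨n, hn⟩ := IsPGroup.iff_card.mp hP
    have hexp : ∀ y : P, y ^ (p ^ n) = 1 := fun y => by rw [← hn]; exact pow_card_eq_one'
    have h1 := h.pow_mem hp hexp (hHA hα)
    have h2 : (α ^ (p - 1)) ^ (p ^ n) ∈ H := H.pow_mem (H.pow_mem hα _) _
    have h3 := h.eq_one_of_coprime hP h0 hm h1 (hcop _ h2)
    have h5 : orderOf (α ^ (p - 1)) ∣ p ^ n := orderOf_dvd_of_pow_eq_one h3
    have h6 : (orderOf (α ^ (p - 1))).Coprime (p ^ n) := (hcop _ (H.pow_mem hα _)).pow_right n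
    exact orderOf_eq_one_iff.mp (Nat.Coprime.eq_one_of_dvd h6 h5)

end Cfsg.Agent.Lib.Helper7.Super
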