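import Mathlib
import Cfsg.Prelude.Def_FusionSystem
import Cfsg.Agent.Lib.Helper7.SuperA
import Cfsg.Agent.Lib.Helper7.FusionNormal
import Cfsg.Agent.Lib.Helper7.FusionEssential
import Cfsg.Agent.Lib.Helper7.SparseA

set_option autoImplicit false

namespace Cfsg.Agent.Lib.Helper7.Super

open Cfsg Cfsg.FusionSystem Cfsg.Agent.Lib.Helper7

/-- Cyclic steps restrict to intersections. -/
theorem exists_gen_inf {G : Type*} [Group G] (N K Q : Subgroup G) [N.Normal] (x : G)
    (hK : K ≤ N ⊔ Subgroup.zpowers x) :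
    ∃ y₀ ∈ Q ⊓ K, ∀ y ∈ Q ⊓ K, ∃ l : ℤ, (y₀ ^ l)⁻¹ * y ∈ N := by
  have hle : (Q ⊓ K).map (QuotientGroup.mk' N) ≤ Subgroup.zpowers (QuotientGroup.mk x : G ⧸ N) := by
    rintro _ ⟨y, hy, rfl⟩
    have h1 : (QuotientGroup.mk' N) y ∈ (N ⊔ Subgroup.zpowers x).map (QuotientGroup.mk' N) :=
      ⟨y, hK hy.2, rfl⟩
    rw [Subgroup.map_sup, QuotientGroup.map_mk'_self, bot_sup_eq, MonoidHom.map_zpowers] at h1
    exact h1
  have hcyc : IsCyclic ↥((Q ⊓ K).map (QuotientGroup.mk' N)) := Subgroup.isCyclic_of_le hle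
  obtain ⟨g, hg⟩ := (Subgroup.isCyclic_iff_exists_zpowers_eq_top _).mp hcyc
  have hgm : g ∈ (Q ⊓ K).map (QuotientGroup.mk' N) := by rw [← hg]; exact Subgroup.mem_zpowers g
  obtain ⟨y₀, hy₀, rfl⟩ := hgm
  refine ⟨y₀, hy₀, fun y hy => ?_⟩
  have : (QuotientGroup.mk' N) y ∈ (Q ⊓ K).map (QuotientGroup.mk' N) := ⟨y, hy, rfl⟩
  rw [← hg] at this
  obtain ⟨l, hl⟩ := Subgroup.mem_zpowers_iff.mp this
  refine ⟨l, ?_⟩
  rw [← QuotientGroup.eq, QuotientGroup.mk_zpow]
  exact hl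

variable {Ω : Type*} [Group Ω] {S : Subgroup Ω}

/-- A chain of strongly closed subgroups with cyclic steps, indexed by `ℕ`. -/
structure SChain (F : FusionSystem S) (c : ℕ → Subgroup Ω) (m : ℕ) : Prop where
  zero : c 0 = ⊥
  top : c m = S
  sc : ∀ i, F.StronglyClosed (c i)
  step : ∀ i < m, ∃ x ∈ S, c (i + 1) = c i ⊔ Subgroup.zpowers x

theorem SChain.of_fin (F : FusionSystem S) {m : ℕ} (c : Fin (m + 1) → Subgroup Ω)
    (h0 : c 0 = ⊥) (hl : c (Fin.last m) = S) (hsc : ∀ i, F.StronglyClosed (c i))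
    (hstep : ∀ i : Fin m, c i.castSucc ≤ c i.succ ∧
      ∃ x ∈ S, c i.succ = c i.castSucc ⊔ Subgroup.zpowers x) :
    SChain F (fun i => c ⟨min i m, by omega⟩) m := by
  refine ⟨?_, ?_, fun i => hsc _, fun i hi => ?_⟩
  · show c ⟨min 0 m, _⟩ = ⊥
    rw [← h0]; congr 1
  · show c ⟨min m m, _⟩ = S
    rw [← hl]; congr 1; apply Fin.ext; simp
  · obtain ⟨-, x, hx, hxe⟩ := hstep ⟨i, hi⟩
    refine ⟨x, hx, ?_⟩
    have e1 : (⟨min (i + 1) m, by omega⟩ : Fin (m + 1)) = (⟨i, hi⟩ : Fin m).succ := by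
      apply Fin.ext; simp; omega
    have e2 : (⟨min i m, by omega⟩ : Fin (m + 1)) = (⟨i, hi⟩ : Fin m).castSucc := by
      apply Fin.ext; simp; omega
    show c ⟨min (i + 1) m, _⟩ = c ⟨min i m, _⟩ ⊔ _
    rw [e1, e2]; exact hxe

theorem stronglyClosed_conj_mem (F : FusionSystem S) {Q : Subgroup Ω} (hQ : F.StronglyClosed Q)
    {g x : Ω} (hg : g ∈ S) (hx : x ∈ Q) : g * x * g⁻¹ ∈ Q := by
  have h1 := F.conj_mem (P := Q) (g := g) hQ.1 hg
  exact hQ.2 Q le_rfl _ h1 ⟨x, hx⟩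

theorem stronglyClosed_subgroupOf_normal (F : FusionSystem S) {Q P : Subgroup Ω}
    (hQ : F.StronglyClosed Q) (hPS : P ≤ S) : (Q.subgroupOf P).Normal := by
  refine ⟨fun n hn g => ?_⟩
  rw [Subgroup.mem_subgroupOf] at hn ⊢
  exact stronglyClosed_conj_mem F hQ (hPS g.2) hn

theorem stronglyClosed_aut_mem (F : FusionSystem S) {Q P : Subgroup Ω}
    (hQ : F.StronglyClosed Q) (hPS : P ≤ S) {α : MulAut P} (hα : α ∈ F.autGroup P)
    {x : P} (hx : x ∈ Q.subgroupOf P) : α x ∈ Q.subgroupOf P := by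
  rw [Subgroup.mem_subgroupOf] at hx ⊢
  have hφ := (mem_autGroup_iff F hPS α).mp hα
  have h1 := fs_restrict_mem F (inf_le_left : P ⊓ Q ≤ P) hφ
  exact hQ.2 (P ⊓ Q) inf_le_right _ h1 ⟨x, ⟨x.2, hx⟩⟩

theorem zpowers_subgroupOf {G : Type*} [Group G] (K : Subgroup G) {x : G} (hx : x ∈ K) :
    (Subgroup.zpowers x).subgroupOf K = Subgroup.zpowers (⟨x, hx⟩ : K) := by
  ext y
  rw [Subgroup.mem_subgroupOf, Subgroup.mem_zpowers_iff, Subgroup.mem_zpowers_iff]
  constructor
  · rintro ⟨k, hk⟩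
    exact ⟨k, Subtype.ext (by rw [Subgroup.coe_zpow]; exact hk)⟩
  · rintro ⟨k, hk⟩
    refine ⟨k, ?_⟩
    rw [← hk, Subgroup.coe_zpow]

/-- The chain restricted to a subgroup `P ≤ S`. -/
theorem SChain.cycChain {F : FusionSystem S} {c : ℕ → Subgroup Ω} {m : ℕ} (h : SChain F c m)
    {P : Subgroup Ω} (hPS : P ≤ S) :
    CycChain (F.autGroup P) (fun i => (c i).subgroupOf P) m := by
  refine ⟨fun i α hα x hx => stronglyClosed_aut_mem F (h.sc i) hPS hα hx,
    fun i => stronglyClosed_subgroupOf_normal F (h.sc i) hPS, fun i hi => ?_⟩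
  obtain ⟨x₀, hx₀, hxe⟩ := h.step i hi
  have hn : ((c i).subgroupOf S).Normal := stronglyClosed_subgroupOf_normal F (h.sc i) le_rfl
  have hK : (c (i + 1)).subgroupOf S ≤ (c i).subgroupOf S ⊔ Subgroup.zpowers (⟨x₀, hx₀⟩ : S) := by
    rw [hxe, Subgroup.subgroupOf_sup (h.sc i).1 (by rwa [Subgroup.zpowers_le]),
      zpowers_subgroupOf S hx₀]
  obtain ⟨y₀, hy₀, hgen⟩ := exists_gen_inf ((c i).subgroupOf S) ((c (i + 1)).subgroupOf S)
    (P.subgroupOf S) ⟨x₀, hx₀⟩ hK
  have hy₀P : (y₀ : Ω) ∈ P := Subgroup.mem_subgroupOf.mp hy₀.1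
  refine ⟨⟨y₀, hy₀P⟩, fun y hy => ?_⟩
  have hy' : (⟨y, hPS y.2⟩ : S) ∈ P.subgroupOf S ⊓ (c (i + 1)).subgroupOf S :=
    ⟨Subgroup.mem_subgroupOf.mpr y.2, Subgroup.mem_subgroupOf.mpr (Subgroup.mem_subgroupOf.mp hy)⟩
  obtain ⟨l, hl⟩ := hgen _ hy'
  have e2 : y = (⟨y₀, hy₀P⟩ : P) ^ l * (((⟨y₀, hy₀P⟩ : P) ^ l)⁻¹ * y) := by group
  rw [e2]
  refine Subgroup.mul_mem _ (Subgroup.mem_sup_right (Subgroup.zpow_mem_zpowers _ l))
    (Subgroup.mem_sup_left ?_)
  rw [Subgroup.mem_subgroupOf] at hl ⊢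
  simpa using hl

/-- A commutative finite group has no strongly `p`-embedded subgroup. -/
theorem not_stronglyPEmbedded_of_comm {G : Type*} [Group G] [Finite G] {p : ℕ} [Fact p.Prime]
    (hcomm : ∀ a b : G, a * b = b * a) {E : Subgroup G} (hE : IsStronglyPEmbedded p E) : False := by
  have hbot := pCore_eq_bot_of_stronglyPEmbedded hE
  obtain ⟨Q⟩ := (inferInstance : Nonempty (Sylow p G))
  have hn : (Q : Subgroup G).Normal := ⟨fun n hn g => by
    rw [hcomm g n, mul_inv_cancel_right]; exact hn⟩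
  have h1 := le_pCore hn Q.2
  rw [hbot, le_bot_iff] at h1
  exact Q.ne_bot_of_dvd_card hE.1 h1

theorem SChain.not_isEssential [Finite S] (p : ℕ) [Fact p.Prime] (hS : IsPGroup p S)
    {F : FusionSystem S} {c : ℕ → Subgroup Ω} {m : ℕ} (h : SChain F c m)
    {P : Subgroup Ω} (hess : F.IsEssential p P) : False := by
  have hPS : P ≤ S := hess.1.1
  have hfinP := finite_of_le hPS
  have hfinA : Finite (MulAut P) := Finite.of_injective (fun f : MulAut P => (f : P → P))
    (fun f g h => MulEquiv.ext (congrFun h))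
  have hPp : IsPGroup p P := hS.to_le hPS
  have hch := h.cycChain hPS
  have h0 : (fun i => (c i).subgroupOf P) 0 = ⊥ := by
    show (c 0).subgroupOf P = ⊥
    rw [h.zero, Subgroup.bot_subgroupOf]
  have hm : (fun i => (c i).subgroupOf P) m = ⊤ := by
    show (c m).subgroupOf P = ⊤
    rw [h.top]; exact Subgroup.subgroupOf_eq_top.mpr hPS
  have hrad := (isRadical_of_isEssential p hS F P hess).2
  have hle := stabChain_le_pCore hPp (F.autGroup P) _ m hch.inv h0 hm
  obtain ⟨hn, E, hE⟩ := hess.2.2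
  apply not_stronglyPEmbedded_of_comm (G := F.autGroup P ⧸ (Inn P).subgroupOf (F.autGroup P)) _ hE
  intro a b
  induction a using QuotientGroup.induction_on with
  | H a =>
    induction b using QuotientGroup.induction_on with
    | H b =>
      rw [← QuotientGroup.mk_mul, ← QuotientGroup.mk_mul]
      apply QuotientGroup.eq.mpr
      rw [Subgroup.mem_subgroupOf]
      have h1 := hch.comm_mem (Subgroup.inv_mem _ b.2) (Subgroup.inv_mem _ a.2)
      have h2 : (⟨_, (stabChain_le _ _ _ _) h1⟩ : F.autGroup P) ∈ pCore p (F.autGroup P) :=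
        hle (Subgroup.mem_subgroupOf.mpr h1)
      have h3 : ((b : MulAut P))⁻¹ * ((a : MulAut P))⁻¹ * ((b : MulAut P))⁻¹⁻¹ * ((a : MulAut P))⁻¹⁻¹ ∈
          (pCore p (F.autGroup P)).map (F.autGroup P).subtype := ⟨_, h2, rfl⟩
      rw [hrad] at h3
      have e : (((a * b)⁻¹ * (b * a) : F.autGroup P) : MulAut P) =
          ((b : MulAut P))⁻¹ * ((a : MulAut P))⁻¹ * ((b : MulAut P))⁻¹⁻¹ * ((a : MulAut P))⁻¹⁻¹ := by
        push_cast
        group
      rw [e]
      exact h3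

/-- A supersoluble saturated system has `S` normal. -/
theorem SChain.isNormal_top [Finite S] (p : ℕ) [Fact p.Prime] (hS : IsPGroup p S)
    {F : FusionSystem S} (hF : F.IsSaturated p) {c : ℕ → Subgroup Ω} {m : ℕ} (h : SChain F c m) :
    F.IsNormal S := by
  rw [isNormal_iff_essential_invariant p hS F hF]
  have key : ∀ α ∈ F.autGroup S, (S.subgroupOf S).map α.toMonoidHom = S.subgroupOf S := by
    intro α _
    rw [Subgroup.subgroupOf_self]
    rw [← MonoidHom.range_eq_map]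
    exact MonoidHom.range_eq_top.mpr α.surjective
  intro P hP
  rcases hP with rfl | hess
  · exact ⟨le_rfl, key⟩
  · exact (h.not_isEssential p hS hess).elim

/-- The semidirect product of `Q` with a group of automorphisms. -/
abbrev SDH (Q : Subgroup Ω) (H : Subgroup (MulAut Q)) :=
  SemidirectProduct ↥Q ↥H H.subtype

theorem sdh_conj (Q : Subgroup Ω) (H : Subgroup (MulAut Q)) (g : SDH Q H) (x : Q) :
    g * SemidirectProduct.inl x * g⁻¹ =
      SemidirectProduct.inl (g.left * ((g.right : MulAut Q) x) * g.left⁻¹) := by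
  apply SemidirectProduct.ext
  · simp only [SemidirectProduct.mul_left, SemidirectProduct.mul_right, SemidirectProduct.inv_left,
      SemidirectProduct.left_inl, SemidirectProduct.right_inl, mul_one,
      Subgroup.coe_subtype, map_inv]
    simp
  · simp

/-- The system over `Q` generated by `Inn(Q)` and `H`. -/
noncomputable def hSystem (Q : Subgroup Ω) (H : Subgroup (MulAut Q)) : FusionSystem Q :=
  Sparse.pullSystem Q (SemidirectProduct.inl : ↥Q →* SDH Q H) SemidirectProduct.inl_injective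

theorem mem_hSystem_iff (Q : Subgroup Ω) (H : Subgroup (MulAut Q)) (P : Subgroup Ω) (φ : P →* Ω) :
    φ ∈ (hSystem Q H).Hom P ↔ ∃ (hP : P ≤ Q) (a : Q) (b : MulAut Q), b ∈ H ∧
      ∀ x : P, φ x = ((a * b ⟨x, hP x.2⟩ * a⁻¹ : Q) : Ω) := by
  constructor
  · rintro ⟨hP, hφ, g, hg⟩
    refine ⟨hP, g.left, (g.right : MulAut Q), g.right.2, fun x => ?_⟩
    have h1 := hg x
    rw [sdh_conj] at h1
    have h2 := SemidirectProduct.inl_injective h1
    exact congrArg (fun z : Q => (z : Ω)) h2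
  · rintro ⟨hP, a, b, hb, hφ⟩
    have hval : ∀ x : P, φ x ∈ Q := fun x => by rw [hφ x]; exact (a * b ⟨x, hP x.2⟩ * a⁻¹).2
    refine ⟨hP, hval, ⟨a, ⟨b, hb⟩⟩, fun x => ?_⟩
    rw [sdh_conj]
    congr 1
    exact Subtype.ext (hφ x)

theorem hSystem_isSaturated (p : ℕ) [Fact p.Prime] (Q : Subgroup Ω) [Finite Q] (hQ : IsPGroup p Q)
    (H : Subgroup (MulAut Q)) (hH : (Nat.card ↥H).Coprime p) : (hSystem Q H).IsSaturated p := by
  have hfinA : Finite (MulAut Q) := Finite.of_injective (fun f : MulAut Q => (f : Q → Q))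
    (fun f g h => MulEquiv.ext (congrFun h))
  have hfinZ : Finite ↥H := inferInstance
  have hfinG : Finite (SDH Q H) := Finite.of_equiv _ SemidirectProduct.equivProd.symm
  set ι : ↥Q →* SDH Q H := SemidirectProduct.inl with hι
  have hinj : Function.Injective ι := SemidirectProduct.inl_injective
  have hrange : IsPGroup p ι.range := hQ.of_equiv (MonoidHom.ofInjective hinj)
  have hcard : Nat.card (SDH Q H) = Nat.card Q * Nat.card H := by
    rw [SemidirectProduct.card]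
  have hcr : Nat.card ι.range = Nat.card Q := (Nat.card_congr (MonoidHom.ofInjective hinj).toEquiv).symm
  have hindex : ι.range.index = Nat.card H := by
    have h1 := ι.range.card_mul_index
    rw [hcr, hcard] at h1
    exact Nat.eq_of_mul_eq_mul_left Nat.card_pos h1
  have hnd : ¬ p ∣ ι.range.index := by
    rw [hindex]
    exact (Nat.Prime.coprime_iff_not_dvd Fact.out).mp hH.symm
  exact isSaturated_of_isRealizedBy_sylow p (hSystem Q H) ι
    (Sparse.pullSystem_isRealizedBy Q ι hinj) (hrange.toSylow hnd) (IsPGroup.toSylow_coe hrange hnd)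

theorem le_autGroup_hSystem (Q : Subgroup Ω) (H : Subgroup (MulAut Q)) :
    H ≤ (hSystem Q H).autGroup Q := by
  intro b hb
  rw [mem_autGroup_iff _ le_rfl]
  rw [mem_hSystem_iff]
  refine ⟨le_rfl, 1, b, hb, fun x => ?_⟩
  simp

/-- If the system of `S ⋊ H` is supersoluble then `H` is abelian of exponent dividing `p - 1`. -/
theorem abelian_of_schain [Finite S] (p : ℕ) [Fact p.Prime] (hS : IsPGroup p S)
    (H : Subgroup (MulAut S)) (hH : (Nat.card ↥H).Coprime p)
    {c : ℕ → Subgroup Ω} {m : ℕ} (h : SChain (hSystem S H) c m) :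
    (∀ α ∈ H, ∀ β ∈ H, α * β = β * α) ∧ ∀ α ∈ H, α ^ (p - 1) = 1 := by
  have hch := h.cycChain (le_refl S)
  have h0 : (fun i => (c i).subgroupOf S) 0 = ⊥ := by
    show (c 0).subgroupOf S = ⊥
    rw [h.zero, Subgroup.bot_subgroupOf]
  have hm : (fun i => (c i).subgroupOf S) m = ⊤ := by
    show (c m).subgroupOf S = ⊤
    rw [h.top]; exact Subgroup.subgroupOf_self S
  exact hch.abelian_of_coprime hS h0 hm (le_autGroup_hSystem S H) hH

end Cfsg.Agent.Lib.Helper7.Super
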