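import Mathlib

set_option autoImplicit false

namespace Cfsg.Agent.Lib.Helper7.Super

open Finset

/-- An operator `t` with `t ^ (q - 1) = 1` on a nonzero invariant subspace over the field with `q`
elements has an eigenvector there. -/
theorem exists_eigen_single {K M : Type*} [Field K] [Fintype K] [AddCommGroup M] [Module K M]
    (t : M →ₗ[K] M) (ht : ∀ v, (t ^ (Fintype.card K - 1)) v = v) (W : Submodule K M)
    (hW : ∀ w ∈ W, t w ∈ W) {v : M} (hv : v ∈ W) (hv0 : v ≠ 0) :
    ∃ a : K, ∃ w ∈ W, w ≠ 0 ∧ t w = a • w := by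
  classical
  set q := Fintype.card K with hq
  have hq1 : 1 < q := Fintype.one_lt_card
  have hpowW : ∀ j : ℕ, (t ^ j) v ∈ W := by
    intro j
    induction j with
    | zero => simpa using hv
    | succ j ih => rw [pow_succ', Module.End.mul_apply]; exact hW _ ih
  set f : K → ℕ → M := fun a j => a ^ j • (t ^ j) v with hf
  set π : K → M := fun a => ∑ j ∈ range (q - 1), f a j with hπ
  have hπW : ∀ a, π a ∈ W := fun a =>
    Submodule.sum_mem _ (fun j _ => Submodule.smul_mem _ _ (hpowW j))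
  have hsum : ∑ a : K, π a = 0 := by
    simp only [hπ, hf]
    rw [Finset.sum_comm]
    apply Finset.sum_eq_zero
    intro j hj
    rw [← Finset.sum_smul, FiniteField.sum_pow_lt_card_sub_one K j (Finset.mem_range.mp hj), zero_smul]
  have hπ0 : π 0 = v := by
    simp only [hπ, hf]
    rw [Finset.sum_eq_single 0]
    · simp
    · intro j _ hj0
      rw [zero_pow hj0, zero_smul]
    · intro h
      exact absurd (Finset.mem_range.mpr (by omega)) h
  have hex : ∃ a : K, a ≠ 0 ∧ π a ≠ 0 := by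
    by_contra hcon
    push Not at hcon
    have : ∑ a : K, π a = π 0 := by
      apply Finset.sum_eq_single 0
      · intro b _ hb; exact hcon b hb
      · intro h; exact absurd (Finset.mem_univ _) h
    rw [hsum, hπ0] at this
    exact hv0 this.symm
  obtain ⟨a, ha, hπa⟩ := hex
  refine ⟨a⁻¹, π a, hπW a, hπa, ?_⟩
  have h1 : a • t (π a) = ∑ j ∈ range (q - 1), f a (j + 1) := by
    simp only [hπ, hf]
    rw [map_sum, Finset.smul_sum]
    apply Finset.sum_congr rfl
    intro j _
    rw [map_smul, smul_smul, ← pow_succ', pow_succ' t, Module.End.mul_apply]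
  have h2 : ∑ j ∈ range (q - 1), f a (j + 1) + f a 0 = π a + f a (q - 1) := by
    rw [← Finset.sum_range_succ', Finset.sum_range_succ]
  have h3 : f a 0 = v := by simp [hf]
  have h4 : f a (q - 1) = v := by
    simp only [hf]
    rw [FiniteField.pow_card_sub_one_eq_one a ha, one_smul, ht]
  rw [h3, h4] at h2
  have h5 : a • t (π a) = π a := by rw [h1]; exact add_right_cancel h2
  calc t (π a) = a⁻¹ • (a • t (π a)) := by rw [smul_smul, inv_mul_cancel₀ ha, one_smul]
    _ = a⁻¹ • π a := by rw [h5]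

/-- Commuting operators with `t ^ (q - 1) = 1` have a common eigenvector in any nonzero invariant
subspace. -/
theorem exists_common_eigen {K M : Type*} [Field K] [Fintype K] [AddCommGroup M] [Module K M]
    [Finite M] (T : Set (M →ₗ[K] M)) (hcomm : ∀ s ∈ T, ∀ t ∈ T, ∀ v, s (t v) = t (s v))
    (hpow : ∀ t ∈ T, ∀ v, (t ^ (Fintype.card K - 1)) v = v) :
    ∀ (n : ℕ) (W : Submodule K M), Nat.card W = n → W ≠ ⊥ → (∀ t ∈ T, ∀ w ∈ W, t w ∈ W) →
      ∃ v ∈ W, v ≠ 0 ∧ ∀ t ∈ T, ∃ a : K, t v = a • v := by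
  intro n
  induction n using Nat.strong_induction_on with
  | _ n ih =>
    intro W hn hW hinv
    by_cases hsc : ∀ t ∈ T, ∃ a : K, ∀ w ∈ W, t w = a • w
    · obtain ⟨v, hv, hv0⟩ := Submodule.exists_mem_ne_zero_of_ne_bot hW
      refine ⟨v, hv, hv0, fun t ht => ?_⟩
      obtain ⟨a, ha⟩ := hsc t ht
      exact ⟨a, ha v hv⟩
    · push Not at hsc
      obtain ⟨t, htT, hns⟩ := hsc
      obtain ⟨v, hv, hv0⟩ := Submodule.exists_mem_ne_zero_of_ne_bot hW
      obtain ⟨a, w₀, hw₀, hw₀0, hw₀e⟩ := exists_eigen_single t (hpow t htT) W (hinv t htT) hv hv0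
      set W' : Submodule K M := W ⊓ Module.End.eigenspace t a with hW'
      have hmem : ∀ w, w ∈ W' ↔ w ∈ W ∧ t w = a • w := by
        intro w
        rw [hW', Submodule.mem_inf, Module.End.mem_eigenspace_iff]
      have hW'ne : W' ≠ ⊥ := by
        intro h
        have : w₀ ∈ W' := (hmem w₀).mpr ⟨hw₀, hw₀e⟩
        rw [h, Submodule.mem_bot] at this
        exact hw₀0 this
      obtain ⟨w₁, hw₁, hw₁e⟩ := hns a
      have hlt : Nat.card W' < n := by
        rw [← hn]
        have hss : (W' : Set M) ⊂ (W : Set M) := by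
          refine ⟨fun x hx => ((hmem x).mp hx).1, fun hsub => ?_⟩
          exact hw₁e ((hmem w₁).mp (hsub hw₁)).2
        have := Set.ncard_lt_ncard hss (Set.toFinite _)
        exact this
      have hinv' : ∀ s ∈ T, ∀ w ∈ W', s w ∈ W' := by
        intro s hs w hw
        obtain ⟨hwW, hwe⟩ := (hmem w).mp hw
        refine (hmem _).mpr ⟨hinv s hs w hwW, ?_⟩
        rw [← hcomm s hs t htT, hwe, map_smul]
      obtain ⟨u, hu, hu0, hue⟩ := ih _ hlt W' rfl hW'ne hinv'
      exact ⟨u, ((hmem u).mp hu).1, hu0, hue⟩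

theorem exists_common_eigen_mul_aux {V : Type*} [CommGroup V] [Finite V] (p : ℕ) [Fact p.Prime]
    [Module (ZMod p) (Additive V)] (hnt : ∃ v : V, v ≠ 1) (T : Set (V →* V))
    (hcomm : ∀ s ∈ T, ∀ t ∈ T, ∀ v, s (t v) = t (s v))
    (hpow : ∀ t ∈ T, ∀ v, (t^[p - 1]) v = v) :
    ∃ v : V, v ≠ 1 ∧ ∀ t ∈ T, t v ∈ Subgroup.zpowers v := by
  have hfin : Finite (Additive V) := inferInstanceAs (Finite V)
  set lin : (V →* V) → (Additive V →ₗ[ZMod p] Additive V) :=
    fun t => (MonoidHom.toAdditive t).toZModLinearMap p with hlin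
  have hlin_apply : ∀ (t : V →* V) (x : Additive V), lin t x = Additive.ofMul (t (Additive.toMul x)) :=
    fun t x => rfl
  have hiter : ∀ (t : V →* V) (k : ℕ) (x : Additive V),
      ((lin t) ^ k) x = Additive.ofMul (t^[k] (Additive.toMul x)) := by
    intro t k
    induction k with
    | zero => intro x; simp
    | succ k ih =>
      intro x
      rw [pow_succ', Module.End.mul_apply, ih, hlin_apply, Function.iterate_succ_apply']
      rfl
  have hcard : Fintype.card (ZMod p) = p := ZMod.card p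
  obtain ⟨v₀, hv₀⟩ := hnt
  have htop : (⊤ : Submodule (ZMod p) (Additive V)) ≠ ⊥ := by
    intro h
    have : Additive.ofMul v₀ ∈ (⊤ : Submodule (ZMod p) (Additive V)) := Submodule.mem_top
    rw [h, Submodule.mem_bot] at this
    exact hv₀ this
  obtain ⟨v, -, hv0, hv⟩ := exists_common_eigen (K := ZMod p) (M := Additive V) (lin '' T)
    (by
      rintro _ ⟨s, hs, rfl⟩ _ ⟨t, ht, rfl⟩ x
      rw [hlin_apply, hlin_apply, hlin_apply, hlin_apply]
      exact congrArg Additive.ofMul (hcomm s hs t ht _))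
    (by
      rintro _ ⟨t, ht, rfl⟩ x
      rw [hcard, hiter, hpow t ht]
      rfl)
    _ ⊤ rfl htop (fun _ _ _ _ => Submodule.mem_top)
  refine ⟨Additive.toMul v, fun h => hv0 h, fun t ht => ?_⟩
  obtain ⟨a, ha⟩ := hv (lin t) ⟨t, ht, rfl⟩
  rw [hlin_apply] at ha
  have h1 : a • v = a.val • v := by
    conv_lhs => rw [← ZMod.natCast_zmod_val a]
    exact Nat.cast_smul_eq_nsmul (ZMod p) a.val v
  rw [h1] at ha
  have h2 : t (Additive.toMul v) = (Additive.toMul v) ^ a.val := by
    have := congrArg Additive.toMul ha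
    simpa using this
  rw [h2]
  exact Subgroup.npow_mem_zpowers _ _

/-- Multiplicative form: commuting endomorphisms with `t ^ (p - 1) = 1` of a nontrivial finite
elementary abelian `p`-group normalize a common cyclic subgroup. -/
theorem exists_common_eigen_mul {V : Type*} [CommGroup V] [Finite V] (p : ℕ) [Fact p.Prime]
    (hV : ∀ v : V, v ^ p = 1) (hnt : ∃ v : V, v ≠ 1) (T : Set (V →* V))
    (hcomm : ∀ s ∈ T, ∀ t ∈ T, ∀ v, s (t v) = t (s v))
    (hpow : ∀ t ∈ T, ∀ v, (t^[p - 1]) v = v) :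
    ∃ v : V, v ≠ 1 ∧ ∀ t ∈ T, t v ∈ Subgroup.zpowers v := by
  let inst : Module (ZMod p) (Additive V) := AddCommGroup.zmodModule (n := p) (G := Additive V)
    (fun x => by
      show Additive.ofMul (Additive.toMul x ^ p) = 0
      rw [hV]; rfl)
  exact exists_common_eigen_mul_aux p hnt T hcomm hpow

end Cfsg.Agent.Lib.Helper7.Super
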