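import Mathlib
import Cfsg.Agent.Lib.Helper7.SuperC

set_option autoImplicit false

namespace Cfsg.Agent.Lib.Helper7.Super

/-- `Ω₁(Z(G))`: central elements of order dividing `p`. -/
def omegaCenter (G : Type*) [Group G] (p : ℕ) : Subgroup G where
  carrier := {z | z ∈ Subgroup.center G ∧ z ^ p = 1}
  one_mem' := ⟨Subgroup.one_mem _, one_pow _⟩
  mul_mem' := by
    rintro a b ⟨ha, hap⟩ ⟨hb, hbp⟩
    refine ⟨Subgroup.mul_mem _ ha hb, ?_⟩
    have hc : Commute a b := (Subgroup.mem_center_iff.mp hb a)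
    rw [hc.mul_pow, hap, hbp, one_mul]
  inv_mem' := by
    rintro a ⟨ha, hap⟩
    exact ⟨Subgroup.inv_mem _ ha, by rw [inv_pow, hap, inv_one]⟩

theorem mem_omegaCenter {G : Type*} [Group G] {p : ℕ} {z : G} :
    z ∈ omegaCenter G p ↔ z ∈ Subgroup.center G ∧ z ^ p = 1 := Iff.rfl

theorem exists_mem_omegaCenter_ne_one {G : Type*} [Group G] [Finite G] [Nontrivial G] {p : ℕ}
    [Fact p.Prime] (hG : IsPGroup p G) : ∃ z ∈ omegaCenter G p, z ≠ 1 := by
  have hnt : Nontrivial (Subgroup.center G) := hG.center_nontrivial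
  have hZ : IsPGroup p (Subgroup.center G) := hG.to_subgroup _
  have hdvd : p ∣ Nat.card (Subgroup.center G) := by
    rcases hZ.card_eq_or_dvd with h | h
    · exact absurd h (ne_of_gt Finite.one_lt_card)
    · exact h
  obtain ⟨x, hx⟩ := exists_prime_orderOf_dvd_card' p hdvd
  refine ⟨x.1, ⟨x.2, ?_⟩, ?_⟩
  · have := pow_orderOf_eq_one x
    rw [hx] at this
    exact_mod_cast congrArg Subtype.val this
  · intro h
    have h1 : x = 1 := Subtype.ext h
    rw [h1, orderOf_one] at hx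
    exact (Fact.out : p.Prime).one_lt.ne hx

theorem map_mem_omegaCenter {G : Type*} [Group G] {p : ℕ} (t : G →* G)
    (ht : Function.Surjective t) {z : G} (hz : z ∈ omegaCenter G p) : t z ∈ omegaCenter G p := by
  refine ⟨Subgroup.mem_center_iff.mpr fun g => ?_, by rw [← map_pow, hz.2, map_one]⟩
  obtain ⟨g', rfl⟩ := ht g
  rw [← map_mul, ← map_mul, Subgroup.mem_center_iff.mp hz.1 g']

/-- Lemma F: a commuting family of surjective endomorphisms of exponent dividing `p - 1` of a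
nontrivial finite `p`-group normalizes a central subgroup of order `p`. -/
theorem exists_central_eigen {G : Type*} [Group G] [Finite G] [Nontrivial G] (p : ℕ) [Fact p.Prime]
    (hG : IsPGroup p G) (T : Set (G →* G)) (hsurj : ∀ t ∈ T, Function.Surjective t)
    (hcomm : ∀ s ∈ T, ∀ t ∈ T, ∀ v, s (t v) = t (s v))
    (hpow : ∀ t ∈ T, ∀ v, (t^[p - 1]) v = v) :
    ∃ v : G, v ≠ 1 ∧ v ∈ Subgroup.center G ∧ ∀ t ∈ T, t v ∈ Subgroup.zpowers v := by
  set Z := omegaCenter G p with hZ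
  let instZ : CommGroup ↥Z := { (inferInstance : Group ↥Z) with
    mul_comm := fun a b => Subtype.ext (Subgroup.mem_center_iff.mp a.2.1 b.1).symm }
  set T' : Set (↥Z →* ↥Z) := {t' | ∃ t ∈ T, ∀ z : Z, ((t' z : Z) : G) = t z} with hT'
  have hV : ∀ v : Z, v ^ p = 1 := fun v => Subtype.ext (by
    rw [Subgroup.coe_pow]; exact v.2.2)
  have hnt : ∃ v : Z, v ≠ 1 := by
    obtain ⟨z, hz, hz1⟩ := exists_mem_omegaCenter_ne_one (p := p) hG
    exact ⟨⟨z, hz⟩, fun h => hz1 (congrArg Subtype.val h)⟩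
  have hiter : ∀ (t' : ↥Z →* ↥Z) (t : G →* G), (∀ z : Z, ((t' z : Z) : G) = t z) →
      ∀ (k : ℕ) (z : Z), ((t'^[k] z : Z) : G) = t^[k] z := by
    intro t' t h k
    induction k with
    | zero => intro z; rfl
    | succ k ih =>
      intro z
      rw [Function.iterate_succ_apply', Function.iterate_succ_apply', h, ih]
  obtain ⟨v, hv1, hv⟩ := exists_common_eigen_mul p hV hnt T'
    (by
      rintro s' ⟨s, hs, hs'⟩ t' ⟨t, ht, ht'⟩ v
      apply Subtype.ext
      rw [hs', ht', ht', hs', hcomm s hs t ht])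
    (by
      rintro t' ⟨t, ht, ht'⟩ v
      apply Subtype.ext
      rw [hiter t' t ht', hpow t ht])
  refine ⟨v.1, fun h => hv1 (Subtype.ext h), v.2.1, fun t ht => ?_⟩
  set t' : ↥Z →* ↥Z := (t.comp Z.subtype).codRestrict Z
    (fun z => map_mem_omegaCenter t (hsurj t ht) z.2) with ht'
  have h1 := hv t' ⟨t, ht, fun z => rfl⟩
  obtain ⟨k, hk⟩ := Subgroup.mem_zpowers_iff.mp h1
  refine Subgroup.mem_zpowers_iff.mpr ⟨k, ?_⟩
  have := congrArg Subtype.val hk
  rw [Subgroup.coe_zpow] at this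
  exact this

/-- Lemma G: the step. An `H`-invariant proper normal subgroup `N` of a finite `p`-group `P` can be
enlarged by one generator to an `H`-invariant normal subgroup, when `H` is abelian of exponent
dividing `p - 1`. -/
theorem exists_step {P : Type*} [Group P] [Finite P] (p : ℕ) [Fact p.Prime] (hP : IsPGroup p P)
    (H : Subgroup (MulAut P)) (hHc : ∀ α ∈ H, ∀ β ∈ H, α * β = β * α)
    (hHe : ∀ α ∈ H, α ^ (p - 1) = 1) (N : Subgroup P) [hNn : N.Normal]
    (hNH : ∀ α ∈ H, ∀ x ∈ N, α x ∈ N) (hN : N ≠ ⊤) :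
    ∃ x : P, x ∉ N ∧ (N ⊔ Subgroup.zpowers x).Normal ∧
      ∀ α ∈ H, ∀ y ∈ N ⊔ Subgroup.zpowers x, α y ∈ N ⊔ Subgroup.zpowers x := by
  have hG : IsPGroup p (P ⧸ N) := hP.to_quotient N
  have hnt : Nontrivial (P ⧸ N) := by
    obtain ⟨x, hx⟩ : ∃ x, x ∉ N := by
      by_contra hcon
      push Not at hcon
      exact hN ((Subgroup.eq_top_iff' N).mpr hcon)
    exact ⟨⟨QuotientGroup.mk x, 1, fun h => hx ((QuotientGroup.eq_one_iff x).mp h)⟩⟩
  set qm : H → (P ⧸ N →* P ⧸ N) := fun α =>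
    QuotientGroup.map N N α.1.toMonoidHom (fun x hx => hNH α.1 α.2 x hx) with hqmdef
  have hqm : ∀ (α : H) (x : P), qm α (QuotientGroup.mk x) = QuotientGroup.mk (α.1 x) :=
    fun α x => rfl
  have hqmiter : ∀ (α : H) (k : ℕ) (x : P),
      (qm α)^[k] (QuotientGroup.mk x) = QuotientGroup.mk ((α.1 ^ k) x) := by
    intro α k
    induction k with
    | zero => intro x; simp
    | succ k ih =>
      intro x
      rw [Function.iterate_succ_apply', ih, hqm, pow_succ', MulAut.mul_apply]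
  obtain ⟨v, hv1, hvc, hvT⟩ := exists_central_eigen p hG (Set.range qm)
    (by
      rintro _ ⟨α, rfl⟩ g
      induction g using QuotientGroup.induction_on with
      | H x => exact ⟨QuotientGroup.mk (α.1⁻¹ x), by rw [hqm, MulAut.apply_inv_self]⟩)
    (by
      rintro _ ⟨α, rfl⟩ _ ⟨β, rfl⟩ g
      induction g using QuotientGroup.induction_on with
      | H x =>
        rw [hqm, hqm, hqm, hqm]
        have := DFunLike.congr_fun (hHc α.1 α.2 β.1 β.2) x
        rw [MulAut.mul_apply, MulAut.mul_apply] at this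
        rw [this])
    (by
      rintro _ ⟨α, rfl⟩ g
      induction g using QuotientGroup.induction_on with
      | H x => rw [hqmiter, hHe α.1 α.2, MulAut.one_apply])
  obtain ⟨x, rfl⟩ := QuotientGroup.mk_surjective v
  have hxN : x ∉ N := fun h => hv1 ((QuotientGroup.eq_one_iff x).mpr h)
  have hmemM : ∀ y, y ∈ N ⊔ Subgroup.zpowers x ↔
      (QuotientGroup.mk y : P ⧸ N) ∈ Subgroup.zpowers (QuotientGroup.mk x : P ⧸ N) := by
    intro y
    constructor
    · intro hy
      have h1 : (QuotientGroup.mk' N) y ∈ (N ⊔ Subgroup.zpowers x).map (QuotientGroup.mk' N) :=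
        ⟨y, hy, rfl⟩
      rw [Subgroup.map_sup, QuotientGroup.map_mk'_self, bot_sup_eq, MonoidHom.map_zpowers] at h1
      exact h1
    · intro hy
      obtain ⟨k, hk⟩ := Subgroup.mem_zpowers_iff.mp hy
      have hd : (x ^ k)⁻¹ * y ∈ N := by
        rw [← QuotientGroup.eq, QuotientGroup.mk_zpow]
        exact hk
      have e : y = x ^ k * ((x ^ k)⁻¹ * y) := by group
      rw [e]
      exact Subgroup.mul_mem _ (Subgroup.mem_sup_right (Subgroup.zpow_mem_zpowers x k))
        (Subgroup.mem_sup_left hd)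
  have hzc : Subgroup.zpowers (QuotientGroup.mk x : P ⧸ N) ≤ Subgroup.center (P ⧸ N) :=
    Subgroup.zpowers_le.mpr hvc
  refine ⟨x, hxN, ⟨fun y hy g => ?_⟩, fun α hα y hy => ?_⟩
  · rw [hmemM] at hy ⊢
    have hc := Subgroup.mem_center_iff.mp (hzc hy) (QuotientGroup.mk g)
    rw [QuotientGroup.mk_mul, QuotientGroup.mk_mul, hc, QuotientGroup.mk_inv, mul_inv_cancel_right]
    exact hy
  · rw [hmemM] at hy ⊢
    obtain ⟨k, hk⟩ := Subgroup.mem_zpowers_iff.mp hy
    have h1 : (QuotientGroup.mk (α y) : P ⧸ N) = qm ⟨α, hα⟩ (QuotientGroup.mk y) := rfl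
    rw [h1, ← hk, map_zpow]
    exact Subgroup.zpow_mem _ (hvT _ ⟨⟨α, hα⟩, rfl⟩) k

end Cfsg.Agent.Lib.Helper7.Super
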