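import Mathlib
import Cfsg.Prelude.Def_FusionSystem
import Cfsg.Agent.Lib.Helper7.SuperB
import Cfsg.Agent.Lib.Helper7.SuperD
import Cfsg.Agent.Lib.Helper7.MaxClassC
import Cfsg.Agent.Lib.Helper7.FusionInner
import Cfsg.Agent.Lib.Helper7.AutInduced
import Cfsg.Agent.Lib.Helper7.Alperin1

set_option autoImplicit false

namespace Cfsg.Agent.Lib.Helper7.Super

open Cfsg Cfsg.FusionSystem Cfsg.Agent.Lib.Helper7

/-- The chain, abstractly. -/
theorem exists_chain {P : Type*} [Group P] [Finite P] (p : ℕ) [Fact p.Prime] (hP : IsPGroup p P)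
    (H : Subgroup (MulAut P)) (hHc : ∀ α ∈ H, ∀ β ∈ H, α * β = β * α)
    (hHe : ∀ α ∈ H, α ^ (p - 1) = 1) :
    ∀ (n : ℕ) (N : Subgroup P), N.index = n → N.Normal → (∀ α ∈ H, ∀ x ∈ N, α x ∈ N) →
      ∃ (m : ℕ) (c : ℕ → Subgroup P), c 0 = N ∧ c m = ⊤ ∧
        (∀ i, (c i).Normal ∧ ∀ α ∈ H, ∀ x ∈ c i, α x ∈ c i) ∧
        ∀ i < m, ∃ x, c (i + 1) = c i ⊔ Subgroup.zpowers x := by
  intro n
  induction n using Nat.strong_induction_on with
  | _ n ih =>
    intro N hn hNn hNH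
    by_cases htop : N = ⊤
    · exact ⟨0, fun _ => N, rfl, htop, fun _ => ⟨hNn, hNH⟩, fun i hi => absurd hi (Nat.not_lt_zero i)⟩
    · obtain ⟨x, hxN, hMn, hMH⟩ := exists_step p hP H hHc hHe N hNH htop
      have hlt : N < N ⊔ Subgroup.zpowers x := by
        refine lt_of_le_of_ne le_sup_left fun h => hxN ?_
        rw [h]
        exact Subgroup.mem_sup_right (Subgroup.mem_zpowers x)
      have hidx : (N ⊔ Subgroup.zpowers x).index < n := by
        rw [← hn]
        exact Subgroup.index_strictAnti hlt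
      obtain ⟨m', c', h0, hm, hinv, hstep⟩ := ih _ hidx (N ⊔ Subgroup.zpowers x) rfl hMn hMH
      refine ⟨m' + 1, fun i => Nat.casesOn i N c', rfl, hm, fun i => ?_, fun i hi => ?_⟩
      · cases i with
        | zero => exact ⟨hNn, hNH⟩
        | succ j => exact hinv j
      · cases i with
        | zero => exact ⟨x, h0⟩
        | succ j => exact hstep j (by omega)

variable {Ω : Type*} [Group Ω] {S : Subgroup Ω}

/-- When `S` is normal in the system, every map is the restriction of an element of `Aut_F(S)`. -/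
theorem exists_aut_of_isNormal_top [Finite S] (F : FusionSystem S) (hN : F.IsNormal S)
    {R : Subgroup Ω} {φ : R →* Ω} (hφ : φ ∈ F.Hom R) :
    ∃ α ∈ F.autGroup S, ∀ x : R, φ x = ((α ⟨x, (F.le_of_mem hφ).1 x.2⟩ : S) : Ω) := by
  obtain ⟨ψ, hψ, hext, -⟩ := hN.2 R φ hφ
  have hχ := fs_restrict_mem F (le_sup_right : S ≤ R ⊔ S) hψ
  obtain ⟨α, hα, hαe⟩ := MaxClass.exists_mulAut_of_hom F hχ (F.le_of_mem hχ).2
  refine ⟨α, hα, fun x => ?_⟩
  rw [hαe, ← hext x]
  rfl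

theorem autInducedBy_top_eq_inn : autInducedBy S S = Inn ↥S := by
  ext α
  rw [mem_autInducedBy_iff]
  constructor
  · rintro ⟨g, hg, h⟩
    refine ⟨⟨g, hg⟩, ?_⟩
    ext x
    rw [h]
    simp [MulAut.conj_apply]
  · rintro ⟨g, rfl⟩
    refine ⟨g, g.2, fun x => ?_⟩
    simp [MulAut.conj_apply]

/-- `Aut_F(S) = Inn(S) H` with `H` a `p'`-group. -/
theorem exists_complement_autGroup [Finite S] (p : ℕ) [Fact p.Prime] (hS : IsPGroup p S)
    (F : FusionSystem S) (hF : F.IsSaturated p) :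
    ∃ H : Subgroup (MulAut S), (Nat.card ↥H).Coprime p ∧
      ∀ α ∈ F.autGroup S, ∃ ι ∈ Inn S, ∃ h ∈ H, α = ι * h := by
  have hfinA : Finite (MulAut S) := Finite.of_injective (fun f : MulAut S => (f : S → S))
    (fun f g h => MulEquiv.ext (congrFun h))
  have hp : p.Prime := Fact.out
  set A := F.autGroup S with hA
  set I : Subgroup ↥A := (Inn S).subgroupOf A with hI
  have hIn : I.Normal := (inn_normal S).subgroupOf _
  obtain ⟨-, R, hR⟩ := isFullyAutomized_top_of_isSaturated p hS F hF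
  rw [autInducedBy_top_eq_inn] at hR
  have hnd : ¬ p ∣ I.index := by
    have := R.not_dvd_index
    rwa [hR] at this
  have hIp : IsPGroup p ↥I := (isPGroup_inn hS).comap_subtype
  obtain ⟨k, hk⟩ := IsPGroup.iff_card.mp hIp
  have hcop : Nat.Coprime (Nat.card ↥I) I.index := by
    rw [hk]
    exact Nat.Coprime.pow_left k ((Nat.Prime.coprime_iff_not_dvd hp).mpr hnd)
  obtain ⟨H', hc⟩ := Subgroup.exists_right_complement'_of_coprime hcop
  refine ⟨H'.map A.subtype, ?_, fun α hα => ?_⟩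
  · rw [Subgroup.card_map_of_injective A.subtype_injective, ← hc.symm.index_eq_card]
    exact ((Nat.Prime.coprime_iff_not_dvd hp).mpr hnd).symm
  · obtain ⟨⟨i, h'⟩, hih⟩ := hc.2 ⟨α, hα⟩
    refine ⟨i.1.1, Subgroup.mem_subgroupOf.mp i.2, h'.1.1, ⟨h'.1, h'.2, rfl⟩, ?_⟩
    have := congrArg Subtype.val hih
    exact this.symm

/-- Normal `H`-invariant subgroups are strongly closed when `S` is normal in the system. -/
theorem stronglyClosed_of_invariant [Finite S] (F : FusionSystem S) (hN : F.IsNormal S)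
    (Q : Subgroup ↥S) (hQ : ∀ α ∈ F.autGroup S, ∀ x ∈ Q, α x ∈ Q) :
    F.StronglyClosed (Q.map S.subtype) := by
  refine ⟨?_, fun R hR φ hφ x => ?_⟩
  · rintro _ ⟨y, -, rfl⟩
    exact y.2
  · obtain ⟨α, hα, hαe⟩ := exists_aut_of_isNormal_top F hN hφ
    rw [hαe]
    obtain ⟨y, hy, hyx⟩ := hR x.2
    have e : (⟨x, (F.le_of_mem hφ).1 x.2⟩ : S) = y := Subtype.ext hyx.symm
    rw [e]
    exact ⟨α y, hQ α hα y hy, rfl⟩

/-- Backward direction. -/
theorem exists_fin_chain [Finite S] (p : ℕ) [Fact p.Prime] (hS : IsPGroup p S)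
    (F : FusionSystem S) (hF : F.IsSaturated p) (hN : F.IsNormal S)
    (hcond : ∀ H : Subgroup (MulAut ↥S), (Nat.card ↥H).Coprime p →
      IsMulCommutative ↥H ∧ ∀ h ∈ H, h ^ (p - 1) = 1) :
    ∃ (m : ℕ) (c : Fin (m + 1) → Subgroup Ω), c 0 = ⊥ ∧ c (Fin.last m) = S ∧
      (∀ i : Fin (m + 1), F.StronglyClosed (c i)) ∧
      ∀ i : Fin m, c i.castSucc ≤ c i.succ ∧
        ∃ x ∈ S, c i.succ = c i.castSucc ⊔ Subgroup.zpowers x := by
  obtain ⟨H, hHcop, hdec⟩ := exists_complement_autGroup p hS F hF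
  obtain ⟨hHc, hHe⟩ := hcond H hHcop
  have hHc' : ∀ α ∈ H, ∀ β ∈ H, α * β = β * α := fun α hα β hβ =>
    congrArg Subtype.val (hHc.is_comm.comm ⟨α, hα⟩ ⟨β, hβ⟩)
  have hbn : (⊥ : Subgroup ↥S).Normal := inferInstance
  obtain ⟨m, c, h0, hm, hinv, hstep⟩ := exists_chain p hS H hHc' hHe _ ⊥ rfl hbn
    (fun α _ x hx => by rw [Subgroup.mem_bot] at hx ⊢; rw [hx, map_one])
  have hA : ∀ i, ∀ α ∈ F.autGroup S, ∀ x ∈ c i, α x ∈ c i := by
    intro i α hα x hx
    obtain ⟨ι, ⟨g, rfl⟩, h, hh, rfl⟩ := hdec α hα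
    rw [MulAut.mul_apply, MulAut.conj_apply]
    exact (hinv i).1.conj_mem _ ((hinv i).2 h hh x hx) g
  refine ⟨m, fun i => (c i.val).map S.subtype, ?_, ?_, fun i => ?_, fun i => ⟨?_, ?_⟩⟩
  · show (c 0).map S.subtype = ⊥
    rw [h0, Subgroup.map_bot]
  · show (c m).map S.subtype = S
    rw [hm, ← MonoidHom.range_eq_map, Subgroup.range_subtype]
  · exact stronglyClosed_of_invariant F hN (c i.val) (hA i.val)
  · obtain ⟨x, hx⟩ := hstep i.val i.2
    show (c i.val).map S.subtype ≤ (c (i.val + 1)).map S.subtype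
    rw [hx]
    exact Subgroup.map_mono le_sup_left
  · obtain ⟨x, hx⟩ := hstep i.val i.2
    refine ⟨x.1, x.2, ?_⟩
    show (c (i.val + 1)).map S.subtype = (c i.val).map S.subtype ⊔ _
    rw [hx, Subgroup.map_sup, MonoidHom.map_zpowers]
    rfl

/-- Forward direction. -/
theorem resistant_of_supersoluble [Finite S] (p : ℕ) [Fact p.Prime] (hS : IsPGroup p S)
    (hyp : ∀ F : FusionSystem S, F.IsSaturated p →
      ∃ (m : ℕ) (c : Fin (m + 1) → Subgroup Ω), c 0 = ⊥ ∧ c (Fin.last m) = S ∧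
        (∀ i : Fin (m + 1), F.StronglyClosed (c i)) ∧
        ∀ i : Fin m, c i.castSucc ≤ c i.succ ∧
          ∃ x ∈ S, c i.succ = c i.castSucc ⊔ Subgroup.zpowers x) :
    (∀ F : FusionSystem S, F.IsSaturated p → F.IsNormal S) ∧
      ∀ H : Subgroup (MulAut ↥S), (Nat.card ↥H).Coprime p →
        IsMulCommutative ↥H ∧ ∀ h ∈ H, h ^ (p - 1) = 1 := by
  constructor
  · intro F hF
    obtain ⟨m, c, h0, hl, hsc, hstep⟩ := hyp F hF
    exact (SChain.of_fin F c h0 hl hsc hstep).isNormal_top p hS hF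
  · intro H hH
    obtain ⟨m, c, h0, hl, hsc, hstep⟩ := hyp _ (hSystem_isSaturated p S hS H hH)
    obtain ⟨h1, h2⟩ := abelian_of_schain p hS H hH (SChain.of_fin _ c h0 hl hsc hstep)
    exact ⟨⟨⟨fun a b => Subtype.ext (h1 a.1 a.2 b.1 b.2)⟩⟩, h2⟩

end Cfsg.Agent.Lib.Helper7.Super
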