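import Mathlib

set_option autoImplicit false

namespace Cfsg.Agent.Lib.Helper7.Super

/-- Reachability by cyclic steps through subgroups satisfying `Inv`. -/
inductive Reach {P : Type*} [Group P] (Inv : Subgroup P → Prop) : Subgroup P → Subgroup P → Prop
  | refl (A : Subgroup P) : Reach Inv A A
  | step {A B : Subgroup P} (x : P) : Reach Inv A B → Inv (B ⊔ Subgroup.zpowers x) →
      Reach Inv A (B ⊔ Subgroup.zpowers x)

theorem Reach.trans {P : Type*} [Group P] {Inv : Subgroup P → Prop} {A B C : Subgroup P}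
    (h1 : Reach Inv A B) (h2 : Reach Inv B C) : Reach Inv A C := by
  induction h2 with
  | refl => exact h1
  | step x _ hI ih => exact Reach.step x ih hI

theorem Reach.to_chain {P : Type*} [Group P] {Inv : Subgroup P → Prop} {A B : Subgroup P}
    (hA : Inv A) (h : Reach Inv A B) :
    ∃ (m : ℕ) (c : ℕ → Subgroup P), c 0 = A ∧ c m = B ∧ (∀ i, Inv (c i)) ∧
      ∀ i < m, ∃ x, c (i + 1) = c i ⊔ Subgroup.zpowers x := by
  induction h with
  | refl => exact ⟨0, fun _ => A, rfl, rfl, fun _ => hA, fun i hi => absurd hi (Nat.not_lt_zero i)⟩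
  | @step B x _ hI ih =>
    obtain ⟨m, c, h0, hm, hinv, hstep⟩ := ih
    refine ⟨m + 1, fun i => if i ≤ m then c i else B ⊔ Subgroup.zpowers x, ?_, ?_, fun i => ?_,
      fun i hi => ?_⟩
    · simp [h0]
    · simp
    · by_cases hi : i ≤ m
      · simp only [hi, if_true]; exact hinv i
      · simp only [hi, if_false]; exact hI
    · by_cases hi' : i < m
      · obtain ⟨y, hy⟩ := hstep i hi'
        refine ⟨y, ?_⟩
        have h1 : i + 1 ≤ m := hi'
        have h2 : i ≤ m := hi'.le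
        simp only [h1, h2, if_true]
        exact hy
      · have him : i = m := by omega
        subst him
        refine ⟨x, ?_⟩
        simp [hm]

section Abelian

variable {P : Type*} [CommGroup P] (p : ℕ)

/-- `℧^k(P)`: the `p^k`-th powers. -/
def agemo (P : Type*) [CommGroup P] (p k : ℕ) : Subgroup P := (powMonoidHom (p ^ k) : P →* P).range

/-- `Ω₁(P) ∩ ℧^k(P)`. -/
def uSub (P : Type*) [CommGroup P] (p k : ℕ) : Subgroup P :=
  (powMonoidHom p : P →* P).ker ⊓ agemo P p k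

/-- `{x | x^(p^(j+1)) = 1 ∧ x^(p^j) ∈ ℧^(j+k)(P)}`. -/
def eSub (P : Type*) [CommGroup P] (p j k : ℕ) : Subgroup P :=
  (powMonoidHom (p ^ (j + 1)) : P →* P).ker ⊓ (agemo P p (j + k)).comap (powMonoidHom (p ^ j))

theorem mem_agemo {k : ℕ} {x : P} : x ∈ agemo P p k ↔ ∃ w : P, w ^ (p ^ k) = x := by
  unfold agemo
  rw [MonoidHom.mem_range]
  rfl

theorem mem_uSub {k : ℕ} {x : P} : x ∈ uSub P p k ↔ x ^ p = 1 ∧ ∃ w : P, w ^ (p ^ k) = x := by
  unfold uSub
  rw [Subgroup.mem_inf, MonoidHom.mem_ker, mem_agemo]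
  rfl

theorem mem_eSub {j k : ℕ} {x : P} :
    x ∈ eSub P p j k ↔ x ^ (p ^ (j + 1)) = 1 ∧ ∃ w : P, w ^ (p ^ (j + k)) = x ^ (p ^ j) := by
  unfold eSub
  rw [Subgroup.mem_inf, MonoidHom.mem_ker, Subgroup.mem_comap, mem_agemo]
  rfl

/-- The invariants of `P` are pairwise distinct (intrinsic form). -/
def Dist (P : Type*) [CommGroup P] (p : ℕ) : Prop :=
  ∀ k : ℕ, ∃ x ∈ uSub P p k, uSub P p k ≤ uSub P p (k + 1) ⊔ Subgroup.zpowers x

/-- Functoriality of `uSub`. -/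
theorem map_mem_uSub {Q : Type*} [CommGroup Q] (f : P →* Q) {k : ℕ} {x : P}
    (hx : x ∈ uSub P p k) : f x ∈ uSub Q p k := by
  rw [mem_uSub] at hx ⊢
  obtain ⟨h1, w, hw⟩ := hx
  exact ⟨by rw [← map_pow, h1, map_one], f w, by rw [← map_pow, hw]⟩

theorem eSub_invariant (α : MulAut P) {j k : ℕ} {x : P} (hx : x ∈ eSub P p j k) :
    α x ∈ eSub P p j k := by
  rw [mem_eSub] at hx ⊢
  obtain ⟨h1, w, hw⟩ := hx
  exact ⟨by rw [← map_pow, h1, map_one], α w, by rw [← map_pow, hw, map_pow]⟩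

theorem eSub_succ_le (j k : ℕ) : eSub P p j (k + 1) ≤ eSub P p j k := by
  intro x hx
  rw [mem_eSub] at hx ⊢
  obtain ⟨h1, w, hw⟩ := hx
  refine ⟨h1, w ^ p, ?_⟩
  rw [← pow_mul, ← hw, ← pow_succ']
  congr 2

theorem eSub_zero (j : ℕ) : eSub P p j 0 = (powMonoidHom (p ^ (j + 1)) : P →* P).ker := by
  ext x
  rw [mem_eSub, MonoidHom.mem_ker]
  constructor
  · rintro ⟨h, -⟩; exact h
  · intro h; exact ⟨h, x, by rw [add_zero]⟩

theorem eSub_of_le {N : ℕ} (hN : ∀ x : P, x ^ (p ^ N) = 1) {j k : ℕ} (hjk : N ≤ j + k) :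
    eSub P p j k = (powMonoidHom (p ^ j) : P →* P).ker := by
  ext x
  rw [mem_eSub, MonoidHom.mem_ker]
  have hw : ∀ w : P, w ^ (p ^ (j + k)) = 1 := by
    intro w
    obtain ⟨d, hd⟩ := Nat.exists_eq_add_of_le hjk
    rw [hd, pow_add, pow_mul, hN, one_pow]
  constructor
  · rintro ⟨-, w, h⟩
    rw [hw] at h
    exact h.symm
  · intro h
    have h' : x ^ (p ^ j) = 1 := h
    refine ⟨by rw [pow_succ, pow_mul, h', one_pow], 1, ?_⟩
    rw [one_pow, h']

/-- The cyclic step. -/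
theorem eSub_step (hD : Dist P p) (j k : ℕ) :
    ∃ w : P, eSub P p j k = eSub P p j (k + 1) ⊔ Subgroup.zpowers w := by
  obtain ⟨u, hu, hle⟩ := hD (j + k)
  obtain ⟨hu1, w₀, hw₀⟩ := (mem_uSub p).mp hu
  have hwE : w₀ ^ (p ^ k) ∈ eSub P p j k := by
    rw [mem_eSub]
    have e1 : (w₀ ^ p ^ k) ^ p ^ j = u := by rw [← pow_mul, ← pow_add, add_comm, hw₀]
    refine ⟨by rw [pow_succ, pow_mul, e1, hu1], w₀, ?_⟩
    rw [e1, hw₀]
  refine ⟨w₀ ^ (p ^ k), le_antisymm ?_ (sup_le (eSub_succ_le p j k) (Subgroup.zpowers_le.mpr hwE))⟩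
  intro x hx
  obtain ⟨hx1, wx, hwx⟩ := (mem_eSub p).mp hx
  have hy : x ^ (p ^ j) ∈ uSub P p (j + k) := by
    rw [mem_uSub]
    exact ⟨by rw [← pow_mul, ← pow_succ, hx1], wx, hwx⟩
  obtain ⟨v, hv, z, hz, hvz⟩ := Subgroup.mem_sup.mp (hle hy)
  obtain ⟨l, rfl⟩ := Subgroup.mem_zpowers_iff.mp hz
  have e1 : (w₀ ^ p ^ k) ^ p ^ j = u := by rw [← pow_mul, ← pow_add, add_comm, hw₀]
  have hx' : x * ((w₀ ^ (p ^ k)) ^ l)⁻¹ ∈ eSub P p j (k + 1) := by
    obtain ⟨hv1, wv, hwv⟩ := (mem_uSub p).mp hv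
    have e2 : (x * ((w₀ ^ (p ^ k)) ^ l)⁻¹) ^ (p ^ j) = v := by
      rw [mul_pow, inv_pow, ← zpow_natCast ((w₀ ^ p ^ k) ^ l), ← zpow_mul, mul_comm l, zpow_mul,
        zpow_natCast, e1, ← hvz, mul_inv_cancel_right]
    rw [mem_eSub]
    refine ⟨by rw [pow_succ, pow_mul, e2, hv1], wv, ?_⟩
    rw [e2, ← hwv]
    congr 2
  have e3 : x = x * ((w₀ ^ (p ^ k)) ^ l)⁻¹ * (w₀ ^ (p ^ k)) ^ l := by group
  rw [e3]
  exact Subgroup.mul_mem _ (Subgroup.mem_sup_left hx')
    (Subgroup.mem_sup_right (Subgroup.zpow_mem_zpowers _ l))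

/-- Invariance under all automorphisms. -/
def CharInv (A : Subgroup P) : Prop := ∀ α : MulAut P, ∀ x ∈ A, α x ∈ A

theorem reach_row (hD : Dist P p) (j : ℕ) :
    ∀ k, Reach (CharInv (P := P)) (eSub P p j k) (eSub P p j 0) := by
  intro k
  induction k with
  | zero => exact Reach.refl _
  | succ k ih =>
    obtain ⟨w, hw⟩ := eSub_step p hD j k
    have hI : CharInv (eSub P p j (k + 1) ⊔ Subgroup.zpowers w) := by
      rw [← hw]
      exact fun α x hx => eSub_invariant p α hx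
    have h1 := Reach.step w (Reach.refl (eSub P p j (k + 1))) hI
    rw [← hw] at h1
    exact h1.trans ih

theorem reach_ker (hD : Dist P p) {N : ℕ} (hN : ∀ x : P, x ^ (p ^ N) = 1) :
    ∀ j, Reach (CharInv (P := P)) ⊥ (powMonoidHom (p ^ j) : P →* P).ker := by
  intro j
  induction j with
  | zero =>
    have : (powMonoidHom (p ^ 0) : P →* P).ker = ⊥ := by
      ext x
      rw [MonoidHom.mem_ker, Subgroup.mem_bot]
      simp
    rw [this]
    exact Reach.refl _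
  | succ j ih =>
    have h1 := reach_row p hD j N
    rw [eSub_of_le p hN (Nat.le_add_left N j), eSub_zero] at h1
    exact ih.trans h1

/-- A characteristic chain with cyclic steps, from distinct invariants. -/
theorem exists_char_chain (hD : Dist P p) {N : ℕ} (hN : ∀ x : P, x ^ (p ^ N) = 1) :
    ∃ (m : ℕ) (c : ℕ → Subgroup P), c 0 = ⊥ ∧ c m = ⊤ ∧
      (∀ i, ∀ α : MulAut P, ∀ x ∈ c i, α x ∈ c i) ∧
      ∀ i < m, ∃ x, c (i + 1) = c i ⊔ Subgroup.zpowers x := by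
  have h1 := reach_ker p hD hN N
  have htop : (powMonoidHom (p ^ N) : P →* P).ker = ⊤ := by
    ext x
    rw [MonoidHom.mem_ker]
    simpa using hN x
  rw [htop] at h1
  have hbot : CharInv (⊥ : Subgroup P) := by
    intro α x hx
    rw [Subgroup.mem_bot] at hx ⊢
    rw [hx, map_one]
  exact h1.to_chain hbot

end Abelian

end Cfsg.Agent.Lib.Helper7.Super
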