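import Mathlib
import Cfsg.Agent.Lib.Helper7.SuperF

set_option autoImplicit false

namespace Cfsg.Agent.Lib.Helper7.Super

/-- In a cyclic group of order `p ^ e` with `e ≠ k + 1`, `U_k ≤ U_{k+1}`. -/
theorem uSub_le_succ_of_cyclic {C : Type*} [CommGroup C] [IsCyclic C] {p : ℕ} [Fact p.Prime]
    {e : ℕ} (hcard : Nat.card C = p ^ e) {k : ℕ} (hek : e ≠ k + 1) :
    uSub C p k ≤ uSub C p (k + 1) := by
  have hp : p.Prime := Fact.out
  have hfin : Finite C := Nat.finite_of_card_ne_zero (by rw [hcard]; exact pow_ne_zero _ hp.ne_zero)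
  intro z hz
  obtain ⟨hz1, w, hw⟩ := (mem_uSub p).mp hz
  rcases Nat.lt_or_ge k e with hlt | hge
  · -- e ≥ k + 2
    obtain ⟨γ, hγ⟩ := IsCyclic.exists_generator (α := C)
    have hoγ : orderOf γ = p ^ e := by
      rw [← hcard]; exact orderOf_eq_card_of_forall_mem_zpowers hγ
    obtain ⟨a, ha⟩ := Subgroup.mem_zpowers_iff.mp (hγ w)
    have h1 : w ^ (p ^ (k + 1)) = 1 := by rw [pow_succ, pow_mul, hw, hz1]
    have h2 : γ ^ (a * ((p ^ (k + 1) : ℕ) : ℤ)) = 1 := by
      rw [zpow_mul, ha, zpow_natCast, h1]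
    have h3 : ((orderOf γ : ℕ) : ℤ) ∣ a * ((p ^ (k + 1) : ℕ) : ℤ) := orderOf_dvd_iff_zpow_eq_one.mpr h2
    obtain ⟨d, hd⟩ : ∃ d, e = k + 1 + (d + 1) := ⟨e - k - 2, by omega⟩
    rw [hoγ, hd] at h3
    have h4 : ((p : ℤ) ^ (d + 1)) ∣ a := by
      have h5 : ((p : ℤ) ^ (d + 1)) * ((p : ℤ) ^ (k + 1)) ∣ a * ((p : ℤ) ^ (k + 1)) := by
        have : (((p ^ (k + 1 + (d + 1)) : ℕ)) : ℤ) = ((p : ℤ) ^ (d + 1)) * ((p : ℤ) ^ (k + 1)) := by
          push_cast; ring
        rw [← this]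
        exact_mod_cast h3
      exact (mul_dvd_mul_iff_right (pow_ne_zero _ (by exact_mod_cast hp.ne_zero))).mp h5
    have h6 : (p : ℤ) ∣ a := (dvd_pow_self (p : ℤ) (Nat.succ_ne_zero d)).trans h4
    obtain ⟨b, hb⟩ := h6
    rw [mem_uSub]
    refine ⟨hz1, γ ^ b, ?_⟩
    rw [← hw, ← ha, hb, pow_succ, pow_mul, zpow_mul', zpow_natCast, ← pow_mul, ← pow_mul, mul_comm]
  · -- e ≤ k
    have hw1 : w ^ (p ^ k) = 1 := by
      obtain ⟨d, hd⟩ := Nat.exists_eq_add_of_le hge
      have : w ^ (p ^ e) = 1 := by rw [← hcard]; exact pow_card_eq_one'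
      rw [hd, pow_add, pow_mul, this, one_pow]
    rw [← hw, hw1]
    exact Subgroup.one_mem _

/-- In a cyclic group every `U_k` is cyclic. -/
theorem exists_gen_uSub_of_cyclic {C : Type*} [CommGroup C] [IsCyclic C] (p k : ℕ) :
    ∃ x ∈ uSub C p k, uSub C p k ≤ Subgroup.zpowers x := by
  have hc : IsCyclic ↥(uSub C p k) := inferInstance
  obtain ⟨g, hg⟩ := (Subgroup.isCyclic_iff_exists_zpowers_eq_top _).mp hc
  exact ⟨g, hg ▸ Subgroup.mem_zpowers g, hg.ge⟩

section Pi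

variable {ι : Type*} (C : ι → Type*) [∀ i, CommGroup (C i)] (p : ℕ)

theorem mem_uSub_pi {k : ℕ} {f : ∀ i, C i} :
    f ∈ uSub (∀ i, C i) p k ↔ ∀ i, f i ∈ uSub (C i) p k := by
  constructor
  · intro hf i
    exact map_mem_uSub p (Pi.evalMonoidHom C i) hf
  · intro hf
    have h1 : ∀ i, (f i) ^ p = 1 := fun i => ((mem_uSub p).mp (hf i)).1
    have h2 : ∀ i, ∃ w : C i, w ^ (p ^ k) = f i := fun i => ((mem_uSub p).mp (hf i)).2
    choose w hw using h2
    rw [mem_uSub]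
    refine ⟨funext fun i => ?_, w, funext fun i => ?_⟩
    · rw [Pi.pow_apply, h1 i]; rfl
    · rw [Pi.pow_apply, hw i]

/-- If each factor has cyclic `U_k` and at most one factor has `U_k ≰ U_{k+1}`, the product has a
cyclic step from `U_{k+1}` to `U_k`. -/
theorem exists_step_pi [DecidableEq ι] {k : ℕ}
    (hcyc : ∀ i, ∃ x ∈ uSub (C i) p k, uSub (C i) p k ≤ Subgroup.zpowers x)
    (hbad : ∀ i j, i ≠ j → ¬ (uSub (C i) p k ≤ uSub (C i) p (k + 1)) →
      uSub (C j) p k ≤ uSub (C j) p (k + 1)) :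
    ∃ x ∈ uSub (∀ i, C i) p k,
      uSub (∀ i, C i) p k ≤ uSub (∀ i, C i) p (k + 1) ⊔ Subgroup.zpowers x := by
  by_cases hex : ∃ i₀, ¬ (uSub (C i₀) p k ≤ uSub (C i₀) p (k + 1))
  · obtain ⟨i₀, hi₀⟩ := hex
    obtain ⟨x₀, hx₀, hgen⟩ := hcyc i₀
    refine ⟨Pi.mulSingle i₀ x₀, ?_, fun f hf => ?_⟩
    · rw [mem_uSub_pi]
      intro i
      by_cases hi : i = i₀
      · subst hi; rw [Pi.mulSingle_eq_same]; exact hx₀
      · rw [Pi.mulSingle_eq_of_ne hi]; exact Subgroup.one_mem _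
    · have hfi := (mem_uSub_pi C p).mp hf
      obtain ⟨l, hl⟩ := Subgroup.mem_zpowers_iff.mp (hgen (hfi i₀))
      have e : f = f * ((Pi.mulSingle i₀ x₀ : ∀ i, C i) ^ l)⁻¹ * (Pi.mulSingle i₀ x₀ : ∀ i, C i) ^ l := by
        group
      rw [e]
      refine Subgroup.mul_mem _ (Subgroup.mem_sup_left ?_)
        (Subgroup.mem_sup_right (Subgroup.zpow_mem_zpowers _ l))
      rw [mem_uSub_pi]
      intro i
      by_cases hi : i = i₀
      · subst hi
        rw [Pi.mul_apply, Pi.inv_apply, Pi.pow_apply, Pi.mulSingle_eq_same, hl, mul_inv_cancel]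
        exact Subgroup.one_mem _
      · rw [Pi.mul_apply, Pi.inv_apply, Pi.pow_apply, Pi.mulSingle_eq_of_ne hi, one_zpow, inv_one,
          mul_one]
        exact hbad i₀ i (Ne.symm hi) hi₀ (hfi i)
  · push Not at hex
    refine ⟨1, Subgroup.one_mem _, fun f hf => Subgroup.mem_sup_left ?_⟩
    rw [mem_uSub_pi] at hf ⊢
    exact fun i => hex i (hf i)

end Pi

/-- Splitting off two coordinates of a product. -/
theorem pi_split_two {ι : Type} [DecidableEq ι] (C : ι → Type) [∀ i, CommGroup (C i)] (i j : ι)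
    (hij : i ≠ j) : ∃ (H : Type) (_ : CommGroup H), Nonempty ((∀ k, C k) ≃* (C i × C j) × H) := by
  let e₁ : (∀ k, C k) ≃* C i × (∀ k : {k // k ≠ i}, C k) :=
    { Equiv.piSplitAt i C with map_mul' := fun _ _ => rfl }
  let j' : {k // k ≠ i} := ⟨j, hij.symm⟩
  let e₂ : (∀ k : {k // k ≠ i}, C k) ≃* C j × (∀ k : {k : {k // k ≠ i} // k ≠ j'}, C k.1.1) :=
    { Equiv.piSplitAt j' (fun k : {k // k ≠ i} => C k.1) with map_mul' := fun _ _ => rfl }
  exact ⟨∀ k : {k : {k // k ≠ i} // k ≠ j'}, C k.1.1, inferInstance,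
    ⟨(e₁.trans ((MulEquiv.refl (C i)).prodCongr e₂)).trans MulEquiv.prodAssoc.symm⟩⟩

/-- A finite abelian `p`-group either has pairwise distinct invariants or splits off a homocyclic
group of rank two. -/
theorem dist_or_split (P : Type*) [CommGroup P] [Finite P] (p : ℕ) [Fact p.Prime]
    (hP : IsPGroup p P) :
    Dist P p ∨ ∃ (n : ℕ) (H : Type) (_ : CommGroup H), 0 < n ∧
      Nonempty (P ≃* (Multiplicative (ZMod (p ^ n)) × Multiplicative (ZMod (p ^ n))) × H) := by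
  classical
  have hp : p.Prime := Fact.out
  obtain ⟨ι, hι, n, hn1, ⟨e⟩⟩ := CommGroup.equiv_prod_multiplicative_zmod_of_finite P
  obtain ⟨N, hN⟩ := IsPGroup.iff_card.mp hP
  have hne : ∀ i, NeZero (n i) := fun i => ⟨by have := hn1 i; omega⟩
  have hcardC : ∀ i, Nat.card (Multiplicative (ZMod (n i))) = n i := fun i => by
    show Nat.card (ZMod (n i)) = n i
    exact Nat.card_zmod (n i)
  have hdvd : ∀ i, n i ∣ p ^ N := by
    intro i
    rw [← hN, ← hcardC i, Nat.card_congr e.toEquiv]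
    exact Subgroup.card_dvd_of_injective (MonoidHom.mulSingle (fun i => Multiplicative (ZMod (n i))) i)
      (Pi.mulSingle_injective (M := fun i => Multiplicative (ZMod (n i))) i)
  have hex : ∀ i, ∃ ex, n i = p ^ ex := fun i => by
    obtain ⟨ex, -, h⟩ := (Nat.dvd_prime_pow hp).mp (hdvd i)
    exact ⟨ex, h⟩
  choose ex hexe using hex
  by_cases hinj : ∀ i j, i ≠ j → n i ≠ n j
  · left
    intro k
    obtain ⟨xq, hxq, hleq⟩ := exists_step_pi (fun i => Multiplicative (ZMod (n i))) p (k := k)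
      (fun i => exists_gen_uSub_of_cyclic p k)
      (by
        intro i j hij hbad
        have hi : ex i = k + 1 := by
          by_contra hne'
          exact hbad (uSub_le_succ_of_cyclic (by rw [hcardC, hexe]) hne')
        have hj : ex j ≠ k + 1 := by
          intro hj
          exact hinj i j hij (by rw [hexe i, hexe j, hi, hj])
        exact uSub_le_succ_of_cyclic (by rw [hcardC, hexe]) hj)
    refine ⟨e.symm xq, map_mem_uSub p e.symm.toMonoidHom hxq, fun y hy => ?_⟩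
    have hy' : e y ∈ uSub _ p k := map_mem_uSub p e.toMonoidHom hy
    obtain ⟨v, hv, z, hz, hvz⟩ := Subgroup.mem_sup.mp (hleq hy')
    obtain ⟨l, rfl⟩ := Subgroup.mem_zpowers_iff.mp hz
    have e1 : y = e.symm v * (e.symm xq) ^ l := by
      rw [← map_zpow, ← map_mul, hvz, MulEquiv.symm_apply_apply]
    rw [e1]
    exact Subgroup.mul_mem _ (Subgroup.mem_sup_left (map_mem_uSub p e.symm.toMonoidHom hv))
      (Subgroup.mem_sup_right (Subgroup.zpow_mem_zpowers _ l))
  · right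
    push Not at hinj
    obtain ⟨i, j, hij, hnij⟩ := hinj
    obtain ⟨H, instH, ⟨f⟩⟩ := pi_split_two (fun i => Multiplicative (ZMod (n i))) i j hij
    have hpos : 0 < ex i := by
      rcases Nat.eq_zero_or_pos (ex i) with h0 | h0
      · have := hn1 i
        rw [hexe i, h0, pow_zero] at this
        omega
      · exact h0
    have hi : n i = p ^ ex i := hexe i
    have hj : n j = p ^ ex i := by rw [← hnij, hi]
    let ci : Multiplicative (ZMod (n i)) ≃* Multiplicative (ZMod (p ^ ex i)) :=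
      AddEquiv.toMultiplicative (ZMod.ringEquivCongr hi).toAddEquiv
    let cj : Multiplicative (ZMod (n j)) ≃* Multiplicative (ZMod (p ^ ex i)) :=
      AddEquiv.toMultiplicative (ZMod.ringEquivCongr hj).toAddEquiv
    exact ⟨ex i, H, instH, hpos,
      ⟨(e.trans f).trans ((ci.prodCongr cj).prodCongr (MulEquiv.refl H))⟩⟩

end Cfsg.Agent.Lib.Helper7.Super
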