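import Mathlib

set_option autoImplicit false

namespace Cfsg.Agent.Lib.Helper7.Super

section Witness

variable (M : Type*) [CommGroup M]

theorem zpow_unit_unit (u : ℤˣ) (a : M) : (a ^ (u : ℤ)) ^ (u : ℤ) = a := by
  rw [← zpow_mul, ← Units.val_mul, Int.units_mul_self, Units.val_one, zpow_one]

/-- Diagonal automorphism `(a, b) ↦ (a^u, b^v)`. -/
def diagAut (u v : ℤˣ) : MulAut (M × M) where
  toFun x := (x.1 ^ (u : ℤ), x.2 ^ (v : ℤ))
  invFun x := (x.1 ^ (u : ℤ), x.2 ^ (v : ℤ))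
  left_inv x := Prod.ext (zpow_unit_unit M u x.1) (zpow_unit_unit M v x.2)
  right_inv x := Prod.ext (zpow_unit_unit M u x.1) (zpow_unit_unit M v x.2)
  map_mul' x y := Prod.ext (mul_zpow x.1 y.1 _) (mul_zpow x.2 y.2 _)

/-- Diagonal automorphisms `(a, b) ↦ (a^u, b^v)`. -/
def diagHom : ℤˣ × ℤˣ →* MulAut (M × M) where
  toFun u := diagAut M u.1 u.2
  map_one' := by
    ext ⟨a, b⟩
    · show a ^ ((1 : ℤˣ) : ℤ) = a
      simp
    · show b ^ ((1 : ℤˣ) : ℤ) = b
      simp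
  map_mul' u v := by
    ext ⟨a, b⟩
    · show a ^ ((u.1 * v.1 : ℤˣ) : ℤ) = (a ^ (v.1 : ℤ)) ^ (u.1 : ℤ)
      rw [Units.val_mul, mul_comm, zpow_mul]
    · show b ^ ((u.2 * v.2 : ℤˣ) : ℤ) = (b ^ (v.2 : ℤ)) ^ (u.2 : ℤ)
      rw [Units.val_mul, mul_comm, zpow_mul]

theorem diagHom_apply (u : ℤˣ × ℤˣ) (x : M × M) :
    diagHom M u x = (x.1 ^ (u.1 : ℤ), x.2 ^ (u.2 : ℤ)) := rfl

/-- The swap. -/
def swapAut : MulAut (M × M) := MulEquiv.prodComm

theorem swapAut_apply (x : M × M) : swapAut M x = (x.2, x.1) := rfl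

theorem swapAut_mul_self : swapAut M * swapAut M = 1 := by
  ext ⟨a, b⟩ <;> rfl

theorem swapAut_inv : (swapAut M)⁻¹ = swapAut M :=
  inv_eq_of_mul_eq_one_right (swapAut_mul_self M)

theorem swap_conj_diag (u : ℤˣ × ℤˣ) :
    swapAut M * diagHom M u * (swapAut M)⁻¹ = diagHom M u.swap := by
  rw [swapAut_inv]
  ext ⟨a, b⟩ <;> rfl

/-- A nonabelian `2`-group of automorphisms of `M × M`, when `M` has an element with `g² ≠ 1`. -/
theorem exists_nonabelian_two_group {g : M} (hg : g ^ 2 ≠ 1) :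
    ∃ K : Subgroup (MulAut (M × M)), IsPGroup 2 K ∧ ∃ a ∈ K, ∃ b ∈ K, a * b ≠ b * a := by
  set D := (diagHom M).range with hD
  set Z := Subgroup.zpowers (swapAut M) with hZ
  have hDp : IsPGroup 2 D := by
    rintro ⟨_, u, rfl⟩
    refine ⟨1, Subtype.ext ?_⟩
    show (diagHom M u) ^ (2 ^ 1) = 1
    rw [pow_one, ← map_pow]
    have : u ^ 2 = 1 := by
      rw [pow_two]
      exact Prod.ext (Int.units_mul_self _) (Int.units_mul_self _)
    rw [this, map_one]
  have hZp : IsPGroup 2 Z := by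
    rintro ⟨_, i, rfl⟩
    refine ⟨1, Subtype.ext ?_⟩
    show ((swapAut M) ^ i) ^ (2 ^ 1) = 1
    rw [pow_one, ← zpow_natCast, ← zpow_mul, mul_comm, zpow_mul, zpow_natCast, pow_two,
      swapAut_mul_self, one_zpow]
  have hnorm : Z ≤ Subgroup.normalizer D := by
    rw [hZ, Subgroup.zpowers_le, Subgroup.mem_normalizer_iff]
    intro h
    constructor
    · rintro ⟨u, rfl⟩
      exact ⟨u.swap, (swap_conj_diag M u).symm⟩
    · rintro ⟨u, hu⟩
      refine ⟨u.swap, ?_⟩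
      have h1 : h = (swapAut M)⁻¹ * (swapAut M * h * (swapAut M)⁻¹) * swapAut M := by group
      rw [h1, ← hu]
      have h2 := swap_conj_diag M u
      rw [swapAut_inv] at h2 ⊢
      exact h2.symm
  refine ⟨Z ⊔ D, hZp.to_sup_of_normal_right' hDp hnorm, swapAut M,
    Subgroup.mem_sup_left (Subgroup.mem_zpowers _), diagHom M (-1, 1),
    Subgroup.mem_sup_right ⟨_, rfl⟩, fun heq => ?_⟩
  have h1 := DFunLike.congr_fun heq (g, 1)
  rw [MulAut.mul_apply, MulAut.mul_apply, diagHom_apply, swapAut_apply, swapAut_apply,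
    diagHom_apply] at h1
  simp only [Units.val_neg, Units.val_one, zpow_neg, zpow_one, inv_one, Prod.mk.injEq,
    true_and] at h1
  apply hg
  rw [pow_two]
  nth_rewrite 1 [← h1]
  exact inv_mul_cancel g

/-- An automorphism of order dividing `3` of `M × M`. -/
def tauAut : MulAut (M × M) where
  toFun x := (x.2, x.1⁻¹ * x.2⁻¹)
  invFun x := (x.1⁻¹ * x.2⁻¹, x.1)
  left_inv x := by
    ext <;> simp
  right_inv x := by
    ext <;> simp
  map_mul' x y := by
    ext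
    · simp
    · simp only [Prod.fst_mul, Prod.snd_mul, mul_inv]
      exact mul_mul_mul_comm _ _ _ _

theorem tauAut_apply (x : M × M) : tauAut M x = (x.2, x.1⁻¹ * x.2⁻¹) := rfl

theorem tauAut_pow_three : (tauAut M) ^ 3 = 1 := by
  ext ⟨a, b⟩
  · simp [pow_succ, tauAut_apply]
  · simp [pow_succ, tauAut_apply]

theorem tauAut_ne_one {g : M} (hg : g ≠ 1) : tauAut M ≠ 1 := by
  intro h
  have h1 := DFunLike.congr_fun h (g, 1)
  rw [tauAut_apply, MulAut.one_apply] at h1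
  exact hg (Prod.mk.inj h1).1.symm

end Witness

end Cfsg.Agent.Lib.Helper7.Super
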