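import Mathlib
import Cfsg.Prelude.Def_FusionSystem
import Cfsg.Agent.Lib.Helper7.SuperE
import Cfsg.Agent.Lib.Helper7.SuperG
import Cfsg.Agent.Lib.Helper7.SuperH
import Cfsg.Agent.Lib.Helper7.FusionCore2

set_option autoImplicit false

namespace Cfsg.Agent.Lib.Helper7.Super

open Cfsg Cfsg.FusionSystem Cfsg.Agent.Lib.Helper7

/-- Transport of automorphisms of a direct factor. -/
def liftAut {T A H : Type*} [Group T] [Group A] [Group H] (e : T ≃* A × H) :
    MulAut A →* MulAut T where
  toFun α := e.trans ((α.prodCongr (MulEquiv.refl H)).trans e.symm)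
  map_one' := by
    ext x
    show e.symm ((1 : MulAut A) (e x).1, (e x).2) = x
    rw [MulAut.one_apply, Prod.mk.eta, MulEquiv.symm_apply_apply]
  map_mul' α β := by
    ext x
    show e.symm ((α * β) (e x).1, (e x).2) =
      e.symm (α (e (e.symm (β (e x).1, (e x).2))).1, (e (e.symm (β (e x).1, (e x).2))).2)
    rw [MulEquiv.apply_symm_apply]
    rfl

theorem liftAut_apply {T A H : Type*} [Group T] [Group A] [Group H] (e : T ≃* A × H)
    (α : MulAut A) (x : T) : liftAut e α x = e.symm (α (e x).1, (e x).2) := rfl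

theorem liftAut_injective {T A H : Type*} [Group T] [Group A] [Group H] (e : T ≃* A × H) :
    Function.Injective (liftAut e) := by
  intro α β h
  ext a
  have h1 := DFunLike.congr_fun h (e.symm (a, 1))
  rw [liftAut_apply, liftAut_apply, MulEquiv.apply_symm_apply] at h1
  exact (Prod.mk.inj (e.symm.injective h1)).1

variable {Ω : Type*} [Group Ω] {S : Subgroup Ω}

/-- Forward direction of the abelian criterion. -/
theorem not_split_of_cond [Finite S] (p : ℕ) [Fact p.Prime]
    (hcond : ∀ K : Subgroup (MulAut ↥S), (Nat.card ↥K).Coprime p →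
      IsMulCommutative ↥K ∧ ∀ h ∈ K, h ^ (p - 1) = 1) :
    ¬ ∃ (n : ℕ) (H : Type) (_ : CommGroup H), 0 < n ∧
      Nonempty (↥S ≃* (Multiplicative (ZMod (p ^ n)) × Multiplicative (ZMod (p ^ n))) × H) := by
  rintro ⟨n, H, instH, hn, ⟨e⟩⟩
  have hp : p.Prime := Fact.out
  have hfinA : Finite (MulAut S) := Finite.of_injective (fun f : MulAut S => (f : S → S))
    (fun f g h => MulEquiv.ext (congrFun h))
  set g : Multiplicative (ZMod (p ^ n)) := Multiplicative.ofAdd 1 with hg
  have hpn : 2 ≤ p ^ n := by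
    calc 2 ≤ p := hp.two_le
      _ = p ^ 1 := (pow_one p).symm
      _ ≤ p ^ n := Nat.pow_le_pow_right hp.pos hn
  rcases hp.eq_two_or_odd' with h2 | hodd
  · -- p = 2
    have hg1 : g ≠ 1 := by
      intro h
      have h1 : ((1 : ℕ) : ZMod (p ^ n)) = 0 := by
        have := congrArg Multiplicative.toAdd h
        simpa [hg] using this
      rw [ZMod.natCast_eq_zero_iff] at h1
      have := Nat.le_of_dvd one_pos h1
      omega
    set τ := liftAut e (tauAut (Multiplicative (ZMod (p ^ n)))) with hτ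
    have hτ3 : τ ^ 3 = 1 := by rw [hτ, ← map_pow, tauAut_pow_three, map_one]
    have hcop : (Nat.card ↥(Subgroup.zpowers τ)).Coprime p := by
      rw [Nat.card_zpowers, h2]
      have hdvd : orderOf τ ∣ 3 := orderOf_dvd_of_pow_eq_one hτ3
      exact Nat.Coprime.coprime_dvd_left hdvd (by norm_num)
    have h1 := (hcond _ hcop).2 τ (Subgroup.mem_zpowers τ)
    rw [h2, show 2 - 1 = 1 from rfl, pow_one] at h1
    have h3 : tauAut (Multiplicative (ZMod (p ^ n))) = 1 := by
      apply liftAut_injective e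
      rw [map_one]; exact h1
    exact tauAut_ne_one _ hg1 h3
  · -- p odd
    have hp3 : 3 ≤ p := by
      rcases hodd with ⟨k, hk⟩
      have := hp.two_le
      omega
    have hpn3 : 3 ≤ p ^ n := by
      calc 3 ≤ p := hp3
        _ = p ^ 1 := (pow_one p).symm
        _ ≤ p ^ n := Nat.pow_le_pow_right hp.pos hn
    have hg2 : g ^ 2 ≠ 1 := by
      intro h
      have h1 : ((2 : ℕ) : ZMod (p ^ n)) = 0 := by
        have := congrArg Multiplicative.toAdd h
        simpa [hg, one_add_one_eq_two] using this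
      rw [ZMod.natCast_eq_zero_iff] at h1
      have := Nat.le_of_dvd two_pos h1
      omega
    obtain ⟨K, hK2, a, ha, b, hb, hne⟩ := exists_nonabelian_two_group _ hg2
    have hK' : IsPGroup 2 ↥(K.map (liftAut e)) := hK2.map _
    obtain ⟨m, hm⟩ := IsPGroup.iff_card.mp hK'
    have hcop : (Nat.card ↥(K.map (liftAut e))).Coprime p := by
      rw [hm]
      apply Nat.Coprime.pow_left
      rw [Nat.coprime_primes Nat.prime_two hp]
      omega
    have hc := (hcond _ hcop).1
    have h1 := hc.is_comm.comm ⟨liftAut e a, ⟨a, ha, rfl⟩⟩ ⟨liftAut e b, ⟨b, hb, rfl⟩⟩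
    have h2 : liftAut e a * liftAut e b = liftAut e b * liftAut e a := congrArg Subtype.val h1
    rw [← map_mul, ← map_mul] at h2
    exact hne (liftAut_injective e h2)

/-- Packaging an `Aut_F(S)`-invariant chain in `↥S` as a chain of strongly closed subgroups. -/
theorem fin_chain_of_chain [Finite S] (F : FusionSystem S) (hN : F.IsNormal S) {m : ℕ}
    {c : ℕ → Subgroup ↥S} (h0 : c 0 = ⊥) (hm : c m = ⊤)
    (hA : ∀ i, ∀ α ∈ F.autGroup S, ∀ x ∈ c i, α x ∈ c i)
    (hstep : ∀ i < m, ∃ x, c (i + 1) = c i ⊔ Subgroup.zpowers x) :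
    ∃ (m : ℕ) (c : Fin (m + 1) → Subgroup Ω), c 0 = ⊥ ∧ c (Fin.last m) = S ∧
      (∀ i : Fin (m + 1), F.StronglyClosed (c i)) ∧
      ∀ i : Fin m, c i.castSucc ≤ c i.succ ∧
        ∃ x ∈ S, c i.succ = c i.castSucc ⊔ Subgroup.zpowers x := by
  refine ⟨m, fun i => (c i.val).map S.subtype, ?_, ?_, fun i => ?_, fun i => ⟨?_, ?_⟩⟩
  · show (c 0).map S.subtype = ⊥
    rw [h0, Subgroup.map_bot]
  · show (c m).map S.subtype = S
    rw [hm, ← MonoidHom.range_eq_map, Subgroup.range_subtype]
  · exact stronglyClosed_of_invariant F hN (c i.val) (hA i.val)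
  · obtain ⟨x, hx⟩ := hstep i.val i.2
    show (c i.val).map S.subtype ≤ (c (i.val + 1)).map S.subtype
    rw [hx]
    exact Subgroup.map_mono le_sup_left
  · obtain ⟨x, hx⟩ := hstep i.val i.2
    refine ⟨x.1, x.2, ?_⟩
    show (c (i.val + 1)).map S.subtype = (c i.val).map S.subtype ⊔ _
    rw [hx, Subgroup.map_sup, MonoidHom.map_zpowers]
    rfl

/-- The abelian criterion. -/
theorem abelian_supersoluble_iff [Finite S] (p : ℕ) [Fact p.Prime] (hS : IsPGroup p ↥S)
    (hab : IsMulCommutative ↥S) :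
    (∀ F : FusionSystem S, F.IsSaturated p →
      ∃ (m : ℕ) (c : Fin (m + 1) → Subgroup Ω), c 0 = ⊥ ∧ c (Fin.last m) = S ∧
        (∀ i : Fin (m + 1), F.StronglyClosed (c i)) ∧
        ∀ i : Fin m, c i.castSucc ≤ c i.succ ∧
          ∃ x ∈ S, c i.succ = c i.castSucc ⊔ Subgroup.zpowers x) ↔
      ¬ ∃ (n : ℕ) (H : Type) (_ : CommGroup H), 0 < n ∧
        Nonempty (↥S ≃* (Multiplicative (ZMod (p ^ n)) × Multiplicative (ZMod (p ^ n))) × H) := by
  constructor
  · intro hyp
    exact not_split_of_cond p (resistant_of_supersoluble p hS hyp).2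
  · intro hns F hF
    let instC : CommGroup ↥S := { (inferInstance : Group ↥S) with mul_comm := hab.is_comm.comm }
    rcases dist_or_split ↥S p hS with hD | hsplit
    · obtain ⟨N, hN⟩ := IsPGroup.iff_card.mp hS
      have hexp : ∀ x : ↥S, x ^ (p ^ N) = 1 := fun x => by rw [← hN]; exact pow_card_eq_one'
      obtain ⟨m, c, h0, hm, hinv, hstep⟩ := exists_char_chain p hD hexp
      have hScl : F.StronglyClosed S := ⟨le_rfl, fun R _ φ hφ x => (F.le_of_mem hφ).2 x⟩
      have hNrm : F.IsNormal S := isNormal_of_abelian_stronglyClosed p hS F hF hab hScl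
      exact fin_chain_of_chain F hNrm h0 hm (fun i α _ x hx => hinv i α x hx) hstep
    · exact absurd hsplit hns

end Cfsg.Agent.Lib.Helper7.Super
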