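import Mathlib

set_option autoImplicit false

namespace Cfsg.Agent.Lib.Helper7.Suz2

open scoped commutatorElement

section CA
variable {P : Type*} [Group P] {K : Type*} [CommGroup K] (φ : K →* MulAut P)

/-- the regularity hypothesis on involutions -/
def Reg : Prop :=
  ∀ x y : P, x ≠ 1 → x * x = 1 → y ≠ 1 → y * y = 1 → ∃! k : K, φ k x = y

variable {φ}

/-- `K ∪ {0}` is closed under addition on the elements of exponent two -/
theorem add_closed (hReg : Reg φ) (hcentral : ∀ x : P, x * x = 1 → x ∈ Subgroup.center P)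
    (c d : K) :
    (∃ k : K, ∀ t : P, t * t = 1 → φ c t * φ d t = φ k t) ∨
      (∀ t : P, t * t = 1 → φ c t * φ d t = 1) := by
  by_cases hE : ∃ e₀ : P, e₀ ≠ 1 ∧ e₀ * e₀ = 1
  · obtain ⟨e₀, he1, he2⟩ := hE
    have hsq : ∀ (k : K) (t : P), t * t = 1 → φ k t * φ k t = 1 := by
      intro k t ht
      rw [← map_mul, ht, map_one]
    have hne : ∀ (k : K) (t : P), t ≠ 1 → φ k t ≠ 1 := by
      intro k t ht h
      apply ht
      have := (φ k).injective (h.trans (map_one (φ k)).symm)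
      exact this
    by_cases hs : φ c e₀ * φ d e₀ = 1
    · -- c = d
      right
      have h1 : φ c e₀ = φ d e₀ := by
        have h2 := hsq d e₀ he2
        have : φ c e₀ * φ d e₀ = φ d e₀ * φ d e₀ := by rw [hs, h2]
        exact mul_right_cancel this
      have hcd : c = d := by
        obtain ⟨k, -, hk⟩ := hReg e₀ (φ d e₀) he1 he2 (hne d e₀ he1) (hsq d e₀ he2)
        rw [hk c h1, hk d rfl]
      intro t ht
      rw [hcd]; exact hsq d t ht
    · left
      have hs2 : (φ c e₀ * φ d e₀) * (φ c e₀ * φ d e₀) = 1 := by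
        have hc1 : φ c e₀ ∈ Subgroup.center P := hcentral _ (hsq c e₀ he2)
        have hcomm : φ d e₀ * φ c e₀ = φ c e₀ * φ d e₀ := (Subgroup.mem_center_iff.mp hc1 _)
        calc (φ c e₀ * φ d e₀) * (φ c e₀ * φ d e₀)
            = φ c e₀ * (φ d e₀ * φ c e₀) * φ d e₀ := by group
          _ = φ c e₀ * (φ c e₀ * φ d e₀) * φ d e₀ := by rw [hcomm]
          _ = (φ c e₀ * φ c e₀) * (φ d e₀ * φ d e₀) := by group
          _ = 1 := by rw [hsq c e₀ he2, hsq d e₀ he2, one_mul]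
      obtain ⟨k, hk, -⟩ := hReg e₀ _ he1 he2 hs hs2
      refine ⟨k, ?_⟩
      intro t ht
      by_cases ht1 : t = 1
      · rw [ht1, map_one, map_one, map_one, one_mul]
      · obtain ⟨m, hm, -⟩ := hReg e₀ t he1 he2 ht1 ht
        have hcm : ∀ a : K, φ a t = φ m (φ a e₀) := by
          intro a
          rw [← hm, ← MulAut.mul_apply, ← MulAut.mul_apply, ← map_mul, ← map_mul, mul_comm]
        rw [hcm c, hcm d, hcm k, ← map_mul, hk]
  · right
    intro t ht
    have : t = 1 := by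
      by_contra h
      exact hE ⟨t, h, ht⟩
    rw [this, map_one, map_one, one_mul]

theorem exists_sq_of_odd (hodd : Odd (Nat.card K)) (a : K) : ∃ c : K, c * c = a := by
  obtain ⟨m, hm⟩ := hodd
  refine ⟨a ^ (m + 1), ?_⟩
  rw [← pow_add]
  have : m + 1 + (m + 1) = Nat.card K + 1 := by omega
  rw [this, pow_succ, pow_card_eq_one', one_mul]

/-- the key commutativity criterion -/
theorem comm_of_sigma (hReg : Reg φ) (hcentral : ∀ x : P, x * x = 1 → x ∈ Subgroup.center P)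
    (hcomm2 : ∀ x y : P, ⁅x, y⁆ * ⁅x, y⁆ = 1) (σ : P →* P)
    (hσ2 : ∀ x : P, σ x * σ x = 1) (hσker : ∀ x : P, σ x = 1 → x ∈ Subgroup.center P)
    (hσeq : ∀ (k : K) (x : P), σ (φ k x) = φ k (σ x)) (hKodd : Odd (Nat.card K)) :
    ∀ x y : P, x * y = y * x := by
  have hBc : ∀ x y : P, ⁅x, y⁆ ∈ Subgroup.center P := fun x y => hcentral _ (hcomm2 x y)
  have hcz : ∀ {z : P}, z ∈ Subgroup.center P → ∀ g : P, g * z = z * g :=
    fun hz g => Subgroup.mem_center_iff.mp hz g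
  have hBmulL : ∀ x x' y : P, ⁅x * x', y⁆ = ⁅x, y⁆ * ⁅x', y⁆ := by
    intro x x' y
    have h1 : ⁅x * x', y⁆ = x * ⁅x', y⁆ * x⁻¹ * ⁅x, y⁆ := by
      simp only [commutatorElement_def]; group
    rw [h1, hcz (hBc x' y) x, mul_inv_cancel_right, hcz (hBc x' y)]
  have hBmulR : ∀ x y y' : P, ⁅x, y * y'⁆ = ⁅x, y⁆ * ⁅x, y'⁆ := by
    intro x y y'
    have h1 : ⁅x, y * y'⁆ = ⁅x, y⁆ * (y * ⁅x, y'⁆ * y⁻¹) := by
      simp only [commutatorElement_def]; group
    rw [h1, hcz (hBc x y') y, mul_inv_cancel_right]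
  have hBzR : ∀ (x : P) {z : P}, z ∈ Subgroup.center P → ⁅x, z⁆ = 1 := by
    intro x z hz
    rw [commutatorElement_eq_one_iff_commute]
    exact (hcz hz x)
  have hBzL : ∀ (x : P) {z : P}, z ∈ Subgroup.center P → ⁅z, x⁆ = 1 := by
    intro x z hz
    rw [commutatorElement_eq_one_iff_commute]
    exact (hcz hz x).symm
  have hBeq : ∀ (k : K) (x y : P), φ k ⁅x, y⁆ = ⁅φ k x, φ k y⁆ := fun k x y =>
    map_commutatorElement (φ k) x y
  have hinv : ∀ {a b : P}, a * b = 1 → b * b = 1 → a = b := by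
    intro a b h1 h2
    have : a * b = b * b := by rw [h1, h2]
    exact mul_right_cancel this
  -- key 2
  have key2 : ∀ (c d : K) (x y : P), ⁅φ c x, φ d y⁆ = ⁅φ d x, φ c y⁆ := by
    intro c d x y
    have hexp : ⁅φ c x * φ d x, φ c y * φ d y⁆ =
        (⁅φ c x, φ c y⁆ * ⁅φ d x, φ d y⁆) * (⁅φ c x, φ d y⁆ * ⁅φ d x, φ c y⁆) := by
      rw [hBmulL, hBmulR, hBmulR]
      have e1 := hcz (hBc (φ d x) (φ c y))
      have e2 := hcz (hBc (φ d x) (φ d y))
      have e3 := hcz (hBc (φ c x) (φ d y))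
      calc ⁅φ c x, φ c y⁆ * ⁅φ c x, φ d y⁆ * (⁅φ d x, φ c y⁆ * ⁅φ d x, φ d y⁆)
          = ⁅φ c x, φ c y⁆ * ⁅φ c x, φ d y⁆ * (⁅φ d x, φ d y⁆ * ⁅φ d x, φ c y⁆) := by rw [e1]
        _ = ⁅φ c x, φ c y⁆ * ((⁅φ c x, φ d y⁆ * ⁅φ d x, φ d y⁆) * ⁅φ d x, φ c y⁆) := by group
        _ = ⁅φ c x, φ c y⁆ * ((⁅φ d x, φ d y⁆ * ⁅φ c x, φ d y⁆) * ⁅φ d x, φ c y⁆) := by rw [e2]
        _ = _ := by group
    apply hinv _ (hcomm2 _ _)
    rcases add_closed hReg hcentral c d with ⟨k, hk⟩ | h0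
    · -- X ≡ φ k x mod center
      have hX : ∀ u : P, ∃ z ∈ Subgroup.center P, φ c u * φ d u = z * φ k u := by
        intro u
        refine ⟨φ c u * φ d u * (φ k u)⁻¹, ?_, by group⟩
        apply hσker
        rw [map_mul, map_mul, map_inv, hσeq, hσeq, hσeq, hk _ (hσ2 u), mul_inv_cancel]
      obtain ⟨zx, hzx, hX1⟩ := hX x
      obtain ⟨zy, hzy, hY1⟩ := hX y
      have h1 : ⁅φ c x * φ d x, φ c y * φ d y⁆ = ⁅φ c x, φ c y⁆ * ⁅φ d x, φ d y⁆ := by
        rw [hX1, hY1, hBmulL, hBmulR, hBmulR, hBzL _ hzx, hBzL _ hzx, hBzR _ hzy, one_mul, one_mul, one_mul,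
          ← hBeq, ← hBeq, ← hBeq, hk _ (hcomm2 x y)]
      rw [hexp] at h1
      exact mul_left_cancel (h1.trans (mul_one _).symm)
    · have hX : ∀ u : P, φ c u * φ d u ∈ Subgroup.center P := by
        intro u
        apply hσker
        rw [map_mul, hσeq, hσeq, h0 _ (hσ2 u)]
      have h1 : ⁅φ c x * φ d x, φ c y * φ d y⁆ = 1 := hBzL _ (hX x)
      rw [hexp, ← hBeq, ← hBeq, h0 _ (hcomm2 x y), one_mul] at h1
      exact h1
  have key3 : ∀ (c : K) (x y : P), ⁅φ c x, y⁆ = ⁅x, φ c y⁆ := by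
    intro c x y
    have := key2 c 1 x y
    rwa [map_one, MulAut.one_apply, MulAut.one_apply] at this
  have key4 : ∀ (c : K) (x y : P), ⁅x, φ (c * c) y⁆ = φ c ⁅x, y⁆ := by
    intro c x y
    rw [map_mul, MulAut.mul_apply, ← key3, hBeq]
  intro x y
  have hgoal : ⁅x, y⁆ = 1 := by
    by_cases hx : σ x = 1
    · exact hBzL _ (hσker x hx)
    by_cases hy : σ y = 1
    · exact hBzR _ (hσker y hy)
    obtain ⟨a, ha, -⟩ := hReg (σ x) (σ y) hx (hσ2 x) hy (hσ2 y)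
    obtain ⟨c, rfl⟩ := exists_sq_of_odd hKodd a
    have hz : (φ (c * c) x)⁻¹ * y ∈ Subgroup.center P := by
      apply hσker
      rw [map_mul, map_inv, hσeq, ha, inv_mul_cancel]
    have hy' : y = φ (c * c) x * ((φ (c * c) x)⁻¹ * y) := by group
    rw [hy', hBmulR, hBzR _ hz, mul_one, key4, commutatorElement_self, map_one]
  rw [commutatorElement_eq_one_iff_commute] at hgoal
  exact hgoal

end CA

end Cfsg.Agent.Lib.Helper7.Suz2
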