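import Mathlib
import Cfsg.Agent.Lib.Helper7.Suz2A

set_option autoImplicit false

namespace Cfsg.Agent.Lib.Helper7.Suz2

open scoped commutatorElement

section basic
variable {P : Type*} [Group P] {K : Type*} [CommGroup K] {φ : K →* MulAut P}

/-- automorphisms preserve the centre -/
theorem map_mem_center (α : MulAut P) {z : P} (hz : z ∈ Subgroup.center P) : α z ∈ Subgroup.center P := by
  rw [Subgroup.mem_center_iff] at hz ⊢
  intro g
  obtain ⟨g', rfl⟩ := α.surjective g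
  rw [← map_mul, ← map_mul, hz]

/-- all involutions are central -/
theorem involution_central [Finite P] (hP : IsPGroup 2 P) (hReg : Reg φ) :
    ∀ x : P, x * x = 1 → x ∈ Subgroup.center P := by
  intro x hx
  by_cases hx1 : x = 1
  · rw [hx1]; exact one_mem _
  haveI : Nontrivial P := ⟨⟨x, 1, hx1⟩⟩
  haveI : Fact (Nat.Prime 2) := ⟨Nat.prime_two⟩
  haveI := hP.center_nontrivial
  obtain ⟨⟨z, hz⟩, hz1⟩ := exists_ne (1 : Subgroup.center P)
  have hz1' : z ≠ 1 := fun h => hz1 (Subtype.ext h)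
  -- a central involution
  obtain ⟨k, hk⟩ := hP z
  have hdvd : orderOf z ∣ 2 ^ k := orderOf_dvd_of_pow_eq_one hk
  obtain ⟨j, -, hj⟩ := (Nat.dvd_prime_pow Nat.prime_two).mp hdvd
  have hj0 : j ≠ 0 := by
    rintro rfl
    rw [pow_zero, orderOf_eq_one_iff] at hj
    exact hz1' hj
  obtain ⟨i, rfl⟩ := Nat.exists_eq_succ_of_ne_zero hj0
  set z₀ := z ^ 2 ^ i with hz₀
  have hz₀c : z₀ ∈ Subgroup.center P := Subgroup.pow_mem _ hz _
  have hz₀2 : z₀ * z₀ = 1 := by
    rw [hz₀, ← pow_two, ← pow_mul, ← pow_succ, ← hj, pow_orderOf_eq_one]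
  have hz₀1 : z₀ ≠ 1 := by
    intro h
    have h1 : orderOf z ∣ 2 ^ i := orderOf_dvd_of_pow_eq_one h
    rw [hj] at h1
    have := Nat.le_of_dvd (pow_pos (by norm_num) i) h1
    exact absurd this (not_le.mpr (Nat.pow_lt_pow_right (by norm_num) (Nat.lt_succ_self i)))
  obtain ⟨k', hk', -⟩ := hReg z₀ x hz₀1 hz₀2 hx1 hx
  rw [← hk']
  exact map_mem_center _ hz₀c

/-- if the centre has an element of order `2^(i+1)` then all elements of order dividing `2^(i+1)` are central -/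
theorem omega_central (hReg : Reg φ) (hcentral : ∀ x : P, x * x = 1 → x ∈ Subgroup.center P) :
    ∀ i : ℕ, ∀ a ∈ Subgroup.center P, a ^ 2 ^ (i + 1) = 1 → a ^ 2 ^ i ≠ 1 →
      ∀ x : P, x ^ 2 ^ (i + 1) = 1 → x ∈ Subgroup.center P := by
  intro i
  induction i with
  | zero =>
    intro a _ _ _ x hx
    apply hcentral
    rw [← pow_two]; simpa using hx
  | succ i ih =>
    intro a ha ha1 ha2 x hx
    have ih' := ih (a ^ 2) (Subgroup.pow_mem _ ha _)
      (by rw [← pow_mul, ← pow_succ']; exact ha1)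
      (by rw [← pow_mul, ← pow_succ']; exact ha2)
    by_cases ht1 : x ^ 2 ^ (i + 1) = 1
    · exact ih' x ht1
    have ht2 : x ^ 2 ^ (i + 1) * x ^ 2 ^ (i + 1) = 1 := by
      rw [← pow_add, ← two_mul, ← pow_succ']; exact hx
    have ht₀2 : a ^ 2 ^ (i + 1) * a ^ 2 ^ (i + 1) = 1 := by
      rw [← pow_add, ← two_mul, ← pow_succ']; exact ha1
    obtain ⟨k, hk, -⟩ := hReg _ _ ha2 ht₀2 ht1 ht2
    have hc : φ k a ∈ Subgroup.center P := map_mem_center _ ha
    have hcpow : (φ k a) ^ 2 ^ (i + 1) = x ^ 2 ^ (i + 1) := by rw [← map_pow, hk]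
    have hcomm : Commute x (φ k a)⁻¹ := by
      have := Subgroup.mem_center_iff.mp (Subgroup.inv_mem _ hc) x
      exact this
    have h1 : (x * (φ k a)⁻¹) ^ 2 ^ (i + 1) = 1 := by
      rw [hcomm.mul_pow, inv_pow, hcpow, mul_inv_cancel]
    have h2 := ih' _ h1
    have : x = (x * (φ k a)⁻¹) * φ k a := by group
    rw [this]
    exact Subgroup.mul_mem _ h2 hc

end basic

end Cfsg.Agent.Lib.Helper7.Suz2
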