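import Mathlib
import Cfsg.Agent.Lib.Helper7.Suz2B

set_option autoImplicit false
set_option linter.style.haveILetI false

namespace Cfsg.Agent.Lib.Helper7.Suz2

open scoped commutatorElement

section quot
variable {P : Type*} [Group P] {K : Type*} [CommGroup K] (φ : K →* MulAut P)

/-- the central elements of exponent two -/
def Esub (P : Type*) [Group P] : Subgroup P where
  carrier := {x | x ∈ Subgroup.center P ∧ x * x = 1}
  one_mem' := ⟨one_mem _, one_mul 1⟩
  mul_mem' := by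
    rintro a b ⟨ha, ha2⟩ ⟨hb, hb2⟩
    refine ⟨mul_mem ha hb, ?_⟩
    have hc : b * a = a * b := Subgroup.mem_center_iff.mp ha b
    calc a * b * (a * b) = a * (b * a) * b := by group
      _ = a * (a * b) * b := by rw [hc]
      _ = (a * a) * (b * b) := by group
      _ = 1 := by rw [ha2, hb2, one_mul]
  inv_mem' := by
    rintro a ⟨ha, ha2⟩
    refine ⟨inv_mem ha, ?_⟩
    rw [← mul_inv_rev, ha2, inv_one]

theorem mem_Esub {x : P} : x ∈ Esub P ↔ x ∈ Subgroup.center P ∧ x * x = 1 := Iff.rfl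

instance Esub_normal : (Esub P).Normal := by
  constructor
  intro n hn g
  have : g * n * g⁻¹ = n := by
    have := Subgroup.mem_center_iff.mp hn.1 g
    rw [this, mul_inv_cancel_right]
  rw [this]; exact hn

theorem map_mem_Esub (α : MulAut P) {x : P} (hx : x ∈ Esub P) : α x ∈ Esub P :=
  ⟨map_mem_center α hx.1, by rw [← map_mul, hx.2, map_one]⟩

theorem map_Esub_eq (α : MulAut P) : (Esub P).map (α : P →* P) = Esub P := by
  apply le_antisymm
  · rintro _ ⟨x, hx, rfl⟩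
    exact map_mem_Esub α hx
  · intro x hx
    refine ⟨α⁻¹ x, map_mem_Esub α⁻¹ hx, ?_⟩
    show α (α⁻¹ x) = x
    rw [MulAut.apply_inv_self]

/-- the induced action on `P / E` -/
noncomputable def quotAct : K →* MulAut (P ⧸ Esub P) where
  toFun k := QuotientGroup.congr (Esub P) (Esub P) (φ k) (map_Esub_eq (φ k))
  map_one' := by
    ext x
    induction x using QuotientGroup.induction_on with
    | H x => rw [QuotientGroup.congr_mk, map_one, MulAut.one_apply, MulAut.one_apply]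
  map_mul' := fun g h => by
    ext x
    induction x using QuotientGroup.induction_on with
    | H x =>
      rw [MulAut.mul_apply, QuotientGroup.congr_mk, QuotientGroup.congr_mk, QuotientGroup.congr_mk, map_mul,
        MulAut.mul_apply]

theorem quotAct_mk (k : K) (x : P) :
    quotAct φ k (x : P ⧸ Esub P) = ((φ k x : P) : P ⧸ Esub P) :=
  QuotientGroup.congr_mk _ _ _ (map_Esub_eq (φ k)) x

variable {φ}

theorem pow_four_eq (x : P) : x ^ 4 = x * x * (x * x) := by
  rw [show (4 : ℕ) = 2 + 2 from rfl, pow_add, pow_two]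

theorem mk_eq_one_iff (hcentral : ∀ x : P, x * x = 1 → x ∈ Subgroup.center P) (x : P) :
    (x : P ⧸ Esub P) = 1 ↔ x * x = 1 := by
  rw [QuotientGroup.eq_one_iff, mem_Esub]
  exact ⟨fun h => h.2, fun h => ⟨hcentral x h, h⟩⟩

/-- the regularity passes to `P / E` when the centre has an element of order four -/
theorem reg_quot (hReg : Reg φ) (hcentral : ∀ x : P, x * x = 1 → x ∈ Subgroup.center P)
    (hΩ : ∀ x : P, x ^ 4 = 1 → x ∈ Subgroup.center P) : Reg (quotAct φ) := by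
  intro X Y hX1 hX2 hY1 hY2
  induction X using QuotientGroup.induction_on with
  | H x =>
    induction Y using QuotientGroup.induction_on with
    | H y =>
      rw [Ne, mk_eq_one_iff hcentral] at hX1 hY1
      rw [← QuotientGroup.mk_mul, mk_eq_one_iff hcentral] at hX2 hY2
      have hx4 : x ^ 4 = 1 := by
        rw [pow_four_eq]; exact hX2
      have hy4 : y ^ 4 = 1 := by
        rw [pow_four_eq]; exact hY2
      have hxc := hΩ x hx4
      have hyc := hΩ y hy4
      have hiff : ∀ k : K, quotAct φ k (x : P ⧸ Esub P) = (y : P ⧸ Esub P) ↔ φ k (x * x) = y * y := by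
        intro k
        rw [quotAct_mk, QuotientGroup.eq, mem_Esub]
        have hkc : φ k x ∈ Subgroup.center P := map_mem_center _ hxc
        have hcomm : y * (φ k x)⁻¹ = (φ k x)⁻¹ * y :=
          Subgroup.mem_center_iff.mp (inv_mem hkc) y
        have e : (φ k x)⁻¹ * y * ((φ k x)⁻¹ * y) = (φ k (x * x))⁻¹ * (y * y) := by
          rw [map_mul]
          calc (φ k x)⁻¹ * y * ((φ k x)⁻¹ * y) = (φ k x)⁻¹ * (y * (φ k x)⁻¹) * y := by group
            _ = (φ k x)⁻¹ * ((φ k x)⁻¹ * y) * y := by rw [hcomm]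
            _ = _ := by group
        constructor
        · rintro ⟨-, h⟩
          rw [e] at h
          exact (inv_mul_eq_one.mp h)
        · intro h
          refine ⟨mul_mem (inv_mem hkc) hyc, ?_⟩
          rw [e, h, inv_mul_cancel]
      obtain ⟨k, hk, hku⟩ := hReg (x * x) (y * y) hX1 hX2 hY1 hY2
      exact ⟨k, (hiff k).mpr hk, fun k' hk' => hku k' ((hiff k').mp hk')⟩

/-- two distinct involutions in the quotient -/
theorem two_inv_quot (hReg : Reg φ) (hcentral : ∀ x : P, x * x = 1 → x ∈ Subgroup.center P)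
    (h2 : ∃ x y : P, x ≠ y ∧ x ≠ 1 ∧ x * x = 1 ∧ y ≠ 1 ∧ y * y = 1)
    (ha : ∃ a ∈ Subgroup.center P, a ^ 2 ≠ 1 ∧ a ^ 4 = 1) :
    ∃ X Y : P ⧸ Esub P, X ≠ Y ∧ X ≠ 1 ∧ X * X = 1 ∧ Y ≠ 1 ∧ Y * Y = 1 := by
  obtain ⟨t₁, t₂, hne, h11, h12, h21, h22⟩ := h2
  obtain ⟨a, hac, ha2, ha4⟩ := ha
  have ha2' : a * a ≠ 1 := by rwa [← pow_two]
  have ha4' : a * a * (a * a) = 1 := by
    rw [← pow_four_eq]; exact ha4
  obtain ⟨k₁, hk₁, -⟩ := hReg (a * a) t₁ ha2' ha4' h11 h12
  obtain ⟨k₂, hk₂, -⟩ := hReg (a * a) t₂ ha2' ha4' h21 h22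
  rw [map_mul] at hk₁ hk₂
  refine ⟨(φ k₁ a : P), (φ k₂ a : P), ?_, ?_, ?_, ?_, ?_⟩
  · intro h
    rw [QuotientGroup.eq, mem_Esub] at h
    obtain ⟨-, h⟩ := h
    have hc1 : φ k₁ a ∈ Subgroup.center P := map_mem_center _ hac
    have hcomm : φ k₂ a * (φ k₁ a)⁻¹ = (φ k₁ a)⁻¹ * φ k₂ a :=
      Subgroup.mem_center_iff.mp (inv_mem hc1) _
    have e : (φ k₁ a)⁻¹ * φ k₂ a * ((φ k₁ a)⁻¹ * φ k₂ a) = (φ k₁ a * φ k₁ a)⁻¹ * (φ k₂ a * φ k₂ a) := by
      calc (φ k₁ a)⁻¹ * φ k₂ a * ((φ k₁ a)⁻¹ * φ k₂ a)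
          = (φ k₁ a)⁻¹ * (φ k₂ a * (φ k₁ a)⁻¹) * φ k₂ a := by group
        _ = (φ k₁ a)⁻¹ * ((φ k₁ a)⁻¹ * φ k₂ a) * φ k₂ a := by rw [hcomm]
        _ = _ := by group
    rw [e, hk₁, hk₂] at h
    exact hne (inv_mul_eq_one.mp h)
  · rw [Ne, mk_eq_one_iff hcentral, hk₁]; exact h11
  · rw [← QuotientGroup.mk_mul, mk_eq_one_iff hcentral, hk₁]; exact h12
  · rw [Ne, mk_eq_one_iff hcentral, hk₂]; exact h21
  · rw [← QuotientGroup.mk_mul, mk_eq_one_iff hcentral, hk₂]; exact h22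

end quot

end Cfsg.Agent.Lib.Helper7.Suz2
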