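import Mathlib
import Cfsg.Agent.Lib.Helper7.Suz2C

set_option autoImplicit false
set_option linter.style.haveILetI false

namespace Cfsg.Agent.Lib.Helper7.Suz2

open scoped commutatorElement

section caseA
variable {P : Type*} [Group P] {K : Type*} [CommGroup K] {φ : K →* MulAut P}

/-- Case A: commutators are central involutions -/
theorem caseA [Finite P] (hP : IsPGroup 2 P) (hReg : Reg φ)
    (hcentral : ∀ x : P, x * x = 1 → x ∈ Subgroup.center P) (hKodd : Odd (Nat.card K))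
    (ha : ∃ a ∈ Subgroup.center P, a ^ 2 ≠ 1 ∧ a ^ 4 = 1)
    (hcomm2 : ∀ x y : P, ⁅x, y⁆ * ⁅x, y⁆ = 1) : ∀ x y : P, x * y = y * x := by
  have hBc : ∀ x y : P, ⁅x, y⁆ ∈ Subgroup.center P := fun x y => hcentral _ (hcomm2 x y)
  have hcz : ∀ {z : P}, z ∈ Subgroup.center P → ∀ g : P, g * z = z * g :=
    fun hz g => Subgroup.mem_center_iff.mp hz g
  -- squares are central
  have hsqc : ∀ x : P, x * x ∈ Subgroup.center P := by
    intro x
    rw [Subgroup.mem_center_iff]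
    intro y
    have h1 : ⁅x * x, y⁆ = x * ⁅x, y⁆ * x⁻¹ * ⁅x, y⁆ := by
      simp only [commutatorElement_def]; group
    rw [hcz (hBc x y) x, mul_inv_cancel_right, hcomm2] at h1
    rw [commutatorElement_eq_one_iff_commute] at h1
    exact h1.symm
  -- (xy)^2 = [y,x] x^2 y^2
  have hsq : ∀ x y : P, (x * y) * (x * y) = ⁅y, x⁆ * ((x * x) * (y * y)) := by
    intro x y
    have h1 : (x * y) * (x * y) = x * ⁅y, x⁆ * x * (y * y) := by
      simp only [commutatorElement_def]; group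
    rw [h1, hcz (hBc y x) x]; group
  have hpow4 : ∀ x y : P, (x * y) ^ 4 = x ^ 4 * y ^ 4 := by
    intro x y
    rw [pow_four_eq (x * y), pow_four_eq x, pow_four_eq y, hsq x y]
    have hc := hBc y x
    have e1 : ⁅y, x⁆ * (x * x * (y * y)) * (⁅y, x⁆ * (x * x * (y * y))) =
        (⁅y, x⁆ * ⁅y, x⁆) * ((x * x * (y * y)) * (x * x * (y * y))) := by
      have := hcz hc (x * x * (y * y))
      calc ⁅y, x⁆ * (x * x * (y * y)) * (⁅y, x⁆ * (x * x * (y * y)))
          = ⁅y, x⁆ * ((x * x * (y * y)) * ⁅y, x⁆) * (x * x * (y * y)) := by group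
        _ = ⁅y, x⁆ * (⁅y, x⁆ * (x * x * (y * y))) * (x * x * (y * y)) := by rw [this]
        _ = _ := by group
    rw [e1, hcomm2, one_mul]
    have := hcz (hsqc x) (y * y)
    calc x * x * (y * y) * (x * x * (y * y)) = x * x * ((y * y) * (x * x)) * (y * y) := by group
      _ = x * x * ((x * x) * (y * y)) * (y * y) := by rw [this]
      _ = _ := by group
  have hpow4c : ∀ x : P, x ^ 4 ∈ Subgroup.center P := by
    intro x; rw [pow_four_eq]; exact mul_mem (hsqc x) (hsqc x)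
  -- a central element of maximal order
  obtain ⟨⟨a₀, ha₀c⟩, hmax⟩ := Finite.exists_max (fun z : Subgroup.center P => orderOf (z : P))
  have hord2 : ∀ z : P, ∃ j : ℕ, orderOf z = 2 ^ j := by
    intro z
    obtain ⟨k, hk⟩ := hP z
    obtain ⟨j, -, hj⟩ := (Nat.dvd_prime_pow Nat.prime_two).mp (orderOf_dvd_of_pow_eq_one hk)
    exact ⟨j, hj⟩
  obtain ⟨e, he⟩ := hord2 a₀
  obtain ⟨a, hac, ha2, ha4⟩ := ha
  have horda : orderOf a = 2 ^ (1 + 1) := by
    apply orderOf_eq_prime_pow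
    · simpa using ha2
    · simpa using ha4
  have he2 : 2 ≤ e := by
    have h1 : orderOf a ≤ orderOf a₀ := hmax ⟨a, hac⟩
    rw [horda, he] at h1
    exact (Nat.pow_le_pow_iff_right (by norm_num)).mp h1
  obtain ⟨i₀, rfl⟩ : ∃ i₀, e = i₀ + 2 := ⟨e - 2, by omega⟩
  have hZexp : ∀ z ∈ Subgroup.center P, z ^ 2 ^ (i₀ + 2) = 1 := by
    intro z hz
    obtain ⟨j, hj⟩ := hord2 z
    have h1 : orderOf z ≤ orderOf a₀ := hmax ⟨z, hz⟩
    rw [hj, he] at h1
    have hj' : j ≤ i₀ + 2 := (Nat.pow_le_pow_iff_right (by norm_num)).mp h1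
    apply orderOf_dvd_iff_pow_eq_one.mp
    rw [hj]; exact pow_dvd_pow 2 hj'
  have ha₀1 : a₀ ^ 2 ^ (i₀ + 1) ≠ 1 := by
    intro h
    have h1 : orderOf a₀ ∣ 2 ^ (i₀ + 1) := orderOf_dvd_of_pow_eq_one h
    rw [he] at h1
    have := Nat.le_of_dvd (pow_pos (by norm_num) _) h1
    exact absurd this (not_le.mpr (Nat.pow_lt_pow_right (by norm_num) (Nat.lt_succ_self _)))
  have hker := omega_central hReg hcentral (i₀ + 1) a₀ ha₀c (hZexp a₀ ha₀c) ha₀1
  -- the homomorphism σ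
  have hm : (2 : ℕ) ^ (i₀ + 2) = 4 * 2 ^ i₀ := by rw [pow_add]; ring
  have hmul : ∀ x y : P, (x * y) ^ 2 ^ (i₀ + 2) = x ^ 2 ^ (i₀ + 2) * y ^ 2 ^ (i₀ + 2) := by
    intro x y
    rw [hm, pow_mul, pow_mul, pow_mul, hpow4]
    have hcomm : Commute (x ^ 4) (y ^ 4) := (hcz (hpow4c y) (x ^ 4))
    exact hcomm.mul_pow _
  let σ : P →* P := MonoidHom.mk' (fun x => x ^ 2 ^ (i₀ + 2)) hmul
  have hσ : ∀ x : P, σ x = x ^ 2 ^ (i₀ + 2) := fun _ => rfl
  apply comm_of_sigma hReg hcentral hcomm2 σ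
  · intro x
    rw [hσ, ← pow_two, ← pow_mul, mul_comm, pow_mul, pow_two]
    exact hZexp _ (hsqc x)
  · intro x hx
    exact hker x hx
  · intro k x
    rw [hσ, hσ, map_pow]
  · exact hKodd

end caseA

section caseB
variable {P : Type*} [Group P]

/-- the central elements of exponent four -/
def Z4sub (P : Type*) [Group P] : Subgroup P where
  carrier := {x | x ∈ Subgroup.center P ∧ x ^ 4 = 1}
  one_mem' := ⟨one_mem _, one_pow 4⟩
  mul_mem' := by
    rintro a b ⟨ha, ha2⟩ ⟨hb, hb2⟩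
    refine ⟨mul_mem ha hb, ?_⟩
    have hc : Commute a b := (Subgroup.mem_center_iff.mp hb a)
    rw [hc.mul_pow, ha2, hb2, one_mul]
  inv_mem' := by
    rintro a ⟨ha, ha2⟩
    exact ⟨inv_mem ha, by rw [inv_pow, ha2, inv_one]⟩

instance Z4sub_normal : (Z4sub P).Normal := by
  constructor
  intro n hn g
  have : g * n * g⁻¹ = n := by
    have := Subgroup.mem_center_iff.mp hn.1 g
    rw [this, mul_inv_cancel_right]
  rw [this]; exact hn

theorem caseB [Finite P] (hP : IsPGroup 2 P)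
    (hcentral : ∀ x : P, x * x = 1 → x ∈ Subgroup.center P)
    (hΩ : ∀ x : P, x ^ 4 = 1 → x ∈ Subgroup.center P)
    (hnoA : ¬ ∃ b ∈ Subgroup.center (P ⧸ Esub P), b ^ 2 ≠ 1 ∧ b ^ 4 = 1) :
    ∀ x y : P, x * y = y * x := by
  by_contra hnc
  push Not at hnc
  obtain ⟨x₀, y₀, hxy⟩ := hnc
  haveI : Fact (Nat.Prime 2) := ⟨Nat.prime_two⟩
  have hZ4c : ∀ {z : P}, z ∈ Z4sub P → z ∈ Subgroup.center P := fun h => h.1
  -- the quotient by Z4 is nontrivial
  haveI : Nontrivial (P ⧸ Z4sub P) := by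
    by_contra hnt
    rw [not_nontrivial_iff_subsingleton] at hnt
    have : ∀ x : P, x ∈ Z4sub P := by
      intro x
      rw [← QuotientGroup.eq_one_iff]
      exact Subsingleton.elim _ _
    exact hxy (Subgroup.mem_center_iff.mp (hZ4c (this y₀)) x₀)
  have hPQ : IsPGroup 2 (P ⧸ Z4sub P) := hP.to_quotient _
  haveI := hPQ.center_nontrivial
  obtain ⟨⟨z, hz⟩, hz1⟩ := exists_ne (1 : Subgroup.center (P ⧸ Z4sub P))
  have hz1' : z ≠ 1 := fun h => hz1 (Subtype.ext h)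
  obtain ⟨k, hk⟩ := hPQ z
  obtain ⟨j, -, hj⟩ := (Nat.dvd_prime_pow Nat.prime_two).mp (orderOf_dvd_of_pow_eq_one hk)
  have hj0 : j ≠ 0 := by
    rintro rfl
    rw [pow_zero, orderOf_eq_one_iff] at hj
    exact hz1' hj
  obtain ⟨i, rfl⟩ := Nat.exists_eq_succ_of_ne_zero hj0
  obtain ⟨B, hB⟩ : ∃ B, B = z ^ 2 ^ i := ⟨_, rfl⟩
  have hBc : B ∈ Subgroup.center (P ⧸ Z4sub P) := by rw [hB]; exact Subgroup.pow_mem _ hz _
  have hB2 : B * B = 1 := by
    rw [hB, ← pow_two, ← pow_mul, ← pow_succ, ← hj, pow_orderOf_eq_one]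
  have hB1 : B ≠ 1 := by
    intro h
    rw [hB] at h
    have h1 : orderOf z ∣ 2 ^ i := orderOf_dvd_of_pow_eq_one h
    rw [hj] at h1
    have := Nat.le_of_dvd (pow_pos (by norm_num) i) h1
    exact absurd this (not_le.mpr (Nat.pow_lt_pow_right (by norm_num) (Nat.lt_succ_self i)))
  obtain ⟨b, rfl⟩ := QuotientGroup.mk_surjective B
  have hb1 : b ∉ Z4sub P := fun h => hB1 ((QuotientGroup.eq_one_iff b).mpr h)
  have hb2 : b * b ∈ Z4sub P := by
    rw [← QuotientGroup.eq_one_iff, QuotientGroup.mk_mul]; exact hB2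
  have hbg : ∀ g : P, ⁅b, g⁆ ∈ Z4sub P := by
    intro g
    rw [← QuotientGroup.eq_one_iff]
    have h1 : ((⁅b, g⁆ : P) : P ⧸ Z4sub P) = ⁅(b : P ⧸ Z4sub P), (g : P ⧸ Z4sub P)⁆ := by
      simp only [commutatorElement_def, QuotientGroup.mk_mul, QuotientGroup.mk_inv]
    rw [h1, commutatorElement_eq_one_iff_commute]
    exact (Subgroup.mem_center_iff.mp hBc _).symm
  -- commutators with b are involutions
  have hbgE : ∀ g : P, ⁅b, g⁆ ∈ Esub P := by
    intro g
    have hc := hZ4c (hbg g)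
    refine ⟨hc, ?_⟩
    have h1 : ⁅b * b, g⁆ = b * ⁅b, g⁆ * b⁻¹ * ⁅b, g⁆ := by
      simp only [commutatorElement_def]; group
    have h2 : ⁅b * b, g⁆ = 1 := by
      rw [commutatorElement_eq_one_iff_commute]
      exact (Subgroup.mem_center_iff.mp (hZ4c hb2) g).symm
    rw [h2, Subgroup.mem_center_iff.mp hc b, mul_inv_cancel_right] at h1
    exact h1.symm
  -- so the image of b in P / E is central
  have hbEc : (b : P ⧸ Esub P) ∈ Subgroup.center (P ⧸ Esub P) := by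
    rw [Subgroup.mem_center_iff]
    intro G
    obtain ⟨g, rfl⟩ := QuotientGroup.mk_surjective G
    have h1 : ((⁅b, g⁆ : P) : P ⧸ Esub P) = ⁅(b : P ⧸ Esub P), (g : P ⧸ Esub P)⁆ := by
      simp only [commutatorElement_def, QuotientGroup.mk_mul, QuotientGroup.mk_inv]
    have h2 := (QuotientGroup.eq_one_iff _).mpr (hbgE g)
    rw [h1, commutatorElement_eq_one_iff_commute] at h2
    exact h2.symm
  have hb8 : (b ^ 4) * (b ^ 4) = 1 := by
    have h1 := hb2.2
    have : b ^ 4 * b ^ 4 = (b * b) ^ 4 := by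
      rw [← pow_two b, ← pow_mul, ← pow_add]
    rw [this]; exact h1
  have hb4 : ((b : P ⧸ Esub P)) ^ 4 = 1 := by
    rw [← QuotientGroup.mk_pow, mk_eq_one_iff hcentral]; exact hb8
  have hb2' : ((b : P ⧸ Esub P)) ^ 2 = 1 := by
    by_contra h
    exact hnoA ⟨_, hbEc, h, hb4⟩
  rw [← QuotientGroup.mk_pow, mk_eq_one_iff hcentral, pow_two, ← pow_four_eq] at hb2'
  exact hb1 ⟨hΩ b hb2', hb2'⟩

end caseB

end Cfsg.Agent.Lib.Helper7.Suz2
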