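import Mathlib
import Cfsg.Agent.Lib.Helper7.Suz2D

set_option autoImplicit false
set_option linter.style.haveILetI false

namespace Cfsg.Agent.Lib.Helper7.Suz2

open scoped commutatorElement

universe u

theorem T {K : Type*} [CommGroup K] (hKodd : Odd (Nat.card K)) :
    ∀ n : ℕ, ∀ (P : Type u) [Group P] [Finite P], Nat.card P = n → IsPGroup 2 P →
      ∀ φ : K →* MulAut P, Reg φ →
      (∃ x y : P, x ≠ y ∧ x ≠ 1 ∧ x * x = 1 ∧ y ≠ 1 ∧ y * y = 1) →
      (∃ a ∈ Subgroup.center P, a ^ 2 ≠ 1 ∧ a ^ 4 = 1) → ∀ x y : P, x * y = y * x := by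
  intro n
  induction n using Nat.strong_induction_on with
  | _ n ih =>
    intro P _ _ hn hP φ hReg h2 ha
    have hcentral := involution_central hP hReg
    obtain ⟨a, hac, ha2, ha4⟩ := ha
    have hΩ : ∀ x : P, x ^ 4 = 1 → x ∈ Subgroup.center P := by
      intro x hx
      exact omega_central hReg hcentral 1 a hac (by simpa using ha4) (by simpa using ha2) x
        (by simpa using hx)
    have hlt : Nat.card (P ⧸ Esub P) < n := by
      rw [← hn, Subgroup.card_eq_card_quotient_mul_card_subgroup (Esub P)]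
      have h1 : 1 < Nat.card (Esub P) := by
        rw [Finite.one_lt_card_iff_nontrivial]
        refine ⟨⟨⟨a * a, ?_⟩, 1, ?_⟩⟩
        · refine ⟨mul_mem hac hac, ?_⟩
          rw [← pow_four_eq]; exact ha4
        · intro h
          apply ha2
          rw [pow_two]
          exact congrArg Subtype.val h
      have h0 : 0 < Nat.card (P ⧸ Esub P) := Nat.card_pos
      nlinarith
    by_cases hA : ∃ b ∈ Subgroup.center (P ⧸ Esub P), b ^ 2 ≠ 1 ∧ b ^ 4 = 1
    · have hcomm := ih _ hlt (P ⧸ Esub P) rfl (hP.to_quotient _) (quotAct φ)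
        (reg_quot hReg hcentral hΩ) (two_inv_quot hReg hcentral h2 ⟨a, hac, ha2, ha4⟩) hA
      apply caseA hP hReg hcentral hKodd ⟨a, hac, ha2, ha4⟩
      intro x y
      have h1 : ((⁅x, y⁆ : P) : P ⧸ Esub P) = ⁅(x : P ⧸ Esub P), (y : P ⧸ Esub P)⁆ := by
        simp only [commutatorElement_def, QuotientGroup.mk_mul, QuotientGroup.mk_inv]
      have h3 : ((⁅x, y⁆ : P) : P ⧸ Esub P) = 1 := by
        rw [h1, commutatorElement_eq_one_iff_commute]
        exact hcomm _ _
      exact ((QuotientGroup.eq_one_iff _).mp h3).2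
    · exact caseB hP hcentral hΩ hA

end Cfsg.Agent.Lib.Helper7.Suz2

namespace Cfsg.Agent.Lib.Helper7.Suz2

universe u

/-- the acting group has odd order -/
theorem card_odd {P : Type*} [Group P] [Finite P] {K : Type*} [CommGroup K] {φ : K →* MulAut P}
    (hP : IsPGroup 2 P) (hReg : Reg φ) (t₁ : P) (ht1 : t₁ ≠ 1) (ht2 : t₁ * t₁ = 1) :
    Odd (Nat.card K) := by
  classical
  have hcentral := involution_central hP hReg
  have hmem : ∀ k : K, φ k t₁ ∈ Esub P := fun k => map_mem_Esub _ ⟨hcentral _ ht2, ht2⟩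
  have hne : ∀ k : K, (⟨φ k t₁, hmem k⟩ : Esub P) ≠ 1 := by
    intro k h
    have h1 : φ k t₁ = 1 := congrArg Subtype.val h
    exact ht1 ((φ k).injective (h1.trans (map_one _).symm))
  let f : K → {t : Esub P // t ≠ 1} := fun k => ⟨⟨φ k t₁, hmem k⟩, hne k⟩
  have hf : Function.Bijective f := by
    constructor
    · intro k k' h
      have h1 : φ k t₁ = φ k' t₁ := congrArg (fun t : {t : Esub P // t ≠ 1} => ((t : Esub P) : P)) h
      have hk1 : φ k t₁ ≠ 1 := fun h0 => hne k (Subtype.ext h0)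
      have hk2 : φ k t₁ * φ k t₁ = 1 := (hmem k).2
      obtain ⟨k₀, -, hu⟩ := hReg t₁ (φ k t₁) ht1 ht2 hk1 hk2
      rw [hu k rfl, hu k' h1.symm]
    · rintro ⟨⟨t, htE⟩, htne⟩
      have ht1' : t ≠ 1 := fun h0 => htne (Subtype.ext h0)
      obtain ⟨k, hk, -⟩ := hReg t₁ t ht1 ht2 ht1' htE.2
      exact ⟨k, Subtype.ext (Subtype.ext hk)⟩
  have h1 : Nat.card K = Nat.card {t : Esub P // t ≠ 1} := Nat.card_eq_of_bijective f hf
  have h2 : Nat.card (Esub P) = Nat.card {t : Esub P // t ≠ 1} + 1 := by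
    rw [← Finite.card_option]
    exact (Nat.card_congr (Equiv.optionSubtypeNe (1 : Esub P))).symm
  have hE : IsPGroup 2 (Esub P) := hP.to_subgroup _
  haveI : Fact (Nat.Prime 2) := ⟨Nat.prime_two⟩
  obtain ⟨j, hj⟩ := IsPGroup.iff_card.mp hE
  have hj0 : j ≠ 0 := by
    rintro rfl
    rw [pow_zero] at hj
    have : Nat.card K = 0 := by omega
    have hK : Nat.card K ≠ 0 := by
      rw [h1]
      haveI : Nonempty {t : Esub P // t ≠ 1} := ⟨f 1⟩
      exact Nat.card_pos.ne'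
    exact hK this
  obtain ⟨i, rfl⟩ := Nat.exists_eq_succ_of_ne_zero hj0
  rw [h1]
  refine ⟨2 ^ i - 1, ?_⟩
  have : 0 < 2 ^ i := pow_pos (by norm_num) i
  rw [pow_succ] at hj
  omega

/-- the main result on Suzuki 2-groups: involutions are the nonidentity central elements, and the centre
is elementary abelian -/
theorem main {P : Type u} [Group P] [Finite P] (hP : IsPGroup 2 P) (hna : ∃ x y : P, x * y ≠ y * x)
    (h2 : ∃ x y : P, x ≠ y ∧ x ≠ 1 ∧ x * x = 1 ∧ y ≠ 1 ∧ y * y = 1)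
    {K : Type*} [CommGroup K] (φ : K →* MulAut P) (hReg : Reg φ) :
    (∀ x : P, (x ≠ 1 ∧ x * x = 1) ↔ (x ∈ Subgroup.center P ∧ x ≠ 1)) ∧
      ∀ z ∈ Subgroup.center P, z * z = 1 := by
  have hcentral := involution_central hP hReg
  have hKodd : Odd (Nat.card K) := by
    obtain ⟨t₁, -, -, ht1, ht2, -, -⟩ := h2
    exact card_odd hP hReg t₁ ht1 ht2
  have hZ : ∀ z ∈ Subgroup.center P, z * z = 1 := by
    intro z hz
    by_contra hz2
    obtain ⟨x₀, y₀, hxy⟩ := hna
    apply hxy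
    -- a central element of order four
    obtain ⟨k, hk⟩ := hP z
    obtain ⟨j, -, hj⟩ := (Nat.dvd_prime_pow Nat.prime_two).mp (orderOf_dvd_of_pow_eq_one hk)
    have hj2 : 2 ≤ j := by
      by_contra h
      have hj1 : j ≤ 1 := by omega
      have h1 : orderOf z ∣ 2 := by
        rw [hj]; exact (pow_dvd_pow 2 hj1).trans (by norm_num)
      have := orderOf_dvd_iff_pow_eq_one.mp h1
      rw [pow_two] at this
      exact hz2 this
    obtain ⟨i, rfl⟩ : ∃ i, j = i + 2 := ⟨j - 2, by omega⟩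
    refine T hKodd _ P rfl hP φ hReg h2 ⟨z ^ 2 ^ i, Subgroup.pow_mem _ hz _, ?_, ?_⟩ x₀ y₀
    · intro h
      rw [← pow_mul, ← pow_succ] at h
      have h1 : orderOf z ∣ 2 ^ (i + 1) := orderOf_dvd_of_pow_eq_one h
      rw [hj] at h1
      have := Nat.le_of_dvd (pow_pos (by norm_num) _) h1
      exact absurd this (not_le.mpr (Nat.pow_lt_pow_right (by norm_num) (Nat.lt_succ_self _)))
    · rw [← pow_mul, show (4 : ℕ) = 2 ^ 2 from rfl, ← pow_add, ← hj, pow_orderOf_eq_one]
  refine ⟨fun x => ⟨?_, ?_⟩, hZ⟩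
  · rintro ⟨h1, h2'⟩
    exact ⟨hcentral x h2', h1⟩
  · rintro ⟨h1, h2'⟩
    exact ⟨h2', hZ x h1⟩

end Cfsg.Agent.Lib.Helper7.Suz2
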