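import Mathlib
import Cfsg.Agent.Lib.Helper7.Syl8A

/-!
# Data for `Syl₂(S₈) ≅ Syl₂(O₆⁻(2))` (helper7)

A list of `128` pairs (permutation of `8` points, `6 × 6` matrix over `𝔽₂`), closed under left
multiplication by three generating pairs; found by a computer search outside Lean, checked here by the kernel.
-/

set_option autoImplicit false

namespace Cfsg.Agent.Lib.Helper7.Syl8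

/-- raw pairs -/
abbrev RP2 : Type := (Fin 8 → Fin 8) × (Fin 6 → Fin 6 → ZMod 2)

/-- explicit product of `6 × 6` matrices -/
def mul6 {R : Type*} [Mul R] [Add R] (A B : Fin 6 → Fin 6 → R) : Fin 6 → Fin 6 → R :=
  fun i j => A i 0 * B 0 j + A i 1 * B 1 j + A i 2 * B 2 j + A i 3 * B 3 j + A i 4 * B 4 j +
    A i 5 * B 5 j

/-- the raw product -/
def rmul2 (x y : RP2) : RP2 := (fun i => x.1 (y.1 i), mul6 x.2 y.2)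

/-- the raw identity -/
def rone2 : RP2 := (fun i => i, !![1,0,0,0,0,0;0,1,0,0,0,0;0,0,1,0,0,0;0,0,0,1,0,0;0,0,0,0,1,0;0,0,0,0,0,1])

/-- the raw generators -/
def rgen2 : Fin 3 → RP2 :=
  ![(![1,0,2,3,4,5,6,7], !![0,1,0,1,1,0;1,0,1,1,0,1;1,1,0,1,0,1;1,1,1,0,0,1;1,1,0,1,0,0;0,0,1,0,1,0]),
    (![2,3,0,1,4,5,6,7], !![1,0,0,0,0,0;0,1,0,0,0,0;0,0,1,0,0,0;0,1,0,1,0,1;0,1,0,0,1,1;0,0,0,0,0,1]),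
    (![4,5,6,7,0,1,2,3], !![1,0,0,0,0,0;1,1,0,1,0,1;0,1,1,1,1,0;1,1,0,1,1,1;0,1,0,1,0,0;1,1,0,0,1,0])]

/-- evaluation of a word -/
def ev2 : List (Fin 3) → RP2
  | [] => rone2
  | k :: w => rmul2 (rgen2 k) (ev2 w)

/-- the words -/
def W2 : List (List (Fin 3)) :=
  [[],
  [0],
  [1],
  [2],
  [1,0],
  [2,0],
  [0,1],
  [2,1],
  [0,2],
  [1,2],
  [0,1,0],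
  [2,1,0],
  [0,2,0],
  [1,2,0],
  [1,0,1],
  [2,0,1],
  [0,2,1],
  [1,2,1],
  [1,0,2],
  [2,0,2],
  [0,1,2],
  [2,1,2],
  [1,0,1,0],
  [2,0,1,0],
  [0,2,1,0],
  [1,2,1,0],
  [1,0,2,0],
  [2,0,2,0],
  [0,1,2,0],
  [2,1,2,0],
  [2,1,0,1],
  [0,2,0,1],
  [1,2,0,1],
  [1,0,2,1],
  [2,0,2,1],
  [0,1,2,1],
  [2,1,2,1],
  [0,1,0,2],
  [2,1,0,2],
  [1,0,1,2],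
  [2,0,1,2],
  [2,1,0,1,0],
  [0,2,0,1,0],
  [1,2,0,1,0],
  [1,0,2,1,0],
  [2,0,2,1,0],
  [0,1,2,1,0],
  [2,1,2,1,0],
  [0,1,0,2,0],
  [2,1,0,2,0],
  [1,0,1,2,0],
  [2,0,1,2,0],
  [0,2,1,0,1],
  [1,2,1,0,1],
  [1,0,2,0,1],
  [2,0,2,0,1],
  [0,1,2,0,1],
  [2,1,2,0,1],
  [0,1,0,2,1],
  [2,1,0,2,1],
  [1,0,1,2,1],
  [2,0,1,2,1],
  [1,0,1,0,2],
  [2,0,1,0,2],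
  [2,1,0,1,2],
  [0,2,1,0,1,0],
  [1,2,1,0,1,0],
  [1,0,2,0,1,0],
  [2,0,2,0,1,0],
  [0,1,2,0,1,0],
  [2,1,2,0,1,0],
  [0,1,0,2,1,0],
  [2,1,0,2,1,0],
  [1,0,1,2,1,0],
  [2,0,1,2,1,0],
  [1,0,1,0,2,0],
  [2,0,1,0,2,0],
  [2,1,0,1,2,0],
  [1,0,2,1,0,1],
  [2,0,2,1,0,1],
  [0,1,2,1,0,1],
  [2,1,2,1,0,1],
  [0,1,0,2,0,1],
  [2,1,0,2,0,1],
  [1,0,1,2,0,1],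
  [2,0,1,2,0,1],
  [1,0,1,0,2,1],
  [2,0,1,0,2,1],
  [2,1,0,1,2,1],
  [2,1,0,1,0,2],
  [1,0,2,1,0,1,0],
  [2,0,2,1,0,1,0],
  [0,1,2,1,0,1,0],
  [2,1,2,1,0,1,0],
  [0,1,0,2,0,1,0],
  [2,1,0,2,0,1,0],
  [1,0,1,2,0,1,0],
  [2,0,1,2,0,1,0],
  [1,0,1,0,2,1,0],
  [2,0,1,0,2,1,0],
  [2,1,0,1,2,1,0],
  [2,1,0,1,0,2,0],
  [0,1,0,2,1,0,1],
  [2,1,0,2,1,0,1],
  [1,0,1,2,1,0,1],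
  [2,0,1,2,1,0,1],
  [1,0,1,0,2,0,1],
  [2,0,1,0,2,0,1],
  [2,1,0,1,2,0,1],
  [2,1,0,1,0,2,1],
  [0,1,0,2,1,0,1,0],
  [2,1,0,2,1,0,1,0],
  [1,0,1,2,1,0,1,0],
  [2,0,1,2,1,0,1,0],
  [1,0,1,0,2,0,1,0],
  [2,0,1,0,2,0,1,0],
  [2,1,0,1,2,0,1,0],
  [2,1,0,1,0,2,1,0],
  [1,0,1,0,2,1,0,1],
  [2,0,1,0,2,1,0,1],
  [2,1,0,1,2,1,0,1],
  [2,1,0,1,0,2,0,1],
  [1,0,1,0,2,1,0,1,0],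
  [2,0,1,0,2,1,0,1,0],
  [2,1,0,1,2,1,0,1,0],
  [2,1,0,1,0,2,0,1,0],
  [2,1,0,1,0,2,1,0,1],
  [2,1,0,1,0,2,1,0,1,0]]

set_option maxHeartbeats 4000000 in
/-- the list of raw elements -/
def L2 : List RP2 :=
  [(![0,1,2,3,4,5,6,7], !![1,0,0,0,0,0;0,1,0,0,0,0;0,0,1,0,0,0;0,0,0,1,0,0;0,0,0,0,1,0;0,0,0,0,0,1]),
   (![1,0,2,3,4,5,6,7], !![0,1,0,1,1,0;1,0,1,1,0,1;1,1,0,1,0,1;1,1,1,0,0,1;1,1,0,1,0,0;0,0,1,0,1,0]),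
   (![2,3,0,1,4,5,6,7], !![1,0,0,0,0,0;0,1,0,0,0,0;0,0,1,0,0,0;0,1,0,1,0,1;0,1,0,0,1,1;0,0,0,0,0,1]),
   (![4,5,6,7,0,1,2,3], !![1,0,0,0,0,0;1,1,0,1,0,1;0,1,1,1,1,0;1,1,0,1,1,1;0,1,0,1,0,0;1,1,0,0,1,0]),
   (![3,2,0,1,4,5,6,7], !![0,1,0,1,1,0;1,0,1,1,0,1;1,1,0,1,0,1;0,1,1,1,1,0;0,1,0,0,1,1;0,0,1,0,1,0]),
   (![5,4,6,7,0,1,2,3], !![0,1,0,1,1,0;0,0,1,0,0,0;0,1,0,1,0,1;1,1,1,1,0,0;0,1,0,1,0,0;0,0,1,1,1,1]),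
   (![2,3,1,0,4,5,6,7], !![0,1,0,1,1,0;1,1,1,1,0,0;1,0,0,1,0,0;1,1,1,0,0,1;1,0,0,1,0,1;0,1,1,0,1,1]),
   (![6,7,4,5,0,1,2,3], !![1,0,0,0,0,0;1,0,0,1,0,0;0,1,1,1,1,0;1,1,0,1,1,1;0,0,0,1,0,1;1,0,0,0,1,1]),
   (![4,5,6,7,1,0,2,3], !![0,1,0,1,1,0;1,1,1,0,1,1;0,1,0,0,0,0;1,1,1,0,0,1;1,0,0,0,1,0;0,0,1,0,1,0]),
   (![4,5,6,7,2,3,0,1], !![1,0,0,0,0,0;1,1,0,1,0,1;0,1,1,1,1,0;1,1,0,0,0,0;0,1,0,0,1,1;1,1,0,0,1,0]),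
   (![3,2,1,0,4,5,6,7], !![1,0,0,0,0,0;1,1,0,1,1,1;1,0,1,1,1,1;0,0,0,1,0,0;1,0,0,1,0,1;1,0,0,1,1,0]),
   (![7,6,4,5,0,1,2,3], !![0,1,0,1,1,0;1,0,1,1,1,1;0,1,0,1,0,1;1,1,1,1,0,0;1,1,0,0,1,1;1,0,1,0,0,0]),
   (![5,4,6,7,1,0,2,3], !![1,0,0,0,0,0;1,1,0,0,0,0;1,0,1,1,0,1;0,0,0,1,0,0;1,0,0,0,1,0;0,0,0,0,0,1]),
   (![5,4,6,7,2,3,0,1], !![0,1,0,1,1,0;0,0,1,0,0,0;0,1,0,1,0,1;1,1,1,0,1,1;0,1,0,0,1,1;0,0,1,1,1,1]),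
   (![0,1,3,2,4,5,6,7], !![0,1,0,1,1,0;1,1,1,1,0,0;1,0,0,1,0,0;0,1,1,1,1,0;0,0,0,0,1,0;0,1,1,0,1,1]),
   (![6,7,5,4,0,1,2,3], !![0,1,0,1,1,0;0,0,1,0,0,0;0,0,0,1,0,0;1,0,1,1,0,1;0,0,0,1,0,1;0,0,1,1,1,1]),
   (![6,7,4,5,1,0,2,3], !![0,1,0,1,1,0;1,0,1,0,1,0;0,1,0,0,0,0;1,1,1,0,0,1;1,1,0,0,1,1;0,1,1,0,1,1]),
   (![6,7,4,5,2,3,0,1], !![1,0,0,0,0,0;1,0,0,1,0,0;0,1,1,1,1,0;1,1,0,0,0,0;0,0,0,0,1,0;1,0,0,0,1,1]),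
   (![4,5,6,7,3,2,0,1], !![0,1,0,1,1,0;1,1,1,0,1,1;0,1,0,0,0,0;0,0,1,0,0,0;0,1,0,0,1,1;0,0,1,0,1,0]),
   (![0,1,2,3,5,4,6,7], !![0,1,0,1,1,0;0,1,1,1,1,0;1,1,0,0,0,0;1,1,1,1,0,0;0,0,0,0,1,0;0,0,1,1,1,1]),
   (![4,5,6,7,2,3,1,0], !![0,1,0,1,1,0;1,1,1,1,0,0;0,1,0,1,1,1;1,1,1,0,0,1;1,0,0,1,0,1;0,0,1,1,0,1]),
   (![0,1,2,3,6,7,4,5], !![1,0,0,0,0,0;0,1,0,1,1,1;0,0,1,0,0,0;0,0,0,1,0,0;0,0,0,1,0,1;0,0,0,1,1,0]),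
   (![1,0,3,2,4,5,6,7], !![1,0,0,0,0,0;1,1,0,1,1,1;1,0,1,1,1,1;0,1,0,1,0,1;1,1,0,1,0,0;1,0,0,1,1,0]),
   (![7,6,5,4,0,1,2,3], !![1,0,0,0,0,0;1,1,0,1,0,1;1,1,1,0,0,1;0,1,0,0,0,0;1,1,0,0,1,1;1,1,0,0,1,0]),
   (![7,6,4,5,1,0,2,3], !![1,0,0,0,0,0;0,1,0,1,1,1;1,0,1,1,0,1;0,0,0,1,0,0;0,0,0,1,0,1;1,0,0,1,1,0]),
   (![7,6,4,5,2,3,0,1], !![0,1,0,1,1,0;1,0,1,1,1,1;0,1,0,1,0,1;1,1,1,0,1,1;1,1,0,1,0,0;1,0,1,0,0,0]),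
   (![5,4,6,7,3,2,0,1], !![1,0,0,0,0,0;1,1,0,0,0,0;1,0,1,1,0,1;1,1,0,1,0,1;0,1,0,0,1,1;0,0,0,0,0,1]),
   (![1,0,2,3,5,4,6,7], !![1,0,0,0,0,0;0,1,0,1,0,1;1,1,1,0,1,1;1,1,0,1,1,1;1,1,0,1,0,0;1,1,0,0,1,0]),
   (![5,4,6,7,2,3,1,0], !![1,0,0,0,0,0;1,1,0,1,1,1;1,0,1,0,1,0;0,0,0,1,0,0;1,0,0,1,0,1;0,0,0,1,1,0]),
   (![1,0,2,3,6,7,4,5], !![0,1,0,1,1,0;1,0,1,0,1,0;1,1,0,1,0,1;1,1,1,0,0,1;1,1,0,0,1,1;0,0,1,1,0,1]),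
   (![4,5,7,6,0,1,2,3], !![0,1,0,1,1,0;1,0,1,1,1,1;0,0,0,1,0,0;1,0,1,1,0,1;1,0,0,0,1,0;1,0,1,0,0,0]),
   (![6,7,5,4,1,0,2,3], !![1,0,0,0,0,0;1,1,0,0,0,0;1,1,1,1,0,0;0,1,0,1,0,1;1,1,0,0,1,1;0,0,0,0,0,1]),
   (![6,7,5,4,2,3,0,1], !![0,1,0,1,1,0;0,0,1,0,0,0;0,0,0,1,0,0;1,0,1,0,1,0;0,0,0,0,1,0;0,0,1,1,1,1]),
   (![6,7,4,5,3,2,0,1], !![0,1,0,1,1,0;1,0,1,0,1,0;0,1,0,0,0,0;0,0,1,0,0,0;0,0,0,0,1,0;0,1,1,0,1,1]),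
   (![2,3,0,1,5,4,6,7], !![0,1,0,1,1,0;0,1,1,1,1,0;1,1,0,0,0,0;1,0,1,1,0,1;0,1,0,0,1,1;0,0,1,1,1,1]),
   (![6,7,4,5,2,3,1,0], !![0,1,0,1,1,0;1,0,1,1,0,1;0,1,0,1,1,1;1,1,1,0,0,1;1,1,0,1,0,0;0,1,1,1,0,0]),
   (![2,3,0,1,6,7,4,5], !![1,0,0,0,0,0;0,1,0,1,1,1;0,0,1,0,0,0;0,1,0,1,0,1;0,1,0,1,0,0;0,0,0,1,1,0]),
   (![4,5,6,7,3,2,1,0], !![1,0,0,0,0,0;0,0,0,1,0,0;1,0,1,1,1,1;1,1,0,1,1,1;1,0,0,1,0,1;0,0,0,0,1,1]),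
   (![0,1,2,3,7,6,4,5], !![0,1,0,1,1,0;1,0,1,1,1,1;1,1,0,0,0,0;1,1,1,1,0,0;1,1,0,0,1,1;1,1,1,1,1,0]),
   (![4,5,6,7,0,1,3,2], !![0,1,0,1,1,0;1,1,1,1,0,0;0,1,0,1,1,1;0,0,1,0,0,0;0,1,0,1,0,0;0,0,1,1,0,1]),
   (![0,1,2,3,6,7,5,4], !![0,1,0,1,1,0;0,1,1,1,1,0;1,1,0,1,1,1;1,1,1,0,1,1;0,0,0,1,0,1;0,0,1,1,1,1]),
   (![5,4,7,6,0,1,2,3], !![1,0,0,0,0,0;1,0,0,1,0,0;1,1,1,0,0,1;0,1,0,0,0,0;1,0,0,0,1,0;1,0,0,0,1,1]),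
   (![7,6,5,4,1,0,2,3], !![0,1,0,1,1,0;1,1,1,0,1,1;1,1,0,1,1,1;0,1,1,1,1,0;0,0,0,1,0,1;0,0,1,0,1,0]),
   (![7,6,5,4,2,3,0,1], !![1,0,0,0,0,0;1,1,0,1,0,1;1,1,1,0,0,1;0,1,0,1,1,1;1,1,0,1,0,0;1,1,0,0,1,0]),
   (![7,6,4,5,3,2,0,1], !![1,0,0,0,0,0;0,1,0,1,1,1;1,0,1,1,0,1;1,1,0,1,0,1;1,1,0,1,0,0;1,0,0,1,1,0]),
   (![3,2,0,1,5,4,6,7], !![1,0,0,0,0,0;0,1,0,1,0,1;1,1,1,0,1,1;0,1,0,0,0,0;0,1,0,0,1,1;1,1,0,0,1,0]),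
   (![7,6,4,5,2,3,1,0], !![1,0,0,0,0,0;0,1,0,0,0,0;1,0,1,0,1,0;0,0,0,1,0,0;0,0,0,0,1,0;1,0,0,0,0,1]),
   (![3,2,0,1,6,7,4,5], !![0,1,0,1,1,0;1,0,1,0,1,0;1,1,0,1,0,1;0,1,1,1,1,0;0,1,0,1,0,0;0,0,1,1,0,1]),
   (![5,4,6,7,3,2,1,0], !![0,1,0,1,1,0;1,1,1,0,0,1;1,0,0,1,0,0;1,1,1,1,0,0;1,0,0,1,0,1;1,1,1,1,1,0]),
   (![1,0,2,3,7,6,4,5], !![1,0,0,0,0,0;1,0,0,1,0,0;1,1,1,0,1,1;1,1,0,1,1,1;0,0,0,1,0,1;0,0,0,0,1,1]),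
   (![5,4,6,7,0,1,3,2], !![1,0,0,0,0,0;1,1,0,1,1,1;1,0,1,0,1,0;1,1,0,1,0,1;0,1,0,1,0,0;0,0,0,1,1,0]),
   (![1,0,2,3,6,7,5,4], !![1,0,0,0,0,0;0,1,0,1,0,1;1,1,1,1,0,0;1,1,0,0,0,0;1,1,0,0,1,1;1,1,0,0,1,0]),
   (![4,5,7,6,1,0,2,3], !![1,0,0,0,0,0;0,1,0,1,1,1;1,1,1,1,0,0;0,1,0,1,0,1;0,1,0,1,0,0;1,0,0,1,1,0]),
   (![4,5,7,6,2,3,0,1], !![0,1,0,1,1,0;1,0,1,1,1,1;0,0,0,1,0,0;1,0,1,0,1,0;1,0,0,1,0,1;1,0,1,0,0,0]),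
   (![6,7,5,4,3,2,0,1], !![1,0,0,0,0,0;1,1,0,0,0,0;1,1,1,1,0,0;1,0,0,1,0,0;0,0,0,0,1,0;0,0,0,0,0,1]),
   (![2,3,1,0,5,4,6,7], !![1,0,0,0,0,0;0,0,0,1,0,0;1,0,1,0,1,0;1,1,0,1,1,1;1,0,0,1,0,1;1,0,0,0,1,1]),
   (![6,7,5,4,2,3,1,0], !![1,0,0,0,0,0;1,1,0,1,1,1;1,1,1,0,1,1;0,1,0,1,0,1;1,1,0,1,0,0;0,0,0,1,1,0]),
   (![2,3,1,0,6,7,4,5], !![0,1,0,1,1,0;1,1,1,0,1,1;1,0,0,1,0,0;1,1,1,0,0,1;1,0,0,0,1,0;0,1,1,1,0,0]),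
   (![6,7,4,5,3,2,1,0], !![1,0,0,0,0,0;0,1,0,1,0,1;1,0,1,1,1,1;1,1,0,1,1,1;1,1,0,1,0,0;0,1,0,0,1,0]),
   (![2,3,0,1,7,6,4,5], !![0,1,0,1,1,0;1,0,1,1,1,1;1,1,0,0,0,0;1,0,1,1,0,1;1,0,0,0,1,0;1,1,1,1,1,0]),
   (![6,7,4,5,0,1,3,2], !![0,1,0,1,1,0;1,0,1,1,0,1;0,1,0,1,1,1;0,0,1,0,0,0;0,0,0,1,0,1;0,1,1,1,0,0]),
   (![2,3,0,1,6,7,5,4], !![0,1,0,1,1,0;0,1,1,1,1,0;1,1,0,1,1,1;1,0,1,0,1,0;0,1,0,1,0,0;0,0,1,1,1,1]),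
   (![4,5,6,7,1,0,3,2], !![1,0,0,0,0,0;0,0,0,1,0,0;1,0,1,1,1,1;1,1,0,0,0,0;1,0,0,0,1,0;0,0,0,0,1,1]),
   (![0,1,2,3,7,6,5,4], !![1,0,0,0,0,0;0,1,0,0,0,0;1,1,1,0,0,1;1,1,0,1,0,1;1,1,0,0,1,1;0,0,0,0,0,1]),
   (![0,1,2,3,4,5,7,6], !![0,1,0,1,1,0;1,0,1,1,1,1;1,1,0,1,1,1;1,1,1,0,1,1;1,1,0,1,0,0;1,1,1,1,1,0]),
   (![5,4,7,6,1,0,2,3], !![0,1,0,1,1,0;1,0,1,0,1,0;1,1,0,1,1,1;0,1,1,1,1,0;0,1,0,1,0,0;0,1,1,0,1,1]),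
   (![5,4,7,6,2,3,0,1], !![1,0,0,0,0,0;1,0,0,1,0,0;1,1,1,0,0,1;0,1,0,1,1,1;1,0,0,1,0,1;1,0,0,0,1,1]),
   (![7,6,5,4,3,2,0,1], !![0,1,0,1,1,0;1,1,1,0,1,1;1,1,0,1,1,1;1,0,1,1,1,1;1,1,0,1,0,0;0,0,1,0,1,0]),
   (![3,2,1,0,5,4,6,7], !![0,1,0,1,1,0;1,1,1,0,0,1;0,1,0,1,1,1;1,1,1,1,0,0;1,0,0,1,0,1;1,0,1,0,0,0]),
   (![7,6,5,4,2,3,1,0], !![0,1,0,1,1,0;1,1,1,1,0,0;1,1,0,0,0,0;0,1,1,1,1,0;0,0,0,0,1,0;0,0,1,1,0,1]),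
   (![3,2,1,0,6,7,4,5], !![1,0,0,0,0,0;1,1,0,0,0,0;1,0,1,1,1,1;0,0,0,1,0,0;1,0,0,0,1,0;1,0,0,0,0,1]),
   (![7,6,4,5,3,2,1,0], !![0,1,0,1,1,0;0,1,1,1,1,0;1,0,0,1,0,0;1,1,1,1,0,0;0,0,0,0,1,0;0,1,1,0,0,1]),
   (![3,2,0,1,7,6,4,5], !![1,0,0,0,0,0;1,0,0,1,0,0;1,1,1,0,1,1;0,1,0,0,0,0;1,0,0,0,1,0;0,0,0,0,1,1]),
   (![7,6,4,5,0,1,3,2], !![1,0,0,0,0,0;0,1,0,0,0,0;1,0,1,0,1,0;1,1,0,1,0,1;1,1,0,0,1,1;1,0,0,0,0,1]),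
   (![3,2,0,1,6,7,5,4], !![1,0,0,0,0,0;0,1,0,1,0,1;1,1,1,1,0,0;0,1,0,1,1,1;0,1,0,1,0,0;1,1,0,0,1,0]),
   (![5,4,6,7,1,0,3,2], !![0,1,0,1,1,0;1,1,1,0,0,1;1,0,0,1,0,0;1,1,1,0,1,1;1,0,0,0,1,0;1,1,1,1,1,0]),
   (![1,0,2,3,7,6,5,4], !![0,1,0,1,1,0;1,0,1,1,0,1;0,0,0,1,0,0;0,0,1,0,0,0;0,0,0,1,0,1;0,0,1,0,1,0]),
   (![1,0,2,3,4,5,7,6], !![1,0,0,0,0,0;1,0,0,1,0,0;1,1,1,1,0,0;1,1,0,0,0,0;0,0,0,0,1,0;0,0,0,0,1,1]),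
   (![4,5,7,6,3,2,0,1], !![1,0,0,0,0,0;0,1,0,1,1,1;1,1,1,1,0,0;1,0,0,1,0,0;1,0,0,1,0,1;1,0,0,1,1,0]),
   (![0,1,3,2,5,4,6,7], !![1,0,0,0,0,0;0,0,0,1,0,0;1,0,1,0,1,0;0,1,0,0,0,0;0,0,0,0,1,0;1,0,0,0,1,1]),
   (![4,5,7,6,2,3,1,0], !![1,0,0,0,0,0;0,1,0,0,0,0;1,1,1,0,1,1;0,1,0,1,0,1;0,1,0,0,1,1;1,0,0,0,0,1]),
   (![0,1,3,2,6,7,4,5], !![0,1,0,1,1,0;1,1,1,0,1,1;1,0,0,1,0,0;0,1,1,1,1,0;0,0,0,1,0,1;0,1,1,1,0,0]),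
   (![6,7,5,4,3,2,1,0], !![0,1,0,1,1,0;1,1,1,0,0,1;1,1,0,1,0,1;1,0,1,1,0,1;1,1,0,1,0,0;1,1,1,1,1,0]),
   (![2,3,1,0,7,6,4,5], !![1,0,0,0,0,0;1,1,0,1,0,1;1,0,1,0,1,0;1,1,0,1,1,1;0,1,0,1,0,0;0,1,0,0,1,0]),
   (![6,7,5,4,0,1,3,2], !![1,0,0,0,0,0;1,1,0,1,1,1;1,1,1,0,1,1;1,0,0,1,0,0;0,0,0,1,0,1;0,0,0,1,1,0]),
   (![2,3,1,0,6,7,5,4], !![1,0,0,0,0,0;0,0,0,1,0,0;1,0,1,1,0,1;1,1,0,0,0,0;1,0,0,0,1,0;1,0,0,0,1,1]),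
   (![6,7,4,5,1,0,3,2], !![1,0,0,0,0,0;0,1,0,1,0,1;1,0,1,1,1,1;1,1,0,0,0,0;1,1,0,0,1,1;0,1,0,0,1,0]),
   (![2,3,0,1,7,6,5,4], !![1,0,0,0,0,0;0,1,0,0,0,0;1,1,1,0,0,1;1,0,0,1,0,0;1,0,0,0,1,0;0,0,0,0,0,1]),
   (![2,3,0,1,4,5,7,6], !![0,1,0,1,1,0;1,0,1,1,1,1;1,1,0,1,1,1;1,0,1,0,1,0;1,0,0,1,0,1;1,1,1,1,1,0]),
   (![0,1,2,3,5,4,7,6], !![1,0,0,0,0,0;0,1,0,1,1,1;1,1,1,0,0,1;1,1,0,1,0,1;1,1,0,1,0,0;0,0,0,1,1,0]),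
   (![5,4,7,6,3,2,0,1], !![0,1,0,1,1,0;1,0,1,0,1,0;1,1,0,1,1,1;1,0,1,1,1,1;1,0,0,1,0,1;0,1,1,0,1,1]),
   (![1,0,3,2,5,4,6,7], !![0,1,0,1,1,0;1,1,1,0,0,1;0,1,0,1,1,1;1,0,1,1,0,1;1,1,0,1,0,0;1,0,1,0,0,0]),
   (![5,4,7,6,2,3,1,0], !![0,1,0,1,1,0;1,0,1,1,0,1;1,1,0,0,0,0;0,1,1,1,1,0;0,1,0,0,1,1;0,1,1,1,0,0]),
   (![1,0,3,2,6,7,4,5], !![1,0,0,0,0,0;1,1,0,0,0,0;1,0,1,1,1,1;0,1,0,1,0,1;1,1,0,0,1,1;1,0,0,0,0,1]),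
   (![7,6,5,4,3,2,1,0], !![1,0,0,0,0,0;0,0,0,1,0,0;0,0,1,0,0,0;0,1,0,0,0,0;0,0,0,0,1,0;0,0,0,0,1,1]),
   (![3,2,1,0,7,6,4,5], !![0,1,0,1,1,0;0,0,1,0,0,0;0,1,0,1,1,1;1,1,1,1,0,0;0,1,0,1,0,0;0,1,1,0,0,1]),
   (![7,6,5,4,0,1,3,2], !![0,1,0,1,1,0;1,1,1,1,0,0;1,1,0,0,0,0;1,0,1,1,1,1;1,1,0,0,1,1;0,0,1,1,0,1]),
   (![3,2,1,0,6,7,5,4], !![0,1,0,1,1,0;1,1,1,0,0,1;0,1,0,0,0,0;1,1,1,0,1,1;1,0,0,0,1,0;1,0,1,0,0,0]),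
   (![7,6,4,5,1,0,3,2], !![0,1,0,1,1,0;0,1,1,1,1,0;1,0,0,1,0,0;1,1,1,0,1,1;0,0,0,1,0,1;0,1,1,0,0,1]),
   (![3,2,0,1,7,6,5,4], !![0,1,0,1,1,0;1,0,1,1,0,1;0,0,0,1,0,0;1,0,1,1,1,1;1,0,0,0,1,0;0,0,1,0,1,0]),
   (![3,2,0,1,4,5,7,6], !![1,0,0,0,0,0;1,0,0,1,0,0;1,1,1,1,0,0;0,1,0,1,1,1;1,0,0,1,0,1;0,0,0,0,1,1]),
   (![1,0,2,3,5,4,7,6], !![0,1,0,1,1,0;1,0,1,0,1,0;0,0,0,1,0,0;0,0,1,0,0,0;0,0,0,0,1,0;0,0,1,1,0,1]),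
   (![4,5,7,6,3,2,1,0], !![0,1,0,1,1,0;0,1,1,1,1,0;1,1,0,1,0,1;1,0,1,1,0,1;0,1,0,0,1,1;0,1,1,0,0,1]),
   (![0,1,3,2,7,6,4,5], !![1,0,0,0,0,0;1,1,0,1,0,1;1,0,1,0,1,0;0,1,0,0,0,0;1,1,0,0,1,1;0,1,0,0,1,0]),
   (![4,5,7,6,0,1,3,2], !![1,0,0,0,0,0;0,1,0,0,0,0;1,1,1,0,1,1;1,0,0,1,0,0;1,0,0,0,1,0;1,0,0,0,0,1]),
   (![0,1,3,2,6,7,5,4], !![1,0,0,0,0,0;0,0,0,1,0,0;1,0,1,1,0,1;0,1,0,1,1,1;0,0,0,1,0,1;1,0,0,0,1,1]),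
   (![6,7,5,4,1,0,3,2], !![0,1,0,1,1,0;1,1,1,0,0,1;1,1,0,1,0,1;1,0,1,0,1,0;1,1,0,0,1,1;1,1,1,1,1,0]),
   (![2,3,1,0,7,6,5,4], !![0,1,0,1,1,0;1,1,1,1,0,0;0,1,0,1,0,1;0,0,1,0,0,0;0,1,0,1,0,0;0,1,1,0,1,1]),
   (![2,3,1,0,4,5,7,6], !![1,0,0,0,0,0;1,1,0,1,0,1;1,0,1,1,0,1;1,1,0,0,0,0;0,1,0,0,1,1;0,1,0,0,1,0]),
   (![2,3,0,1,5,4,7,6], !![1,0,0,0,0,0;0,1,0,1,1,1;1,1,1,0,0,1;1,0,0,1,0,0;1,0,0,1,0,1;0,0,0,1,1,0]),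
   (![5,4,7,6,3,2,1,0], !![1,0,0,0,0,0;0,1,0,1,0,1;0,0,1,0,0,0;0,1,0,0,0,0;0,1,0,0,1,1;0,1,0,0,1,0]),
   (![1,0,3,2,7,6,4,5], !![0,1,0,1,1,0;0,0,1,0,0,0;0,1,0,1,1,1;1,0,1,1,0,1;0,0,0,1,0,1;0,1,1,0,0,1]),
   (![5,4,7,6,0,1,3,2], !![0,1,0,1,1,0;1,0,1,1,0,1;1,1,0,0,0,0;1,0,1,1,1,1;1,0,0,0,1,0;0,1,1,1,0,0]),
   (![1,0,3,2,6,7,5,4], !![0,1,0,1,1,0;1,1,1,0,0,1;0,1,0,0,0,0;1,0,1,0,1,0;1,1,0,0,1,1;1,0,1,0,0,0]),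
   (![7,6,5,4,1,0,3,2], !![1,0,0,0,0,0;0,0,0,1,0,0;0,0,1,0,0,0;0,1,0,1,1,1;0,0,0,1,0,1;0,0,0,0,1,1]),
   (![3,2,1,0,7,6,5,4], !![1,0,0,0,0,0;1,1,0,1,1,1;0,1,1,1,1,0;1,1,0,1,0,1;0,1,0,1,0,0;1,0,0,1,1,0]),
   (![3,2,1,0,4,5,7,6], !![0,1,0,1,1,0;0,0,1,0,0,0;0,1,0,0,0,0;1,1,1,0,1,1;0,1,0,0,1,1;0,1,1,0,0,1]),
   (![3,2,0,1,5,4,7,6], !![0,1,0,1,1,0;1,0,1,0,1,0;0,0,0,1,0,0;1,0,1,1,1,1;1,0,0,1,0,1;0,0,1,1,0,1]),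
   (![4,5,7,6,1,0,3,2], !![0,1,0,1,1,0;0,1,1,1,1,0;1,1,0,1,0,1;1,0,1,0,1,0;0,1,0,1,0,0;0,1,1,0,0,1]),
   (![0,1,3,2,7,6,5,4], !![0,1,0,1,1,0;1,1,1,1,0,0;0,1,0,1,0,1;1,0,1,1,1,1;1,1,0,0,1,1;0,1,1,0,1,1]),
   (![0,1,3,2,4,5,7,6], !![1,0,0,0,0,0;1,1,0,1,0,1;1,0,1,1,0,1;0,1,0,1,1,1;1,1,0,1,0,0;0,1,0,0,1,0]),
   (![2,3,1,0,5,4,7,6], !![0,1,0,1,1,0;1,1,1,0,1,1;0,1,0,1,0,1;0,0,1,0,0,0;0,1,0,0,1,1;0,1,1,1,0,0]),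
   (![5,4,7,6,1,0,3,2], !![1,0,0,0,0,0;0,1,0,1,0,1;0,0,1,0,0,0;0,1,0,1,1,1;0,1,0,1,0,0;0,1,0,0,1,0]),
   (![1,0,3,2,7,6,5,4], !![1,0,0,0,0,0;1,1,0,1,1,1;0,1,1,1,1,0;1,0,0,1,0,0;0,0,0,1,0,1;1,0,0,1,1,0]),
   (![1,0,3,2,4,5,7,6], !![0,1,0,1,1,0;0,0,1,0,0,0;0,1,0,0,0,0;1,0,1,0,1,0;0,0,0,0,1,0;0,1,1,0,0,1]),
   (![3,2,1,0,5,4,7,6], !![1,0,0,0,0,0;1,1,0,0,0,0;0,1,1,1,1,0;1,1,0,1,0,1;0,1,0,0,1,1;1,0,0,0,0,1]),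
   (![0,1,3,2,5,4,7,6], !![0,1,0,1,1,0;1,1,1,0,1,1;0,1,0,1,0,1;1,0,1,1,1,1;1,1,0,1,0,0;0,1,1,1,0,0]),
   (![1,0,3,2,5,4,7,6], !![1,0,0,0,0,0;1,1,0,0,0,0;0,1,1,1,1,0;1,0,0,1,0,0;0,0,0,0,1,0;1,0,0,0,0,1])]

set_option maxRecDepth 100000 in
theorem W2_ev : W2.map ev2 = L2 := by decide +kernel

set_option maxRecDepth 100000 in
theorem L2_nodup : L2.Nodup := by decide +kernel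

/-- pointwise equality of raw pairs -/
def eqRP2 (x y : RP2) : Prop := (∀ i : Fin 8, x.1 i = y.1 i) ∧ (∀ i j : Fin 6, x.2 i j = y.2 i j)

instance (x y : RP2) : Decidable (eqRP2 x y) := by unfold eqRP2; infer_instance

theorem eq_of_eqRP2 {x y : RP2} (h : eqRP2 x y) : x = y := by
  obtain ⟨h1, h2⟩ := h
  refine Prod.ext (funext h1) (funext fun i => funext fun j => h2 i j)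

/-- the multiplication table of the generators on the list -/
def tbl2 : Fin 3 → List ℕ :=
  ![[1,0,6,8,10,12,2,16,3,20,4,24,5,28,22,31,7,35,37,27,9,29,14,42,11,46,48,19,13,21,52,15,56,58,55,17,57,18,49,62,51,65,23,69,71,68,25,70,26,38,75,40,30,80,82,34,32,36,33,83,86,85,39,76,77,41,92,94,45,43,47,44,95,98,97,50,63,64,102,91,53,93,54,59,106,61,60,107,108,101,110,79,66,81,67,72,114,74,73,115,116,89,78,111,118,113,84,87,88,121,90,103,122,105,96,99,100,125,104,123,124,109,112,119,120,117,127,126],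
    [2,4,0,9,1,13,14,17,18,3,22,25,26,5,6,32,33,7,8,34,39,36,10,43,44,11,12,45,50,47,53,54,15,16,19,60,21,62,59,20,61,66,67,23,24,27,73,29,75,72,28,74,78,30,31,79,84,81,86,38,35,40,37,87,88,90,41,42,91,96,93,98,49,46,51,48,99,100,52,55,104,57,106,103,56,105,58,63,64,109,65,68,112,70,114,111,69,113,71,76,77,117,118,83,80,85,82,119,120,89,122,95,92,97,94,123,124,101,102,107,108,126,110,115,116,127,121,125],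
    [3,5,7,0,11,1,15,2,19,21,23,4,27,29,30,6,34,36,38,8,40,9,41,10,45,47,49,12,51,13,14,55,57,59,16,61,17,63,18,64,20,22,68,70,72,24,74,25,76,26,77,28,79,81,83,31,85,32,87,33,88,35,89,37,39,91,93,95,42,97,43,99,44,100,46,101,48,50,103,52,105,53,107,54,108,56,109,58,60,62,111,65,113,66,115,67,116,69,117,71,73,75,119,78,120,80,121,82,84,86,123,90,124,92,125,94,96,98,126,102,104,106,127,110,112,114,118,122]]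

/-- the statement checked by the kernel -/
def closedAt2 (k : Fin 3) (i : ℕ) : Prop :=
  eqRP2 (rmul2 (rgen2 k) (L2.getD i rone2)) (L2.getD ((tbl2 k).getD i 0) rone2)

instance (k : Fin 3) (i : ℕ) : Decidable (closedAt2 k i) := by unfold closedAt2; infer_instance

set_option maxRecDepth 100000 in
theorem L2_closed_aux : ∀ k : Fin 3, ∀ i < 128, closedAt2 k i := by decide +kernel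

/-- pointwise equality of raw matrices -/
def eqM6 (A B : Fin 6 → Fin 6 → ZMod 2) : Prop := ∀ i j : Fin 6, A i j = B i j

instance (A B : Fin 6 → Fin 6 → ZMod 2) : Decidable (eqM6 A B) := by unfold eqM6; infer_instance

theorem eqM6_iff {A B : Fin 6 → Fin 6 → ZMod 2} : eqM6 A B ↔ A = B :=
  ⟨fun h => funext fun i => funext fun j => h i j, fun h i j => by rw [h]⟩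

/-- the kernel statement at an index -/
def kerAt2 (i : ℕ) : Prop :=
  (isId8 (L2.getD i rone2).1 → eqRP2 (L2.getD i rone2) rone2) ∧
    (eqM6 (L2.getD i rone2).2 rone2.2 → eqRP2 (L2.getD i rone2) rone2)

instance (i : ℕ) : Decidable (kerAt2 i) := by unfold kerAt2; infer_instance

set_option maxRecDepth 100000 in
theorem L2_ker_idx : ∀ i < 128, kerAt2 i := by decide +kernel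

set_option maxRecDepth 100000 in
theorem L2_length : L2.length = 128 := by decide

theorem L2_ker : ∀ x ∈ L2, (x.1 = rone2.1 → x = rone2) ∧ (x.2 = rone2.2 → x = rone2) := by
  refine forall_mem_of_forall_lt L2 rone2 128 L2_length _ ?_
  intro i hi
  have h := L2_ker_idx i hi
  unfold kerAt2 at h
  rw [isId8_iff, eqM6_iff] at h
  exact ⟨fun h1 => eq_of_eqRP2 (h.1 h1), fun h2 => eq_of_eqRP2 (h.2 h2)⟩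

theorem L2_one_mem : rone2 ∈ L2 := by
  rw [← W2_ev]
  exact List.mem_map.2 ⟨[], by decide, rfl⟩

theorem L2_closed : ∀ k : Fin 3, ∀ x ∈ L2, rmul2 (rgen2 k) x ∈ L2 := by
  intro k
  refine forall_mem_of_forall_lt L2 rone2 128 L2_length _ ?_
  intro i hi
  have h := L2_closed_aux k i hi
  unfold closedAt2 at h
  rw [eq_of_eqRP2 h]
  exact getD_mem_of_mem L2 rone2 L2_one_mem _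

end Cfsg.Agent.Lib.Helper7.Syl8
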