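import Mathlib
import Cfsg.Agent.Lib.Helper7.Syl8A

/-!
# Data for `Syl₂(A₈) ≅ Syl₂(PSp₄(3))` (helper7)

A list of `128` pairs (even permutation of `8` points, symplectic `4 × 4` matrix over `𝔽₃`), closed under
left multiplication by four generating pairs; found by a computer search outside Lean, checked here by the
kernel.
-/

set_option autoImplicit false

namespace Cfsg.Agent.Lib.Helper7.Syl8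

/-- raw pairs -/
abbrev RP1 : Type := (Fin 8 → Fin 8) × (Fin 4 → Fin 4 → ZMod 3)

/-- explicit product of `4 × 4` matrices -/
def mul4 {R : Type*} [Mul R] [Add R] (A B : Fin 4 → Fin 4 → R) : Fin 4 → Fin 4 → R :=
  fun i j => A i 0 * B 0 j + A i 1 * B 1 j + A i 2 * B 2 j + A i 3 * B 3 j

/-- the raw product -/
def rmul1 (x y : RP1) : RP1 := (fun i => x.1 (y.1 i), mul4 x.2 y.2)

/-- the raw identity matrix -/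
def one4 : Fin 4 → Fin 4 → ZMod 3 := !![1,0,0,0;0,1,0,0;0,0,1,0;0,0,0,1]

/-- the raw matrix `-1` -/
def neg4 : Fin 4 → Fin 4 → ZMod 3 := !![2,0,0,0;0,2,0,0;0,0,2,0;0,0,0,2]

/-- the raw matrix of the symplectic form -/
def j4 : Fin 4 → Fin 4 → ZMod 3 := !![0,0,2,0;0,0,0,2;1,0,0,0;0,1,0,0]

/-- the raw identity -/
def rone1 : RP1 := (fun i => i, one4)

/-- the raw generators -/
def rgen1 : Fin 4 → RP1 :=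
  ![(![0,1,2,3,6,7,4,5], !![0,1,0,0;1,0,0,0;0,0,0,1;0,0,1,0]),
    (![0,1,3,2,4,5,7,6], !![1,1,0,0;1,2,0,0;2,0,2,2;0,2,2,1]),
    (![4,5,6,7,0,1,2,3], !![0,1,0,1;2,1,1,1;1,0,0,1;0,2,2,2]),
    (![0,1,2,3,4,5,6,7], !![2,0,0,0;0,2,0,0;0,0,2,0;0,0,0,2])]

/-- evaluation of a word -/
def ev1 : List (Fin 4) → RP1
  | [] => rone1
  | k :: w => rmul1 (rgen1 k) (ev1 w)

/-- the words -/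
def W1 : List (List (Fin 4)) :=
  [[],
  [0],
  [1],
  [2],
  [3],
  [1,0],
  [2,0],
  [3,0],
  [0,1],
  [2,1],
  [3,1],
  [0,2],
  [1,2],
  [3,2],
  [0,1,0],
  [2,1,0],
  [3,1,0],
  [0,2,0],
  [1,2,0],
  [3,2,0],
  [1,0,1],
  [2,0,1],
  [3,0,1],
  [0,2,1],
  [1,0,2],
  [2,0,2],
  [3,0,2],
  [0,1,2],
  [1,0,1,0],
  [2,0,1,0],
  [3,0,1,0],
  [0,2,1,0],
  [1,0,2,0],
  [2,0,2,0],
  [3,0,2,0],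
  [0,1,2,0],
  [0,1,0,1],
  [2,1,0,1],
  [3,1,0,1],
  [0,2,0,1],
  [1,2,0,1],
  [3,2,0,1],
  [1,0,2,1],
  [2,0,2,1],
  [0,1,0,2],
  [2,1,0,2],
  [3,1,0,2],
  [0,2,0,2],
  [1,2,0,2],
  [3,2,0,2],
  [1,0,1,2],
  [2,0,1,2],
  [2,1,0,1,0],
  [0,2,0,1,0],
  [1,2,0,1,0],
  [3,2,0,1,0],
  [1,0,2,1,0],
  [2,0,2,1,0],
  [0,1,0,2,0],
  [2,1,0,2,0],
  [3,1,0,2,0],
  [1,2,0,2,0],
  [1,0,1,2,0],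
  [2,0,1,2,0],
  [0,2,1,0,1],
  [1,0,2,0,1],
  [2,0,2,0,1],
  [3,0,2,0,1],
  [0,1,2,0,1],
  [0,1,0,2,1],
  [2,1,0,2,1],
  [0,2,0,2,1],
  [1,2,0,2,1],
  [2,0,1,0,2],
  [3,0,1,0,2],
  [0,2,1,0,2],
  [0,1,2,0,2],
  [0,1,0,1,2],
  [0,2,1,0,1,0],
  [1,0,2,0,1,0],
  [2,0,2,0,1,0],
  [3,0,2,0,1,0],
  [0,1,2,0,1,0],
  [0,1,0,2,1,0],
  [2,1,0,2,1,0],
  [0,2,0,2,1,0],
  [1,2,0,2,1,0],
  [2,0,1,0,2,0],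
  [3,0,1,0,2,0],
  [0,2,1,0,2,0],
  [0,1,2,0,2,0],
  [0,1,0,1,2,0],
  [1,0,2,1,0,1],
  [2,0,2,1,0,1],
  [0,1,0,2,0,1],
  [2,1,0,2,0,1],
  [3,1,0,2,0,1],
  [1,2,0,2,0,1],
  [1,0,1,2,0,1],
  [2,0,1,2,0,1],
  [2,0,1,0,2,1],
  [0,2,0,1,0,2],
  [1,2,0,1,0,2],
  [3,2,0,1,0,2],
  [1,0,2,1,0,1,0],
  [2,0,2,1,0,1,0],
  [0,1,0,2,0,1,0],
  [2,1,0,2,0,1,0],
  [3,1,0,2,0,1,0],
  [1,2,0,2,0,1,0],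
  [1,0,1,2,0,1,0],
  [2,0,1,2,0,1,0],
  [2,0,1,0,2,1,0],
  [0,2,0,1,0,2,0],
  [1,2,0,1,0,2,0],
  [3,2,0,1,0,2,0],
  [0,1,0,2,1,0,1],
  [2,0,1,0,2,0,1],
  [3,0,1,0,2,0,1],
  [0,1,0,1,2,0,1],
  [1,0,2,0,1,0,2],
  [3,0,2,0,1,0,2],
  [0,1,0,2,1,0,1,0],
  [2,0,1,0,2,0,1,0],
  [3,0,1,0,2,0,1,0],
  [0,1,0,1,2,0,1,0],
  [1,0,2,0,1,0,2,0],
  [3,0,2,0,1,0,2,0]]

set_option maxHeartbeats 4000000 in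
/-- the list of raw elements -/
def L1 : List RP1 :=
  [(![0,1,2,3,4,5,6,7], !![1,0,0,0;0,1,0,0;0,0,1,0;0,0,0,1]),
   (![0,1,2,3,6,7,4,5], !![0,1,0,0;1,0,0,0;0,0,0,1;0,0,1,0]),
   (![0,1,3,2,4,5,7,6], !![1,1,0,0;1,2,0,0;2,0,2,2;0,2,2,1]),
   (![4,5,6,7,0,1,2,3], !![0,1,0,1;2,1,1,1;1,0,0,1;0,2,2,2]),
   (![0,1,2,3,4,5,6,7], !![2,0,0,0;0,2,0,0;0,0,2,0;0,0,0,2]),
   (![0,1,3,2,7,6,4,5], !![1,1,0,0;2,1,0,0;0,2,2,2;2,0,1,2]),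
   (![4,5,6,7,2,3,0,1], !![1,0,1,0;1,2,1,1;0,1,1,0;2,0,2,2]),
   (![0,1,2,3,6,7,4,5], !![0,2,0,0;2,0,0,0;0,0,0,2;0,0,2,0]),
   (![0,1,3,2,6,7,5,4], !![1,2,0,0;1,1,0,0;0,2,2,1;2,0,2,2]),
   (![4,5,7,6,0,1,3,2], !![1,1,2,1;2,0,1,0;1,0,2,1;0,2,2,0]),
   (![0,1,3,2,4,5,7,6], !![2,2,0,0;2,1,0,0;1,0,1,1;0,1,1,2]),
   (![6,7,4,5,0,1,2,3], !![2,1,1,1;0,1,0,1;0,2,2,2;1,0,0,1]),
   (![4,5,7,6,0,1,3,2], !![2,2,1,2;1,0,2,0;2,0,1,2;0,1,1,0]),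
   (![4,5,6,7,0,1,2,3], !![0,2,0,2;1,2,2,2;2,0,0,2;0,1,1,1]),
   (![0,1,3,2,5,4,6,7], !![2,1,0,0;1,1,0,0;2,0,1,2;0,2,2,2]),
   (![4,5,7,6,3,2,0,1], !![1,1,1,2;0,2,0,1;0,1,1,2;2,0,0,2]),
   (![0,1,3,2,7,6,4,5], !![2,2,0,0;1,2,0,0;0,1,1,1;1,0,2,1]),
   (![6,7,4,5,2,3,0,1], !![1,2,1,1;1,0,1,0;2,0,2,2;0,1,1,0]),
   (![4,5,7,6,3,2,0,1], !![2,2,2,1;0,1,0,2;0,2,2,1;1,0,0,1]),
   (![4,5,6,7,2,3,0,1], !![2,0,2,0;2,1,2,2;0,2,2,0;1,0,1,1]),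
   (![0,1,2,3,7,6,5,4], !![2,0,0,0;0,1,0,0;0,2,2,0;1,0,0,1]),
   (![4,5,7,6,2,3,1,0], !![0,1,2,2;2,1,1,0;0,2,2,2;0,0,2,0]),
   (![0,1,3,2,6,7,5,4], !![2,1,0,0;2,2,0,0;0,1,1,2;1,0,1,1]),
   (![6,7,5,4,0,1,3,2], !![2,0,1,0;1,1,2,1;0,2,2,0;1,0,2,1]),
   (![7,6,4,5,0,1,3,2], !![2,2,1,2;2,0,1,0;0,0,0,2;1,0,1,1]),
   (![2,3,0,1,4,5,6,7], !![1,1,0,2;2,2,1,0;0,1,1,2;2,0,1,2]),
   (![6,7,4,5,0,1,2,3], !![1,2,2,2;0,2,0,2;0,1,1,1;2,0,0,2]),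
   (![6,7,5,4,0,1,3,2], !![1,0,2,0;2,2,1,2;0,1,1,0;2,0,1,2]),
   (![0,1,2,3,5,4,7,6], !![0,2,0,0;1,0,0,0;2,0,0,2;0,1,1,0]),
   (![4,5,7,6,1,0,2,3], !![1,0,2,2;1,2,0,1;2,0,2,2;0,0,0,2]),
   (![0,1,3,2,5,4,6,7], !![1,2,0,0;2,2,0,0;1,0,2,1;0,1,1,1]),
   (![6,7,5,4,3,2,0,1], !![0,2,0,1;1,1,1,2;2,0,0,2;0,1,1,2]),
   (![7,6,4,5,3,2,0,1], !![2,2,2,1;0,2,0,1;0,0,2,0;0,1,1,1]),
   (![2,3,0,1,6,7,4,5], !![1,1,2,0;2,2,0,1;1,0,2,1;0,2,2,1]),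
   (![6,7,4,5,2,3,0,1], !![2,1,2,2;2,0,2,0;1,0,1,1;0,2,2,0]),
   (![6,7,5,4,3,2,0,1], !![0,1,0,2;2,2,2,1;1,0,0,1;0,2,2,1]),
   (![0,1,2,3,5,4,7,6], !![0,1,0,0;2,0,0,0;1,0,0,1;0,2,2,0]),
   (![4,5,6,7,3,2,1,0], !![1,1,0,1;2,0,2,1;0,0,0,1;2,0,1,2]),
   (![0,1,2,3,7,6,5,4], !![1,0,0,0;0,2,0,0;0,1,1,0;2,0,0,2]),
   (![6,7,5,4,2,3,1,0], !![2,1,1,0;0,1,2,2;0,0,2,0;0,2,2,2]),
   (![4,5,6,7,3,2,1,0], !![2,2,0,2;1,0,1,2;0,0,0,2;1,0,2,1]),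
   (![4,5,7,6,2,3,1,0], !![0,2,1,1;1,2,2,0;0,1,1,1;0,0,1,0]),
   (![7,6,5,4,0,1,2,3], !![0,1,0,1;1,2,2,2;0,1,1,2;0,0,1,0]),
   (![2,3,1,0,4,5,7,6], !![2,1,1,2;0,0,2,2;0,0,0,1;1,0,0,1]),
   (![5,4,6,7,0,1,3,2], !![2,0,1,0;2,2,1,2;1,0,1,1;0,0,0,2]),
   (![3,2,0,1,4,5,7,6], !![0,0,2,1;1,1,1,1;0,2,2,0;0,0,1,0]),
   (![7,6,4,5,0,1,3,2], !![1,1,2,1;1,0,2,0;0,0,0,1;2,0,2,2]),
   (![2,3,0,1,6,7,4,5], !![2,2,1,0;1,1,0,2;2,0,1,2;0,1,1,2]),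
   (![3,2,0,1,4,5,7,6], !![0,0,1,2;2,2,2,2;0,1,1,0;0,0,2,0]),
   (![2,3,0,1,4,5,6,7], !![2,2,0,1;1,1,2,0;0,2,2,1;1,0,2,1]),
   (![7,6,5,4,0,1,2,3], !![0,2,0,2;2,1,1,1;0,2,2,1;0,0,2,0]),
   (![2,3,1,0,4,5,7,6], !![1,2,2,1;0,0,1,1;0,0,0,2;2,0,0,2]),
   (![4,5,6,7,1,0,3,2], !![1,1,1,0;0,2,1,2;0,0,1,0;0,2,2,1]),
   (![6,7,5,4,1,0,2,3], !![1,2,0,1;1,0,2,2;0,0,0,2;2,0,2,2]),
   (![4,5,6,7,1,0,3,2], !![2,2,2,0;0,1,2,1;0,0,2,0;0,1,1,2]),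
   (![4,5,7,6,1,0,2,3], !![2,0,1,1;2,1,0,2;1,0,1,1;0,0,0,1]),
   (![7,6,5,4,2,3,0,1], !![1,0,1,0;2,1,2,2;1,0,2,1;0,0,0,1]),
   (![2,3,1,0,7,6,4,5], !![1,2,2,1;0,0,2,2;0,0,1,0;0,1,1,0]),
   (![5,4,6,7,3,2,0,1], !![0,2,0,1;2,2,2,1;0,1,1,1;0,0,2,0]),
   (![3,2,0,1,7,6,4,5], !![0,0,1,2;1,1,1,1;2,0,0,2;0,0,0,1]),
   (![7,6,4,5,3,2,0,1], !![1,1,1,2;0,1,0,2;0,0,1,0;0,2,2,2]),
   (![3,2,0,1,7,6,4,5], !![0,0,2,1;2,2,2,2;1,0,0,1;0,0,0,2]),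
   (![7,6,5,4,2,3,0,1], !![2,0,2,0;1,2,1,1;2,0,1,2;0,0,0,2]),
   (![2,3,1,0,7,6,4,5], !![2,1,1,2;0,0,1,1;0,0,2,0;0,2,2,0]),
   (![6,7,4,5,3,2,1,0], !![2,0,2,1;1,1,0,1;2,0,1,2;0,0,0,1]),
   (![7,6,5,4,3,2,1,0], !![2,2,0,2;2,0,2,1;1,0,1,1;0,1,1,0]),
   (![2,3,1,0,6,7,5,4], !![0,0,1,1;1,2,2,1;2,0,0,2;0,0,0,2]),
   (![6,7,5,4,2,3,1,0], !![1,2,2,0;0,2,1,1;0,0,1,0;0,1,1,1]),
   (![6,7,4,5,3,2,1,0], !![1,0,1,2;2,2,0,2;1,0,2,1;0,0,0,2]),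
   (![5,4,7,6,0,1,2,3], !![1,2,2,2;0,1,0,1;0,0,1,0;0,1,1,2]),
   (![3,2,1,0,4,5,6,7], !![1,2,0,2;1,2,1,0;0,1,1,1;2,0,2,2]),
   (![2,3,1,0,6,7,5,4], !![0,0,2,2;2,1,1,2;1,0,0,1;0,0,0,1]),
   (![3,2,1,0,4,5,6,7], !![2,1,0,1;2,1,2,0;0,2,2,2;1,0,1,1]),
   (![1,0,2,3,4,5,7,6], !![2,2,1,1;1,2,1,2;2,0,1,2;0,1,1,1]),
   (![5,4,6,7,0,1,3,2], !![1,0,2,0;1,1,2,1;2,0,2,2;0,0,0,1]),
   (![3,2,0,1,6,7,5,4], !![1,1,1,1;0,0,2,1;0,0,1,0;0,2,2,0]),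
   (![3,2,0,1,6,7,5,4], !![2,2,2,2;0,0,1,2;0,0,2,0;0,1,1,0]),
   (![5,4,7,6,0,1,2,3], !![2,1,1,1;0,2,0,2;0,0,2,0;0,2,2,1]),
   (![6,7,4,5,1,0,3,2], !![0,2,1,2;1,1,1,0;0,2,2,1;0,0,1,0]),
   (![7,6,5,4,1,0,3,2], !![2,2,2,0;0,2,1,2;0,1,1,1;1,0,0,1]),
   (![2,3,1,0,5,4,6,7], !![0,0,1,1;2,1,1,2;0,2,2,0;0,0,2,0]),
   (![6,7,5,4,1,0,2,3], !![2,1,0,2;2,0,1,1;0,0,0,1;1,0,1,1]),
   (![6,7,4,5,1,0,3,2], !![0,1,2,1;2,2,2,0;0,1,1,2;0,0,2,0]),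
   (![5,4,7,6,2,3,0,1], !![2,1,2,2;1,0,1,0;0,0,0,1;1,0,2,1]),
   (![3,2,1,0,6,7,4,5], !![2,1,2,0;2,1,0,1;1,0,1,1;0,2,2,2]),
   (![2,3,1,0,5,4,6,7], !![0,0,2,2;1,2,2,1;0,1,1,0;0,0,1,0]),
   (![3,2,1,0,6,7,4,5], !![1,2,1,0;1,2,0,2;2,0,2,2;0,1,1,1]),
   (![1,0,2,3,7,6,4,5], !![2,2,1,1;2,1,2,1;0,2,2,1;1,0,1,1]),
   (![5,4,6,7,3,2,0,1], !![0,1,0,2;1,1,1,2;0,2,2,2;0,0,1,0]),
   (![3,2,0,1,5,4,6,7], !![1,1,1,1;0,0,1,2;0,0,0,1;2,0,0,2]),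
   (![3,2,0,1,5,4,6,7], !![2,2,2,2;0,0,2,1;0,0,0,2;1,0,0,1]),
   (![5,4,7,6,2,3,0,1], !![1,2,1,1;2,0,2,0;0,0,0,2;2,0,1,2]),
   (![7,6,4,5,2,3,1,0], !![0,1,2,2;1,2,2,0;2,0,0,2;0,2,2,1]),
   (![2,3,0,1,7,6,5,4], !![1,1,0,2;1,1,2,0;2,0,2,2;0,2,2,2]),
   (![5,4,7,6,3,2,1,0], !![2,0,2,1;2,2,0,2;0,1,1,0;1,0,1,1]),
   (![3,2,1,0,7,6,5,4], !![2,1,0,1;1,2,1,0;2,0,1,2;0,2,2,1]),
   (![7,6,5,4,3,2,1,0], !![1,1,0,1;1,0,1,2;2,0,2,2;0,2,2,0]),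
   (![3,2,1,0,7,6,5,4], !![1,2,0,2;2,1,2,0;1,0,2,1;0,1,1,2]),
   (![7,6,4,5,2,3,1,0], !![0,2,1,1;2,1,1,0;1,0,0,1;0,1,1,2]),
   (![2,3,0,1,7,6,5,4], !![2,2,0,1;2,2,1,0;1,0,1,1;0,1,1,1]),
   (![1,0,3,2,4,5,6,7], !![0,2,1,0;2,0,0,1;1,0,0,1;0,1,1,0]),
   (![1,0,2,3,6,7,5,4], !![1,2,1,2;2,2,1,1;0,1,1,1;2,0,1,2]),
   (![1,0,3,2,4,5,6,7], !![0,1,2,0;1,0,0,2;2,0,0,2;0,2,2,0]),
   (![1,0,2,3,4,5,7,6], !![1,1,2,2;2,1,2,1;1,0,2,1;0,2,2,2]),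
   (![7,6,4,5,1,0,2,3], !![1,0,2,2;2,1,0,2;0,2,2,0;2,0,1,2]),
   (![2,3,0,1,5,4,7,6], !![1,1,2,0;1,1,0,2;0,2,2,2;2,0,2,2]),
   (![5,4,7,6,1,0,3,2], !![0,2,1,2;2,2,2,0;1,0,0,1;0,1,1,1]),
   (![3,2,1,0,5,4,7,6], !![1,2,1,0;2,1,0,1;0,2,2,1;2,0,1,2]),
   (![7,6,5,4,1,0,3,2], !![1,1,1,0;0,1,2,1;0,2,2,2;2,0,0,2]),
   (![3,2,1,0,5,4,7,6], !![2,1,2,0;1,2,0,2;0,1,1,2;1,0,2,1]),
   (![7,6,4,5,1,0,2,3], !![2,0,1,1;1,2,0,1;0,1,1,0;1,0,2,1]),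
   (![2,3,0,1,5,4,7,6], !![2,2,1,0;2,2,0,1;0,1,1,1;1,0,1,1]),
   (![1,0,3,2,6,7,4,5], !![2,0,0,1;0,2,1,0;0,1,1,0;1,0,0,1]),
   (![1,0,2,3,5,4,6,7], !![2,1,2,1;2,2,1,1;1,0,1,1;0,2,2,1]),
   (![1,0,3,2,6,7,4,5], !![1,0,0,2;0,1,2,0;0,2,2,0;2,0,0,2]),
   (![1,0,2,3,7,6,4,5], !![1,1,2,2;1,2,1,2;0,1,1,2;2,0,2,2]),
   (![5,4,6,7,2,3,1,0], !![1,2,2,0;0,1,2,2;0,2,2,1;2,0,0,2]),
   (![1,0,3,2,7,6,5,4], !![0,2,1,0;1,0,0,2;0,0,0,2;0,0,1,0]),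
   (![5,4,7,6,3,2,1,0], !![1,0,1,2;1,1,0,1;0,2,2,0;2,0,2,2]),
   (![5,4,6,7,2,3,1,0], !![2,1,1,0;0,2,1,1;0,1,1,2;1,0,0,1]),
   (![1,0,3,2,7,6,5,4], !![0,1,2,0;2,0,0,1;0,0,0,1;0,0,2,0]),
   (![1,0,2,3,6,7,5,4], !![2,1,2,1;1,1,2,2;0,2,2,2;1,0,2,1]),
   (![5,4,6,7,1,0,2,3], !![2,1,0,2;1,0,2,2;2,0,1,2;0,2,2,0]),
   (![1,0,3,2,5,4,7,6], !![2,0,0,1;0,1,2,0;0,0,2,0;0,0,0,1]),
   (![5,4,7,6,1,0,3,2], !![0,1,2,1;1,1,1,0;2,0,0,2;0,2,2,2]),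
   (![5,4,6,7,1,0,2,3], !![1,2,0,1;2,0,1,1;1,0,2,1;0,1,1,0]),
   (![1,0,3,2,5,4,7,6], !![1,0,0,2;0,2,1,0;0,0,1,0;0,0,0,2]),
   (![1,0,2,3,5,4,6,7], !![1,2,1,2;1,1,2,2;2,0,2,2;0,1,1,2])]

set_option maxRecDepth 100000 in
theorem W1_ev : W1.map ev1 = L1 := by decide +kernel

set_option maxRecDepth 100000 in
theorem L1_nodup : L1.Nodup := by decide +kernel

/-- pointwise equality of raw pairs -/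
def eqRP1 (x y : RP1) : Prop := (∀ i : Fin 8, x.1 i = y.1 i) ∧ (∀ i j : Fin 4, x.2 i j = y.2 i j)

instance (x y : RP1) : Decidable (eqRP1 x y) := by unfold eqRP1; infer_instance

theorem eq_of_eqRP1 {x y : RP1} (h : eqRP1 x y) : x = y := by
  obtain ⟨h1, h2⟩ := h
  refine Prod.ext (funext h1) (funext fun i => funext fun j => h2 i j)

/-- the multiplication table of the generators on the list -/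
def tbl1 : Fin 4 → List ℕ :=
  ![[1,0,8,11,7,14,17,4,2,23,22,3,27,26,5,31,30,6,35,34,36,39,10,9,44,47,13,12,38,53,16,15,58,49,19,18,20,64,28,21,68,67,69,71,24,75,74,25,76,33,77,66,78,29,82,81,83,85,32,89,88,90,91,80,37,94,51,41,40,42,86,43,84,101,46,45,48,50,52,106,63,55,54,56,72,57,70,113,60,59,61,62,116,105,65,107,118,109,119,111,112,73,114,121,122,93,79,95,124,97,125,99,100,87,102,127,92,126,96,98,123,103,104,120,108,110,117,115],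
    [2,5,4,12,10,7,18,16,20,3,0,24,13,9,28,6,1,32,19,15,22,40,38,42,26,48,46,50,30,54,36,56,34,61,60,62,14,21,8,65,41,37,27,72,69,25,11,59,49,45,23,70,29,79,55,52,35,86,83,33,17,47,31,84,92,67,97,96,98,74,43,95,51,102,77,93,99,44,104,81,109,108,110,88,57,107,63,114,91,105,111,58,68,76,116,66,39,71,64,75,73,120,103,100,82,90,122,80,53,85,78,89,87,126,115,112,118,101,119,94,121,117,124,113,125,106,127,123],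
    [3,6,9,4,13,15,7,19,21,10,12,25,2,0,29,16,18,33,5,1,37,22,41,43,45,26,49,51,52,30,55,57,59,34,47,63,54,38,40,66,20,8,70,27,73,46,48,17,24,11,72,23,36,80,28,14,84,35,87,60,61,32,86,31,93,95,67,71,99,100,50,39,42,74,103,98,92,102,105,107,81,85,111,112,62,53,56,88,115,110,104,114,75,68,117,96,97,65,76,64,77,116,69,44,89,82,123,108,109,79,90,78,91,122,83,58,121,118,120,101,94,119,127,124,126,113,106,125],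
    [4,7,10,13,0,16,19,1,22,12,2,26,9,3,30,18,5,34,15,6,38,41,8,27,46,49,11,23,36,55,14,35,60,47,17,31,28,40,20,67,37,21,50,51,74,48,24,33,45,25,42,43,54,81,52,29,62,63,88,61,32,59,56,57,68,96,71,39,64,77,72,66,70,103,44,76,75,69,82,108,85,53,78,91,86,80,84,115,58,90,89,83,98,99,118,97,65,95,92,93,102,121,100,73,110,111,124,109,79,107,104,105,114,127,112,87,119,120,94,116,117,101,125,126,106,122,123,113]]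

/-- the statement checked by the kernel -/
def closedAt1 (k : Fin 4) (i : ℕ) : Prop :=
  eqRP1 (rmul1 (rgen1 k) (L1.getD i rone1)) (L1.getD ((tbl1 k).getD i 0) rone1)

instance (k : Fin 4) (i : ℕ) : Decidable (closedAt1 k i) := by unfold closedAt1; infer_instance

set_option maxRecDepth 100000 in
theorem L1_closed_aux : ∀ k : Fin 4, ∀ i < 128, closedAt1 k i := by decide +kernel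

/-- pointwise equality of raw matrices -/
def eqM4 (A B : Fin 4 → Fin 4 → ZMod 3) : Prop := ∀ i j : Fin 4, A i j = B i j

instance (A B : Fin 4 → Fin 4 → ZMod 3) : Decidable (eqM4 A B) := by unfold eqM4; infer_instance

theorem eqM4_iff {A B : Fin 4 → Fin 4 → ZMod 3} : eqM4 A B ↔ A = B :=
  ⟨fun h => funext fun i => funext fun j => h i j, fun h i j => by rw [h]⟩

/-- the kernel statement at an index -/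
def kerAt1 (i : ℕ) : Prop :=
  (isId8 (L1.getD i rone1).1 ↔ (eqM4 (L1.getD i rone1).2 one4 ∨ eqM4 (L1.getD i rone1).2 neg4))

instance (i : ℕ) : Decidable (kerAt1 i) := by unfold kerAt1; infer_instance

set_option maxRecDepth 100000 in
theorem L1_ker_idx : ∀ i < 128, kerAt1 i := by decide +kernel

set_option maxRecDepth 100000 in
theorem L1_length : L1.length = 128 := by decide

theorem L1_ker : ∀ x ∈ L1, (x.1 = rone1.1 ↔ (x.2 = one4 ∨ x.2 = neg4)) := by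
  refine forall_mem_of_forall_lt L1 rone1 128 L1_length _ ?_
  intro i hi
  have h := L1_ker_idx i hi
  unfold kerAt1 at h
  rw [isId8_iff, eqM4_iff, eqM4_iff] at h
  exact h

theorem L1_one_mem : rone1 ∈ L1 := by
  rw [← W1_ev]
  exact List.mem_map.2 ⟨[], by decide, rfl⟩

theorem L1_closed : ∀ k : Fin 4, ∀ x ∈ L1, rmul1 (rgen1 k) x ∈ L1 := by
  intro k
  refine forall_mem_of_forall_lt L1 rone1 128 L1_length _ ?_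
  intro i hi
  have h := L1_closed_aux k i hi
  unfold closedAt1 at h
  rw [eq_of_eqRP1 h]
  exact getD_mem_of_mem L1 rone1 L1_one_mem _

/-- the transpose of a raw matrix -/
def tr4 (A : Fin 4 → Fin 4 → ZMod 3) : Fin 4 → Fin 4 → ZMod 3 := fun i j => A j i

theorem rgen1_symp : ∀ k : Fin 4, mul4 (mul4 (rgen1 k).2 j4) (tr4 (rgen1 k).2) = j4 := by
  decide +kernel

end Cfsg.Agent.Lib.Helper7.Syl8
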