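import Mathlib
import Cfsg.Prelude.Def_Classical
import Cfsg.Agent.Lib.Helper7.Syl8A
import Cfsg.Agent.Lib.Helper7.Syl8B

/-!
# A subgroup of order `128` of `S₈ × O₆⁻(2)` with both projections injective (helper7)
-/

set_option autoImplicit false

namespace Cfsg.Agent.Lib.Helper7.Syl8

/-- the index type of the six-dimensional space -/
abbrev I6 : Type := (Fin 2 ⊕ Fin 2) ⊕ Fin 2

/-- the enumeration of `I6` -/
def jx : Fin 6 → I6 := ![.inl (.inl 0), .inl (.inl 1), .inl (.inr 0), .inl (.inr 1), .inr 0, .inr 1]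

/-- the inverse enumeration -/
def ux : I6 → Fin 6 := Sum.elim (Sum.elim ![0, 1] ![2, 3]) ![4, 5]

theorem jx_ux (a : I6) : jx (ux a) = a := by
  rcases a with (a | a) | a <;> fin_cases a <;> rfl

theorem ux_jx (i : Fin 6) : ux (jx i) = i := by
  fin_cases i <;> rfl

theorem sum_I6 {M : Type*} [AddCommMonoid M] (f : I6 → M) :
    ∑ a, f a = f (jx 0) + f (jx 1) + f (jx 2) + f (jx 3) + f (jx 4) + f (jx 5) := by
  simp only [Fintype.sum_sum_type, Fin.sum_univ_two, jx]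
  simp only [Matrix.cons_val_zero, Matrix.cons_val_one, Matrix.cons_val]
  abel

/-- raw form of a matrix -/
def toM6 {R : Type*} (A : Matrix I6 I6 R) : Fin 6 → Fin 6 → R := fun i j => A (jx i) (jx j)

/-- matrix of a raw form -/
def ofM6 {R : Type*} (A : Fin 6 → Fin 6 → R) : Matrix I6 I6 R := Matrix.of fun a b => A (ux a) (ux b)

theorem toM6_ofM6 {R : Type*} (A : Fin 6 → Fin 6 → R) : toM6 (ofM6 A) = A := by
  funext i j
  simp [toM6, ofM6, ux_jx]

theorem ofM6_toM6 {R : Type*} (A : Matrix I6 I6 R) : ofM6 (toM6 A) = A := by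
  ext a b
  simp [toM6, ofM6, jx_ux]

theorem toM6_injective {R : Type*} : Function.Injective (toM6 (R := R)) := by
  intro A B h
  rw [← ofM6_toM6 A, ← ofM6_toM6 B, h]

theorem toM6_mul {R : Type*} [Semiring R] (A B : Matrix I6 I6 R) :
    toM6 (A * B) = mul6 (toM6 A) (toM6 B) := by
  funext i j
  simp only [toM6, mul6, Matrix.mul_apply, sum_I6]

theorem toM6_one : toM6 (1 : Matrix I6 I6 (ZMod 2)) = rone2.2 := by
  funext i j
  fin_cases i <;> fin_cases j <;> rfl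

set_option maxRecDepth 100000 in
theorem rgen2_sq : ∀ k : Fin 3, eqRP2 (rmul2 (rgen2 k) (rgen2 k)) rone2 := by decide +kernel

/-- the raw quadratic form -/
def Q6 (v : Fin 6 → ZMod 2) : ZMod 2 := v 0 * v 2 + v 1 * v 3 + (v 4 ^ 2 + v 4 * v 5 + v 5 ^ 2)

/-- raw matrix times vector -/
def mv6 {R : Type*} [Mul R] [Add R] (A : Fin 6 → Fin 6 → R) (v : Fin 6 → R) : Fin 6 → R :=
  fun i => A i 0 * v 0 + A i 1 * v 1 + A i 2 * v 2 + A i 3 * v 3 + A i 4 * v 4 + A i 5 * v 5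

set_option maxRecDepth 100000 in
theorem rgen2_iso : ∀ k : Fin 3, ∀ x0 x1 x2 x3 x4 x5 : ZMod 2,
    Q6 (mv6 (rgen2 k).2 ![x0, x1, x2, x3, x4, x5]) = Q6 ![x0, x1, x2, x3, x4, x5] := by
  decide +kernel

/-- the ambient group -/
abbrev G2 : Type := Equiv.Perm (Fin 8) × Matrix.GeneralLinearGroup I6 (ZMod 2)

/-- the raw map -/
def raw2 (x : G2) : RP2 := (⇑x.1, toM6 (x.2 : Matrix I6 I6 (ZMod 2)))

theorem raw2_injective : Function.Injective raw2 := by
  intro x y h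
  have h1 : (⇑x.1 : Fin 8 → Fin 8) = ⇑y.1 := congrArg Prod.fst h
  have h2 : toM6 (x.2 : Matrix I6 I6 (ZMod 2)) = toM6 (y.2 : Matrix I6 I6 (ZMod 2)) :=
    congrArg Prod.snd h
  exact Prod.ext (DFunLike.coe_injective h1) (Units.ext (toM6_injective h2))

theorem raw2_mul (g x : G2) : raw2 (g * x) = rmul2 (raw2 g) (raw2 x) := by
  refine Prod.ext ?_ ?_
  · funext i
    simp [raw2, rmul2]
  · show toM6 ((g.2 * x.2 : Matrix.GeneralLinearGroup I6 (ZMod 2)) : Matrix I6 I6 (ZMod 2)) = _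
    rw [Units.val_mul, toM6_mul]
    rfl

theorem raw2_one : raw2 1 = rone2 := by
  refine Prod.ext ?_ ?_
  · funext i
    simp [raw2, rone2]
  · show toM6 ((1 : Matrix.GeneralLinearGroup I6 (ZMod 2)) : Matrix I6 I6 (ZMod 2)) = _
    rw [Units.val_one, toM6_one]

theorem ofM6_mul_self (k : Fin 3) : ofM6 (rgen2 k).2 * ofM6 (rgen2 k).2 = 1 := by
  apply toM6_injective
  rw [toM6_mul, toM6_ofM6, toM6_one]
  exact congrArg Prod.snd (eq_of_eqRP2 (rgen2_sq k))

/-- the permutation generators -/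
def pm2 (k : Fin 3) : Equiv.Perm (Fin 8) where
  toFun := (rgen2 k).1
  invFun := (rgen2 k).1
  left_inv i := congrFun (congrArg Prod.fst (eq_of_eqRP2 (rgen2_sq k))) i
  right_inv i := congrFun (congrArg Prod.fst (eq_of_eqRP2 (rgen2_sq k))) i

/-- the matrix generators -/
def gl2 (k : Fin 3) : Matrix.GeneralLinearGroup I6 (ZMod 2) where
  val := ofM6 (rgen2 k).2
  inv := ofM6 (rgen2 k).2
  val_inv := ofM6_mul_self k
  inv_val := ofM6_mul_self k

/-- the generators -/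
def gen2 (k : Fin 3) : G2 := (pm2 k, gl2 k)

theorem raw2_gen2 (k : Fin 3) : raw2 (gen2 k) = rgen2 k := by
  refine Prod.ext rfl ?_
  show toM6 (ofM6 (rgen2 k).2) = _
  rw [toM6_ofM6]

/-- the subgroup -/
def D2 : Subgroup G2 := Subgroup.closure (Set.range gen2)

theorem ev2_nil : ev2 [] = raw2 1 := by rw [raw2_one]; rfl

theorem ev2_cons (k : Fin 3) (w : List (Fin 3)) : ev2 (k :: w) = rmul2 (raw2 (gen2 k)) (ev2 w) := by
  rw [raw2_gen2]; rfl

theorem mem_D2_iff (g : G2) : g ∈ D2 ↔ raw2 g ∈ L2 :=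
  closure_list raw2 raw2_injective rmul2 raw2_mul gen2 ev2 ev2_nil ev2_cons W2 L2 W2_ev
    (by rw [raw2_one]; exact L2_one_mem) (by intro k x hx; rw [raw2_gen2]; exact L2_closed k x hx) g

theorem card_D2 : Nat.card D2 = 128 := by
  have := card_closure_list raw2 raw2_injective rmul2 raw2_mul gen2 ev2 ev2_nil ev2_cons W2 L2 W2_ev
    L2_nodup (by rw [raw2_one]; exact L2_one_mem)
    (by intro k x hx; rw [raw2_gen2]; exact L2_closed k x hx)
  rw [L2_length] at this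
  exact this

theorem D2_fst_eq_one {g : G2} (hg : g ∈ D2) (h : g.1 = 1) : g = 1 := by
  have hm := (mem_D2_iff g).1 hg
  apply raw2_injective
  rw [raw2_one]
  refine (L2_ker _ hm).1 ?_
  show (⇑g.1 : Fin 8 → Fin 8) = _
  rw [h]
  rfl

theorem D2_snd_eq_one {g : G2} (hg : g ∈ D2) (h : g.2 = 1) : g = 1 := by
  have hm := (mem_D2_iff g).1 hg
  apply raw2_injective
  rw [raw2_one]
  refine (L2_ker _ hm).2 ?_
  show toM6 (g.2 : Matrix I6 I6 (ZMod 2)) = _
  rw [h, Units.val_one, toM6_one]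

theorem quadFormMinus_eq_Q6 (u : I6 → ZMod 2) :
    Cfsg.quadFormMinus 2 (ZMod 2) 1 1 u = Q6 (fun i => u (jx i)) := by
  simp only [Cfsg.quadFormMinus, Q6, Fin.sum_univ_two, jx]
  simp only [Matrix.cons_val_zero, Matrix.cons_val_one, Matrix.cons_val, one_mul]

theorem mulVec_ofM6 (A : Fin 6 → Fin 6 → ZMod 2) (u : I6 → ZMod 2) (i : Fin 6) :
    (Matrix.mulVec (ofM6 A) u) (jx i) = mv6 A (fun j => u (jx j)) i := by
  simp only [Matrix.mulVec, dotProduct, sum_I6, ofM6, Matrix.of_apply, ux_jx, mv6]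

theorem vec6_eta (v : Fin 6 → ZMod 2) : v = ![v 0, v 1, v 2, v 3, v 4, v 5] := by
  funext i
  fin_cases i <;> rfl

theorem gl2_mem_iso (k : Fin 3) :
    gl2 k ∈ Cfsg.isometryGroup (ZMod 2) (Cfsg.quadFormMinus 2 (ZMod 2) 1 1) := by
  intro u _
  show Cfsg.quadFormMinus 2 (ZMod 2) 1 1 (Matrix.mulVec (ofM6 (rgen2 k).2) u) =
    Cfsg.quadFormMinus 2 (ZMod 2) 1 1 u
  rw [quadFormMinus_eq_Q6, quadFormMinus_eq_Q6]
  have : (fun i => (Matrix.mulVec (ofM6 (rgen2 k).2) u) (jx i)) =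
      mv6 (rgen2 k).2 (fun j => u (jx j)) :=
    funext (mulVec_ofM6 _ u)
  rw [this, vec6_eta (fun j => u (jx j))]
  exact rgen2_iso k _ _ _ _ _ _

theorem quadFormMinus_comp {K : Type} [Field K] (e : ZMod 2 ≃+* K) (w : I6 → ZMod 2) :
    Cfsg.quadFormMinus 2 K 1 1 (⇑e ∘ w) = e (Cfsg.quadFormMinus 2 (ZMod 2) 1 1 w) := by
  simp only [Cfsg.quadFormMinus, Fin.sum_univ_two, Function.comp_apply, map_add, map_mul, map_pow,
    map_one]

theorem transport_iso {K : Type} [Field K] (e : ZMod 2 ≃+* K)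
    (g : Matrix.GeneralLinearGroup I6 (ZMod 2))
    (hg : g ∈ Cfsg.isometryGroup (ZMod 2) (Cfsg.quadFormMinus 2 (ZMod 2) 1 1)) :
    Matrix.GeneralLinearGroup.map (e : ZMod 2 →+* K) g ∈
      Cfsg.isometryGroup K (Cfsg.quadFormMinus 2 K 1 1) := by
  intro u _
  show Cfsg.quadFormMinus 2 K 1 1
      (Matrix.mulVec ((g : Matrix I6 I6 (ZMod 2)).map (e : ZMod 2 →+* K)) u) =
    Cfsg.quadFormMinus 2 K 1 1 u
  have hu : u = ⇑e ∘ (⇑e.symm ∘ u) := by
    funext i
    simp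
  have h1 : Matrix.mulVec ((g : Matrix I6 I6 (ZMod 2)).map (e : ZMod 2 →+* K))
      (⇑e ∘ (⇑e.symm ∘ u)) =
      ⇑e ∘ (Matrix.mulVec (g : Matrix I6 I6 (ZMod 2)) (⇑e.symm ∘ u)) := by
    funext i
    exact (RingHom.map_mulVec (e : ZMod 2 →+* K) _ _ i).symm
  have h2 : Cfsg.quadFormMinus 2 (ZMod 2) 1 1
      (Matrix.mulVec (g : Matrix I6 I6 (ZMod 2)) (⇑e.symm ∘ u)) =
      Cfsg.quadFormMinus 2 (ZMod 2) 1 1 (⇑e.symm ∘ u) := hg (⇑e.symm ∘ u) (⇑e.symm ∘ u)
  rw [hu, h1, quadFormMinus_comp, quadFormMinus_comp, h2]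

theorem glmap_injective {K : Type} [Field K] (e : ZMod 2 ≃+* K) :
    Function.Injective (Matrix.GeneralLinearGroup.map (n := I6) (e : ZMod 2 →+* K)) := by
  intro g h hgh
  apply Units.ext
  ext i j
  have := congrArg (fun x : Matrix.GeneralLinearGroup I6 K => (x : Matrix I6 I6 K) i j) hgh
  simp only [Matrix.GeneralLinearGroup.map_apply] at this
  exact e.injective this

end Cfsg.Agent.Lib.Helper7.Syl8
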