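import Mathlib
import Cfsg.Prelude.Def_Classical
import Cfsg.Agent.Lib.Helper7.Syl8D

/-!
# `Syl₂(S₈) ≅ Syl₂(O₆⁻(2))` (helper7)
-/

set_option autoImplicit false

namespace Cfsg.Agent.Lib.Helper7.Syl8

theorem card_perm8 : Nat.card (Equiv.Perm (Fin 8)) = 40320 := by
  rw [Nat.card_perm, Nat.card_eq_fintype_card, Fintype.card_fin]
  decide

/-- two injective homomorphisms from a group of order `p ^ n` onto subgroups of index prime to `p`
identify the Sylow subgroups -/
theorem sylow_equiv_of_two_embeddings {D G H : Type*} [Group D] [Group G] [Group H] [Finite G]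
    [Finite H] {p : ℕ} [Fact p.Prime] (n : ℕ) (hD : Nat.card D = p ^ n)
    (f : D →* G) (hf : Function.Injective f) (g : D →* H) (hg : Function.Injective g)
    (a b : ℕ) (hG : Nat.card G = p ^ n * a) (hH : Nat.card H = p ^ n * b)
    (ha : ¬ p ∣ a) (hb : ¬ p ∣ b) (P : Sylow p G) (Q : Sylow p H) :
    Nonempty (↥(P : Subgroup G) ≃* ↥(Q : Subgroup H)) := by
  have hp : 0 < p ^ n := pow_pos (Fact.out : p.Prime).pos n
  have e1 : D ≃* ↥f.range := MonoidHom.ofInjective hf
  have e2 : D ≃* ↥g.range := MonoidHom.ofInjective hg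
  have c1 : Nat.card ↥f.range = p ^ n := by rw [← Nat.card_congr e1.toEquiv, hD]
  have c2 : Nat.card ↥g.range = p ^ n := by rw [← Nat.card_congr e2.toEquiv, hD]
  have i1 : f.range.index = a := by
    have := f.range.card_mul_index
    rw [c1, hG] at this
    exact Nat.eq_of_mul_eq_mul_left hp this
  have i2 : g.range.index = b := by
    have := g.range.card_mul_index
    rw [c2, hH] at this
    exact Nat.eq_of_mul_eq_mul_left hp this
  obtain ⟨u1⟩ := sylow_equiv_of_pgroup f.range (IsPGroup.of_card c1) (by rw [i1]; exact ha) P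
  obtain ⟨u2⟩ := sylow_equiv_of_pgroup g.range (IsPGroup.of_card c2) (by rw [i2]; exact hb) Q
  exact ⟨u1.trans (e1.symm.trans (e2.trans u2.symm))⟩

theorem field_two_cases {K : Type} [Field K] [Fintype K] (hK : Fintype.card K = 2) (x : K) :
    x = 0 ∨ x = 1 := by
  have e : ZMod 2 ≃+* K := ZMod.ringEquivOfPrime K Nat.prime_two hK
  have hx : x = e (e.symm x) := by simp
  rw [hx]
  generalize e.symm x = y
  fin_cases y
  · left; exact map_zero e
  · right; exact map_one e

theorem field_two_add {K : Type} [Field K] [Fintype K] (hK : Fintype.card K = 2) :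
    (1 : K) + 1 = 0 := by
  have e : ZMod 2 ≃+* K := ZMod.ringEquivOfPrime K Nat.prime_two hK
  have : (1 : K) + 1 = e (1 + 1) := by simp
  rw [this]
  have h0 : (1 : ZMod 2) + 1 = 0 := by decide
  rw [h0, map_zero]

theorem part2 (K : Type) [Field K] [Fintype K] (hK : Fintype.card K = 2) (a b : K)
    (hab : ∀ z₁ z₂ : K, z₁ ^ 2 + a * z₁ * z₂ + b * z₂ ^ 2 = 0 → z₁ = 0 ∧ z₂ = 0)
    (hcard : Nat.card ↥(Cfsg.isometryGroup K (Cfsg.quadFormMinus 2 K a b)) = 51840)
    (P' : Sylow 2 (Equiv.Perm (Fin 8)))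
    (Q' : Sylow 2 ↥(Cfsg.isometryGroup K (Cfsg.quadFormMinus 2 K a b))) :
    Nonempty (↥(P' : Subgroup (Equiv.Perm (Fin 8))) ≃*
      ↥(Q' : Subgroup ↥(Cfsg.isometryGroup K (Cfsg.quadFormMinus 2 K a b)))) := by
  have hb : b = 1 := by
    rcases field_two_cases hK b with h | h
    · exfalso
      have := (hab 0 1 (by rw [h]; ring)).2
      exact one_ne_zero this
    · exact h
  have ha : a = 1 := by
    rcases field_two_cases hK a with h | h
    · exfalso
      have := (hab 1 1 (by rw [h, hb]; linear_combination field_two_add hK)).2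
      exact one_ne_zero this
    · exact h
  subst ha hb
  have e : ZMod 2 ≃+* K := ZMod.ringEquivOfPrime K Nat.prime_two hK
  have : Fact (Nat.Prime 2) := ⟨Nat.prime_two⟩
  have : Finite ↥(Cfsg.isometryGroup K (Cfsg.quadFormMinus 2 K 1 1)) := inferInstance
  -- the two homomorphisms
  let ψ₁ : ↥D2 →* Equiv.Perm (Fin 8) :=
    (MonoidHom.fst (Equiv.Perm (Fin 8)) (Matrix.GeneralLinearGroup I6 (ZMod 2))).comp D2.subtype
  let Φ : G2 →* Matrix.GeneralLinearGroup I6 K :=
    (Matrix.GeneralLinearGroup.map (e : ZMod 2 →+* K)).comp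
      (MonoidHom.snd (Equiv.Perm (Fin 8)) (Matrix.GeneralLinearGroup I6 (ZMod 2)))
  have hle : D2 ≤ (Cfsg.isometryGroup K (Cfsg.quadFormMinus 2 K 1 1)).comap Φ := by
    refine (Subgroup.closure_le _).2 ?_
    rintro _ ⟨k, rfl⟩
    exact transport_iso e _ (gl2_mem_iso k)
  let ψ₂ : ↥D2 →* ↥(Cfsg.isometryGroup K (Cfsg.quadFormMinus 2 K 1 1)) :=
    MonoidHom.codRestrict (Φ.comp D2.subtype) (Cfsg.isometryGroup K (Cfsg.quadFormMinus 2 K 1 1))
      (fun x => hle x.2)
  have hψ₁ : Function.Injective ψ₁ := by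
    rw [injective_iff_map_eq_one]
    intro x hx
    exact Subtype.ext (D2_fst_eq_one x.2 hx)
  have hψ₂ : Function.Injective ψ₂ := by
    rw [injective_iff_map_eq_one]
    intro x hx
    have h1 : Φ x.1 = 1 := congrArg Subtype.val hx
    have h2 : x.1.2 = 1 := glmap_injective e (by rw [map_one]; exact h1)
    exact Subtype.ext (D2_snd_eq_one x.2 h2)
  exact sylow_equiv_of_two_embeddings 7 (by rw [card_D2]; norm_num) ψ₁ hψ₁ ψ₂ hψ₂ 315 405
    (by rw [card_perm8]; norm_num) (by rw [hcard]; norm_num) (by norm_num) (by norm_num) P' Q'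

end Cfsg.Agent.Lib.Helper7.Syl8
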