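import Mathlib
import Cfsg.Prelude.Def_Classical
import Cfsg.Agent.Lib.Helper7.Syl8A
import Cfsg.Agent.Lib.Helper7.Syl8C

/-!
# A subgroup of order `128` of `A₈ × Sp₄(3)` (helper7)
-/

set_option autoImplicit false

namespace Cfsg.Agent.Lib.Helper7.Syl8

/-- the index type of the four-dimensional space -/
abbrev I4 : Type := Fin 2 ⊕ Fin 2

/-- the enumeration of `I4` -/
def jx4 : Fin 4 → I4 := ![.inl 0, .inl 1, .inr 0, .inr 1]

/-- the inverse enumeration -/
def ux4 : I4 → Fin 4 := Sum.elim ![0, 1] ![2, 3]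

theorem jx4_ux4 (a : I4) : jx4 (ux4 a) = a := by
  rcases a with a | a <;> fin_cases a <;> rfl

theorem ux4_jx4 (i : Fin 4) : ux4 (jx4 i) = i := by
  fin_cases i <;> rfl

theorem sum_I4 {M : Type*} [AddCommMonoid M] (f : I4 → M) :
    ∑ a, f a = f (jx4 0) + f (jx4 1) + f (jx4 2) + f (jx4 3) := by
  simp only [Fintype.sum_sum_type, Fin.sum_univ_two, jx4]
  simp only [Matrix.cons_val_zero, Matrix.cons_val_one, Matrix.cons_val]
  abel

/-- raw form of a matrix -/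
def toM4 {R : Type*} (A : Matrix I4 I4 R) : Fin 4 → Fin 4 → R := fun i j => A (jx4 i) (jx4 j)

/-- matrix of a raw form -/
def ofM4 {R : Type*} (A : Fin 4 → Fin 4 → R) : Matrix I4 I4 R :=
  Matrix.of fun a b => A (ux4 a) (ux4 b)

theorem toM4_ofM4 {R : Type*} (A : Fin 4 → Fin 4 → R) : toM4 (ofM4 A) = A := by
  funext i j
  simp [toM4, ofM4, ux4_jx4]

theorem ofM4_toM4 {R : Type*} (A : Matrix I4 I4 R) : ofM4 (toM4 A) = A := by
  ext a b
  simp [toM4, ofM4, jx4_ux4]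

theorem toM4_injective {R : Type*} : Function.Injective (toM4 (R := R)) := by
  intro A B h
  rw [← ofM4_toM4 A, ← ofM4_toM4 B, h]

theorem toM4_mul {R : Type*} [Semiring R] (A B : Matrix I4 I4 R) :
    toM4 (A * B) = mul4 (toM4 A) (toM4 B) := by
  funext i j
  simp only [toM4, mul4, Matrix.mul_apply, sum_I4]

theorem toM4_one : toM4 (1 : Matrix I4 I4 (ZMod 3)) = one4 := by
  funext i j
  fin_cases i <;> fin_cases j <;> rfl

theorem toM4_neg_one : toM4 (-1 : Matrix I4 I4 (ZMod 3)) = neg4 := by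
  funext i j
  fin_cases i <;> fin_cases j <;> rfl

theorem toM4_J : toM4 (Matrix.J (Fin 2) (ZMod 3)) = j4 := by
  funext i j
  fin_cases i <;> fin_cases j <;> rfl

theorem toM4_transpose (A : Matrix I4 I4 (ZMod 3)) : toM4 A.transpose = tr4 (toM4 A) := rfl

theorem ofM4_mem_symp (k : Fin 4) :
    ofM4 (rgen1 k).2 ∈ Matrix.symplecticGroup (Fin 2) (ZMod 3) := by
  rw [SymplecticGroup.mem_iff]
  apply toM4_injective
  rw [toM4_mul, toM4_mul, toM4_transpose, toM4_ofM4, toM4_J]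
  exact rgen1_symp k

/-- the permutation generators -/
def pm1 : Fin 4 → Equiv.Perm (Fin 8) :=
  ![Equiv.swap 4 6 * Equiv.swap 5 7, Equiv.swap 2 3 * Equiv.swap 6 7,
    Equiv.swap 0 4 * Equiv.swap 1 5 * Equiv.swap 2 6 * Equiv.swap 3 7, 1]

theorem pm1_coe : ∀ k : Fin 4, ∀ i : Fin 8, pm1 k i = (rgen1 k).1 i := by decide

theorem pm1_mem (k : Fin 4) : pm1 k ∈ alternatingGroup (Fin 8) := by
  rw [Equiv.Perm.mem_alternatingGroup]
  fin_cases k <;> simp [pm1, Equiv.Perm.sign_mul, Equiv.Perm.sign_swap']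

/-- the ambient group -/
abbrev G1 : Type := ↥(alternatingGroup (Fin 8)) × ↥(Matrix.symplecticGroup (Fin 2) (ZMod 3))

/-- the raw map -/
def raw1 (x : G1) : RP1 :=
  (⇑(x.1 : Equiv.Perm (Fin 8)), toM4 (x.2 : Matrix I4 I4 (ZMod 3)))

theorem raw1_injective : Function.Injective raw1 := by
  intro x y h
  have h1 : (⇑(x.1 : Equiv.Perm (Fin 8)) : Fin 8 → Fin 8) = ⇑(y.1 : Equiv.Perm (Fin 8)) :=
    congrArg Prod.fst h
  have h2 : toM4 (x.2 : Matrix I4 I4 (ZMod 3)) = toM4 (y.2 : Matrix I4 I4 (ZMod 3)) :=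
    congrArg Prod.snd h
  exact Prod.ext (Subtype.ext (DFunLike.coe_injective h1)) (Subtype.ext (toM4_injective h2))

theorem raw1_mul (g x : G1) : raw1 (g * x) = rmul1 (raw1 g) (raw1 x) := by
  refine Prod.ext ?_ ?_
  · funext i
    simp [raw1, rmul1]
  · show toM4 ((g.2 : Matrix I4 I4 (ZMod 3)) * (x.2 : Matrix I4 I4 (ZMod 3))) = _
    rw [toM4_mul]
    rfl

theorem raw1_one : raw1 1 = rone1 := by
  refine Prod.ext ?_ ?_
  · funext i
    simp [raw1, rone1]
  · show toM4 (1 : Matrix I4 I4 (ZMod 3)) = _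
    rw [toM4_one]
    rfl

/-- the generators -/
def gen1 (k : Fin 4) : G1 := (⟨pm1 k, pm1_mem k⟩, ⟨ofM4 (rgen1 k).2, ofM4_mem_symp k⟩)

theorem raw1_gen1 (k : Fin 4) : raw1 (gen1 k) = rgen1 k := by
  refine Prod.ext ?_ ?_
  · funext i
    exact pm1_coe k i
  · show toM4 (ofM4 (rgen1 k).2) = _
    rw [toM4_ofM4]

/-- the subgroup -/
def D1 : Subgroup G1 := Subgroup.closure (Set.range gen1)

theorem ev1_nil : ev1 [] = raw1 1 := by rw [raw1_one]; rfl

theorem ev1_cons (k : Fin 4) (w : List (Fin 4)) : ev1 (k :: w) = rmul1 (raw1 (gen1 k)) (ev1 w) := by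
  rw [raw1_gen1]; rfl

theorem mem_D1_iff (g : G1) : g ∈ D1 ↔ raw1 g ∈ L1 :=
  closure_list raw1 raw1_injective rmul1 raw1_mul gen1 ev1 ev1_nil ev1_cons W1 L1 W1_ev
    (by rw [raw1_one]; exact L1_one_mem) (by intro k x hx; rw [raw1_gen1]; exact L1_closed k x hx) g

theorem card_D1 : Nat.card D1 = 128 := by
  have := card_closure_list raw1 raw1_injective rmul1 raw1_mul gen1 ev1 ev1_nil ev1_cons W1 L1 W1_ev
    L1_nodup (by rw [raw1_one]; exact L1_one_mem)
    (by intro k x hx; rw [raw1_gen1]; exact L1_closed k x hx)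
  rw [L1_length] at this
  exact this

theorem D1_fst_eq_one_iff {g : G1} (hg : g ∈ D1) :
    g.1 = 1 ↔ ((g.2 : Matrix I4 I4 (ZMod 3)) = 1 ∨ (g.2 : Matrix I4 I4 (ZMod 3)) = -1) := by
  have hm := L1_ker _ ((mem_D1_iff g).1 hg)
  have e1 : (raw1 g).1 = rone1.1 ↔ g.1 = 1 := by
    constructor
    · intro h
      apply Subtype.ext
      apply DFunLike.coe_injective
      exact h
    · intro h
      show (⇑(g.1 : Equiv.Perm (Fin 8)) : Fin 8 → Fin 8) = _
      rw [h]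
      rfl
  have e2 : (raw1 g).2 = one4 ↔ (g.2 : Matrix I4 I4 (ZMod 3)) = 1 := by
    rw [← toM4_one]
    exact toM4_injective.eq_iff
  have e3 : (raw1 g).2 = neg4 ↔ (g.2 : Matrix I4 I4 (ZMod 3)) = -1 := by
    rw [← toM4_neg_one]
    exact toM4_injective.eq_iff
  rw [← e1, ← e2, ← e3]
  exact hm

end Cfsg.Agent.Lib.Helper7.Syl8
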