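import Mathlib
import Cfsg.Prelude.Def_Classical
import Cfsg.Agent.S0246
import Cfsg.Agent.Lib.Helper6.SpTransport
import Cfsg.Agent.Lib.Helper7.Syl8F

/-!
# `Syl₂(A₈) ≅ Syl₂(PSp₄(3))` (helper7)
-/

set_option autoImplicit false

namespace Cfsg.Agent.Lib.Helper7.Syl8

theorem card_alt8 : Nat.card ↥(alternatingGroup (Fin 8)) = 20160 := by
  rw [nat_card_alternatingGroup, Nat.card_eq_fintype_card, Fintype.card_fin]
  decide

theorem card_eq_two_of {G : Type*} [Group G] (S : Subgroup G) (z : G) (hz : z ∈ S) (hz1 : z ≠ 1)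
    (hS : ∀ x ∈ S, x = 1 ∨ x = z) : Nat.card S = 2 := by
  rw [Nat.card_eq_two_iff' (1 : S)]
  refine ⟨⟨z, hz⟩, ?_, ?_⟩
  · intro h
    exact hz1 (congrArg Subtype.val h)
  · intro y hy
    rcases hS y.1 y.2 with h | h
    · exact absurd (Subtype.ext h) hy
    · exact Subtype.ext h

/-- two homomorphisms with the same kernel from a group of order `p ^ (n + k)`, the kernel of order
`p ^ k`, to groups whose order has `p`-part `p ^ n`, identify the Sylow subgroups -/
theorem sylow_equiv_of_two_quotients {D G H : Type*} [Group D] [Group G] [Group H] [Finite G]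
    [Finite H] {p : ℕ} [Fact p.Prime] (n k : ℕ) (hD : Nat.card D = p ^ (n + k))
    (f : D →* G) (g : D →* H) (hker : f.ker = g.ker) (hk : Nat.card f.ker = p ^ k)
    (a b : ℕ) (hG : Nat.card G = p ^ n * a) (hH : Nat.card H = p ^ n * b)
    (ha : ¬ p ∣ a) (hb : ¬ p ∣ b) (P : Sylow p G) (Q : Sylow p H) :
    Nonempty (↥(P : Subgroup G) ≃* ↥(Q : Subgroup H)) := by
  have hp : 0 < p ^ n := pow_pos (Fact.out : p.Prime).pos n
  have hpk : 0 < p ^ k := pow_pos (Fact.out : p.Prime).pos k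
  have c1 : Nat.card ↥f.range = p ^ n := by
    have h1 := f.ker.card_mul_index
    rw [Subgroup.index_ker, hk, hD, pow_add, mul_comm (p ^ n)] at h1
    exact Nat.eq_of_mul_eq_mul_left hpk h1
  have c2 : Nat.card ↥g.range = p ^ n := by
    have h1 := g.ker.card_mul_index
    rw [Subgroup.index_ker, ← hker, hk, hD, pow_add, mul_comm (p ^ n)] at h1
    exact Nat.eq_of_mul_eq_mul_left hpk h1
  have i1 : f.range.index = a := by
    have := f.range.card_mul_index
    rw [c1, hG] at this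
    exact Nat.eq_of_mul_eq_mul_left hp this
  have i2 : g.range.index = b := by
    have := g.range.card_mul_index
    rw [c2, hH] at this
    exact Nat.eq_of_mul_eq_mul_left hp this
  obtain ⟨u1⟩ := sylow_equiv_of_pgroup f.range (IsPGroup.of_card c1) (by rw [i1]; exact ha) P
  obtain ⟨u2⟩ := sylow_equiv_of_pgroup g.range (IsPGroup.of_card c2) (by rw [i2]; exact hb) Q
  have e1 : D ⧸ f.ker ≃* ↥f.range := QuotientGroup.quotientKerEquivRange f
  have e2 : D ⧸ g.ker ≃* ↥g.range := QuotientGroup.quotientKerEquivRange g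
  have e3 : D ⧸ f.ker ≃* D ⧸ g.ker := QuotientGroup.quotientMulEquivOfEq hker
  exact ⟨u1.trans (e1.symm.trans (e3.trans (e2.trans u2.symm)))⟩

theorem sp_mem_center_iff (s : ↥(Matrix.symplecticGroup (Fin 2) (ZMod 3))) :
    s ∈ Subgroup.center ↥(Matrix.symplecticGroup (Fin 2) (ZMod 3)) ↔
      ((s : Matrix I4 I4 (ZMod 3)) = 1 ∨ (s : Matrix I4 I4 (ZMod 3)) = -1) := by
  constructor
  · intro hs
    obtain ⟨a, ha⟩ := Cfsg.Agent.S0246.center_eq_smul_one 2 s hs
    have h3 : ∀ c : ZMod 3, c = 0 ∨ c = 1 ∨ c = -1 := by decide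
    rcases h3 a with rfl | rfl | rfl
    · exfalso
      have h1 : (s : Matrix I4 I4 (ZMod 3)) * ((s⁻¹ : ↥(Matrix.symplecticGroup (Fin 2) (ZMod 3))) :
          Matrix I4 I4 (ZMod 3)) = 1 := congrArg Subtype.val (mul_inv_cancel s)
      rw [ha, zero_smul, zero_mul] at h1
      exact zero_ne_one h1
    · left
      rw [ha, one_smul]
    · right
      rw [ha, neg_smul, one_smul]
  · rintro (h | h)
    · exact Cfsg.Agent.Lib.Helper6.SpTransport.scalar_mem_center 2 s 1 (by rw [h, one_smul])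
    · exact Cfsg.Agent.Lib.Helper6.SpTransport.scalar_mem_center 2 s (-1)
        (by rw [h, neg_smul, one_smul])

theorem rgen1_three : (rgen1 3).2 = neg4 := eqM4_iff.1 (by decide)

theorem gen1_three_fst : (gen1 3).1 = 1 := by
  apply Subtype.ext
  rfl

theorem gen1_three_snd : ((gen1 3).2 : Matrix I4 I4 (ZMod 3)) = -1 := by
  apply toM4_injective
  show toM4 (ofM4 (rgen1 3).2) = _
  rw [toM4_ofM4, toM4_neg_one, rgen1_three]

theorem gen1_three_ne_one : gen1 3 ≠ 1 := by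
  intro h
  have h1 : ((gen1 3).2 : Matrix I4 I4 (ZMod 3)) = 1 := by rw [h]; rfl
  rw [gen1_three_snd] at h1
  have h2 := congrFun (congrFun h1 (Sum.inl 0)) (Sum.inl 0)
  revert h2
  simp only [Matrix.neg_apply, Matrix.one_apply_eq]
  decide

theorem part1 (F : Type) [Field F] [Fintype F] (hF : Fintype.card F = 3)
    (hcard : Nat.card (Cfsg.PSp 2 F) = 25920)
    (P : Sylow 2 ↥(alternatingGroup (Fin 8))) (Q : Sylow 2 (Cfsg.PSp 2 F)) :
    Nonempty (↥(P : Subgroup ↥(alternatingGroup (Fin 8))) ≃* ↥(Q : Subgroup (Cfsg.PSp 2 F))) := by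
  have e : ZMod 3 ≃+* F := ZMod.ringEquivOfPrime F Nat.prime_three hF
  have : Fact (Nat.Prime 2) := ⟨Nat.prime_two⟩
  have : Finite (Cfsg.PSp 2 F) := Nat.finite_of_card_ne_zero (by rw [hcard]; norm_num)
  let φ₁ : ↥D1 →* ↥(alternatingGroup (Fin 8)) :=
    (MonoidHom.fst ↥(alternatingGroup (Fin 8)) ↥(Matrix.symplecticGroup (Fin 2) (ZMod 3))).comp
      D1.subtype
  let φ₂ : ↥D1 →* Cfsg.PSp 2 F :=
    (Cfsg.Agent.Lib.Helper6.SpTransport.pspEquiv e 2).toMonoidHom.comp
      ((QuotientGroup.mk' (Subgroup.center ↥(Matrix.symplecticGroup (Fin 2) (ZMod 3)))).comp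
        ((MonoidHom.snd ↥(alternatingGroup (Fin 8))
          ↥(Matrix.symplecticGroup (Fin 2) (ZMod 3))).comp D1.subtype))
  have hφ₁ : ∀ x : ↥D1, φ₁ x = 1 ↔ x.1.1 = 1 := fun x => Iff.rfl
  have hφ₂ : ∀ x : ↥D1, φ₂ x = 1 ↔
      x.1.2 ∈ Subgroup.center ↥(Matrix.symplecticGroup (Fin 2) (ZMod 3)) := by
    intro x
    show (Cfsg.Agent.Lib.Helper6.SpTransport.pspEquiv e 2)
      (QuotientGroup.mk x.1.2) = 1 ↔ _
    rw [MulEquiv.map_eq_one_iff, QuotientGroup.eq_one_iff]
  have hker : φ₁.ker = φ₂.ker := by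
    ext x
    rw [MonoidHom.mem_ker, MonoidHom.mem_ker, hφ₁, hφ₂, sp_mem_center_iff]
    exact D1_fst_eq_one_iff x.2
  have hz : gen1 3 ∈ D1 := Subgroup.subset_closure ⟨3, rfl⟩
  have hk : Nat.card φ₁.ker = 2 ^ 1 := by
    refine card_eq_two_of φ₁.ker ⟨gen1 3, hz⟩ ?_ ?_ ?_
    · rw [MonoidHom.mem_ker, hφ₁]
      exact gen1_three_fst
    · intro h
      exact gen1_three_ne_one (congrArg Subtype.val h)
    · intro x hx
      rw [MonoidHom.mem_ker, hφ₁] at hx
      rcases (D1_fst_eq_one_iff x.2).1 hx with h | h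
      · left
        apply Subtype.ext
        exact Prod.ext hx (Subtype.ext h)
      · right
        apply Subtype.ext
        refine Prod.ext ?_ (Subtype.ext ?_)
        · show x.1.1 = (gen1 3).1
          rw [hx, gen1_three_fst]
        · show (x.1.2 : Matrix I4 I4 (ZMod 3)) = ((gen1 3).2 : Matrix I4 I4 (ZMod 3))
          rw [h, gen1_three_snd]
  exact sylow_equiv_of_two_quotients 6 1 (by rw [card_D1]; norm_num) φ₁ φ₂ hker hk 315 405
    (by rw [card_alt8]; norm_num) (by rw [hcard]; norm_num) (by norm_num) (by norm_num) P Q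

end Cfsg.Agent.Lib.Helper7.Syl8
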