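import Mathlib.GroupTheory.RegularWreathProduct
import Mathlib.GroupTheory.Solvable
import Mathlib.GroupTheory.Nilpotent
import Mathlib.GroupTheory.PGroup
import Mathlib.GroupTheory.Sylow
import Mathlib.GroupTheory.Index
import Mathlib.GroupTheory.Perm.ViaEmbedding
import Mathlib.Data.ZMod.Basic

/-!
# Derived length of `p`-subgroups of symmetric groups (helper7, for S4014)

* `derivedSeries_eq_bot_of_orbit_lt`: a finite `p`-group acting faithfully with all orbits of
  size `< p^(k+1)` has `derivedSeries G k = ⊥`.
* `derivedSeries_wreath_ne_bot`: `derivedSeries D j ≠ ⊥ → derivedSeries (D ≀ᵣ Q) (j+1) ≠ ⊥`.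
* `derivedSeries_iterated_ne_bot`, `exists_injective_iterated`.
-/

set_option autoImplicit false

namespace Cfsg.Agent.Lib.Helper7.SylDL

open MulAction
open scoped commutatorElement Pointwise
open RegularWreathProduct



/-- shifting: if `H ≤ derivedSeries G i` then the `j`-th derived subgroup of `H` lies in the
`(i+j)`-th of `G`. -/
theorem map_derivedSeries_le_shift {G : Type*} [Group G] (H : Subgroup G) (i : ℕ)
    (hH : H ≤ derivedSeries G i) (j : ℕ) :
    (derivedSeries ↥H j).map H.subtype ≤ derivedSeries G (i + j) := by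
  induction j with
  | zero =>
    simp only [derivedSeries_zero, add_zero]
    rw [← MonoidHom.range_eq_map, Subgroup.range_subtype]; exact hH
  | succ j ih =>
    rw [derivedSeries_succ, Subgroup.map_commutator, ← add_assoc, derivedSeries_succ]
    exact Subgroup.commutator_mono ih ih

/-- `derivedSeries G (k+1)` is the image of `derivedSeries (commutator G) k`. -/
theorem derivedSeries_succ_le_map_commutator {G : Type*} [Group G] (k : ℕ) :
    derivedSeries G (k + 1) ≤ (derivedSeries ↥(commutator G) k).map (commutator G).subtype := by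
  induction k with
  | zero =>
    simp only [derivedSeries_zero, zero_add, derivedSeries_one]
    rw [← MonoidHom.range_eq_map, Subgroup.range_subtype]
  | succ k ih =>
    rw [derivedSeries_succ, derivedSeries_succ (G := ↥(commutator G)), Subgroup.map_commutator]
    exact Subgroup.commutator_mono ih ih





/-- In a finite `p`-group a maximal subgroup contains the commutator subgroup and has index
divisible by `p`. -/
theorem coatom_facts {p : ℕ} [Fact p.Prime] {G : Type*} [Group G] [Finite G] (hG : IsPGroup p G)
    (M : Subgroup G) (hM : IsCoatom M) : commutator G ≤ M ∧ p ∣ M.index := by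
  have : Group.IsNilpotent G := hG.isNilpotent
  have hMn : M.Normal :=
    ((Group.isNilpotent_of_finite_tfae (G := G)).out 0 2 rfl rfl).mp inferInstance M hM
  constructor
  · have : Nontrivial (G ⧸ M) := by
      rw [← Finite.one_lt_card_iff_nontrivial]
      have h1 : M.index ≠ 1 := fun h => hM.1 (Subgroup.index_eq_one.mp h)
      have h0 : M.index ≠ 0 := Subgroup.index_ne_zero_of_finite
      rw [← Subgroup.index_eq_card]; omega
    have hQ : IsPGroup p (G ⧸ M) := hG.to_quotient M
    have := hQ.center_nontrivial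
    have hZ : Subgroup.center (G ⧸ M) ≠ ⊥ := by
      intro h
      have := (Subgroup.nontrivial_iff_ne_bot _).mp ‹Nontrivial (Subgroup.center (G ⧸ M))›
      exact this h
    have hle : M ≤ (Subgroup.center (G ⧸ M)).comap (QuotientGroup.mk' M) := by
      intro x hx
      rw [Subgroup.mem_comap]
      have : (QuotientGroup.mk' M) x = 1 := (QuotientGroup.eq_one_iff x).mpr hx
      rw [this]; exact Subgroup.one_mem _
    have hsurj : Function.Surjective (QuotientGroup.mk' M) := QuotientGroup.mk'_surjective M
    have hne : (Subgroup.center (G ⧸ M)).comap (QuotientGroup.mk' M) ≠ M := by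
      intro h
      apply hZ
      rw [← Subgroup.map_comap_eq_self_of_surjective hsurj (Subgroup.center (G ⧸ M)), h]
      rw [eq_bot_iff]
      rintro _ ⟨x, hx, rfl⟩
      exact (QuotientGroup.eq_one_iff x).mpr hx
    have htop : (Subgroup.center (G ⧸ M)).comap (QuotientGroup.mk' M) = ⊤ :=
      hM.2 _ (lt_of_le_of_ne hle (Ne.symm hne))
    rw [commutator_eq_closure, Subgroup.closure_le]
    rintro _ ⟨a, b, rfl⟩
    have ha : (QuotientGroup.mk' M) a ∈ Subgroup.center (G ⧸ M) := by
      have : a ∈ (Subgroup.center (G ⧸ M)).comap (QuotientGroup.mk' M) := by rw [htop]; trivial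
      exact this
    change a * b * a⁻¹ * b⁻¹ ∈ M
    rw [← QuotientGroup.eq_one_iff]
    have hc := Subgroup.mem_center_iff.mp ha ((QuotientGroup.mk' M) b)
    simp only [QuotientGroup.mk'_apply] at hc
    simp only [QuotientGroup.mk_mul, QuotientGroup.mk_inv]
    rw [← hc]; group
  · obtain ⟨n, hn⟩ := hG.index M
    have h1 : M.index ≠ 1 := fun h => hM.1 (Subgroup.index_eq_one.mp h)
    rcases n with _ | n
    · rw [pow_zero] at hn; exact absurd hn h1
    · rw [hn, pow_succ]; exact dvd_mul_left _ _





/-- orbits of the commutator subgroup of a finite `p`-group are smaller by a factor `p`. -/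
theorem ncard_orbit_commutator {p : ℕ} [Fact p.Prime] {G : Type*} [Group G] [Finite G]
    (hG : IsPGroup p G) {α : Type*} [MulAction G α] (x : α) :
    (orbit ↥(commutator G) x).ncard = 1 ∨
      (orbit ↥(commutator G) x).ncard * p ≤ (orbit G x).ncard := by
  have hfin : (orbit G x).Finite := Set.finite_range _
  by_cases htop : stabilizer G x = ⊤
  · left
    have h1 : (orbit G x).ncard = 1 := by
      rw [← index_stabilizer, htop, Subgroup.index_top]
    have hsub : orbit ↥(commutator G) x ⊆ orbit G x := by
      rintro _ ⟨n, rfl⟩; exact ⟨(n : G), rfl⟩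
    have hle := Set.ncard_le_ncard hsub hfin
    have hpos : 0 < (orbit ↥(commutator G) x).ncard :=
      (Set.ncard_pos (hfin.subset hsub)).mpr ⟨x, mem_orbit_self x⟩
    omega
  · right
    obtain ⟨M, hM, hle⟩ := (eq_top_or_exists_le_coatom (stabilizer G x)).resolve_left htop
    obtain ⟨hcM, hpM⟩ := coatom_facts hG M hM
    have hsub : orbit ↥(commutator G) x ⊆ orbit ↥M x := by
      rintro _ ⟨n, rfl⟩; exact ⟨⟨(n : G), hcM n.2⟩, rfl⟩
    have hfinM : (orbit ↥M x).Finite := Set.finite_range _
    have h1 := Set.ncard_le_ncard hsub hfinM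
    have hstab : stabilizer ↥M x = (stabilizer G x).subgroupOf M := by
      ext m
      simp only [mem_stabilizer_iff, Subgroup.mem_subgroupOf]
      rfl
    have h2 : (orbit ↥M x).ncard = (stabilizer G x).relIndex M := by
      rw [← index_stabilizer, hstab]; rfl
    have h3 := Subgroup.relIndex_mul_index hle
    rw [index_stabilizer, ← h2] at h3
    obtain ⟨c, hc⟩ := hpM
    rw [hc] at h3
    have hc0 : 0 < c := by
      rcases Nat.eq_zero_or_pos c with h | h
      · exfalso
        have : M.index ≠ 0 := Subgroup.index_ne_zero_of_finite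
        rw [hc, h, mul_zero] at this; exact this rfl
      · exact h
    calc (orbit ↥(commutator G) x).ncard * p ≤ (orbit ↥M x).ncard * p :=
          Nat.mul_le_mul_right _ h1
      _ ≤ (orbit ↥M x).ncard * (p * c) := by
          apply Nat.mul_le_mul_left
          exact Nat.le_mul_of_pos_right _ hc0
      _ = (orbit G x).ncard := h3

/-- **Upper bound.** A finite `p`-group acting faithfully with all orbits of size `< p^(k+1)` has
derived length at most `k`. -/
theorem derivedSeries_eq_bot_of_orbit_lt {p : ℕ} [Fact p.Prime] (k : ℕ) :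
    ∀ {G : Type*} [Group G] [Finite G] (_ : IsPGroup p G) {α : Type*} [MulAction G α]
      [FaithfulSMul G α], (∀ x : α, (orbit G x).ncard < p ^ (k + 1)) → derivedSeries G k = ⊥ := by
  induction k with
  | zero =>
    intro G _ _ hG α _ _ h
    have hp : 1 < p := (Fact.out : p.Prime).one_lt
    have htriv : ∀ (g : G) (x : α), g • x = x := by
      intro g x
      have hx := h x
      have : Finite ↥(orbit G x) := (Set.finite_range _).to_subtype
      obtain ⟨n, hn⟩ := hG.card_orbit x
      rw [Nat.card_coe_set_eq] at hn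
      rw [hn, zero_add, pow_one] at hx
      have hn0 : n = 0 := by
        by_contra h0
        have : p ^ 1 ≤ p ^ n := Nat.pow_le_pow_right (Fact.out : p.Prime).pos (by omega)
        rw [pow_one] at this; omega
      rw [hn0, pow_zero] at hn
      have hmem : g • x ∈ orbit G x := mem_orbit x g
      have hself : x ∈ orbit G x := mem_orbit_self x
      obtain ⟨y, hy⟩ := Set.ncard_eq_one.mp hn
      rw [hy] at hmem hself
      rw [Set.mem_singleton_iff] at hmem hself
      rw [hmem, hself]
    have hsub : Subsingleton G := by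
      constructor
      intro a b
      apply FaithfulSMul.eq_of_smul_eq_smul (α := α)
      intro x; rw [htriv, htriv]
    rw [eq_bot_iff]
    intro g _
    rw [Subsingleton.elim g 1]; exact Subgroup.one_mem _
  | succ k ih =>
    intro G _ _ hG α _ _ h
    have hN : IsPGroup p ↥(commutator G) := hG.to_subgroup _
    have horb : ∀ x : α, (orbit ↥(commutator G) x).ncard < p ^ (k + 1) := by
      intro x
      have hpp : 0 < p := (Fact.out : p.Prime).pos
      rcases ncard_orbit_commutator hG x with h1 | h1
      · rw [h1]; exact Nat.one_lt_pow (by omega) (Fact.out : p.Prime).one_lt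
      · have hx := h x
        have : (orbit ↥(commutator G) x).ncard * p < p ^ (k + 1) * p := by
          rw [← pow_succ]; exact lt_of_le_of_lt h1 hx
        exact Nat.lt_of_mul_lt_mul_right this
    have := ih hN horb
    have h2 := derivedSeries_succ_le_map_commutator (G := G) k
    rw [this, Subgroup.map_bot] at h2
    exact le_bot_iff.mp h2





section wreath

variable {D Q : Type*} [Group D] [Group Q]


/-- the subgroup `W' ∩ base` of the regular wreath product. -/
def baseComm (D Q : Type*) [Group D] [Group Q] : Subgroup (D ≀ᵣ Q) :=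
  commutator (D ≀ᵣ Q) ⊓ (rightHom (D := D) (Q := Q)).ker

theorem right_eq_one_of_mem_baseComm {w : D ≀ᵣ Q} (hw : w ∈ baseComm D Q) : w.right = 1 := by
  exact MonoidHom.mem_ker.mp (Subgroup.mem_inf.mp hw).2

/-- evaluation of the base part at the coordinate `1`. -/
def evalOne (D Q : Type*) [Group D] [Group Q] : ↥(baseComm D Q) →* D where
  toFun w := w.1.left 1
  map_one' := rfl
  map_mul' a b := by
    change ((a : D ≀ᵣ Q) * (b : D ≀ᵣ Q)).left 1 = _
    rw [mul_left, right_eq_one_of_mem_baseComm a.2]
    simp

theorem evalOne_surjective [Nontrivial Q] : Function.Surjective (evalOne D Q) := by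
  classical
  intro d
  obtain ⟨q, hq⟩ := exists_ne (1 : Q)
  let a : D ≀ᵣ Q := ⟨Pi.mulSingle 1 d, 1⟩
  let t : D ≀ᵣ Q := inl q
  have hw : a * t * a⁻¹ * t⁻¹ ∈ baseComm D Q := by
    refine Subgroup.mem_inf.mpr ⟨?_, ?_⟩
    · have : a * t * a⁻¹ * t⁻¹ = ⁅a, t⁆ := (commutatorElement_def a t).symm
      rw [this]
      exact Subgroup.commutator_mem_commutator (Subgroup.mem_top a) (Subgroup.mem_top t)
    · rw [MonoidHom.mem_ker]
      simp [a, t, rightHom]
  refine ⟨⟨_, hw⟩, ?_⟩
  change (a * t * a⁻¹ * t⁻¹).left 1 = d
  have hq' : q⁻¹ ≠ 1 := by simpa using hq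
  simp [mul_left, inv_left, a, t, Pi.mulSingle_eq_of_ne hq']

/-- **Wreath step.** -/
theorem derivedSeries_wreath_ne_bot [Nontrivial Q] (j : ℕ) (h : derivedSeries D j ≠ ⊥) :
    derivedSeries (D ≀ᵣ Q) (j + 1) ≠ ⊥ := by
  intro hbot
  have h1 := map_derivedSeries_le_shift (baseComm D Q) 1
    (by rw [derivedSeries_one]; exact inf_le_left) j
  rw [add_comm, hbot, le_bot_iff] at h1
  have h2 : derivedSeries ↥(baseComm D Q) j = ⊥ := by
    rw [eq_bot_iff]
    intro x hx
    have : (baseComm D Q).subtype x ∈ (derivedSeries ↥(baseComm D Q) j).map (baseComm D Q).subtype :=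
      Subgroup.mem_map_of_mem _ hx
    rw [h1, Subgroup.mem_bot] at this
    rw [Subgroup.mem_bot]
    exact Subtype.ext this
  have h3 := derivedSeries_le_map_derivedSeries (f := evalOne D Q) evalOne_surjective j
  rw [h2, Subgroup.map_bot, le_bot_iff] at h3
  exact h h3

end wreath





theorem derivedSeries_iterated_ne_bot {G : Type*} [Group G] [Nontrivial G] (k : ℕ) :
    derivedSeries (IteratedWreathProduct G (k + 1)) k ≠ ⊥ := by
  induction k with
  | zero =>
    intro h
    obtain ⟨q, hq⟩ := exists_ne (1 : G)
    have h1 : (inl q : IteratedWreathProduct G 0 ≀ᵣ G) ∈ (⊥ : Subgroup (IteratedWreathProduct G 0 ≀ᵣ G)) := by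
      have h' : derivedSeries (IteratedWreathProduct G 0 ≀ᵣ G) 0 = ⊥ := h
      rw [← h', derivedSeries_zero]; trivial
    rw [Subgroup.mem_bot] at h1
    have := congrArg RegularWreathProduct.right h1
    exact hq this
  | succ k ih =>
    exact derivedSeries_wreath_ne_bot (D := IteratedWreathProduct G (k + 1)) (Q := G) k ih





theorem exists_injective_iterated (p : ℕ) [Fact p.Prime] (n k : ℕ) (hk : p ^ k ≤ n)
    (P : Sylow p (Equiv.Perm (Fin n))) :
    ∃ ψ : IteratedWreathProduct (Multiplicative (ZMod p)) k →* ↥(P : Subgroup (Equiv.Perm (Fin n))),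
      Function.Injective ψ := by
  have hG : Nat.card (Multiplicative (ZMod p)) = p := by
    rw [Nat.card_eq_fintype_card]; simp [ZMod.card]
  obtain ⟨P₀⟩ : Nonempty (Sylow p (Equiv.Perm (Fin (p ^ k)))) := inferInstance
  let e := Sylow.mulEquivIteratedWreathProduct p k (Fin (p ^ k)) (by simp)
    (Multiplicative (ZMod p)) hG P₀
  let φ : Equiv.Perm (Fin (p ^ k)) →* Equiv.Perm (Fin n) :=
    Equiv.Perm.viaEmbeddingHom (Fin.castLEEmb hk)
  have hφ : Function.Injective φ := Equiv.Perm.viaEmbeddingHom_injective _
  have hQ : IsPGroup p ((P₀ : Subgroup (Equiv.Perm (Fin (p ^ k)))).map φ) := P₀.2.map φ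
  obtain ⟨P₁, hP₁⟩ := hQ.exists_le_sylow
  obtain ⟨g, hg⟩ := MulAction.exists_smul_eq (Equiv.Perm (Fin n)) P₁ P
  let θ : IteratedWreathProduct (Multiplicative (ZMod p)) k →* Equiv.Perm (Fin n) :=
    (MulAut.conj g).toMonoidHom.comp
      (φ.comp ((P₀ : Subgroup (Equiv.Perm (Fin (p ^ k)))).subtype.comp e.symm.toMonoidHom))
  have hθ : Function.Injective θ := by
    intro a b hab
    simp only [θ, MonoidHom.coe_comp, Function.comp_apply, MulEquiv.coe_toMonoidHom] at hab
    have h1 := (MulAut.conj g).injective hab
    have h2 := hφ h1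
    have h3 := Subtype.ext_iff.mpr h2
    exact e.symm.injective h3
  have hmem : ∀ w, θ w ∈ (P : Subgroup (Equiv.Perm (Fin n))) := by
    intro w
    have h1 : φ ((e.symm w : ↥(P₀ : Subgroup (Equiv.Perm (Fin (p ^ k))))) : Equiv.Perm (Fin (p ^ k))) ∈
        (P₁ : Subgroup (Equiv.Perm (Fin n))) :=
      hP₁ (Subgroup.mem_map_of_mem _ (e.symm w).2)
    rw [← hg, Sylow.coe_subgroup_smul]
    exact Subgroup.smul_mem_pointwise_smul _ (MulAut.conj g) _ h1
  refine ⟨θ.codRestrict _ hmem, ?_⟩
  intro a b hab
  apply hθ
  have := congrArg Subtype.val hab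
  exact this


end Cfsg.Agent.Lib.Helper7.SylDL
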