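import Mathlib
import Cfsg.Prelude.Def_SylowControl
import Cfsg.Agent.Lib.Helper7.SylowControl

set_option autoImplicit false

namespace Cfsg.Agent.Lib.Helper7

open Cfsg

section basic
variable {G : Type*} [Group G]

/-- partial products, new factors on the left: `lprod x k = x_{k-1} * ... * x_0` -/
def lprod {n : ℕ} (x : Fin n → G) : ℕ → G
  | 0 => 1
  | k + 1 => if h : k < n then x ⟨k, h⟩ * lprod x k else lprod x k

theorem lprod_zero {n : ℕ} (x : Fin n → G) : lprod x 0 = 1 := rfl

theorem lprod_succ {n : ℕ} (x : Fin n → G) (k : ℕ) (h : k < n) :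
    lprod x (k + 1) = x ⟨k, h⟩ * lprod x k := by
  rw [lprod, dif_pos h]

theorem take_prod_succ {n : ℕ} (y : Fin n → G) (k : ℕ) (h : k < n) :
    ((List.ofFn y).take (k + 1)).prod = ((List.ofFn y).take k).prod * y ⟨k, h⟩ := by
  rw [List.take_add_one, List.prod_append]
  congr 1
  rw [List.getElem?_ofFn]
  simp [h]

theorem take_prod_zero {n : ℕ} (y : Fin n → G) : ((List.ofFn y).take 0).prod = 1 := by simp

theorem take_prod_last {n : ℕ} (y : Fin n → G) :
    ((List.ofFn y).take n).prod = (List.ofFn y).prod := by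
  rw [List.take_of_length_le (by simp)]

theorem subgroupConjRight_of_mem {Y : Subgroup G} {y : G} (hy : y ∈ Y) :
    subgroupConjRight y Y = Y := by
  ext z
  rw [mem_subgroupConjRight]
  constructor
  · intro h
    have := Y.mul_mem (Y.mul_mem (Y.inv_mem hy) h) hy
    convert this using 1; group
  · intro h
    exact Y.mul_mem (Y.mul_mem hy h) (Y.inv_mem hy)

theorem mem_normalizer_of_subgroupConjRight_eq {S : Subgroup G} {h : G}
    (e : subgroupConjRight h S = S) : h ∈ Subgroup.normalizer (S : Set G) := by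
  rw [Subgroup.mem_normalizer_iff]
  intro x
  rw [← mem_subgroupConjRight, e]

theorem subgroupConjRight_eq_of_mem_normalizer {S : Subgroup G} {h : G}
    (hh : h ∈ Subgroup.normalizer (S : Set G)) : subgroupConjRight h S = S := by
  ext x
  rw [mem_subgroupConjRight]
  exact (Subgroup.mem_normalizer_iff.mp hh x).symm

end basic

variable {G : Type*} [Group G] [Finite G] {p : ℕ} [Fact p.Prime]

omit [Finite G] [Fact p.Prime] in
theorem coe_smul_sylow (h : G) (S : Sylow p G) :
    ((h • S : Sylow p G) : Subgroup G) = subgroupConjRight h⁻¹ (S : Subgroup G) := by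
  rw [Sylow.coe_subgroup_smul, subgroupConjRight, inv_inv]
  rfl


theorem csi_imp_fscf (𝓕 : Set (Subgroup G)) (h𝓕 : Cfsg.IsNormalSet 𝓕)
    (hc : Cfsg.ControlsSylowIntersections p 𝓕) : Cfsg.FamilyStronglyControlsFusion p 𝓕 := by
  intro S A g hAS hne hAg
  set T : Sylow p G := g • S with hT
  have hTcoe : (T : Subgroup G) = subgroupConjRight g⁻¹ (S : Subgroup G) := coe_smul_sylow g S
  have hAT : A ⊆ ((T : Subgroup G) : Set G) := by
    intro a ha
    have h1 : g⁻¹ * a * g ∈ (S : Subgroup G) := hAg ⟨a, ha, rfl⟩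
    show a ∈ (T : Subgroup G)
    rw [hTcoe, mem_subgroupConjRight, inv_inv]
    exact h1
  by_cases hST : S = T
  · have hgN : g ∈ Subgroup.normalizer ((S : Subgroup G) : Set G) := by
      have e : subgroupConjRight g⁻¹ (S : Subgroup G) = S := by rw [← hTcoe, ← hST]
      have := mem_normalizer_of_subgroupConjRight_eq e
      simpa using Subgroup.inv_mem _ this
    exact ⟨0, Fin.elim0, Fin.elim0, g, hgN, fun i => i.elim0, by simp, fun i => i.elim0⟩
  · have hinf : (S : Subgroup G) ⊓ (T : Subgroup G) ≠ ⊥ := by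
      obtain ⟨a, ha, ha1⟩ := hne
      intro h
      apply ha1
      have : a ∈ (S : Subgroup G) ⊓ (T : Subgroup G) := ⟨hAS ha, hAT ha⟩
      rwa [h, Subgroup.mem_bot] at this
    obtain ⟨n, c, X, x, hc0, hcn, hstep⟩ := hc S T hST hinf
    set w := lprod x with hw
    have hw0 : w 0 = 1 := lprod_zero x
    have hws : ∀ (k : ℕ) (h : k < n), w (k + 1) = x ⟨k, h⟩ * w k := lprod_succ x
    have hcw : ∀ i : Fin (n + 1), subgroupConjRight (w i.val) (c i : Subgroup G) = S := by
      intro i
      induction i using Fin.induction with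
      | zero => rw [Fin.val_zero, hw0, subgroupConjRight_one, hc0]
      | succ i ih =>
        rw [Fin.val_succ, hws i.val i.2, ← subgroupConjRight_mul]
        obtain ⟨-, -, -, h4, -⟩ := hstep i
        rw [Fin.eta, h4]
        rw [Fin.val_castSucc] at ih
        exact ih
    set y : Fin n → G := fun i => (w i.val)⁻¹ * x i * w i.val with hy
    set Y : Fin n → Subgroup G := fun i => subgroupConjRight (w i.val) (X i) with hY
    have hprod : ∀ k : ℕ, k ≤ n → ((List.ofFn y).take k).prod = w k := by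
      intro k
      induction k with
      | zero => intro _; rw [take_prod_zero, hw0]
      | succ k ih =>
        intro hk
        have hk' : k < n := hk
        rw [take_prod_succ y k hk', ih hk'.le, hws k hk']
        simp only [hy]
        group
    have hTw : subgroupConjRight (w n) (T : Subgroup G) = S := by
      have := hcw (Fin.last n)
      rwa [Fin.val_last, hcn] at this
    have hy₀ : (w n)⁻¹ * g ∈ Subgroup.normalizer ((S : Subgroup G) : Set G) := by
      have e : subgroupConjRight (g⁻¹ * w n) (S : Subgroup G) = S := by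
        rw [← subgroupConjRight_mul, ← hTcoe, hTw]
      have := Subgroup.inv_mem _ (mem_normalizer_of_subgroupConjRight_eq e)
      convert this using 1; group
    refine ⟨n, Y, y, (w n)⁻¹ * g, hy₀, ?_, ?_, ?_⟩
    · intro i
      obtain ⟨h1, -, h3, -, -⟩ := hstep i
      constructor
      · have := sylowMembers_conj h𝓕 h1 (w i.val)
        have e := hcw i.castSucc
        rw [Fin.val_castSucc] at e
        rwa [e] at this
      · show y i ∈ subgroupConjRight (w i.val) (X i)
        rw [mem_subgroupConjRight]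
        simp only [hy]
        convert h3 using 1; group
    · rw [← take_prod_last, hprod n le_rfl]; group
    · intro i
      rw [hprod (i.val + 1) i.2]
      rintro _ ⟨a, ha, rfl⟩
      obtain ⟨-, -, h3, -, h5⟩ := hstep i
      have haST : a ∈ (S : Subgroup G) ⊓ (T : Subgroup G) := ⟨hAS ha, hAT ha⟩
      obtain ⟨ha1, ha2⟩ := Subgroup.mem_inf.mp (h5 haST)
      have hw1 : w (i.val + 1) = x i * w i.val := hws i.val i.2
      constructor
      · show (w (i.val + 1))⁻¹ * a * w (i.val + 1) ∈ (S : Subgroup G)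
        have e := hcw i.succ
        rw [Fin.val_succ] at e
        rw [← e, mem_subgroupConjRight]
        have e2 : w (i.val + 1) * ((w (i.val + 1))⁻¹ * a * w (i.val + 1)) * (w (i.val + 1))⁻¹ = a := by
          group
        rw [e2]; exact ha1
      · show (w (i.val + 1))⁻¹ * a * w (i.val + 1) ∈ subgroupConjRight (w i.val) (X i)
        rw [mem_subgroupConjRight, hw1]
        have := (X i).mul_mem ((X i).mul_mem ((X i).inv_mem h3) ha2) h3
        convert this using 1; group


theorem fscf_imp_csi (𝓕 : Set (Subgroup G)) (h𝓕 : Cfsg.IsNormalSet 𝓕)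
    (hf : Cfsg.FamilyStronglyControlsFusion p 𝓕) : Cfsg.ControlsSylowIntersections p 𝓕 := by
  intro S T hST hinf
  obtain ⟨g, hg⟩ := MulAction.exists_smul_eq G S T
  have hTcoe : (T : Subgroup G) = subgroupConjRight g⁻¹ (S : Subgroup G) := by
    rw [← hg]; exact coe_smul_sylow g S
  set A : Set G := (((S : Subgroup G) ⊓ (T : Subgroup G) : Subgroup G) : Set G) with hA
  have hAS : A ⊆ ((S : Subgroup G) : Set G) := fun a ha => ha.1
  have hne : ∃ a ∈ A, a ≠ 1 := by
    obtain ⟨a, ha1⟩ := (Subgroup.ne_bot_iff_exists_ne_one).mp hinf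
    exact ⟨a.1, a.2, fun h => ha1 (Subtype.ext h)⟩
  have hAg : conjRight g A ⊆ ((S : Subgroup G) : Set G) := by
    rintro _ ⟨a, ha, rfl⟩
    have h1 : a ∈ (T : Subgroup G) := ha.2
    rw [hTcoe, mem_subgroupConjRight, inv_inv] at h1
    exact h1
  obtain ⟨n, Y, y, y₀, hy₀, hY, hgeq, hAY⟩ := hf S A g hAS hne hAg
  set r : ℕ → G := fun k => ((List.ofFn y).take k).prod with hr
  have hr0 : r 0 = 1 := take_prod_zero y
  have hrs : ∀ (k : ℕ) (h : k < n), r (k + 1) = r k * y ⟨k, h⟩ := take_prod_succ y
  have hrn : r n = g * y₀⁻¹ := by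
    show ((List.ofFn y).take n).prod = g * y₀⁻¹
    rw [take_prod_last, hgeq]; group
  refine ⟨n, fun i => (r i.val) • S, fun i => subgroupConjRight (r i.val)⁻¹ (Y i),
    fun i => r i.val * y i * (r i.val)⁻¹, ?_, ?_, ?_⟩
  · show r (0 : Fin (n + 1)).val • S = S
    rw [Fin.val_zero, hr0, one_smul]
  · show r (Fin.last n).val • S = T
    rw [Fin.val_last, hrn, mul_smul, ← hg]
    congr 1
    rw [Sylow.smul_eq_iff_mem_normalizer]
    exact Subgroup.inv_mem _ hy₀
  · intro i
    obtain ⟨hYi, hyi⟩ := hY i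
    have hrs' : r (i.val + 1) = r i.val * y i := hrs i.val i.2
    have hc1 : (((r i.castSucc.val) • S : Sylow p G) : Subgroup G) =
        subgroupConjRight (r i.val)⁻¹ (S : Subgroup G) := by
      rw [Fin.val_castSucc]; exact coe_smul_sylow _ S
    have hc2 : (((r i.succ.val) • S : Sylow p G) : Subgroup G) =
        subgroupConjRight (r i.val)⁻¹ (subgroupConjRight (y i)⁻¹ (S : Subgroup G)) := by
      rw [Fin.val_succ, coe_smul_sylow, hrs', subgroupConjRight_mul, mul_inv_rev]
    refine ⟨?_, ?_, ?_, ?_, ?_⟩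
    · show subgroupConjRight (r i.val)⁻¹ (Y i) ∈ sylowMembers p 𝓕 (((r i.castSucc.val) • S : Sylow p G) : Subgroup G)
      rw [hc1]
      exact sylowMembers_conj h𝓕 hYi _
    · show subgroupConjRight (r i.val)⁻¹ (Y i) ∈ sylowMembers p 𝓕 (((r i.succ.val) • S : Sylow p G) : Subgroup G)
      rw [hc2]
      have h1 := sylowMembers_conj h𝓕 hYi (y i)⁻¹
      rw [subgroupConjRight_of_mem ((Y i).inv_mem hyi)] at h1
      exact sylowMembers_conj h𝓕 h1 _
    · show r i.val * y i * (r i.val)⁻¹ ∈ subgroupConjRight (r i.val)⁻¹ (Y i)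
      rw [mem_subgroupConjRight]
      convert hyi using 1; group
    · show subgroupConjRight (r i.val * y i * (r i.val)⁻¹) (((r i.succ.val) • S : Sylow p G) : Subgroup G) =
        (((r i.castSucc.val) • S : Sylow p G) : Subgroup G)
      rw [hc1, hc2, subgroupConjRight_mul, subgroupConjRight_mul]
      congr 1
      group
    · show (S : Subgroup G) ⊓ (T : Subgroup G) ≤
        (((r i.succ.val) • S : Sylow p G) : Subgroup G) ⊓ subgroupConjRight (r i.val)⁻¹ (Y i)
      intro a ha
      have hz := hAY i ⟨a, ha, rfl⟩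
      obtain ⟨hz1, hz2⟩ := hz
      have hz1' : (r (i.val + 1))⁻¹ * a * r (i.val + 1) ∈ (S : Subgroup G) := hz1
      have hz2' : (r (i.val + 1))⁻¹ * a * r (i.val + 1) ∈ Y i := hz2
      rw [Subgroup.mem_inf]
      constructor
      · rw [Fin.val_succ, coe_smul_sylow, mem_subgroupConjRight, inv_inv]
        exact hz1'
      · rw [mem_subgroupConjRight, inv_inv]
        rw [hrs'] at hz2'
        have := (Y i).mul_mem ((Y i).mul_mem hyi hz2') ((Y i).inv_mem hyi)
        convert this using 1; group

theorem csi_iff_fscf (𝓕 : Set (Subgroup G)) (h𝓕 : Cfsg.IsNormalSet 𝓕) :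
    Cfsg.ControlsSylowIntersections p 𝓕 ↔ Cfsg.FamilyStronglyControlsFusion p 𝓕 :=
  ⟨csi_imp_fscf 𝓕 h𝓕, fscf_imp_csi 𝓕 h𝓕⟩

end Cfsg.Agent.Lib.Helper7
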