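import Mathlib
import Cfsg.Prelude.Def_SylowChains
import Cfsg.Agent.Lib.Lead.StronglyEmbedded
import Cfsg.Agent.Lib.Helper7.StrEmb
import Cfsg.Agent.Lib.Helper7.SylowChain
import Cfsg.Agent.Lib.Helper7.CoprimeGen

set_option autoImplicit false

namespace Cfsg.Agent.Lib.Helper7

open scoped Pointwise
open Cfsg Cfsg.Agent.Lib.Lead.Conj Cfsg.Agent.Lib.Lead.StronglyEmbedded

variable {G : Type*} [Group G] [Finite G] {p : ℕ} [Fact p.Prime]

theorem exists_mem_sylow_normal_orderOf (P : Sylow p G) (N : Subgroup G) [N.Normal]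
    (hN : p ∣ Nat.card N) : ∃ a ∈ (P : Subgroup G), a ∈ N ∧ orderOf a = p := by
  obtain ⟨x, hx⟩ := exists_prime_orderOf_dvd_card' p hN
  have hxo : orderOf (x : G) = p := by rw [← hx]; exact Subgroup.orderOf_coe x
  obtain ⟨Q, hQ⟩ := (isPGroup_zpowers hxo).exists_le_sylow
  obtain ⟨g, hg⟩ := MulAction.exists_smul_eq G Q P
  refine ⟨g * (x : G) * g⁻¹, ?_, ‹N.Normal›.conj_mem _ x.2 g, ?_⟩
  · have hxQ : (x : G) ∈ (Q : Subgroup G) := hQ (Subgroup.mem_zpowers _)
    have h1 : (P : Subgroup G) = MulAut.conj g • (Q : Subgroup G) := by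
      rw [← hg, Sylow.coe_subgroup_smul]
    rw [h1]
    exact Subgroup.smul_mem_pointwise_smul (x : G) (MulAut.conj g) _ hxQ
  · rw [← hxo]
    exact orderOf_conj g (x : G)

theorem dvd_card_inf_of_not_connected (hG : ¬ Cfsg.IsSylowChainConnected p G)
    (N M : Subgroup G) [N.Normal] [M.Normal] (hN : p ∣ Nat.card N) (hM : p ∣ Nat.card M) :
    p ∣ Nat.card ↥(N ⊓ M) := by
  by_contra hK
  have hp : p.Prime := Fact.out
  obtain ⟨H, hH⟩ := exists_stronglyPEmbedded_of_not_connected hG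
  obtain ⟨P, hPH, -⟩ := sylow_le hH
  obtain ⟨a, haP, haN, hao⟩ := exists_mem_sylow_normal_orderOf P N hN
  obtain ⟨b, hbP, hbM, hbo⟩ := exists_mem_sylow_normal_orderOf P M hM
  -- P ∩ N ∩ M is trivial
  have htriv : ∀ x ∈ (P : Subgroup G), x ∈ N → x ∈ M → x = 1 := by
    intro x hxP hxN hxM
    obtain ⟨k, hk⟩ := P.isPGroup' ⟨x, hxP⟩
    have hk' : x ^ p ^ k = 1 := congrArg Subtype.val hk
    have hxK : (⟨x, ⟨hxN, hxM⟩⟩ : ↥(N ⊓ M)) ^ Nat.card ↥(N ⊓ M) = 1 := pow_card_eq_one'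
    have hxK' : x ^ Nat.card ↥(N ⊓ M) = 1 := congrArg Subtype.val hxK
    have hcop : Nat.Coprime (p ^ k) (Nat.card ↥(N ⊓ M)) :=
      Nat.Coprime.pow_left k ((Nat.Prime.coprime_iff_not_dvd hp).mpr hK)
    have := orderOf_dvd_of_pow_eq_one hk'
    have h2 := orderOf_dvd_of_pow_eq_one hxK'
    have h3 := Nat.eq_one_of_dvd_coprimes hcop this h2
    exact orderOf_eq_one_iff.mp h3
  have hab : a * b = b * a := by
    have h1 : a * b * a⁻¹ * b⁻¹ = 1 := by
      apply htriv
      · exact P.mul_mem (P.mul_mem (P.mul_mem haP hbP) (P.inv_mem haP)) (P.inv_mem hbP)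
      · have : a * (b * a⁻¹ * b⁻¹) ∈ N := N.mul_mem haN (‹N.Normal›.conj_mem _ (N.inv_mem haN) b)
        simpa [mul_assoc] using this
      · exact M.mul_mem (‹M.Normal›.conj_mem _ hbM a) (M.inv_mem hbM)
    calc a * b = (a * b * a⁻¹ * b⁻¹) * (b * a) := by group
      _ = b * a := by rw [h1, one_mul]
  have ha1 : a ≠ 1 := by
    intro h; rw [h, orderOf_one] at hao; exact hp.one_lt.ne hao
  have hb1 : b ≠ 1 := by
    intro h; rw [h, orderOf_one] at hbo; exact hp.one_lt.ne hbo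
  set A : Subgroup G := Subgroup.closure {a, b} with hA
  have hAP : A ≤ (P : Subgroup G) := by
    rw [hA, Subgroup.closure_le]
    rintro x (rfl | rfl)
    · exact haP
    · exact hbP
  have haA : a ∈ A := Subgroup.subset_closure (by simp)
  have hbA : b ∈ A := Subgroup.subset_closure (by simp)
  have hcomm : ∀ x ∈ A, ∀ y ∈ A, x * y = y * x := by
    have hA' : A ≤ Subgroup.centralizer (A : Set G) := by
      rw [hA, Subgroup.closure_le]
      have hc : ∀ x ∈ ({a, b} : Set G), ∀ y ∈ ({a, b} : Set G), x * y = y * x := by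
        rintro x (rfl | rfl) y (rfl | rfl)
        · rfl
        · exact hab
        · exact hab.symm
        · rfl
      intro x hx
      show x ∈ Subgroup.centralizer ((Subgroup.closure {a, b} : Subgroup G) : Set G)
      rw [Subgroup.centralizer_closure]
      rw [Subgroup.mem_centralizer_iff]
      intro y hy
      exact (hc x hx y hy).symm
    intro x hx y hy
    exact ((Subgroup.mem_centralizer_iff.mp (hA' hx)) y hy).symm
  have habm : ∀ m : ℕ, a * b ^ m ≠ 1 := by
    intro m hm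
    apply ha1
    have haeq : a = (b ^ m)⁻¹ := eq_inv_of_mul_eq_one_left hm
    exact htriv a haP haN (haeq ▸ M.inv_mem (M.pow_mem hbM m))
  have hAp : IsPGroup p ↥A := P.isPGroup'.to_le hAP
  have hcop : (Nat.card ↥A).Coprime (Nat.card ↥(N ⊓ M)) := by
    obtain ⟨k, hk⟩ := hAp.exists_card_eq
    rw [hk]
    exact Nat.Coprime.pow_left k ((Nat.Prime.coprime_iff_not_dvd hp).mpr hK)
  haveI : (N ⊓ M).Normal := inferInstance
  have hap : a ^ p = 1 := by rw [← hao]; exact pow_orderOf_eq_one a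
  have hbp : b ^ p = 1 := by rw [← hbo]; exact pow_orderOf_eq_one b
  have hgen := cgen_eq_of_rank_two hcomm haA hbA hap hbp hb1 habm _ (N ⊓ M) rfl
    (by rw [Subgroup.normalizer_eq_top]; exact le_top) hcop
  have hKH : N ⊓ M ≤ H := by
    rw [← hgen]
    unfold cgen
    apply iSup₂_le
    rintro x ⟨hxA, hx1⟩
    refine inf_le_right.trans ?_
    have hne : Subgroup.zpowers x ≠ ⊥ := by
      rw [Ne, Subgroup.zpowers_eq_bot]; exact hx1
    refine le_trans ?_ (normalizer_le hH (Subgroup.zpowers_le.mpr (hPH (hAP hxA)))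
      (P.isPGroup'.to_le (Subgroup.zpowers_le.mpr (hAP hxA))) hne)
    rw [Subgroup.le_normalizer_iff]
    rintro g hg _ ⟨k, rfl⟩
    rw [Subgroup.mem_centralizer_singleton_iff] at hg
    have hc : Commute g x := hg
    have : g * x ^ k * g⁻¹ = x ^ k := by
      rw [(hc.zpow_right k).eq, mul_inv_cancel_right]
    rw [this]
    exact ⟨k, rfl⟩
  have hMH : M ≤ H := by
    intro x hx
    apply mem_of_conj_mem hH (hPH haP) hao
    have h1 : x⁻¹ * a * x * a⁻¹ ∈ N ⊓ M := by
      refine ⟨?_, ?_⟩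
      · have := ‹N.Normal›.conj_mem _ haN x⁻¹
        rw [inv_inv] at this
        exact N.mul_mem this (N.inv_mem haN)
      · have : x⁻¹ * (a * x * a⁻¹) ∈ M := M.mul_mem (M.inv_mem hx) (‹M.Normal›.conj_mem _ hx a)
        simpa [mul_assoc] using this
    have h2 : x⁻¹ * a * x = (x⁻¹ * a * x * a⁻¹) * a := by group
    rw [h2]
    exact H.mul_mem (hKH h1) (hPH haP)
  obtain ⟨g, hg⟩ : ∃ g : G, g ∉ H := by
    by_contra hall
    push Not at hall
    exact hH.2.1 (eq_top_iff.mpr (fun g _ => hall g))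
  have hpH : p ∣ Nat.card ↥H := dvd_trans hM (Subgroup.card_dvd_of_le hMH)
  apply (isStronglyPEmbedded_iff_conj hH.2.1 hpH).mp hH g hg
  refine dvd_trans hM (Subgroup.card_dvd_of_le (le_inf hMH ?_))
  intro x hx
  rw [mem_map_conj]
  apply hMH
  have := ‹M.Normal›.conj_mem _ hx g⁻¹
  simpa using this

end Cfsg.Agent.Lib.Helper7
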