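import Mathlib
import Cfsg.Prelude.Def_Local
import Cfsg.Agent.Lib.Lead.CentricRadical
import Cfsg.Agent.Lib.Helper7.SylowLib

set_option autoImplicit false

namespace Cfsg.Agent.Lib.Helper7

open Cfsg

section

universe u

variable {M : Type u} [Group M] [Finite M] {p : ℕ} [hp : Fact p.Prime]

omit [Finite M] hp in
/-- A normal subgroup all of whose elements have `p`-power order modulo `C` lies in the preimage of
`O_p(M/C)`. -/
theorem le_comap_pCore_of_pow_mem (C : Subgroup M) [C.Normal] (L : Subgroup M) [hL : L.Normal]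
    (h : ∀ k ∈ L, ∃ j : ℕ, k ^ p ^ j ∈ C) :
    L ≤ (pCore p (M ⧸ C)).comap (QuotientGroup.mk' C) := by
  have hn : (L.map (QuotientGroup.mk' C)).Normal :=
    Subgroup.Normal.map hL _ (QuotientGroup.mk'_surjective _)
  have hp' : IsPGroup p (L.map (QuotientGroup.mk' C)) := by
    rintro ⟨_, k, hk, rfl⟩
    obtain ⟨j, hj⟩ := h k hk
    refine ⟨j, Subtype.ext ?_⟩
    show (QuotientGroup.mk' C k) ^ p ^ j = 1
    rw [← map_pow]
    exact (QuotientGroup.eq_one_iff _).mpr hj
  intro k hk
  exact le_pCore hn hp' ⟨k, hk, rfl⟩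

omit [Finite M] hp in
theorem exists_pow_mem_of_mem_comap_pCore (C : Subgroup M) [C.Normal] {x : M}
    (hx : x ∈ (pCore p (M ⧸ C)).comap (QuotientGroup.mk' C)) : ∃ j : ℕ, x ^ p ^ j ∈ C := by
  obtain ⟨j, hj⟩ := pCore_isPGroup p (M ⧸ C) ⟨_, hx⟩
  refine ⟨j, ?_⟩
  have h1 : (QuotientGroup.mk' C x) ^ p ^ j = 1 := congrArg Subtype.val hj
  rw [← map_pow] at h1
  exact (QuotientGroup.eq_one_iff _).mp h1


open Cfsg.Agent.Lib.Lead.CentricRadical Cfsg.Agent.S1907 Cfsg.Agent.Lib.Lead.PComplement in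
/-- Abstract form of S3076, inside `M = N_G(H)`. -/
theorem sylow_in_pCore_preimage_iff (D : Subgroup M) [hDn : D.Normal] (hD : IsPGroup p D)
    (C : Subgroup M) [hCn : C.Normal] (hCD : ∀ m : M, m ∈ C ↔ ∀ d ∈ D, d * m = m * d)
    (R : Sylow p M) :
    (D ≤ (pCore p (M ⧸ C)).comap (QuotientGroup.mk' C) ∧
      ¬ p ∣ D.relIndex ((pCore p (M ⧸ C)).comap (QuotientGroup.mk' C))) ↔
    ((R : Subgroup M) ⊓ C ≤ D ∧ pPrimePCore p M = D ⊔ C) := by
  obtain ⟨N, hN⟩ : ∃ N, N = (pCore p (M ⧸ C)).comap (QuotientGroup.mk' C) := ⟨_, rfl⟩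
  rw [← hN]
  have hCeq : C = Subgroup.centralizer (D : Set M) := by
    ext m
    rw [hCD, Subgroup.mem_centralizer_iff]
    rfl
  haveI hNn : N.Normal := by
    rw [hN]; exact Subgroup.Normal.comap (pCore_normal p _) _
  have hDN : D ≤ N := by
    rw [hN]
    apply le_comap_pCore_of_pow_mem C D
    intro k hk
    obtain ⟨j, hj⟩ := hD ⟨k, hk⟩
    refine ⟨j, ?_⟩
    have : k ^ p ^ j = 1 := congrArg Subtype.val hj
    rw [this]; exact C.one_mem
  have hCN : C ≤ N := by
    rw [hN]
    intro k hk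
    rw [Subgroup.mem_comap]
    have : QuotientGroup.mk' C k = 1 := (QuotientGroup.eq_one_iff _).mpr hk
    rw [this]; exact Subgroup.one_mem _
  haveI hOn : (pPrimeCore p M).Normal := Cfsg.Agent.H1.pPrimeCore_normal p
  haveI hLn : (pPrimePCore p M).Normal := pPrimePCore_normal
  have hdisj : D ⊓ pPrimeCore p M = ⊥ := inf_pPrimeCore_eq_bot hD
  have hOC : pPrimeCore p M ≤ C := by
    intro a ha
    rw [hCD]
    intro b hb
    exact (Subgroup.commute_of_normal_of_disjoint _ _ hOn hDn
      (by rw [disjoint_iff, inf_comm]; exact hdisj) a b ha hb).symm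
  have hDR : D ≤ (R : Subgroup M) := hD.le_sylow_of_normal R
  have hDL : D ≤ pPrimePCore p M := le_pPrimePCore hD
  have hLN : pPrimePCore p M ≤ N := by
    rw [hN]
    apply le_comap_pCore_of_pow_mem C _
    intro k hk
    obtain ⟨j, hj⟩ := exists_pow_mem_pPrimeCore hk
    exact ⟨j, hOC hj⟩
  constructor
  · rintro ⟨-, hsyl⟩
    -- R ⊓ N = D
    have hRN : (R : Subgroup M) ⊓ N = D := by
      symm
      have hle : D ≤ (R : Subgroup M) ⊓ N := le_inf hDR hDN
      have h1 := Subgroup.relIndex_mul_relIndex D ((R : Subgroup M) ⊓ N) N hle inf_le_right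
      obtain ⟨j, hj⟩ := IsPGroup.iff_card.mp (R.isPGroup'.to_le (inf_le_left : (R : Subgroup M) ⊓ N ≤ R))
      have h2 : D.relIndex ((R : Subgroup M) ⊓ N) ∣ p ^ j := by
        rw [← hj]; exact Subgroup.relIndex_dvd_card _ _
      obtain ⟨i, -, hi⟩ := (Nat.dvd_prime_pow hp.out).mp h2
      have hi0 : i = 0 := by
        by_contra hne
        apply hsyl
        rw [← h1, hi]
        exact Dvd.dvd.mul_right (dvd_pow_self p hne) _
      rw [hi0, pow_zero] at hi
      exact le_antisymm hle (Subgroup.relIndex_eq_one.mp hi)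
    have hCR : ∀ L : Subgroup M, L.Normal →
        (∀ k ∈ L, ∃ j : ℕ, k ^ p ^ j ∈ Subgroup.centralizer (D : Set M)) →
        (R : Subgroup M) ⊓ L ≤ D := by
      intro L hL hk
      rw [← hCeq] at hk
      have hLN' : L ≤ N := by
        rw [hN]; exact le_comap_pCore_of_pow_mem C L hk
      rw [← hRN]
      exact inf_le_inf_left _ hLN'
    obtain ⟨h1, -, -, -, -, h5⟩ := structure_of_CR D hD R hCR
    rw [← hCeq] at h1
    refine ⟨?_, ?_⟩
    · have := hCR C hCn (fun k hk => ⟨0, by rw [← hCeq]; simpa using hk⟩)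
      exact this
    · apply le_antisymm
      · rw [← h5]
        exact sup_le (hOC.trans le_sup_right) le_sup_left
      · exact sup_le hDL h1
  · rintro ⟨hZ, hL⟩
    refine ⟨hDN, ?_⟩
    have hZsyl : IsSylowIn p ((R : Subgroup M) ⊓ C) C := by
      apply IsSylowIn.inf_normal (IsSylowIn.of_sylow_top R) _ le_top
      rw [Subgroup.normalizer_eq_top]
    obtain ⟨Pc, hPc⟩ := hZsyl.exists_sylow
    have hcentral : (Pc : Subgroup ↥C) ≤ Subgroup.center ↥C := by
      intro z hz
      rw [hPc, Subgroup.mem_subgroupOf] at hz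
      rw [Subgroup.mem_center_iff]
      intro c
      apply Subtype.ext
      have h2 := (hCD c).mp c.2 _ (hZ hz)
      simp only [Subgroup.coe_mul]
      exact h2.symm
    have hcard := card_eq_card_pPrimeCore_mul_of_central_sylow Pc hcentral
    haveI := Cfsg.Agent.Lib.Lead.PiCore.pPrimeCore_characteristic (G := ↥C) hp.out
    haveI hK'n : (pPrimeCore p ↥C).Normal := Cfsg.Agent.H1.pPrimeCore_normal p
    haveI hKn : ((pPrimeCore p ↥C).map C.subtype).Normal :=
      ConjAct.normal_of_characteristic_of_normal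
    obtain ⟨K, hK⟩ : ∃ K, K = (pPrimeCore p ↥C).map C.subtype := ⟨_, rfl⟩
    rw [← hK] at hKn
    have hKcard : Nat.card ↥K = Nat.card ↥(pPrimeCore p ↥C) := by
      rw [hK]; exact Subgroup.card_map_of_injective C.subtype_injective
    have hKc : (Nat.card ↥K).Coprime p := by
      rw [hKcard]; exact Cfsg.Agent.H1.pPrimeCore_coprime p
    have hKO : K ≤ pPrimeCore p M := Cfsg.Agent.H1.le_pPrimeCore hKn hKc
    have hKC : K ≤ C := by rw [hK]; exact Subgroup.map_subtype_le _
    obtain ⟨b, hb⟩ := IsPGroup.iff_card.mp Pc.isPGroup'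
    have hidx : (pPrimeCore p ↥C).index = p ^ b := by
      have h1 := (pPrimeCore p ↥C).card_mul_index
      rw [hcard, hb] at h1
      exact Nat.eq_of_mul_eq_mul_left Nat.card_pos h1
    have hCpow : ∀ c ∈ C, c ^ p ^ b ∈ K := by
      intro c hc
      have h1 := Subgroup.pow_index_mem (pPrimeCore p ↥C) (⟨c, hc⟩ : ↥C)
      rw [hidx] at h1
      rw [hK]
      exact ⟨_, h1, rfl⟩
    have hNL : N ≤ pPrimePCore p M := by
      unfold pPrimePCore
      apply le_comap_pCore_of_pow_mem (pPrimeCore p M) N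
      intro k hk
      rw [hN] at hk
      obtain ⟨a, ha⟩ := exists_pow_mem_of_mem_comap_pCore C hk
      refine ⟨a + b, ?_⟩
      rw [pow_add, pow_mul]
      exact hKO (hCpow _ ha)
    have hsupC : K ⊔ ((R : Subgroup M) ⊓ C) = C := by
      apply Subgroup.eq_of_le_of_card_ge (sup_le hKC inf_le_right)
      have hPcard : Nat.card ↥(Pc : Subgroup ↥C) = Nat.card ↥((R : Subgroup M) ⊓ C : Subgroup M) := by
        rw [hPc]; exact card_subgroupOf_of_le inf_le_right
      rw [hcard, ← hKcard, hPcard]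
      apply Nat.le_of_dvd Nat.card_pos
      obtain ⟨j, hj⟩ := IsPGroup.iff_card.1
        (R.isPGroup'.to_le (inf_le_left : (R : Subgroup M) ⊓ C ≤ R))
      apply Nat.Coprime.mul_dvd_of_dvd_of_dvd
      · rw [hj]; exact hKc.pow_right j
      · exact Subgroup.card_dvd_of_le le_sup_left
      · exact Subgroup.card_dvd_of_le le_sup_right
    have hNeq : N = D ⊔ K := by
      apply le_antisymm
      · calc N ≤ D ⊔ C := hL ▸ hNL
          _ = D ⊔ (K ⊔ ((R : Subgroup M) ⊓ C)) := by rw [hsupC]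
          _ ≤ D ⊔ K := sup_le le_sup_left (sup_le le_sup_right (hZ.trans le_sup_left))
      · exact sup_le hDN (hKC.trans hCN)
    rw [hNeq, Subgroup.relIndex_sup_left, ← Subgroup.inf_relIndex_right]
    intro hdvd
    have h1 : p ∣ Nat.card ↥K := hdvd.trans (Subgroup.relIndex_dvd_card _ _)
    have := Nat.Coprime.eq_one_of_dvd hKc.symm h1
    exact hp.out.one_lt.ne' this

end


section transfer

variable {G : Type*} [Group G]

theorem le_map_subtype_iff (M H : Subgroup G) (hHM : H ≤ M) (N' : Subgroup ↥M) :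
    H ≤ N'.map M.subtype ↔ H.subgroupOf M ≤ N' := by
  conv_lhs => rw [← Subgroup.map_subgroupOf_eq_of_le hHM]
  exact Subgroup.map_le_map_iff_of_injective M.subtype_injective

theorem relIndex_map_subtype (M H : Subgroup G) (hHM : H ≤ M) (N' : Subgroup ↥M) :
    H.relIndex (N'.map M.subtype) = (H.subgroupOf M).relIndex N' := by
  conv_lhs => rw [← Subgroup.map_subgroupOf_eq_of_le hHM]
  exact Subgroup.relIndex_map_map_of_injective _ _ M.subtype_injective

theorem map_subtype_eq_sup_iff (M H C : Subgroup G) (hHM : H ≤ M) (hCM : C ≤ M) (L : Subgroup ↥M) :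
    L.map M.subtype = H ⊔ C ↔ L = H.subgroupOf M ⊔ C.subgroupOf M := by
  conv_lhs => rw [← Subgroup.map_subgroupOf_eq_of_le hHM, ← Subgroup.map_subgroupOf_eq_of_le hCM,
    ← Subgroup.map_sup]
  exact (Subgroup.map_injective M.subtype_injective).eq_iff

end transfer

/-- S3076. -/
theorem sylow_in_pCore_preimage_iff' {G : Type*} [Group G] [Finite G] {p : ℕ} [Fact p.Prime]
    (P : Sylow p G) (H : Subgroup G) (hHP : H ≤ (P : Subgroup G))
    (hSyl : ¬ p ∣ ((P : Subgroup G) ⊓ Subgroup.normalizer (H : Set G)).relIndex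
      (Subgroup.normalizer (H : Set G)))
    [hC : ((Subgroup.centralizer (H : Set G)).subgroupOf (Subgroup.normalizer (H : Set G))).Normal] :
    (H ≤ ((Cfsg.pCore p (↥(Subgroup.normalizer (H : Set G)) ⧸
              (Subgroup.centralizer (H : Set G)).subgroupOf (Subgroup.normalizer (H : Set G)))).comap
            (QuotientGroup.mk' _)).map (Subgroup.normalizer (H : Set G)).subtype ∧
      ¬ p ∣ H.relIndex (((Cfsg.pCore p (↥(Subgroup.normalizer (H : Set G)) ⧸
              (Subgroup.centralizer (H : Set G)).subgroupOf (Subgroup.normalizer (H : Set G)))).comap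
            (QuotientGroup.mk' _)).map (Subgroup.normalizer (H : Set G)).subtype)) ↔
    ((P : Subgroup G) ⊓ Subgroup.centralizer (H : Set G) ≤ H ∧
      (Cfsg.pPrimePCore p ↥(Subgroup.normalizer (H : Set G))).map
          (Subgroup.normalizer (H : Set G)).subtype =
        H ⊔ Subgroup.centralizer (H : Set G)) := by
  obtain ⟨M, hM⟩ : ∃ M, M = Subgroup.normalizer (H : Set G) := ⟨_, rfl⟩
  subst hM
  have hHM : H ≤ Subgroup.normalizer (H : Set G) := Subgroup.le_normalizer
  have hCM : Subgroup.centralizer (H : Set G) ≤ Subgroup.normalizer (H : Set G) :=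
    Subgroup.centralizer_le_normalizer _
  haveI hDn : (H.subgroupOf (Subgroup.normalizer (H : Set G))).Normal := Subgroup.normal_in_normalizer
  have hD : IsPGroup p (H.subgroupOf (Subgroup.normalizer (H : Set G))) :=
    (P.isPGroup'.to_le hHP).comap_subtype
  have hCD : ∀ m : ↥(Subgroup.normalizer (H : Set G)),
      m ∈ (Subgroup.centralizer (H : Set G)).subgroupOf (Subgroup.normalizer (H : Set G)) ↔
        ∀ d ∈ H.subgroupOf (Subgroup.normalizer (H : Set G)), d * m = m * d := by
    intro m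
    rw [Subgroup.mem_subgroupOf, Subgroup.mem_centralizer_iff]
    constructor
    · intro h d hd
      apply Subtype.ext
      exact h d (Subgroup.mem_subgroupOf.mp hd)
    · intro h x hx
      exact congrArg Subtype.val (h ⟨x, hHM hx⟩ (Subgroup.mem_subgroupOf.mpr hx))
  have hRp : IsPGroup p (((P : Subgroup G) ⊓ Subgroup.normalizer (H : Set G)).subgroupOf
      (Subgroup.normalizer (H : Set G))) :=
    (P.isPGroup'.to_le inf_le_left).comap_subtype
  have hR : ((hRp.toSylow hSyl : Sylow p ↥(Subgroup.normalizer (H : Set G))) :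
      Subgroup ↥(Subgroup.normalizer (H : Set G))) =
      ((P : Subgroup G) ⊓ Subgroup.normalizer (H : Set G)).subgroupOf
        (Subgroup.normalizer (H : Set G)) := IsPGroup.toSylow_coe _ _
  have key := sylow_in_pCore_preimage_iff (H.subgroupOf (Subgroup.normalizer (H : Set G))) hD
    ((Subgroup.centralizer (H : Set G)).subgroupOf (Subgroup.normalizer (H : Set G))) hCD
    (hRp.toSylow hSyl)
  have ec : ((P : Subgroup G) ⊓ Subgroup.centralizer (H : Set G) ≤ H) ↔
      ((hRp.toSylow hSyl : Sylow p ↥(Subgroup.normalizer (H : Set G))) :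
        Subgroup ↥(Subgroup.normalizer (H : Set G))) ⊓
        (Subgroup.centralizer (H : Set G)).subgroupOf (Subgroup.normalizer (H : Set G)) ≤
        H.subgroupOf (Subgroup.normalizer (H : Set G)) := by
    rw [hR]
    constructor
    · rintro h m ⟨hm1, hm2⟩
      exact Subgroup.mem_subgroupOf.mpr
        (h ⟨(Subgroup.mem_subgroupOf.mp hm1).1, Subgroup.mem_subgroupOf.mp hm2⟩)
    · rintro h x ⟨hx1, hx2⟩
      have := h (x := ⟨x, hCM hx2⟩)
        ⟨Subgroup.mem_subgroupOf.mpr ⟨hx1, hCM hx2⟩, Subgroup.mem_subgroupOf.mpr hx2⟩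
      exact Subgroup.mem_subgroupOf.mp this
  rw [le_map_subtype_iff _ _ hHM, relIndex_map_subtype _ _ hHM, ec,
    map_subtype_eq_sup_iff _ _ _ hHM hCM]
  exact key

end Cfsg.Agent.Lib.Helper7
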