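import Mathlib
import Cfsg.Agent.Lib.Helper5.FreeCount

/-!
# Cyclic free actions on symplectic spaces over `ZMod p` (helper7, for S3767), part A
-/

set_option autoImplicit false

namespace Cfsg.Agent.Lib.Helper7.Symp

variable {p : ℕ} [Fact p.Prime] {V : Type*} [AddCommGroup V] [Module (ZMod p) V]

/-- `x` has `x ^ h = 1` and no power `x ^ k`, `0 < k < h`, fixes a nonzero vector. -/
structure FreeAct (x : Module.End (ZMod p) V) (h : ℕ) : Prop where
  pow_eq : x ^ h = 1
  free : ∀ k, 0 < k → k < h → ∀ v, (x ^ k) v = v → v = 0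

/-- invariance of a submodule -/
def Inv (x : Module.End (ZMod p) V) (W : Submodule (ZMod p) V) : Prop := ∀ w ∈ W, x w ∈ W

namespace Inv

variable {x : Module.End (ZMod p) V} {W : Submodule (ZMod p) V}

theorem pow (hW : Inv x W) (k : ℕ) : Inv (x ^ k) W := by
  induction k with
  | zero => intro w hw; simpa using hw
  | succ k ih =>
    intro w hw
    rw [pow_succ, Module.End.mul_apply]
    exact ih _ (hW w hw)

theorem inf {W' : Submodule (ZMod p) V} (hW : Inv x W) (hW' : Inv x W') : Inv x (W ⊓ W') :=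
  fun w hw => ⟨hW w hw.1, hW' w hw.2⟩

theorem sup {W' : Submodule (ZMod p) V} (hW : Inv x W) (hW' : Inv x W') : Inv x (W ⊔ W') := by
  intro w hw
  obtain ⟨a, ha, b, hb, rfl⟩ := Submodule.mem_sup.mp hw
  rw [map_add]
  exact Submodule.add_mem _ (Submodule.mem_sup_left (hW a ha)) (Submodule.mem_sup_right (hW' b hb))

end Inv

theorem inv_bot (x : Module.End (ZMod p) V) : Inv x ⊥ := by
  intro w hw
  rw [Submodule.mem_bot] at hw
  rw [hw, map_zero]; exact Submodule.zero_mem _

theorem inv_top (x : Module.End (ZMod p) V) : Inv x ⊤ := fun _ _ => Submodule.mem_top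

namespace FreeAct

variable {x : Module.End (ZMod p) V} {h : ℕ}

theorem restrict (hx : FreeAct x h) {W : Submodule (ZMod p) V} (hW : Inv x W) :
    FreeAct (x.restrict hW) h := by
  constructor
  · rw [Module.End.pow_restrict h hW (h' := hW.pow h)]
    ext w
    simp [hx.pow_eq]
  · intro k hk hkh v hv
    rw [Module.End.pow_restrict k hW (h' := hW.pow k)] at hv
    have h1 : (x ^ k) (v : V) = v := by
      exact congrArg Subtype.val hv
    exact Subtype.ext (hx.free k hk hkh v h1)

/-- `x ^ (h - 1)` is a left inverse of `x`. -/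
theorem inv_apply (hx : FreeAct x h) (hh : 0 < h) (v : V) : (x ^ (h - 1)) (x v) = v := by
  have : x ^ (h - 1) * x = 1 := by rw [← pow_succ, Nat.sub_add_cancel hh, hx.pow_eq]
  have := congrArg (fun f : Module.End (ZMod p) V => f v) this
  simpa using this

theorem apply_inv (hx : FreeAct x h) (hh : 0 < h) (v : V) : x ((x ^ (h - 1)) v) = v := by
  have : x * x ^ (h - 1) = 1 := by rw [← pow_succ', Nat.sub_add_cancel hh, hx.pow_eq]
  have := congrArg (fun f : Module.End (ZMod p) V => f v) this
  simpa using this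

/-- the permutation of `V` induced by `x`. -/
noncomputable def perm (hx : FreeAct x h) (hh : 0 < h) : Equiv.Perm V where
  toFun := fun v => x v
  invFun := fun v => (x ^ (h - 1)) v
  left_inv := hx.inv_apply hh
  right_inv := hx.apply_inv hh

theorem perm_pow (hx : FreeAct x h) (hh : 0 < h) (k : ℕ) (v : V) :
    ((hx.perm hh) ^ k) v = (x ^ k) v := by
  induction k generalizing v with
  | zero => simp
  | succ k ih =>
    rw [pow_succ, Equiv.Perm.mul_apply, ih, pow_succ, Module.End.mul_apply]
    rfl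

theorem pow_injective (hx : FreeAct x h) (hh : 0 < h) (k : ℕ) : Function.Injective (x ^ k) := by
  intro v w hvw
  have h1 : ((hx.perm hh) ^ k) v = ((hx.perm hh) ^ k) w := by
    rw [perm_pow, perm_pow]; exact hvw
  exact ((hx.perm hh) ^ k).injective h1

theorem injective (hx : FreeAct x h) (hh : 0 < h) : Function.Injective x :=
  (hx.perm hh).injective

theorem surjective (hx : FreeAct x h) (hh : 0 < h) : Function.Surjective x :=
  (hx.perm hh).surjective

/-- **orbit counting**: `h` divides `|V| - 1`. -/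
theorem dvd_card_sub_one [Finite V] (hx : FreeAct x h) (hh : 0 < h) : h ∣ Nat.card V - 1 := by
  classical
  have := Fintype.ofFinite V
  by_cases hV : Subsingleton V
  · have : Nat.card V = 1 := Nat.card_unique
    rw [this]; exact dvd_zero _
  rw [not_subsingleton_iff_nontrivial] at hV
  obtain ⟨v₀, hv₀⟩ := exists_ne (0 : V)
  set σ := hx.perm hh with hσ
  have hord : orderOf σ = h := by
    rw [orderOf_eq_iff hh]
    refine ⟨?_, ?_⟩
    · ext v
      rw [perm_pow, hx.pow_eq]; rfl
    · intro m hm hm0 hσm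
      have : (σ ^ m) v₀ = v₀ := by rw [hσm]; rfl
      rw [perm_pow] at this
      exact hv₀ (hx.free m hm0 hm v₀ this)
  have hcard : Nat.card (Subgroup.zpowers σ) = h := by rw [Nat.card_zpowers, hord]
  have hrep : ∀ g : Subgroup.zpowers σ, ∃ j : ℕ, j < h ∧ (g : Equiv.Perm V) = σ ^ j := by
    rintro ⟨g, hg⟩
    obtain ⟨k, rfl⟩ := Subgroup.mem_zpowers_iff.mp hg
    refine ⟨(k % (h : ℤ)).toNat, ?_, ?_⟩
    · have h1 : k % (h : ℤ) < h := Int.emod_lt_of_pos _ (by exact_mod_cast hh)
      have h2 : 0 ≤ k % (h : ℤ) := Int.emod_nonneg _ (by exact_mod_cast hh.ne')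
      omega
    · have h2 : 0 ≤ k % (h : ℤ) := Int.emod_nonneg _ (by exact_mod_cast hh.ne')
      change σ ^ k = σ ^ (k % (h : ℤ)).toNat
      rw [← zpow_natCast, Int.toNat_of_nonneg h2, ← hord, zpow_mod_orderOf]
  have hdvd := Cfsg.Agent.Lib.Helper5.FreeCount.card_dvd_of_free (H := Subgroup.zpowers σ)
    (α := V) ((Finset.univ.erase (0 : V)).card) (Finset.univ.erase (0 : V)) rfl
    (by
      intro g v hv
      obtain ⟨j, -, hj⟩ := hrep g
      rw [Finset.mem_erase] at hv ⊢
      refine ⟨?_, Finset.mem_univ _⟩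
      change (g : Equiv.Perm V) v ≠ 0
      rw [hj, perm_pow]
      intro h0
      apply hv.1
      apply hx.pow_injective hh j
      rw [h0, map_zero])
    (by
      intro g v hv hgv
      obtain ⟨j, hjh, hj⟩ := hrep g
      rw [Finset.mem_erase] at hv
      have h1 : (g : Equiv.Perm V) v = v := hgv
      rw [hj, perm_pow] at h1
      by_cases hj0 : j = 0
      · apply Subtype.ext
        rw [hj, hj0, pow_zero]; rfl
      · exact absurd (hx.free j (Nat.pos_of_ne_zero hj0) hjh v h1) hv.1)
  rw [hcard, Finset.card_erase_of_mem (Finset.mem_univ _), Finset.card_univ,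
    ← Nat.card_eq_fintype_card] at hdvd
  exact hdvd

/-- **Maschke**: invariant complements exist when `h` is prime to `p`. -/
theorem exists_inv_isCompl (hx : FreeAct x h) (hh : 0 < h) (hcop : h.Coprime p)
    (W : Submodule (ZMod p) V) (hW : Inv x W) :
    ∃ T : Submodule (ZMod p) V, Inv x T ∧ IsCompl W T := by
  have hp : p.Prime := Fact.out
  obtain ⟨T₀, hT₀⟩ := Submodule.exists_isCompl W
  let π : Module.End (ZMod p) V := W.subtype.comp (Submodule.projectionOnto W T₀ hT₀)
  have hπW : ∀ v, π v ∈ W := fun v => Submodule.coe_mem _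
  have hπid : ∀ w ∈ W, π w = w := by
    intro w hw
    change ((Submodule.projectionOnto W T₀ hT₀ w : W) : V) = w
    rw [Submodule.projectionOnto_apply_of_mem_left hT₀ hw]
  set y : Module.End (ZMod p) V := x ^ (h - 1) with hy
  have hxy : x * y = 1 := by rw [hy, ← pow_succ', Nat.sub_add_cancel hh, hx.pow_eq]
  have hyx : y * x = 1 := by rw [hy, ← pow_succ, Nat.sub_add_cancel hh, hx.pow_eq]
  have hyh : y ^ h = 1 := by rw [hy, ← pow_mul, mul_comm, pow_mul, hx.pow_eq, one_pow]
  have hWy : Inv y W := hW.pow (h - 1)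
  let f : ℕ → Module.End (ZMod p) V := fun k => x ^ k * π * y ^ k
  let S : Module.End (ZMod p) V := ∑ k ∈ Finset.range h, f k
  have hshift : ∑ k ∈ Finset.range h, f (k + 1) = S := by
    have h1 := Finset.sum_range_succ' f h
    have h2 := Finset.sum_range_succ f h
    have h3 : f h = f 0 := by
      simp only [f, hx.pow_eq, hyh, pow_zero]
    rw [h2, h3] at h1
    exact (add_right_cancel h1).symm
  have hxSy : x * S * y = S := by
    refine Eq.trans ?_ hshift
    change x * (∑ k ∈ Finset.range h, f k) * y = _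
    rw [Finset.mul_sum, Finset.sum_mul]
    apply Finset.sum_congr rfl
    intro k _
    change x * (x ^ k * π * y ^ k) * y = x ^ (k + 1) * π * y ^ (k + 1)
    rw [pow_succ' x k, pow_succ y k]
    simp only [mul_assoc]
  have hcomm : x * S = S * x := by
    calc x * S = x * S * (y * x) := by rw [hyx, mul_one]
      _ = (x * S * y) * x := by simp only [mul_assoc]
      _ = S * x := by rw [hxSy]
  have hSW : ∀ v, S v ∈ W := by
    intro v
    change (∑ k ∈ Finset.range h, f k) v ∈ W
    rw [LinearMap.sum_apply]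
    apply Submodule.sum_mem
    intro k _
    change (x ^ k) (π ((y ^ k) v)) ∈ W
    exact hW.pow k _ (hπW _)
  have hSid : ∀ w ∈ W, S w = (h : ZMod p) • w := by
    intro w hw
    change (∑ k ∈ Finset.range h, f k) w = _
    rw [LinearMap.sum_apply]
    have : ∀ k ∈ Finset.range h, f k w = w := by
      intro k _
      change (x ^ k) (π ((y ^ k) w)) = w
      rw [hπid _ (hWy.pow k w hw)]
      have : x ^ k * y ^ k = 1 := by
        rw [← (Commute.mul_pow (show Commute x y from by rw [Commute, SemiconjBy, hxy, hyx]) k),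
          hxy, one_pow]
      have := congrArg (fun g : Module.End (ZMod p) V => g w) this
      simpa using this
    rw [Finset.sum_congr rfl this, Finset.sum_const, Finset.card_range, Nat.cast_smul_eq_nsmul]
  have hh0 : (h : ZMod p) ≠ 0 := by
    intro h0
    rw [ZMod.natCast_eq_zero_iff] at h0
    have := Nat.Coprime.eq_one_of_dvd hcop.symm h0
    exact hp.one_lt.ne' this
  let c : ZMod p := (h : ZMod p)⁻¹
  have hc : c * (h : ZMod p) = 1 := inv_mul_cancel₀ hh0
  let π' : V →ₗ[ZMod p] W := LinearMap.codRestrict W (c • S) (fun v => by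
    rw [LinearMap.smul_apply]; exact W.smul_mem _ (hSW v))
  have hπ'id : ∀ w : W, π' w = w := by
    intro w
    apply Subtype.ext
    change (c • S) (w : V) = w
    rw [LinearMap.smul_apply, hSid _ w.2, smul_smul, hc, one_smul]
  refine ⟨LinearMap.ker π', ?_, LinearMap.isCompl_of_proj hπ'id⟩
  intro v hv
  rw [LinearMap.mem_ker] at hv ⊢
  have hv' : (c • S) v = 0 := congrArg Subtype.val hv
  apply Subtype.ext
  change (c • S) (x v) = 0
  rw [LinearMap.smul_apply] at hv' ⊢
  have : S (x v) = x (S v) := by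
    have := congrArg (fun g : Module.End (ZMod p) V => g v) hcomm
    simpa using this.symm
  rw [this, ← map_smul, hv', map_zero]

end FreeAct

/-- minimal nonzero invariant submodules exist. -/
theorem exists_minimal_inv [Finite V] [Nontrivial V] (x : Module.End (ZMod p) V) :
    ∃ W : Submodule (ZMod p) V, Inv x W ∧ W ≠ ⊥ ∧
      ∀ U : Submodule (ZMod p) V, Inv x U → U ≤ W → U = ⊥ ∨ U = W := by
  obtain ⟨W, -, hW⟩ := Finite.exists_le_minimal
    (p := fun W : Submodule (ZMod p) V => Inv x W ∧ W ≠ ⊥) (a := ⊤) ⟨inv_top x, top_ne_bot⟩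
  refine ⟨W, hW.prop.1, hW.prop.2, ?_⟩
  intro U hU hUW
  by_cases hU0 : U = ⊥
  · exact Or.inl hU0
  · exact Or.inr (le_antisymm hUW (hW.le_of_le ⟨hU, hU0⟩ hUW))

end Cfsg.Agent.Lib.Helper7.Symp
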