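import Mathlib
import Cfsg.Agent.Lib.Helper7.SympA

/-!
# Cyclic free actions on symplectic spaces over `ZMod p` (helper7, for S3767), part C:
the irreducible nondegenerate case.
-/

set_option autoImplicit false

namespace Cfsg.Agent.Lib.Helper7.Symp

variable {p : ℕ} [Fact p.Prime] {V : Type*} [AddCommGroup V] [Module (ZMod p) V]

/-- the data: nondegenerate alternating form, isometry acting freely. -/
structure Sympl (B : LinearMap.BilinForm (ZMod p) V) (x : Module.End (ZMod p) V) (h : ℕ) :
    Prop where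
  nondeg : ∀ v, (∀ w, B v w = 0) → v = 0
  alt : ∀ v, B v v = 0
  iso : ∀ v w, B (x v) (x w) = B v w
  act : FreeAct x h

section adjoint

variable {B : LinearMap.BilinForm (ZMod p) V}

theorem skew (halt : ∀ v, B v v = 0) (v w : V) : B v w = - B w v := by
  have h1 := halt (v + w)
  simp only [map_add, LinearMap.add_apply, halt v, halt w, zero_add, add_zero] at h1
  exact eq_neg_of_add_eq_zero_right h1

theorem nondegenerate_of (hnd : ∀ v, (∀ w, B v w = 0) → v = 0) (halt : ∀ v, B v v = 0) :
    B.Nondegenerate := by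
  refine ⟨hnd, ?_⟩
  intro w hw
  apply hnd
  intro v
  rw [skew halt, hw, neg_zero]

variable [Finite V]

/-- the adjoint of an endomorphism. -/
noncomputable def adj (hB : B.Nondegenerate) (a : Module.End (ZMod p) V) :
    Module.End (ZMod p) V :=
  B.leftAdjointOfNondegenerate hB a

theorem adj_spec (hB : B.Nondegenerate) (a : Module.End (ZMod p) V) (v w : V) :
    B (adj hB a v) w = B v (a w) :=
  B.isAdjointPairLeftAdjointOfNondegenerate hB a v w

theorem adj_unique (hB : B.Nondegenerate) (a b : Module.End (ZMod p) V)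
    (hab : ∀ v w, B (b v) w = B v (a w)) : b = adj hB a :=
  (B.isAdjointPair_iff_eq_of_nondegenerate hB b a).mp hab

theorem adj_add (hB : B.Nondegenerate) (a b : Module.End (ZMod p) V) :
    adj hB (a + b) = adj hB a + adj hB b := by
  symm
  apply adj_unique
  intro v w
  simp only [LinearMap.add_apply, map_add, adj_spec]

theorem adj_mul (hB : B.Nondegenerate) (a b : Module.End (ZMod p) V) :
    adj hB (a * b) = adj hB b * adj hB a := by
  symm
  apply adj_unique
  intro v w
  simp only [Module.End.mul_apply, adj_spec]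

theorem adj_one (hB : B.Nondegenerate) : adj hB (1 : Module.End (ZMod p) V) = 1 := by
  symm
  apply adj_unique
  intro v w
  simp

theorem adj_zero (hB : B.Nondegenerate) : adj hB (0 : Module.End (ZMod p) V) = 0 := by
  symm
  apply adj_unique
  intro v w
  simp

theorem adj_algebraMap (hB : B.Nondegenerate) (c : ZMod p) :
    adj hB (algebraMap (ZMod p) (Module.End (ZMod p) V) c) = algebraMap (ZMod p) _ c := by
  symm
  apply adj_unique
  intro v w
  simp [Module.algebraMap_end_apply]

theorem adj_adj (hB : B.Nondegenerate) (halt : ∀ v, B v v = 0) (a : Module.End (ZMod p) V) :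
    adj hB (adj hB a) = a := by
  symm
  apply adj_unique
  intro v w
  calc B (a v) w = - B w (a v) := skew halt _ _
    _ = - B (adj hB a w) v := by rw [adj_spec]
    _ = B v (adj hB a w) := (skew halt v _).symm

end adjoint

section irreducible

open Polynomial

variable {x : Module.End (ZMod p) V}

/-- the commutative subalgebra generated by `x`. -/
noncomputable def FF (x : Module.End (ZMod p) V) :
    Subalgebra (ZMod p) (Module.End (ZMod p) V) := (aeval x).range

theorem mem_FF {a : Module.End (ZMod p) V} : a ∈ FF x ↔ ∃ f : (ZMod p)[X], aeval x f = a :=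
  AlgHom.mem_range _

theorem x_mem_FF : x ∈ FF x := mem_FF.mpr ⟨X, aeval_X x⟩

theorem pow_mem_FF (k : ℕ) : x ^ k ∈ FF x := (FF x).pow_mem x_mem_FF k

theorem FF_comm {a b : Module.End (ZMod p) V} (ha : a ∈ FF x) (hb : b ∈ FF x) :
    a * b = b * a := by
  obtain ⟨f, rfl⟩ := mem_FF.mp ha
  obtain ⟨g, rfl⟩ := mem_FF.mp hb
  rw [← map_mul, ← map_mul, mul_comm]

theorem ker_inv {a : Module.End (ZMod p) V} (ha : a ∈ FF x) : Inv x (LinearMap.ker a) := by
  intro v hv
  rw [LinearMap.mem_ker] at hv ⊢
  have h1 : a * x = x * a := FF_comm ha x_mem_FF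
  have h2 := congrArg (fun g : Module.End (ZMod p) V => g v) h1
  simp only [Module.End.mul_apply] at h2
  rw [h2, hv, map_zero]

variable (hirr : ∀ U : Submodule (ZMod p) V, Inv x U → U = ⊥ ∨ U = ⊤)
include hirr

theorem injective_of_ne_zero {a : Module.End (ZMod p) V} (ha : a ∈ FF x) (ha0 : a ≠ 0) :
    Function.Injective a := by
  rcases hirr _ (ker_inv ha) with h | h
  · exact LinearMap.ker_eq_bot.mp h
  · exfalso
    apply ha0
    exact LinearMap.ker_eq_top.mp h

theorem eq_zero_of_apply {a : Module.End (ZMod p) V} (ha : a ∈ FF x) {v₀ : V} (hv₀ : v₀ ≠ 0)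
    (h0 : a v₀ = 0) : a = 0 := by
  by_contra ha0
  apply hv₀
  apply injective_of_ne_zero hirr ha ha0
  rw [h0, map_zero]

theorem ev_surjective {v₀ : V} (hv₀ : v₀ ≠ 0) (v : V) : ∃ a ∈ FF x, a v₀ = v := by
  let U : Submodule (ZMod p) V :=
    Submodule.map (LinearMap.applyₗ v₀) (Subalgebra.toSubmodule (FF x))
  have hU : ∀ u, u ∈ U ↔ ∃ a ∈ FF x, a v₀ = u := by
    intro u
    constructor
    · rintro ⟨a, ha, rfl⟩
      exact ⟨a, ha, rfl⟩
    · rintro ⟨a, ha, rfl⟩
      exact ⟨a, ha, rfl⟩
  have hUinv : Inv x U := by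
    intro u hu
    obtain ⟨a, ha, rfl⟩ := (hU u).mp hu
    exact (hU _).mpr ⟨x * a, (FF x).mul_mem x_mem_FF ha, rfl⟩
  have hU0 : U ≠ ⊥ := by
    intro h0
    have : v₀ ∈ U := (hU v₀).mpr ⟨1, (FF x).one_mem, rfl⟩
    rw [h0, Submodule.mem_bot] at this
    exact hv₀ this
  rcases hirr U hUinv with h | h
  · exact absurd h hU0
  · exact (hU v).mp (h ▸ Submodule.mem_top)

end irreducible

section field

open Polynomial

variable [Finite V] {B : LinearMap.BilinForm (ZMod p) V} {x : Module.End (ZMod p) V} {h : ℕ}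

omit [Finite V] in
/-- if `x ^ n = 1` then `h ∣ n`. -/
theorem FreeAct.dvd_of_pow_eq_one [Nontrivial V] (hx : FreeAct x h) (hh : 0 < h) (n : ℕ)
    (hn : x ^ n = 1) : h ∣ n := by
  obtain ⟨v₀, hv₀⟩ := exists_ne (0 : V)
  rw [Nat.dvd_iff_mod_eq_zero]
  by_contra hr
  have hr1 : 0 < n % h := Nat.pos_of_ne_zero hr
  have hr2 : n % h < h := Nat.mod_lt n hh
  have h1 : x ^ (n % h) = 1 := by
    have h2 : x ^ n = x ^ (n % h) * (x ^ h) ^ (n / h) := by
      rw [← pow_mul, ← pow_add, Nat.mod_add_div]
    rw [hx.pow_eq, one_pow, mul_one] at h2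
    rw [← h2, hn]
  apply hv₀
  apply hx.free (n % h) hr1 hr2 v₀
  rw [h1]; rfl

/-- the adjoint preserves `FF x`. -/
theorem adj_mem_FF (hS : Sympl B x h) (hh : 0 < h) (hBnd : B.Nondegenerate)
    {a : Module.End (ZMod p) V} (ha : a ∈ FF x) : adj hBnd a ∈ FF x := by
  have hadjx : adj hBnd x = x ^ (h - 1) := by
    symm
    apply adj_unique
    intro v w
    calc B ((x ^ (h - 1)) v) w = B (x ((x ^ (h - 1)) v)) (x w) := (hS.iso _ _).symm
      _ = B v (x w) := by rw [hS.act.apply_inv hh]
  let S : Subalgebra (ZMod p) (Module.End (ZMod p) V) :=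
    { carrier := {a | adj hBnd a ∈ FF x}
      mul_mem' := by
        intro a b ha hb
        change adj hBnd (a * b) ∈ FF x
        rw [adj_mul]
        exact (FF x).mul_mem hb ha
      one_mem' := by
        change adj hBnd 1 ∈ FF x
        rw [adj_one]; exact (FF x).one_mem
      add_mem' := by
        intro a b ha hb
        change adj hBnd (a + b) ∈ FF x
        rw [adj_add]
        exact (FF x).add_mem ha hb
      zero_mem' := by
        change adj hBnd 0 ∈ FF x
        rw [adj_zero]; exact (FF x).zero_mem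
      algebraMap_mem' := by
        intro c
        change adj hBnd (algebraMap _ _ c) ∈ FF x
        rw [adj_algebraMap]
        exact (FF x).algebraMap_mem c }
  have hle : FF x ≤ S := by
    unfold FF
    rw [← Algebra.adjoin_singleton_eq_range_aeval]
    apply Algebra.adjoin_le
    intro b hb
    rw [Set.mem_singleton_iff] at hb
    subst hb
    change adj hBnd b ∈ FF b
    rw [hadjx]
    exact pow_mem_FF _
  exact hle ha

/-- **The irreducible nondegenerate case.** -/
theorem irreducible_case [Nontrivial V] (hS : Sympl B x h) (h3 : 3 ≤ h)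
    (hirr : ∀ U : Submodule (ZMod p) V, Inv x U → U = ⊥ ∨ U = ⊤) :
    ∃ m : ℕ, Nat.card V = p ^ (2 * m) ∧ h ∣ p ^ m + 1 := by
  classical
  have hp : p.Prime := Fact.out
  have hh : 0 < h := by omega
  have hBnd : B.Nondegenerate := nondegenerate_of hS.nondeg hS.alt
  obtain ⟨v₀, hv₀⟩ := exists_ne (0 : V)
  have hxy : x * x ^ (h - 1) = 1 := by
    rw [← pow_succ', Nat.sub_add_cancel hh, hS.act.pow_eq]
  have hadjx : adj hBnd x = x ^ (h - 1) := by
    symm
    apply adj_unique
    intro v w
    calc B ((x ^ (h - 1)) v) w = B (x ((x ^ (h - 1)) v)) (x w) := (hS.iso _ _).symm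
      _ = B v (x w) := by rw [hS.act.apply_inv hh]
  -- x ≠ x⁻¹
  have hxne : x ≠ x ^ (h - 1) := by
    intro hxe
    have h2 : x ^ 2 = 1 := by rw [pow_two]; nth_rewrite 2 [hxe]; exact hxy
    have := hS.act.dvd_of_pow_eq_one hh 2 h2
    have := Nat.le_of_dvd (by norm_num) this
    omega
  -- the commutative ring structure on `FF x`
  let _ : CommRing (FF x) :=
    { (inferInstance : Ring (FF x)) with
      mul_comm := fun a b => Subtype.ext (FF_comm a.2 b.2) }
  have hnt : Nontrivial (FF x) := by
    refine ⟨0, 1, ?_⟩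
    intro h01
    have h1 : (0 : Module.End (ZMod p) V) = 1 := congrArg Subtype.val h01
    have := congrArg (fun g : Module.End (ZMod p) V => g v₀) h1
    exact hv₀ this.symm
  have hnzd : NoZeroDivisors (FF x) := by
    refine ⟨?_⟩
    intro a b hab
    by_cases ha : a = 0
    · exact Or.inl ha
    · right
      have ha' : (a : Module.End (ZMod p) V) ≠ 0 := fun h0 => ha (Subtype.ext h0)
      have hinj := injective_of_ne_zero hirr a.2 ha'
      apply Subtype.ext
      apply LinearMap.ext
      intro v
      apply hinj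
      have h1 : (a : Module.End (ZMod p) V) * b = 0 := congrArg Subtype.val hab
      have := congrArg (fun g : Module.End (ZMod p) V => g v) h1
      simpa using this
  have hdom : IsDomain (FF x) := NoZeroDivisors.to_isDomain _
  have hevinj : Function.Injective (fun a : FF x => (a : Module.End (ZMod p) V) v₀) := by
    intro a b hab
    have h1 : ((a - b : FF x) : Module.End (ZMod p) V) v₀ = 0 := by
      change ((a : Module.End (ZMod p) V) - b) v₀ = 0
      rw [LinearMap.sub_apply]
      exact sub_eq_zero.mpr hab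
    have := eq_zero_of_apply hirr (a - b).2 hv₀ h1
    exact sub_eq_zero.mp (Subtype.ext this)
  have hfin : Finite (FF x) := Finite.of_injective _ hevinj
  have hcardF : Nat.card (FF x) = Nat.card V := by
    apply Nat.card_congr
    refine Equiv.ofBijective _ ⟨hevinj, ?_⟩
    intro v
    obtain ⟨a, ha, hav⟩ := ev_surjective hirr hv₀ v
    exact ⟨⟨a, ha⟩, hav⟩
  have hField : IsField (FF x) := Finite.isField_of_domain _
  let _ : Field (FF x) := hField.toField
  -- the involution
  let σ : FF x ≃+* FF x :=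
    { toFun := fun a => ⟨adj hBnd a.1, adj_mem_FF hS hh hBnd a.2⟩
      invFun := fun a => ⟨adj hBnd a.1, adj_mem_FF hS hh hBnd a.2⟩
      left_inv := fun a => Subtype.ext (adj_adj hBnd hS.alt a.1)
      right_inv := fun a => Subtype.ext (adj_adj hBnd hS.alt a.1)
      map_mul' := fun a b => Subtype.ext (by
        change adj hBnd (a.1 * b.1) = adj hBnd a.1 * adj hBnd b.1
        rw [adj_mul]
        exact FF_comm (adj_mem_FF hS hh hBnd b.2) (adj_mem_FF hS hh hBnd a.2))
      map_add' := fun a b => Subtype.ext (by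
        change adj hBnd (a.1 + b.1) = adj hBnd a.1 + adj hBnd b.1
        rw [adj_add]) }
  have hσapp : ∀ a : FF x, ((σ a : FF x) : Module.End (ZMod p) V) = adj hBnd a.1 := fun _ => rfl
  let X : FF x := ⟨x, x_mem_FF⟩
  let Y : FF x := ⟨x ^ (h - 1), pow_mem_FF _⟩
  have hσX : σ X = Y := Subtype.ext hadjx
  have hXY : X * Y = 1 := Subtype.ext hxy
  have hXneY : X ≠ Y := fun hXY' => hxne (congrArg Subtype.val hXY')
  have hσ1 : σ ≠ 1 := by
    intro h1
    apply hXneY
    rw [← hσX, h1]; rfl
  have hσ2 : σ ^ 2 = 1 := by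
    apply RingEquiv.ext
    intro a
    rw [pow_two]
    apply Subtype.ext
    change ((σ (σ a) : FF x) : Module.End (ZMod p) V) = a
    rw [hσapp, hσapp, adj_adj hBnd hS.alt]
  -- Artin
  have : Fact (Nat.Prime 2) := ⟨Nat.prime_two⟩
  have hord : orderOf σ = 2 := orderOf_eq_prime hσ2 hσ1
  let H : Subgroup (RingAut (FF x)) := Subgroup.zpowers σ
  have hH : Nat.card H = 2 := by rw [Nat.card_zpowers, hord]
  have hHfin : Finite H := Nat.finite_of_card_ne_zero (by rw [hH]; norm_num)
  let _ : Fintype H := Fintype.ofFinite H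
  have hfr := FixedPoints.finrank_eq_card H (FF x)
  rw [Fintype.card_eq_nat_card, hH] at hfr
  have hFK : Nat.card (FF x) = Nat.card (FixedPoints.subfield H (FF x)) ^ 2 := by
    rw [Module.natCard_eq_pow_finrank (K := FixedPoints.subfield H (FF x)) (V := FF x), hfr]
  -- elements of `H`
  have hHmem : ∀ g : H, (g : RingAut (FF x)) = 1 ∨ (g : RingAut (FF x)) = σ := by
    rintro ⟨g, hg⟩
    obtain ⟨k, rfl⟩ := Subgroup.mem_zpowers_iff.mp hg
    change σ ^ k = 1 ∨ σ ^ k = σ
    rw [← zpow_mod_orderOf, hord]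
    rcases Int.emod_two_eq_zero_or_one k with h0 | h1
    · left
      have : k % ((2 : ℕ) : ℤ) = 0 := h0
      rw [this, zpow_zero]
    · right
      have : k % ((2 : ℕ) : ℤ) = 1 := h1
      rw [this, zpow_one]
  have hKmem : ∀ c : FF x, σ c = c → c ∈ FixedPoints.subfield H (FF x) := by
    intro c hc g
    rcases hHmem g with h1 | h1
    · change (g : RingAut (FF x)) c = c
      rw [h1]; rfl
    · change (g : RingAut (FF x)) c = c
      rw [h1]; exact hc
  have hKfix : ∀ c ∈ FixedPoints.subfield H (FF x), σ c = c := by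
    intro c hc
    exact hc ⟨σ, Subgroup.mem_zpowers σ⟩
  -- cardinalities
  set q := Nat.card (FixedPoints.subfield H (FF x)) with hq
  have hVcard : Nat.card V = p ^ Module.finrank (ZMod p) V := by
    rw [Module.natCard_eq_pow_finrank (K := ZMod p) (V := V), Nat.card_zmod]
  have hqq : q * q = p ^ Module.finrank (ZMod p) V := by
    rw [← hVcard, ← hcardF, hFK, pow_two]
  obtain ⟨m, -, hqm⟩ := (Nat.dvd_prime_pow hp).mp (Dvd.intro _ hqq)
  have hdm : Module.finrank (ZMod p) V = 2 * m := by
    rw [hqm, ← pow_add] at hqq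
    have := Nat.pow_right_injective hp.two_le hqq
    omega
  refine ⟨m, by rw [hVcard, hdm], ?_⟩
  -- Frobenius
  have hchar : CharP (FF x) p :=
    charP_of_injective_algebraMap (algebraMap (ZMod p) (FF x)).injective p
  have hexp : ExpChar (FF x) p := ExpChar.prime hp
  let ψ : FF x →+* FF x := iterateFrobenius (FF x) p m
  have hψ : ∀ a, ψ a = a ^ p ^ m := fun a => rfl
  have hKfinite : Finite (FixedPoints.subfield H (FF x)) := inferInstance
  let _ : Fintype (FixedPoints.subfield H (FF x)) := Fintype.ofFinite _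
  have hψK : ∀ c ∈ FixedPoints.subfield H (FF x), ψ c = c := by
    intro c hc
    have h1 := FiniteField.pow_card (⟨c, hc⟩ : FixedPoints.subfield H (FF x))
    rw [Fintype.card_eq_nat_card, ← hq, hqm] at h1
    rw [hψ]
    exact congrArg Subtype.val h1
  have hσσ : ∀ a, σ (σ a) = a := fun a => Subtype.ext (adj_adj hBnd hS.alt a.1)
  have hσY : σ Y = X := by rw [← hσX, hσσ]
  have hσs : σ (X + Y) = X + Y := by rw [map_add, hσX, hσY, add_comm]
  have hs : ψ (X + Y) = X + Y := hψK _ (hKmem _ hσs)
  have e1 : X * X - (X + Y) * X + 1 = 0 := by linear_combination (-1 : FF x) * hXY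
  have e2 : ψ X * ψ X - (X + Y) * ψ X + 1 = 0 := by
    have h1 := congrArg ψ e1
    rw [map_add, map_sub, map_mul, map_mul, hs, map_one, map_zero] at h1
    exact h1
  have e3 : (ψ X - X) * (ψ X - Y) = 0 := by linear_combination e2 + hXY
  rcases mul_eq_zero.mp e3 with h1 | h1
  · -- `X` would lie in the fixed field
    exfalso
    have hXq : X ^ q = X := by rw [hqm, ← hψ]; exact sub_eq_zero.mp h1
    have hq1 : 1 < q := by
      rw [hq, ← Fintype.card_eq_nat_card]
      exact Fintype.one_lt_card
    let P : Polynomial (FF x) := Polynomial.X ^ q - Polynomial.X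
    have hP0 : P ≠ 0 := FiniteField.X_pow_card_sub_X_ne_zero (FF x) hq1
    have hPdeg : P.natDegree = q := FiniteField.X_pow_card_sub_X_natDegree_eq (FF x) hq1
    have hroot : ∀ a : FF x, a ^ q = a → a ∈ P.roots.toFinset := by
      intro a ha
      rw [Multiset.mem_toFinset, Polynomial.mem_roots hP0, Polynomial.IsRoot.def]
      simp only [P, Polynomial.eval_sub, Polynomial.eval_pow, Polynomial.eval_X]
      rw [ha, sub_self]
    let KF : Finset (FF x) :=
      (Finset.univ : Finset (FixedPoints.subfield H (FF x))).map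
        ⟨Subtype.val, Subtype.val_injective⟩
    have hKFcard : KF.card = q := by
      rw [Finset.card_map, Finset.card_univ, hq, Fintype.card_eq_nat_card]
    have hKFsub : KF ⊆ P.roots.toFinset := by
      intro a ha
      rw [Finset.mem_map] at ha
      obtain ⟨c, -, rfl⟩ := ha
      apply hroot
      have h2 := FiniteField.pow_card c
      rw [Fintype.card_eq_nat_card, ← hq] at h2
      exact congrArg Subtype.val h2
    have hcardle : P.roots.toFinset.card ≤ KF.card := by
      rw [hKFcard, ← hPdeg]
      exact (Multiset.toFinset_card_le _).trans (Polynomial.card_roots' P)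
    have hKFeq := Finset.eq_of_subset_of_card_le hKFsub hcardle
    have hXKF : X ∈ KF := by rw [hKFeq]; exact hroot X hXq
    rw [Finset.mem_map] at hXKF
    obtain ⟨c, -, hc⟩ := hXKF
    have hXK : X ∈ FixedPoints.subfield H (FF x) := by
      rw [← hc]; exact c.2
    apply hXneY
    rw [← hσX]
    exact (hKfix X hXK).symm
  · have h2 : X ^ p ^ m = Y := by rw [← hψ]; exact sub_eq_zero.mp h1
    have h3 : x ^ p ^ m = x ^ (h - 1) := congrArg Subtype.val h2
    have h4 : x ^ (p ^ m + 1) = 1 := by
      rw [pow_succ, h3, ← pow_succ, Nat.sub_add_cancel hh, hS.act.pow_eq]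
    exact hS.act.dvd_of_pow_eq_one hh _ h4

end field

end Cfsg.Agent.Lib.Helper7.Symp
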