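import Mathlib
import Cfsg.Agent.Lib.Helper7.SympC

/-!
# Cyclic free actions on symplectic spaces over `ZMod p` (helper7, for S3767), part D:
the induction.
-/

set_option autoImplicit false

namespace Cfsg.Agent.Lib.Helper7.Symp

universe u

variable {p : ℕ} [Fact p.Prime] {V : Type u} [AddCommGroup V] [Module (ZMod p) V]
  {B : LinearMap.BilinForm (ZMod p) V} {x : Module.End (ZMod p) V} {h : ℕ}

theorem inv_orthogonal (hS : Sympl B x h) (hh : 0 < h) {W : Submodule (ZMod p) V}
    (hW : Inv x W) : Inv x (B.orthogonal W) := by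
  intro v hv w hw
  have h1 := hv ((x ^ (h - 1)) w) (hW.pow (h - 1) w hw)
  change B ((x ^ (h - 1)) w) v = 0 at h1
  change B w (x v) = 0
  rw [← hS.iso, hS.act.apply_inv hh] at h1
  exact h1

theorem Sympl.isAlt (hS : Sympl B x h) : B.IsAlt := hS.alt

theorem Sympl.isRefl (hS : Sympl B x h) : B.IsRefl := hS.isAlt.isRefl

theorem Sympl.nondegenerate (hS : Sympl B x h) : B.Nondegenerate :=
  nondegenerate_of hS.nondeg hS.alt

/-- restriction to a nondegenerate invariant subspace -/
theorem Sympl.restrict (hS : Sympl B x h) {U : Submodule (ZMod p) V} (hU : Inv x U)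
    (hdis : U ⊓ B.orthogonal U = ⊥) : Sympl (B.restrict U) (x.restrict hU) h := by
  refine ⟨?_, ?_, ?_, hS.act.restrict hU⟩
  · intro u hu
    have h1 : (u : V) ∈ U ⊓ B.orthogonal U := by
      refine ⟨u.2, ?_⟩
      intro n hn
      change B n u = 0
      rw [skew hS.alt]
      have := hu ⟨n, hn⟩
      change B u n = 0 at this
      rw [this, neg_zero]
    rw [hdis, Submodule.mem_bot] at h1
    exact Subtype.ext h1
  · intro u
    exact hS.alt u
  · intro u w
    exact hS.iso u w

omit [Fact p.Prime] in
theorem cast_pow_eq_one_of_dvd {m : ℕ} (hp : 0 < p) (hd : h ∣ p ^ m - 1) :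
    ((p : ZMod h)) ^ m = 1 := by
  have h1 : ((p ^ m - 1 : ℕ) : ZMod h) = 0 := (ZMod.natCast_eq_zero_iff _ _).mpr hd
  rw [Nat.cast_sub (Nat.one_le_pow _ _ hp), Nat.cast_pow, Nat.cast_one] at h1
  exact sub_eq_zero.mp h1

omit [Fact p.Prime] in
theorem cast_pow_eq_neg_one_of_dvd {m : ℕ} (hd : h ∣ p ^ m + 1) :
    ((p : ZMod h)) ^ m = -1 := by
  have h1 : ((p ^ m + 1 : ℕ) : ZMod h) = 0 := (ZMod.natCast_eq_zero_iff _ _).mpr hd
  rw [Nat.cast_add, Nat.cast_pow, Nat.cast_one] at h1
  exact eq_neg_of_add_eq_zero_left h1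

theorem finrank_eq_of_card [Finite V] {k : ℕ} (hc : Nat.card V = p ^ k) :
    Module.finrank (ZMod p) V = k := by
  have hp : p.Prime := Fact.out
  rw [Module.natCard_eq_pow_finrank (K := ZMod p) (V := V), Nat.card_zmod] at hc
  exact Nat.pow_right_injective hp.two_le hc

theorem card_eq_of_finrank [Finite V] {k : ℕ} (hc : Module.finrank (ZMod p) V = k) :
    Nat.card V = p ^ k := by
  rw [Module.natCard_eq_pow_finrank (K := ZMod p) (V := V), Nat.card_zmod, hc]

variable [Finite V]

theorem exists_split [Nontrivial V] (hS : Sympl B x h) (h3 : 3 ≤ h) (hcop : h.Coprime p) :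
    ∃ (N : Submodule (ZMod p) V) (m : ℕ), Inv x N ∧ N ⊓ B.orthogonal N = ⊥ ∧ 1 ≤ m ∧
      Module.finrank (ZMod p) N = 2 * m ∧
      (((p : ZMod h)) ^ m = 1 ∨ ((p : ZMod h)) ^ m = -1) := by
  have hp : p.Prime := Fact.out
  have hh : 0 < h := by omega
  obtain ⟨W, hW, hW0, hWmin⟩ := exists_minimal_inv x
  have hWnt : Nontrivial W := (Submodule.nontrivial_iff_ne_bot).mpr hW0
  have hR : Inv x (W ⊓ B.orthogonal W) := hW.inf (inv_orthogonal hS hh hW)
  rcases hWmin _ hR inf_le_left with hbot | htop
  · -- nondegenerate irreducible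
    have hSW := hS.restrict hW hbot
    have hirr : ∀ U : Submodule (ZMod p) W, Inv (x.restrict hW) U → U = ⊥ ∨ U = ⊤ := by
      intro U hU
      have hU' : Inv x (U.map W.subtype) := by
        rintro _ ⟨u, hu, rfl⟩
        exact ⟨x.restrict hW u, hU u hu, rfl⟩
      rcases hWmin _ hU' (Submodule.map_subtype_le W U) with h1 | h1
      · left
        rw [eq_bot_iff]
        intro u hu
        have : (u : V) ∈ U.map W.subtype := ⟨u, hu, rfl⟩
        rw [h1, Submodule.mem_bot] at this
        rw [Submodule.mem_bot]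
        exact Subtype.ext this
      · right
        rw [eq_top_iff]
        intro u _
        have : (u : V) ∈ U.map W.subtype := by rw [h1]; exact u.2
        obtain ⟨u', hu', huu'⟩ := this
        have : u' = u := Subtype.ext huu'
        rwa [← this]
    obtain ⟨m, hcard, hdvd⟩ := irreducible_case hSW h3 hirr
    have hm : 1 ≤ m := by
      by_contra hm
      have hm0 : m = 0 := by omega
      rw [hm0, mul_zero, pow_zero] at hcard
      have : 1 < Nat.card W := Finite.one_lt_card
      omega
    exact ⟨W, m, hW, hbot, hm, finrank_eq_of_card hcard, Or.inr (cast_pow_eq_neg_one_of_dvd hdvd)⟩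
  · -- totally isotropic
    have hWle : W ≤ B.orthogonal W := inf_eq_left.mp htop
    set m := Module.finrank (ZMod p) W with hm
    have hm1 : 1 ≤ m := by
      rw [hm, Nat.one_le_iff_ne_zero]
      intro h0
      have := card_eq_of_finrank (p := p) (V := W) h0
      rw [pow_zero] at this
      have h2 : 1 < Nat.card W := Finite.one_lt_card
      omega
    have hdvd : h ∣ p ^ m - 1 := by
      have := (hS.act.restrict hW).dvd_card_sub_one hh
      rwa [card_eq_of_finrank (p := p) (V := W) rfl] at this
    obtain ⟨T, hT, hTc⟩ := hS.act.exists_inv_isCompl hh hcop (B.orthogonal W)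
      (inv_orthogonal hS hh hW)
    have hdisWT : W ⊓ T = ⊥ := by
      rw [eq_bot_iff]
      exact (inf_le_inf_right T hWle).trans hTc.inf_eq_bot.le
    have hfrT : Module.finrank (ZMod p) T = m := by
      have h1 := Submodule.finrank_add_eq_of_isCompl hTc
      have h2 := LinearMap.BilinForm.finrank_orthogonal hS.nondegenerate W
      have h3 : Module.finrank (ZMod p) W ≤ Module.finrank (ZMod p) V := Submodule.finrank_le W
      omega
    have hfrN : Module.finrank (ZMod p) (W ⊔ T : Submodule (ZMod p) V) = 2 * m := by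
      have h1 := Submodule.finrank_sup_add_finrank_inf_eq W T
      rw [hdisWT, finrank_bot, add_zero] at h1
      omega
    refine ⟨W ⊔ T, m, hW.sup hT, ?_, hm1, hfrN, Or.inl (cast_pow_eq_one_of_dvd hp.pos hdvd)⟩
    rw [eq_bot_iff]
    rintro v ⟨hvN, hvN'⟩
    obtain ⟨w, hw, t, ht, rfl⟩ := Submodule.mem_sup.mp hvN
    -- `t ∈ W^⊥`
    have ht' : t ∈ B.orthogonal W := by
      intro w' hw'
      have h1 : B w' (w + t) = 0 := hvN' w' (Submodule.mem_sup_left hw')
      rw [map_add, hWle hw w' hw', zero_add] at h1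
      exact h1
    have ht0 : t = 0 := by
      have : t ∈ B.orthogonal W ⊓ T := ⟨ht', ht⟩
      rw [hTc.inf_eq_bot, Submodule.mem_bot] at this
      exact this
    subst ht0
    rw [add_zero] at hvN' ⊢
    rw [Submodule.mem_bot]
    apply hS.nondeg
    intro u
    have hu : u ∈ B.orthogonal W ⊔ T := by rw [hTc.sup_eq_top]; exact Submodule.mem_top
    obtain ⟨a, ha, b, hb, rfl⟩ := Submodule.mem_sup.mp hu
    rw [map_add]
    have h1 : B w a = 0 := ha w hw
    have h2 : B w b = 0 := by
      rw [skew hS.alt]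
      have : B b w = 0 := hvN' b (Submodule.mem_sup_right hb)
      rw [this, neg_zero]
    rw [h1, h2, add_zero]

omit [Finite V] in
/-- the induction. -/
theorem main_aux (h3 : 3 ≤ h) (hcop : h.Coprime p) :
    ∀ (n : ℕ) (V : Type u) [AddCommGroup V] [Module (ZMod p) V] [Finite V]
      (B : LinearMap.BilinForm (ZMod p) V) (x : Module.End (ZMod p) V),
      Sympl B x h → Module.finrank (ZMod p) V = 2 * n →
      (((p : ZMod h)) ^ n = 1 ∨ ((p : ZMod h)) ^ n = -1) := by
  intro n
  induction n using Nat.strong_induction_on with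
  | _ n ih =>
    intro V _ _ _ B x hS hfr
    have hh : 0 < h := by omega
    rcases Nat.eq_zero_or_pos n with rfl | hn
    · left; simp
    have hnt : Nontrivial V := by
      apply (Module.finrank_pos_iff (R := ZMod p) (M := V)).mp
      rw [hfr]; omega
    obtain ⟨N, m, hN, hdis, hm1, hfrN, hpm⟩ := exists_split hS h3 hcop
    have hfrN' := LinearMap.BilinForm.finrank_orthogonal hS.nondegenerate N
    have hle : Module.finrank (ZMod p) N ≤ Module.finrank (ZMod p) V := Submodule.finrank_le N
    have hmn : m ≤ n := by omega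
    have hdis' : B.orthogonal N ⊓ B.orthogonal (B.orthogonal N) = ⊥ := by
      rw [LinearMap.BilinForm.orthogonal_orthogonal hS.nondegenerate hS.isRefl, inf_comm]
      exact hdis
    have hS' := hS.restrict (inv_orthogonal hS hh hN) hdis'
    have hrec := ih (n - m) (by omega) (B.orthogonal N) (B.restrict _) (x.restrict _) hS'
      (by omega)
    have hnm : n = m + (n - m) := by omega
    rw [hnm, pow_add]
    rcases hpm with h1 | h1 <;> rcases hrec with h2 | h2 <;> rw [h1, h2] <;> simp

omit [Finite V] in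
/-- **Main linear algebra theorem**: a cyclic `p'`-group of order `h` acting freely on the nonzero
vectors of a symplectic space of dimension `2n` over `𝔽_p` has `h ∣ p^n + 1` or `h ∣ p^n - 1`. -/
theorem main (hh : 0 < h) (hcop : h.Coprime p) (n : ℕ) (V : Type u) [AddCommGroup V]
    [Module (ZMod p) V] [Finite V] (B : LinearMap.BilinForm (ZMod p) V)
    (x : Module.End (ZMod p) V) (hS : Sympl B x h) (hcard : Nat.card V = p ^ (2 * n)) :
    h ∣ p ^ n + 1 ∨ h ∣ p ^ n - 1 := by
  have hp : p.Prime := Fact.out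
  by_cases h3 : 3 ≤ h
  · rcases main_aux h3 hcop n V B x hS (finrank_eq_of_card hcard) with h1 | h1
    · right
      rw [← ZMod.natCast_eq_zero_iff, Nat.cast_sub (Nat.one_le_pow _ _ hp.pos), Nat.cast_pow,
        Nat.cast_one, h1, sub_self]
    · left
      rw [← ZMod.natCast_eq_zero_iff, Nat.cast_add, Nat.cast_pow, Nat.cast_one, h1,
        neg_add_cancel]
  · have h12 : h = 1 ∨ h = 2 := by omega
    rcases h12 with rfl | rfl
    · left; exact one_dvd _
    · right
      have hodd : Odd p := by
        rcases hp.eq_two_or_odd' with h2 | h2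
        · exfalso
          rw [h2] at hcop
          exact absurd hcop (by decide)
        · exact h2
      have : Odd (p ^ n) := hodd.pow
      obtain ⟨k, hk⟩ := this
      exact ⟨k, by omega⟩

end Cfsg.Agent.Lib.Helper7.Symp
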