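import Mathlib
import Cfsg.Agent.Lib.Helper7.SympD
import Cfsg.Agent.H2.ExtraspecialCtx

/-!
# Cyclic free actions on extraspecial groups (helper7, for S3767), part E: the bridge.
-/

set_option autoImplicit false

namespace Cfsg.Agent.Lib.Helper7.Symp

open Cfsg.Agent.H2.ESM
open scoped commutatorElement

universe u

variable {p : ℕ} [hp : Fact p.Prime] {E : Type u} [Group E] {z : E}

/-- the `ZMod p`-valued logarithm of commutators -/
noncomputable def beta (C : Ctx p z) (a b : E) : ZMod p :=
  ((Classical.choose (C.comm a b) : ℤ) : ZMod p)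

theorem beta_eq (C : Ctx p z) (a b : E) (k : ℤ) (hk : ⁅a, b⁆ = z ^ k) :
    beta C a b = (k : ZMod p) := by
  have h1 := Classical.choose_spec (C.comm a b)
  unfold beta
  rw [ZMod.intCast_eq_intCast_iff_dvd_sub]
  have h2 : z ^ (k - Classical.choose (C.comm a b)) = 1 := by
    rw [zpow_sub, ← hk, ← h1, mul_inv_cancel]
  have h3 := orderOf_dvd_iff_zpow_eq_one.mpr h2
  rwa [orderOf_z C] at h3

theorem beta_spec (C : Ctx p z) (a b : E) : ⁅a, b⁆ = z ^ (beta C a b).val := by
  have h1 := Classical.choose_spec (C.comm a b)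
  set k := Classical.choose (C.comm a b) with hk
  have h2 : beta C a b = (k : ZMod p) := rfl
  rw [h1, h2]
  rw [← zpow_natCast, ZMod.val_intCast, ← orderOf_z C, zpow_mod_orderOf]

theorem beta_mul_left (C : Ctx p z) (a a' b : E) :
    beta C (a * a') b = beta C a b + beta C a' b := by
  obtain ⟨k, hk⟩ := C.comm a b
  obtain ⟨k', hk'⟩ := C.comm a' b
  rw [beta_eq C a b k hk, beta_eq C a' b k' hk', ← Int.cast_add]
  apply beta_eq
  rw [kmul' C, hk, hk', zpow_add]

theorem beta_mul_right (C : Ctx p z) (a b b' : E) :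
    beta C a (b * b') = beta C a b + beta C a b' := by
  obtain ⟨k, hk⟩ := C.comm a b
  obtain ⟨k', hk'⟩ := C.comm a b'
  rw [beta_eq C a b k hk, beta_eq C a b' k' hk', ← Int.cast_add]
  apply beta_eq
  rw [kmul C, hk, hk', zpow_add]

theorem beta_eq_zero_iff (C : Ctx p z) (a b : E) : beta C a b = 0 ↔ ⁅a, b⁆ = 1 := by
  constructor
  · intro h0
    rw [beta_spec C a b, h0, ZMod.val_zero, pow_zero]
  · intro h1
    have := beta_eq C a b 0 (by rw [h1, zpow_zero])
    rw [this, Int.cast_zero]

theorem beta_self (C : Ctx p z) (a : E) : beta C a a = 0 :=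
  (beta_eq_zero_iff C a a).mpr (commutatorElement_self a)

theorem beta_center_left (C : Ctx p z) {a : E} (ha : a ∈ Subgroup.center E) (b : E) :
    beta C a b = 0 := by
  rw [beta_eq_zero_iff, commutatorElement_eq_one_iff_mul_comm]
  exact (Subgroup.mem_center_iff.mp ha b).symm

theorem beta_center_right (C : Ctx p z) (a : E) {b : E} (hb : b ∈ Subgroup.center E) :
    beta C a b = 0 := by
  rw [beta_eq_zero_iff, commutatorElement_eq_one_iff_mul_comm]
  exact Subgroup.mem_center_iff.mp hb a

omit hp in
theorem center_eq_zpowers (C : Ctx p z) : Subgroup.center E = Subgroup.zpowers z := by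
  ext a
  constructor
  · intro ha
    obtain ⟨k, hk⟩ := C.cent a (fun x => Subgroup.mem_center_iff.mp ha x)
    rw [hk]; exact Subgroup.zpow_mem_zpowers z k
  · rintro ⟨k, rfl⟩
    rw [Subgroup.mem_center_iff]
    intro g
    exact (zk_cen C k g).symm

theorem card_center (C : Ctx p z) : Nat.card (Subgroup.center E) = p := by
  rw [center_eq_zpowers C, Nat.card_zpowers, orderOf_z C]

/-- **The bridge**: an automorphism `φ` of an extraspecial group `E` of order `p^(2n+1)` with
`φ^h = 1`, `(h,p) = 1`, fixing the centre and such that the nontrivial powers `φ^k`, `0<k<h`, have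
all their fixed points in the centre, has `h ∣ p^n + 1` or `h ∣ p^n - 1`. -/
theorem bridge [Finite E] (C : Ctx p z) (φ : E ≃* E) (hφz : φ z = z) (h : ℕ) (hh : 0 < h)
    (hcop : h.Coprime p) (hφh : ∀ a, (φ ^ h) a = a)
    (hfree : ∀ k, 0 < k → k < h → ∀ a, (φ ^ k) a = a → a ∈ Subgroup.center E)
    (n : ℕ) (hcard : Nat.card E = p ^ (2 * n + 1)) :
    h ∣ p ^ n + 1 ∨ h ∣ p ^ n - 1 := by
  classical
  have hpr : p.Prime := hp.out
  -- the quotient is commutative
  let _ : CommGroup (E ⧸ Subgroup.center E) :=
    { (inferInstance : Group (E ⧸ Subgroup.center E)) with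
      mul_comm := by
        intro a b
        induction a using QuotientGroup.induction_on with
        | H a =>
          induction b using QuotientGroup.induction_on with
          | H b =>
            rw [← QuotientGroup.mk_mul, ← QuotientGroup.mk_mul, QuotientGroup.eq]
            have : (a * b)⁻¹ * (b * a) = ⁅b⁻¹, a⁻¹⁆ := by
              rw [commutatorElement_def]; group
            rw [this]
            exact comm_center C _ _ }
  have hexp : ∀ v : Additive (E ⧸ Subgroup.center E), p • v = 0 := by
    intro v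
    obtain ⟨a, ha⟩ := QuotientGroup.mk_surjective (Additive.toMul v)
    have h1 : (Additive.toMul v) ^ p = 1 := by
      rw [← ha, ← QuotientGroup.mk_pow, QuotientGroup.eq_one_iff, Subgroup.mem_center_iff]
      intro g
      exact pow_p_cen C a g
    exact h1
  obtain ⟨instM⟩ : Nonempty (Module (ZMod p) (Additive (E ⧸ Subgroup.center E))) :=
    ⟨AddCommGroup.zmodModule hexp⟩
  -- the form
  let f : Additive (E ⧸ Subgroup.center E) → Additive (E ⧸ Subgroup.center E) → ZMod p :=
    fun v w => Quotient.liftOn₂' (Additive.toMul v) (Additive.toMul w) (beta C) (by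
      intro a₁ b₁ a₂ b₂ ha hb
      rw [QuotientGroup.leftRel_apply] at ha hb
      obtain ⟨ca, hca, rfl⟩ : ∃ ca ∈ Subgroup.center E, a₂ = a₁ * ca :=
        ⟨a₁⁻¹ * a₂, ha, by group⟩
      obtain ⟨cb, hcb, rfl⟩ : ∃ cb ∈ Subgroup.center E, b₂ = b₁ * cb :=
        ⟨b₁⁻¹ * b₂, hb, by group⟩
      rw [beta_mul_left, beta_mul_right, beta_mul_right, beta_center_left C hca,
        beta_center_left C hca, beta_center_right C _ hcb]
      simp)
  have hf : ∀ a b : E, f (Additive.ofMul (QuotientGroup.mk a)) (Additive.ofMul (QuotientGroup.mk b)) =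
      beta C a b := fun a b => rfl
  have hrep : ∀ v : Additive (E ⧸ Subgroup.center E), ∃ a : E,
      v = Additive.ofMul (QuotientGroup.mk a) := by
    intro v
    obtain ⟨a, ha⟩ := QuotientGroup.mk_surjective (Additive.toMul v)
    exact ⟨a, by rw [ha]; rfl⟩
  have hfaddL : ∀ v v' w, f (v + v') w = f v w + f v' w := by
    intro v v' w
    obtain ⟨a, rfl⟩ := hrep v
    obtain ⟨a', rfl⟩ := hrep v'
    obtain ⟨b, rfl⟩ := hrep w
    rw [← ofMul_mul, ← QuotientGroup.mk_mul, hf, hf, hf, beta_mul_left]
  have hfaddR : ∀ v w w', f v (w + w') = f v w + f v w' := by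
    intro v w w'
    obtain ⟨a, rfl⟩ := hrep v
    obtain ⟨b, rfl⟩ := hrep w
    obtain ⟨b', rfl⟩ := hrep w'
    rw [← ofMul_mul, ← QuotientGroup.mk_mul, hf, hf, hf, beta_mul_right]
  let B : LinearMap.BilinForm (ZMod p) (Additive (E ⧸ Subgroup.center E)) :=
    LinearMap.mk₂ (ZMod p) f hfaddL
      (fun c v w => ZMod.map_smul (AddMonoidHom.mk' (fun v => f v w) (fun v v' => hfaddL v v' w)) c v)
      hfaddR
      (fun c v w => ZMod.map_smul (AddMonoidHom.mk' (fun w => f v w) (fun w w' => hfaddR v w w')) c w)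
  have hB : ∀ a b : E, B (Additive.ofMul (QuotientGroup.mk a)) (Additive.ofMul (QuotientGroup.mk b)) =
      beta C a b := fun a b => rfl
  -- the induced endomorphism
  have hφcen : ∀ k : ℕ, ∀ a ∈ Subgroup.center E, (φ ^ k) a ∈ Subgroup.center E := by
    intro k a ha
    rw [Subgroup.mem_center_iff] at ha ⊢
    intro g
    have h1 := ha ((φ ^ k)⁻¹ g)
    have h2 := congrArg (φ ^ k) h1
    rw [map_mul, map_mul] at h2
    have h3 : (φ ^ k) ((φ ^ k)⁻¹ g) = g := by
      rw [← MulAut.mul_apply, mul_inv_cancel]; rfl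
    rw [h3] at h2
    exact h2
  have hφcen1 : Subgroup.center E ≤ (Subgroup.center E).comap φ.toMonoidHom := by
    intro a ha
    have := hφcen 1 a ha
    rwa [pow_one] at this
  let ξ : E ⧸ Subgroup.center E →* E ⧸ Subgroup.center E :=
    QuotientGroup.map _ _ φ.toMonoidHom hφcen1
  let x : Module.End (ZMod p) (Additive (E ⧸ Subgroup.center E)) :=
    AddMonoidHom.toZModLinearMap p (MonoidHom.toAdditive ξ)
  have hx : ∀ a : E, x (Additive.ofMul (QuotientGroup.mk a)) =
      Additive.ofMul (QuotientGroup.mk (φ a)) := fun a => rfl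
  have hxk : ∀ (k : ℕ) (a : E), (x ^ k) (Additive.ofMul (QuotientGroup.mk a)) =
      Additive.ofMul (QuotientGroup.mk ((φ ^ k) a)) := by
    intro k
    induction k with
    | zero => intro a; simp
    | succ k ih =>
      intro a
      rw [pow_succ, Module.End.mul_apply, hx, ih, pow_succ, MulAut.mul_apply]
  have hφzk : ∀ k : ℕ, (φ ^ k) z = z := by
    intro k
    induction k with
    | zero => simp
    | succ k ih => rw [pow_succ, MulAut.mul_apply, hφz, ih]
  have hzp : z ^ p = 1 := C.zp
  have hS : Sympl B x h := by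
    refine ⟨?_, ?_, ?_, ⟨?_, ?_⟩⟩
    · intro v hv
      obtain ⟨a, rfl⟩ := hrep v
      have ha : a ∈ Subgroup.center E := by
        rw [Subgroup.mem_center_iff]
        intro g
        have h1 := hv (Additive.ofMul (QuotientGroup.mk g))
        rw [hB, beta_eq_zero_iff, commutatorElement_eq_one_iff_mul_comm] at h1
        exact h1.symm
      have : (QuotientGroup.mk a : E ⧸ Subgroup.center E) = 1 :=
        (QuotientGroup.eq_one_iff a).mpr ha
      rw [this]; rfl
    · intro v
      obtain ⟨a, rfl⟩ := hrep v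
      rw [hB, beta_self]
    · intro v w
      obtain ⟨a, rfl⟩ := hrep v
      obtain ⟨b, rfl⟩ := hrep w
      rw [hx, hx, hB, hB]
      obtain ⟨k, hk⟩ := C.comm a b
      rw [beta_eq C a b k hk]
      apply beta_eq
      rw [← map_commutatorElement, hk, map_zpow, hφz]
    · apply LinearMap.ext
      intro v
      obtain ⟨a, rfl⟩ := hrep v
      rw [hxk, hφh]; rfl
    · intro k hk hkh v hv
      obtain ⟨a, rfl⟩ := hrep v
      rw [hxk] at hv
      have h1 : (QuotientGroup.mk ((φ ^ k) a) : E ⧸ Subgroup.center E) = QuotientGroup.mk a :=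
        Additive.ofMul.injective hv
      rw [eq_comm, QuotientGroup.eq] at h1
      -- `c = a⁻¹ ψ(a)` is central
      set c := a⁻¹ * (φ ^ k) a with hc
      have hψa : (φ ^ k) a = a * c := by rw [hc]; group
      obtain ⟨j, hj⟩ := C.cent c (fun g => Subgroup.mem_center_iff.mp h1 g)
      have hψc : ∀ m : ℕ, (φ ^ m) c = c := fun m => by rw [hj, map_zpow, hφzk]
      have hiter : ∀ i : ℕ, (φ ^ (k * i)) a = a * c ^ i := by
        intro i
        induction i with
        | zero => simp
        | succ i ih =>
          rw [Nat.mul_succ, pow_add, MulAut.mul_apply, hψa, map_mul, ih, hψc, mul_assoc,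
            ← pow_succ]
      have hφhm : ∀ (m : ℕ) (b : E), (φ ^ (h * m)) b = b := by
        intro m
        induction m with
        | zero => intro b; simp
        | succ m ih =>
          intro b
          rw [Nat.mul_succ, pow_add, MulAut.mul_apply, hφh, ih]
      have hch : c ^ h = 1 := by
        have h2 := hiter h
        rw [mul_comm k h, hφhm] at h2
        exact (mul_eq_left.mp h2.symm)
      have hcp : c ^ p = 1 := by
        rw [hj, ← zpow_natCast, ← zpow_mul, mul_comm, zpow_mul, zpow_natCast, hzp, one_zpow]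
      have hc1 : c = 1 := by
        have := pow_gcd_eq_one.mpr ⟨hch, hcp⟩
        rwa [Nat.Coprime.gcd_eq_one hcop, pow_one] at this
      have hfix : (φ ^ k) a = a := by rw [hψa, hc1, mul_one]
      have ha := hfree k hk hkh a hfix
      have : (QuotientGroup.mk a : E ⧸ Subgroup.center E) = 1 :=
        (QuotientGroup.eq_one_iff a).mpr ha
      rw [this]; rfl
  -- cardinality
  have hcardV : Nat.card (Additive (E ⧸ Subgroup.center E)) = p ^ (2 * n) := by
    have h1 := Subgroup.card_eq_card_quotient_mul_card_subgroup (Subgroup.center E)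
    rw [hcard, card_center C, pow_succ] at h1
    have h2 := Nat.eq_of_mul_eq_mul_right hpr.pos h1
    rw [h2]
    exact Nat.card_congr Additive.toMul
  exact main hh hcop n _ B x hS hcardV

end Cfsg.Agent.Lib.Helper7.Symp
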