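import Mathlib
import Cfsg.Agent.Lib.Helper5.SuzukiGroup

/-!
# A computable model of the field with eight elements, and vectors and matrices of degree four over it as numbers

The field is `F₂[x] / (x³ + x + 1)`; its elements are numbered by their coefficients.  The 4096 vectors of length four
are numbered by their coordinates; a matrix is given by the numbers of its entries.  A matrix is determined by the
images of the four vectors of the standard basis.
-/

set_option autoImplicit false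
set_option maxRecDepth 100000

namespace Cfsg.Agent.Lib.Helper7.Sz8

/-- the field with eight elements: the polynomials of degree at most two over the field of two elements, modulo
`x³ + x + 1`; `z1 = 1`, `z2 = x`, `z4 = x²` -/
inductive F8c : Type
  | z0 | z1 | z2 | z3 | z4 | z5 | z6 | z7
  deriving DecidableEq

namespace F8c

instance : Fintype F8c where
  elems := {z0, z1, z2, z3, z4, z5, z6, z7}
  complete := by intro x; cases x <;> decide

/-- the sum -/
def add : F8c → F8c → F8c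
  | z0, z0 => z0
  | z0, z1 => z1
  | z0, z2 => z2
  | z0, z3 => z3
  | z0, z4 => z4
  | z0, z5 => z5
  | z0, z6 => z6
  | z0, z7 => z7
  | z1, z0 => z1
  | z1, z1 => z0
  | z1, z2 => z3
  | z1, z3 => z2
  | z1, z4 => z5
  | z1, z5 => z4
  | z1, z6 => z7
  | z1, z7 => z6
  | z2, z0 => z2
  | z2, z1 => z3
  | z2, z2 => z0
  | z2, z3 => z1
  | z2, z4 => z6
  | z2, z5 => z7
  | z2, z6 => z4
  | z2, z7 => z5
  | z3, z0 => z3
  | z3, z1 => z2
  | z3, z2 => z1
  | z3, z3 => z0
  | z3, z4 => z7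
  | z3, z5 => z6
  | z3, z6 => z5
  | z3, z7 => z4
  | z4, z0 => z4
  | z4, z1 => z5
  | z4, z2 => z6
  | z4, z3 => z7
  | z4, z4 => z0
  | z4, z5 => z1
  | z4, z6 => z2
  | z4, z7 => z3
  | z5, z0 => z5
  | z5, z1 => z4
  | z5, z2 => z7
  | z5, z3 => z6
  | z5, z4 => z1
  | z5, z5 => z0
  | z5, z6 => z3
  | z5, z7 => z2
  | z6, z0 => z6
  | z6, z1 => z7
  | z6, z2 => z4
  | z6, z3 => z5
  | z6, z4 => z2
  | z6, z5 => z3
  | z6, z6 => z0
  | z6, z7 => z1
  | z7, z0 => z7
  | z7, z1 => z6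
  | z7, z2 => z5
  | z7, z3 => z4
  | z7, z4 => z3
  | z7, z5 => z2
  | z7, z6 => z1
  | z7, z7 => z0

/-- the product -/
def mul : F8c → F8c → F8c
  | z0, z0 => z0
  | z0, z1 => z0
  | z0, z2 => z0
  | z0, z3 => z0
  | z0, z4 => z0
  | z0, z5 => z0
  | z0, z6 => z0
  | z0, z7 => z0
  | z1, z0 => z0
  | z1, z1 => z1
  | z1, z2 => z2
  | z1, z3 => z3
  | z1, z4 => z4
  | z1, z5 => z5
  | z1, z6 => z6
  | z1, z7 => z7
  | z2, z0 => z0
  | z2, z1 => z2
  | z2, z2 => z4
  | z2, z3 => z6
  | z2, z4 => z3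
  | z2, z5 => z1
  | z2, z6 => z7
  | z2, z7 => z5
  | z3, z0 => z0
  | z3, z1 => z3
  | z3, z2 => z6
  | z3, z3 => z5
  | z3, z4 => z7
  | z3, z5 => z4
  | z3, z6 => z1
  | z3, z7 => z2
  | z4, z0 => z0
  | z4, z1 => z4
  | z4, z2 => z3
  | z4, z3 => z7
  | z4, z4 => z6
  | z4, z5 => z2
  | z4, z6 => z5
  | z4, z7 => z1
  | z5, z0 => z0
  | z5, z1 => z5
  | z5, z2 => z1
  | z5, z3 => z4
  | z5, z4 => z2
  | z5, z5 => z7
  | z5, z6 => z3
  | z5, z7 => z6
  | z6, z0 => z0
  | z6, z1 => z6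
  | z6, z2 => z7
  | z6, z3 => z1
  | z6, z4 => z5
  | z6, z5 => z3
  | z6, z6 => z2
  | z6, z7 => z4
  | z7, z0 => z0
  | z7, z1 => z7
  | z7, z2 => z5
  | z7, z3 => z2
  | z7, z4 => z1
  | z7, z5 => z6
  | z7, z6 => z4
  | z7, z7 => z3

/-- the inverse -/
def inv : F8c → F8c
  | z0 => z0
  | z1 => z1
  | z2 => z5
  | z3 => z6
  | z4 => z7
  | z5 => z2
  | z6 => z3
  | z7 => z4

instance : Add F8c := ⟨add⟩
instance : Mul F8c := ⟨mul⟩
instance : Zero F8c := ⟨z0⟩
instance : One F8c := ⟨z1⟩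
instance : Neg F8c := ⟨id⟩
instance : Inv F8c := ⟨inv⟩

instance : Field F8c where
  add_assoc := by decide
  zero_add := by decide
  add_zero := by decide
  nsmul := nsmulRec
  zsmul := zsmulRec
  neg_add_cancel := by decide
  add_comm := by decide
  left_distrib := by decide
  right_distrib := by decide
  zero_mul := by decide
  mul_zero := by decide
  mul_assoc := by decide
  one_mul := by decide
  mul_one := by decide
  mul_comm := by decide
  exists_pair_ne := ⟨z0, z1, by decide⟩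
  mul_inv_cancel := by decide
  inv_zero := rfl
  nnqsmul := _
  qsmul := _

theorem card : Fintype.card F8c = 8 := rfl

theorem card' : Fintype.card F8c = 2 ^ (2 * 1 + 1) := rfl

instance : CharP F8c 2 := Cfsg.Agent.Lib.Helper5.Suzuki.charP_of_card card'

end F8c

open Matrix

/-- the element of the field with a given number -/
def fd8 : ℕ → F8c
  | 0 => F8c.z0
  | 1 => F8c.z1
  | 2 => F8c.z2
  | 3 => F8c.z3
  | 4 => F8c.z4
  | 5 => F8c.z5
  | 6 => F8c.z6
  | _ => F8c.z7

/-- the number of an element of the field -/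
def fc8 : F8c → ℕ
  | F8c.z0 => 0
  | F8c.z1 => 1
  | F8c.z2 => 2
  | F8c.z3 => 3
  | F8c.z4 => 4
  | F8c.z5 => 5
  | F8c.z6 => 6
  | F8c.z7 => 7

theorem fd8_fc8 : ∀ a : F8c, fd8 (fc8 a) = a ∧ fc8 a < 8 := by decide

/-- the vector with a given number -/
def dec4 (p : ℕ) : Fin 4 → F8c := ![fd8 (p % 8), fd8 (p / 8 % 8), fd8 (p / 64 % 8), fd8 (p / 512 % 8)]

/-- the matrix with given numbers of the entries -/
def mk4 (en : List ℕ) : Matrix (Fin 4) (Fin 4) F8c :=
  Matrix.of fun i j => fd8 (en.getD (4 * i.val + j.val) 0)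

theorem dec4_pow : ∀ j : Fin 4, dec4 (8 ^ j.val) = Pi.single j 1 := by decide

/-- a matrix is determined by the images of the vectors of the standard basis -/
theorem mat_eq_of_basis4 {A B : Matrix (Fin 4) (Fin 4) F8c}
    (h : ∀ k, k < 4 → A *ᵥ dec4 (8 ^ k) = B *ᵥ dec4 (8 ^ k)) : A = B := by
  ext i j
  have h1 := h j.val j.2
  rw [dec4_pow, Matrix.mulVec_single_one, Matrix.mulVec_single_one] at h1
  exact congrFun h1 i

/-- an entry of a packed table of the images of the numbered vectors -/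
def tb (t p : ℕ) : ℕ := Nat.land (Nat.shiftRight t (Nat.mul 12 p)) 4095

/-- the checked action of the matrix with given entries on the numbered vectors, block by block -/
def actOK4 (en : List ℕ) (t lo n : ℕ) : Prop :=
  ∀ p, p < n → mk4 en *ᵥ dec4 (lo + p) = dec4 (tb t (lo + p)) ∧ tb t (lo + p) < 4096

instance (en : List ℕ) (t lo n : ℕ) : Decidable (actOK4 en t lo n) := by
  unfold actOK4
  infer_instance

theorem pow8_lt {k : ℕ} (hk : k < 4) : 8 ^ k < 4096 := by
  have : k = 0 ∨ k = 1 ∨ k = 2 ∨ k = 3 := by omega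
  rcases this with rfl | rfl | rfl | rfl <;> norm_num

end Cfsg.Agent.Lib.Helper7.Sz8
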