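/-! # The multiplier of the Suzuki group over the field of eight elements: the words of the certificate (generated) -/

set_option autoImplicit false

namespace Cfsg.Agent.Lib.Helper7.Sz8Mul

/-- the packed words -/
noncomputable def relP : Nat := 0x33330220333302203333022033330220333302202800000000222202202222022022220220222202202222022022220220222202203800000000330330203303302033033020330330203303302033033020330330203800000000000000000000000030222020302220203022202030222020302220202800000000000000000000000033022020330220203302202033022020330220202800000000000000000000000000000000000000000000000033302020333020201000000000000000000000000000000000222020202220202022202020222020202000000000000000022220202222020222202022220202222020222202022220203100000000000000000000000000000302202030220203022020302202030220202300000000000000000000000000000000000033020203302020330202033020201c00000000000000000000000000000000003330203330203330203330203330201e00000000000000000000002220202220202220202220202220202220202220202a00000000000000000000000000000000000000000000222202222022220222201400000000000000000000000000000330203302033020330203302033020330202300000000000000000000000000000000000000022020220202202022020220201900000000000022202220222022202220222022202220222022202220222022203400000000000000000000000000000000000030203020302030203020302030201c00000000000000000000000000000000000000000000220220202022022020201400000000000000000000000000000000000000000000302033330203302020201400000000000000000000000000000000000000000000330203333020302020201400000000000000000000000000000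000000000000000002202033330333020201200000000000000000000000000000000000000000000002203333020333020201200000000000000000000000000000000000000000000003330333302022020201200000000000000000000000000000000000000000000003303030302202020201200000000000000000000000000000000000000000000000220203333022020201100000000000000000000000000000000000000000000000220333302022020201100000000000000000000000000000000000000000000000330202020302020201100000000000000000000000000000000000000000000000030303030202020201000000000000000000000000000000000000000000000000003330202022020200f00000000000000000000000000000000000000000000000000333302033330200e00000000000000000000000000000000000000000000000000333303333020200e00000000000000000000000000000000000000000000000000220202022020200e00000000000000000000000000000000000000000000000000000333302020200b000000000000000000000000000000000000000000000000000000002020202008000000000000000000000000000000000000000000000000000000000000000002000000000000000000000000022022022022022022022022022022022022022027000000000000000000000000000000000000000000000000000000000002222205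

/-- the packed classes of the words -/
noncomputable def rhsP : Nat := 0x14000140001400513ffb1c0001c0011bff91c00e1c0041bffe1bffd1bffa140011400013ffb1400a14001140001400513ff608000080000800207fff1000010000100050fffc18800188011880018800118011180011800118000e0000e0000e0050dffc0f0000f0000f0050effb1500014fff15007150000a0000a00009fff0a00411800117ff11807118000c8000c8000c8050c7fb1a0001a0001a0001a00d0e0000e0010e0000e0000a0000a0000a00309ffe0a0000a0000a0020a0000a0000a0000a0020a00009000090000900208fff09000090000900208fff09000090000900208fff09000090000900009004088000880008802087ff088000880008802087ff0880008800088020880008000080000800008004078000780007802077ff070000700007001070000700007000070010700007000070000700206fff0580005800058010580004000040000400104000010000100001000010011380013800138001380002800028000280002800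

/-- the packed times and rows of the words -/
noncomputable def wtaP : Nat := 0x100000001a0000f03200004020000010200000000e0000000e0000001800000000000000100000200e00001018000000100000001a0000000e00000008000000000000000e0000100e0000200e0000200e0000000e0000000e0000000e0000100e0000000e0000000e0000000e0000000e0000100e0000000e0000000e0000000e00000000000000000000000000000000

end Cfsg.Agent.Lib.Helper7.Sz8Mul
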