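import Cfsg.Agent.Lib.Helper7.Sz8MulT0
import Cfsg.Agent.Lib.Helper7.Sz8MulR
import Cfsg.Agent.Lib.Helper7.MGenC

/-! # The multiplier of the Suzuki group over the field of eight elements: the certificate of the enumeration of the cosets (generated) -/

set_option autoImplicit false

namespace Cfsg.Agent.Lib.Helper7.Sz8Mul

open Cfsg.Agent.Lib.Helper7.MG Cfsg.Agent.Lib.Helper7.HSMult

/-- the part of the table that contains a row -/
noncomputable def rowSel (a : ℕ) : ℕ := (cond (Nat.beq (Nat.land a 1) 0) (cond (Nat.beq (Nat.land a 2) 0) (cond (Nat.beq (Nat.land a 4) 0) (cond (Nat.beq (Nat.land a 8) 0) rl0 rl8) (cond (Nat.beq (Nat.land a 8) 0) rl4 rl12)) (cond (Nat.beq (Nat.land a 4) 0) (cond (Nat.beq (Nat.land a 8) 0) rl2 rl10) (cond (Nat.beq (Nat.land a 8) 0) rl6 rl14))) (cond (Nat.beq (Nat.land a 2) 0) (cond (Nat.beq (Nat.land a 4) 0) (cond (Nat.beq (Nat.land a 8) 0) rl1 rl9) (cond (Nat.beq (Nat.land a 8) 0) rl5 rl13)) (cond (Nat.beq (Nat.land a 4) 0) (cond (Nat.beq (Nat.land a 8) 0) rl3 rl11) (cond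 (Nat.beq (Nat.land a 8) 0) rl7 rl15))))

/-- a row of the table -/
noncomputable def rowOf (a : ℕ) : ℕ :=
  strictN a fun a' => Nat.shiftRight (rowSel a') (Nat.mul 560 (Nat.shiftRight a' 4))

/-- a word -/
noncomputable def wordOf (i : ℕ) : List ℕ :=
  strictN (Nat.land (Nat.shiftRight relP (Nat.mul 264 i)) 29642774844752946028434172162224104410437116074403984394101141506025761187823615) fun v =>
    unp (Nat.land v 255) (Nat.shiftRight v 8)

/-- the certificate -/
noncomputable def cert : VCert where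
  n := 5824
  g := 4
  k := 4
  nW := 37
  B := 2048
  iv := fun x => Nat.xor x 1
  sub := fun x => Nat.beq x 2 || Nat.beq x 3
  sl := fun a x => Nat.land (Nat.shiftRight (rowOf a) (Nat.mul 134 x)) 21778071482940061661655974875633165533183
  pr := fun a => Nat.land (Nat.shiftRight (rowOf a) 536) 16777215
  W := wordOf
  rhs := fun i => Nat.land (Nat.shiftRight rhsP (Nat.mul 80 i)) 1208925819614629174706175
  wT := fun i => Nat.land (Nat.shiftRight wtaP (Nat.mul 32 i)) 4095
  wA := fun i => Nat.land (Nat.shiftRight wtaP (Nat.add (Nat.mul 32 i) 12)) 1048575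

/-- the check of the rows from `lo` to `lo + k` -/
noncomputable def rowsOK (lo k : ℕ) : Bool := allN k fun i => allN 4 fun x => cert.slotOK (Nat.add lo i) x

/-- the check of the words -/
noncomputable def wordsOK : Bool := allN 37 fun i => cert.wordOK i

end Cfsg.Agent.Lib.Helper7.Sz8Mul
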