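import Cfsg.Agent.Lib.Helper7.Sz8MulG
import Cfsg.Agent.Lib.Helper7.Sz8MulD
import Cfsg.Agent.Lib.Helper7.MGenF
import Cfsg.Agent.S0102

/-!
# The multiplier of the Suzuki group over the field of eight elements: the kernel of a stem extension is an image of the product of two cyclic groups of order two

Lifts of the two generators are chosen so that two of the given words are trivial; this is possible since the kernel
has order prime to five and thirteen, the Sylow subgroups for these primes being cyclic.  The checked table shows that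
the kernel is generated by the values of the other given words; the traced words give relations between them, which
make the kernel a group generated by two elements of orders dividing two.
-/

set_option autoImplicit false
set_option maxRecDepth 100000

namespace Cfsg.Agent.Lib.Helper7.Sz8Mul

open Cfsg Cfsg.Agent.Lib.Helper7.MG Cfsg.Agent.Lib.Helper7.HSMult
open scoped IsMulCommutative

/-! ### the data of the certificate -/

/-- the words that define the central elements -/
def axI : ℕ → ℕ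
  | 0 => 2
  | 1 => 3
  | 2 => 20
  | 3 => 28
  | _ => 0

theorem axI_lt : ∀ j, axI j < 37
  | 0 => by decide
  | 1 => by decide
  | 2 => by decide
  | 3 => by decide
  | _ + 4 => by
    show (0 : ℕ) < 37
    decide

/-- the word of which a power is the second trivial word -/
def yW : List ℕ := [0, 2, 2]

theorem chk_wT : ∀ i, i < 37 → cert.wT i = 0 →
    i = 0 ∨ i = 1 ∨ ∃ j, j < 4 ∧ i = axI j := by decide +kernel

theorem chk_W2 : cert.W 0 = wpow 5 [2] := by decide +kernel

theorem chk_W3 : cert.W 1 = wpow 13 yW := by decide +kernel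

theorem chk_yW : expsum (wpow 13 yW) = 13 := by decide

theorem chk_len : ∀ i, i < 37 → (cert.W i).length ≤ 255 := by decide +kernel

theorem chk_ax : ∀ j, j < 4 → ∀ l, l < 4 →
    ((fld (cert.rhs (axI j)) l : ℤ) - ((cert.W (axI j)).length : ℤ) * (cert.B : ℤ)) = if l = j then 1 else 0 := by
  decide +kernel

theorem chk_ex : ∀ l, l < 4 →
    (((fld (cert.rhs 0) l : ℤ) - ((cert.W 0).length : ℤ) * (cert.B : ℤ)) = 0 ∧
     ((fld (cert.rhs 1) l : ℤ) - ((cert.W 1).length : ℤ) * (cert.B : ℤ)) = 0) := by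
  decide +kernel

/-- the relations between the central elements that the traced words give -/
def relL : List (List ℤ) := [[10, 10, 0, (-4)],
    [(-96), (-23), 12, 6],
    [(-3), 23, 0, (-4)],
    [72, 38, 0, (-18)],
    [(-52), (-46), 4, 12],
    [(-55), 9, (-2), 12]]

/-- the exponents of the first generator of the kernel -/
def c1L : List ℤ := [0, 0, 0, 1]

/-- the exponents of the second generator of the kernel -/
def c2L : List ℤ := [0, 0, 1, 0]

/-- the exponents of the generators of the kernel -/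
def cLL : List (List ℤ) := [c1L, c2L]

/-- the orders of the generators of the kernel -/
def nL : List ℤ := [2, 2]

/-- the central elements as products of powers of the generators -/
def mLL : List (List ℤ) := [[0, 0],
    [0, 0],
    [0, 1],
    [1, 0]]

/-- the combinations of the relations that express the central elements by the generators -/
def lamL : List (List ℤ) := [[(-20479057), 78903215, (-228518027), (-106114463), (-251680540), (-29941790)],
    [46863, (-180555), 522918, 242827, 575925, 68520],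
    [0, 0, 0, 0, 0, 0],
    [0, 0, 0, 0, 0, 0]]

/-- the combinations of the relations that give the orders of the generators -/
def muL : List (List ℤ) := [[(-15), 80, (-280), (-65), (-235), 10],
    [337, (-1260), 3617, 1768, 4075, 525]]

theorem chk_rel_0 : ∀ l, l < 4 → ((fld (cert.rhs 8) l : ℤ) - (fld 35422394084570175666165 l : ℤ)) = (relL.getD 0 []).getD l 0 := by
  decide +kernel

theorem chk_rel_1 : ∀ l, l < 4 → ((fld (cert.rhs 28) l : ℤ) - (fld 82635727642570282571872 l : ℤ)) = (relL.getD 1 []).getD l 0 := by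
  decide +kernel

theorem chk_rel_2 : ∀ l, l < 4 → ((fld (cert.rhs 6) l : ℤ) - (fld 33061208591333377208323 l : ℤ)) = (relL.getD 2 []).getD l 0 := by
  decide +kernel

theorem chk_rel_3 : ∀ l, l < 4 → ((fld (cert.rhs 1) l : ℤ) - (fld 92106986823317450733496 l : ℤ)) = (relL.getD 3 []).getD l 0 := by
  decide +kernel

theorem chk_rel_4 : ∀ l, l < 4 → ((fld (cert.rhs 27) l : ℤ) - (fld 66099358748176670580784 l : ℤ)) = (relL.getD 4 []).getD l 0 := by
  decide +kernel

theorem chk_rel_5 : ∀ l, l < 4 → ((fld (cert.rhs 0) l : ℤ) - (fld 11792092410327650543671 l : ℤ)) = (relL.getD 5 []).getD l 0 := by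
  decide +kernel

theorem chk_lam : ∀ j, j < 4 → ∀ l, l < 4 →
    ((65 : ℕ) : ℤ) * ((if l = j then 1 else 0) - dotL (mLL.getD j []) cLL l) = dotL (lamL.getD j []) relL l := by
  decide +kernel

theorem chk_mu : ∀ t, t < cLL.length → ∀ l, l < 4 →
    ((65 : ℕ) : ℤ) * (nL.getD t 0 * (cLL.getD t []).getD l 0) = dotL (muL.getD t []) relL l := by
  decide +kernel

instance instFiniteG0 : Finite G0 := Nat.finite_of_card_ne_zero (by rw [G_card]; norm_num)

section upper

variable {Γ : Type*} [Group Γ] [Finite Γ] (σ : Γ →* G0) (hsurj : Function.Surjective σ)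
  (hcen : σ.ker ≤ Subgroup.center Γ) (hder : σ.ker ≤ commutator Γ)

include hsurj hcen hder in
theorem not_dvd_card_ker : ¬ 13 ∣ Nat.card σ.ker ∧ ¬ 5 ∣ Nat.card σ.ker := by
  have hperf := perfect_of_stem σ hsurj hcen hder G_perfect
  have : Fact (Nat.Prime 13) := ⟨by norm_num⟩
  have : Fact (Nat.Prime 5) := ⟨by norm_num⟩
  refine ⟨?_, ?_⟩
  · exact Cfsg.Agent.S0102.result G_perfect
      (fun P => isCyclic_sylow_of_card_eq 13 2240 (by rw [G_card]) (by norm_num) P) σ hsurj hcen hperf
  · exact Cfsg.Agent.S0102.result G_perfect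
      (fun P => isCyclic_sylow_of_card_eq 5 5824 (by rw [G_card]) (by norm_num) P) σ hsurj hcen hperf

/-! ### the letters in the extension -/

/-- the letters in the extension -/
def gU (a c : Γ) : ℕ → Γ
  | 0 => a
  | 1 => a⁻¹
  | 2 => c
  | 3 => c⁻¹
  | _ => 1

omit [Finite Γ] in
theorem map_gU (a c : Γ) (ha : σ a = lK 0) (hc : σ c = lK 2) : ∀ x, σ (gU a c x) = lK x
  | 0 => ha
  | 1 => by
    show σ a⁻¹ = lK 1
    rw [map_inv, ha]
    exact (lK_iv (x := 0) (by norm_num)).symm
  | 2 => hc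
  | 3 => by
    show σ c⁻¹ = lK 3
    rw [map_inv, hc]
    exact (lK_iv (x := 2) (by norm_num)).symm
  | x + 4 => by
    show σ 1 = lK (x + 4)
    rw [map_one, lK_of_ge (by omega)]

omit [Finite Γ] in
theorem map_wd_gU (a c : Γ) (ha : σ a = lK 0) (hc : σ c = lK 2) :
    ∀ w : List ℕ, σ (VCert.wd (gU a c) w) = VCert.wd lK w
  | [] => map_one σ
  | x :: w => by
    rw [VCert.wd_cons, VCert.wd_cons, map_mul, map_gU σ a c ha hc x, map_wd_gU a c ha hc w]

include hsurj hcen hder in
/-- **lifts of the generators for which the two words are trivial** -/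
theorem exists_lifts : ∃ a c : Γ, σ a = lK 0 ∧ σ c = lK 2 ∧ c ^ 5 = 1 ∧
    VCert.wd (gU a c) (wpow 13 yW) = 1 := by
  obtain ⟨hnd5, hnd7⟩ := not_dvd_card_ker σ hsurj hcen hder
  have cop5 : (Nat.card ↥σ.ker).Coprime 13 :=
    ((Nat.Prime.coprime_iff_not_dvd (by norm_num)).2 hnd5).symm
  have cop7 : (Nat.card ↥σ.ker).Coprime 5 :=
    ((Nat.Prime.coprime_iff_not_dvd (by norm_num)).2 hnd7).symm
  obtain ⟨a0, ha0⟩ := hsurj (lK 0)
  obtain ⟨c0, hc0⟩ := hsurj (lK 2)
  -- the order of `c`
  have hk1 : c0 ^ 5 ∈ σ.ker := by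
    rw [MonoidHom.mem_ker, map_pow, hc0, lK_two_pow]
  obtain ⟨v, hv, hvh⟩ := exists_root σ.ker 5 cop7 _ hk1
  set c := c0 * v⁻¹ with hc
  have hcc : Commute c0 v⁻¹ := by
    have := Subgroup.mem_center_iff.1 (Subgroup.inv_mem _ (hcen hv)) c0
    exact this
  have hch : c ^ 5 = 1 := by
    rw [hc, hcc.mul_pow, inv_pow, hvh, mul_inv_cancel]
  have hσc : σ c = lK 2 := by
    rw [hc, map_mul, map_inv, MonoidHom.mem_ker.1 hv, inv_one, mul_one, hc0]
  -- the second word
  have hk2 : VCert.wd (gU a0 c) (wpow 13 yW) ∈ σ.ker := by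
    rw [MonoidHom.mem_ker, map_wd_gU σ a0 c ha0 hσc, ← chk_W3]
    exact wd_lK_W (by norm_num)
  obtain ⟨w, hw, hwr⟩ := exists_root σ.ker 13 cop5 _ (Subgroup.inv_mem _ hk2)
  have hwc : ∀ x : Γ, w⁻¹ * x = x * w⁻¹ := fun x =>
    (Subgroup.mem_center_iff.1 (Subgroup.inv_mem _ (hcen hw)) x).symm
  refine ⟨a0 * w, c, ?_, hσc, hch, ?_⟩
  · rw [map_mul, MonoidHom.mem_ker.1 hw, mul_one, ha0]
  · rw [wd_central_mul (gU a0 c) (gU (a0 * w) c) w (hcen hw) rfl (by
        show (a0 * w)⁻¹ = a0⁻¹ * w⁻¹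
        rw [mul_inv_rev, hwc]) (by
        intro x h0 h1
        match x, h0, h1 with
        | 0, h0, _ => exact absurd rfl h0
        | 1, _, h1 => exact absurd rfl h1
        | 2, _, _ => rfl
        | 3, _, _ => rfl
        | _ + 4, _, _ => rfl), chk_yW]
    show _ * w ^ ((13 : ℕ) : ℤ) = 1
    rw [zpow_natCast, hwr, mul_inv_cancel]

variable (a c : Γ) (ha : σ a = lK 0) (hc : σ c = lK 2) (hch : c ^ 5 = 1)
  (hy : VCert.wd (gU a c) (wpow 13 yW) = 1)

include ha hc in
omit [Finite Γ] in
theorem wd_gU_mem_ker {i : ℕ} (hi : i < 37) : VCert.wd (gU a c) (cert.W i) ∈ σ.ker := by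
  rw [MonoidHom.mem_ker, map_wd_gU σ a c ha hc, wd_lK_W hi]

omit [Finite Γ] in
theorem gU_iv : ∀ x, x < 4 → gU a c (Nat.xor x 1) = (gU a c x)⁻¹
  | 0, _ => rfl
  | 1, _ => (inv_inv a).symm
  | 2, _ => rfl
  | 3, _ => (inv_inv c).symm
  | x + 4, h => absurd h (by omega)

/-- the central elements: the values of the given words -/
noncomputable def zU (j : ℕ) : Subgroup.center Γ :=
  ⟨VCert.wd (gU a c) (cert.W (axI j)), hcen (wd_gU_mem_ker σ a c ha hc (axI_lt j))⟩

include hch hy in
omit [Finite Γ] in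
theorem hW0_U : ∀ i, i < cert.nW → cert.wT i = 0 →
    VCert.wd (gU a c) (cert.W i) = (cert.ek (zU σ hcen a c ha hc) i : Γ) := by
  intro i hi hT
  rcases chk_wT i hi hT with rfl | rfl | ⟨j, hj, rfl⟩
  · rw [VCert.ek, cert.kap_one _ fun l hl => (chk_ex l hl).1, chk_W2, wd_wpow, VCert.wd_cons, VCert.wd_nil, mul_one]
    exact hch
  · rw [VCert.ek, cert.kap_one _ fun l hl => (chk_ex l hl).2, chk_W3]
    exact hy
  · rw [VCert.ek, cert.kap_unit _ hj (chk_ax j hj)]
    rfl

include hcen hder ha hc in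
omit [Finite Γ] in
theorem hgen_U : ∀ y : Γ, ∃ u : List ℕ, (∀ x ∈ u, x < cert.g) ∧ y = (u.map (gU a c)).prod := by
  apply exists_word_of_closure (gU a c) 4 (fun x => Nat.xor x 1)
  · intro x hx
    refine ⟨?_, gU_iv a c x hx⟩
    have : x = 0 ∨ x = 1 ∨ x = 2 ∨ x = 3 := by omega
    rcases this with rfl | rfl | rfl | rfl <;> decide
  · apply Cfsg.Agent.Lib.Helper7.M12Mult.closure_eq_top_of_stem (σ := σ) hcen hder
    intro g
    have hg : g ∈ Subgroup.closure (lK '' Set.Iio 4) := by rw [closure_lK]; exact Subgroup.mem_top g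
    induction hg using Subgroup.closure_induction with
    | mem y hy =>
      obtain ⟨x, hx, rfl⟩ := hy
      exact ⟨gU a c x, Subgroup.subset_closure ⟨x, hx, rfl⟩, map_gU σ a c ha hc x⟩
    | one => exact ⟨1, one_mem _, map_one σ⟩
    | mul p q _ _ ihp ihq =>
      obtain ⟨p', hp', rfl⟩ := ihp
      obtain ⟨q', hq', rfl⟩ := ihq
      exact ⟨p' * q', mul_mem hp' hq', map_mul σ p' q'⟩
    | inv p _ ihp =>
      obtain ⟨p', hp', rfl⟩ := ihp
      exact ⟨p'⁻¹, inv_mem hp', map_inv σ p'⟩

include hsurj hder hch hy in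
/-- **the kernel is generated by the central elements** -/
theorem ker_eq_Zc_U : σ.ker = Zc (zU σ hcen a c ha hc) 4 := by
  refine ker_eq_Zc σ cert (gU a c) (zU σ hcen a c ha hc) 2 5 hsurj (by rw [G_card]; rfl) (by decide) (by norm_num)
    ?_ hch ?_ ?_ (hgen_U σ hcen hder a c ha hc) (by decide) (by decide) (gU_iv a c) ?_
    (hW0_U σ hcen a c ha hc hch hy) cert_all cert_wall
  · intro i hi
    have : σ (gU a c 2) = lK 2 := hc
    rw [this] at hi
    exact dvd_of_lK_two_pow hi
  · intro x hx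
    rcases eq_two_or_three hx with rfl | rfl
    · exact Subgroup.mem_zpowers _
    · exact Subgroup.inv_mem _ (Subgroup.mem_zpowers _)
  · intro j _
    exact wd_gU_mem_ker σ a c ha hc (axI_lt j)
  · intro i hi
    exact wd_gU_mem_ker σ a c ha hc hi

include hch hy in
omit [Finite Γ] in
/-- the relations between the central elements -/
theorem rel_U : ∀ r ∈ relL, zprod (zU σ hcen a c ha hc) 4 (fun l => r.getD l 0) = 1 := by
  have hKn : ∀ u, u ∈ σ.ker → ∀ g : Γ, g * u * g⁻¹ ∈ σ.ker := fun u hu g =>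
    (inferInstance : σ.ker.Normal).conj_mem u hu g
  have hHK : ∀ u, u ∈ Subgroup.zpowers (gU a c 2) → u ∈ σ.ker → u = 1 := by
    apply zpowers_inf_ker σ (gU a c) 2 5 _ hch
    intro i hi
    have : σ (gU a c 2) = lK 2 := hc
    rw [this] at hi
    exact dvd_of_lK_two_pow hi
  have hsub : ∀ x, cert.sub x = true → gU a c x ∈ Subgroup.zpowers (gU a c 2) := by
    intro x hx
    rcases eq_two_or_three hx with rfl | rfl
    · exact Subgroup.mem_zpowers _
    · exact Subgroup.inv_mem _ (Subgroup.mem_zpowers _)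
  have key : ∀ {i v row : ℕ}, i < 37 → cert.scan 4095 (cert.W i) row 0 = some (row, v) →
      cert.ek (zU σ hcen a c ha hc) i = cert.kap (zU σ hcen a c ha hc) v (cert.W i).length := by
    intro i v row hi h
    exact cert.close_spec (γ := gU a c) (H := Subgroup.zpowers (gU a c 2)) σ.ker hKn
      (fun j _ => wd_gU_mem_ker σ a c ha hc (axI_lt j)) hHK (by decide) (by decide) (gU_iv a c) hsub
      (fun i hi => wd_gU_mem_ker σ a c ha hc hi) (hW0_U σ hcen a c ha hc hch hy) cert_all cert_wall hi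
      (chk_len i hi) h
  intro r hr
  simp only [relL, List.mem_cons, List.not_mem_nil, or_false] at hr
  rcases hr with rfl | rfl | rfl | rfl | rfl | rfl
  · exact cert.rel_of_close _ (key (by norm_num) close_0) _ chk_rel_0
  · exact cert.rel_of_close _ (key (by norm_num) close_1) _ chk_rel_1
  · exact cert.rel_of_close _ (key (by norm_num) close_2) _ chk_rel_2
  · exact cert.rel_of_close _ (key (by norm_num) close_3) _ chk_rel_3
  · exact cert.rel_of_close _ (key (by norm_num) close_4) _ chk_rel_4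
  · exact cert.rel_of_close _ (key (by norm_num) close_5) _ chk_rel_5

include hsurj hcen hder ha hc hch hy in
/-- **the kernel is an image of the product of two cyclic groups of order two** -/
theorem exists_surj_U :
    ∃ π : Multiplicative (ZMod 2 × ZMod 2) →* ↥σ.ker, Function.Surjective π := by
  obtain ⟨hnd5, hnd7⟩ := not_dvd_card_ker σ hsurj hcen hder
  have cop5 : (Nat.card ↥σ.ker).Coprime 13 :=
    ((Nat.Prime.coprime_iff_not_dvd (by norm_num)).2 hnd5).symm
  have cop7 : (Nat.card ↥σ.ker).Coprime 5 :=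
    ((Nat.Prime.coprime_iff_not_dvd (by norm_num)).2 hnd7).symm
  have copq : (Nat.card ↥σ.ker).Coprime 65 := by
    have := Nat.Coprime.mul_right cop5 cop7
    norm_num at this
    exact this
  have hK := ker_eq_Zc_U σ hsurj hcen hder a c ha hc hch hy
  set S : Subgroup (Subgroup.center Γ) := σ.ker.comap (Subgroup.center Γ).subtype with hS
  have hzS : ∀ j, j < 4 → zU σ hcen a c ha hc j ∈ S := fun j _ => wd_gU_mem_ker σ a c ha hc (axI_lt j)
  have hq : ∀ u, u ∈ S → u ^ 65 = 1 → u = 1 := by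
    intro u hu huq
    have h1 : (⟨(u : Γ), hu⟩ : ↥σ.ker) ^ 65 = 1 := by
      apply Subtype.ext
      rw [Subgroup.coe_pow, Subgroup.coe_one]
      show (u : Γ) ^ 65 = 1
      rw [← Subgroup.coe_pow, huq, Subgroup.coe_one]
    have h2 := eq_one_of_pow_of_coprime 65 copq _ h1
    apply Subtype.ext
    have h3 : ((⟨(u : Γ), hu⟩ : ↥σ.ker) : Γ) = ((1 : ↥σ.ker) : Γ) := congrArg Subtype.val h2
    exact h3
  obtain ⟨hz, hN⟩ := abelian_of_relations_q (zU σ hcen a c ha hc) 4 relL
    (rel_U σ hcen a c ha hc hch hy) S hzS 65 hq cLL mLL nL lamL muL chk_lam chk_mu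
  set g1 := zprod (zU σ hcen a c ha hc) 4 (fun l => c1L.getD l 0) with hg1
  set g2 := zprod (zU σ hcen a c ha hc) 4 (fun l => c2L.getD l 0) with hg2
  have o1 : g1 ^ (2 : ℤ) = 1 := hN 0 (by decide)
  have o2 : g2 ^ (2 : ℤ) = 1 := hN 1 (by decide)
  have hzc : ∀ j, j < 4 → zU σ hcen a c ha hc j ∈ Subgroup.closure ({g1, g2} : Set (Subgroup.center Γ)) := by
    intro j hj
    rw [hz j hj]
    apply gprod_mem
    intro c' hc'
    simp only [cLL, List.mem_cons, List.not_mem_nil, or_false] at hc'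
    rcases hc' with rfl | rfl
    · exact Subgroup.subset_closure (Set.mem_insert _ _)
    · exact Subgroup.subset_closure (Set.mem_insert_of_mem _ rfl)
  have hsub : Zc (zU σ hcen a c ha hc) 4 ≤
      (Subgroup.closure ({g1, g2} : Set (Subgroup.center Γ))).map (Subgroup.center Γ).subtype := by
    rw [Zc, Subgroup.closure_le]
    rintro _ ⟨j, hj, rfl⟩
    exact ⟨zU σ hcen a c ha hc j, hzc j hj, rfl⟩
  have hle : ∀ y ∈ σ.ker, ∃ i j : ℤ, y = (g1 : Γ) ^ i * (g2 : Γ) ^ j := by
    intro y hy
    rw [hK] at hy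
    obtain ⟨y', hy', rfl⟩ := hsub hy
    obtain ⟨i, j, rfl⟩ := mem_closure_two g1 g2 y' hy'
    exact ⟨i, j, by simp⟩
  have hgK : ∀ g : Subgroup.center Γ, g ∈ S → (g : Γ) ∈ σ.ker := fun g hg => hg
  have m1 : g1 ∈ S := zprod_mem _ 4 S hzS _
  have m2 : g2 ∈ S := zprod_mem _ 4 S hzS _
  have hpow : ∀ (g : Subgroup.center Γ) (hg : g ∈ S) (n : ℕ), g ^ (n : ℤ) = 1 →
      (⟨(g : Γ), hgK g hg⟩ : ↥σ.ker) ^ n = 1 := by
    intro g hg n h
    apply Subtype.ext
    rw [Subgroup.coe_pow, Subgroup.coe_one]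
    show (g : Γ) ^ n = 1
    rw [zpow_natCast] at h
    rw [← Subgroup.coe_pow, h, Subgroup.coe_one]
  apply exists_surj_prod2 (⟨(g1 : Γ), hgK g1 m1⟩ : ↥σ.ker) ⟨(g2 : Γ), hgK g2 m2⟩ 2 2
    (hpow g1 m1 2 o1) (hpow g2 m2 2 o2)
  · intro x y
    apply Subtype.ext
    rw [Subgroup.coe_mul, Subgroup.coe_mul]
    exact Subgroup.mem_center_iff.1 (hcen y.2) x.1
  · intro y
    obtain ⟨i, j, h⟩ := hle y.1 y.2
    refine ⟨i, j, ?_⟩
    apply Subtype.ext
    rw [Subgroup.coe_mul, Subgroup.coe_zpow, Subgroup.coe_zpow]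
    exact h

end upper

/-- **the kernel of every finite stem extension of the Suzuki group is an image of the product of two cyclic groups of
order two** -/
theorem exists_surj_of_stem {Γ : Type*} [Group Γ] [Finite Γ] (σ : Γ →* G0) (hsurj : Function.Surjective σ)
    (hcen : σ.ker ≤ Subgroup.center Γ) (hder : σ.ker ≤ commutator Γ) :
    ∃ π : Multiplicative (ZMod 2 × ZMod 2) →* ↥σ.ker, Function.Surjective π := by
  obtain ⟨a, c, ha, hc, hch, hy⟩ := exists_lifts σ hsurj hcen hder
  exact exists_surj_U σ hsurj hcen hder a c ha hc hch hy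

end Cfsg.Agent.Lib.Helper7.Sz8Mul
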