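import Cfsg.Agent.Lib.Helper7.Sz8MulED
import Cfsg.Agent.Lib.Helper7.Sz8MulU

/-!
# The multiplier of the Suzuki group over the field of eight elements: a stem extension with kernel of order four

Permutations of 2080 points, paired with the letters in the Suzuki group, generate a group that maps onto the
Suzuki group.  The given words of the certificate are central in it, two of them are trivial, and four
products of powers of two of them are different elements of the kernel.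
-/

set_option autoImplicit false
set_option maxRecDepth 100000

namespace Cfsg.Agent.Lib.Helper7.Sz8Mul

open Cfsg Cfsg.Agent.Lib.Helper7.MG Cfsg.Agent.Lib.Helper7.HSMult
open scoped IsMulCommutative

/-! ### the letters on the 2080 points -/

/-- the inverse of a letter -/
def ivx : ℕ → ℕ
  | 0 => 1
  | 1 => 0
  | 2 => 3
  | 3 => 2
  | x => x

theorem ivx_ivx : ∀ x, ivx (ivx x) = x
  | 0 => rfl
  | 1 => rfl
  | 2 => rfl
  | 3 => rfl
  | _ + 4 => rfl

theorem ivx_eq : ∀ x, x < 4 → ivx x = Nat.xor x 1 := by decide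

/-- the image of one of the 2080 points under a letter -/
noncomputable def lk5 : ℕ → ℕ → ℕ
  | 0, p => Nat.land (Nat.shiftRight t5_0 (Nat.mul 16 p)) 65535
  | 1, p => Nat.land (Nat.shiftRight t5_1 (Nat.mul 16 p)) 65535
  | 2, p => Nat.land (Nat.shiftRight t5_2 (Nat.mul 16 p)) 65535
  | 3, p => Nat.land (Nat.shiftRight t5_3 (Nat.mul 16 p)) 65535
  | _, p => p

theorem lk5_ge {x : ℕ} (hx : 4 ≤ x) (p : ℕ) : lk5 x p = p := by
  obtain ⟨y, rfl⟩ : ∃ y, x = y + 4 := ⟨x - 4, by omega⟩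
  rfl

theorem ivx_ge {x : ℕ} (hx : 4 ≤ x) : ivx x = x := by
  obtain ⟨y, rfl⟩ : ∃ y, x = y + 4 := ⟨x - 4, by omega⟩
  rfl

theorem chk_inv5 : allN 4 (fun x => allN 2080 fun p =>
    Nat.blt (lk5 x p) 2080 && Nat.beq (lk5 (ivx x) (lk5 x p)) p) = true := by decide +kernel

theorem hh5 (x p : ℕ) (hp : p < 2080) : lk5 x p < 2080 ∧ lk5 (ivx x) (lk5 x p) = p := by
  rcases Nat.lt_or_ge x 4 with hx | hx
  · have h := chk_inv5
    rw [allN_iff] at h
    have h1 := h x hx
    rw [allN_iff] at h1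
    have h2 := h1 p hp
    rw [Bool.and_eq_true] at h2
    exact ⟨by simpa [Nat.blt] using h2.1, Nat.eq_of_beq_eq_true h2.2⟩
  · rw [ivx_ge hx, lk5_ge hx, lk5_ge hx]
    exact ⟨hp, rfl⟩

theorem hh5' (x p : ℕ) (hp : p < 2080) : lk5 (ivx x) p < 2080 ∧ lk5 x (lk5 (ivx x) p) = p := by
  have h := hh5 (ivx x) p hp
  rwa [ivx_ivx] at h

/-- the letters as permutations of the 2080 points -/
noncomputable def pm5 (x : ℕ) : Equiv.Perm (Fin 2080) := permOf 2080 (lk5 x) (lk5 (ivx x)) (hh5 x) (hh5' x)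

theorem pm5_val (x : ℕ) (p : Fin 2080) : (pm5 x p).val = lk5 x p.val := rfl

theorem pm5_ivx (x : ℕ) : pm5 (ivx x) = (pm5 x)⁻¹ := by
  apply Equiv.ext
  intro p
  apply Fin.ext
  rw [pm5, pm5, permOf_inv]
  rfl

theorem pm5_ge {x : ℕ} (hx : 4 ≤ x) : pm5 x = 1 := by
  apply Equiv.ext
  intro p
  apply Fin.ext
  rw [pm5_val, lk5_ge hx]
  rfl

/-- the image of one of the 2080 points under a word -/
noncomputable def ev5 : List ℕ → ℕ → ℕ
  | [], p => p
  | x :: w, p => lk5 x (ev5 w p)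

theorem wd_pm5_val : ∀ (w : List ℕ) (p : Fin 2080), ((VCert.wd pm5 w) p).val = ev5 w p.val
  | [], _ => rfl
  | x :: w, p => by
    rw [VCert.wd_cons, Equiv.Perm.mul_apply, pm5_val, wd_pm5_val w p]
    rfl

theorem wd_pm5_eq {w w' : List ℕ} (h : ∀ p, p < 2080 → ev5 w p = ev5 w' p) : VCert.wd pm5 w = VCert.wd pm5 w' := by
  apply Equiv.ext
  intro p
  apply Fin.ext
  rw [wd_pm5_val, wd_pm5_val]
  exact h p.val p.2

/-! ### the extension -/

/-- the pairs -/
noncomputable def gX (x : ℕ) : Equiv.Perm (Fin 2080) × G0 := (pm5 x, lK x)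

theorem gX_ge {x : ℕ} (hx : 4 ≤ x) : gX x = 1 := by
  rw [gX, pm5_ge hx, lK_of_ge hx]
  rfl

theorem wd_gX : ∀ w : List ℕ, VCert.wd gX w = (VCert.wd pm5 w, VCert.wd lK w)
  | [] => rfl
  | x :: w => by
    rw [VCert.wd_cons, VCert.wd_cons, VCert.wd_cons, wd_gX w]
    rfl

/-- the extension -/
noncomputable def GE : Subgroup (Equiv.Perm (Fin 2080) × G0) :=
  Subgroup.closure (gX '' Set.Iio 4)

theorem gX_mem (x : ℕ) : gX x ∈ GE := by
  rcases Nat.lt_or_ge x 4 with h | h
  · exact Subgroup.subset_closure ⟨x, h, rfl⟩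
  · rw [gX_ge h]; exact one_mem _

/-- the letters of the extension -/
noncomputable def gE (x : ℕ) : ↥GE := ⟨gX x, gX_mem x⟩

theorem wd_gE_val : ∀ w : List ℕ, (VCert.wd gE w : ↥GE).1 = VCert.wd gX w
  | [] => rfl
  | x :: w => by
    rw [VCert.wd_cons, Subgroup.coe_mul, wd_gE_val w, VCert.wd_cons]
    rfl

/-- two words with the same values on all the points give the same element -/
theorem wd_gE_eq {w w' : List ℕ} (h5 : ∀ p, p < 2080 → ev5 w p = ev5 w' p)
    (hK : VCert.wd lK w = VCert.wd lK w') :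
    VCert.wd gE w = VCert.wd gE w' := by
  apply Subtype.ext
  rw [wd_gE_val, wd_gE_val, wd_gX, wd_gX, wd_pm5_eq h5, hK]

theorem gE_ivx (x : ℕ) (hx : x < 4) : gE (ivx x) = (gE x)⁻¹ := by
  apply Subtype.ext
  rw [Subgroup.coe_inv]
  show gX (ivx x) = (gX x)⁻¹
  rw [gX, gX, pm5_ivx, ivx_eq x hx, lK_iv hx]
  rfl

theorem closure_gE : Subgroup.closure (gE '' Set.Iio 4) = ⊤ := by
  have h := Subgroup.closure_closure_coe_preimage (k := gX '' Set.Iio 4)
  have e : ((↑) ⁻¹' (gX '' Set.Iio 4) : Set ↥(Subgroup.closure (gX '' Set.Iio 4))) = gE '' Set.Iio 4 := by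
    ext z
    constructor
    · rintro ⟨x, hx, hz⟩
      exact ⟨x, hx, Subtype.ext hz⟩
    · rintro ⟨x, hx, rfl⟩
      exact ⟨x, hx, rfl⟩
  rw [e] at h
  exact h

/-- the projection onto the Suzuki group -/
noncomputable def sigE : ↥GE →* G0 := (MonoidHom.snd _ _).comp GE.subtype

theorem sigE_gE (x : ℕ) : sigE (gE x) = lK x := rfl

theorem sigE_wd : ∀ w : List ℕ, sigE (VCert.wd gE w) = VCert.wd lK w
  | [] => map_one sigE
  | x :: w => by rw [VCert.wd_cons, VCert.wd_cons, map_mul, sigE_gE, sigE_wd w]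

theorem sigE_surj : Function.Surjective sigE := by
  rw [← MonoidHom.range_eq_top, eq_top_iff, ← closure_lK, Subgroup.closure_le]
  rintro _ ⟨x, _, rfl⟩
  exact ⟨gE x, sigE_gE x⟩

/-! ### the checks -/

theorem zA_eq : cert.W 28 = zA := by decide +kernel

theorem zB_eq : cert.W 20 = zB := by decide +kernel

/-- the products of powers of the words of the kernel -/
def kw (i : ℕ) : List ℕ := wpow (i % 2) zA ++ wpow (i / 2) zB

theorem chk_cen5 : allN 4 (fun j => strictL (cert.W (axI j)) fun w => allN 4 fun x => allN 2080 fun p =>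
    Nat.beq (lk5 x (ev5 w p)) (ev5 w (lk5 x p))) = true := by
  decide +kernel

theorem chk_ex5 : (allN 2080 fun p => Nat.beq (ev5 (wpow 5 [2]) p) p && Nat.beq (ev5 (wpow 13 yW) p) p) = true := by
  decide +kernel

theorem chk_ord5 : (allN 2080 fun p => Nat.beq (ev5 (wpow 2 [0]) p) p) = true := by decide +kernel

theorem chk_sig : ∀ i, i < 4 →
    ev5 (kw i) 0 + 4096 * ev5 (kw i) 1040 = sigL.getD i 0 := by
  decide +kernel

theorem chk_nodup : ∀ i, i < 4 → ∀ j, j < 4 → sigL.getD i 0 = sigL.getD j 0 → i = j := by decide +kernel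

/-! ### the consequences of the checks -/

theorem ev5_lt : ∀ (w : List ℕ) (p : ℕ), p < 2080 → ev5 w p < 2080
  | [], _, hp => hp
  | x :: w, p, hp => (hh5 x (ev5 w p) (ev5_lt w p hp)).1

theorem ev5_append : ∀ (w w' : List ℕ) (p : ℕ), ev5 (w ++ w') p = ev5 w (ev5 w' p)
  | [], _, _ => rfl
  | x :: w, w', p => by
    show lk5 x (ev5 (w ++ w') p) = lk5 x (ev5 w (ev5 w' p))
    rw [ev5_append w w' p]

/-- the given words commute with the letters on the 2080 points -/
theorem cen5 {j x p : ℕ} (hj : j < 4) (hx : x < 4) (hp : p < 2080) :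
    ev5 (x :: cert.W (axI j)) p = ev5 (cert.W (axI j) ++ [x]) p := by
  have h := chk_cen5
  rw [allN_iff] at h
  have h1 := h j hj
  rw [strictL_eq, allN_iff] at h1
  have h2 := h1 x hx
  rw [allN_iff] at h2
  rw [ev5_append]
  exact Nat.eq_of_beq_eq_true (h2 p hp)

theorem ex5 {p : ℕ} (hp : p < 2080) : ev5 (wpow 5 [2]) p = p ∧ ev5 (wpow 13 yW) p = p := by
  have h := chk_ex5
  rw [allN_iff] at h
  have h1 := h p hp
  rw [Bool.and_eq_true] at h1
  exact ⟨Nat.eq_of_beq_eq_true h1.1, Nat.eq_of_beq_eq_true h1.2⟩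

theorem ord5 {p : ℕ} (hp : p < 2080) : ev5 (wpow 2 [0]) p = p := by
  have h := chk_ord5
  rw [allN_iff] at h
  exact Nat.eq_of_beq_eq_true (h p hp)

end Cfsg.Agent.Lib.Helper7.Sz8Mul
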