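import Cfsg.Agent.Lib.Helper5.SuzukiGroup
import Cfsg.Agent.Lib.Helper8.SUTransport

/-!
# The Suzuki groups over isomorphic fields are isomorphic

An isomorphism of fields with `2 ^ (2 m + 1)` elements maps the upper unitriangular elements, the torus and the
inversion of the Suzuki group to the elements of the same kind; as every element is a product of these, the Suzuki
group is mapped onto the Suzuki group.
-/

set_option autoImplicit false

namespace Cfsg.Agent.Lib.Helper7.SzTr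

open Cfsg Cfsg.Agent.S0335 Cfsg.Agent.Lib.Helper5.Suzuki

section tr

variable {F : Type*} {F' : Type*} [Field F] [Fintype F] [CharP F 2] [Field F'] [Fintype F'] [CharP F' 2] (m : ℕ)

omit [CharP F 2] [CharP F' 2] in
theorem sg_map2 (ψ : F →+* F') (a : F) : ψ (sg m a) = sg m (ψ a) := by
  unfold sg
  rw [map_pow]

omit [CharP F 2] [CharP F' 2] in
theorem ff_map2 (ψ : F →+* F') (a b : F) : ψ (ff m a b) = ff m (ψ a) (ψ b) := by
  unfold ff
  simp only [map_add, map_mul, map_pow, sg_map2]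

theorem Tm_map2 (ψ : F →+* F') (a b : F) : (Tm m a b).map ψ = Tm m (ψ a) (ψ b) := by
  ext i j
  fin_cases i <;> fin_cases j <;> simp [Tm, sg_map2, ff_map2]

theorem Wm_map2 (ψ : F →+* F') : (Wm : Matrix (Fin 4) (Fin 4) F).map ψ = Wm := by
  ext i j
  fin_cases i <;> fin_cases j <;> simp [Wm]

theorem Dm_map2 (ψ : F →+* F') (α : Fˣ) :
    (Dm m α).map ψ = Dm m (Units.map (ψ : F →* F') α) := by
  have h1 : ((Units.map (ψ : F →* F') α : F'ˣ) : F') = ψ α := rfl
  have h2 : (((Units.map (ψ : F →* F') α)⁻¹ : F'ˣ) : F') = ψ ((α⁻¹ : Fˣ) : F) := by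
    rw [← map_inv]; rfl
  ext i j
  fin_cases i <;> fin_cases j <;> simp [Dm, h1, h2, Matrix.diagonal]

theorem map_tS (ψ : F →+* F') (a b : F) :
    Matrix.SpecialLinearGroup.map ψ (tS m a b) = tS m (ψ a) (ψ b) := by
  apply Subtype.ext
  rw [Matrix.SpecialLinearGroup.map_apply_coe, RingHom.mapMatrix_apply]
  exact Tm_map2 m ψ a b

theorem map_wS (ψ : F →+* F') :
    Matrix.SpecialLinearGroup.map ψ (wS : Matrix.SpecialLinearGroup (Fin 4) F) = wS := by
  apply Subtype.ext
  rw [Matrix.SpecialLinearGroup.map_apply_coe, RingHom.mapMatrix_apply]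
  exact Wm_map2 ψ

theorem map_dS (ψ : F →+* F') (α : Fˣ) :
    Matrix.SpecialLinearGroup.map ψ (dS m α) = dS m (Units.map (ψ : F →* F') α) := by
  apply Subtype.ext
  rw [Matrix.SpecialLinearGroup.map_apply_coe, RingHom.mapMatrix_apply]
  exact Dm_map2 m ψ α

variable (hF : Fintype.card F = 2 ^ (2 * m + 1)) (hF' : Fintype.card F' = 2 ^ (2 * m + 1))

include hF hF' in
theorem map_mem_Sz (hm : 1 ≤ m) (ψ : F →+* F') (g : Matrix.SpecialLinearGroup (Fin 4) F) (hg : g ∈ Sz F m) :
    Matrix.SpecialLinearGroup.map ψ g ∈ Sz F' m := by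
  rcases cases m hF hm ⟨g, hg⟩ with ⟨a, b, α, h⟩ | ⟨a, b, a', b', α, h⟩
  · have h' : g = tS m a b * dS m α := congrArg Subtype.val h
    rw [h', map_mul, map_tS, map_dS]
    exact (Sz F' m).mul_mem (tS_mem m hF' _ _) (dS_mem m hF' _)
  · have h' : g = tS m a b * wS * tS m a' b' * dS m α := congrArg Subtype.val h
    rw [h', map_mul, map_mul, map_mul, map_tS, map_tS, map_dS, map_wS]
    exact (Sz F' m).mul_mem ((Sz F' m).mul_mem ((Sz F' m).mul_mem (tS_mem m hF' _ _) (wS_mem m hF'))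
      (tS_mem m hF' _ _)) (dS_mem m hF' _)

include hF hF' in
/-- **the Suzuki groups over two fields of the same order are isomorphic** -/
theorem nonempty_szEquiv (hm : 1 ≤ m) (e : F ≃+* F') : Nonempty (↥(Sz F m) ≃* ↥(Sz F' m)) := by
  let φ := Cfsg.Agent.Lib.Helper8.SUTransport.slEquiv e 4
  have h1 : ∀ g : Matrix.SpecialLinearGroup (Fin 4) F, g ∈ Sz F m → φ g ∈ Sz F' m :=
    fun g hg => map_mem_Sz m hF hF' hm e.toRingHom g hg
  have h2 : ∀ g : Matrix.SpecialLinearGroup (Fin 4) F', g ∈ Sz F' m → φ.symm g ∈ Sz F m :=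
    fun g hg => map_mem_Sz m hF' hF hm e.symm.toRingHom g hg
  exact ⟨{ toFun := fun g => ⟨φ g.1, h1 g.1 g.2⟩
           invFun := fun g => ⟨φ.symm g.1, h2 g.1 g.2⟩
           left_inv := fun g => Subtype.ext (φ.symm_apply_apply g.1)
           right_inv := fun g => Subtype.ext (φ.apply_symm_apply g.1)
           map_mul' := fun g h => Subtype.ext (map_mul φ g.1 h.1) }⟩

end tr

end Cfsg.Agent.Lib.Helper7.SzTr
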