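import Cfsg.Agent.Lib.Helper7.Sz8MulE
import Cfsg.Agent.Lib.Helper7.SzTransport
import Cfsg.Agent.Lib.Helper5.SuzukiBridge
import Cfsg.Prelude.Def_KGroupFacts

/-!
# The multiplier of the Suzuki group over the field of eight elements is the product of two cyclic groups of order two

The group generated by the pairs is a stem extension of the Suzuki group whose kernel has at least four
elements; together with the bound for the kernels of all stem extensions, applied also to this one, this gives the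
multiplier.  The statement is carried over to the Suzuki group of matrices over any field of eight elements.
-/

set_option autoImplicit false
set_option maxRecDepth 100000

namespace Cfsg.Agent.Lib.Helper7.Sz8Mul

open Cfsg Cfsg.Agent.Lib.Helper7.MG Cfsg.Agent.Lib.Helper7.HSMult Cfsg.Agent.Lib.Helper7.Sz8
open Cfsg.Agent.Lib.Helper7.Sp6
open scoped IsMulCommutative

/-! ### the two trivial words -/

theorem gE_two_pow : gE 2 ^ 5 = 1 := by
  have h := wd_gE_eq (w := wpow 5 [2]) (w' := []) (fun p hp => (ex5 hp).1) (by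
      rw [← chk_W2]; exact wd_lK_W (by norm_num))
  rw [wd_wpow, VCert.wd_cons, VCert.wd_nil, mul_one] at h
  exact h

theorem gE_y_wd : VCert.wd gE (wpow 13 yW) = 1 :=
  wd_gE_eq (w := wpow 13 yW) (w' := []) (fun p hp => (ex5 hp).2) (by
      rw [← chk_W3]; exact wd_lK_W (by norm_num))

theorem gE_iv (x : ℕ) (hx : x < 4) : gE (Nat.xor x 1) = (gE x)⁻¹ := by
  rw [← ivx_eq x hx]
  exact gE_ivx x hx

/-! ### the central elements -/

theorem wd_gE_W_comm {j x : ℕ} (hj : j < 4) (hx : x < 4) :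
    gE x * VCert.wd gE (cert.W (axI j)) = VCert.wd gE (cert.W (axI j)) * gE x := by
  have h := wd_gE_eq (w := x :: cert.W (axI j)) (w' := cert.W (axI j) ++ [x]) (fun p hp => cen5 hj hx hp) (by
      rw [VCert.wd_cons, VCert.wd_append, wd_lK_W (axI_lt j), mul_one, one_mul, VCert.wd_cons, VCert.wd_nil,
        mul_one])
  rw [VCert.wd_cons, VCert.wd_append, VCert.wd_cons, VCert.wd_nil, mul_one] at h
  exact h

theorem wd_gE_ax_center (j : ℕ) : VCert.wd gE (cert.W (axI j)) ∈ Subgroup.center ↥GE := by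
  rcases Nat.lt_or_ge j 4 with hj | hj
  · apply central_of_comm_gens (gE '' Set.Iio 4) closure_gE
    rintro _ ⟨x, hx, rfl⟩
    exact wd_gE_W_comm hj hx
  · obtain ⟨y, rfl⟩ : ∃ y, j = y + 4 := ⟨j - 4, by omega⟩
    have e : axI (y + 4) = 0 := rfl
    rw [e, chk_W2, wd_wpow, VCert.wd_cons, VCert.wd_nil, mul_one, gE_two_pow]
    exact one_mem _

/-- the central elements of the table: the values of the given words -/
noncomputable def zE (j : ℕ) : Subgroup.center ↥GE := ⟨VCert.wd gE (cert.W (axI j)), wd_gE_ax_center j⟩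

theorem wd_gE_mem_ker {i : ℕ} (hi : i < 37) : VCert.wd gE (cert.W i) ∈ sigE.ker := by
  rw [MonoidHom.mem_ker, sigE_wd, wd_lK_W hi]

theorem zE_mem_ker (j : ℕ) : ((zE j : Subgroup.center ↥GE) : ↥GE) ∈ sigE.ker :=
  wd_gE_mem_ker (axI_lt j)

theorem hW0_E : ∀ i, i < cert.nW → cert.wT i = 0 →
    VCert.wd gE (cert.W i) = ((cert.ek zE i : Subgroup.center ↥GE) : ↥GE) := by
  intro i hi hT
  rcases chk_wT i hi hT with rfl | rfl | ⟨j, hj, rfl⟩
  · rw [VCert.ek, cert.kap_one _ fun l hl => (chk_ex l hl).1, chk_W2, wd_wpow, VCert.wd_cons, VCert.wd_nil, mul_one]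
    exact gE_two_pow
  · rw [VCert.ek, cert.kap_one _ fun l hl => (chk_ex l hl).2, chk_W3]
    exact gE_y_wd
  · rw [VCert.ek, cert.kap_unit _ hj (chk_ax j hj)]
    rfl

theorem hgen_E : ∀ y : ↥GE, ∃ u : List ℕ, (∀ x ∈ u, x < cert.g) ∧ y = (u.map gE).prod := by
  apply exists_word_of_closure gE 4 (fun x => Nat.xor x 1) _ closure_gE
  intro x hx
  refine ⟨?_, gE_iv x hx⟩
  have : x = 0 ∨ x = 1 ∨ x = 2 ∨ x = 3 := by omega
  rcases this with rfl | rfl | rfl | rfl <;> decide

instance instFiniteGE : Finite ↥GE := inferInstance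

/-- **the kernel of the projection is generated by the central elements of the table** -/
theorem ker_sigE : sigE.ker = Zc zE 4 := by
  refine ker_eq_Zc sigE cert gE zE 2 5 sigE_surj (by rw [G_card]; rfl) (by decide) (by norm_num)
    ?_ gE_two_pow ?_ (fun j _ => zE_mem_ker j) hgen_E (by decide) (by decide) gE_iv
    (fun i hi => wd_gE_mem_ker hi) hW0_E cert_all cert_wall
  · intro i hi
    rw [sigE_gE] at hi
    exact dvd_of_lK_two_pow hi
  · intro x hx
    rcases eq_two_or_three hx with rfl | rfl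
    · exact Subgroup.mem_zpowers _
    · have : gE 3 = (gE 2)⁻¹ := gE_iv 2 (by norm_num)
      rw [this]
      exact Subgroup.inv_mem _ (Subgroup.mem_zpowers _)

/-! ### the extension is perfect -/

theorem gE_zero_pow : gE 0 ^ 2 = 1 := by
  have h := wd_gE_eq (w := wpow 2 [0]) (w' := []) (fun p hp => ord5 hp) (by
      rw [wd_wpow, VCert.wd_cons, VCert.wd_nil, mul_one, lK_zero_sq])
  rw [wd_wpow, VCert.wd_cons, VCert.wd_nil, mul_one] at h
  exact h

theorem closure_pairE : Subgroup.closure {gE 0, gE 2 * gE 2} = (⊤ : Subgroup ↥GE) := by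
  have h2 : gE 2 ∈ Subgroup.closure {gE 0, gE 2 * gE 2} := by
    have e : gE 2 = (gE 2 * gE 2) ^ 3 := by
      rw [← pow_two, ← pow_mul]
      show gE 2 = gE 2 ^ (5 + 1)
      rw [pow_succ, gE_two_pow, one_mul]
    have hm : (gE 2 * gE 2) ^ 3 ∈ Subgroup.closure {gE 0, gE 2 * gE 2} :=
      pow_mem (Subgroup.subset_closure (by simp)) 3
    rwa [← e] at hm
  rw [eq_top_iff, ← closure_gE, Subgroup.closure_le]
  rintro _ ⟨x, hx, rfl⟩
  have hx' : x < 4 := hx
  have : x = 0 ∨ x = 1 ∨ x = 2 ∨ x = 3 := by omega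
  rcases this with rfl | rfl | rfl | rfl
  · exact Subgroup.subset_closure (by simp)
  · have : gE 1 = (gE 0)⁻¹ := gE_iv 0 (by norm_num)
    rw [SetLike.mem_coe, this]
    exact inv_mem (Subgroup.subset_closure (by simp))
  · exact h2
  · have : gE 3 = (gE 2)⁻¹ := gE_iv 2 (by norm_num)
    rw [SetLike.mem_coe, this]
    exact inv_mem h2

theorem commutator_GE : commutator ↥GE = ⊤ := by
  have h7 : (gE 2 * gE 2) ^ 5 = 1 := by
    rw [← pow_two, ← pow_mul, mul_comm, pow_mul, gE_two_pow, one_pow]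
  have h5 : (gE 0 * (gE 2 * gE 2)) ^ 13 = 1 := by
    have h := gE_y_wd
    rw [wd_wpow, yW, VCert.wd_cons, VCert.wd_cons, VCert.wd_cons, VCert.wd_nil, mul_one] at h
    exact h
  exact perfect_of_triangle closure_pairE gE_zero_pow h7 h5 (by norm_num) (by norm_num)

/-- **the group generated by the pairs is a stem extension of the projective group** -/
theorem stem_GE : IsStemExtension sigE := by
  refine ⟨sigE_surj, ?_, ?_⟩
  · rw [ker_sigE]
    exact Zc_le_center zE 4
  · rw [commutator_GE]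
    exact le_top

/-! ### the order of the kernel -/

theorem wd_lK_zA : VCert.wd lK zA = 1 := by
  rw [← zA_eq]
  exact wd_lK_W (by norm_num)

theorem wd_lK_zB : VCert.wd lK zB = 1 := by
  rw [← zB_eq]
  exact wd_lK_W (by norm_num)

theorem wd_gE_kw_mem (i : ℕ) : VCert.wd gE (kw i) ∈ sigE.ker := by
  rw [MonoidHom.mem_ker, sigE_wd, kw, VCert.wd_append, wd_wpow, wd_wpow, wd_lK_zA,
    wd_lK_zB, one_pow, one_pow, mul_one]

theorem ev5_of_wd_gE_eq {w w' : List ℕ} (h : VCert.wd gE w = VCert.wd gE w') {p : ℕ} (hp : p < 2080) :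
    ev5 w p = ev5 w' p := by
  have h1 : (VCert.wd gE w : ↥GE).1 = (VCert.wd gE w' : ↥GE).1 := congrArg Subtype.val h
  rw [wd_gE_val, wd_gE_val, wd_gX, wd_gX] at h1
  have h2 : VCert.wd pm5 w = VCert.wd pm5 w' := congrArg Prod.fst h1
  have h3 := wd_pm5_val w ⟨p, hp⟩
  rw [h2, wd_pm5_val] at h3
  exact h3.symm

theorem card_ker_ge : 4 ≤ Nat.card ↥sigE.ker := by
  have hinj : Function.Injective (fun i : Fin 4 => (⟨VCert.wd gE (kw i.val), wd_gE_kw_mem i.val⟩ : ↥sigE.ker)) := by
    intro i j h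
    have h1 : VCert.wd gE (kw i.val) = VCert.wd gE (kw j.val) := congrArg Subtype.val h
    have e : sigL.getD i.val 0 = sigL.getD j.val 0 := by
      rw [← chk_sig i.val i.2, ← chk_sig j.val j.2, ev5_of_wd_gE_eq h1 (by norm_num),
        ev5_of_wd_gE_eq h1 (p := 1040) (by norm_num)]
    exact Fin.ext (chk_nodup i.val i.2 j.val j.2 e)
  have := Nat.card_le_card_of_injective _ hinj
  rwa [Nat.card_fin] at this

/-- **the kernel of the stem extension is the product of two cyclic groups of order two** -/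
theorem ker_GE : Nonempty (↥sigE.ker ≃* Multiplicative (ZMod 2 × ZMod 2)) := by
  obtain ⟨hs, hc, hd⟩ := stem_GE
  obtain ⟨π, hπ⟩ := exists_surj_of_stem sigE hs hc hd
  exact nonempty_equiv_of_surj_of_card_le π hπ (by rw [card_prod_22]; exact card_ker_ge)

/-! ### the Suzuki group of matrices over any field of eight elements -/

/-- **the Schur multiplier of the Suzuki group over a field of eight elements is the product of two cyclic groups of
order two** -/
theorem multiplier_sz {F : Type*} [Field F] [Fintype F] (hF : Fintype.card F = 8) :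
    Cfsg.HasSchurMultiplier ↥(Cfsg.Lie.Sz F 4) (Multiplicative (ZMod 2 × ZMod 2)) := by
  have hF' : Fintype.card F = 2 ^ (2 * 1 + 1) := by rw [hF]; rfl
  haveI := Cfsg.Agent.Lib.Helper5.Suzuki.charP_of_card hF'
  let e0 : F ≃+* F8c := FiniteField.ringEquivOfCardEq (by rw [hF, F8c.card])
  let e1 : ↥(Cfsg.Lie.Sz F 4) ≃* ↥(Cfsg.Sz F 1) :=
    Cfsg.Agent.Lib.Helper5.SuzukiBridge.lieSzEquiv (m := 1) le_rfl hF'
  obtain ⟨e2⟩ := Cfsg.Agent.Lib.Helper7.SzTr.nonempty_szEquiv 1 hF' F8c.card' le_rfl e0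
  let e : ↥(Cfsg.Lie.Sz F 4) ≃* G0 := e1.trans e2
  constructor
  · obtain ⟨iso⟩ := ker_GE
    obtain ⟨h1, ⟨iso'⟩⟩ := stem_comp_equiv (MulEquiv.ulift (α := ↥GE)) e.symm sigE stem_GE
    exact ⟨ULift ↥GE, inferInstance, inferInstance, _, h1, ⟨iso'.trans iso⟩⟩
  · intro Γ _ _ σ hσ
    have hk : (e.toMonoidHom.comp σ).ker = σ.ker := ker_comp_equiv e σ
    have h := exists_surj_of_stem (e.toMonoidHom.comp σ) (e.surjective.comp hσ.1)
      (by rw [hk]; exact hσ.2.1) (by rw [hk]; exact hσ.2.2)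
    rw [hk] at h
    exact h

end Cfsg.Agent.Lib.Helper7.Sz8Mul
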