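import Cfsg.Agent.Lib.Helper7.Sz8MulGD
import Cfsg.Agent.Lib.Helper7.Sz8MulC
import Cfsg.Agent.Lib.Helper7.Sz8Base
import Cfsg.Agent.Lib.Helper7.Sp6Base
import Cfsg.Agent.Lib.Helper7.MGenE
import Cfsg.Agent.S0324

/-!
# The multiplier of the Suzuki group over the field of eight elements: the letters in the group

The inversion and an element of order five generate the Suzuki group, since all unitriangular and all diagonal elements
are words in them; they satisfy all the words of the certificate.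
-/

set_option autoImplicit false
set_option maxRecDepth 100000

namespace Cfsg.Agent.Lib.Helper7.Sz8Mul

open Matrix Cfsg Cfsg.Agent.Lib.Helper7.MG Cfsg.Agent.Lib.Helper7.HSMult Cfsg.Agent.Lib.Helper7.Sz8
open Cfsg.Agent.Lib.Helper7.Sp6 Cfsg.Agent.S0335 Cfsg.Agent.Lib.Helper5.Suzuki

/-- the special linear group of degree four over the field of eight elements -/
abbrev S0 : Type := Matrix.SpecialLinearGroup (Fin 4) F8c

/-- the Suzuki group over the field of eight elements -/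
abbrev G0 : Type := ↥(Cfsg.Sz F8c 1)

/-- the second generator -/
def yS : S0 := tS 1 (fd8 7) (fd8 3) * wS * tS 1 (fd8 4) (fd8 6)

/-- the inverse of the second generator -/
def yiS : S0 := tS 1 (fd8 4) (fd8 5) * wS * tS 1 (fd8 7) (fd8 5)

/-- the letters in the special linear group -/
def lS : ℕ → S0
  | 0 => wS
  | 1 => wS
  | 2 => yS
  | 3 => yiS
  | _ => 1

theorem lS_mem : ∀ x, lS x ∈ Cfsg.Sz F8c 1
  | 0 => wS_mem 1 F8c.card'
  | 1 => wS_mem 1 F8c.card'
  | 2 => mul_mem (mul_mem (tS_mem 1 F8c.card' _ _) (wS_mem 1 F8c.card')) (tS_mem 1 F8c.card' _ _)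
  | 3 => mul_mem (mul_mem (tS_mem 1 F8c.card' _ _) (wS_mem 1 F8c.card')) (tS_mem 1 F8c.card' _ _)
  | _ + 4 => one_mem _

/-- the entries of the letters -/
def letE : ℕ → List ℕ
  | 0 => eA
  | 1 => eA
  | 2 => eC
  | 3 => eCi
  | _ => eI

/-- the tables of the letters -/
def letT : ℕ → ℕ → ℕ
  | 0, p => tb tA p
  | 1, p => tb tA p
  | 2, p => tb tC p
  | 3, p => tb tCi p
  | _, p => p

theorem lS_val : ∀ x, (lS x).1 = mk4 (letE x)
  | 0 => by decide +kernel
  | 1 => by decide +kernel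
  | 2 => by decide +kernel
  | 3 => by decide +kernel
  | _ + 4 => by
    show (1 : Matrix (Fin 4) (Fin 4) F8c) = mk4 eI
    decide +kernel

theorem chk_tA : actOK4 eA tA 0 4096 := by decide +kernel

theorem chk_tC : actOK4 eC tC 0 4096 := by decide +kernel

theorem chk_tCi : actOK4 eCi tCi 0 4096 := by decide +kernel

theorem let_ok : ∀ x p, p < 4096 → mk4 (letE x) *ᵥ dec4 p = dec4 (letT x p) ∧ letT x p < 4096
  | 0, p, hp => by
    have h := chk_tA p hp
    rw [Nat.zero_add] at h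
    exact h
  | 1, p, hp => by
    have h := chk_tA p hp
    rw [Nat.zero_add] at h
    exact h
  | 2, p, hp => by
    have h := chk_tC p hp
    rw [Nat.zero_add] at h
    exact h
  | 3, p, hp => by
    have h := chk_tCi p hp
    rw [Nat.zero_add] at h
    exact h
  | _ + 4, p, hp => by
    refine ⟨?_, hp⟩
    show mk4 eI *ᵥ dec4 p = dec4 p
    have : mk4 eI = 1 := by decide +kernel
    rw [this, Matrix.one_mulVec]

/-- the letters in the Suzuki group -/
def lK (x : ℕ) : G0 := ⟨lS x, lS_mem x⟩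

theorem wd_lK_val : ∀ w : List ℕ, (VCert.wd lK w : G0).1 = VCert.wd lS w
  | [] => rfl
  | x :: w => by
    rw [VCert.wd_cons, VCert.wd_cons, Subgroup.coe_mul, wd_lK_val w]
    rfl

/-- the number of the image of a vector under a word -/
def evS : List ℕ → ℕ → ℕ
  | [], p => p
  | x :: w, p => letT x (evS w p)

theorem wd_lS_mulVec : ∀ (w : List ℕ) (p : ℕ), p < 4096 →
    (VCert.wd lS w : S0).1 *ᵥ dec4 p = dec4 (evS w p) ∧ evS w p < 4096
  | [], p, hp => by
    refine ⟨?_, hp⟩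
    show (1 : Matrix (Fin 4) (Fin 4) F8c) *ᵥ dec4 p = dec4 p
    rw [Matrix.one_mulVec]
  | x :: w, p, hp => by
    obtain ⟨h1, h2⟩ := wd_lS_mulVec w p hp
    obtain ⟨h3, h4⟩ := let_ok x (evS w p) h2
    refine ⟨?_, h4⟩
    rw [VCert.wd_cons]
    show ((lS x).1 * (VCert.wd lS w : S0).1) *ᵥ dec4 p = dec4 (letT x (evS w p))
    rw [← Matrix.mulVec_mulVec, h1, lS_val, h3]

theorem wd_lS_eq {w w' : List ℕ} (h : ∀ k, k < 4 → evS w (8 ^ k) = evS w' (8 ^ k)) :
    VCert.wd lS w = VCert.wd lS w' := by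
  apply Subtype.ext
  apply mat_eq_of_basis4
  intro k hk
  rw [(wd_lS_mulVec w _ (pow8_lt hk)).1, (wd_lS_mulVec w' _ (pow8_lt hk)).1, h k hk]

theorem wd_lK_eq {w w' : List ℕ} (h : ∀ k, k < 4 → evS w (8 ^ k) = evS w' (8 ^ k)) :
    VCert.wd lK w = VCert.wd lK w' := by
  apply Subtype.ext
  rw [wd_lK_val, wd_lK_val]
  exact wd_lS_eq h

theorem wd_lK_eq_one {w : List ℕ} (h : ∀ k, k < 4 → evS w (8 ^ k) = 8 ^ k) : VCert.wd lK w = 1 :=
  wd_lK_eq (w' := []) h

/-! ### the checks -/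

theorem chk_wordsK : allN 37 (fun i => strictL (cert.W i) fun w =>
    allN 4 fun k => Nat.beq (evS w (8 ^ k)) (8 ^ k)) = true := by
  decide +kernel

theorem chk_invK : ∀ x < 4, ∀ k < 4, evS [x, Nat.xor x 1] (8 ^ k) = 8 ^ k := by decide +kernel

theorem chk_ordK : (∀ k < 4, evS (wpow 5 [2]) (8 ^ k) = 8 ^ k) ∧ evS [2] 1 ≠ 1 := by decide +kernel

theorem chk_tri : (∀ k < 4, evS (wpow 2 [0]) (8 ^ k) = 8 ^ k) ∧
    (∀ k < 4, evS (wpow 13 [0, 2, 2]) (8 ^ k) = 8 ^ k) := by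
  decide +kernel

theorem chk_tw : ∀ a b : F8c, ∀ k, k < 4 →
    (Tm 1 a b) *ᵥ dec4 (8 ^ k) = dec4 (evS (tw (8 * fc8 a + fc8 b)) (8 ^ k)) := by
  decide +kernel

theorem chk_dw : ∀ c : F8c, c ≠ 0 → ∀ k, k < 4 →
    (Matrix.diagonal ![c ^ (2 ^ 1 + 1), c ^ (2 ^ 1), c⁻¹ ^ (2 ^ 1), c⁻¹ ^ (2 ^ 1 + 1)]) *ᵥ dec4 (8 ^ k) =
      dec4 (evS (dw (fc8 c)) (8 ^ k)) := by
  decide +kernel

/-! ### the consequences -/

/-- **all the words of the certificate are trivial in the Suzuki group** -/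
theorem wd_lK_W {i : ℕ} (hi : i < 37) : VCert.wd lK (cert.W i) = 1 := by
  have h := chk_wordsK
  rw [allN_iff] at h
  have h1 := h i hi
  rw [strictL_eq, allN_iff] at h1
  exact wd_lK_eq_one fun k hk => Nat.eq_of_beq_eq_true (h1 k hk)

theorem lK_iv {x : ℕ} (hx : x < 4) : lK (Nat.xor x 1) = (lK x)⁻¹ := by
  have h := wd_lK_eq_one (chk_invK x hx)
  rw [VCert.wd_cons, VCert.wd_cons, VCert.wd_nil, mul_one] at h
  exact eq_inv_of_mul_eq_one_right h

theorem lK_of_ge {x : ℕ} (hx : 4 ≤ x) : lK x = 1 := by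
  obtain ⟨y, rfl⟩ : ∃ y, x = y + 4 := ⟨x - 4, by omega⟩
  rfl

theorem lK_two_pow : lK 2 ^ 5 = 1 := by
  have h := wd_lK_eq_one chk_ordK.1
  rw [wd_wpow, VCert.wd_cons, VCert.wd_nil, mul_one] at h
  exact h

theorem lK_two_ne : lK 2 ≠ 1 := by
  intro h
  have h1 := (wd_lS_mulVec [2] 1 (by norm_num)).1
  have h0 : VCert.wd lS [2] = 1 := by
    rw [← wd_lK_val, VCert.wd_cons, VCert.wd_nil, mul_one, h]
    rfl
  rw [h0] at h1
  have h2 : dec4 1 = dec4 (evS [2] 1) := by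
    rw [← h1]
    show dec4 1 = (1 : Matrix (Fin 4) (Fin 4) F8c) *ᵥ dec4 1
    rw [Matrix.one_mulVec]
  revert h2
  decide +kernel

theorem orderOf_lK_two : orderOf (lK 2) = 5 :=
  have : Fact (Nat.Prime 5) := ⟨by norm_num⟩
  orderOf_eq_prime lK_two_pow lK_two_ne

theorem dvd_of_lK_two_pow {i : ℕ} (h : lK 2 ^ i = 1) : 5 ∣ i := by
  rw [← orderOf_lK_two]
  exact orderOf_dvd_of_pow_eq_one h

/-! ### the letters generate the group -/

theorem lK_mem (x : ℕ) : lK x ∈ Subgroup.closure (lK '' Set.Iio 4) := by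
  rcases Nat.lt_or_ge x 4 with h | h
  · exact Subgroup.subset_closure ⟨x, h, rfl⟩
  · rw [lK_of_ge h]; exact one_mem _

theorem wd_lK_mem : ∀ w : List ℕ, VCert.wd lK w ∈ Subgroup.closure (lK '' Set.Iio 4)
  | [] => one_mem _
  | x :: w => by
    rw [VCert.wd_cons]
    exact mul_mem (lK_mem x) (wd_lK_mem w)

/-- every unitriangular element is a word in the letters -/
theorem tT_eq (a b : F8c) : tT 1 F8c.card' a b = VCert.wd lK (tw (8 * fc8 a + fc8 b)) := by
  apply Subtype.ext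
  rw [wd_lK_val]
  apply Subtype.ext
  apply mat_eq_of_basis4
  intro k hk
  rw [(wd_lS_mulVec _ _ (pow8_lt hk)).1, ← chk_tw a b k hk]
  rfl

/-- every diagonal element is a word in the letters -/
theorem dD_eq (α : F8cˣ) : dD 1 F8c.card' α = VCert.wd lK (dw (fc8 (α : F8c))) := by
  apply Subtype.ext
  rw [wd_lK_val]
  apply Subtype.ext
  apply mat_eq_of_basis4
  intro k hk
  rw [(wd_lS_mulVec _ _ (pow8_lt hk)).1, ← chk_dw (α : F8c) α.ne_zero k hk]
  show Dm 1 α *ᵥ dec4 (8 ^ k) = _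
  rw [Dm, Units.val_inv_eq_inv_val]

/-- **the letters generate the Suzuki group** -/
theorem closure_lK : Subgroup.closure (lK '' Set.Iio 4) = ⊤ := by
  rw [Subgroup.eq_top_iff']
  intro g
  have hw : wW 1 F8c.card' ∈ Subgroup.closure (lK '' Set.Iio 4) := lK_mem 0
  have ht : ∀ a b : F8c, tT 1 F8c.card' a b ∈ Subgroup.closure (lK '' Set.Iio 4) := by
    intro a b
    rw [tT_eq]
    exact wd_lK_mem _
  have hd : ∀ α : F8cˣ, dD 1 F8c.card' α ∈ Subgroup.closure (lK '' Set.Iio 4) := by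
    intro α
    rw [dD_eq]
    exact wd_lK_mem _
  rcases cases 1 F8c.card' le_rfl g with ⟨a, b, α, rfl⟩ | ⟨a, b, a', b', α, rfl⟩
  · exact mul_mem (ht a b) (hd α)
  · exact mul_mem (mul_mem (mul_mem (ht a b) hw) (ht a' b')) (hd α)

theorem G_card : Nat.card G0 = 29120 := by
  have h := Cfsg.Agent.S0324.result (F := F8c) (m := 1) le_rfl F8c.card'
  rw [h]
  norm_num

theorem closure_pair : Subgroup.closure {lK 0, lK 2 * lK 2} = (⊤ : Subgroup G0) := by
  have h2 : lK 2 ∈ Subgroup.closure {lK 0, lK 2 * lK 2} := by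
    have e : lK 2 = (lK 2 * lK 2) ^ 3 := by
      rw [← pow_two, ← pow_mul]
      show lK 2 = lK 2 ^ (5 + 1)
      rw [pow_succ, lK_two_pow, one_mul]
    have hm : (lK 2 * lK 2) ^ 3 ∈ Subgroup.closure {lK 0, lK 2 * lK 2} :=
      pow_mem (Subgroup.subset_closure (by simp)) 3
    rwa [← e] at hm
  rw [eq_top_iff, ← closure_lK, Subgroup.closure_le]
  rintro _ ⟨x, hx, rfl⟩
  have hx' : x < 4 := hx
  have : x = 0 ∨ x = 1 ∨ x = 2 ∨ x = 3 := by omega
  rcases this with rfl | rfl | rfl | rfl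
  · exact Subgroup.subset_closure (by simp)
  · have : lK 1 = (lK 0)⁻¹ := lK_iv (x := 0) (by norm_num)
    rw [SetLike.mem_coe, this]
    exact inv_mem (Subgroup.subset_closure (by simp))
  · exact h2
  · have : lK 3 = (lK 2)⁻¹ := lK_iv (x := 2) (by norm_num)
    rw [SetLike.mem_coe, this]
    exact inv_mem h2

theorem lK_zero_sq : lK 0 ^ 2 = 1 := by
  have h := wd_lK_eq_one chk_tri.1
  rw [wd_wpow, VCert.wd_cons, VCert.wd_nil, mul_one] at h
  exact h

/-- the Suzuki group is perfect -/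
theorem G_perfect : commutator G0 = ⊤ := by
  have h5 : (lK 2 * lK 2) ^ 5 = 1 := by
    rw [← pow_two, ← pow_mul, mul_comm, pow_mul, lK_two_pow, one_pow]
  have h13 : (lK 0 * (lK 2 * lK 2)) ^ 13 = 1 := by
    have h := wd_lK_eq_one chk_tri.2
    rw [wd_wpow, VCert.wd_cons, VCert.wd_cons, VCert.wd_cons, VCert.wd_nil, mul_one] at h
    exact h
  exact perfect_of_triangle closure_pair lK_zero_sq h5 h13 (by norm_num) (by norm_num)

end Cfsg.Agent.Lib.Helper7.Sz8Mul
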