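import Cfsg.Agent.Lib.Helper7.Sz8MulC

/-! # The multiplier of the Suzuki group over the field of eight elements: the check of the rows 0 to 5823 of the certificate (generated) -/

set_option autoImplicit false
set_option maxRecDepth 100000

namespace Cfsg.Agent.Lib.Helper7.Sz8Mul

theorem rows_ok_0 : rowsOK 0 728 = true := by decide +kernel

theorem rows_ok_1 : rowsOK 728 728 = true := by decide +kernel

theorem rows_ok_2 : rowsOK 1456 728 = true := by decide +kernel

theorem rows_ok_3 : rowsOK 2184 728 = true := by decide +kernel

theorem rows_ok_4 : rowsOK 2912 728 = true := by decide +kernel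

theorem rows_ok_5 : rowsOK 3640 728 = true := by decide +kernel

theorem rows_ok_6 : rowsOK 4368 728 = true := by decide +kernel

theorem rows_ok_7 : rowsOK 5096 728 = true := by decide +kernel

end Cfsg.Agent.Lib.Helper7.Sz8Mul
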