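import Mathlib
import Cfsg.Prelude.Def_FusionSystem
import Cfsg.Prelude.Def_PLocal
import Cfsg.Agent.Lib.Helper7.ZJKb
import Cfsg.Agent.Lib.Helper7.GTFi
import Cfsg.Agent.Lib.Helper7.ThA1
import Cfsg.Agent.Lib.Helper7.PPowerIndexSub

/-!
# Control of fusion by `C_F(℧¹(Z(S)))` and `N_F(J(S))`, part A: bookkeeping
-/

set_option autoImplicit false
set_option linter.unusedSectionVars false
set_option linter.style.haveILetI false

namespace Cfsg.Agent.Lib.Helper7.TF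

open Cfsg Cfsg.FusionSystem Cfsg.Agent.Lib.Helper7 Cfsg.Agent.Lib.Helper7.QdF
  Cfsg.Agent.Lib.Helper7.WCtl Cfsg.Agent.Lib.Helper7.GTF Cfsg.Agent.Lib.Helper7.ZJK
  Cfsg.Agent.Lib.Helper7.ThA

universe u

variable {Ω : Type*} [Group Ω] {S : Subgroup Ω}

/-- `℧¹(Z(S))` -/
def VZ (p : ℕ) (S : Subgroup Ω) : Subgroup Ω :=
  Cfsg.powerClosure p 1 (S ⊓ Subgroup.centralizer (S : Set Ω))

theorem powerClosure_mono (p n : ℕ) {H K : Subgroup Ω} (h : H ≤ K) :
    Cfsg.powerClosure p n H ≤ Cfsg.powerClosure p n K := by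
  unfold Cfsg.powerClosure
  apply Subgroup.closure_mono
  rintro y ⟨x, hx, rfl⟩
  exact ⟨x, h hx, rfl⟩

theorem powerClosure_le (p n : ℕ) (H : Subgroup Ω) : Cfsg.powerClosure p n H ≤ H := by
  unfold Cfsg.powerClosure
  rw [Subgroup.closure_le]
  rintro y ⟨x, hx, rfl⟩
  exact H.pow_mem hx _

/-- `Z(S) ≤ Z(N_S(Q))` -/
theorem center_le_center_normalizerIn {Q : Subgroup Ω} (hQS : Q ≤ S) :
    S ⊓ Subgroup.centralizer (S : Set Ω) ≤
      normalizerIn S Q ⊓ Subgroup.centralizer ((normalizerIn S Q : Subgroup Ω) : Set Ω) := by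
  intro z hz
  refine ⟨⟨hz.1, ?_⟩, ?_⟩
  · apply Subgroup.centralizer_le_normalizer
    exact Subgroup.centralizer_le hQS hz.2
  · exact Subgroup.centralizer_le (inf_le_left : normalizerIn S Q ≤ S) hz.2

theorem VZ_le_VZ_normalizerIn (p : ℕ) {Q : Subgroup Ω} (hQS : Q ≤ S) :
    VZ p S ≤ VZ p (normalizerIn S Q) :=
  powerClosure_mono p 1 (center_le_center_normalizerIn hQS)

theorem VZ_le_center (p : ℕ) (S : Subgroup Ω) : VZ p S ≤ S ⊓ Subgroup.centralizer (S : Set Ω) :=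
  powerClosure_le p 1 _

/-- maps of the centralizer system of a subsystem, for a larger subgroup, are maps of the centralizer
system -/
theorem centralizerHom_mono (F : FusionSystem S) {T : Subgroup Ω} (N : FusionSystem T) (hTS : T ≤ S)
    (hNF : ∀ (P : Subgroup Ω) (φ : P →* Ω), φ ∈ N.Hom P → φ ∈ F.Hom P) {V V' A : Subgroup Ω}
    (hVV' : V ≤ V') {φ : A →* Ω} (h : φ ∈ N.centralizerHom V' A) : φ ∈ F.centralizerHom V A := by
  obtain ⟨hφ, hA, hφC, ψ, hψ, hext, hfix⟩ := h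
  have hcc : centralizerIn T V' ≤ centralizerIn S V := by
    intro x hx
    exact ⟨hTS hx.1, Subgroup.centralizer_le hVV' hx.2⟩
  have hle : A ⊔ V ≤ A ⊔ V' := sup_le_sup_left hVV' A
  refine ⟨hNF _ _ hφ, hA.trans hcc, fun x => hcc (hφC x), ψ.comp (Subgroup.inclusion hle),
    fs_restrict_mem F hle (hNF _ _ hψ), ?_, ?_⟩
  · intro x
    exact hext x
  · intro x
    exact hfix ⟨x, hVV' x.2⟩

/-- the control statement -/
def Ctl (p : ℕ) {Ω : Type u} [Group Ω] {S : Subgroup Ω} (F : FusionSystem S) : Prop :=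
  F.IsSaturated p → ∀ E : FusionSystem S,
    (∀ (A : Subgroup Ω) (φ : A →* Ω), φ ∈ F.centralizerHom (VZ p S) A → φ ∈ E.Hom A) →
    (∀ (A : Subgroup Ω) (φ : A →* Ω), φ ∈ F.normalizerHom (Cfsg.thompsonSubgroupAOf S) A →
      φ ∈ E.Hom A) →
    ∀ (A : Subgroup Ω) (φ : A →* Ω), φ ∈ F.Hom A → φ ∈ E.Hom A

/-- local control from the inductive hypothesis -/
theorem local_ctl {Ω : Type u} [Group Ω] {S : Subgroup Ω} [Finite S] {p : ℕ} [Fact p.Prime]
    (hS : IsPGroup p S) (F : FusionSystem S) (hF : F.IsSaturated p) (E : FusionSystem S)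
    (hCE : ∀ (A : Subgroup Ω) (φ : A →* Ω), φ ∈ F.centralizerHom (VZ p S) A → φ ∈ E.Hom A)
    (ih1 : ∀ (T : Subgroup Ω) [Finite T] (N : FusionSystem T),
      Nat.card T < Nat.card S → IsPGroup p T → Ctl p N)
    (ih2 : ∀ (T : Subgroup Ω) [Finite T] (N : FusionSystem T),
      Nat.card T = Nat.card S → mu N < mu F → IsPGroup p T → Ctl p N)
    {Q : Subgroup Ω} (hQfn : F.IsFullyNormalized Q) (hQn : ¬ F.IsNormal Q)
    (hJ : ∀ (A : Subgroup Ω) (φ : A →* Ω),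
      φ ∈ F.normalizerHom (Cfsg.thompsonSubgroupAOf (normalizerIn S Q)) A → φ ∈ E.Hom A)
    (A : Subgroup Ω) (φ : A →* Ω) (hφ : φ ∈ F.normalizerHom Q A) : φ ∈ E.Hom A := by
  have hQS : Q ≤ S := hQfn.1
  have hTS : normalizerIn S Q ≤ S := inf_le_left
  haveI : Finite ↥(normalizerIn S Q) := finite_of_le hTS
  have hTp : IsPGroup p ↥(normalizerIn S Q) := hS.to_le hTS
  obtain ⟨N, hN⟩ := exists_normalizerSystem F Q hQS
  have hNsat := normalizerSystem_isSaturated p hS F hF Q hQfn N hN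
  have hNF : ∀ (P : Subgroup Ω) (φ : P →* Ω), φ ∈ N.Hom P → φ ∈ F.Hom P := by
    intro P φ h
    rw [hN P] at h
    exact h.1
  have hThm : Ctl p N := by
    by_cases hlt : Nat.card ↥(normalizerIn S Q) < Nat.card S
    · exact ih1 _ N hlt hTp
    · have hcard : Nat.card ↥(normalizerIn S Q) = Nat.card S :=
        le_antisymm (Subgroup.card_le_of_le hTS) (not_lt.mp hlt)
      have hex : ∃ (P : Subgroup Ω) (φ : P →* Ω), φ ∈ F.Hom P ∧ φ ∉ F.normalizerHom Q P := by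
        by_contra hcon
        apply hQn
        apply isNormal_of_forall_mem F hQS
        intro P φ hφ
        by_contra h1
        exact hcon ⟨P, φ, hφ, h1⟩
      obtain ⟨P, φ, hφ, hφn⟩ := hex
      have hmu : mu N < mu F := mu_lt F N hNF hφ (by rw [hN P]; exact hφn)
      exact ih2 _ N hcard hmu hTp
  have h1 : φ ∈ N.Hom A := by rw [hN A]; exact hφ
  have h2 := hThm hNsat (fullSub E (normalizerIn S Q) hTS) ?_ ?_ A φ h1
  · exact h2.1
  · intro B ψ hψ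
    refine ⟨hCE B ψ (centralizerHom_mono F N hTS hNF (VZ_le_VZ_normalizerIn p hQS) hψ), ?_, ?_⟩
    · exact (N.le_of_mem hψ.1).1
    · exact (N.le_of_mem hψ.1).2
  · intro B ψ hψ
    refine ⟨hJ B ψ (normalizerHom_mono F N hTS hNF hψ), ?_, ?_⟩
    · exact (N.le_of_mem hψ.1).1
    · exact (N.le_of_mem hψ.1).2

theorem conj_mem_sup_of_normalizer {A B : Subgroup Ω} {g : Ω}
    (hA : g ∈ Subgroup.normalizer (A : Set Ω)) (hB : g ∈ Subgroup.normalizer (B : Set Ω)) :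
    ∀ x ∈ A ⊔ B, g * x * g⁻¹ ∈ A ⊔ B := by
  have hK : A ⊔ B ≤ (A ⊔ B).comap (MulAut.conj g).toMonoidHom := by
    apply sup_le
    · intro y hy
      show g * y * g⁻¹ ∈ A ⊔ B
      exact Subgroup.mem_sup_left ((Subgroup.mem_normalizer_iff.mp hA y).mp hy)
    · intro y hy
      show g * y * g⁻¹ ∈ A ⊔ B
      exact Subgroup.mem_sup_right ((Subgroup.mem_normalizer_iff.mp hB y).mp hy)
  intro x hx
  exact hK hx

/-- an element normalizing `A` and `B` normalizes `A ⊔ B` (no finiteness) -/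
theorem mem_normalizer_sup' {A B : Subgroup Ω} {g : Ω}
    (hA : g ∈ Subgroup.normalizer (A : Set Ω)) (hB : g ∈ Subgroup.normalizer (B : Set Ω)) :
    g ∈ Subgroup.normalizer ((A ⊔ B : Subgroup Ω) : Set Ω) := by
  rw [Subgroup.mem_normalizer_iff]
  intro h
  constructor
  · exact conj_mem_sup_of_normalizer hA hB h
  · intro hh
    have := conj_mem_sup_of_normalizer (Subgroup.inv_mem _ hA) (Subgroup.inv_mem _ hB) _ hh
    have e : g⁻¹ * (g * h * g⁻¹) * g⁻¹⁻¹ = h := by group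
    rwa [e] at this

/-- adjoining a normal subgroup of the system: `N_F(X) ⊆ N_F(X Q₀)` -/
theorem normalizerHom_sup_normal [Finite S] (F : FusionSystem S) {Q₀ X : Subgroup Ω}
    (hQ₀ : F.IsNormal Q₀) (hXS : X ≤ S) {A : Subgroup Ω} {φ : A →* Ω}
    (hφ : φ ∈ F.normalizerHom X A) : φ ∈ F.normalizerHom (X ⊔ Q₀) A := by
  obtain ⟨hφF, hA, hφN, ψ, hψ, hext, hmap⟩ := id hφ
  have hSQ : S ≤ Subgroup.normalizer (Q₀ : Set Ω) := le_normalizer_of_isNormal F hQ₀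
  have hX'S : X ⊔ Q₀ ≤ S := sup_le hXS hQ₀.1
  have hNN : normalizerIn S X ≤ normalizerIn S (X ⊔ Q₀) := by
    intro g hg
    exact ⟨hg.1, mem_normalizer_sup' hg.2 (hSQ hg.1)⟩
  have hX'N : X ⊔ Q₀ ≤ normalizerIn S (X ⊔ Q₀) := le_normalizerIn hX'S
  obtain ⟨ψ', hψ', hext', hmap'⟩ := hQ₀.2 (A ⊔ X) ψ hψ
  have hX'D : X ⊔ Q₀ ≤ (A ⊔ X) ⊔ Q₀ := sup_le_sup_right le_sup_right Q₀
  have hDN : (A ⊔ X) ⊔ Q₀ ≤ normalizerIn S (X ⊔ Q₀) :=
    sup_le (sup_le (hA.trans hNN) (le_sup_left.trans hX'N)) (le_sup_right.trans hX'N)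
  have hψX : ∀ x : X, ψ (Subgroup.inclusion le_sup_right x) ∈ X := fun x =>
    hmap.le ⟨_, Subgroup.mem_subgroupOf.mpr x.2, rfl⟩
  have hψ'Q : ∀ q : Q₀, ψ' (Subgroup.inclusion le_sup_right q) ∈ Q₀ := fun q =>
    hmap'.le ⟨_, Subgroup.mem_subgroupOf.mpr q.2, rfl⟩
  have hvals : ∀ d, ψ' d ∈ normalizerIn S (X ⊔ Q₀) := by
    apply values_mem_of_sup ψ'
    · intro y
      rw [hext' y]
      revert y
      apply values_mem_of_sup ψ
      · intro a
        rw [hext a]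
        exact hNN (hφN a)
      · intro x
        exact hX'N (Subgroup.mem_sup_left (hψX x))
    · intro q
      exact hX'N (Subgroup.mem_sup_right (hψ'Q q))
  have hmapX' : ∀ d : ↥((A ⊔ X) ⊔ Q₀), (d : Ω) ∈ X ⊔ Q₀ → ψ' d ∈ X ⊔ Q₀ := by
    have hXD : X ≤ (A ⊔ X) ⊔ Q₀ := le_sup_right.trans le_sup_left
    have hQD : Q₀ ≤ (A ⊔ X) ⊔ Q₀ := le_sup_right
    have h1 : ((X ⊔ Q₀).subgroupOf ((A ⊔ X) ⊔ Q₀)).map ψ' ≤ X ⊔ Q₀ := by
      rw [Subgroup.subgroupOf_sup hXD hQD, Subgroup.map_sup]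
      apply sup_le
      · rintro _ ⟨d, hd, rfl⟩
        have hdX : (d : Ω) ∈ X := Subgroup.mem_subgroupOf.mp hd
        have e : d = Subgroup.inclusion le_sup_left
            (Subgroup.inclusion (le_sup_right : X ≤ A ⊔ X) ⟨(d : Ω), hdX⟩) := Subtype.ext rfl
        rw [e, hext']
        exact Subgroup.mem_sup_left (hψX _)
      · rintro _ ⟨d, hd, rfl⟩
        have hdQ : (d : Ω) ∈ Q₀ := Subgroup.mem_subgroupOf.mp hd
        have e : d = Subgroup.inclusion le_sup_right (⟨(d : Ω), hdQ⟩ : Q₀) := Subtype.ext rfl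
        rw [e]
        exact Subgroup.mem_sup_right (hψ'Q _)
    intro d hd
    exact h1 ⟨d, Subgroup.mem_subgroupOf.mpr hd, rfl⟩
  have h1 := mem_normalizerHom_of_le F hX'D hDN hψ' hvals hmapX'
  have hAD : A ≤ (A ⊔ X) ⊔ Q₀ := le_sup_left.trans le_sup_left
  have h2 := normalizerHom_restrict F hX'S hAD h1
  convert h2 using 1
  ext a
  have e : Subgroup.inclusion hAD a =
      Subgroup.inclusion le_sup_left (Subgroup.inclusion (le_sup_left : A ≤ A ⊔ X) a) :=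
    Subtype.ext rfl
  show φ a = ψ' (Subgroup.inclusion hAD a)
  rw [e, hext', hext]

end Cfsg.Agent.Lib.Helper7.TF
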