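import Cfsg.Agent.Lib.Helper7.TFa

set_option autoImplicit false
set_option linter.unusedSectionVars false
set_option linter.style.haveILetI false

namespace Cfsg.Agent.Lib.Helper7.TF

open Cfsg Cfsg.FusionSystem Cfsg.Agent.Lib.Helper7 Cfsg.Agent.Lib.Helper7.QdF
  Cfsg.Agent.Lib.Helper7.WCtl Cfsg.Agent.Lib.Helper7.GTF Cfsg.Agent.Lib.Helper7.ZJK
  Cfsg.Agent.Lib.Helper7.ThA Cfsg.Agent.Lib.Helper4.ZJ

universe u

variable {Ω : Type*} [Group Ω] {S : Subgroup Ω}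

theorem exists_mem_famA (R : Subgroup Ω) [Finite R] : ∃ A, A ∈ famA R := by
  haveI : Nonempty {B : Subgroup ↥R // IsMulCommutative B} := ⟨⟨⊥, inferInstance⟩⟩
  obtain ⟨⟨A, hA⟩, hmax⟩ :=
    Finite.exists_max (fun B : {B : Subgroup ↥R // IsMulCommutative B} => Nat.card B.1)
  exact ⟨A.map R.subtype, (mem_maxAb_iff R A).mp ⟨hA, fun B hB => hmax ⟨B, hB⟩⟩⟩

theorem isMulCommutative_sup_zpowers {A : Subgroup Ω} (hA : IsMulCommutative A) {c : Ω}
    (hc : ∀ a ∈ A, c * a = a * c) : IsMulCommutative ↥(A ⊔ Subgroup.zpowers c) := by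
  have h1 : A ⊔ Subgroup.zpowers c ≤ Subgroup.centralizer ((A ⊔ Subgroup.zpowers c : Subgroup Ω) : Set Ω) := by
    rw [Cfsg.Agent.Lib.Lead.Replacement.centralizer_sup]
    apply sup_le
    · apply le_inf
      · intro a ha
        rw [Subgroup.mem_centralizer_iff]
        intro b hb
        have := hA.is_comm.comm ⟨b, hb⟩ ⟨a, ha⟩
        exact congrArg Subtype.val this
      · intro a ha
        rw [Subgroup.mem_centralizer_iff]
        intro b hb
        obtain ⟨k, rfl⟩ := Subgroup.mem_zpowers_iff.mp hb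
        have h2 : Commute c a := hc a ha
        exact (h2.zpow_left k).eq
    · rw [Subgroup.zpowers_le]
      apply Subgroup.mem_inf.mpr
      constructor
      · rw [Subgroup.mem_centralizer_iff]
        intro b hb
        exact (hc b hb).symm
      · rw [Subgroup.mem_centralizer_iff]
        intro b hb
        obtain ⟨k, rfl⟩ := Subgroup.mem_zpowers_iff.mp hb
        exact ((Commute.refl c).zpow_left k).eq
  refine ⟨⟨fun x y => Subtype.ext ?_⟩⟩
  have := Subgroup.mem_centralizer_iff.mp (h1 y.2) x x.2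
  exact this

/-- if `J(N_S(Y₀)) ≤ Q₀ ≤ Y₀` with `Q₀` normal in `S`, then `C_S(Q₀) ≤ Q₀` -/
theorem centralizerIn_le_of_JA_le [Finite S] {p : ℕ} [Fact p.Prime] (hS : IsPGroup p S)
    {Q₀ Y₀ : Subgroup Ω} (hQ₀Y : Q₀ ≤ Y₀) (hY₀S : Y₀ ≤ S)
    (hSQ : S ≤ Subgroup.normalizer (Q₀ : Set Ω))
    (hJ : Cfsg.thompsonSubgroupAOf (normalizerIn S Y₀) ≤ Q₀) : centralizerIn S Q₀ ≤ Q₀ := by
  have hRS : normalizerIn S Y₀ ≤ S := inf_le_left
  haveI : Finite ↥(normalizerIn S Y₀) := finite_of_le hRS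
  obtain ⟨A, hA⟩ := exists_mem_famA (normalizerIn S Y₀)
  obtain ⟨hAR, hAab, hAmax⟩ := mem_fam.mp hA
  have hAQ : A ≤ Q₀ := (le_JA hA).trans hJ
  have hCR : ∀ c ∈ centralizerIn S Q₀, c ∈ normalizerIn S Y₀ → c ∈ Q₀ := by
    intro c hc hcR
    have hcomm : ∀ a ∈ A, c * a = a * c := fun a ha =>
      (Subgroup.mem_centralizer_iff.mp hc.2 a (hAQ ha)).symm
    have hBab := isMulCommutative_sup_zpowers hAab hcomm
    have hBR : A ⊔ Subgroup.zpowers c ≤ normalizerIn S Y₀ :=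
      sup_le hAR (Subgroup.zpowers_le.mpr hcR)
    haveI : Finite ↥(A ⊔ Subgroup.zpowers c) := finite_of_le (hBR.trans hRS)
    have hcard := hAmax _ hBR hBab
    have heq : A = A ⊔ Subgroup.zpowers c := Subgroup.eq_of_le_of_card_ge le_sup_left hcard
    have : c ∈ A := by
      rw [heq]
      exact Subgroup.mem_sup_right (Subgroup.mem_zpowers c)
    exact hAQ this
  -- `C_S(Q₀)` is normalized by `S`
  have hSC : S ≤ Subgroup.normalizer ((centralizerIn S Q₀ : Subgroup Ω) : Set Ω) := by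
    intro g hg
    have key : ∀ g ∈ S, ∀ x ∈ centralizerIn S Q₀, g * x * g⁻¹ ∈ centralizerIn S Q₀ := by
      intro g hg x hx
      refine ⟨S.mul_mem (S.mul_mem hg hx.1) (S.inv_mem hg), ?_⟩
      show g * x * g⁻¹ ∈ Subgroup.centralizer (Q₀ : Set Ω)
      rw [Subgroup.mem_centralizer_iff]
      intro q hq
      have hq' : g⁻¹ * q * g⁻¹⁻¹ ∈ Q₀ :=
        (Subgroup.mem_normalizer_iff.mp (Subgroup.inv_mem _ (hSQ hg)) q).mp hq
      have h1 := Subgroup.mem_centralizer_iff.mp hx.2 _ hq'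
      have e1 : q * (g * x * g⁻¹) = g * ((g⁻¹ * q * g⁻¹⁻¹) * x) * g⁻¹ := by group
      have e2 : g * x * g⁻¹ * q = g * (x * (g⁻¹ * q * g⁻¹⁻¹)) * g⁻¹ := by group
      rw [e1, e2, h1]
    rw [Subgroup.mem_normalizer_iff]
    intro x
    constructor
    · exact key g hg x
    · intro hx
      have := key g⁻¹ (S.inv_mem hg) _ hx
      have e : g⁻¹ * (g * x * g⁻¹) * g⁻¹⁻¹ = x := by group
      rwa [e] at this
  have hCY : centralizerIn S Q₀ ≤ Y₀ := by
    by_contra hcon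
    have hY₁S : Y₀ ⊔ centralizerIn S Q₀ ≤ S := sup_le hY₀S inf_le_left
    haveI : Finite ↥(Y₀ ⊔ centralizerIn S Q₀) := finite_of_le hY₁S
    have hne : Y₀ ≠ Y₀ ⊔ centralizerIn S Q₀ := by
      intro h
      apply hcon
      rw [h]
      exact le_sup_right
    obtain ⟨x, hx, hxY⟩ := lt_normalizerIn_of_ne (hS.to_le hY₁S) le_sup_left hne
    have hYN : Y₀ ≤ Subgroup.normalizer ((centralizerIn S Q₀ : Subgroup Ω) : Set Ω) :=
      hY₀S.trans hSC
    have hx1 : x ∈ ((Y₀ ⊔ centralizerIn S Q₀ : Subgroup Ω) : Set Ω) := hx.1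
    rw [Subgroup.coe_mul_of_left_le_normalizer_right Y₀ _ hYN] at hx1
    obtain ⟨y, hy, c, hc, rfl⟩ := hx1
    apply hxY
    have hcN : c ∈ Subgroup.normalizer (Y₀ : Set Ω) := by
      have h1 : y⁻¹ * (y * c) ∈ Subgroup.normalizer (Y₀ : Set Ω) :=
        Subgroup.mul_mem _ (Subgroup.inv_mem _ (Subgroup.le_normalizer hy)) hx.2
      have e : y⁻¹ * (y * c) = c := by group
      rwa [e] at h1
    have hcQ : c ∈ Q₀ := hCR c hc ⟨hc.1, hcN⟩
    exact Y₀.mul_mem hy (hQ₀Y hcQ)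
  intro c hc
  exact hCR c hc (le_normalizerIn hY₀S (hCY hc))

end Cfsg.Agent.Lib.Helper7.TF
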