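import Cfsg.Agent.Lib.Helper7.TFa2
import Cfsg.Agent.Lib.Helper7.TNPd

/-!
# Control of fusion by `C_F(℧¹(Z(S)))` and `N_F(J(S))`, part B: the climbing argument
-/

set_option autoImplicit false
set_option linter.unusedSectionVars false
set_option linter.style.haveILetI false

namespace Cfsg.Agent.Lib.Helper7.TF

open Cfsg Cfsg.FusionSystem Cfsg.Agent.Lib.Helper7 Cfsg.Agent.Lib.Helper7.QdF
  Cfsg.Agent.Lib.Helper7.WCtl Cfsg.Agent.Lib.Helper7.GTF Cfsg.Agent.Lib.Helper7.ZJK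
  Cfsg.Agent.Lib.Helper7.ThA Cfsg.Agent.Lib.Helper4.ZJ Cfsg.Agent.Lib.Helper7.TNP

universe u

variable {Ω : Type u} [Group Ω] {S : Subgroup Ω}

/-- `N(T) ≤ N(J(T))`, without finiteness of the ambient group -/
theorem normalizer_le_normalizer_JA' {p : ℕ} (T : Subgroup Ω) [Finite T] (hT : IsPGroup p T) :
    Subgroup.normalizer (T : Set Ω) ≤
      Subgroup.normalizer ((Cfsg.thompsonSubgroupAOf T : Subgroup Ω) : Set Ω) :=
  normalizer_le_normalizer_WT JW (JW_iso p) T hT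

/-- automorphisms of `T` preserve `J(T)` -/
theorem mulAut_maps_JA {p : ℕ} (T : Subgroup Ω) [Finite T] (hT : IsPGroup p T) (α : MulAut T)
    (x : T) (hx : (x : Ω) ∈ Cfsg.thompsonSubgroupAOf T) :
    ((α x : T) : Ω) ∈ Cfsg.thompsonSubgroupAOf T := by
  obtain ⟨hx1, hx2⟩ := (mem_WT_iff JW T x).mp hx
  refine (mem_WT_iff JW T _).mpr ⟨(α x).2, ?_⟩
  have h1 := JW_iso p ↥T ↥T hT α
  rw [← h1]
  exact ⟨x, hx2, rfl⟩

/-- a subgroup conjugate in the system to a normal subgroup equals it -/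
theorem eq_of_isConj_of_isNormal [Finite S] (F : FusionSystem S) {Q Q' : Subgroup Ω}
    (hQ' : F.IsNormal Q') (hc : F.IsConj Q Q') : Q = Q' := by
  have hsc := stronglyClosed_of_isNormal F hQ'
  obtain ⟨ψ, hψ, hr⟩ := isConj_symm F hc
  have hle : Q ≤ Q' := by
    rw [← hr]
    rintro _ ⟨x, rfl⟩
    exact hsc.2 Q' le_rfl ψ hψ x
  haveI : Finite ↥Q' := finite_of_le hQ'.1
  exact Subgroup.eq_of_le_of_card_ge hle (card_eq_of_isConj F hc).ge

/-- the climbing step -/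
theorem climb [Finite S] {p : ℕ} [Fact p.Prime] (hS : IsPGroup p S) (F : FusionSystem S)
    (hF : F.IsSaturated p) (E : FusionSystem S) {Q₀ : Subgroup Ω} (hQ₀ : F.IsNormal Q₀)
    (hQ₀max : ∀ R : Subgroup Ω, F.IsNormal R → R ≤ Q₀)
    (hnc : ¬ centralizerIn S Q₀ ≤ Q₀)
    (hNE : ∀ (A : Subgroup Ω) (φ : A →* Ω),
      φ ∈ F.normalizerHom (Cfsg.thompsonSubgroupAOf S) A → φ ∈ E.Hom A)
    (hloc : ∀ Q : Subgroup Ω, F.IsFullyNormalized Q → ¬ F.IsNormal Q →
      (∀ (A : Subgroup Ω) (φ : A →* Ω),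
        φ ∈ F.normalizerHom (Cfsg.thompsonSubgroupAOf (normalizerIn S Q)) A → φ ∈ E.Hom A) →
      ∀ (A : Subgroup Ω) (φ : A →* Ω), φ ∈ F.normalizerHom Q A → φ ∈ E.Hom A)
    (c : ℕ) (ihA : ∀ (B : Subgroup Ω) (φ : B →* Ω), φ ∈ F.Hom B → c < Nat.card B → φ ∈ E.Hom B) :
    ∀ (k : ℕ) (Q : Subgroup Ω), Q ≤ S → Q₀ ≤ Q → ¬ F.IsNormal Q →
      c < Nat.card (normalizerIn S Q) → Nat.card S - Nat.card (normalizerIn S Q) = k →
      ∀ (A : Subgroup Ω) (φ : A →* Ω), φ ∈ F.normalizerHom Q A → φ ∈ E.Hom A := by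
  have hSQ₀ : S ≤ Subgroup.normalizer (Q₀ : Set Ω) := le_normalizer_of_isNormal F hQ₀
  have hQ₀sc := stronglyClosed_of_isNormal F hQ₀
  intro k
  induction k using Nat.strong_induction_on with
  | _ k ih =>
  intro Q hQS hQ₀Q hQn hc hk A φ hφ
  obtain ⟨Q', hconj, hQ'fn⟩ := exists_isFullyNormalized_conj F hQS
  have hQ'S : Q' ≤ S := hQ'fn.1
  obtain ⟨R₀, hc₀, hFA₀, hRec₀⟩ := hF Q' hQ'S
  obtain ⟨hFA, hRec⟩ := isFullyAutomized_isReceptive_of_isFullyNormalized p hS F hQ'fn hFA₀ hRec₀ hc₀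
  obtain ⟨χ, hχ, hχN, hχQ⟩ := hom_normalizer_of_fullyAutomized_receptive p hS F Q' Q hFA hRec hconj
  have hχE : χ ∈ E.Hom (normalizerIn S Q) := ihA _ χ hχ hc
  have hcard : Nat.card (normalizerIn S Q) ≤ Nat.card (normalizerIn S Q') :=
    hQ'fn.2 Q (isConj_symm F hconj)
  have hQ'n : ¬ F.IsNormal Q' := by
    intro h
    apply hQn
    rw [eq_of_isConj_of_isNormal F h hconj]
    exact h
  have hQ₀Q' : Q₀ ≤ Q' := by
    have hQN : Q ≤ normalizerIn S Q := le_normalizerIn hQS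
    have h1 := stronglyClosed_le_range F Q₀ hQ₀sc (fs_restrict_mem F hQN hχ) hQ₀Q
    intro x hx
    obtain ⟨q, rfl⟩ := h1 hx
    rw [← hχQ]
    exact ⟨Subgroup.inclusion hQN q, Subgroup.mem_subgroupOf.mpr q.2, rfl⟩
  obtain ⟨φ', hφ', hφ'eq⟩ := normalizerHom_transport F hQS χ hχ hχN hχQ hφ
  have hT'S : normalizerIn S Q' ≤ S := inf_le_left
  haveI : Finite ↥(normalizerIn S Q') := finite_of_le hT'S
  have hT'p : IsPGroup p ↥(normalizerIn S Q') := hS.to_le hT'S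
  have hJ' : ∀ (B : Subgroup Ω) (ψ : B →* Ω),
      ψ ∈ F.normalizerHom (Cfsg.thompsonSubgroupAOf (normalizerIn S Q')) B → ψ ∈ E.Hom B := by
    intro B ψ hψ
    by_cases hT' : normalizerIn S Q' = S
    · rw [hT'] at hψ
      exact hNE B ψ hψ
    · have hJS : Cfsg.thompsonSubgroupAOf (normalizerIn S Q') ≤ S := (JA_le _).trans hT'S
      have hψ'' := normalizerHom_sup_normal F hQ₀ hJS hψ
      have hQ''S : Cfsg.thompsonSubgroupAOf (normalizerIn S Q') ⊔ Q₀ ≤ S := sup_le hJS hQ₀.1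
      have hQ''n : ¬ F.IsNormal (Cfsg.thompsonSubgroupAOf (normalizerIn S Q') ⊔ Q₀) := by
        intro h
        apply hnc
        have h1 : Cfsg.thompsonSubgroupAOf (normalizerIn S Q') ≤ Q₀ :=
          le_sup_left.trans (hQ₀max _ h)
        exact centralizerIn_le_of_JA_le hS hQ₀Q' hQ'S hSQ₀ h1
      have h1 : Nat.card (normalizerIn S Q') < Nat.card (normalizerIn S (normalizerIn S Q')) :=
        card_lt_card_normalizerIn hS hT'S hT'
      have h2 : normalizerIn S (normalizerIn S Q') ≤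
          normalizerIn S (Cfsg.thompsonSubgroupAOf (normalizerIn S Q') ⊔ Q₀) := by
        intro g hg
        exact ⟨hg.1, mem_normalizer_sup' (normalizer_le_normalizer_JA' _ hT'p hg.2) (hSQ₀ hg.1)⟩
      haveI : Finite ↥(normalizerIn S (Cfsg.thompsonSubgroupAOf (normalizerIn S Q') ⊔ Q₀)) :=
        finite_of_le inf_le_left
      have h3 := Subgroup.card_le_of_le h2
      have h4 : Nat.card (normalizerIn S (Cfsg.thompsonSubgroupAOf (normalizerIn S Q') ⊔ Q₀)) ≤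
          Nat.card S := Subgroup.card_le_of_le inf_le_left
      exact ih (Nat.card S -
          Nat.card (normalizerIn S (Cfsg.thompsonSubgroupAOf (normalizerIn S Q') ⊔ Q₀)))
        (by omega) _ hQ''S le_sup_right hQ''n (by omega) rfl B ψ hψ''
  have hφ'E := hloc Q' hQ'fn hQ'n hJ' _ φ' hφ'
  -- cancel `χ`
  have hA : A ≤ normalizerIn S Q := hφ.2.1
  have hφT : ∀ a, φ a ∈ normalizerIn S Q := hφ.2.2.1
  have hχA : ∀ a : A, (χ.comp (Subgroup.inclusion hA)) a ∈ (A.subgroupOf (normalizerIn S Q)).map χ :=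
    fun a => ⟨Subgroup.inclusion hA a, Subgroup.mem_subgroupOf.mpr a.2, rfl⟩
  have hcomp := E.comp_mem (fs_restrict_mem E hA hχE) hφ'E hχA
  have e : φ'.comp ((χ.comp (Subgroup.inclusion hA)).codRestrict _ hχA) =
      χ.comp (φ.codRestrict (normalizerIn S Q) hφT) := by
    ext a
    exact hφ'eq a (hχA a)
  rw [e] at hcomp
  exact fs_cancel_left E hχE hφT hcomp

end Cfsg.Agent.Lib.Helper7.TF
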