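import Cfsg.Agent.Lib.Helper7.TFb
import Cfsg.Agent.Lib.Helper7.FusionEssential
import Cfsg.Agent.Lib.Helper7.FusionNormal

/-!
# Control of fusion by `C_F(℧¹(Z(S)))` and `N_F(J(S))`, part C: the non-constrained case
-/

set_option autoImplicit false
set_option linter.unusedSectionVars false
set_option linter.style.haveILetI false

namespace Cfsg.Agent.Lib.Helper7.TF

open Cfsg Cfsg.FusionSystem Cfsg.Agent.Lib.Helper7 Cfsg.Agent.Lib.Helper7.QdF
  Cfsg.Agent.Lib.Helper7.WCtl Cfsg.Agent.Lib.Helper7.GTF Cfsg.Agent.Lib.Helper7.ZJK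
  Cfsg.Agent.Lib.Helper7.ThA Cfsg.Agent.Lib.Helper4.ZJ Cfsg.Agent.Lib.Helper7.TNP

universe u

variable {Ω : Type u} [Group Ω] {S : Subgroup Ω}

theorem le_normalizer_JA_self {p : ℕ} [Finite S] (hS : IsPGroup p S) :
    S ≤ Subgroup.normalizer ((Cfsg.thompsonSubgroupAOf S : Subgroup Ω) : Set Ω) :=
  Subgroup.le_normalizer.trans (normalizer_le_normalizer_JA' S hS)

/-- automorphisms of `S` in the system are maps of `N_F(J(S))` -/
theorem aut_top_mem_normalizerHom {p : ℕ} [Finite S] (hS : IsPGroup p S) (F : FusionSystem S)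
    (α : MulAut S) (hα : α ∈ F.autGroup S) :
    S.subtype.comp α.toMonoidHom ∈ F.normalizerHom (Cfsg.thompsonSubgroupAOf S) S :=
  aut_mem_normalizerHom F (JA_le S) (le_inf le_rfl (le_normalizer_JA_self hS)) α hα
    (fun x hx => mulAut_maps_JA S hS α x hx)

/-- the case where `O_p(F)` is not centric -/
theorem ctl_of_not_centric [Finite S] {p : ℕ} [Fact p.Prime] (hS : IsPGroup p S)
    (F : FusionSystem S) (hF : F.IsSaturated p) (E : FusionSystem S)
    (hCE : ∀ (A : Subgroup Ω) (φ : A →* Ω), φ ∈ F.centralizerHom (VZ p S) A → φ ∈ E.Hom A)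
    (hNE : ∀ (A : Subgroup Ω) (φ : A →* Ω),
      φ ∈ F.normalizerHom (Cfsg.thompsonSubgroupAOf S) A → φ ∈ E.Hom A)
    (ih1 : ∀ (T : Subgroup Ω) [Finite T] (N : FusionSystem T),
      Nat.card T < Nat.card S → IsPGroup p T → Ctl p N)
    (ih2 : ∀ (T : Subgroup Ω) [Finite T] (N : FusionSystem T),
      Nat.card T = Nat.card S → mu N < mu F → IsPGroup p T → Ctl p N)
    (hnc : ¬ centralizerIn S F.core ≤ F.core) : F ≤ E := by
  have hQ₀ : F.IsNormal F.core := isNormal_core F
  have hQ₀max : ∀ R : Subgroup Ω, F.IsNormal R → R ≤ F.core := fun R hR => le_sSup hR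
  have hloc : ∀ Q : Subgroup Ω, F.IsFullyNormalized Q → ¬ F.IsNormal Q →
      (∀ (A : Subgroup Ω) (φ : A →* Ω),
        φ ∈ F.normalizerHom (Cfsg.thompsonSubgroupAOf (normalizerIn S Q)) A → φ ∈ E.Hom A) →
      ∀ (A : Subgroup Ω) (φ : A →* Ω), φ ∈ F.normalizerHom Q A → φ ∈ E.Hom A :=
    fun Q hQfn hQn hJ => local_ctl hS F hF E hCE ih1 ih2 hQfn hQn hJ
  apply alperin_goldschmidt_strong p hS F hF E
  intro P hP ih α hα
  by_cases hPS : P = S
  · subst hPS
    rw [mem_autGroup_iff E le_rfl]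
    exact hNE _ _ (aut_top_mem_normalizerHom hS F α hα)
  · have hess := hP.resolve_left hPS
    obtain ⟨hPc, hPfn, -⟩ := id hess
    have hPle : P ≤ S := hPfn.1
    have hQ₀P : F.core ≤ P :=
      le_of_isNormal_of_centric_radical p hS F hQ₀ hPc (isRadical_of_isEssential p hS F P hess)
    have hPn : ¬ F.IsNormal P := by
      intro h
      apply hnc
      have e : P = F.core := le_antisymm (hQ₀max P h) hQ₀P
      rw [← e]
      exact hPc.2 P (isConj_refl F hPle)
    have hlt : Nat.card P < Nat.card (normalizerIn S P) := card_lt_card_normalizerIn hS hPle hPS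
    have hmem : P.subtype.comp α.toMonoidHom ∈ F.normalizerHom P P :=
      aut_mem_normalizerHom F le_rfl (le_normalizerIn hPle) α hα (fun x _ => (α x).2)
    rw [mem_autGroup_iff E hPle]
    exact climb hS F hF E hQ₀ hQ₀max hnc hNE hloc (Nat.card P) ih _ P hPle hQ₀P hPn hlt rfl P _ hmem

end Cfsg.Agent.Lib.Helper7.TF
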