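import Cfsg.Agent.Lib.Helper7.TFc
import Cfsg.Agent.Lib.Helper7.PowZB

/-!
# Control of fusion by `C_F(℧¹(Z(S)))` and `N_F(J(S))`, part D: tools for the constrained case
-/

set_option autoImplicit false
set_option linter.unusedSectionVars false
set_option linter.style.haveILetI false

namespace Cfsg.Agent.Lib.Helper7.TF

open Cfsg Cfsg.FusionSystem Cfsg.Agent.Lib.Helper7 Cfsg.Agent.Lib.Helper7.QdF
  Cfsg.Agent.Lib.Helper7.WCtl Cfsg.Agent.Lib.Helper7.GTF Cfsg.Agent.Lib.Helper7.ZJK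
  Cfsg.Agent.Lib.Helper7.ThA Cfsg.Agent.Lib.Helper4.ZJ Cfsg.Agent.Lib.Helper7.TNP

universe u

variable {Ω : Type u} [Group Ω] {S : Subgroup Ω}

/-- an automorphism of an overgroup `X ≤ C_S(V)` of `V` fixing `V` elementwise is a map of `C_F(V)` -/
theorem aut_mem_centralizerHom [Finite S] (F : FusionSystem S) {V X : Subgroup Ω} (hVX : V ≤ X)
    (hXC : X ≤ centralizerIn S V) (β : MulAut X) (hβ : β ∈ F.autGroup X)
    (hfix : ∀ x : X, (x : Ω) ∈ V → β x = x) :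
    X.subtype.comp β.toMonoidHom ∈ F.centralizerHom V X := by
  have hXS : X ≤ S := hXC.trans inf_le_left
  have hφ : X.subtype.comp β.toMonoidHom ∈ F.Hom X := (mem_autGroup_iff F hXS β).mp hβ
  refine ⟨hφ, hXC, fun x => hXC (β x).2, ?_⟩
  have hsup : X ⊔ V = X := sup_eq_left.mpr hVX
  refine ⟨_, fs_mem_of_eq F hsup hφ, fun x => rfl, ?_⟩
  intro v
  have h1 := hfix ⟨(v : Ω), hVX v.2⟩ v.2
  show ((β (Subgroup.inclusion (le_of_eq hsup) (Subgroup.inclusion le_sup_right v)) : X) : Ω) = v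
  have e : Subgroup.inclusion (le_of_eq hsup) (Subgroup.inclusion (le_sup_right : V ≤ X ⊔ V) v) =
      (⟨(v : Ω), hVX v.2⟩ : X) := Subtype.ext rfl
  rw [e, h1]

/-- a subgroup `C` normalized by the `p`-group `S` whose elements normalizing `Y` lie in `Y` is contained in `Y` -/
theorem le_of_normalizer_mem [Finite S] {p : ℕ} [Fact p.Prime] (hS : IsPGroup p S) {Y C : Subgroup Ω}
    (hYS : Y ≤ S) (hCS : C ≤ S) (hSC : S ≤ Subgroup.normalizer (C : Set Ω))
    (h : ∀ c ∈ C, c ∈ Subgroup.normalizer (Y : Set Ω) → c ∈ Y) : C ≤ Y := by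
  by_contra hcon
  have hY₁S : Y ⊔ C ≤ S := sup_le hYS hCS
  haveI : Finite ↥(Y ⊔ C) := finite_of_le hY₁S
  have hne : Y ≠ Y ⊔ C := by
    intro h'
    apply hcon
    rw [h']
    exact le_sup_right
  obtain ⟨x, hx, hxY⟩ := lt_normalizerIn_of_ne (hS.to_le hY₁S) le_sup_left hne
  have hYN : Y ≤ Subgroup.normalizer (C : Set Ω) := hYS.trans hSC
  have hx1 : x ∈ ((Y ⊔ C : Subgroup Ω) : Set Ω) := hx.1
  rw [Subgroup.coe_mul_of_left_le_normalizer_right Y _ hYN] at hx1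
  obtain ⟨y, hy, c, hc, rfl⟩ := hx1
  apply hxY
  have hcN : c ∈ Subgroup.normalizer (Y : Set Ω) := by
    have h1 : y⁻¹ * (y * c) ∈ Subgroup.normalizer (Y : Set Ω) :=
      Subgroup.mul_mem _ (Subgroup.inv_mem _ (Subgroup.le_normalizer hy)) hx.2
    have e : y⁻¹ * (y * c) = c := by group
    rwa [e] at h1
  exact Y.mul_mem hy (h c hc hcN)

/-- the automorphisms of `P` fixing `W ∩ P` elementwise -/
def fixW (P W : Subgroup Ω) : Subgroup (MulAut P) where
  carrier := {α | ∀ w : P, (w : Ω) ∈ W → α w = w}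
  one_mem' := fun w _ => rfl
  mul_mem' := by
    intro a b ha hb w hw
    show a (b w) = w
    rw [hb w hw, ha w hw]
  inv_mem' := by
    intro a ha w hw
    show a⁻¹ w = w
    have := ha w hw
    conv_lhs => rw [← this]
    simp

theorem mem_fixW (P W : Subgroup Ω) (α : MulAut P) :
    α ∈ fixW P W ↔ ∀ w : P, (w : Ω) ∈ W → α w = w := Iff.rfl

/-- an automorphism preserving `H` preserves `℧ⁿ(H)` -/
theorem maps_powerClosure (p n : ℕ) {P H : Subgroup Ω} (hHP : H ≤ P) (α : MulAut P)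
    (hα : ∀ x : P, (x : Ω) ∈ H → ((α x : P) : Ω) ∈ H) :
    ∀ x : P, (x : Ω) ∈ Cfsg.powerClosure p n H → ((α x : P) : Ω) ∈ Cfsg.powerClosure p n H := by
  have hle : Cfsg.powerClosure p n H ≤
      ((Cfsg.powerClosure p n H).comap (P.subtype.comp α.toMonoidHom)).map P.subtype := by
    unfold Cfsg.powerClosure
    rw [Subgroup.closure_le]
    rintro y ⟨x, hx, rfl⟩
    refine ⟨⟨x, hHP hx⟩ ^ (p ^ n), ?_, rfl⟩
    rw [SetLike.mem_coe, Subgroup.mem_comap]
    apply Subgroup.subset_closure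
    refine ⟨((α ⟨x, hHP hx⟩ : P) : Ω), hα ⟨x, hHP hx⟩ hx, ?_⟩
    show ((α (⟨x, hHP hx⟩ ^ (p ^ n)) : P) : Ω) = _
    rw [map_pow]
    rfl
  intro x hx
  obtain ⟨x', hx', e⟩ := hle hx
  have : x' = x := Subtype.ext e
  rw [← this]
  exact hx'

end Cfsg.Agent.Lib.Helper7.TF
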