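import Cfsg.Agent.Lib.Helper7.TFd

/-!
# Control of fusion by `C_F(℧¹(Z(S)))` and `N_F(J(S))`, part E: the constrained case, essential subgroups
-/

set_option autoImplicit false
set_option linter.unusedSectionVars false
set_option linter.style.haveILetI false

namespace Cfsg.Agent.Lib.Helper7.TF

open Cfsg Cfsg.FusionSystem Cfsg.Agent.Lib.Helper7 Cfsg.Agent.Lib.Helper7.QdF
  Cfsg.Agent.Lib.Helper7.WCtl Cfsg.Agent.Lib.Helper7.GTF Cfsg.Agent.Lib.Helper7.ZJK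
  Cfsg.Agent.Lib.Helper7.ThA Cfsg.Agent.Lib.Helper4.ZJ Cfsg.Agent.Lib.Helper7.TNP
  Cfsg.Agent.Lib.Helper7.PowZ

universe u

variable {Ω : Type u} [Group Ω] {S : Subgroup Ω}

/-- `Z(Q)` -/
def ZQ (Q : Subgroup Ω) : Subgroup Ω := Q ⊓ Subgroup.centralizer (Q : Set Ω)

/-- `℧¹(Z(Q))` -/
def WQ (p : ℕ) (Q : Subgroup Ω) : Subgroup Ω := Cfsg.powerClosure p 1 (ZQ Q)

theorem WQ_le_ZQ (p : ℕ) (Q : Subgroup Ω) : WQ p Q ≤ ZQ Q := powerClosure_le p 1 _

theorem WQ_le (p : ℕ) (Q : Subgroup Ω) : WQ p Q ≤ Q := (WQ_le_ZQ p Q).trans inf_le_left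

section aut
variable [Finite S] (F : FusionSystem S) {Q₀ P : Subgroup Ω} (hQ₀ : F.IsNormal Q₀) (hQP : Q₀ ≤ P)
  (hPS : P ≤ S)

include hQ₀ hQP hPS in
theorem aut_maps_normal (α : MulAut P) (hα : α ∈ F.autGroup P) :
    ∀ x : P, (x : Ω) ∈ Q₀ → ((α x : P) : Ω) ∈ Q₀ := by
  intro x hx
  have hφ := (mem_autGroup_iff F hPS α).mp hα
  exact (stronglyClosed_of_isNormal F hQ₀).2 Q₀ le_rfl _ (fs_restrict_mem F hQP hφ) ⟨x, hx⟩

include hQ₀ hQP hPS in
theorem aut_maps_ZQ (α : MulAut P) (hα : α ∈ F.autGroup P) :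
    ∀ x : P, (x : Ω) ∈ ZQ Q₀ → ((α x : P) : Ω) ∈ ZQ Q₀ := by
  intro x hx
  refine ⟨aut_maps_normal F hQ₀ hQP hPS α hα x hx.1, ?_⟩
  show ((α x : P) : Ω) ∈ Subgroup.centralizer (Q₀ : Set Ω)
  rw [Subgroup.mem_centralizer_iff]
  intro q hq
  have hq' := aut_maps_normal F hQ₀ hQP hPS α⁻¹ (Subgroup.inv_mem _ hα) ⟨q, hQP hq⟩ hq
  have h1 := Subgroup.mem_centralizer_iff.mp hx.2 _ hq'
  have h2 : (α⁻¹ ⟨q, hQP hq⟩ : P) * x = x * (α⁻¹ ⟨q, hQP hq⟩ : P) := Subtype.ext h1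
  have h3 := congrArg α h2
  rw [map_mul, map_mul, MulAut.apply_inv_self] at h3
  exact congrArg Subtype.val h3

include hQ₀ hQP hPS in
theorem aut_maps_WQ (p : ℕ) (α : MulAut P) (hα : α ∈ F.autGroup P) :
    ∀ x : P, (x : Ω) ∈ WQ p Q₀ → ((α x : P) : Ω) ∈ WQ p Q₀ :=
  maps_powerClosure p 1 (inf_le_left.trans hQP) α (aut_maps_ZQ F hQ₀ hQP hPS α hα)

include hQ₀ hQP hPS in
/-- automorphisms of `P ≥ C_S(W)` in the system preserve `C_S(W)` -/
theorem aut_maps_centralizerIn_WQ (p : ℕ) (α : MulAut P) (hα : α ∈ F.autGroup P) :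
    ∀ x : P, (x : Ω) ∈ centralizerIn S (WQ p Q₀) → ((α x : P) : Ω) ∈ centralizerIn S (WQ p Q₀) := by
  intro x hx
  refine ⟨hPS (α x).2, ?_⟩
  show ((α x : P) : Ω) ∈ Subgroup.centralizer ((WQ p Q₀ : Subgroup Ω) : Set Ω)
  rw [Subgroup.mem_centralizer_iff]
  intro w hw
  have hwP : w ∈ P := hQP (WQ_le p Q₀ hw)
  have hw' := aut_maps_WQ F hQ₀ hQP hPS p α⁻¹ (Subgroup.inv_mem _ hα) ⟨w, hwP⟩ hw
  have h1 := Subgroup.mem_centralizer_iff.mp hx.2 _ hw'
  have h2 : (α⁻¹ ⟨w, hwP⟩ : P) * x = x * (α⁻¹ ⟨w, hwP⟩ : P) := Subtype.ext h1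
  have h3 := congrArg α h2
  rw [map_mul, map_mul, MulAut.apply_inv_self] at h3
  exact congrArg Subtype.val h3

end aut

/-- conjugation by an element normalizing `H` preserves `℧ⁿ(H)` -/
theorem normalizer_le_normalizer_powerClosure (p n : ℕ) (H : Subgroup Ω) :
    Subgroup.normalizer (H : Set Ω) ≤
      Subgroup.normalizer ((Cfsg.powerClosure p n H : Subgroup Ω) : Set Ω) := by
  have key : ∀ g ∈ Subgroup.normalizer (H : Set Ω), ∀ x ∈ Cfsg.powerClosure p n H,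
      g * x * g⁻¹ ∈ Cfsg.powerClosure p n H := by
    intro g hg
    have hle : Cfsg.powerClosure p n H ≤
        (Cfsg.powerClosure p n H).comap (MulAut.conj g).toMonoidHom := by
      unfold Cfsg.powerClosure
      rw [Subgroup.closure_le]
      rintro y ⟨x, hx, rfl⟩
      rw [SetLike.mem_coe, Subgroup.mem_comap]
      apply Subgroup.subset_closure
      refine ⟨g * x * g⁻¹, (Subgroup.mem_normalizer_iff.mp hg x).mp hx, ?_⟩
      show (MulAut.conj g) (x ^ p ^ n) = _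
      rw [map_pow]
      rfl
    intro x hx
    exact hle hx
  intro g hg
  rw [Subgroup.mem_normalizer_iff]
  intro x
  constructor
  · exact key g hg x
  · intro hx
    have := key g⁻¹ (Subgroup.inv_mem _ hg) _ hx
    have e : g⁻¹ * (g * x * g⁻¹) * g⁻¹⁻¹ = x := by group
    rwa [e] at this

theorem normalizer_le_normalizer_centralizer' (H : Subgroup Ω) :
    Subgroup.normalizer (H : Set Ω) ≤
      Subgroup.normalizer ((Subgroup.centralizer (H : Set Ω) : Subgroup Ω) : Set Ω) := by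
  have key : ∀ g ∈ Subgroup.normalizer (H : Set Ω), ∀ x ∈ Subgroup.centralizer (H : Set Ω),
      g * x * g⁻¹ ∈ Subgroup.centralizer (H : Set Ω) := by
    intro g hg x hx
    rw [Subgroup.mem_centralizer_iff]
    intro q hq
    have hq' : g⁻¹ * q * g⁻¹⁻¹ ∈ H :=
      (Subgroup.mem_normalizer_iff.mp (Subgroup.inv_mem _ hg) q).mp hq
    have h1 := Subgroup.mem_centralizer_iff.mp hx _ hq'
    have e1 : q * (g * x * g⁻¹) = g * ((g⁻¹ * q * g⁻¹⁻¹) * x) * g⁻¹ := by group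
    have e2 : g * x * g⁻¹ * q = g * (x * (g⁻¹ * q * g⁻¹⁻¹)) * g⁻¹ := by group
    rw [e1, e2, h1]
  intro g hg
  rw [Subgroup.mem_normalizer_iff]
  intro x
  constructor
  · exact key g hg x
  · intro hx
    have := key g⁻¹ (Subgroup.inv_mem _ hg) _ hx
    have e : g⁻¹ * (g * x * g⁻¹) * g⁻¹⁻¹ = x := by group
    rwa [e] at this

theorem normalizer_le_normalizer_WQ (p : ℕ) (Q : Subgroup Ω) :
    Subgroup.normalizer (Q : Set Ω) ≤ Subgroup.normalizer ((WQ p Q : Subgroup Ω) : Set Ω) := by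
  intro g hg
  apply normalizer_le_normalizer_powerClosure
  exact normalizer_inf_le _ _ ⟨hg, normalizer_le_normalizer_centralizer' Q hg⟩

/-- `C_S(W)` is normalized by `S` when `W` is -/
theorem le_normalizer_centralizerIn {W : Subgroup Ω} (hSW : S ≤ Subgroup.normalizer (W : Set Ω)) :
    S ≤ Subgroup.normalizer ((centralizerIn S W : Subgroup Ω) : Set Ω) := by
  intro g hg
  exact normalizer_inf_le _ _ ⟨Subgroup.le_normalizer hg,
    normalizer_le_normalizer_centralizer' W (hSW hg)⟩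

end Cfsg.Agent.Lib.Helper7.TF
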