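import Cfsg.Agent.Lib.Helper7.TFe
import Cfsg.Agent.Lib.Helper7.StrongInv

/-!
# Control of fusion by `C_F(℧¹(Z(S)))` and `N_F(J(S))`, part F: the constrained case, essential step
-/

set_option autoImplicit false
set_option linter.unusedSectionVars false
set_option linter.style.haveILetI false

namespace Cfsg.Agent.Lib.Helper7.TF

open Cfsg Cfsg.FusionSystem Cfsg.Agent.Lib.Helper7 Cfsg.Agent.Lib.Helper7.QdF
  Cfsg.Agent.Lib.Helper7.WCtl Cfsg.Agent.Lib.Helper7.GTF Cfsg.Agent.Lib.Helper7.ZJK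
  Cfsg.Agent.Lib.Helper7.ThA Cfsg.Agent.Lib.Helper4.ZJ Cfsg.Agent.Lib.Helper7.TNP
  Cfsg.Agent.Lib.Helper7.PowZ

universe u

variable {Ω : Type u} [Group Ω] {S : Subgroup Ω}

/-- `Z(S) ≤ Z(Q)` when `C_S(Q) ≤ Q` -/
theorem center_le_ZQ {Q : Subgroup Ω} (hQS : Q ≤ S) (hc : centralizerIn S Q ≤ Q) :
    S ⊓ Subgroup.centralizer (S : Set Ω) ≤ ZQ Q := by
  intro z hz
  have h1 : z ∈ Subgroup.centralizer (Q : Set Ω) := Subgroup.centralizer_le hQS hz.2
  exact ⟨hc ⟨hz.1, h1⟩, h1⟩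

theorem VZ_le_WQ (p : ℕ) {Q : Subgroup Ω} (hQS : Q ≤ S) (hc : centralizerIn S Q ≤ Q) :
    VZ p S ≤ WQ p Q := powerClosure_mono p 1 (center_le_ZQ hQS hc)

/-- the essential step in the constrained case -/
theorem autGroup_le_constrained [Finite S] {p : ℕ} [Fact p.Prime] (hS : IsPGroup p S)
    (F : FusionSystem S) (hF : F.IsSaturated p) (E : FusionSystem S) {Q₀ : Subgroup Ω}
    (hQ₀ : F.IsNormal Q₀) (hc : centralizerIn S Q₀ ≤ Q₀)
    (hCE : ∀ (A : Subgroup Ω) (φ : A →* Ω), φ ∈ F.centralizerHom (VZ p S) A → φ ∈ E.Hom A)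
    (hM : ∀ (A : Subgroup Ω) (φ : A →* Ω),
      φ ∈ F.normalizerHom (centralizerIn S (WQ p Q₀)) A → φ ∈ E.Hom A)
    {P : Subgroup Ω} (hess : F.IsEssential p P)
    (ih : ∀ (R : Subgroup Ω) (φ : R →* Ω), φ ∈ F.Hom R → Nat.card P < Nat.card R → φ ∈ E.Hom R) :
    F.autGroup P ≤ E.autGroup P := by
  obtain ⟨hPc, hFN, -⟩ := id hess
  have hPS : P ≤ S := hFN.1
  haveI : Finite ↥P := finite_of_le hPS
  obtain ⟨R, hconj, hFA_R, hRec_R⟩ := hF P hPS
  obtain ⟨hFA, hRec⟩ := isFullyAutomized_isReceptive_of_isFullyNormalized p hS F hFN hFA_R hRec_R hconj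
  have hQ₀S : Q₀ ≤ S := hQ₀.1
  have hSQ₀ : S ≤ Subgroup.normalizer (Q₀ : Set Ω) := le_normalizer_of_isNormal F hQ₀
  have hQ₀P : Q₀ ≤ P :=
    le_of_isNormal_of_centric_radical p hS F hQ₀ hPc (isRadical_of_isEssential p hS F P hess)
  have hWP : WQ p Q₀ ≤ P := (WQ_le p Q₀).trans hQ₀P
  have hSW : S ≤ Subgroup.normalizer ((WQ p Q₀ : Subgroup Ω) : Set Ω) :=
    hSQ₀.trans (normalizer_le_normalizer_WQ p Q₀)
  have hSS₁ := le_normalizer_centralizerIn (S := S) hSW
  have hVW : VZ p S ≤ WQ p Q₀ := VZ_le_WQ p hQ₀S hc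
  by_cases hsub : ∀ c ∈ centralizerIn S (WQ p Q₀), c ∈ Subgroup.normalizer (P : Set Ω) → c ∈ P
  · -- `C_S(W) ≤ P`
    have hS₁P : centralizerIn S (WQ p Q₀) ≤ P := le_of_normalizer_mem hS hPS inf_le_left hSS₁ hsub
    have hPN : P ≤ normalizerIn S (centralizerIn S (WQ p Q₀)) := fun x hx => ⟨hPS hx, hSS₁ (hPS hx)⟩
    intro α hα
    rw [mem_autGroup_iff E hPS]
    apply hM
    exact aut_mem_normalizerHom F hS₁P hPN α hα (aut_maps_centralizerIn_WQ F hQ₀ hQ₀P hPS p α hα)
  · push Not at hsub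
    obtain ⟨c, hcS₁, hcN, hcP⟩ := hsub
    -- the larger subgroup
    obtain ⟨D, hD⟩ : ∃ D : Subgroup Ω,
      D = P ⊔ (centralizerIn S (WQ p Q₀) ⊓ Subgroup.normalizer (P : Set Ω)) := ⟨_, rfl⟩
    have hPD : P ≤ D := hD ▸ le_sup_left
    have hDS : D ≤ S := hD ▸ sup_le hPS (inf_le_left.trans inf_le_left)
    haveI : Finite ↥D := finite_of_le hDS
    have hcD : c ∈ D := hD ▸ Subgroup.mem_sup_right ⟨hcS₁, hcN⟩
    have hlt : Nat.card P < Nat.card D := by
      apply card_lt_of_le_of_ne hPD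
      intro h
      apply hcP
      rw [h]
      exact hcD
    have hT := isSylowIn_autInducedBy p F hFA
    have hNn : F.autGroup P ≤
        Subgroup.normalizer ((F.autGroup P ⊓ fixW P (WQ p Q₀) : Subgroup (MulAut P)) : Set (MulAut P)) := by
      have key : ∀ α ∈ F.autGroup P, ∀ β ∈ F.autGroup P ⊓ fixW P (WQ p Q₀),
          α * β * α⁻¹ ∈ F.autGroup P ⊓ fixW P (WQ p Q₀) := by
        intro α hα β hβ
        refine ⟨Subgroup.mul_mem _ (Subgroup.mul_mem _ hα hβ.1) (Subgroup.inv_mem _ hα), ?_⟩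
        intro w hw
        have hw' := aut_maps_WQ F hQ₀ hQ₀P hPS p α⁻¹ (Subgroup.inv_mem _ hα) w hw
        have h1 := hβ.2 _ hw'
        show α (β (α⁻¹ w)) = w
        rw [h1, MulAut.apply_inv_self]
      intro α hα
      rw [Subgroup.mem_normalizer_iff]
      intro β
      constructor
      · exact key α hα β
      · intro hβ
        have := key α⁻¹ (Subgroup.inv_mem _ hα) _ hβ
        have e : α⁻¹ * (α * β * α⁻¹) * α⁻¹⁻¹ = β := by group
        rwa [e] at this
    have hTN : IsSylowIn p (autInducedBy S P ⊓ (F.autGroup P ⊓ fixW P (WQ p Q₀)))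
        (F.autGroup P ⊓ fixW P (WQ p Q₀)) := hT.inf_normal _ inf_le_left hNn
    have frat := frattini_amb hTN inf_le_left hNn
    refine frat.trans (sup_le ?_ ?_)
    · -- the normalizer part: extension to `D`
      intro β hβ
      obtain ⟨hβA, hβN⟩ := Subgroup.mem_inf.mp hβ
      have hφ : P.subtype.comp β.toMonoidHom ∈ F.Hom P := (mem_autGroup_iff F hPS β).mp hβA
      have hr : (P.subtype.comp β.toMonoidHom).range = P := by
        ext y
        constructor
        · rintro ⟨x, rfl⟩; exact (β x).2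
        · intro hy
          exact ⟨β⁻¹ ⟨y, hy⟩, by simp⟩
      obtain ⟨ψ, hψ, hext⟩ := hRec.2 P _ hφ hr
      have hDE : D ≤ extender S P (P.subtype.comp β.toMonoidHom) := by
        rw [hD]
        apply sup_le
        · intro g hg
          apply mem_extender_of_mem (hPS hg) (Subgroup.le_normalizer hg)
          refine ⟨((β ⟨g, hg⟩ : P) : Ω), hPS (β ⟨g, hg⟩).2, fun x hx => ?_⟩
          have e : (⟨g * (x : Ω) * g⁻¹, hx⟩ : P) = ⟨g, hg⟩ * x * ⟨g, hg⟩⁻¹ := Subtype.ext rfl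
          show ((β ⟨g * (x : Ω) * g⁻¹, hx⟩ : P) : Ω) = _
          rw [e, map_mul, map_mul, map_inv]
          rfl
        · rintro g ⟨hgS₁, hgN⟩
          have hgS : g ∈ S := hgS₁.1
          apply mem_extender_of_mem hgS hgN
          have hγT : P.normalizerMonoidHom ⟨g, hgN⟩ ∈ autInducedBy S P :=
            (mem_autInducedBy_iff S P _).mpr ⟨g, hgS, fun x => rfl⟩
          have hγfix : P.normalizerMonoidHom ⟨g, hgN⟩ ∈ fixW P (WQ p Q₀) := by
            intro w hw
            apply Subtype.ext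
            show g * (w : Ω) * g⁻¹ = w
            have := Subgroup.mem_centralizer_iff.mp hgS₁.2 _ hw
            rw [← this]
            group
          have hγ : P.normalizerMonoidHom ⟨g, hgN⟩ ∈
              autInducedBy S P ⊓ (F.autGroup P ⊓ fixW P (WQ p Q₀)) :=
            ⟨hγT, autInducedBy_le_autGroup F hPS hγT, hγfix⟩
          have h1 := (Subgroup.mem_normalizer_iff.mp hβN _).mp hγ
          obtain ⟨h, hhS, hh⟩ := (mem_autInducedBy_iff S P _).mp h1.1
          refine ⟨h, hhS, fun x hx => ?_⟩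
          have e2 := hh (β x)
          show ((β ⟨g * (x : Ω) * g⁻¹, hx⟩ : P) : Ω) = h * ((β x : P) : Ω) * h⁻¹
          rw [← e2]
          simp only [MulAut.mul_apply, MulAut.inv_apply_self]
          rfl
      have hψD := fs_restrict_mem F hDE hψ
      have hψDE := ih _ _ hψD hlt
      rw [mem_autGroup_iff E hPS]
      apply fs_mem_of_agree E hPD hψDE
      intro x
      exact (hext x x.2 (hDE (hPD x.2))).symm
    · -- the part fixing `W`
      intro β hβ
      rw [mem_autGroup_iff E hPS]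
      apply hCE
      have hVP : VZ p S ≤ P := hVW.trans hWP
      have hPC : P ≤ centralizerIn S (VZ p S) := by
        intro x hx
        refine ⟨hPS hx, ?_⟩
        show x ∈ Subgroup.centralizer ((VZ p S : Subgroup Ω) : Set Ω)
        rw [Subgroup.mem_centralizer_iff]
        intro v hv
        have hvZ := VZ_le_center p S hv
        exact (Subgroup.mem_centralizer_iff.mp hvZ.2 x (hPS hx)).symm
      exact aut_mem_centralizerHom F hVP hPC β hβ.1 (fun x hx => hβ.2 x (hVW hx))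

end Cfsg.Agent.Lib.Helper7.TF
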