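import Cfsg.Agent.Lib.Helper7.TFf

/-!
# Control of fusion by `C_F(℧¹(Z(S)))` and `N_F(J(S))`, part G: the constrained case
-/

set_option autoImplicit false
set_option linter.unusedSectionVars false
set_option linter.style.haveILetI false

namespace Cfsg.Agent.Lib.Helper7.TF

open Cfsg Cfsg.FusionSystem Cfsg.Agent.Lib.Helper7 Cfsg.Agent.Lib.Helper7.QdF
  Cfsg.Agent.Lib.Helper7.WCtl Cfsg.Agent.Lib.Helper7.GTF Cfsg.Agent.Lib.Helper7.ZJK
  Cfsg.Agent.Lib.Helper7.ThA Cfsg.Agent.Lib.Helper4.ZJ Cfsg.Agent.Lib.Helper7.TNP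
  Cfsg.Agent.Lib.Helper7.PowZ

universe u

variable {Ω : Type u} [Group Ω] {S : Subgroup Ω}

theorem JA_eq_of_le' {S D : Subgroup Ω} [Finite S] (hJD : Cfsg.thompsonSubgroupAOf S ≤ D)
    (hDS : D ≤ S) : Cfsg.thompsonSubgroupAOf D = Cfsg.thompsonSubgroupAOf S := by
  obtain ⟨A₀, hA₀⟩ := exists_mem_famA S
  have famA_le : ∀ A, A ∈ famA S → A ≤ D → A ∈ famA D := by
    intro A hA hAD
    obtain ⟨-, h1, h2⟩ := mem_fam.mp hA
    exact mem_fam.mpr ⟨hAD, h1, fun B hB hBab => h2 B (hB.trans hDS) hBab⟩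
  have hA₀D : A₀ ∈ famA D := famA_le A₀ hA₀ ((le_JA hA₀).trans hJD)
  apply le_antisymm
  · apply JA_le_of
    intro A hA
    obtain ⟨hAD, hAab, hAmax⟩ := mem_fam.mp hA
    apply le_JA
    refine mem_fam.mpr ⟨hAD.trans hDS, hAab, ?_⟩
    intro B hB hBab
    have h1 := (mem_fam.mp hA₀).2.2 B hB hBab
    have h2 := hAmax A₀ (mem_fam.mp hA₀D).1 (mem_fam.mp hA₀).2.1
    exact h1.trans h2
  · apply JA_le_of
    intro A hA
    exact le_JA (famA_le A hA ((le_JA hA).trans hJD))

/-- the shape of the replacement lemma that is used -/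
def ReplLemma (p : ℕ) (S : Subgroup Ω) : Prop :=
  ∀ B : Subgroup Ω, B ≤ S → S ≤ Subgroup.normalizer (B : Set Ω) →
    (∀ a ∈ B, ∀ b ∈ B, a * b = b * a) →
    (∀ x ∈ S, (∀ b ∈ B, x * b ^ p = b ^ p * x) → ∀ b ∈ B, x * b = b * x) →
    Cfsg.thompsonSubgroupAOf S ≤ Subgroup.centralizer (B : Set Ω)

/-- the constrained case -/
theorem ctl_of_centric [Finite S] {p : ℕ} [Fact p.Prime] (hS : IsPGroup p S)
    (F : FusionSystem S) (hF : F.IsSaturated p) (E : FusionSystem S)
    (hCE : ∀ (A : Subgroup Ω) (φ : A →* Ω), φ ∈ F.centralizerHom (VZ p S) A → φ ∈ E.Hom A)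
    (hNE : ∀ (A : Subgroup Ω) (φ : A →* Ω),
      φ ∈ F.normalizerHom (Cfsg.thompsonSubgroupAOf S) A → φ ∈ E.Hom A)
    (ih1 : ∀ (T : Subgroup Ω) [Finite T] (N : FusionSystem T),
      Nat.card T < Nat.card S → IsPGroup p T → Ctl p N)
    (ih2 : ∀ (T : Subgroup Ω) [Finite T] (N : FusionSystem T),
      Nat.card T = Nat.card S → mu N < mu F → IsPGroup p T → Ctl p N)
    (hc : centralizerIn S F.core ≤ F.core) (hR : ReplLemma p S) : F ≤ E := by
  have hQ₀ : F.IsNormal F.core := isNormal_core F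
  have hQ₀S : F.core ≤ S := hQ₀.1
  have hSQ₀ : S ≤ Subgroup.normalizer ((F.core : Subgroup Ω) : Set Ω) := le_normalizer_of_isNormal F hQ₀
  have hSW : S ≤ Subgroup.normalizer ((WQ p F.core : Subgroup Ω) : Set Ω) :=
    hSQ₀.trans (normalizer_le_normalizer_WQ p F.core)
  have hSS₁ := le_normalizer_centralizerIn (S := S) hSW
  have hS₁S : centralizerIn S (WQ p F.core) ≤ S := inf_le_left
  by_cases h1 : centralizerIn S (WQ p F.core) ≤ F.core
  · -- `J(S) ≤ O_p(F)`
    have hZS : ZQ F.core ≤ S := inf_le_left.trans hQ₀S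
    have hSZ : S ≤ Subgroup.normalizer ((ZQ F.core : Subgroup Ω) : Set Ω) := by
      intro g hg
      exact normalizer_inf_le _ _ ⟨hSQ₀ hg, normalizer_le_normalizer_centralizer' _ (hSQ₀ hg)⟩
    have hZab : ∀ a ∈ ZQ F.core, ∀ b ∈ ZQ F.core, a * b = b * a := by
      intro a ha b hb
      exact (Subgroup.mem_centralizer_iff.mp ha.2 b hb.1).symm
    have hJC : Cfsg.thompsonSubgroupAOf S ≤ Subgroup.centralizer ((ZQ F.core : Subgroup Ω) : Set Ω) := by
      apply hR _ hZS hSZ hZab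
      intro x hx hxp b hb
      have hxS₁ : x ∈ centralizerIn S (WQ p F.core) := by
        refine ⟨hx, ?_⟩
        show x ∈ Subgroup.centralizer ((WQ p F.core : Subgroup Ω) : Set Ω)
        unfold WQ Cfsg.powerClosure
        rw [Subgroup.centralizer_closure, Subgroup.mem_centralizer_iff]
        rintro z ⟨b', hb', rfl⟩
        rw [pow_one]
        exact (hxp b' hb').symm
      have hxQ : x ∈ F.core := h1 hxS₁
      exact Subgroup.mem_centralizer_iff.mp hb.2 x hxQ
    have hJQ : Cfsg.thompsonSubgroupAOf S ≤ F.core := by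
      intro x hx
      apply h1
      refine ⟨JA_le S hx, ?_⟩
      exact Subgroup.centralizer_le (WQ_le_ZQ p F.core) (hJC hx)
    have hJeq := JA_eq_of_le' hJQ hQ₀S
    have hJn : F.IsNormal (Cfsg.thompsonSubgroupAOf S) := by
      rw [← hJeq]
      exact isNormal_WT JW (JW_iso p) hS F hF hQ₀
    intro A φ hφ
    exact hNE A φ (mem_normalizerHom_of_isNormal F hJn hφ)
  · -- `C_S(W)` is not normal in `F`
    have hS₁n : ¬ F.IsNormal (centralizerIn S (WQ p F.core)) := fun h => h1 (le_sSup h)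
    have hS₁fn : F.IsFullyNormalized (centralizerIn S (WQ p F.core)) :=
      Cfsg.Agent.Lib.Helper7.MaxClass.isFullyNormalized_of_normalizer F hS₁S hSS₁
    have hTeq : normalizerIn S (centralizerIn S (WQ p F.core)) = S := inf_eq_left.mpr hSS₁
    have hM : ∀ (A : Subgroup Ω) (φ : A →* Ω),
        φ ∈ F.normalizerHom (centralizerIn S (WQ p F.core)) A → φ ∈ E.Hom A := by
      apply local_ctl hS F hF E hCE ih1 ih2 hS₁fn hS₁n
      intro A φ hφ
      rw [hTeq] at hφ
      exact hNE A φ hφ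
    apply alperin_goldschmidt_strong p hS F hF E
    intro P hP ih α hα
    by_cases hPS : P = S
    · subst hPS
      rw [mem_autGroup_iff E le_rfl]
      exact hNE _ _ (aut_top_mem_normalizerHom hS F α hα)
    · have hess := hP.resolve_left hPS
      exact autGroup_le_constrained hS F hF E hQ₀ hc hCE hM hess ih hα

end Cfsg.Agent.Lib.Helper7.TF
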