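import Mathlib

/-! # Thompson's order formula

For a finite group with exactly two classes of involutions, represented by `z` and `t`:
`|G| = a(z) |C(t)| + a(t) |C(z)|`, where `a(x)` is the number of pairs `(u, v)` with `u` conjugate
to `z`, `v` conjugate to `t`, and `x` the involution of the cyclic group generated by `u v`. -/

set_option autoImplicit false

namespace Cfsg.Agent.Lib.Helper7.TOF

variable {G : Type*} [Group G]

/-- the involution of the cyclic group generated by `u v` (when `u v` has even order) -/
noncomputable def cinv (u v : G) : G := (u * v) ^ (orderOf (u * v) / 2)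

theorem orderOf_conj' (g x : G) : orderOf (g * x * g⁻¹) = orderOf x := by
  have h := orderOf_injective (MulAut.conj g).toMonoidHom (MulAut.conj g).injective x
  simpa [MulAut.conj_apply] using h

theorem cinv_conj (g u v : G) : cinv (g * u * g⁻¹) (g * v * g⁻¹) = g * cinv u v * g⁻¹ := by
  unfold cinv
  have h : g * u * g⁻¹ * (g * v * g⁻¹) = g * (u * v) * g⁻¹ := by group
  rw [h, orderOf_conj', conj_pow]

theorem inv_of_sq {u : G} (hu : u * u = 1) : u⁻¹ = u := inv_eq_of_mul_eq_one_left hu

theorem sq_of_orderOf {u : G} (hu : orderOf u = 2) : u * u = 1 := by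
  rw [← pow_two, ← hu, pow_orderOf_eq_one]

theorem ne_one_of_orderOf {u : G} (hu : orderOf u = 2) : u ≠ 1 := by
  intro h
  rw [h, orderOf_one] at hu
  omega

theorem orderOf_of_sq {u : G} (hu : u * u = 1) (h1 : u ≠ 1) : orderOf u = 2 :=
  orderOf_eq_prime (by rw [pow_two]; exact hu) h1

/-- an involution inverts its product with another involution -/
theorem conj_prod {u v : G} (hu : u * u = 1) (hv : v * v = 1) :
    u * (u * v) * u⁻¹ = (u * v)⁻¹ := by
  rw [mul_inv_rev, inv_of_sq hu, inv_of_sq hv, ← mul_assoc, hu, one_mul]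

theorem conj_prod_pow {u v : G} (hu : u * u = 1) (hv : v * v = 1) (j : ℕ) :
    u * (u * v) ^ j * u⁻¹ = ((u * v) ^ j)⁻¹ := by
  rw [← conj_pow, conj_prod hu hv, inv_pow]

theorem inv_swap {u v : G} (hu : u * u = 1) (hv : v * v = 1) (j : ℕ) :
    u * (u * v) ^ j = ((u * v) ^ j)⁻¹ * u := by
  rw [← conj_prod_pow hu hv j, inv_mul_cancel_right]

/-- two involutions whose product has odd order are conjugate -/
theorem isConj_of_odd {u v : G} (hu : u * u = 1) (hv : v * v = 1)
    (h : Odd (orderOf (u * v))) : IsConj u v := by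
  obtain ⟨k, hk⟩ := h
  rw [isConj_iff]
  refine ⟨((u * v) ^ (k + 1))⁻¹, ?_⟩
  rw [inv_inv, mul_assoc, inv_swap hu hv (k + 1), ← mul_assoc, ← mul_inv_rev, ← pow_add]
  have e : k + 1 + (k + 1) = orderOf (u * v) + 1 := by omega
  rw [e, pow_succ, pow_orderOf_eq_one, one_mul, mul_inv_rev, inv_of_sq hu, inv_of_sq hv,
    mul_assoc, hu, mul_one]

section even

variable {u v : G} (hu : u * u = 1) (hv : v * v = 1) (h : Even (orderOf (u * v)))
  (h0 : orderOf (u * v) ≠ 0)

include h in
theorem cinv_sq : cinv u v * cinv u v = 1 := by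
  unfold cinv
  obtain ⟨m, hm⟩ := h
  rw [← pow_add]
  have e : orderOf (u * v) / 2 + orderOf (u * v) / 2 = orderOf (u * v) := by omega
  rw [e, pow_orderOf_eq_one]

include h h0 in
theorem cinv_ne_one : cinv u v ≠ 1 := by
  unfold cinv
  obtain ⟨m, hm⟩ := h
  apply pow_ne_one_of_lt_orderOf
  · omega
  · omega

include h h0 in
theorem orderOf_cinv : orderOf (cinv u v) = 2 :=
  orderOf_of_sq (cinv_sq h) (cinv_ne_one h h0)

include hu hv h in
theorem cinv_comm_left : u * cinv u v = cinv u v * u := by
  have h1 := inv_swap hu hv (orderOf (u * v) / 2)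
  have h2 : (cinv u v)⁻¹ = cinv u v := inv_of_sq (cinv_sq h)
  unfold cinv at h2 ⊢
  rw [h1, h2]

include hu hv h in
theorem cinv_comm_right : v * cinv u v = cinv u v * v := by
  have h1 : v = u * (u * v) := by rw [← mul_assoc, hu, one_mul]
  have h2 : (u * v) * cinv u v = cinv u v * (u * v) := by
    unfold cinv
    rw [← pow_succ', ← pow_succ]
  have h3 := cinv_comm_left hu hv h
  calc v * cinv u v = u * ((u * v) * cinv u v) := by rw [← mul_assoc, ← h1]
    _ = u * (cinv u v * (u * v)) := by rw [h2]
    _ = (u * cinv u v) * (u * v) := by rw [mul_assoc]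
    _ = cinv u v * (u * (u * v)) := by rw [h3, mul_assoc]
    _ = cinv u v * v := by rw [← h1]

end even

section count

variable [Fintype G]

open Classical in
/-- the conjugacy class of `z` -/
noncomputable def classSet (z : G) : Finset G := Finset.univ.filter fun x => IsConj x z

open Classical in
/-- the pairs `(u, v)` of conjugates of `z` and `t` whose product has central involution `x` -/
noncomputable def pairSet (z t x : G) : Finset (G × G) :=
  Finset.univ.filter fun p => IsConj p.1 z ∧ IsConj p.2 t ∧ cinv p.1 p.2 = x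

theorem mem_classSet {z x : G} : x ∈ classSet z ↔ IsConj x z := by
  classical
  simp [classSet]

theorem mem_pairSet {z t x : G} {p : G × G} :
    p ∈ pairSet z t x ↔ IsConj p.1 z ∧ IsConj p.2 t ∧ cinv p.1 p.2 = x := by
  classical
  simp [pairSet]

theorem card_classSet_mul (z : G) :
    (classSet z).card * Nat.card (Subgroup.centralizer ({z} : Set G)) = Fintype.card G := by
  classical
  have h1 := MulAction.index_stabilizer (G := ConjAct G) (x := z)
  rw [ConjAct.stabilizer_eq_centralizer] at h1
  have h2 : (Subgroup.centralizer ({ConjAct.toConjAct z} : Set (ConjAct G))).index =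
      (Subgroup.centralizer ({z} : Set G)).index := rfl
  have h3 : (MulAction.orbit (ConjAct G) z).ncard = (classSet z).card := by
    rw [← Nat.card_coe_set_eq, ← Nat.card_eq_finsetCard]
    apply Nat.card_congr
    refine Equiv.subtypeEquivRight (fun x => ?_)
    rw [mem_classSet, ConjAct.mem_orbit_conjAct]
  rw [h2, h3] at h1
  rw [← h1, Subgroup.index_mul_card, Nat.card_eq_fintype_card]

theorem card_pairSet_conj (z t x g : G) :
    (pairSet z t (g * x * g⁻¹)).card = (pairSet z t x).card := by
  classical
  symm
  apply Finset.card_bij (fun p _ => (g * p.1 * g⁻¹, g * p.2 * g⁻¹))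
  · intro p hp
    rw [mem_pairSet] at hp ⊢
    refine ⟨?_, ?_, ?_⟩
    · exact (isConj_iff.2 ⟨g⁻¹, by group⟩ : IsConj (g * p.1 * g⁻¹) p.1).trans hp.1
    · exact (isConj_iff.2 ⟨g⁻¹, by group⟩ : IsConj (g * p.2 * g⁻¹) p.2).trans hp.2.1
    · rw [cinv_conj, hp.2.2]
  · intro p _ q _ hpq
    simp only [Prod.mk.injEq, mul_left_inj, mul_right_inj] at hpq
    exact Prod.ext hpq.1 hpq.2
  · intro q hq
    rw [mem_pairSet] at hq
    refine ⟨(g⁻¹ * q.1 * g, g⁻¹ * q.2 * g), ?_, ?_⟩
    · rw [mem_pairSet]
      refine ⟨?_, ?_, ?_⟩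
      · exact (isConj_iff.2 ⟨g, by group⟩ : IsConj (g⁻¹ * q.1 * g) q.1).trans hq.1
      · exact (isConj_iff.2 ⟨g, by group⟩ : IsConj (g⁻¹ * q.2 * g) q.2).trans hq.2.1
      · have h := cinv_conj g⁻¹ q.1 q.2
        rw [inv_inv] at h
        show cinv (g⁻¹ * q.1 * g) (g⁻¹ * q.2 * g) = x
        rw [h, hq.2.2]
        group
    · apply Prod.ext <;> simp <;> group

theorem card_pairSet_of_isConj (z t : G) {x y : G} (h : IsConj x y) :
    (pairSet z t x).card = (pairSet z t y).card := by
  obtain ⟨g, hg⟩ := isConj_iff.1 h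
  rw [← hg, card_pairSet_conj]

variable {z t : G} (hz : orderOf z = 2) (ht : orderOf t = 2) (hzt : ¬ IsConj z t)
  (hcl : ∀ x : G, orderOf x = 2 → IsConj x z ∨ IsConj x t)

omit [Fintype G] in
theorem sq_of_isConj {x z : G} (hz : orderOf z = 2) (h : IsConj x z) : x * x = 1 := by
  obtain ⟨g, hg⟩ := isConj_iff.1 h.symm
  rw [← hg]
  have := sq_of_orderOf hz
  calc g * z * g⁻¹ * (g * z * g⁻¹) = g * (z * z) * g⁻¹ := by group
    _ = 1 := by rw [this]; group

omit [Fintype G] in
theorem ne_one_of_isConj {x z : G} (hz : orderOf z = 2) (h : IsConj x z) : x ≠ 1 := by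
  intro h1
  obtain ⟨g, hg⟩ := isConj_iff.1 h
  rw [h1, mul_one, mul_inv_cancel] at hg
  exact ne_one_of_orderOf hz hg.symm

omit [Fintype G] in
theorem orderOf_of_isConj {x z : G} (hz : orderOf z = 2) (h : IsConj x z) : orderOf x = 2 :=
  orderOf_of_sq (sq_of_isConj hz h) (ne_one_of_isConj hz h)

omit [Fintype G] in
include hz ht hzt in
theorem even_of_isConj {u v : G} (hu : IsConj u z) (hv : IsConj v t) :
    Even (orderOf (u * v)) := by
  by_contra h
  rw [Nat.not_even_iff_odd] at h
  have := isConj_of_odd (sq_of_isConj hz hu) (sq_of_isConj ht hv) h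
  exact hzt ((hu.symm.trans this).trans hv)

include hz ht hzt hcl in
/-- **Thompson's order formula** -/
theorem thompson_order_formula :
    Fintype.card G = (pairSet z t z).card * Nat.card (Subgroup.centralizer ({t} : Set G)) +
      (pairSet z t t).card * Nat.card (Subgroup.centralizer ({z} : Set G)) := by
  classical
  -- the classes are disjoint
  have hdisj : Disjoint (classSet z) (classSet t) := by
    rw [Finset.disjoint_left]
    intro x hx hx'
    rw [mem_classSet] at hx hx'
    exact hzt (hx.symm.trans hx')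
  -- all pairs
  have hall : (classSet z ×ˢ classSet t).card =
      ∑ x ∈ classSet z ∪ classSet t, (pairSet z t x).card := by
    rw [Finset.card_eq_sum_card_fiberwise (f := fun p : G × G => cinv p.1 p.2)
      (t := classSet z ∪ classSet t)]
    · apply Finset.sum_congr rfl
      intro x _
      congr 1
      ext p
      rw [Finset.mem_filter, Finset.mem_product, mem_classSet, mem_classSet, mem_pairSet]
      tauto
    · intro p hp
      rw [Finset.mem_coe, Finset.mem_product, mem_classSet, mem_classSet] at hp
      have he := even_of_isConj hz ht hzt hp.1 hp.2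
      have h0 : orderOf (p.1 * p.2) ≠ 0 := (orderOf_pos _).ne'
      have := hcl _ (orderOf_cinv he h0)
      rw [Finset.mem_coe, Finset.mem_union, mem_classSet, mem_classSet]
      exact this
  rw [Finset.sum_union hdisj] at hall
  have h1 : ∑ x ∈ classSet z, (pairSet z t x).card = (classSet z).card * (pairSet z t z).card := by
    rw [Finset.sum_const_nat]
    intro x hx
    exact card_pairSet_of_isConj z t (mem_classSet.1 hx)
  have h2 : ∑ x ∈ classSet t, (pairSet z t x).card = (classSet t).card * (pairSet z t t).card := by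
    rw [Finset.sum_const_nat]
    intro x hx
    exact card_pairSet_of_isConj z t (mem_classSet.1 hx)
  rw [h1, h2, Finset.card_product] at hall
  have hA := card_classSet_mul z
  have hB := card_classSet_mul t
  have hpos : 0 < Fintype.card G := Fintype.card_pos
  set A := (classSet z).card
  set B := (classSet t).card
  set cz := Nat.card (Subgroup.centralizer ({z} : Set G))
  set ct := Nat.card (Subgroup.centralizer ({t} : Set G))
  set n := Fintype.card G
  set az := (pairSet z t z).card
  set at' := (pairSet z t t).card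
  have key : n * n = n * (az * ct + at' * cz) := by
    calc n * n = (A * cz) * (B * ct) := by rw [hA, hB]
      _ = (A * B) * (cz * ct) := by ring
      _ = (A * az + B * at') * (cz * ct) := by rw [hall]
      _ = (A * cz) * (az * ct) + (B * ct) * (at' * cz) := by ring
      _ = n * (az * ct + at' * cz) := by rw [hA, hB]; ring
  exact Nat.eq_of_mul_eq_mul_left hpos key

end count

end Cfsg.Agent.Lib.Helper7.TOF
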