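import Mathlib

/-! # Counting involutions in the alternating group of degree five, and in subgroups isomorphic
to it -/

set_option autoImplicit false
set_option maxRecDepth 100000

namespace Cfsg.Agent.Lib.Helper7.TOF

abbrev A5 := alternatingGroup (Fin 5)

theorem a5_inv : (Finset.univ.filter fun x : A5 => x * x = 1 ∧ x ≠ 1).card = 15 := by
  decide +kernel

theorem a5_comm : ∀ x : A5, x * x = 1 → x ≠ 1 →
    (Finset.univ.filter fun u : A5 => u * u = 1 ∧ u ≠ 1 ∧ u * x = x * u).card = 3 := by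
  decide +kernel

theorem a5_odd : (Finset.univ.filter fun p : A5 × A5 =>
    p.1 * p.1 = 1 ∧ p.1 ≠ 1 ∧ p.2 * p.2 = 1 ∧ p.2 ≠ 1 ∧ (p.1 * p.2) ^ 15 = 1).card = 195 := by
  decide +kernel

theorem a5_exp : ∀ x : A5, x ^ 30 = 1 := by
  decide +kernel

theorem a5_card : Nat.card A5 = 60 := by
  rw [Nat.card_eq_fintype_card]
  decide +kernel

theorem a5_inv' : {x : A5 | x * x = 1 ∧ x ≠ 1}.ncard = 15 := by
  rw [← a5_inv, ← Set.ncard_coe_finset]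
  congr 1
  ext x
  simp

theorem a5_comm' (x : A5) (h1 : x * x = 1) (h2 : x ≠ 1) :
    {u : A5 | u * u = 1 ∧ u ≠ 1 ∧ u * x = x * u}.ncard = 3 := by
  rw [← a5_comm x h1 h2, ← Set.ncard_coe_finset]
  congr 1
  ext x
  simp

theorem a5_odd' : {p : A5 × A5 | p.1 * p.1 = 1 ∧ p.1 ≠ 1 ∧ p.2 * p.2 = 1 ∧ p.2 ≠ 1 ∧
    (p.1 * p.2) ^ 15 = 1}.ncard = 195 := by
  rw [← a5_odd, ← Set.ncard_coe_finset]
  congr 1
  ext x
  simp

section transport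

variable {G : Type*} [Group G] {B : Subgroup G} (e : ↥B ≃* A5)

theorem ncard_transport (P : A5 → Prop) (P' : G → Prop)
    (h : ∀ b : ↥B, P' (b : G) ↔ P (e b)) :
    {x : G | x ∈ B ∧ P' x}.ncard = {a : A5 | P a}.ncard := by
  rw [← Nat.card_coe_set_eq, ← Nat.card_coe_set_eq]
  apply Nat.card_congr
  refine ⟨fun x => ⟨e ⟨x.1, x.2.1⟩, (h ⟨x.1, x.2.1⟩).1 x.2.2⟩,
    fun a => ⟨((e.symm a.1 : ↥B) : G), (e.symm a.1).2, ?_⟩, ?_, ?_⟩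
  · rw [h, MulEquiv.apply_symm_apply]
    exact a.2
  · intro x
    apply Subtype.ext
    simp
  · intro a
    apply Subtype.ext
    simp

theorem ncard_transport₂ (P : A5 × A5 → Prop) (P' : G × G → Prop)
    (h : ∀ b c : ↥B, P' ((b : G), (c : G)) ↔ P (e b, e c)) :
    {p : G × G | p.1 ∈ B ∧ p.2 ∈ B ∧ P' p}.ncard = {a : A5 × A5 | P a}.ncard := by
  rw [← Nat.card_coe_set_eq, ← Nat.card_coe_set_eq]
  apply Nat.card_congr
  refine ⟨fun x => ⟨(e ⟨x.1.1, x.2.1⟩, e ⟨x.1.2, x.2.2.1⟩),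
      (h ⟨x.1.1, x.2.1⟩ ⟨x.1.2, x.2.2.1⟩).1 x.2.2.2⟩,
    fun a => ⟨(((e.symm a.1.1 : ↥B) : G), ((e.symm a.1.2 : ↥B) : G)),
      (e.symm a.1.1).2, (e.symm a.1.2).2, ?_⟩, ?_, ?_⟩
  · rw [h, MulEquiv.apply_symm_apply, MulEquiv.apply_symm_apply]
    exact a.2
  · intro x
    apply Subtype.ext
    simp
  · intro a
    apply Subtype.ext
    simp

theorem e_eq_one_iff (b : ↥B) : e b = 1 ↔ (b : G) = 1 := by
  rw [MulEquiv.map_eq_one_iff]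
  exact ⟨fun h => by rw [h]; rfl, fun h => Subtype.ext h⟩

theorem e_mul_self_iff (b : ↥B) : e b * e b = 1 ↔ (b : G) * b = 1 := by
  rw [← map_mul, e_eq_one_iff]
  rfl

include e in
/-- a subgroup isomorphic to the alternating group of degree five has fifteen involutions -/
theorem card_inv_B : {x : G | x ∈ B ∧ (x * x = 1 ∧ x ≠ 1)}.ncard = 15 := by
  rw [← a5_inv']
  apply ncard_transport e (fun x : A5 => x * x = 1 ∧ x ≠ 1) (fun x : G => x * x = 1 ∧ x ≠ 1)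
  intro b
  rw [e_mul_self_iff, Ne, Ne, e_eq_one_iff]

include e in
/-- each of them commutes with exactly three of them -/
theorem card_comm_B {x₀ : G} (hx₀ : x₀ ∈ B) (h1 : x₀ * x₀ = 1) (h2 : x₀ ≠ 1) :
    {u : G | u ∈ B ∧ (u * u = 1 ∧ u ≠ 1 ∧ u * x₀ = x₀ * u)}.ncard = 3 := by
  have hx1 : e ⟨x₀, hx₀⟩ * e ⟨x₀, hx₀⟩ = 1 := (e_mul_self_iff e _).2 h1
  have hx2 : e ⟨x₀, hx₀⟩ ≠ 1 := fun h => h2 ((e_eq_one_iff e _).1 h)
  rw [← a5_comm' (e ⟨x₀, hx₀⟩) hx1 hx2]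
  apply ncard_transport e
    (fun u : A5 => u * u = 1 ∧ u ≠ 1 ∧ u * e ⟨x₀, hx₀⟩ = e ⟨x₀, hx₀⟩ * u)
    (fun u : G => u * u = 1 ∧ u ≠ 1 ∧ u * x₀ = x₀ * u)
  intro b
  rw [e_mul_self_iff, Ne, Ne, e_eq_one_iff, ← map_mul, ← map_mul, e.injective.eq_iff]
  constructor
  · rintro ⟨h1, h2, h3⟩
    exact ⟨h1, h2, Subtype.ext h3⟩
  · rintro ⟨h1, h2, h3⟩
    exact ⟨h1, h2, congrArg Subtype.val h3⟩

include e in
/-- the pairs of involutions with a product of odd order -/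
theorem card_odd_B :
    {p : G × G | p.1 ∈ B ∧ p.2 ∈ B ∧ (p.1 * p.1 = 1 ∧ p.1 ≠ 1 ∧
      p.2 * p.2 = 1 ∧ p.2 ≠ 1 ∧ (p.1 * p.2) ^ 15 = 1)}.ncard = 195 := by
  rw [← a5_odd']
  apply ncard_transport₂ e (fun p : A5 × A5 => p.1 * p.1 = 1 ∧ p.1 ≠ 1 ∧
      p.2 * p.2 = 1 ∧ p.2 ≠ 1 ∧ (p.1 * p.2) ^ 15 = 1)
    (fun p : G × G => p.1 * p.1 = 1 ∧ p.1 ≠ 1 ∧
      p.2 * p.2 = 1 ∧ p.2 ≠ 1 ∧ (p.1 * p.2) ^ 15 = 1)
  intro b c
  simp only
  rw [e_mul_self_iff, e_mul_self_iff, Ne, Ne, Ne, Ne, e_eq_one_iff, e_eq_one_iff, ← map_mul,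
    ← map_pow, e_eq_one_iff]
  rfl

include e in
theorem pow_thirty_B {x : G} (hx : x ∈ B) : x ^ 30 = 1 := by
  have h := a5_exp (e ⟨x, hx⟩)
  rw [← map_pow, e_eq_one_iff] at h
  exact h

include e in
theorem card_B : Nat.card ↥B = 60 := by
  rw [Nat.card_congr e.toEquiv, a5_card]

end transport

end Cfsg.Agent.Lib.Helper7.TOF
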