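import Cfsg.Agent.Lib.Helper7.TOFA
import Cfsg.Agent.Lib.Helper7.TOFB

/-! # The centralizer `C(t) = V × B` in the Hall–Janko pattern -/

set_option autoImplicit false

namespace Cfsg.Agent.Lib.Helper7.TOF

variable {G : Type*} [Group G]

/-- the hypotheses on the centralizer of `t` -/
structure CtHyp (z t : G) (V B : Subgroup G) : Prop where
  hz : orderOf z = 2
  ht : orderOf t = 2
  hzt : ¬ IsConj z t
  hV_le : V ≤ Subgroup.centralizer ({t} : Set G)
  hB_le : B ≤ Subgroup.centralizer ({t} : Set G)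
  hcomm : ∀ a ∈ V, ∀ b ∈ B, a * b = b * a
  hdisj : V ⊓ B = ⊥
  hsup : V ⊔ B = Subgroup.centralizer ({t} : Set G)
  hV : Nat.card ↥V = 4
  hV2 : ∀ v ∈ V, v ^ 2 = 1
  htV : t ∈ V
  hB : Nonempty (↥B ≃* A5)
  hBz : ∀ x ∈ B, orderOf x = 2 → IsConj x z
  hCt : ∀ x ∈ Subgroup.centralizer ({t} : Set G), orderOf x = 2 → x ∉ B → IsConj x t

namespace CtHyp

variable {z t : G} {V B : Subgroup G} (H : CtHyp z t V B)

include H

theorem inter {x : G} (hV : x ∈ V) (hB : x ∈ B) : x = 1 := by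
  have : x ∈ V ⊓ B := ⟨hV, hB⟩
  rw [H.hdisj] at this
  exact this

theorem t_ne_one : t ≠ 1 := ne_one_of_orderOf H.ht

theorem t_sq : t * t = 1 := sq_of_orderOf H.ht

theorem t_notMem_B : t ∉ B := fun h => H.t_ne_one (H.inter H.htV h)

theorem decomp {c : G} (hc : c ∈ Subgroup.centralizer ({t} : Set G)) :
    ∃ w ∈ V, ∃ b ∈ B, c = w * b := by
  rw [← H.hsup] at hc
  have hcm : ∀ (m : ↥V) (n : ↥B), Commute (V.subtype m) (B.subtype n) :=
    fun m n => H.hcomm m.1 m.2 n.1 n.2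
  have hr := MonoidHom.noncommCoprod_range V.subtype B.subtype hcm
  rw [Subgroup.range_subtype, Subgroup.range_subtype] at hr
  rw [← hr] at hc
  obtain ⟨⟨w, b⟩, hwb⟩ := hc
  refine ⟨w.1, w.2, b.1, b.2, ?_⟩
  rw [← hwb]
  rfl

theorem decomp_unique {w w' b b' : G} (hw : w ∈ V) (hw' : w' ∈ V) (hb : b ∈ B) (hb' : b' ∈ B)
    (h : w * b = w' * b') : w = w' ∧ b = b' := by
  have h1 : w'⁻¹ * w = b' * b⁻¹ := by
    have : w'⁻¹ * (w * b) * b⁻¹ = w'⁻¹ * (w' * b') * b⁻¹ := by rw [h]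
    calc w'⁻¹ * w = w'⁻¹ * (w * b) * b⁻¹ := by group
      _ = w'⁻¹ * (w' * b') * b⁻¹ := this
      _ = b' * b⁻¹ := by group
  have h2 : w'⁻¹ * w = 1 :=
    H.inter (mul_mem (inv_mem hw') hw) (h1 ▸ mul_mem hb' (inv_mem hb))
  have h3 : b' * b⁻¹ = 1 := by rw [← h1, h2]
  exact ⟨(inv_mul_eq_one.1 h2).symm, (mul_inv_eq_one.1 h3).symm⟩

theorem card_Ct [Finite G] : Nat.card (Subgroup.centralizer ({t} : Set G)) = 240 := by
  obtain ⟨e⟩ := H.hB
  have hcm : ∀ (m : ↥V) (n : ↥B), Commute (V.subtype m) (B.subtype n) :=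
    fun m n => H.hcomm m.1 m.2 n.1 n.2
  have hr := MonoidHom.noncommCoprod_range V.subtype B.subtype hcm
  rw [Subgroup.range_subtype, Subgroup.range_subtype, H.hsup] at hr
  have hinj : Function.Injective (MonoidHom.noncommCoprod V.subtype B.subtype hcm) := by
    rw [MonoidHom.noncommCoprod_injective]
    refine ⟨Subtype.val_injective, Subtype.val_injective, ?_⟩
    rw [Subgroup.range_subtype, Subgroup.range_subtype, disjoint_iff, H.hdisj]
  rw [← hr, ← Nat.card_congr (MonoidHom.ofInjective hinj).toEquiv, Nat.card_prod, H.hV,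
    card_B e]

/-- a conjugate of `z` centralizing `t` lies in `B` -/
theorem mem_B_of_isConj {u : G} (hu : IsConj u z) (hut : u * t = t * u) : u ∈ B := by
  by_contra hB
  have h2 : orderOf u = 2 := orderOf_of_isConj H.hz hu
  have := H.hCt u (Subgroup.mem_centralizer_singleton_iff.2 hut) h2 hB
  exact H.hzt (hu.symm.trans this)

theorem zclass_eq :
    {u : G | IsConj u z ∧ u * t = t * u} = {u : G | u ∈ B ∧ (u * u = 1 ∧ u ≠ 1)} := by
  ext u
  constructor
  · rintro ⟨hu, hut⟩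
    exact ⟨H.mem_B_of_isConj hu hut, sq_of_isConj H.hz hu, ne_one_of_isConj H.hz hu⟩
  · rintro ⟨hB, h1, h2⟩
    refine ⟨H.hBz u hB (orderOf_of_sq h1 h2), ?_⟩
    exact Subgroup.mem_centralizer_singleton_iff.1 (H.hB_le hB)

theorem card_zclass : {u : G | IsConj u z ∧ u * t = t * u}.ncard = 15 := by
  obtain ⟨e⟩ := H.hB
  rw [H.zclass_eq, card_inv_B e]

/-- for an involution `z₀` of `B`: exactly three conjugates of `z` centralize `z₀` and `t` -/
theorem card_comm {z₀ : G} (h0 : z₀ ∈ B) (h1 : z₀ * z₀ = 1) (h2 : z₀ ≠ 1) :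
    {u : G | IsConj u z ∧ u * z₀ = z₀ * u ∧ u * t = t * u}.ncard = 3 := by
  obtain ⟨e⟩ := H.hB
  rw [← card_comm_B e h0 h1 h2]
  congr 1
  ext u
  have := Set.ext_iff.1 H.zclass_eq u
  simp only [Set.mem_ofPred_eq] at this ⊢
  constructor
  · rintro ⟨hu, huz, hut⟩
    obtain ⟨hB, h3, h4⟩ := this.1 ⟨hu, hut⟩
    exact ⟨hB, h3, h4, huz⟩
  · rintro ⟨hB, h3, h4, huz⟩
    obtain ⟨hu, hut⟩ := this.2 ⟨hB, h3, h4⟩
    exact ⟨hu, huz, hut⟩

theorem pow_V {w : G} (hw : w ∈ V) (m : ℕ) : w ^ m = if Even m then 1 else w := by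
  have h2 := H.hV2 w hw
  split_ifs with h
  · obtain ⟨k, hk⟩ := h
    rw [hk, ← two_mul, pow_mul, h2, one_pow]
  · rw [Nat.not_even_iff_odd] at h
    obtain ⟨k, hk⟩ := h
    rw [hk, pow_succ, pow_mul, h2, one_pow, one_mul]

theorem pow_fifteen_of_odd {f : G} (hf : f ∈ B) {m : ℕ} (hm : Odd m) (h : f ^ m = 1) :
    f ^ 15 = 1 := by
  obtain ⟨e⟩ := H.hB
  have h30 := pow_thirty_B e hf
  have h1 : orderOf f ∣ Nat.gcd m 30 :=
    Nat.dvd_gcd (orderOf_dvd_of_pow_eq_one h) (orderOf_dvd_of_pow_eq_one h30)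
  have h2 : Nat.gcd m 30 ∣ 15 := by
    have h3 : Nat.gcd m 30 ∣ 2 * 15 := Nat.gcd_dvd_right m 30
    have h4 : Nat.Coprime (Nat.gcd m 30) 2 := by
      apply Nat.Coprime.coprime_dvd_left (Nat.gcd_dvd_left m 30)
      exact Nat.coprime_two_right.2 hm
    exact h4.dvd_of_dvd_mul_left h3
  exact orderOf_dvd_iff_pow_eq_one.1 (h1.trans h2)

/-- the forward direction of the analysis of `a(t)` -/
theorem pair_forward [Finite G] {u v : G} (hu : IsConj u z) (hv : IsConj v t)
    (hc : cinv u v = t) :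
    u ∈ B ∧ t * v ∈ B ∧ (u * u = 1 ∧ u ≠ 1 ∧ (t * v) * (t * v) = 1 ∧ t * v ≠ 1 ∧
      (u * (t * v)) ^ 15 = 1) := by
  have hu2 := sq_of_isConj H.hz hu
  have hv2 := sq_of_isConj H.ht hv
  have he := even_of_isConj H.hz H.ht H.hzt hu hv
  have hut : u * t = t * u := by
    have := cinv_comm_left hu2 hv2 he
    rwa [hc] at this
  have hvt : v * t = t * v := by
    have := cinv_comm_right hu2 hv2 he
    rwa [hc] at this
  have huB : u ∈ B := H.mem_B_of_isConj hu hut
  have hu1 : u ≠ 1 := ne_one_of_isConj H.hz hu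
  have hvC : v ∈ Subgroup.centralizer ({t} : Set G) := Subgroup.mem_centralizer_singleton_iff.2 hvt
  obtain ⟨w, hw, b, hb, hvwb⟩ := H.decomp hvC
  set m := orderOf (u * v) / 2 with hm
  have hd : u * v = w * (u * b) := by
    rw [hvwb, ← mul_assoc, ← mul_assoc, H.hcomm w hw u huB]
  have hcm : Commute w (u * b) := by
    have := H.hcomm w hw (u * b) (mul_mem huB hb)
    exact this
  have hpow : w ^ m * (u * b) ^ m = t * 1 := by
    rw [← hcm.mul_pow, ← hd, mul_one]
    exact hc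
  obtain ⟨h1, h2⟩ := H.decomp_unique (pow_mem hw m) H.htV (pow_mem (mul_mem huB hb) m)
    (one_mem B) hpow
  have hmodd : Odd m := by
    by_contra hne
    rw [Nat.not_odd_iff_even] at hne
    rw [H.pow_V hw, if_pos hne] at h1
    exact H.t_ne_one h1.symm
  have hwt : w = t := by
    rw [H.pow_V hw, if_neg (Nat.not_even_iff_odd.2 hmodd)] at h1
    exact h1
  have htv : t * v = b := by
    rw [hvwb, hwt, ← mul_assoc, H.t_sq, one_mul]
  have h15 : (u * b) ^ 15 = 1 := H.pow_fifteen_of_odd (mul_mem huB hb) hmodd h2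
  have hb2 : b * b = 1 := by
    have h3 : v * v = (w * w) * (b * b) := by
      rw [hvwb]
      calc w * b * (w * b) = w * (b * w) * b := by group
        _ = w * (w * b) * b := by rw [H.hcomm w hw b hb]
        _ = (w * w) * (b * b) := by group
    rw [hv2, hwt, H.t_sq, one_mul] at h3
    exact h3.symm
  have hb1 : b ≠ 1 := by
    intro hb1
    rw [hb1, mul_one] at h15
    have : u ^ 15 = u := by
      have : u ^ 15 = (u ^ 2) ^ 7 * u := by rw [← pow_mul, ← pow_succ]
      rw [this, pow_two, hu2, one_pow, one_mul]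
    rw [this] at h15
    exact hu1 h15
  rw [htv]
  exact ⟨huB, hb, hu2, hu1, hb2, hb1, h15⟩

/-- the backward direction -/
theorem pair_backward [Finite G] {x y : G} (hx : x ∈ B) (hy : y ∈ B) (hx2 : x * x = 1) (hx1 : x ≠ 1)
    (hy2 : y * y = 1) (_hy1 : y ≠ 1) (h15 : (x * y) ^ 15 = 1) :
    IsConj x z ∧ IsConj (t * y) t ∧ cinv x (t * y) = t := by
  have hxz : IsConj x z := H.hBz x hx (orderOf_of_sq hx2 hx1)
  have hty : t * y = y * t := H.hcomm t H.htV y hy
  have hv2 : (t * y) * (t * y) = 1 := by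
    calc t * y * (t * y) = t * (y * t) * y := by group
      _ = t * (t * y) * y := by rw [hty]
      _ = (t * t) * (y * y) := by group
      _ = 1 := by rw [H.t_sq, hy2, one_mul]
  have hv1 : t * y ≠ 1 := by
    intro h
    have : t = y⁻¹ := eq_inv_of_mul_eq_one_left h
    exact H.t_notMem_B (this ▸ inv_mem hy)
  have hvC : t * y ∈ Subgroup.centralizer ({t} : Set G) :=
    mul_mem (H.hV_le H.htV) (H.hB_le hy)
  have hvB : t * y ∉ B := by
    intro h
    have : t = (t * y) * y⁻¹ := by group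
    exact H.t_notMem_B (this ▸ mul_mem h (inv_mem hy))
  have hvt : IsConj (t * y) t := H.hCt _ hvC (orderOf_of_sq hv2 hv1) hvB
  refine ⟨hxz, hvt, ?_⟩
  -- the product
  have hd : x * (t * y) = t * (x * y) := by
    rw [← mul_assoc, ← H.hcomm t H.htV x hx, mul_assoc]
  have hcm : Commute t (x * y) := H.hcomm t H.htV (x * y) (mul_mem hx hy)
  set r := orderOf (x * y) with hr
  have hr15 : r ∣ 15 := orderOf_dvd_of_pow_eq_one h15
  have hrodd : Odd r := by
    rcases Nat.even_or_odd r with h | h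
    · exfalso
      have : 2 ∣ 15 := (even_iff_two_dvd.1 h).trans hr15
      omega
    · exact h
  have hcop : Nat.Coprime (orderOf t) (orderOf (x * y)) := by
    rw [H.ht]
    exact Nat.coprime_two_left.2 hrodd
  have hord : orderOf (t * (x * y)) = 2 * r := by
    rw [hcm.orderOf_mul_eq_mul_orderOf_of_coprime hcop, H.ht]
  unfold cinv
  rw [hd, hord, Nat.mul_div_cancel_left r (by norm_num), hcm.mul_pow, pow_orderOf_eq_one, mul_one]
  have : t ^ r = if Even r then 1 else t := H.pow_V H.htV r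
  rw [this, if_neg (Nat.not_even_iff_odd.2 hrodd)]

/-- `a(t) = 195` -/
theorem a_t [Fintype G] : (pairSet z t t).card = 195 := by
  obtain ⟨e⟩ := H.hB
  rw [← card_odd_B e, ← Set.ncard_coe_finset]
  apply Set.ncard_congr (fun p _ => (p.1, t * p.2))
  · intro p hp
    rw [Finset.mem_coe, mem_pairSet] at hp
    exact H.pair_forward hp.1 hp.2.1 hp.2.2
  · intro p q _ _ hpq
    simp only [Prod.mk.injEq, mul_right_inj] at hpq
    exact Prod.ext hpq.1 hpq.2
  · intro q hq
    obtain ⟨hx, hy, hx2, hx1, hy2, hy1, h15⟩ := hq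
    refine ⟨(q.1, t * q.2), ?_, ?_⟩
    · rw [Finset.mem_coe, mem_pairSet]
      exact H.pair_backward hx hy hx2 hx1 hy2 hy1 h15
    · simp only
      rw [← mul_assoc, H.t_sq, one_mul]

end CtHyp

end Cfsg.Agent.Lib.Helper7.TOF
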