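import Cfsg.Agent.H1.QuadCount

/-! # Extraspecial groups of order 32: counting involutions -/

set_option autoImplicit false

namespace Cfsg.Agent.Lib.Helper7.TOF

open Finset

/-- a group of class two with centre `{1, z}` and all squares in the centre -/
structure ES (P : Type*) [Group P] (z : P) : Prop where
  z_ne : z ≠ 1
  z_sq : z * z = 1
  z_cent : ∀ x : P, z * x = x * z
  sq : ∀ x : P, x * x = 1 ∨ x * x = z
  comm : ∀ x y : P, x * y = y * x ∨ x * y = z * (y * x)
  cent : ∀ x : P, (∀ y, x * y = y * x) → x = 1 ∨ x = z

namespace ES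

variable {P : Type*} [Group P] {z : P} (E : ES P z)

open Classical in
/-- the sign of the square -/
noncomputable def sg (x : P) : ℤ := if x * x = 1 then 1 else -1

open Classical in
/-- the sign of the commutator -/
noncomputable def bs (x y : P) : ℤ := if x * y = y * x then 1 else -1

theorem sg_of_one {x : P} (h : x * x = 1) : sg x = 1 := by
  unfold sg; rw [if_pos h]

include E in
theorem sg_of_z {x : P} (h : x * x = z) : sg x = -1 := by
  unfold sg; rw [if_neg (by rw [h]; exact E.z_ne)]

theorem bs_of_comm {x y : P} (h : x * y = y * x) : bs x y = 1 := by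
  unfold bs; rw [if_pos h]

include E in
theorem not_comm_of_anti {x y : P} (h : x * y = z * (y * x)) : x * y ≠ y * x := by
  intro h'
  rw [h'] at h
  exact E.z_ne (mul_eq_right.1 h.symm)

include E in
theorem bs_of_anti {x y : P} (h : x * y = z * (y * x)) : bs x y = -1 := by
  unfold bs; rw [if_neg (E.not_comm_of_anti h)]

theorem sg_pm (x : P) : sg x = 1 ∨ sg x = -1 := by
  unfold sg; split_ifs <;> simp

theorem bs_pm (x y : P) : bs x y = 1 ∨ bs x y = -1 := by
  unfold bs; split_ifs <;> simp

include E in
/-- the square of a product -/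
theorem sq_mul (x y : P) :
    (x * y = y * x ∧ (x * y) * (x * y) = (x * x) * (y * y)) ∨
    (x * y = z * (y * x) ∧ (x * y) * (x * y) = z * ((x * x) * (y * y))) := by
  rcases E.comm x y with h | h
  · left
    refine ⟨h, ?_⟩
    calc x * y * (x * y) = x * (y * x) * y := by group
      _ = x * (x * y) * y := by rw [h]
      _ = x * x * (y * y) := by group
  · right
    refine ⟨h, ?_⟩
    have h' : y * x = z * (x * y) := by
      rw [h, ← mul_assoc, E.z_sq, one_mul]
    calc x * y * (x * y) = x * (y * x) * y := by group
      _ = x * (z * (x * y)) * y := by rw [h']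
      _ = x * z * (x * y * y) := by group
      _ = z * x * (x * y * y) := by rw [E.z_cent x]
      _ = z * (x * x * (y * y)) := by group

include E in
theorem sg_mul (x y : P) : sg (x * y) = sg x * sg y * bs x y := by
  rcases E.sq_mul x y with ⟨hc, h⟩ | ⟨hc, h⟩
  · rw [bs_of_comm hc, mul_one]
    rcases E.sq x with hx | hx <;> rcases E.sq y with hy | hy <;> rw [hx, hy] at h
    · rw [sg_of_one hx, sg_of_one hy, sg_of_one (by rw [h, mul_one])]; norm_num
    · rw [sg_of_one hx, E.sg_of_z hy, E.sg_of_z (by rw [h, one_mul])]; norm_num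
    · rw [E.sg_of_z hx, sg_of_one hy, E.sg_of_z (by rw [h, mul_one])]; norm_num
    · rw [E.sg_of_z hx, E.sg_of_z hy, sg_of_one (by rw [h, E.z_sq])]; norm_num
  · rw [E.bs_of_anti hc]
    rcases E.sq x with hx | hx <;> rcases E.sq y with hy | hy <;> rw [hx, hy] at h
    · rw [sg_of_one hx, sg_of_one hy, E.sg_of_z (by rw [h, mul_one, mul_one])]; norm_num
    · rw [sg_of_one hx, E.sg_of_z hy, sg_of_one (by rw [h, one_mul, E.z_sq])]; norm_num
    · rw [E.sg_of_z hx, sg_of_one hy, sg_of_one (by rw [h, mul_one, E.z_sq])]; norm_num
    · rw [E.sg_of_z hx, E.sg_of_z hy, E.sg_of_z (by rw [h, E.z_sq, mul_one])]; norm_num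

include E in
theorem bs_mul (x y u : P) : bs (x * y) u = bs x u * bs y u := by
  rcases E.comm x u with hx | hx <;> rcases E.comm y u with hy | hy
  · rw [bs_of_comm hx, bs_of_comm hy, bs_of_comm]; · norm_num
    calc x * y * u = x * (y * u) := by group
      _ = x * (u * y) := by rw [hy]
      _ = (x * u) * y := by group
      _ = u * x * y := by rw [hx]
      _ = u * (x * y) := by group
  · rw [bs_of_comm hx, E.bs_of_anti hy, E.bs_of_anti]; · norm_num
    calc x * y * u = x * (y * u) := by group
      _ = x * (z * (u * y)) := by rw [hy]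
      _ = (x * z) * (u * y) := by group
      _ = (z * x) * (u * y) := by rw [E.z_cent x]
      _ = z * ((x * u) * y) := by group
      _ = z * ((u * x) * y) := by rw [hx]
      _ = z * (u * (x * y)) := by group
  · rw [E.bs_of_anti hx, bs_of_comm hy, E.bs_of_anti]; · norm_num
    calc x * y * u = x * (y * u) := by group
      _ = x * (u * y) := by rw [hy]
      _ = (x * u) * y := by group
      _ = z * (u * x) * y := by rw [hx]
      _ = z * (u * (x * y)) := by group
  · rw [E.bs_of_anti hx, E.bs_of_anti hy, bs_of_comm]; · norm_num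
    calc x * y * u = x * (y * u) := by group
      _ = x * (z * (u * y)) := by rw [hy]
      _ = (x * z) * (u * y) := by group
      _ = (z * x) * (u * y) := by rw [E.z_cent x]
      _ = z * ((x * u) * y) := by group
      _ = z * ((z * (u * x)) * y) := by rw [hx]
      _ = (z * z) * (u * (x * y)) := by group
      _ = u * (x * y) := by rw [E.z_sq, one_mul]

section count

variable [Fintype P]

open Classical in
theorem sum_sg : ∑ x : P, sg x = 2 * ((univ.filter fun x : P => x * x = 1).card : ℤ) -
    (Fintype.card P : ℤ) := by
  have h1 : ∀ x : P, sg x = 2 * (if x * x = 1 then 1 else 0) - 1 := by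
    intro x; unfold sg; split_ifs <;> norm_num
  simp only [h1]
  rw [Finset.sum_sub_distrib, ← Finset.mul_sum, Finset.sum_boole]
  simp

omit [Fintype P] in
open Classical in
theorem sum_sg_on (F : Finset P) : ∑ x ∈ F, sg x = 2 * ((F.filter fun x : P => x * x = 1).card : ℤ) -
    (F.card : ℤ) := by
  have h1 : ∀ x : P, sg x = 2 * (if x * x = 1 then 1 else 0) - 1 := by
    intro x; unfold sg; split_ifs <;> norm_num
  simp only [h1]
  rw [Finset.sum_sub_distrib, ← Finset.mul_sum, Finset.sum_boole]
  simp

include E in
open Classical in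
/-- the centralizer of a non-central involution contains exactly four elements of square one -/
theorem card_cent_inv (hcard : Fintype.card P = 32)
    (hN : (univ.filter fun x : P => x * x = 1).card = 12) {u : P} (hu : u * u = 1)
    (hu1 : u ≠ 1) (huz : u ≠ z) :
    ((univ.filter fun x : P => x * u = u * x).filter fun x : P => x * x = 1).card = 4 := by
  -- the total sum
  have hS : ∑ x : P, sg x = -8 := by
    rw [sum_sg, hN, hcard]; norm_num
  -- the twisted sum
  have hT : ∑ x : P, sg x * bs x u = -8 := by
    rw [← hS, ← Equiv.sum_comp (Equiv.mulRight u) (fun x => sg x)]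
    apply Finset.sum_congr rfl
    intro x _
    rw [Equiv.coe_mulRight, E.sg_mul, sg_of_one hu, mul_one]
  -- `u` is not central
  have hnc : ∃ y, bs y u = -1 := by
    by_contra hne
    push Not at hne
    have : ∀ y, u * y = y * u := by
      intro y
      rcases E.comm y u with h | h
      · exact h.symm
      · exact absurd (E.bs_of_anti h) (hne y)
    rcases E.cent u this with h | h
    · exact hu1 h
    · exact huz h
  have hB : ∑ x : P, bs x u = 0 := by
    rcases Cfsg.Agent.H1.sum_sign_char (fun x => bs x u) (fun a b => E.bs_mul a b u)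
      (fun a => bs_pm a u) with ⟨_, h2⟩ | ⟨h1, _⟩
    · obtain ⟨y, hy⟩ := hnc
      rw [h2 y] at hy
      norm_num at hy
    · exact h1
  set F := univ.filter fun x : P => x * u = u * x with hF
  have h1b : ∀ x : P, (1 + bs x u) = if x * u = u * x then 2 else 0 := by
    intro x
    unfold bs
    split_ifs <;> norm_num
  have hFcard : (F.card : ℤ) = 16 := by
    have h2 : ∑ x : P, (1 + bs x u) = 2 * (F.card : ℤ) := by
      simp only [h1b]
      rw [← Finset.sum_filter, Finset.sum_const, ← hF]
      simp
      ring
    rw [Finset.sum_add_distrib, hB] at h2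
    simp only [sum_const, card_univ, nsmul_eq_mul, mul_one, add_zero] at h2
    rw [hcard] at h2
    push_cast at h2
    linarith
  have hFs : ∑ x ∈ F, sg x = -8 := by
    have h2 : ∑ x : P, sg x * (1 + bs x u) = 2 * ∑ x ∈ F, sg x := by
      simp only [h1b]
      rw [Finset.mul_sum, hF, Finset.sum_filter]
      apply Finset.sum_congr rfl
      intro x _
      split_ifs <;> ring
    have h3 : ∑ x : P, sg x * (1 + bs x u) = ∑ x : P, sg x + ∑ x : P, sg x * bs x u := by
      rw [← Finset.sum_add_distrib]
      apply Finset.sum_congr rfl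
      intro x _
      ring
    rw [h3, hS, hT] at h2
    linarith
  rw [sum_sg_on, hFcard] at hFs
  have : ((F.filter fun x : P => x * x = 1).card : ℤ) = 4 := by linarith
  exact_mod_cast this

include E in
open Classical in
/-- no elementary abelian subgroup of order eight -/
theorem comm_inv (hcard : Fintype.card P = 32)
    (hN : (univ.filter fun x : P => x * x = 1).card = 12) {u u' : P} (hu : u * u = 1)
    (hu1 : u ≠ 1) (huz : u ≠ z) (hu' : u' * u' = 1) (hc : u' * u = u * u') :
    u' = 1 ∨ u' = z ∨ u' = u ∨ u' = u * z := by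
  have h4 := E.card_cent_inv hcard hN hu hu1 huz
  set F := (univ.filter fun x : P => x * u = u * x).filter fun x : P => x * x = 1 with hF
  have hsub : ({1, z, u, u * z} : Finset P) ⊆ F := by
    intro x hx
    simp only [Finset.mem_insert, Finset.mem_singleton] at hx
    rw [hF, Finset.mem_filter, Finset.mem_filter]
    rcases hx with rfl | rfl | rfl | rfl
    · simp
    · exact ⟨⟨mem_univ _, E.z_cent u⟩, E.z_sq⟩
    · exact ⟨⟨mem_univ _, rfl⟩, hu⟩
    · refine ⟨⟨mem_univ _, ?_⟩, ?_⟩
      · calc u * z * u = u * (z * u) := by group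
          _ = u * (u * z) := by rw [E.z_cent u]
      · calc u * z * (u * z) = u * (z * u) * z := by group
          _ = u * (u * z) * z := by rw [E.z_cent u]
          _ = (u * u) * (z * z) := by group
          _ = 1 := by rw [hu, E.z_sq, one_mul]
  have hcard4 : ({1, z, u, u * z} : Finset P).card = 4 := by
    rw [Finset.card_insert_of_notMem, Finset.card_insert_of_notMem,
      Finset.card_insert_of_notMem, Finset.card_singleton]
    · simp only [Finset.mem_singleton]
      intro h
      exact E.z_ne (mul_eq_left.1 h.symm)
    · simp only [Finset.mem_insert, Finset.mem_singleton, not_or]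
      refine ⟨fun h => huz h.symm, fun h => ?_⟩
      have : u = 1 := by
        have h2 : z = u * z := h
        exact (mul_eq_right.1 h2.symm)
      exact hu1 this
    · simp only [Finset.mem_insert, Finset.mem_singleton, not_or]
      refine ⟨fun h => E.z_ne h.symm, fun h => hu1 h.symm, fun h => ?_⟩
      have h2 : u * z * z = 1 * z := by rw [← h]
      rw [mul_assoc, E.z_sq, mul_one, one_mul] at h2
      exact huz h2
  have heq : ({1, z, u, u * z} : Finset P) = F :=
    Finset.eq_of_subset_of_card_le hsub (by rw [h4, hcard4])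
  have hmem : u' ∈ F := by
    rw [hF, Finset.mem_filter, Finset.mem_filter]
    exact ⟨⟨mem_univ _, hc⟩, hu'⟩
  rw [← heq] at hmem
  simpa only [Finset.mem_insert, Finset.mem_singleton] using hmem

end count

end ES

section extraspecial

variable {P : Type*} [Group P] [Finite P]

open scoped commutatorElement in
/-- an extraspecial 2-group is of the kind considered above -/
theorem exists_ES (h : Cfsg.IsExtraspecial 2 P) : ∃ z : P, ES P z := by
  have : Fact (Nat.Prime 2) := ⟨Nat.prime_two⟩
  obtain ⟨⟨hp, hfr, hco⟩, hc2⟩ := h
  obtain ⟨c, hc1, hc2'⟩ := (Nat.card_eq_two_iff' (1 : Subgroup.center P)).1 hc2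
  have hall : ∀ a ∈ Subgroup.center P, a = 1 ∨ a = (c : P) := by
    intro a ha
    by_cases h : a = 1
    · left; exact h
    · right
      have := hc2' ⟨a, ha⟩ (fun h' => h (congrArg Subtype.val h'))
      exact congrArg Subtype.val this
  have hcz : ∀ x : P, (c : P) * x = x * c := fun x =>
    (Subgroup.mem_center_iff.1 c.2 x).symm
  have hcne : (c : P) ≠ 1 := fun h => hc1 (Subtype.ext h)
  have hcsq : (c : P) * c = 1 := by
    rcases hall _ (mul_mem c.2 c.2) with h | h
    · exact h
    · exact absurd (mul_eq_left.1 h) hcne
  refine ⟨c, hcne, hcsq, hcz, ?_, ?_, ?_⟩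
  · intro x
    have := Cfsg.Agent.H1.pow_p_mem_frattini hp x
    rw [hfr, pow_two] at this
    exact hall _ this
  · intro x y
    have h1 : ⁅x, y⁆ ∈ Subgroup.center P := by
      rw [← hco, commutator_def]
      exact Subgroup.commutator_mem_commutator (Subgroup.mem_top x) (Subgroup.mem_top y)
    rcases hall _ h1 with h | h
    · left
      exact commutatorElement_eq_one_iff_mul_comm.1 h
    · right
      rw [← h, commutatorElement_def]
      group
  · intro x hx
    exact hall x (Subgroup.mem_center_iff.2 fun y => (hx y).symm)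

/-- the number of elements of square one in an extraspecial group of order 32 -/
theorem card_sq_one (h : Cfsg.IsExtraspecial 2 P) (hcard : Nat.card P = 32) :
    Nat.card {x : P // x ^ 2 = 1} = 8 ∨ Nat.card {x : P // x ^ 2 = 1} = 12 ∨
    Nat.card {x : P // x ^ 2 = 1} = 16 ∨ Nat.card {x : P // x ^ 2 = 1} = 20 ∨
    Nat.card {x : P // x ^ 2 = 1} = 24 := by
  obtain ⟨⟨hp, hfr, hco⟩, hc2⟩ := h
  have hΦ : Nat.card (frattini P) = 2 := by rw [hfr]; exact hc2
  have hidx : (frattini P).index = 2 ^ 4 := by
    have := (frattini P).card_mul_index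
    rw [hΦ, hcard] at this
    omega
  obtain ⟨h1, -⟩ := Cfsg.Agent.H1.two_group_frattini_two_involution_count hp hΦ 4 hidx
  rcases h1 with h1 | ⟨r, hr1, hr2, h1⟩
  · right; right; left
    rw [h1]; norm_num
  · have hr : r = 1 ∨ r = 2 := by omega
    rcases hr with rfl | rfl
    · rcases h1 with h1 | h1
      · right; right; right; right
        rw [h1]; norm_num
      · left
        norm_num at h1
        omega
    · rcases h1 with h1 | h1
      · right; right; right; left
        rw [h1]; norm_num
      · right; left
        norm_num at h1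
        omega

end extraspecial

end Cfsg.Agent.Lib.Helper7.TOF
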