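import Cfsg.Agent.Lib.Helper7.TOFC

/-! # The centralizer `C(z) = Q ⋊ K` in the Hall–Janko pattern and the count `a(z) = 960` -/

set_option autoImplicit false

namespace Cfsg.Agent.Lib.Helper7.TOF

open Finset

variable {G : Type*} [Group G]

theorem ncard_eq_card_filter {α : Type*} [Fintype α] (p : α → Prop) [DecidablePred p] :
    {x | p x}.ncard = (univ.filter p).card := by
  rw [← Set.ncard_coe_finset]
  congr 1
  ext x
  simp

section general

variable [Fintype G]

open Classical in
/-- the conjugates of `a` that commute with `x` -/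
noncomputable def cc (a x : G) : Finset G := univ.filter fun v => IsConj v a ∧ v * x = x * v

theorem mem_cc {a x v : G} : v ∈ cc a x ↔ IsConj v a ∧ v * x = x * v := by
  classical
  simp [cc]

theorem card_cc_eq_ncard (a x : G) : (cc a x).card = {v : G | IsConj v a ∧ v * x = x * v}.ncard := by
  classical
  rw [ncard_eq_card_filter]
  rfl

omit [Fintype G] in
theorem conj_isConj (g v : G) : IsConj (g * v * g⁻¹) v := isConj_iff.2 ⟨g⁻¹, by group⟩

theorem card_cc_conj (a x g : G) : (cc a (g * x * g⁻¹)).card = (cc a x).card := by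
  classical
  symm
  apply Finset.card_bij (fun v _ => g * v * g⁻¹)
  · intro v hv
    rw [mem_cc] at hv ⊢
    refine ⟨(conj_isConj g v).trans hv.1, ?_⟩
    calc g * v * g⁻¹ * (g * x * g⁻¹) = g * (v * x) * g⁻¹ := by group
      _ = g * (x * v) * g⁻¹ := by rw [hv.2]
      _ = g * x * g⁻¹ * (g * v * g⁻¹) := by group
  · intro v _ w _ h
    simpa using h
  · intro w hw
    rw [mem_cc] at hw
    refine ⟨g⁻¹ * w * g, ?_, by group⟩
    rw [mem_cc]
    refine ⟨?_, ?_⟩
    · have := conj_isConj g⁻¹ w
      rw [inv_inv] at this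
      exact this.trans hw.1
    · have h2 : g⁻¹ * (w * (g * x * g⁻¹)) * g = g⁻¹ * ((g * x * g⁻¹) * w) * g := by rw [hw.2]
      calc g⁻¹ * w * g * x = g⁻¹ * (w * (g * x * g⁻¹)) * g := by group
        _ = g⁻¹ * ((g * x * g⁻¹) * w) * g := h2
        _ = x * (g⁻¹ * w * g) := by group

theorem card_cc_of_isConj (a : G) {x y : G} (h : IsConj x y) : (cc a x).card = (cc a y).card := by
  obtain ⟨g, hg⟩ := isConj_iff.1 h
  rw [← hg, card_cc_conj]

/-- double counting of commuting pairs -/
theorem double_count (z t : G) :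
    (classSet z).card * (cc t z).card = (classSet t).card * (cc z t).card := by
  classical
  have h1 : ((classSet z ×ˢ classSet t).filter fun p => p.2 * p.1 = p.1 * p.2).card =
      (classSet z).card * (cc t z).card := by
    rw [Finset.card_filter, Finset.sum_product]
    have : ∀ x ∈ classSet z, (∑ y ∈ classSet t, if y * x = x * y then 1 else 0) = (cc t z).card := by
      intro x hx
      rw [← Finset.card_filter, ← card_cc_of_isConj t (mem_classSet.1 hx)]
      congr 1
      ext v
      rw [Finset.mem_filter, mem_classSet, mem_cc]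
    rw [Finset.sum_congr rfl this, Finset.sum_const, smul_eq_mul]
  have h2 : ((classSet z ×ˢ classSet t).filter fun p => p.2 * p.1 = p.1 * p.2).card =
      (classSet t).card * (cc z t).card := by
    rw [Finset.card_filter, Finset.sum_product_right]
    have : ∀ y ∈ classSet t, (∑ x ∈ classSet z, if y * x = x * y then 1 else 0) = (cc z t).card := by
      intro y hy
      rw [← Finset.card_filter, ← card_cc_of_isConj z (mem_classSet.1 hy)]
      congr 1
      ext v
      rw [Finset.mem_filter, mem_classSet, mem_cc]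
      exact and_congr_right fun _ => eq_comm
    rw [Finset.sum_congr rfl this, Finset.sum_const, smul_eq_mul]
  rw [← h1, h2]

/-- double counting, in terms of the centralizer orders -/
theorem double_count' (z t : G) :
    (cc t z).card * Nat.card (Subgroup.centralizer ({t} : Set G)) =
      (cc z t).card * Nat.card (Subgroup.centralizer ({z} : Set G)) := by
  have h := double_count z t
  have hA := card_classSet_mul z
  have hB := card_classSet_mul t
  have hpos : 0 < Fintype.card G := Fintype.card_pos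
  set A := (classSet z).card
  set B := (classSet t).card
  set cz := Nat.card (Subgroup.centralizer ({z} : Set G))
  set ct := Nat.card (Subgroup.centralizer ({t} : Set G))
  set n := Fintype.card G
  have key : n * ((cc t z).card * ct) = n * ((cc z t).card * cz) := by
    calc n * ((cc t z).card * ct) = (A * cz) * ((cc t z).card * ct) := by rw [hA]
      _ = (A * (cc t z).card) * (cz * ct) := by ring
      _ = (B * (cc z t).card) * (cz * ct) := by rw [h]
      _ = (B * ct) * ((cc z t).card * cz) := by ring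
      _ = n * ((cc z t).card * cz) := by rw [hB]
  exact Nat.eq_of_mul_eq_mul_left hpos key

end general

/-- the hypotheses on the centralizer of `z` -/
structure CzHyp (z t : G) (Q : Subgroup G) : Prop where
  hQ_le : Q ≤ Subgroup.centralizer ({z} : Set G)
  hQ_norm : ∀ c ∈ Subgroup.centralizer ({z} : Set G), ∀ q ∈ Q, c * q * c⁻¹ ∈ Q
  hzQ : z ∈ Q
  hsq : ∀ x ∈ Q, x * x = 1 ∨ x * x = z
  hN : {x : G | x ∈ Q ∧ x * x = 1}.ncard = 12
  hE8 : ∀ u ∈ Q, ∀ u' ∈ Q, u * u = 1 → u ≠ 1 → u ≠ z → u' * u' = 1 → u' * u = u * u' →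
    u' = 1 ∨ u' = z ∨ u' = u ∨ u' = u * z
  hCard : Nat.card (Subgroup.centralizer ({z} : Set G)) = 1920
  hQz : ∀ x ∈ Q, orderOf x = 2 → IsConj x z
  hCz : ∀ x ∈ Subgroup.centralizer ({z} : Set G), orderOf x = 2 → x ∉ Q → IsConj x t

section specific

variable [Fintype G] {z t : G} {V B Q : Subgroup G} (H : CtHyp z t V B) (Hz : CzHyp z t Q)

include H Hz

/-- the conjugates of `z` centralizing `z` are the involutions of `Q` -/
theorem mem_cc_zz {u : G} : u ∈ cc z z ↔ u ∈ Q ∧ u * u = 1 ∧ u ≠ 1 := by
  rw [mem_cc]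
  constructor
  · rintro ⟨hu, huz⟩
    refine ⟨?_, sq_of_isConj H.hz hu, ne_one_of_isConj H.hz hu⟩
    by_contra hQ
    have := Hz.hCz u (Subgroup.mem_centralizer_singleton_iff.2 huz) (orderOf_of_isConj H.hz hu) hQ
    exact H.hzt (hu.symm.trans this)
  · rintro ⟨hQ, h1, h2⟩
    exact ⟨Hz.hQz u hQ (orderOf_of_sq h1 h2),
      Subgroup.mem_centralizer_singleton_iff.1 (Hz.hQ_le hQ)⟩

/-- the conjugates of `t` centralizing `z` are the involutions of `C(z)` outside `Q` -/
theorem mem_cc_tz {v : G} : v ∈ cc t z ↔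
    v ∈ Subgroup.centralizer ({z} : Set G) ∧ v ∉ Q ∧ v * v = 1 ∧ v ≠ 1 := by
  rw [mem_cc]
  constructor
  · rintro ⟨hv, hvz⟩
    refine ⟨Subgroup.mem_centralizer_singleton_iff.2 hvz, ?_, sq_of_isConj H.ht hv,
      ne_one_of_isConj H.ht hv⟩
    intro hQ
    have := Hz.hQz v hQ (orderOf_of_isConj H.ht hv)
    exact H.hzt (this.symm.trans hv)
  · rintro ⟨hC, hQ, h1, h2⟩
    exact ⟨Hz.hCz v hC (orderOf_of_sq h1 h2) hQ, Subgroup.mem_centralizer_singleton_iff.1 hC⟩

omit Hz in
theorem card_cc_zt : (cc z t).card = 15 := by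
  rw [card_cc_eq_ncard, H.card_zclass]

theorem card_cc_tz [Finite G] : (cc t z).card = 120 := by
  have h := double_count' z t
  rw [card_cc_zt H, H.card_Ct, Hz.hCard] at h
  omega

theorem card_cc_zz : (cc z z).card = 11 := by
  classical
  have h1 : (cc z z) = (univ.filter fun x : G => x ∈ Q ∧ x * x = 1).erase 1 := by
    ext u
    rw [mem_cc_zz H Hz, Finset.mem_erase, Finset.mem_filter]
    constructor
    · rintro ⟨h1, h2, h3⟩
      exact ⟨h3, mem_univ _, h1, h2⟩
    · rintro ⟨h3, _, h1, h2⟩
      exact ⟨h1, h2, h3⟩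
  have h2 : (univ.filter fun x : G => x ∈ Q ∧ x * x = 1).card = 12 := by
    rw [← ncard_eq_card_filter, Hz.hN]
  rw [h1, Finset.card_erase_of_mem, h2]
  rw [Finset.mem_filter]
  exact ⟨mem_univ _, one_mem Q, one_mul 1⟩

omit Hz in
open Classical in
/-- every involution of `C(z)` outside `Q` commutes with exactly three involutions of `Q` -/
theorem card_comm_cc {v : G} (hv : v ∈ cc t z) :
    ((cc z z).filter fun u => u * v = v * u).card = 3 := by
  rw [mem_cc] at hv
  obtain ⟨g, hg⟩ := isConj_iff.1 hv.1.symm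
  -- v = g t g⁻¹
  set z₀ := g⁻¹ * z * g with hz₀
  have hz₀c : IsConj z₀ z := by
    have := conj_isConj g⁻¹ z
    rwa [inv_inv] at this
  have hz₀t : z₀ * t = t * z₀ := by
    have h1 : z * v = v * z := hv.2.symm
    rw [← hg] at h1
    calc z₀ * t = g⁻¹ * (z * (g * t * g⁻¹)) * g := by rw [hz₀]; group
      _ = g⁻¹ * ((g * t * g⁻¹) * z) * g := by rw [h1]
      _ = t * z₀ := by rw [hz₀]; group
  have hz₀B : z₀ ∈ B := H.mem_B_of_isConj hz₀c hz₀t
  have h3 := H.card_comm hz₀B (sq_of_isConj H.hz hz₀c) (ne_one_of_isConj H.hz hz₀c)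
  rw [ncard_eq_card_filter] at h3
  rw [← h3]
  symm
  apply Finset.card_bij (fun u _ => g * u * g⁻¹)
  · intro u hu
    rw [Finset.mem_filter] at hu
    obtain ⟨_, hu1, hu2, hu3⟩ := hu
    rw [Finset.mem_filter, mem_cc]
    refine ⟨⟨(conj_isConj g u).trans hu1, ?_⟩, ?_⟩
    · have : z = g * z₀ * g⁻¹ := by rw [hz₀]; group
      rw [this]
      calc g * u * g⁻¹ * (g * z₀ * g⁻¹) = g * (u * z₀) * g⁻¹ := by group
        _ = g * (z₀ * u) * g⁻¹ := by rw [hu2]
        _ = g * z₀ * g⁻¹ * (g * u * g⁻¹) := by group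
    · rw [← hg]
      calc g * u * g⁻¹ * (g * t * g⁻¹) = g * (u * t) * g⁻¹ := by group
        _ = g * (t * u) * g⁻¹ := by rw [hu3]
        _ = g * t * g⁻¹ * (g * u * g⁻¹) := by group
  · intro u _ w _ h
    simpa using h
  · intro w hw
    rw [Finset.mem_filter, mem_cc] at hw
    obtain ⟨⟨hw1, hw2⟩, hw3⟩ := hw
    refine ⟨g⁻¹ * w * g, ?_, by group⟩
    rw [Finset.mem_filter]
    refine ⟨mem_univ _, ?_, ?_, ?_⟩
    · have := conj_isConj g⁻¹ w
      rw [inv_inv] at this
      exact this.trans hw1
    · calc g⁻¹ * w * g * z₀ = g⁻¹ * (w * z) * g := by rw [hz₀]; group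
        _ = g⁻¹ * (z * w) * g := by rw [hw2]
        _ = z₀ * (g⁻¹ * w * g) := by rw [hz₀]; group
    · rw [← hg] at hw3
      calc g⁻¹ * w * g * t = g⁻¹ * (w * (g * t * g⁻¹)) * g := by group
        _ = g⁻¹ * ((g * t * g⁻¹) * w) * g := by rw [hw3]
        _ = t * (g⁻¹ * w * g) := by group

/-- the pairs counted by `a(z)` -/
theorem mem_pairSet_z {u v : G} :
    (u, v) ∈ pairSet z t z ↔ u ∈ cc z z ∧ v ∈ cc t z ∧ ¬ u * v = v * u := by
  have hz1 : z * z = 1 := sq_of_orderOf H.hz
  have hzne : z ≠ 1 := ne_one_of_orderOf H.hz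
  rw [mem_pairSet]
  constructor
  · rintro ⟨hu, hv, hc⟩
    have hu2 := sq_of_isConj H.hz hu
    have hv2 := sq_of_isConj H.ht hv
    have he := even_of_isConj H.hz H.ht H.hzt hu hv
    have huz : u * z = z * u := by
      have := cinv_comm_left hu2 hv2 he
      rwa [hc] at this
    have hvz : v * z = z * v := by
      have := cinv_comm_right hu2 hv2 he
      rwa [hc] at this
    have hucc : u ∈ cc z z := mem_cc.2 ⟨hu, huz⟩
    have hvcc : v ∈ cc t z := mem_cc.2 ⟨hv, hvz⟩
    refine ⟨hucc, hvcc, ?_⟩
    intro hcomm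
    -- then `u v` is an involution, equal to `z`
    have huv2 : (u * v) * (u * v) = 1 := by
      calc u * v * (u * v) = u * (v * u) * v := by group
        _ = u * (u * v) * v := by rw [hcomm]
        _ = (u * u) * (v * v) := by group
        _ = 1 := by rw [hu2, hv2, one_mul]
    have huv1 : u * v ≠ 1 := by
      intro h
      have : u = v⁻¹ := eq_inv_of_mul_eq_one_left h
      rw [inv_of_sq hv2] at this
      rw [this] at hu
      exact H.hzt (hu.symm.trans hv)
    have hord : orderOf (u * v) = 2 := orderOf_of_sq huv2 huv1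
    have hcz : u * v = z := by
      have := hc
      unfold cinv at this
      rw [hord] at this
      simpa using this
    have hvQ : v ∈ Q := by
      have : v = u * z := by
        rw [← hcz, ← mul_assoc, hu2, one_mul]
      rw [this]
      exact mul_mem ((mem_cc_zz H Hz).1 hucc).1 Hz.hzQ
    exact ((mem_cc_tz H Hz).1 hvcc).2.1 hvQ
  · rintro ⟨hucc, hvcc, hnc⟩
    have hu := (mem_cc.1 hucc).1
    have hv := (mem_cc.1 hvcc).1
    refine ⟨hu, hv, ?_⟩
    obtain ⟨huQ, hu2, hu1⟩ := (mem_cc_zz H Hz).1 hucc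
    obtain ⟨hvC, hvQ, hv2, hv1⟩ := (mem_cc_tz H Hz).1 hvcc
    have hvz : v * z = z * v := Subgroup.mem_centralizer_singleton_iff.1 hvC
    -- u' = v u v⁻¹
    set u' := v * u * v⁻¹ with hu'
    have hu'Q : u' ∈ Q := Hz.hQ_norm v hvC u huQ
    have hu'2 : u' * u' = 1 := by
      rw [hu']
      calc v * u * v⁻¹ * (v * u * v⁻¹) = v * (u * u) * v⁻¹ := by group
        _ = 1 := by rw [hu2]; group
    have he : (u * v) * (u * v) = u * u' := by
      rw [hu', inv_of_sq hv2]
      group
    have heQ : u * u' ∈ Q := mul_mem huQ hu'Q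
    have hune : u ≠ z := by
      intro h
      apply hnc
      rw [h]
      exact hvz.symm
    rcases Hz.hsq _ heQ with hee | hee
    · -- e is 1 or an involution
      by_cases he1 : u * u' = 1
      · exfalso
        apply hnc
        rw [he1] at he
        have h3 : u * v = (u * v)⁻¹ := (inv_of_sq he).symm
        rw [mul_inv_rev, inv_of_sq hu2, inv_of_sq hv2] at h3
        exact h3
      · by_cases hez : u * u' = z
        · -- order four
          have h4 : (u * v) ^ 2 ^ (1 + 1) = 1 := by
            have : (u * v) ^ 2 ^ (1 + 1) = ((u * v) * (u * v)) * ((u * v) * (u * v)) := by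
              norm_num
              rw [show (4 : ℕ) = 2 + 2 by norm_num, pow_add, pow_two]
            rw [this, he, hez, hz1]
          have h2 : ¬ (u * v) ^ 2 ^ 1 = 1 := by
            rw [pow_one, pow_two, he, hez]
            exact hzne
          have hord : orderOf (u * v) = 2 ^ (1 + 1) := orderOf_eq_prime_pow h2 h4
          unfold cinv
          rw [hord]
          norm_num
          rw [pow_two, he, hez]
        · exfalso
          have hcomm' : u' * u = u * u' := by
            have h3 : u * u' = (u * u')⁻¹ := (inv_of_sq hee).symm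
            rw [mul_inv_rev, inv_of_sq hu2, inv_of_sq hu'2] at h3
            exact h3.symm
          rcases Hz.hE8 u huQ u' hu'Q hu2 hu1 hune hu'2 hcomm' with h | h | h | h
          · rw [hu'] at h
            apply hu1
            calc u = v⁻¹ * (v * u * v⁻¹) * v := by group
              _ = 1 := by rw [h]; group
          · rw [hu'] at h
            apply hune
            calc u = v⁻¹ * (v * u * v⁻¹) * v := by group
              _ = v⁻¹ * z * v := by rw [h]
              _ = v⁻¹ * (z * v) := by group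
              _ = v⁻¹ * (v * z) := by rw [hvz]
              _ = z := by group
          · apply he1
            rw [h, hu2]
          · apply hez
            rw [h, ← mul_assoc, hu2, one_mul]
    · -- order eight
      have h8 : (u * v) ^ 2 ^ (2 + 1) = 1 := by
        have : (u * v) ^ 2 ^ (2 + 1) = (((u * v) * (u * v)) * ((u * v) * (u * v))) *
            (((u * v) * (u * v)) * ((u * v) * (u * v))) := by
          norm_num
          rw [show (8 : ℕ) = (2 + 2) + (2 + 2) by norm_num, pow_add, pow_add, pow_two]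
        rw [this, he, hee, hz1]
      have h4 : ¬ (u * v) ^ 2 ^ 2 = 1 := by
        have : (u * v) ^ 2 ^ 2 = ((u * v) * (u * v)) * ((u * v) * (u * v)) := by
          norm_num
          rw [show (4 : ℕ) = 2 + 2 by norm_num, pow_add, pow_two]
        rw [this, he, hee]
        exact hzne
      have hord : orderOf (u * v) = 2 ^ (2 + 1) := orderOf_eq_prime_pow h4 h8
      unfold cinv
      rw [hord]
      norm_num
      rw [show (4 : ℕ) = 2 + 2 by norm_num, pow_add, pow_two, he, hee]

open Classical in
/-- `a(z) = 960` -/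
theorem a_z [Finite G] : (pairSet z t z).card = 960 := by
  have h1 : pairSet z t z = (cc z z ×ˢ cc t z).filter fun p => ¬ p.1 * p.2 = p.2 * p.1 := by
    ext ⟨u, v⟩
    rw [mem_pairSet_z H Hz, Finset.mem_filter, Finset.mem_product]
    tauto
  rw [h1, Finset.card_filter, Finset.sum_product_right]
  have h2 : ∀ v ∈ cc t z, (∑ u ∈ cc z z, if ¬ u * v = v * u then 1 else 0) = 8 := by
    intro v hv
    rw [← Finset.card_filter]
    have h3 := card_comm_cc H hv
    have h4 := Finset.card_filter_add_card_filter_not (s := cc z z)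
      (fun u => u * v = v * u)
    rw [h3, card_cc_zz H Hz] at h4
    omega
  rw [Finset.sum_congr rfl h2, Finset.sum_const, card_cc_tz H Hz, smul_eq_mul]

end specific

end Cfsg.Agent.Lib.Helper7.TOF
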