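import Cfsg.Agent.Lib.Helper7.TOFE
import Cfsg.Agent.Lib.Helper7.TOFD
import Cfsg.Agent.H2.Layer
import Cfsg.Agent.H2.BenderLemma
import Cfsg.Prelude.Def_TwoFusion

/-! # The order of a group with the Hall–Janko involution pattern: assembling the hypotheses -/

set_option autoImplicit false

namespace Cfsg.Agent.Lib.Helper7.TOF

open Finset

variable {G : Type*} [Group G]

section fixed

open Classical in
/-- the fixed points of conjugation by an element of order five on an invariant set -/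
theorem card_modEq_fixed (g : G) (hg : g ^ 5 = 1) (S : Finset G)
    (hS : ∀ x ∈ S, g * x * g⁻¹ ∈ S) :
    S.card ≡ (S.filter fun x => g * x = x * g).card [MOD 5] := by
  have : Fact (Nat.Prime 5) := ⟨by norm_num⟩
  let f : Function.End {x // x ∈ S} := fun x => ⟨g * x.1 * g⁻¹, hS x.1 x.2⟩
  have hpow : ∀ (n : ℕ) (x : {x // x ∈ S}), ((f ^ n) x).1 = g ^ n * x.1 * (g ^ n)⁻¹ := by
    intro n
    induction n with
    | zero =>
      intro x
      rw [pow_zero, pow_zero, inv_one, one_mul, mul_one]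
      rfl
    | succ n ih =>
      intro x
      rw [pow_succ]
      show ((f ^ n) (f x)).1 = _
      rw [ih]
      show g ^ n * (g * x.1 * g⁻¹) * (g ^ n)⁻¹ = _
      rw [pow_succ]
      group
  have hf : f ^ 5 ^ 1 = 1 := by
    funext x
    apply Subtype.ext
    rw [pow_one, hpow, hg, inv_one, one_mul, mul_one]
    rfl
  have h := Equiv.Perm.card_fixedPoints_modEq (p := 5) (n := 1) hf
  rw [Fintype.card_coe] at h
  have h2 : Fintype.card (Function.fixedPoints f) = (S.filter fun x => g * x = x * g).card := by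
    rw [← Fintype.card_coe]
    apply Fintype.card_congr
    refine ⟨fun x => ⟨x.1.1, ?_⟩, fun y => ⟨⟨y.1, (Finset.mem_filter.1 y.2).1⟩, ?_⟩, ?_, ?_⟩
    · rw [Finset.mem_filter]
      refine ⟨x.1.2, ?_⟩
      have := congrArg Subtype.val x.2
      change g * x.1.1 * g⁻¹ = x.1.1 at this
      rw [mul_inv_eq_iff_eq_mul] at this
      exact this
    · apply Subtype.ext
      change g * y.1 * g⁻¹ = y.1
      rw [mul_inv_eq_iff_eq_mul]
      exact (Finset.mem_filter.1 y.2).2
    · intro x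
      rfl
    · intro y
      rfl
  rw [h2] at h
  exact h

end fixed

section Cz

variable (z : G)

/-- the centralizer of `z` -/
abbrev Cz : Subgroup G := Subgroup.centralizer ({z} : Set G)

/-- `O₂(C(z))`, inside `C(z)` -/
abbrev Q0 : Subgroup ↥(Cz z) := Cfsg.pCore 2 ↥(Cz z)

/-- `O₂(C(z))`, inside `G` -/
abbrev Qg : Subgroup G := (Q0 z).map (Cz z).subtype

/-- the inclusion of `O₂(C(z))` -/
def incl : ↥(Q0 z) →* G := (Cz z).subtype.comp (Q0 z).subtype

theorem incl_injective : Function.Injective (incl z) := by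
  intro a b h
  exact Subtype.ext (Subtype.ext h)

theorem mem_Qg_iff {x : G} : x ∈ Qg z ↔ ∃ q : ↥(Q0 z), incl z q = x := by
  constructor
  · rintro ⟨c, hc, rfl⟩
    exact ⟨⟨c, hc⟩, rfl⟩
  · rintro ⟨q, rfl⟩
    exact ⟨q.1, q.2, rfl⟩

theorem incl_mem (q : ↥(Q0 z)) : incl z q ∈ Qg z := (mem_Qg_iff z).2 ⟨q, rfl⟩

theorem Qg_le : Qg z ≤ Cz z := Subgroup.map_subtype_le _

theorem Qg_norm : ∀ c ∈ Cz z, ∀ q ∈ Qg z, c * q * c⁻¹ ∈ Qg z := by
  intro c hc q hq
  obtain ⟨q', hq', rfl⟩ := hq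
  have hn : (Q0 z).Normal := Cfsg.Agent.H1.pCore_normal 2
  exact ⟨⟨c, hc⟩ * q' * ⟨c, hc⟩⁻¹, hn.conj_mem q' hq' ⟨c, hc⟩, rfl⟩

theorem card_Qg : Nat.card ↥(Qg z) = Nat.card ↥(Q0 z) :=
  Subgroup.card_map_of_injective (Subgroup.subtype_injective _)

variable {z}

theorem z_mem_Cz : z ∈ Cz z := Subgroup.mem_centralizer_singleton_iff.2 rfl

variable [Finite G]

omit [Finite G] in
theorem z_mem_Q0 (hz : orderOf z = 2) : (⟨z, z_mem_Cz⟩ : ↥(Cz z)) ∈ Q0 z := by
  have : Fact (Nat.Prime 2) := ⟨Nat.prime_two⟩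
  set c : ↥(Cz z) := ⟨z, z_mem_Cz⟩ with hc
  have hcen : ∀ y : ↥(Cz z), y * c = c * y := fun y =>
    Subtype.ext (Subgroup.mem_centralizer_singleton_iff.1 y.2)
  have hnorm : (Subgroup.zpowers c).Normal := by
    constructor
    intro n hn y
    obtain ⟨k, rfl⟩ := Subgroup.mem_zpowers_iff.1 hn
    have : y * c ^ k * y⁻¹ = c ^ k := by
      have h1 : Commute y c := hcen y
      rw [(h1.zpow_right k).eq, mul_inv_cancel_right]
    rw [this]
    exact Subgroup.zpow_mem_zpowers c k
  have hord : orderOf c = 2 := by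
    rw [← hz, ← Subgroup.orderOf_coe c]
  have hp : IsPGroup 2 (Subgroup.zpowers c) := by
    apply IsPGroup.of_card (n := 1)
    rw [Nat.card_zpowers, hord, pow_one]
  exact Cfsg.Agent.H1.le_pCore hnorm hp (Subgroup.mem_zpowers c)

omit [Finite G] in
theorem z_mem_Qg (hz : orderOf z = 2) : z ∈ Qg z := ⟨_, z_mem_Q0 hz, rfl⟩

variable (hex : Cfsg.IsExtraspecial 2 ↥(Cfsg.generalizedFittingSubgroup ↥(Cz z)))

include hex in
theorem fstar_eq : Cfsg.generalizedFittingSubgroup ↥(Cz z) = Q0 z := by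
  have : Fact (Nat.Prime 2) := ⟨Nat.prime_two⟩
  apply le_antisymm
  · exact Cfsg.Agent.H1.le_pCore inferInstance hex.1.1
  · refine le_trans ?_ Cfsg.Agent.H2.fittingSubgroup_le_generalizedFittingSubgroup
    exact Cfsg.Agent.H1.le_fittingSubgroup inferInstance
      (Cfsg.Agent.H1.pCore_isPGroup 2).isNilpotent

include hex in
theorem Q0_extraspecial : Cfsg.IsExtraspecial 2 ↥(Q0 z) := by
  have h := fstar_eq hex
  rw [← h]
  exact hex

include hex in
theorem self_cent (c : ↥(Cz z)) (h : ∀ q ∈ Q0 z, q * c = c * q) : c ∈ Q0 z := by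
  have h1 := Cfsg.Agent.H2.centralizer_generalizedFittingSubgroup_le (G := ↥(Cz z))
  rw [fstar_eq hex] at h1
  apply h1
  rw [Subgroup.mem_centralizer_iff]
  exact h

/-- the central involution, as an element of `O₂(C(z))` -/
def z0 (hz : orderOf z = 2) : ↥(Q0 z) := ⟨⟨z, z_mem_Cz⟩, z_mem_Q0 hz⟩

omit [Finite G] in
theorem incl_z0 (hz : orderOf z = 2) : incl z (z0 hz) = z := rfl

include hex in
theorem es_Q0 (hz : orderOf z = 2) : ES ↥(Q0 z) (z0 hz) := by
  obtain ⟨z', E⟩ := exists_ES (Q0_extraspecial hex)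
  have hcen : ∀ y : ↥(Q0 z), z0 hz * y = y * z0 hz := by
    intro y
    apply incl_injective
    rw [map_mul, map_mul, incl_z0]
    exact (Subgroup.mem_centralizer_singleton_iff.1 y.1.2).symm
  have hne : z0 hz ≠ 1 := by
    intro h
    have := congrArg (incl z) h
    rw [incl_z0, map_one] at this
    exact ne_one_of_orderOf hz this
  rcases E.cent (z0 hz) hcen with h | h
  · exact absurd h hne
  · rw [h]
    exact E

include hex in
theorem Qg_sq (hz : orderOf z = 2) : ∀ x ∈ Qg z, x * x = 1 ∨ x * x = z := by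
  intro x hx
  obtain ⟨q, rfl⟩ := (mem_Qg_iff z).1 hx
  rcases (es_Q0 hex hz).sq q with h | h
  · left
    rw [← map_mul, h, map_one]
  · right
    rw [← map_mul, h, incl_z0]

omit [Finite G] in
theorem ncard_bridge (P' : G → Prop) :
    {x : G | x ∈ Qg z ∧ P' x}.ncard = Nat.card {q : ↥(Q0 z) // P' (incl z q)} := by
  have h1 : {x : G | x ∈ Qg z ∧ P' x} = incl z '' {q : ↥(Q0 z) | P' (incl z q)} := by
    ext x
    constructor
    · rintro ⟨hx, hP⟩
      obtain ⟨q, rfl⟩ := (mem_Qg_iff z).1 hx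
      exact ⟨q, hP, rfl⟩
    · rintro ⟨q, hq, rfl⟩
      exact ⟨incl_mem z q, hq⟩
  rw [h1, Set.ncard_image_of_injective _ (incl_injective z), ← Nat.card_coe_set_eq]
  rfl

theorem a5_five : ∃ a : A5, a ^ 5 = 1 ∧ a ≠ 1 := by
  decide +kernel

variable (hQ : Nat.card ↥(Q0 z) = 32) {K : Subgroup G} (hK : Nonempty (↥K ≃* A5))
  (hKC : K ⊔ Qg z = Cz z) (hKQ : K ⊓ Qg z = ⊥)

include hK in
omit [Finite G] in
theorem exists_five : ∃ g ∈ K, g ^ 5 = 1 ∧ g ≠ 1 := by
  obtain ⟨e⟩ := hK
  obtain ⟨a, ha5, ha1⟩ := a5_five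
  refine ⟨(e.symm a : ↥K), (e.symm a).2, ?_, ?_⟩
  · rw [← Subgroup.coe_pow, ← map_pow, ha5, map_one]
    rfl
  · intro h
    apply ha1
    have : e.symm a = 1 := Subtype.ext h
    rw [MulEquiv.map_eq_one_iff] at this
    exact this

include hKC in
omit [Finite G] in
theorem K_le_Cz : K ≤ Cz z := hKC ▸ le_sup_left

include hex hQ hKC hKQ in
/-- an element of order five of `K` fixes only the centre of `Q` -/
theorem fixed_in_Q (hz : orderOf z = 2) {g : G} (hgK : g ∈ K) (hg5 : g ^ 5 = 1) (hg1 : g ≠ 1) :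
    ∀ x ∈ Qg z, g * x = x * g → x = 1 ∨ x = z := by
  classical
  have := Fintype.ofFinite G
  intro x hx hgx
  by_contra hne
  push Not at hne
  have hgC : g ∈ Cz z := K_le_Cz hKC hgK
  have hgz : g * z = z * g := Subgroup.mem_centralizer_singleton_iff.1 hgC
  set D : Subgroup G := Qg z ⊓ Subgroup.centralizer ({g} : Set G) with hD
  set S : Finset G := univ.filter (· ∈ Qg z) with hS
  have hSc : ∀ x ∈ S, g * x * g⁻¹ ∈ S := by
    intro x hx
    rw [hS, Finset.mem_filter] at hx ⊢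
    exact ⟨mem_univ _, Qg_norm z g hgC x hx.2⟩
  have h1 := card_modEq_fixed g hg5 S hSc
  have hcardQ : Nat.card ↥(Qg z) = 32 := by rw [card_Qg, hQ]
  have hScard : S.card = 32 := by
    rw [← hcardQ, Nat.card_eq_fintype_card, Fintype.card_subtype]
  have hDcard : (S.filter fun x => g * x = x * g).card = Nat.card ↥D := by
    rw [Nat.card_eq_fintype_card, Fintype.card_subtype]
    congr 1
    ext y
    rw [Finset.mem_filter, hS, Finset.mem_filter, Finset.mem_filter, hD, Subgroup.mem_inf,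
      Subgroup.mem_centralizer_singleton_iff]
    constructor
    · rintro ⟨⟨_, h1⟩, h2⟩
      exact ⟨mem_univ _, h1, h2.symm⟩
    · rintro ⟨_, h1, h2⟩
      exact ⟨⟨mem_univ _, h1⟩, h2.symm⟩
  have hdvd : Nat.card ↥D ∣ 2 ^ 5 := by
    have := Subgroup.card_dvd_of_le (inf_le_left : D ≤ Qg z)
    rw [hcardQ] at this
    exact this
  have h3 : 3 ≤ Nat.card ↥D := by
    rw [← hDcard]
    have hsub : ({1, z, x} : Finset G) ⊆ S.filter fun x => g * x = x * g := by
      intro y hy
      simp only [Finset.mem_insert, Finset.mem_singleton] at hy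
      rw [Finset.mem_filter, hS, Finset.mem_filter]
      rcases hy with rfl | rfl | rfl
      · exact ⟨⟨mem_univ _, one_mem _⟩, by rw [mul_one, one_mul]⟩
      · exact ⟨⟨mem_univ _, z_mem_Qg hz⟩, hgz⟩
      · exact ⟨⟨mem_univ _, hx⟩, hgx⟩
    have hc3 : ({1, z, x} : Finset G).card = 3 := by
      rw [Finset.card_insert_of_notMem, Finset.card_insert_of_notMem, Finset.card_singleton]
      · simp only [Finset.mem_singleton]
        exact fun h => hne.2 h.symm
      · simp only [Finset.mem_insert, Finset.mem_singleton, not_or]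
        exact ⟨fun h => ne_one_of_orderOf hz h.symm, fun h => hne.1 h.symm⟩
    rw [← hc3]
    exact Finset.card_le_card hsub
  rw [hScard, hDcard] at h1
  have h32 : Nat.card ↥D = 32 := by
    obtain ⟨k, hk, hkd⟩ := (Nat.dvd_prime_pow Nat.prime_two).1 hdvd
    rw [hkd] at h1 h3 ⊢
    unfold Nat.ModEq at h1
    interval_cases k <;> omega
  have hDQ : D = Qg z :=
    Subgroup.eq_of_le_of_card_ge inf_le_left (by rw [h32, hcardQ])
  have hcent : ∀ q ∈ Qg z, q * g = g * q := by
    intro q hq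
    rw [← hDQ] at hq
    exact Subgroup.mem_centralizer_singleton_iff.1 hq.2
  have hgQ0 : (⟨g, hgC⟩ : ↥(Cz z)) ∈ Q0 z := by
    apply self_cent hex
    intro q hq
    apply Subtype.ext
    exact hcent q.1 ⟨q, hq, rfl⟩
  have hgQ : g ∈ Qg z := ⟨_, hgQ0, rfl⟩
  have : g ∈ K ⊓ Qg z := ⟨hgK, hgQ⟩
  rw [hKQ] at this
  exact hg1 this

include hex hQ hK hKC hKQ in
/-- `Q` has exactly twelve elements of square one -/
theorem Qg_count (hz : orderOf z = 2) : {x : G | x ∈ Qg z ∧ x * x = 1}.ncard = 12 := by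
  classical
  have := Fintype.ofFinite G
  obtain ⟨g, hgK, hg5, hg1⟩ := exists_five hK
  have hgC : g ∈ Cz z := K_le_Cz hKC hgK
  have hgz : g * z = z * g := Subgroup.mem_centralizer_singleton_iff.1 hgC
  have hz1 : z ≠ 1 := ne_one_of_orderOf hz
  have hz2 : z * z = 1 := sq_of_orderOf hz
  set S : Finset G := univ.filter fun x => x ∈ Qg z ∧ x * x = 1 ∧ x ≠ 1 ∧ x ≠ z with hS
  have hSc : ∀ x ∈ S, g * x * g⁻¹ ∈ S := by
    intro x hx
    rw [hS, Finset.mem_filter] at hx ⊢
    obtain ⟨_, h1, h2, h3, h4⟩ := hx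
    refine ⟨mem_univ _, Qg_norm z g hgC x h1, ?_, ?_, ?_⟩
    · calc g * x * g⁻¹ * (g * x * g⁻¹) = g * (x * x) * g⁻¹ := by group
        _ = 1 := by rw [h2]; group
    · intro h
      apply h3
      calc x = g⁻¹ * (g * x * g⁻¹) * g := by group
        _ = 1 := by rw [h]; group
    · intro h
      apply h4
      calc x = g⁻¹ * (g * x * g⁻¹) * g := by group
        _ = g⁻¹ * z * g := by rw [h]
        _ = g⁻¹ * (z * g) := by group
        _ = g⁻¹ * (g * z) := by rw [hgz]
        _ = z := by group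
  have h1 := card_modEq_fixed g hg5 S hSc
  have hfix : (S.filter fun x => g * x = x * g) = ∅ := by
    rw [Finset.filter_eq_empty_iff]
    intro x hx hgx
    rw [hS, Finset.mem_filter] at hx
    obtain ⟨_, h1, _, h3, h4⟩ := hx
    rcases fixed_in_Q hex hQ hKC hKQ hz hgK hg5 hg1 x h1 hgx with h | h
    · exact h3 h
    · exact h4 h
  rw [hfix, Finset.card_empty] at h1
  -- the count
  have hall : (univ.filter fun x : G => x ∈ Qg z ∧ x * x = 1) = insert 1 (insert z S) := by
    ext x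
    rw [Finset.mem_filter, Finset.mem_insert, Finset.mem_insert, hS, Finset.mem_filter]
    constructor
    · rintro ⟨_, h1, h2⟩
      by_cases hx1 : x = 1
      · left; exact hx1
      · by_cases hxz : x = z
        · right; left; exact hxz
        · right; right; exact ⟨mem_univ _, h1, h2, hx1, hxz⟩
    · rintro (rfl | rfl | ⟨_, h1, h2, _⟩)
      · exact ⟨mem_univ _, one_mem _, one_mul 1⟩
      · exact ⟨mem_univ _, z_mem_Qg hz, hz2⟩
      · exact ⟨mem_univ _, h1, h2⟩
  have hcount : (univ.filter fun x : G => x ∈ Qg z ∧ x * x = 1).card = S.card + 2 := by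
    rw [hall, Finset.card_insert_of_notMem, Finset.card_insert_of_notMem]
    · rw [hS, Finset.mem_filter]
      exact fun h => h.2.2.2.2 rfl
    · rw [Finset.mem_insert, hS, Finset.mem_filter]
      rintro (h | h)
      · exact hz1 h.symm
      · exact h.2.2.2.1 rfl
  rw [ncard_eq_card_filter, hcount]
  -- the possible values
  have hb := ncard_bridge (z := z) (fun x => x * x = 1)
  rw [ncard_eq_card_filter, hcount] at hb
  have hb2 : Nat.card {q : ↥(Q0 z) // incl z q * incl z q = 1} =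
      Nat.card {q : ↥(Q0 z) // q ^ 2 = 1} := by
    apply Nat.card_congr
    refine Equiv.subtypeEquivRight (fun q => ?_)
    rw [pow_two, ← map_mul]
    constructor
    · intro h
      apply incl_injective
      rw [h, map_one]
    · intro h
      rw [h, map_one]
  rw [hb2] at hb
  have hv := card_sq_one (Q0_extraspecial hex) hQ
  rw [← hb] at hv
  unfold Nat.ModEq at h1
  omega

include hex hQ hK hKC hKQ in
/-- `Q` has no elementary abelian subgroup of order eight -/
theorem Qg_E8 (hz : orderOf z = 2) : ∀ u ∈ Qg z, ∀ u' ∈ Qg z, u * u = 1 → u ≠ 1 → u ≠ z →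
    u' * u' = 1 → u' * u = u * u' → u' = 1 ∨ u' = z ∨ u' = u ∨ u' = u * z := by
  classical
  intro u hu u' hu' hu2 hu1 huz hu'2 hc
  obtain ⟨q, rfl⟩ := (mem_Qg_iff z).1 hu
  obtain ⟨q', rfl⟩ := (mem_Qg_iff z).1 hu'
  have := Fintype.ofFinite ↥(Q0 z)
  have hcard : Fintype.card ↥(Q0 z) = 32 := by rw [← Nat.card_eq_fintype_card, hQ]
  have hN : (univ.filter fun x : ↥(Q0 z) => x * x = 1).card = 12 := by
    have h1 := Qg_count hex hQ hK hKC hKQ hz
    rw [ncard_bridge (z := z) (fun x => x * x = 1), Nat.card_eq_fintype_card,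
      Fintype.card_subtype] at h1
    rw [← h1]
    congr 1
    ext x
    rw [Finset.mem_filter, Finset.mem_filter, ← map_mul]
    constructor
    · rintro ⟨_, h⟩
      exact ⟨mem_univ _, by rw [h, map_one]⟩
    · rintro ⟨_, h⟩
      refine ⟨mem_univ _, ?_⟩
      apply incl_injective
      rw [h, map_one]
  have E := es_Q0 hex hz
  have key := E.comm_inv hcard (by convert hN) (u := q) (u' := q')
    (by apply incl_injective; rw [map_mul, hu2, map_one])
    (by intro h; apply hu1; rw [h, map_one])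
    (by intro h; apply huz; rw [h, incl_z0])
    (by apply incl_injective; rw [map_mul, hu'2, map_one])
    (by apply incl_injective; rw [map_mul, map_mul, hc])
  rcases key with h | h | h | h
  · left; rw [h, map_one]
  · right; left; rw [h, incl_z0]
  · right; right; left; rw [h]
  · right; right; right; rw [h, map_mul, incl_z0]

include hQ hK hKC hKQ in
omit [Finite G] in
/-- the order of `C(z)` -/
theorem card_Cz : Nat.card ↥(Cz z) = 1920 := by
  obtain ⟨e⟩ := hK
  have hnorm : K ≤ Subgroup.normalizer (Qg z : Set G) := by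
    intro k hk
    have hkC := K_le_Cz hKC hk
    rw [Subgroup.mem_normalizer_iff]
    intro h
    constructor
    · intro hh
      exact Qg_norm z k hkC h hh
    · intro hh
      have := Qg_norm z k⁻¹ (inv_mem hkC) _ hh
      rw [inv_inv] at this
      have e2 : k⁻¹ * (k * h * k⁻¹) * k = h := by group
      rwa [e2] at this
  have hset := Subgroup.coe_mul_of_left_le_normalizer_right K (Qg z) hnorm
  rw [hKC] at hset
  have hbij : Function.Bijective (fun p : ↥K × ↥(Qg z) =>
      (⟨p.1.1 * p.2.1, by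
        rw [← SetLike.mem_coe, hset]
        exact Set.mul_mem_mul p.1.2 p.2.2⟩ : ↥(Cz z))) := by
    constructor
    · rintro ⟨k, q⟩ ⟨k', q'⟩ h
      have h0 : k.1 * q.1 = k'.1 * q'.1 := congrArg Subtype.val h
      have h1 : k'.1⁻¹ * k.1 = q'.1 * q.1⁻¹ := by
        calc k'.1⁻¹ * k.1 = k'.1⁻¹ * (k.1 * q.1) * q.1⁻¹ := by group
          _ = k'.1⁻¹ * (k'.1 * q'.1) * q.1⁻¹ := by rw [h0]
          _ = q'.1 * q.1⁻¹ := by group
      have h2 : k'.1⁻¹ * k.1 ∈ K ⊓ Qg z :=
        Subgroup.mem_inf.2 ⟨mul_mem (inv_mem k'.2) k.2, h1 ▸ mul_mem q'.2 (inv_mem q.2)⟩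
      rw [hKQ, Subgroup.mem_bot] at h2
      have h3 : q'.1 * q.1⁻¹ = 1 := by rw [← h1, h2]
      have hk : k = k' := Subtype.ext (inv_mul_eq_one.1 h2).symm
      have hq : q = q' := Subtype.ext (mul_inv_eq_one.1 h3).symm
      rw [hk, hq]
    · rintro ⟨c, hc⟩
      rw [← SetLike.mem_coe, hset] at hc
      obtain ⟨k, hk, q, hq, rfl⟩ := hc
      exact ⟨(⟨k, hk⟩, ⟨q, hq⟩), rfl⟩
  rw [← Nat.card_congr (Equiv.ofBijective _ hbij), Nat.card_prod, card_B e, card_Qg, hQ]

end Cz

/-- A finite group with the involution pattern of the Hall–Janko group has order 604800. -/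
theorem order_eq [Finite G] (z t : G) (hz : orderOf z = 2) (ht : orderOf t = 2)
    (hzt : ¬ IsConj z t) (hcl : ∀ x : G, orderOf x = 2 → IsConj x z ∨ IsConj x t)
    (hex : Cfsg.IsExtraspecial 2 ↥(Cfsg.generalizedFittingSubgroup ↥(Subgroup.centralizer ({z} : Set G))))
    (hQ : Nat.card ↥(Cfsg.pCore 2 ↥(Subgroup.centralizer ({z} : Set G))) = 32)
    (K : Subgroup G) (hK : Nonempty (↥K ≃* alternatingGroup (Fin 5)))
    (hKC : K ⊔ (Cfsg.pCore 2 ↥(Subgroup.centralizer ({z} : Set G))).map (Subgroup.centralizer ({z} : Set G)).subtype = Subgroup.centralizer ({z} : Set G))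
    (hKQ : K ⊓ (Cfsg.pCore 2 ↥(Subgroup.centralizer ({z} : Set G))).map (Subgroup.centralizer ({z} : Set G)).subtype = ⊥)
    (hQz : ∀ x ∈ (Cfsg.pCore 2 ↥(Subgroup.centralizer ({z} : Set G))).map (Subgroup.centralizer ({z} : Set G)).subtype, orderOf x = 2 → IsConj x z)
    (hCz : ∀ x ∈ Subgroup.centralizer ({z} : Set G), orderOf x = 2 →
      x ∉ (Cfsg.pCore 2 ↥(Subgroup.centralizer ({z} : Set G))).map (Subgroup.centralizer ({z} : Set G)).subtype → IsConj x t)
    (V B : Subgroup G) (hVB : Cfsg.IsInternalDirectProduct V B (Subgroup.centralizer ({t} : Set G)))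
    (hV : Nat.card ↥V = 4) (hV2 : ∀ v ∈ V, v ^ 2 = 1) (htV : t ∈ V) (hB : Nonempty (↥B ≃* alternatingGroup (Fin 5)))
    (hBz : ∀ x ∈ B, orderOf x = 2 → IsConj x z)
    (hCt : ∀ x ∈ Subgroup.centralizer ({t} : Set G), orderOf x = 2 → x ∉ B → IsConj x t) :
    Nat.card G = 604800 := by
  have := Fintype.ofFinite G
  obtain ⟨h1, h2, h3, h4, h5⟩ := hVB
  have H : CtHyp z t V B := ⟨hz, ht, hzt, h1, h2, h3, h4, h5, hV, hV2, htV, hB, hBz, hCt⟩
  have Hz : CzHyp z t (Qg z) :=
    { hQ_le := Qg_le z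
      hQ_norm := Qg_norm z
      hzQ := z_mem_Qg hz
      hsq := Qg_sq hex hz
      hN := Qg_count hex hQ hK hKC hKQ hz
      hE8 := Qg_E8 hex hQ hK hKC hKQ hz
      hCard := card_Cz hQ hK hKC hKQ
      hQz := hQz
      hCz := hCz }
  have hT := thompson_order_formula hz ht hzt hcl
  rw [a_z H Hz, H.a_t, H.card_Ct, Hz.hCard] at hT
  rw [Nat.card_eq_fintype_card, hT]



end Cfsg.Agent.Lib.Helper7.TOF
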