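import Mathlib
import Cfsg.Prelude.Def_FusionSystem
import Cfsg.Agent.Lib.Helper7.TateFusC
import Cfsg.Agent.Lib.Helper7.Tate

/-!
# Tate's theorem for fusion systems, part D: a hyperfocal subgroup inside the Frattini subgroup is trivial
-/

set_option autoImplicit false

universe u

namespace Cfsg.Agent.Lib.Helper7.TateFus

open Cfsg Cfsg.FusionSystem Cfsg.Agent.Lib.Helper7
open scoped commutatorElement IsMulCommutative

/-- the abstract group-theoretic step -/
theorem eq_bot_of_extension_property {P : Type u} [Group P] [Finite P] {p : ℕ} [Fact p.Prime]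
    (hP : IsPGroup p P) (T : Subgroup P) [hTn : T.Normal] (hTΦ : T ≤ frattini P)
    (hext : ∀ (C : Type u) [CommGroup C], (∀ c : C, ∃ k : ℕ, c ^ p ^ k = 1) →
      ∀ χ : ↥T →* C,
      (∀ (b t : P) (ht : t ∈ T) (ht' : b * t * b⁻¹ ∈ T), χ ⟨b * t * b⁻¹, ht'⟩ = χ ⟨t, ht⟩) →
      ∃ (n : ℕ) (lam : P →* C), ¬ p ∣ n ∧ ∀ t : ↥T, lam (t : P) = χ t ^ n) : T = ⊥ := by
  classical
  have hp : p.Prime := Fact.out
  by_contra hT
  set M : Subgroup P := ⁅(⊤ : Subgroup P), T⁆ with hM
  have hMn : M.Normal := Subgroup.commutator_normal _ _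
  have hMT : M ≤ T := Subgroup.commutator_le_right _ _
  have hcomm : ∀ (u : P) (t : P), t ∈ T → u * t * u⁻¹ * t⁻¹ ∈ M := by
    intro u t ht
    have := Subgroup.commutator_mem_commutator (Subgroup.mem_top u) ht
    rwa [commutatorElement_def] at this
  -- ψ
  let ψ₀ : ↥T →* P ⧸ M := (QuotientGroup.mk' M).comp T.subtype
  have hcen : ∀ t : ↥T, ψ₀ t ∈ Subgroup.center (P ⧸ M) := by
    intro t
    rw [Subgroup.mem_center_iff]
    intro y
    obtain ⟨u, rfl⟩ := QuotientGroup.mk_surjective y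
    show (QuotientGroup.mk u : P ⧸ M) * QuotientGroup.mk (t : P) = QuotientGroup.mk (t : P) * QuotientGroup.mk u
    rw [← QuotientGroup.mk_mul, ← QuotientGroup.mk_mul, QuotientGroup.eq]
    have h1 := hcomm u t t.2
    have h2 := hMn.conj_mem _ (M.inv_mem h1) (u * (t : P))⁻¹
    have e : (u * (t : P))⁻¹ * (u * t * u⁻¹ * (t : P)⁻¹)⁻¹ * (u * (t : P))⁻¹⁻¹ = (u * t)⁻¹ * (t * u) := by
      group
    rwa [e] at h2
  let ψ : ↥T →* Subgroup.center (P ⧸ M) := ψ₀.codRestrict _ hcen
  let χ : ↥T →* ψ.range := ψ.rangeRestrict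
  have hχsurj : Function.Surjective χ := ψ.rangeRestrict_surjective
  have hχ1 : ∀ t : ↥T, χ t = 1 ↔ (t : P) ∈ M := by
    intro t
    constructor
    · intro h
      have h1 : ψ t = 1 := by
        have := congrArg Subtype.val h
        exact this
      have h2 : ψ₀ t = 1 := by
        have := congrArg Subtype.val h1
        exact this
      exact (QuotientGroup.eq_one_iff _).mp h2
    · intro h
      apply Subtype.ext
      apply Subtype.ext
      exact (QuotientGroup.eq_one_iff _).mpr h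
  -- `C` is a `p`-group
  have hCp : ∀ c : ψ.range, ∃ k : ℕ, c ^ p ^ k = 1 := by
    intro c
    obtain ⟨t, rfl⟩ := hχsurj c
    obtain ⟨k, hk⟩ := hP (t : P)
    refine ⟨k, ?_⟩
    have : t ^ p ^ k = 1 := Subtype.ext (by simpa using hk)
    rw [← map_pow, this, map_one]
  -- invariance
  have hχinv : ∀ (b t : P) (ht : t ∈ T) (ht' : b * t * b⁻¹ ∈ T), χ ⟨b * t * b⁻¹, ht'⟩ = χ ⟨t, ht⟩ := by
    intro b t ht ht'
    rw [← mul_inv_eq_one, ← map_inv, ← map_mul, hχ1]
    show b * t * b⁻¹ * t⁻¹ ∈ M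
    exact hcomm b t ht
  obtain ⟨n, lam, hn, hlam⟩ := hext ψ.range hCp χ hχinv
  -- `lam` restricted to `T` is onto
  have hCpg : IsPGroup p ↥ψ.range := hCp
  have hsurj' : ∀ y : ψ.range, ∃ t : ↥T, lam (t : P) = y := by
    intro y
    obtain ⟨t, rfl⟩ := hχsurj y
    have hcop : (orderOf (χ t)).Coprime n := by
      obtain ⟨k, hk⟩ := hCp (χ t)
      have h1 : orderOf (χ t) ∣ p ^ k := orderOf_dvd_of_pow_eq_one hk
      exact Nat.Coprime.coprime_dvd_left h1
        (Nat.Coprime.pow_left k ((Nat.Prime.coprime_iff_not_dvd hp).mpr hn))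
    obtain ⟨j, hj⟩ := exists_pow_eq_self_of_coprime hcop.symm
    refine ⟨t ^ j, ?_⟩
    rw [hlam, map_pow, ← pow_mul, mul_comm, pow_mul]
    exact hj
  have hsurj : Function.Surjective lam := fun y => by
    obtain ⟨t, ht⟩ := hsurj' y
    exact ⟨_, ht⟩
  have hfr := frattini_le_comap_frattini_of_surjective hsurj
  have htop : frattini ↥ψ.range = ⊤ := by
    rw [eq_top_iff]
    intro y _
    obtain ⟨t, rfl⟩ := hsurj' y
    exact hfr (hTΦ t.2)
  -- `C` is nontrivial
  have : Group.IsNilpotent P := hP.isNilpotent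
  have hne := Cfsg.Agent.Lib.Helper7.Tate.commutator_top_ne T hT
  have hex : ∃ x ∈ T, x ∉ M := by
    by_contra hcon
    push Not at hcon
    exact hne (le_antisymm hMT hcon)
  obtain ⟨x, hxT, hxM⟩ := hex
  have hχx : χ ⟨x, hxT⟩ ≠ 1 := fun h => hxM ((hχ1 _).mp h)
  rcases eq_top_or_exists_le_coatom (⊥ : Subgroup ↥ψ.range) with hbt | ⟨K, hK, -⟩
  · apply hχx
    have : χ ⟨x, hxT⟩ ∈ (⊥ : Subgroup ↥ψ.range) := by
      rw [hbt]; exact Subgroup.mem_top _
    exact Subgroup.mem_bot.mp this
  · have := frattini_le_coatom hK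
    rw [htop] at this
    exact hK.1 (top_le_iff.mp this)

variable {Ω : Type u} [Group Ω] {S : Subgroup Ω}

/-- **Tate's theorem for fusion systems** (special case): if the hyperfocal subgroup of a saturated fusion
system lies in the Frattini subgroup of `S`, it is trivial. -/
theorem hyperfocal_eq_bot_of_le_frattini [Finite S] (p : ℕ) [Fact p.Prime] (hS : IsPGroup p S)
    (F : FusionSystem S) (hF : F.IsSaturated p)
    (h : F.hyperfocalSubgroup p ≤ (frattini ↥S).map S.subtype) : F.hyperfocalSubgroup p = ⊥ := by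
  have hnorm := hyperfocalSubgroup_conj_mem F p
  have hTnormal : ((F.hyperfocalSubgroup p).subgroupOf S).Normal := ⟨fun t ht b => by
    rw [Subgroup.mem_subgroupOf] at ht ⊢
    exact hnorm b b.2 t ht⟩
  have hTΦ : (F.hyperfocalSubgroup p).subgroupOf S ≤ frattini ↥S := by
    intro t ht
    rw [Subgroup.mem_subgroupOf] at ht
    obtain ⟨f, hf, hft⟩ := h ht
    have : f = t := Subtype.ext hft
    rw [← this]; exact hf
  have key := eq_bot_of_extension_property (p := p) hS ((F.hyperfocalSubgroup p).subgroupOf S) hTΦ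
    (fun C _ hC χ hχ => exists_extension_of_hyperfocal_hom p hS F hF hC _ rfl χ hχ)
  rw [Subgroup.subgroupOf_eq_bot] at key
  have hle := hyperfocalSubgroup_le F p
  rw [eq_bot_iff]
  intro y hy
  exact (Subgroup.disjoint_def.mp key) hy (hle hy) ▸ Subgroup.mem_bot.mpr rfl

/-- a saturated fusion system with trivial hyperfocal subgroup is the inner system -/
theorem eq_inner_of_hyperfocal_eq_bot [Finite S] (p : ℕ) [Fact p.Prime] (hS : IsPGroup p S)
    (F : FusionSystem S) (hF : F.IsSaturated p) (h : F.hyperfocalSubgroup p = ⊥) :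
    F = innerFusionSystem S := by
  apply eq_innerFusionSystem_of_isPGroup p hS F hF
  intro P hPS
  have := finite_of_le hPS
  apply isPGroup_of_coprime_trivial
  intro α hα hcop
  have hα' : (⟨α, hα⟩ : F.autGroup P) ∈ pResidual p (F.autGroup P) := by
    apply Subgroup.subset_closure
    show Nat.Coprime (orderOf (⟨α, hα⟩ : F.autGroup P)) p
    rw [Subgroup.orderOf_mk]
    exact hcop
  apply MulEquiv.ext
  intro x
  apply Subtype.ext
  have h1 : (x : Ω)⁻¹ * ((α x : P) : Ω) ∈ F.hyperfocalSubgroup p :=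
    Subgroup.subset_closure ⟨P, ⟨α, hα⟩, x, hPS, hα', rfl⟩
  rw [h, Subgroup.mem_bot, inv_mul_eq_one] at h1
  exact h1.symm

/-- **Tate's theorem for fusion systems** (special case): if the hyperfocal subgroup of a saturated fusion
system lies in the Frattini subgroup of `S`, the system is the inner system. -/
theorem eq_inner_of_hyperfocal_le_frattini [Finite S] (p : ℕ) [Fact p.Prime] (hS : IsPGroup p S)
    (F : FusionSystem S) (hF : F.IsSaturated p)
    (h : F.hyperfocalSubgroup p ≤ (frattini ↥S).map S.subtype) : F = innerFusionSystem S :=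
  eq_inner_of_hyperfocal_eq_bot p hS F hF (hyperfocal_eq_bot_of_le_frattini p hS F hF h)

end Cfsg.Agent.Lib.Helper7.TateFus
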