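import Mathlib
import Cfsg.Prelude.Def_FusionSystem
import Cfsg.Agent.Lib.Helper7.TateFusD
import Cfsg.Agent.Lib.Helper7.FusionProdClosed
import Cfsg.Agent.Lib.Helper7.FactorSaturated
import Cfsg.Agent.Lib.Helper7.KNormalizerSat2

/-!
# Tate's theorem for fusion systems, part E: systems with `Aut_F(S)` inner and an abelian strongly closed quotient
-/

set_option autoImplicit false

universe u

namespace Cfsg.Agent.Lib.Helper7.TateFus

open Cfsg Cfsg.FusionSystem Cfsg.Agent.Lib.Helper7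
open scoped commutatorElement

variable {Ω : Type u} [Group Ω] {S : Subgroup Ω}

/-- If `Aut_E(S)` is induced by `S` and `H ⊇ [S, S]` is strongly closed, then every map of the saturated system
`E` is the identity modulo `H`. -/
theorem le_focalSystem_of_abelian_quotient [Finite S] (p : ℕ) [Fact p.Prime] (hS : IsPGroup p S)
    (E : FusionSystem S) (hE : E.IsSaturated p) (H : Subgroup Ω) (hH : ⁅S, S⁆ ≤ H)
    (hHcl : E.StronglyClosed H) (hAut : E.autGroup S ≤ autInducedBy S S) :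
    E ≤ focalSystem E H hH := by
  have hcomm : ∀ (y s : Ω), y ∈ S → s ∈ S → y⁻¹ * (s * y * s⁻¹) ∈ H := by
    intro y s hy hs
    apply hH
    have e : y⁻¹ * (s * y * s⁻¹) = ⁅y⁻¹, s⁆ := by rw [commutatorElement_def]; group
    rw [e]
    exact Subgroup.commutator_mem_commutator (S.inv_mem hy) hs
  apply alperin_goldschmidt_strong p hS E hE
  intro R hR ih
  have hFN : E.IsFullyNormalized R := by
    rcases hR with rfl | hess
    · exact isFullyNormalized_top E
    · exact hess.2.1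
  obtain ⟨R', hcR, hFAR, hRecR⟩ := hE R hFN.1
  obtain ⟨hFA, hRec⟩ := isFullyAutomized_isReceptive_of_isFullyNormalized p hS E hFN hFAR hRecR hcR
  have hRS := hFN.1
  have := finite_of_le hRS
  have : Finite (MulAut ↥R) := inferInstance
  intro α hα
  apply (mem_autGroup_iff _ hRS α).mpr
  refine ⟨(mem_autGroup_iff E hRS α).mp hα, fun y => ?_⟩
  show (y : Ω)⁻¹ * ((α y : R) : Ω) ∈ H
  by_cases hRtop : R = S
  · subst hRtop
    obtain ⟨s, hs, hsα⟩ := (mem_autInducedBy_iff R R α).mp (hAut hα)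
    rw [hsα y]
    exact hcomm _ _ y.2 hs
  · obtain ⟨g, hgN, hgR⟩ := lt_normalizerIn_of_ne hS hRS hRtop
    have hgS : g ∈ S := hgN.1
    have hgN' : g ∈ Subgroup.normalizer (R : Set Ω) := hgN.2
    set K := kerAut H R (E.autGroup R) with hKdef
    have hKle : K ≤ E.autGroup R := kerAut_le H R (E.autGroup R)
    have hAK : E.autGroup R ≤ Subgroup.normalizer (K : Set (MulAut R)) :=
      le_normalizer_kerAut E H hHcl hRS
    have hTle := autInducedBy_le_autGroup E hRS
    have hsyl : IsSylowIn p (autInducedBy S R) (E.autGroup R) :=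
      (isSylowIn_iff_exists_sylow hTle).mpr hFA.2
    have hTK : IsSylowIn p (autInducedBy S R ⊓ K) K := hsyl.inf_normal K hKle hAK
    have hSK : autInducedBy S R ≤ K := by
      intro β hβ
      obtain ⟨s, hs, hsβ⟩ := (mem_autInducedBy_iff S R β).mp hβ
      refine ⟨hTle hβ, fun x => ?_⟩
      rw [hsβ x]
      exact hcomm _ _ (hRS x.2) hs
    have hcg0 : R.normalizerMonoidHom ⟨g, hgN'⟩ ∈ autInducedBy S R :=
      (mem_autInducedBy_iff S R _).mpr ⟨g, hgS, fun x => rfl⟩
    have hcg : R.normalizerMonoidHom ⟨g, hgN'⟩ ∈ autInducedBy S R ⊓ K := ⟨hcg0, hSK hcg0⟩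
    -- Frattini
    have hTK' : IsSylowIn p ((autInducedBy S R ⊓ K).map (MulAut.conj α).toMonoidHom) K := by
      refine ⟨?_, ?_⟩
      · rintro _ ⟨x, hx, rfl⟩
        exact (Subgroup.mem_normalizer_iff.mp (hAK hα) x).mp hx.2
      · rw [Cfsg.Agent.Lib.Lead.Conj.card_map_conj]; exact hTK.2
    obtain ⟨n, hnK, e⟩ := hTK.conj hTK'
    have hnA : n ∈ E.autGroup R := hKle hnK
    have hνA : n⁻¹ * α ∈ E.autGroup R := Subgroup.mul_mem _ (Subgroup.inv_mem _ hnA) hα
    have hνconj : (n⁻¹ * α) * R.normalizerMonoidHom ⟨g, hgN'⟩ * (n⁻¹ * α)⁻¹ ∈ autInducedBy S R := by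
      have h1 : α * R.normalizerMonoidHom ⟨g, hgN'⟩ * α⁻¹ ∈
          (autInducedBy S R ⊓ K).map (MulAut.conj α).toMonoidHom :=
        Cfsg.Agent.Lib.Lead.Conj.conj_mem_map_conj _ α hcg
      rw [e, Cfsg.Agent.Lib.Lead.Conj.mem_map_conj] at h1
      have e3 : (n⁻¹ * α) * R.normalizerMonoidHom ⟨g, hgN'⟩ * (n⁻¹ * α)⁻¹ =
          n⁻¹ * (α * R.normalizerMonoidHom ⟨g, hgN'⟩ * α⁻¹) * n := by group
      rw [e3]
      exact h1.1
    have hgext := mem_extender_of_conj (n⁻¹ * α) hgS hgN' hνconj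
    obtain ⟨Q, hRQ, φ, hφ, hφν⟩ := mem_extGen_of_mem_extender E hRec (n⁻¹ * α) hνA g hgext hgR
    have hQS : Q ≤ S := (E.le_of_mem hφ).1
    have := finite_of_le hQS
    have hcard : Nat.card R < Nat.card Q := by
      by_contra hge
      push Not at hge
      exact hRQ.ne (Subgroup.eq_of_le_of_card_ge hRQ.le hge)
    have hφE := ih Q φ hφ hcard
    have hνy : (y : Ω)⁻¹ * (((n⁻¹ * α) y : R) : Ω) ∈ H := by
      rw [← hφν]
      exact hφE.2 (Subgroup.inclusion hRQ.le y)
    have hα' : α = n * (n⁻¹ * α) := by group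
    have h3 := hnK.2 ((n⁻¹ * α) y)
    have h4 := H.mul_mem hνy h3
    have e4 : (y : Ω)⁻¹ * ((α y : R) : Ω) =
        (y : Ω)⁻¹ * (((n⁻¹ * α) y : R) : Ω) *
          ((((n⁻¹ * α) y : R) : Ω)⁻¹ * ((n ((n⁻¹ * α) y) : R) : Ω)) := by
      conv_lhs => rw [hα', MulAut.mul_apply]
      group
    rw [e4]; exact h4

end Cfsg.Agent.Lib.Helper7.TateFus
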