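import Mathlib
import Cfsg.Prelude.Def_FusionSystem
import Cfsg.Agent.Lib.Helper7.TateFusE
import Cfsg.Agent.Lib.Helper7.FusionNormalizer
import Cfsg.Agent.H1.Frattini

/-!
# Tate's theorem for fusion systems, part F: applications (S5276, S5222)
-/

set_option autoImplicit false

universe u

namespace Cfsg.Agent.Lib.Helper7.TateFus

open Cfsg Cfsg.FusionSystem Cfsg.Agent.Lib.Helper7
open scoped commutatorElement

variable {Ω : Type u} [Group Ω] {S : Subgroup Ω}

/-- the key criterion: `Aut_E(S)` inner and a strongly closed subgroup between `[S, S]` and `Φ(S)` -/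
theorem eq_inner_of_stronglyClosed_between [Finite S] (p : ℕ) [Fact p.Prime] (hS : IsPGroup p S)
    (E : FusionSystem S) (hE : E.IsSaturated p) (H : Subgroup Ω) (hH : ⁅S, S⁆ ≤ H)
    (hHΦ : H ≤ (frattini ↥S).map S.subtype)
    (hHcl : E.StronglyClosed H) (hAut : E.autGroup S ≤ autInducedBy S S) :
    E = innerFusionSystem S := by
  apply eq_inner_of_hyperfocal_le_frattini p hS E hE
  refine le_trans ?_ hHΦ
  have hle := le_focalSystem_of_abelian_quotient p hS E hE H hH hHcl hAut
  unfold FusionSystem.hyperfocalSubgroup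
  rw [Subgroup.closure_le]
  rintro _ ⟨P, α, x, hPS, -, rfl⟩
  have hφ := (mem_autGroup_iff E hPS (α : MulAut P)).mp α.2
  exact (hle P hφ).2 x

theorem commutator_map_subtype (S : Subgroup Ω) : (commutator ↥S).map S.subtype = ⁅S, S⁆ := by
  rw [commutator_def, Subgroup.map_commutator, ← MonoidHom.range_eq_map, Subgroup.range_subtype]

/-- `Aut_F(S)` is inner when the normalizer system of `S` is inner -/
theorem autGroup_top_le_of_normalizer_inner (F : FusionSystem S)
    (hN : ∀ N : FusionSystem (normalizerIn S S), F.IsNormalizerSystem S N →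
      ∀ P : Subgroup Ω, N.Hom P = (innerFusionSystem (normalizerIn S S)).Hom P) :
    F.autGroup S ≤ autInducedBy S S := by
  obtain ⟨N, hNs⟩ := exists_normalizerSystem F S le_rfl
  intro α hα
  have hφ : S.subtype.comp α.toMonoidHom ∈ F.Hom S := (mem_autGroup_iff F le_rfl α).mp hα
  have hSN : S ≤ normalizerIn S S := le_inf le_rfl Subgroup.le_normalizer
  have hmem : S.subtype.comp α.toMonoidHom ∈ F.normalizerHom S S := by
    refine ⟨hφ, hSN, fun x => hSN (α x).2, ?_⟩
    have hle : S ⊔ S ≤ S := sup_le le_rfl le_rfl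
    refine ⟨(S.subtype.comp α.toMonoidHom).comp (Subgroup.inclusion hle), fs_restrict_mem F hle hφ,
      fun x => ?_, ?_⟩
    · rfl
    · ext y
      constructor
      · rintro ⟨z, -, rfl⟩
        exact (α (Subgroup.inclusion hle z)).2
      · intro hy
        refine ⟨⟨(α.symm ⟨y, hy⟩ : ↥S), Subgroup.mem_sup_left (α.symm ⟨y, hy⟩).2⟩, ?_, ?_⟩
        · exact Subgroup.mem_subgroupOf.mpr (α.symm ⟨y, hy⟩).2
        · show ((α (Subgroup.inclusion hle ⟨(α.symm ⟨y, hy⟩ : ↥S), _⟩) : ↥S) : Ω) = y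
          have : Subgroup.inclusion hle ⟨((α.symm ⟨y, hy⟩ : ↥S) : Ω),
              Subgroup.mem_sup_left (α.symm ⟨y, hy⟩).2⟩ = α.symm ⟨y, hy⟩ := Subtype.ext rfl
          rw [this, MulEquiv.apply_symm_apply]
  have h2 : S.subtype.comp α.toMonoidHom ∈ N.Hom S := by rw [hNs S]; exact hmem
  rw [hN N hNs S] at h2
  obtain ⟨-, g, hg, hgφ⟩ := h2
  exact (mem_autInducedBy_iff S S α).mpr ⟨g, hg.1, fun x => hgφ x⟩

/-- **S5276** -/
theorem inner_iff_normalizer_inner_and_frattini_closed [Finite S] (p : ℕ) [Fact p.Prime]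
    (hS : IsPGroup p ↥S) (F : FusionSystem S) (hF : F.IsSaturated p) :
    (∀ P : Subgroup Ω, F.Hom P = (innerFusionSystem S).Hom P) ↔
      (∀ N : FusionSystem (normalizerIn S S), F.IsNormalizerSystem S N →
        ∀ P : Subgroup Ω, N.Hom P = (innerFusionSystem (normalizerIn S S)).Hom P) ∧
      F.StronglyClosed ((frattini ↥S).map S.subtype) := by
  constructor
  · intro h
    refine ⟨?_, ?_⟩
    · intro N hNs P
      ext φ
      rw [hNs P]
      constructor
      · rintro ⟨hφF, hPN, -, -⟩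
        rw [h P] at hφF
        obtain ⟨-, g, hg, hgφ⟩ := hφF
        exact ⟨hPN, g, ⟨hg, Subgroup.le_normalizer hg⟩, hgφ⟩
      · rintro ⟨hPN, g, hg, hgφ⟩
        have hPS : P ≤ S := hPN.trans inf_le_left
        have hφS : ∀ x : P, φ x ∈ S := fun x => by
          rw [hgφ x]; exact S.mul_mem (S.mul_mem hg.1 (hPS x.2)) (S.inv_mem hg.1)
        refine ⟨by rw [h P]; exact ⟨hPS, g, hg.1, hgφ⟩, hPN,
          fun x => ⟨hφS x, Subgroup.le_normalizer (hφS x)⟩, ?_⟩
        have hle : P ⊔ S ≤ S := sup_le hPS le_rfl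
        refine ⟨conjHom (P ⊔ S) g, F.conj_mem hle hg.1, fun x => (hgφ x).symm, ?_⟩
        ext y
        constructor
        · rintro ⟨z, hz, rfl⟩
          have hzS : (z : Ω) ∈ S := Subgroup.mem_subgroupOf.mp hz
          exact S.mul_mem (S.mul_mem hg.1 hzS) (S.inv_mem hg.1)
        · intro hy
          have hz : g⁻¹ * y * g ∈ S := S.mul_mem (S.mul_mem (S.inv_mem hg.1) hy) hg.1
          refine ⟨⟨g⁻¹ * y * g, Subgroup.mem_sup_right hz⟩, Subgroup.mem_subgroupOf.mpr hz, ?_⟩
          show g * (g⁻¹ * y * g) * g⁻¹ = y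
          group
    · refine ⟨Subgroup.map_subtype_le _, fun R hR φ hφ x => ?_⟩
      rw [h R] at hφ
      obtain ⟨-, g, hg, hgφ⟩ := hφ
      obtain ⟨f, hf, hfx⟩ := hR x.2
      have hn : (frattini ↥S).Normal := Subgroup.normal_of_characteristic _
      refine ⟨(⟨g, hg⟩ : ↥S) * f * (⟨g, hg⟩ : ↥S)⁻¹, hn.conj_mem f hf _, ?_⟩
      rw [hgφ x, ← hfx]
      rfl
  · rintro ⟨hN, hcl⟩
    have hH : ⁅S, S⁆ ≤ (frattini ↥S).map S.subtype := by
      rw [← commutator_map_subtype]
      exact Subgroup.map_mono (Cfsg.Agent.H1.commutator_le_frattini hS)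
    have := eq_inner_of_stronglyClosed_between p hS F hF _ hH le_rfl hcl
      (autGroup_top_le_of_normalizer_inner F hN)
    intro P
    rw [this]

end Cfsg.Agent.Lib.Helper7.TateFus
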