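import Mathlib
import Cfsg.Prelude.Def_FusionSystem
import Cfsg.Agent.Lib.Helper7.TateFusF

/-!
# Tate's theorem for fusion systems, part G: S5222
-/

set_option autoImplicit false

universe u

namespace Cfsg.Agent.Lib.Helper7.TateFus

open Cfsg Cfsg.FusionSystem Cfsg.Agent.Lib.Helper7
open scoped commutatorElement

variable {Ω : Type u} [Group Ω] {S : Subgroup Ω}

theorem frattini_map_congr {S' : Subgroup Ω} (h : S' = S) :
    (frattini ↥S').map S'.subtype = (frattini ↥S).map S.subtype := by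
  subst h; rfl

theorem aut_le_of_eq (F : FusionSystem S) (hA : F.autGroup S ≤ autInducedBy S S) :
    ∀ (S' : Subgroup Ω), S' = S → ∀ α : MulAut ↥S', S'.subtype.comp α.toMonoidHom ∈ F.Hom S' →
      α ∈ autInducedBy S' S' := by
  intro S' h
  subst h
  intro α hα
  exact hA ((mem_autGroup_iff F le_rfl α).mpr hα)

/-- **S5222** -/
theorem normalizer_inner_of_between [Finite S] (p : ℕ) [Fact p.Prime] (hS : IsPGroup p S)
    (F : FusionSystem S) (hF : F.IsSaturated p)
    (hN : ∀ N : FusionSystem (normalizerIn S S), F.IsNormalizerSystem S N →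
      ∀ P : Subgroup Ω, N.Hom P = (innerFusionSystem (normalizerIn S S)).Hom P)
    (Q : Subgroup Ω) (h1 : (commutator ↥S).map S.subtype ≤ Q)
    (h2 : Q ≤ (frattini ↥S).map S.subtype) :
    ∀ N : FusionSystem (normalizerIn S Q), F.IsNormalizerSystem Q N →
      ∀ P : Subgroup Ω, N.Hom P = (innerFusionSystem (normalizerIn S Q)).Hom P := by
  intro N hNQ
  have hQS : Q ≤ S := h2.trans (Subgroup.map_subtype_le _)
  rw [commutator_map_subtype] at h1
  have hconj : ∀ s ∈ S, ∀ q ∈ Q, s * q * s⁻¹ ∈ Q := by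
    intro s hs q hq
    have h3 : ⁅s, q⁆ ∈ Q := h1 (Subgroup.commutator_mem_commutator hs (hQS hq))
    have e : s * q * s⁻¹ = ⁅s, q⁆ * q := by rw [commutatorElement_def]; group
    rw [e]; exact Q.mul_mem h3 hq
  have hSN : S ≤ Subgroup.normalizer (Q : Set Ω) := by
    intro s hs
    rw [Subgroup.mem_normalizer_iff]
    intro q
    constructor
    · exact hconj s hs q
    · intro h
      have := hconj s⁻¹ (S.inv_mem hs) _ h
      have e : s⁻¹ * (s * q * s⁻¹) * s⁻¹⁻¹ = q := by group
      rwa [e] at this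
  have hS'eq : normalizerIn S Q = S := inf_eq_left.mpr hSN
  have hFN : F.IsFullyNormalized Q := by
    refine ⟨hQS, fun Q' _ => ?_⟩
    rw [hS'eq]
    exact Subgroup.card_le_of_le (normalizerIn_le S Q')
  have hNsat : N.IsSaturated p := normalizerSystem_isSaturated p hS F hF Q hFN N hNQ
  have hS'le : normalizerIn S Q ≤ S := normalizerIn_le S Q
  have : Finite ↥(normalizerIn S Q) := finite_of_le hS'le
  have hS' : IsPGroup p ↥(normalizerIn S Q) := hS.to_le hS'le
  have hH : ⁅normalizerIn S Q, normalizerIn S Q⁆ ≤ Q :=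
    (Subgroup.commutator_mono hS'le hS'le).trans h1
  have hHΦ : Q ≤ (frattini ↥(normalizerIn S Q)).map (normalizerIn S Q).subtype := by
    rw [frattini_map_congr hS'eq]; exact h2
  have hcl : N.StronglyClosed Q := by
    refine ⟨by rw [hS'eq]; exact hQS, fun R hR φ hφ x => ?_⟩
    rw [hNQ R] at hφ
    obtain ⟨-, -, -, ψ, -, hext, hmap⟩ := hφ
    rw [← hext x]
    have h3 : ψ (Subgroup.inclusion le_sup_left x) ∈ (Q.subgroupOf (R ⊔ Q)).map ψ :=
      ⟨Subgroup.inclusion le_sup_left x, Subgroup.mem_subgroupOf.mpr (hR x.2), rfl⟩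
    rw [hmap] at h3
    exact h3
  have hAut : N.autGroup (normalizerIn S Q) ≤ autInducedBy (normalizerIn S Q) (normalizerIn S Q) := by
    intro α hα
    have h3 := (mem_autGroup_iff N le_rfl α).mp hα
    rw [hNQ] at h3
    exact aut_le_of_eq F (autGroup_top_le_of_normalizer_inner F hN) _ hS'eq α h3.1
  have := eq_inner_of_stronglyClosed_between p hS' N hNsat Q hH hHΦ hcl hAut
  intro P
  rw [this]

end Cfsg.Agent.Lib.Helper7.TateFus
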