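import Mathlib
import Cfsg.Prelude.Def_FusionSystem
import Cfsg.Agent.Lib.Helper7.TateFusD
import Cfsg.Agent.Lib.Helper7.HyperfocalTheorem
import Cfsg.Agent.H1.Frattini

/-!
# Tate's theorem for fusion systems, part H: the general theorem (S5224)
-/

set_option autoImplicit false

universe u

namespace Cfsg.Agent.Lib.Helper7.TateFus

open Cfsg Cfsg.FusionSystem Cfsg.Agent.Lib.Helper7
open scoped commutatorElement

/-- the relative version of `eq_bot_of_extension_property` -/
theorem le_of_extension_property {P : Type u} [Group P] [Finite P] {p : ℕ} [Fact p.Prime]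
    (hP : IsPGroup p P) (T T₀ : Subgroup P) [hTn : T.Normal] [hT₀n : T₀.Normal] (h₀ : T₀ ≤ T)
    (hTΦ : T ≤ frattini P ⊔ T₀)
    (hext : ∀ (C : Type u) [CommGroup C], (∀ c : C, ∃ k : ℕ, c ^ p ^ k = 1) →
      ∀ χ : ↥T →* C,
      (∀ (b t : P) (ht : t ∈ T) (ht' : b * t * b⁻¹ ∈ T), χ ⟨b * t * b⁻¹, ht'⟩ = χ ⟨t, ht⟩) →
      ∃ (n : ℕ) (lam : P →* C), ¬ p ∣ n ∧ ∀ t : ↥T, lam (t : P) = χ t ^ n) : T ≤ T₀ := by
  classical
  let π : P →* P ⧸ T₀ := QuotientGroup.mk' T₀
  have hπs : Function.Surjective π := QuotientGroup.mk'_surjective T₀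
  have hTbn : (T.map π).Normal := Subgroup.Normal.map hTn π hπs
  have hPb : IsPGroup p (P ⧸ T₀) := hP.to_quotient T₀
  have hTbΦ : T.map π ≤ frattini (P ⧸ T₀) := by
    refine (Subgroup.map_mono hTΦ).trans ?_
    rw [Subgroup.map_sup, QuotientGroup.map_mk'_self, sup_bot_eq]
    rintro _ ⟨f, hf, rfl⟩
    exact frattini_le_comap_frattini_of_surjective hπs hf
  have key : T.map π = ⊥ := by
    apply eq_bot_of_extension_property (p := p) hPb (T.map π) hTbΦ
    intro C _ hC χb hχb
    let χ : ↥T →* C := χb.comp (π.subgroupMap T)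
    have hχ : ∀ (b t : P) (ht : t ∈ T) (ht' : b * t * b⁻¹ ∈ T), χ ⟨b * t * b⁻¹, ht'⟩ = χ ⟨t, ht⟩ := by
      intro b t ht ht'
      have ht1 : π t ∈ T.map π := Subgroup.mem_map_of_mem π ht
      have ht2 : π b * π t * (π b)⁻¹ ∈ T.map π := by
        have := Subgroup.mem_map_of_mem π ht'
        simpa using this
      have := hχb (π b) (π t) ht1 ht2
      show χb (π.subgroupMap T ⟨b * t * b⁻¹, ht'⟩) = χb (π.subgroupMap T ⟨t, ht⟩)
      have e1 : π.subgroupMap T ⟨b * t * b⁻¹, ht'⟩ = ⟨π b * π t * (π b)⁻¹, ht2⟩ := by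
        apply Subtype.ext
        show π (b * t * b⁻¹) = _
        simp
      have e2 : π.subgroupMap T ⟨t, ht⟩ = ⟨π t, ht1⟩ := rfl
      rw [e1, e2]; exact this
    obtain ⟨n, lam, hn, hlam⟩ := hext C hC χ hχ
    have hker : ∀ x ∈ T₀, lam x = 1 := by
      intro x hx
      have h1 := hlam ⟨x, h₀ hx⟩
      have h2 : π.subgroupMap T ⟨x, h₀ hx⟩ = 1 := by
        apply Subtype.ext
        show π x = 1
        exact (QuotientGroup.eq_one_iff x).mpr hx
      have h3 : χ ⟨x, h₀ hx⟩ = 1 := by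
        show χb (π.subgroupMap T ⟨x, h₀ hx⟩) = 1
        rw [h2, map_one]
      rw [h3, one_pow] at h1
      exact h1
    refine ⟨n, QuotientGroup.lift T₀ lam hker, hn, ?_⟩
    rintro ⟨_, t, ht, rfl⟩
    show QuotientGroup.lift T₀ lam hker (π t) = χb ⟨π t, _⟩ ^ n
    have h1 := hlam ⟨t, ht⟩
    show lam t = _
    rw [h1]
    rfl
  intro t ht
  have h1 : π t ∈ T.map π := Subgroup.mem_map_of_mem π ht
  rw [key, Subgroup.mem_bot] at h1
  exact (QuotientGroup.eq_one_iff t).mp h1

variable {Ω : Type u} [Group Ω] {S : Subgroup Ω}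

/-- the main implication of Tate's theorem -/
theorem hyperfocal_eq_of_frattini_focal_eq [Finite S] (p : ℕ) [Fact p.Prime] (hS : IsPGroup p S)
    (F : FusionSystem S) (hF : F.IsSaturated p) (H : FusionSystem S) (hH : H.IsSaturated p)
    (hHF : H.IsSubsystemOf F)
    (h : (frattini ↥S).map S.subtype ⊔ F.focalSubgroup = (frattini ↥S).map S.subtype ⊔ H.focalSubgroup) :
    F.hyperfocalSubgroup p = H.hyperfocalSubgroup p := by
  have hmono : H.hyperfocalSubgroup p ≤ F.hyperfocalSubgroup p := hyperfocal_mono p H F hHF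
  apply le_antisymm _ hmono
  have hleF := hyperfocalSubgroup_le F p
  have hleH := hyperfocalSubgroup_le H p
  have hΦle : (frattini ↥S).map S.subtype ≤ S := Subgroup.map_subtype_le _
  have hcomm : ⁅S, S⁆ ≤ (frattini ↥S).map S.subtype := by
    have e : (commutator ↥S).map S.subtype = ⁅S, S⁆ := by
      rw [commutator_def, Subgroup.map_commutator, ← MonoidHom.range_eq_map, Subgroup.range_subtype]
    rw [← e]
    exact Subgroup.map_mono (Cfsg.Agent.H1.commutator_le_frattini hS)
  -- `hyp(F) ≤ Φ(S) hyp(H)`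
  have h1 : F.hyperfocalSubgroup p ≤ (frattini ↥S).map S.subtype ⊔ H.hyperfocalSubgroup p := by
    calc F.hyperfocalSubgroup p ≤ F.focalSubgroup := by
          rw [focalSubgroup_eq p hS F hF]; exact le_sup_left
      _ ≤ (frattini ↥S).map S.subtype ⊔ F.focalSubgroup := le_sup_right
      _ = (frattini ↥S).map S.subtype ⊔ H.focalSubgroup := h
      _ = (frattini ↥S).map S.subtype ⊔ (H.hyperfocalSubgroup p ⊔ ⁅S, S⁆) := by
          rw [focalSubgroup_eq p hS H hH]
      _ ≤ (frattini ↥S).map S.subtype ⊔ H.hyperfocalSubgroup p :=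
          sup_le le_sup_left (sup_le le_sup_right (hcomm.trans le_sup_left))
  have hnF := hyperfocalSubgroup_conj_mem F p
  have hnH := hyperfocalSubgroup_conj_mem H p
  have hTn : ((F.hyperfocalSubgroup p).subgroupOf S).Normal := ⟨fun t ht b => by
    rw [Subgroup.mem_subgroupOf] at ht ⊢
    exact hnF b b.2 t ht⟩
  have hT₀n : ((H.hyperfocalSubgroup p).subgroupOf S).Normal := ⟨fun t ht b => by
    rw [Subgroup.mem_subgroupOf] at ht ⊢
    exact hnH b b.2 t ht⟩
  have h₀ : (H.hyperfocalSubgroup p).subgroupOf S ≤ (F.hyperfocalSubgroup p).subgroupOf S :=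
    Subgroup.comap_mono hmono
  have hTΦ : (F.hyperfocalSubgroup p).subgroupOf S ≤
      frattini ↥S ⊔ (H.hyperfocalSubgroup p).subgroupOf S := by
    have h2 := Subgroup.comap_mono (f := S.subtype) h1
    have h3 : ((frattini ↥S).map S.subtype ⊔ H.hyperfocalSubgroup p).subgroupOf S =
        ((frattini ↥S).map S.subtype).subgroupOf S ⊔ (H.hyperfocalSubgroup p).subgroupOf S :=
      Subgroup.subgroupOf_sup hΦle hleH
    have h4 : ((frattini ↥S).map S.subtype).subgroupOf S = frattini ↥S :=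
      Subgroup.comap_map_eq_self_of_injective S.subtype_injective _
    rw [← h4, ← h3]
    exact h2
  have key := le_of_extension_property (p := p) hS ((F.hyperfocalSubgroup p).subgroupOf S)
    ((H.hyperfocalSubgroup p).subgroupOf S) h₀ hTΦ
    (fun C _ hC χ hχ => exists_extension_of_hyperfocal_hom p hS F hF hC _ rfl χ hχ)
  intro y hy
  exact key (show (⟨y, hleF hy⟩ : ↥S) ∈ (F.hyperfocalSubgroup p).subgroupOf S from
    Subgroup.mem_subgroupOf.mpr hy)

/-- **Tate's theorem for fusion systems** (S5224) -/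
theorem tate_fusion [Finite S] (p : ℕ) [Fact p.Prime] (hS : IsPGroup p S)
    (F : FusionSystem S) (hF : F.IsSaturated p) (H : FusionSystem S) (hH : H.IsSaturated p)
    (hHF : H.IsSubsystemOf F) :
    (((frattini ↥S).map S.subtype ⊔ F.focalSubgroup) = ((frattini ↥S).map S.subtype ⊔ H.focalSubgroup) ↔
        F.focalSubgroup = H.focalSubgroup) ∧
      (F.focalSubgroup = H.focalSubgroup ↔ F.hyperfocalSubgroup p = H.hyperfocalSubgroup p) := by
  have hc_b : F.hyperfocalSubgroup p = H.hyperfocalSubgroup p → F.focalSubgroup = H.focalSubgroup := by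
    intro h
    rw [focalSubgroup_eq p hS F hF, focalSubgroup_eq p hS H hH, h]
  have ha_c := hyperfocal_eq_of_frattini_focal_eq p hS F hF H hH hHF
  exact ⟨⟨fun ha => hc_b (ha_c ha), fun hb => by rw [hb]⟩, ⟨fun hb => ha_c (by rw [hb]), hc_b⟩⟩

end Cfsg.Agent.Lib.Helper7.TateFus
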