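import Mathlib
import Cfsg.Prelude.Def_Transfer
import Cfsg.Prelude.Def_PLocal
import Cfsg.Agent.S1853
import Cfsg.Agent.Lib.Lead.Conj
import Cfsg.Agent.Lib.Helper7.SylowLib

set_option autoImplicit false
set_option linter.style.haveILetI false
set_option linter.unusedVariables false

namespace Cfsg.Agent.Lib.Helper7

open Cfsg Cfsg.Agent.Lib.Lead.Conj Cfsg.Agent.S1963 Cfsg.Agent.S1853

universe u
variable {G : Type u} [Group G]

open Classical in
/-- the transfer count in terms of orbits -/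
theorem odd_orbits' [Finite G] (S : Sylow 2 G) (T : Subgroup G) (hTS : T ≤ S)
    [hTn : (T.subgroupOf (S : Subgroup G)).Normal]
    (hcyc : IsCyclic (↥(S : Subgroup G) ⧸ T.subgroupOf (S : Subgroup G)))
    (htriv : ∀ (A : Type u) [CommGroup A] [Finite A], IsPGroup 2 A → ∀ (f : G →* A) (g : G), f g = 1)
    (y : G) (hy : orderOf y = 2) (hyS : y ∈ S) (hyT : y ∉ T)
    [Fintype (Quotient (MulAction.orbitRel (Subgroup.zpowers y) (G ⧸ (S : Subgroup G))))] :
    Odd (Finset.univ.filter (fun q : Quotient (MulAction.orbitRel (Subgroup.zpowers y)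
      (G ⧸ (S : Subgroup G))) =>
        Function.minimalPeriod (y • ·) q.out = 1 ∧ q.out.out⁻¹ * y * q.out.out ∈ T)).card := by
  classical
  haveI : Fact (Nat.Prime 2) := ⟨Nat.prime_two⟩
  letI : CommGroup (↥(S : Subgroup G) ⧸ T.subgroupOf (S : Subgroup G)) := IsCyclic.commGroup
  let ϕ : ↥(S : Subgroup G) →* ↥(S : Subgroup G) ⧸ T.subgroupOf (S : Subgroup G) :=
    QuotientGroup.mk' _
  have hy2 : y ^ 2 = 1 := by rw [← hy]; exact pow_orderOf_eq_one y
  have hϕ_in : ∀ s : (S : Subgroup G), (s : G) ∈ T → ϕ s = 1 := by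
    intro s hs
    exact (QuotientGroup.eq_one_iff s).2 (Subgroup.mem_subgroupOf.2 hs)
  have hϕ_ord : ∀ s : (S : Subgroup G), (s : G) ∉ T → (s : G) ^ 2 = 1 → orderOf (ϕ s) = 2 := by
    intro s hs hs2
    apply orderOf_eq_prime
    · rw [← map_pow]
      have : s ^ 2 = 1 := Subtype.ext (by simpa using hs2)
      rw [this, map_one]
    · intro h
      exact hs (Subgroup.mem_subgroupOf.1 ((QuotientGroup.eq_one_iff s).1 h))
  set zb := ϕ ⟨y, hyS⟩ with hzb
  have hzb2 : orderOf zb = 2 := hϕ_ord ⟨y, hyS⟩ hyT hy2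
  have hϕ_out : ∀ s : (S : Subgroup G), (s : G) ∉ T → (s : G) ^ 2 = 1 → ϕ s = zb := by
    intro s hs hs2
    exact Cfsg.Agent.S1755.unique_involution (hϕ_ord s hs hs2) hzb2
  -- minimal periods
  have hper : ∀ q : G ⧸ (S : Subgroup G),
      Function.minimalPeriod (y • ·) q = 1 ∨ Function.minimalPeriod (y • ·) q = 2 := by
    intro q
    have hp : Function.IsPeriodicPt (y • · : G ⧸ (S : Subgroup G) → _) 2 q := by
      show (y • · : G ⧸ (S : Subgroup G) → _)^[2] q = q
      rw [smul_iterate, hy2]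
      exact one_smul _ q
    exact (Nat.dvd_prime Nat.prime_two).1 hp.minimalPeriod_dvd
  have hval : ∀ q : Quotient (MulAction.orbitRel (Subgroup.zpowers y) (G ⧸ (S : Subgroup G))),
      ϕ ⟨q.out.out⁻¹ * y ^ Function.minimalPeriod (y • ·) q.out * q.out.out,
            QuotientGroup.out_conj_pow_minimalPeriod_mem (S : Subgroup G) y q.out⟩
        = if (Function.minimalPeriod (y • ·) q.out = 1 ∧ q.out.out⁻¹ * y * q.out.out ∉ T)
            then zb else 1 := by
    intro q
    have hmem := QuotientGroup.out_conj_pow_minimalPeriod_mem (S : Subgroup G) y q.out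
    rcases hper q.out with h1 | h2
    · by_cases hT : q.out.out⁻¹ * y * q.out.out ∈ T
      · rw [if_neg (by tauto)]
        apply hϕ_in
        show q.out.out⁻¹ * y ^ Function.minimalPeriod (y • ·) q.out * q.out.out ∈ T
        rw [h1, pow_one]; exact hT
      · rw [if_pos ⟨h1, hT⟩]
        apply hϕ_out
        · show q.out.out⁻¹ * y ^ Function.minimalPeriod (y • ·) q.out * q.out.out ∉ T
          rw [h1, pow_one]; exact hT
        · show (q.out.out⁻¹ * y ^ Function.minimalPeriod (y • ·) q.out * q.out.out) ^ 2 = 1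
          rw [h1, pow_one]
          have : (q.out.out⁻¹ * y * q.out.out) ^ 2 = q.out.out⁻¹ * (y ^ 2) * q.out.out := by
            rw [pow_two, pow_two]; group
          rw [this, hy2]; group
    · rw [if_neg (by omega)]
      apply hϕ_in
      show q.out.out⁻¹ * y ^ Function.minimalPeriod (y • ·) q.out * q.out.out ∈ T
      rw [h2, hy2]
      simp
  have htx : MonoidHom.transfer ϕ y = 1 := htriv _ (S.isPGroup'.to_quotient _) _ y
  rw [MonoidHom.transfer_eq_prod_quotient_orbitRel_zpowers_quot] at htx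
  rw [Finset.prod_congr rfl (fun q _ => hval q)] at htx
  rw [Finset.prod_ite, Finset.prod_const, Finset.prod_const_one, mul_one] at htx
  have hk := orderOf_dvd_of_pow_eq_one htx
  rw [hzb2] at hk
  -- total number of fixed orbits is odd
  have hodd : Odd (Finset.univ.filter (fun q : Quotient (MulAction.orbitRel (Subgroup.zpowers y)
      (G ⧸ (S : Subgroup G))) => Odd (Function.minimalPeriod (y • ·) q.out))).card := by
    rw [← Finset.odd_sum_iff_odd_card_odd, ← Subgroup.index_eq_sum_minimalPeriod]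
    have := S.not_dvd_index
    exact Nat.not_even_iff_odd.1 (fun h => this (even_iff_two_dvd.1 h))
  have hsplit : (Finset.univ.filter (fun q : Quotient (MulAction.orbitRel (Subgroup.zpowers y)
      (G ⧸ (S : Subgroup G))) => Odd (Function.minimalPeriod (y • ·) q.out))) =
      (Finset.univ.filter (fun q : Quotient (MulAction.orbitRel (Subgroup.zpowers y)
      (G ⧸ (S : Subgroup G))) =>
        Function.minimalPeriod (y • ·) q.out = 1 ∧ q.out.out⁻¹ * y * q.out.out ∈ T)) ∪
      (Finset.univ.filter (fun q : Quotient (MulAction.orbitRel (Subgroup.zpowers y)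
      (G ⧸ (S : Subgroup G))) =>
        Function.minimalPeriod (y • ·) q.out = 1 ∧ q.out.out⁻¹ * y * q.out.out ∉ T)) := by
    ext q
    simp only [Finset.mem_filter, Finset.mem_univ, true_and, Finset.mem_union]
    rcases hper q.out with h1 | h2
    · rw [h1]; simp; tauto
    · rw [h2]; simp
  have hdisj : Disjoint (Finset.univ.filter (fun q : Quotient (MulAction.orbitRel (Subgroup.zpowers y)
      (G ⧸ (S : Subgroup G))) =>
        Function.minimalPeriod (y • ·) q.out = 1 ∧ q.out.out⁻¹ * y * q.out.out ∈ T))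
      (Finset.univ.filter (fun q : Quotient (MulAction.orbitRel (Subgroup.zpowers y)
      (G ⧸ (S : Subgroup G))) =>
        Function.minimalPeriod (y • ·) q.out = 1 ∧ q.out.out⁻¹ * y * q.out.out ∉ T)) := by
    rw [Finset.disjoint_filter]
    intro q _ h1 h2
    exact h2.2 h1.2
  rw [hsplit, Finset.card_union_of_disjoint hdisj] at hodd
  have hev : Even (Finset.univ.filter (fun q : Quotient (MulAction.orbitRel (Subgroup.zpowers y)
      (G ⧸ (S : Subgroup G))) =>
        Function.minimalPeriod (y • ·) q.out = 1 ∧ q.out.out⁻¹ * y * q.out.out ∉ T)).card :=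
    even_iff_two_dvd.2 hk
  exact (Nat.odd_add.1 hodd).2 hev


open Classical in
/-- the transfer count in terms of fixed cosets -/
theorem odd_fixed' [Finite G] (S : Sylow 2 G) (T : Subgroup G) (hTS : T ≤ S)
    [hTn : (T.subgroupOf (S : Subgroup G)).Normal]
    (hcyc : IsCyclic (↥(S : Subgroup G) ⧸ T.subgroupOf (S : Subgroup G)))
    (htriv : ∀ (A : Type u) [CommGroup A] [Finite A], IsPGroup 2 A → ∀ (f : G →* A) (g : G), f g = 1)
    (y : G) (hy : orderOf y = 2) (hyS : y ∈ S) (hyT : y ∉ T) :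
    Odd (Nat.card {a : G ⧸ (S : Subgroup G) // y • a = a ∧ PT (S : Subgroup G) T y a}) := by
  haveI : Fintype (Quotient (MulAction.orbitRel (Subgroup.zpowers y) (G ⧸ (S : Subgroup G)))) :=
    Fintype.ofFinite _
  haveI : Fintype (G ⧸ (S : Subgroup G)) := Fintype.ofFinite _
  have h := odd_orbits' S T hTS hcyc htriv y hy hyS hyT
  rw [Nat.card_eq_fintype_card, Fintype.card_subtype]
  have himg : (Finset.univ.filter (fun a : G ⧸ (S : Subgroup G) =>
      y • a = a ∧ PT (S : Subgroup G) T y a)) =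
      (Finset.univ.filter (fun q : Quotient (MulAction.orbitRel (Subgroup.zpowers y)
      (G ⧸ (S : Subgroup G))) =>
        Function.minimalPeriod (y • ·) q.out = 1 ∧ q.out.out⁻¹ * y * q.out.out ∈ T)).image
        (fun q => q.out) := by
    ext a
    simp only [Finset.mem_filter, Finset.mem_univ, true_and, Finset.mem_image]
    constructor
    · rintro ⟨ha, hP⟩
      refine ⟨Quotient.mk _ a, ?_, out_eq_of_fixed ha⟩
      rw [out_eq_of_fixed ha]
      refine ⟨?_, (PT_out hTS).1 hP⟩
      rw [Function.minimalPeriod_eq_one_iff_isFixedPt]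
      exact ha
    · rintro ⟨q, ⟨h1, h2⟩, rfl⟩
      refine ⟨?_, (PT_out hTS).2 h2⟩
      rw [Function.minimalPeriod_eq_one_iff_isFixedPt] at h1
      exact h1
  rw [himg, Finset.card_image_of_injective _ Quotient.out_injective]
  exact h


/-- Extremal conjugation (Thompson transfer) for a group without nontrivial homomorphisms to finite abelian 2-groups. -/
theorem exists_extremal_conj [Finite G]
    (htriv : ∀ (A : Type u) [CommGroup A] [Finite A], IsPGroup 2 A → ∀ (f : G →* A) (g : G), f g = 1)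
    (S : Sylow 2 G) (T : Subgroup G) (hTS : T ≤ S)
    [hTn : (T.subgroupOf (S : Subgroup G)).Normal]
    (hcyc : IsCyclic (↥(S : Subgroup G) ⧸ T.subgroupOf (S : Subgroup G)))
    (y : G) (hy : orderOf y = 2) (hyS : y ∈ S) (hyT : y ∉ T) :
    ∃ g : G, g * y * g⁻¹ ∈ T ∧
      ¬ 2 ∣ ((S : Subgroup G) ⊓ Subgroup.centralizer {g * y * g⁻¹}).relIndex
          (Subgroup.centralizer {g * y * g⁻¹}) ∧
      ((S : Subgroup G) ⊓ Subgroup.centralizer {y}).map (MulAut.conj g).toMonoidHom ≤
        (S : Subgroup G) ⊓ Subgroup.centralizer {g * y * g⁻¹} := by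
  classical
  haveI : Fact (Nat.Prime 2) := ⟨Nat.prime_two⟩
  have hodd := odd_fixed' S T hTS hcyc htriv y hy hyS hyT
  -- a Sylow 2-subgroup Q of C(y) containing C_S(y)
  obtain ⟨Q, hQ, hRQ⟩ := exists_isSylowIn_ge (p := 2)
    (Q := (S : Subgroup G) ⊓ Subgroup.centralizer {y}) (H := Subgroup.centralizer {y})
    (S.isPGroup'.to_le inf_le_left) inf_le_right
  have hQp : IsPGroup 2 ↥Q := hQ.isPGroup
  -- the sub-action of Q on the fixed cosets
  let F : SubMulAction ↥Q (G ⧸ (S : Subgroup G)) :=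
    { carrier := {a | y • a = a ∧ PT (S : Subgroup G) T y a}
      smul_mem' := by
        rintro ⟨x, hx⟩ a ⟨ha, g, rfl, hg⟩
        have hxy : x * y = y * x :=
          (Subgroup.mem_centralizer_singleton_iff.1 (hQ.1 hx))
        refine ⟨?_, x * g, rfl, ?_⟩
        · show y • (x • (g : G ⧸ (S : Subgroup G))) = x • (g : G ⧸ (S : Subgroup G))
          rw [smul_smul, ← hxy, ← smul_smul, ha]
        · have : (x * g)⁻¹ * y * (x * g) = g⁻¹ * (x⁻¹ * (y * x)) * g := by group
          rw [this, ← hxy]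
          have : g⁻¹ * (x⁻¹ * (x * y)) * g = g⁻¹ * y * g := by group
          rw [this]; exact hg }
  have hcardF : ¬ 2 ∣ Nat.card ↥F := by
    intro h2
    exact (Nat.not_even_iff_odd.2 hodd) (even_iff_two_dvd.2 h2)
  obtain ⟨⟨a, ha⟩, hfix⟩ := hQp.nonempty_fixed_point_of_prime_not_dvd_card ↥F hcardF
  obtain ⟨hya, g, rfl, hgT⟩ := ha
  -- Q fixes the coset gS
  have hQg : ∀ x ∈ Q, g⁻¹ * x * g ∈ (S : Subgroup G) := by
    intro x hx
    have h1 := hfix ⟨x, hx⟩
    have h2 := congrArg Subtype.val h1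
    rw [SubMulAction.val_smul] at h2
    change ((x * g : G) : G ⧸ (S : Subgroup G)) = (g : G ⧸ (S : Subgroup G)) at h2
    rw [QuotientGroup.eq] at h2
    have : (x * g)⁻¹ * g = (g⁻¹ * x * g)⁻¹ := by group
    rw [this] at h2
    exact (Subgroup.inv_mem_iff _).1 h2
  refine ⟨g⁻¹, by rwa [inv_inv], ?_, ?_⟩
  · -- Q^{g⁻¹} is a Sylow 2-subgroup of C(y') inside S ∩ C(y')
    have hcen := centralizer_conj g⁻¹ y
    have hQc : IsSylowIn 2 (Q.map (MulAut.conj g⁻¹).toMonoidHom)
        (Subgroup.centralizer {g⁻¹ * y * g⁻¹⁻¹}) := by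
      rw [hcen]
      refine ⟨Subgroup.map_mono hQ.1, ?_⟩
      rw [card_map_conj, card_map_conj]
      exact hQ.2
    have hle : Q.map (MulAut.conj g⁻¹).toMonoidHom ≤
        (S : Subgroup G) ⊓ Subgroup.centralizer {g⁻¹ * y * g⁻¹⁻¹} := by
      refine le_inf ?_ hQc.1
      intro x hx
      rw [mem_map_conj] at hx
      have := hQg _ hx
      have e : g⁻¹ * (g⁻¹⁻¹ * x * g⁻¹) * g = x := by group
      rwa [e] at this
    have heq := eq_of_isSylowIn_le hQc hle inf_le_right (S.isPGroup'.to_le inf_le_left)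
    rw [heq]
    exact not_dvd_relIndex_of_isSylowIn hQc
  · have hcen := centralizer_conj g⁻¹ y
    refine le_inf ?_ ?_
    · intro x hx
      rw [mem_map_conj] at hx
      have := hQg _ (hRQ hx)
      have e : g⁻¹ * (g⁻¹⁻¹ * x * g⁻¹) * g = x := by group
      rwa [e] at this
    · rw [hcen]
      exact Subgroup.map_mono inf_le_right


/-- a group with `O²(G) = G` has no nontrivial homomorphism to a finite 2-group -/
theorem hom_trivial_of_pResidual_eq_top (hO : Cfsg.pResidual 2 G = ⊤) (A : Type u) [CommGroup A] [Finite A]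
    (hA : IsPGroup 2 A) (f : G →* A) (g : G) : f g = 1 := by
  have hle : Cfsg.pResidual 2 G ≤ f.ker := by
    unfold Cfsg.pResidual
    rw [Subgroup.closure_le]
    intro x hx
    have hx' : Nat.Coprime (orderOf x) 2 := hx
    show f x = 1
    obtain ⟨k, hk⟩ := hA (f x)
    have h1 : orderOf (f x) ∣ 2 ^ k := orderOf_dvd_of_pow_eq_one hk
    have h2 : orderOf (f x) ∣ orderOf x := orderOf_map_dvd f x
    have h3 : Nat.Coprime (orderOf x) (2 ^ k) := Nat.Coprime.pow_right k hx'
    exact orderOf_eq_one_iff.mp (Nat.eq_one_of_dvd_coprimes h3 h2 h1)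
  have : g ∈ f.ker := hle (by rw [hO]; exact Subgroup.mem_top g)
  exact this

/-- a maximal subgroup of a finite `p`-group is normal with cyclic quotient -/
theorem coatom_normal_cyclic_quotient {P : Type*} [Group P] [Finite P] {p : ℕ} [Fact p.Prime]
    (hP : IsPGroup p P) (M : Subgroup P) (hM : IsCoatom M) :
    ∃ _ : M.Normal, IsCyclic (P ⧸ M) := by
  haveI : Group.IsNilpotent P := hP.isNilpotent
  have hn : M.Normal := Subgroup.NormalizerCondition.normal_of_coatom M
    Group.normalizerCondition_of_isNilpotent hM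
  refine ⟨hn, ?_⟩
  haveI := hn
  have hQp : IsPGroup p (P ⧸ M) := hP.to_quotient M
  haveI : Nontrivial (P ⧸ M) := by
    rw [← not_subsingleton_iff_nontrivial]
    intro hs
    apply hM.1
    rw [eq_top_iff]
    intro x _
    have : (x : P ⧸ M) = 1 := Subsingleton.elim _ _
    exact (QuotientGroup.eq_one_iff x).mp this
  have hpd : p ∣ Nat.card (P ⧸ M) := by
    obtain ⟨k, hk⟩ := hQp.exists_card_eq
    have hk0 : k ≠ 0 := by
      rintro rfl
      rw [pow_zero] at hk
      have : Subsingleton (P ⧸ M) := (Nat.card_eq_one_iff_unique.mp hk).1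
      exact not_subsingleton (P ⧸ M) this
    rw [hk]; exact dvd_pow_self p hk0
  obtain ⟨x, hx⟩ := exists_prime_orderOf_dvd_card' p hpd
  have hx1 : x ≠ 1 := by
    intro h; rw [h, orderOf_one] at hx; exact (Fact.out : p.Prime).one_lt.ne hx
  set K : Subgroup P := (Subgroup.zpowers x).comap (QuotientGroup.mk' M) with hK
  have hMK : M ≤ K := by
    intro m hm
    show (QuotientGroup.mk' M m) ∈ Subgroup.zpowers x
    have : QuotientGroup.mk' M m = 1 := (QuotientGroup.eq_one_iff m).mpr hm
    rw [this]; exact Subgroup.one_mem _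
  have hKne : K ≠ M := by
    intro hKM
    obtain ⟨x₀, rfl⟩ := QuotientGroup.mk'_surjective M x
    have : x₀ ∈ K := Subgroup.mem_zpowers _
    rw [hKM] at this
    exact hx1 ((QuotientGroup.eq_one_iff x₀).mpr this)
  have hKtop : K = ⊤ := hM.2 K (lt_of_le_of_ne hMK (Ne.symm hKne))
  refine ⟨x, fun y => ?_⟩
  obtain ⟨y₀, rfl⟩ := QuotientGroup.mk'_surjective M y
  have : y₀ ∈ K := by rw [hKtop]; exact Subgroup.mem_top _
  exact this

theorem sylow_two_center_trichotomy [Finite G] (S : Sylow 2 G) :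
    Cfsg.pResidual 2 G ≠ ⊤ ∨
    Cfsg.omegaOne 2 ((S : Subgroup G) ⊓ Subgroup.centralizer ((S : Subgroup G) : Set G)) ≤
      (frattini ↥(S : Subgroup G)).map (S : Subgroup G).subtype ∨
    ∃ g ∈ Subgroup.normalizer ((S : Subgroup G) : Set G),
      ∃ z ∈ Cfsg.omegaOne 2 ((S : Subgroup G) ⊓ Subgroup.centralizer ((S : Subgroup G) : Set G)),
        g * z * g⁻¹ ≠ z := by
  haveI : Fact (Nat.Prime 2) := ⟨Nat.prime_two⟩
  by_contra hcon
  push Not at hcon
  obtain ⟨hO, hnle, hcent⟩ := hcon
  -- a generator outside the Frattini subgroup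
  obtain ⟨z, ⟨hzZ, hz2⟩, hzF⟩ : ∃ z : G, (z ∈ (S : Subgroup G) ⊓ Subgroup.centralizer ((S : Subgroup G) : Set G) ∧
      z ^ 2 = 1) ∧ z ∉ (frattini ↥(S : Subgroup G)).map (S : Subgroup G).subtype := by
    by_contra hall
    push Not at hall
    apply hnle
    unfold Cfsg.omegaOne
    rw [Subgroup.closure_le]
    intro x hx
    exact hall x hx
  have hzS : z ∈ (S : Subgroup G) := hzZ.1
  have hzΩ : z ∈ Cfsg.omegaOne 2 ((S : Subgroup G) ⊓ Subgroup.centralizer ((S : Subgroup G) : Set G)) :=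
    Subgroup.subset_closure ⟨hzZ, hz2⟩
  have hz1 : z ≠ 1 := by
    rintro rfl
    exact hzF (Subgroup.one_mem _)
  have hzo : orderOf z = 2 := orderOf_eq_prime hz2 hz1
  have hzF' : (⟨z, hzS⟩ : ↥(S : Subgroup G)) ∉ frattini ↥(S : Subgroup G) := by
    intro h
    exact hzF ⟨⟨z, hzS⟩, h, rfl⟩
  obtain ⟨M, hM, hzM⟩ : ∃ M : Subgroup ↥(S : Subgroup G), IsCoatom M ∧ (⟨z, hzS⟩ : ↥(S : Subgroup G)) ∉ M := by
    by_contra hall
    push Not at hall
    apply hzF'
    unfold frattini Order.radical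
    rw [Subgroup.mem_iInf]
    intro M
    rw [Subgroup.mem_iInf]
    intro hM
    exact hall M hM
  obtain ⟨hMn, hMc⟩ := coatom_normal_cyclic_quotient S.isPGroup' M hM
  set T : Subgroup G := M.map (S : Subgroup G).subtype with hT
  have hTS : T ≤ (S : Subgroup G) := Subgroup.map_subtype_le M
  have hTM : T.subgroupOf (S : Subgroup G) = M := by
    rw [hT]
    exact Subgroup.comap_map_eq_self_of_injective (Subgroup.subtype_injective _) M
  haveI hTn : (T.subgroupOf (S : Subgroup G)).Normal := hTM ▸ hMn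
  have hcyc : IsCyclic (↥(S : Subgroup G) ⧸ T.subgroupOf (S : Subgroup G)) := by
    have : ∀ (M' : Subgroup ↥(S : Subgroup G)) (h : M' = M) [M'.Normal], IsCyclic (↥(S : Subgroup G) ⧸ M') := by
      intro M' h _
      subst h
      exact hMc
    exact this _ hTM
  have hzT : z ∉ T := by
    rintro ⟨w, hw, hwz⟩
    apply hzM
    have : w = ⟨z, hzS⟩ := Subtype.ext hwz
    rw [← this]; exact hw
  obtain ⟨g, hgT, -, hle⟩ := exists_extremal_conj (hom_trivial_of_pResidual_eq_top hO) S T hTS hcyc z hzo hzS hzT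
  -- g normalizes S
  have hSC : (S : Subgroup G) ⊓ Subgroup.centralizer {z} = (S : Subgroup G) := by
    rw [inf_eq_left]
    intro s hs
    rw [Subgroup.mem_centralizer_singleton_iff]
    exact ((Subgroup.mem_centralizer_iff.mp hzZ.2) s hs)
  rw [hSC] at hle
  have hgN : g ∈ Subgroup.normalizer ((S : Subgroup G) : Set G) := by
    apply mem_normalizer_of_conj_mem
    intro r hr
    exact (hle ⟨r, hr, rfl⟩).1
  have := hcent g hgN z hzΩ
  rw [this] at hgT
  exact hzT hgT

end Cfsg.Agent.Lib.Helper7
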