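import Mathlib

set_option autoImplicit false

namespace Cfsg.Agent.Lib.Helper7.ThreePrimes

open Finset

/-- product over a cyclic orbit is fixed -/
theorem prod_pow_fixed {L M : Type*} [Group L] [CommGroup M] (φ : L →* MulAut M)
    (g : L) (r : ℕ) (hg : g ^ r = 1) (v : M) :
    φ g (∏ i ∈ range r, φ (g ^ i) v) = ∏ i ∈ range r, φ (g ^ i) v := by
  rw [map_prod]
  have h1 : ∀ i ∈ range r, φ g (φ (g ^ i) v) = φ (g ^ (i + 1)) v := by
    intro i _
    rw [pow_succ', map_mul]; rfl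
  rw [prod_congr rfl h1]
  have h2 := prod_range_succ (fun i => φ (g ^ i) v) r
  have h3 := prod_range_succ' (fun i => φ (g ^ i) v) r
  rw [h2] at h3
  simp only [hg, pow_zero] at h3
  exact (mul_right_cancel h3).symm

/-- abstract fixed-point-free counting argument -/
theorem fpf_key {L M : Type*} [Group L] [CommGroup M] (φ : L →* MulAut M)
    (Q : Subgroup L) [Finite Q] (y : L) (r : ℕ) (hr : r.Prime) (hy : orderOf y = r)
    (hnorm : ∀ x ∈ Q, y * x * y⁻¹ ∈ Q)
    (hcent : ∀ x ∈ Q, y * x = x * y → x = 1)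
    (x₀ : L) (hx₀ : x₀ ∈ Q) (hfx₀ : ∀ v : M, φ x₀ v = v → v = 1)
    (hfy : ∀ x ∈ Q, ∀ v : M, φ (x * y * x⁻¹) v = v → v = 1) :
    ∀ v : M, v ^ Nat.card Q = 1 := by
  classical
  have : Fintype Q := Fintype.ofFinite Q
  -- S(v) = 1
  have hS : ∀ v : M, ∏ x : Q, φ (x : L) v = 1 := by
    intro v
    apply hfx₀
    rw [map_prod]
    have : ∀ x : Q, φ x₀ (φ (x : L) v) = φ ((⟨x₀, hx₀⟩ * x : Q) : L) v := by
      intro x
      simp [map_mul]
    simp_rw [this]
    exact Fintype.prod_bijective (fun x : Q => ⟨x₀, hx₀⟩ * x) (Group.mulLeft_bijective _) _ _ (fun _ => rfl)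
  -- y^i normalizes Q
  have hnormpow : ∀ i : ℕ, ∀ x ∈ Q, y ^ i * x * (y ^ i)⁻¹ ∈ Q := by
    intro i
    induction i with
    | zero => intro x hx; simpa using hx
    | succ i ih =>
      intro x hx
      have := hnorm _ (ih x hx)
      have e : y ^ (i + 1) * x * (y ^ (i + 1))⁻¹ = y * (y ^ i * x * (y ^ i)⁻¹) * y⁻¹ := by
        rw [pow_succ']; group
      rw [e]; exact this
  -- T_x(v) = 1
  have hT : ∀ x ∈ Q, ∀ v : M, ∏ i ∈ range r, φ (x * y ^ i * x⁻¹) v = 1 := by
    intro x hx v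
    apply hfy x hx
    have hg : ∀ i : ℕ, x * y ^ i * x⁻¹ = (x * y * x⁻¹) ^ i := by
      intro i; rw [conj_pow]
    simp_rw [hg]
    apply prod_pow_fixed
    rw [← hg, ← hy, pow_orderOf_eq_one]; group
  -- centralizer of y^i in Q trivial for 0<i<r
  have hcentpow : ∀ i : ℕ, 0 < i → i < r → ∀ x ∈ Q, y ^ i * x = x * y ^ i → x = 1 := by
    intro i hi0 hir x hx hc
    apply hcent x hx
    have hcop : Nat.Coprime i (orderOf y) := by
      rw [hy, Nat.coprime_comm, Nat.Prime.coprime_iff_not_dvd hr]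
      exact Nat.not_dvd_of_pos_of_lt hi0 hir
    obtain ⟨m, hm⟩ := exists_pow_eq_self_of_coprime hcop
    have hc' : Commute (y ^ i) x := hc
    have := hc'.pow_left m
    rw [hm] at this
    exact this
  -- the swap
  intro v
  have h1 : ∏ x : Q, ∏ i ∈ range r, φ ((x : L) * y ^ i * (x : L)⁻¹) v = 1 := by
    apply Finset.prod_eq_one
    intro x _
    exact hT x x.2 v
  rw [Finset.prod_comm] at h1
  have hr0 : r = (r - 1) + 1 := (Nat.succ_pred_eq_of_pos hr.pos).symm
  rw [hr0, prod_range_succ'] at h1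
  have h2 : ∀ i ∈ range (r - 1), ∏ x : Q, φ ((x : L) * y ^ (i + 1) * (x : L)⁻¹) v = 1 := by
    intro i hi
    have hi' : i + 1 < r := by have := mem_range.mp hi; omega
    -- bijection
    let ψ : Q → Q := fun x => ⟨(x : L) * (y ^ (i + 1) * (x : L)⁻¹ * (y ^ (i + 1))⁻¹),
      Q.mul_mem x.2 (hnormpow (i + 1) _ (Q.inv_mem x.2))⟩
    have hψinj : Function.Injective ψ := by
      intro a b hab
      have hab' : (a : L) * (y ^ (i + 1) * (a : L)⁻¹ * (y ^ (i + 1))⁻¹) =
          (b : L) * (y ^ (i + 1) * (b : L)⁻¹ * (y ^ (i + 1))⁻¹) := congrArg Subtype.val hab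
      have h3 : y ^ (i + 1) * ((b : L)⁻¹ * a) = ((b : L)⁻¹ * a) * y ^ (i + 1) := by
        have h4 : (a : L) * y ^ (i + 1) * (a : L)⁻¹ = (b : L) * y ^ (i + 1) * (b : L)⁻¹ := by
          have := congrArg (fun t => t * y ^ (i + 1)) hab'
          simpa [mul_assoc] using this
        calc y ^ (i + 1) * ((b : L)⁻¹ * a)
            = (b : L)⁻¹ * ((b : L) * y ^ (i + 1) * (b : L)⁻¹) * a := by group
          _ = (b : L)⁻¹ * ((a : L) * y ^ (i + 1) * (a : L)⁻¹) * a := by rw [h4]
          _ = ((b : L)⁻¹ * a) * y ^ (i + 1) := by group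
      have h6 := hcentpow (i + 1) (Nat.succ_pos i) hi' _ (Q.mul_mem (Q.inv_mem b.2) a.2) h3
      apply Subtype.ext
      have : (a : L) = b := by
        have := congrArg (fun t => (b : L) * t) h6
        simpa using this
      exact this
    have hψbij : Function.Bijective ψ := Finite.injective_iff_bijective.mp hψinj
    have h7 : ∀ x : Q, φ ((x : L) * y ^ (i + 1) * (x : L)⁻¹) v = φ ((ψ x : Q) : L) (φ (y ^ (i + 1)) v) := by
      intro x
      change _ = (φ _ * φ _) v
      rw [← map_mul]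
      congr 2
      simp only [ψ]; group
    simp_rw [h7]
    rw [Function.Bijective.prod_comp hψbij (fun z : Q => φ (z : L) (φ (y ^ (i + 1)) v))]
    exact hS _
  rw [prod_eq_one h2, one_mul] at h1
  simpa using h1

end Cfsg.Agent.Lib.Helper7.ThreePrimes
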