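import Mathlib
import Cfsg.Agent.Lib.Helper7.ThreePrimesA

set_option autoImplicit false

namespace Cfsg.Agent.Lib.Helper7.ThreePrimes

/-- a nontrivial element of a `p`-group has a power of order `p` -/
theorem exists_pow_orderOf_eq_prime {G : Type*} [Group G] (p : ℕ) (hp : p.Prime) (v : G)
    (hv : ∃ k : ℕ, v ^ p ^ k = 1) (hv1 : v ≠ 1) : ∃ m : ℕ, orderOf (v ^ m) = p := by
  obtain ⟨k, hk⟩ := hv
  have hdvd : orderOf v ∣ p ^ k := orderOf_dvd_of_pow_eq_one hk
  obtain ⟨j, -, hj⟩ := (Nat.dvd_prime_pow hp).mp hdvd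
  have hj0 : j ≠ 0 := by
    rintro rfl
    rw [pow_zero, orderOf_eq_one_iff] at hj
    exact hv1 hj
  refine ⟨p ^ (j - 1), ?_⟩
  rw [orderOf_pow_of_dvd (pow_ne_zero _ hp.ne_zero) (by rw [hj]; exact pow_dvd_pow p (Nat.sub_le j 1)), hj]
  obtain ⟨i, rfl⟩ := Nat.exists_eq_succ_of_ne_zero hj0
  rw [Nat.succ_sub_one, pow_succ, Nat.mul_div_cancel_left _ (pow_pos hp.pos i)]

theorem lemmaA' {G : Type*} [Group G] [Finite G] (p q r : ℕ) (hp : p.Prime) (hq : q.Prime) (hr : r.Prime)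
    (hpq : p ≠ q) (hpr : p ≠ r) (hqr : q ≠ r)
    (N : Subgroup G) [N.Normal] (hNab : IsMulCommutative N) (hNp : IsPGroup p N) (hN1 : N ≠ ⊥)
    (Q : Subgroup G) (hQ1 : Q ≠ ⊥) (hQq : ∀ x ∈ Q, x ^ q = 1)
    (y : G) (hy : orderOf y = r) (hnorm : ∀ x ∈ Q, y * x * y⁻¹ ∈ Q) :
    ∃ g : G, orderOf g = p * q ∨ orderOf g = p * r ∨ orderOf g = q * r := by
  by_contra hno
  push Not at hno
  -- elements of prime order s ≠ p with p * s excluded act fixed point freely
  have hF : ∀ s : ℕ, s.Prime → p ≠ s → (∀ g : G, orderOf g ≠ p * s) →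
      ∀ x : G, orderOf x = s → ∀ v ∈ N, x * v * x⁻¹ = v → v = 1 := by
    intro s hs hps hnos x hx v hv hxv
    by_contra hv1
    obtain ⟨m, hm⟩ := exists_pow_orderOf_eq_prime p hp v (by
      obtain ⟨k, hk⟩ := hNp ⟨v, hv⟩
      exact ⟨k, by simpa using congrArg Subtype.val hk⟩) hv1
    have hc : Commute x v := by
      have : x * v = v * x := by
        have := congrArg (fun t => t * x) hxv
        simpa using this
      exact this
    have hc' : Commute (v ^ m) x := (hc.pow_right m).symm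
    have := hc'.orderOf_mul_eq_mul_orderOf_of_coprime (by
      rw [hm, hx]; exact (Nat.coprime_primes hp hs).mpr hps)
    rw [hm, hx] at this
    exact hnos _ this
  have hFq := hF q hq hpq (fun g => (hno g).1)
  have hFr := hF r hr hpr (fun g => (hno g).2.1)
  haveI : Fact q.Prime := ⟨hq⟩
  have hQord : ∀ x ∈ Q, x ≠ 1 → orderOf x = q := fun x hx hx1 => orderOf_eq_prime (hQq x hx) hx1
  have hcent : ∀ x ∈ Q, y * x = x * y → x = 1 := by
    intro x hx hc
    by_contra hx1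
    have hc' : Commute x y := hc.symm
    have := hc'.orderOf_mul_eq_mul_orderOf_of_coprime (by
      rw [hQord x hx hx1, hy]; exact (Nat.coprime_primes hq hr).mpr hqr)
    rw [hQord x hx hx1, hy] at this
    exact (hno _).2.2 this
  obtain ⟨⟨x₀, hx₀⟩, hx₀1'⟩ := (Subgroup.ne_bot_iff_exists_ne_one).mp hQ1
  have hx₀1 : x₀ ≠ 1 := fun h => hx₀1' (Subtype.ext h)
  letI : CommGroup N := { (inferInstance : Group N) with mul_comm := fun a b => mul_comm' a b }
  have key := fpf_key (MulAut.conjNormal (H := N)) Q y r hr hy hnorm hcent x₀ hx₀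
    (by
      intro v hv
      have h1 : x₀ * (v : G) * x₀⁻¹ = v := by
        rw [← MulAut.conjNormal_apply]; exact congrArg Subtype.val hv
      exact Subtype.ext (hFq x₀ (hQord x₀ hx₀ hx₀1) v v.2 h1))
    (by
      intro x hx v hv
      have h1 : (x * y * x⁻¹) * (v : G) * (x * y * x⁻¹)⁻¹ = v := by
        rw [← MulAut.conjNormal_apply]; exact congrArg Subtype.val hv
      have h2 : orderOf (x * y * x⁻¹) = r := by
        rw [← hy]; exact (MulAut.conj x).orderOf_eq y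
      exact Subtype.ext (hFr _ h2 v v.2 h1))
  -- now derive contradiction
  have hQp : IsPGroup q Q := fun x => ⟨1, by rw [pow_one]; exact Subtype.ext (hQq x x.2)⟩
  obtain ⟨k, hk⟩ := hQp.exists_card_eq
  obtain ⟨v, hv1⟩ := (Subgroup.ne_bot_iff_exists_ne_one).mp hN1
  have h1 := key v
  rw [hk] at h1
  obtain ⟨j, hj⟩ := hNp v
  have h2 : orderOf v ∣ Nat.gcd (q ^ k) (p ^ j) :=
    Nat.dvd_gcd (orderOf_dvd_of_pow_eq_one h1) (orderOf_dvd_of_pow_eq_one hj)
  have h3 : Nat.gcd (q ^ k) (p ^ j) = 1 :=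
    Nat.Coprime.pow _ _ ((Nat.coprime_primes hq hp).mpr hpq.symm)
  rw [h3, Nat.dvd_one, orderOf_eq_one_iff] at h2
  exact hv1 h2

end Cfsg.Agent.Lib.Helper7.ThreePrimes
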