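import Mathlib
import Cfsg.Agent.Lib.Helper7.ThreePrimesB
import Cfsg.Agent.H1.Hall

set_option autoImplicit false

namespace Cfsg.Agent.Lib.Helper7.ThreePrimes

open Cfsg.Agent.H1

universe u

/-- version with a given `{q,r}`-subgroup `K` having a minimal normal `q`-subgroup -/
theorem lemmaA'' {G : Type*} [Group G] [Finite G] (p q r : ℕ) (hp : p.Prime) (hq : q.Prime) (hr : r.Prime)
    (hpq : p ≠ q) (hpr : p ≠ r) (hqr : q ≠ r)
    (N : Subgroup G) [N.Normal] (hNab : IsMulCommutative N) (hNp : IsPGroup p N) (hN1 : N ≠ ⊥)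
    (K : Subgroup G) (Q₀ : Subgroup K) [Q₀.Normal] (hQ1 : Q₀ ≠ ⊥) (hQq : ∀ x ∈ Q₀, x ^ q = 1)
    (hrK : r ∣ Nat.card K) :
    ∃ g : G, orderOf g = p * q ∨ orderOf g = p * r ∨ orderOf g = q * r := by
  haveI : Fact r.Prime := ⟨hr⟩
  obtain ⟨y, hy⟩ := exists_prime_orderOf_dvd_card' r hrK
  refine lemmaA' p q r hp hq hr hpq hpr hqr N hNab hNp hN1 (Q₀.map K.subtype) ?_ ?_ (y : G) ?_ ?_
  · intro h
    apply hQ1
    rw [← le_bot_iff] at h ⊢
    intro x hx
    have : (x : G) ∈ Q₀.map K.subtype := Subgroup.mem_map.mpr ⟨x, hx, rfl⟩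
    have := h this
    rw [Subgroup.mem_bot] at this ⊢
    exact Subtype.ext this
  · rintro _ ⟨x, hx, rfl⟩
    have := hQq x hx
    simpa using congrArg Subtype.val this
  · rw [Subgroup.orderOf_coe]; exact hy
  · rintro _ ⟨x, hx, rfl⟩
    refine Subgroup.mem_map.mpr ⟨y * x * y⁻¹, ?_, by simp⟩
    exact ‹Q₀.Normal›.conj_mem x hx y

theorem lemmaA {G : Type u} [Group G] [Finite G] [Group.IsSolvable G] (p q r : ℕ)
    (hp : p.Prime) (hq : q.Prime) (hr : r.Prime)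
    (hpq : p ≠ q) (hpr : p ≠ r) (hqr : q ≠ r)
    (N : Subgroup G) [N.Normal] (hNab : IsMulCommutative N) (hNp : IsPGroup p N) (hN1 : N ≠ ⊥)
    (hqG : q ∣ Nat.card G) (hrG : r ∣ Nat.card G) :
    ∃ g : G, orderOf g = p * q ∨ orderOf g = p * r ∨ orderOf g = q * r := by
  obtain ⟨c, hc⟩ : ∃ c, Nat.card G = c := ⟨_, rfl⟩
  have hc0 : c ≠ 0 := by rw [← hc]; exact Nat.card_pos.ne'
  rw [hc] at hqG hrG
  set a := c.factorization q with ha
  set b := c.factorization r with hb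
  have ha0 : 0 < a := hq.factorization_pos_of_dvd hc0 hqG
  have hb0 : 0 < b := hr.factorization_pos_of_dvd hc0 hrG
  have hcopqr : Nat.Coprime (q ^ a) (r ^ b) := Nat.Coprime.pow _ _ ((Nat.coprime_primes hq hr).mpr hqr)
  have hmdvd : q ^ a * r ^ b ∣ c :=
    Nat.Coprime.mul_dvd_of_dvd_of_dvd hcopqr (Nat.ordProj_dvd c q) (Nat.ordProj_dvd c r)
  obtain ⟨n, hn⟩ := hmdvd
  have hcop : Nat.Coprime (q ^ a * r ^ b) n := by
    rw [Nat.coprime_mul_iff_left]
    constructor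
    · apply Nat.Coprime.pow_left
      rw [Nat.Prime.coprime_iff_not_dvd hq]
      intro hqn
      apply Nat.pow_succ_factorization_not_dvd hc0 hq
      rw [← ha, hn, pow_succ]
      obtain ⟨n', rfl⟩ := hqn
      exact ⟨r ^ b * n', by ring⟩
    · apply Nat.Coprime.pow_left
      rw [Nat.Prime.coprime_iff_not_dvd hr]
      intro hrn
      apply Nat.pow_succ_factorization_not_dvd hc0 hr
      rw [← hb, hn, pow_succ]
      obtain ⟨n', rfl⟩ := hrn
      exact ⟨q ^ a * n', by ring⟩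
  obtain ⟨K, hK⟩ := hall_exists (q ^ a * r ^ b) n (hc.trans hn) hcop
  have hqK : q ∣ Nat.card K := by
    rw [hK]; exact Dvd.dvd.mul_right (dvd_pow_self q ha0.ne') _
  have hrK : r ∣ Nat.card K := by
    rw [hK]; exact Dvd.dvd.mul_left (dvd_pow_self r hb0.ne') _
  haveI : Nontrivial K := by
    rw [← Finite.one_lt_card_iff_nontrivial]
    exact lt_of_lt_of_le hq.one_lt (Nat.le_of_dvd Nat.card_pos hqK)
  obtain ⟨Q₀, hQn, hQne, -, hQmin⟩ := exists_minimal_normal_le (⊤ : Subgroup K) top_ne_bot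
  obtain ⟨-, s, hs, hspow⟩ := Cfsg.Agent.S0043.result Q₀ hQne hQmin
  -- s = q or s = r
  obtain ⟨⟨x₀, hx₀⟩, hx₀1⟩ := (Subgroup.ne_bot_iff_exists_ne_one).mp hQne
  have hx₀1' : x₀ ≠ 1 := fun h => hx₀1 (Subtype.ext h)
  haveI : Fact s.Prime := ⟨hs⟩
  have hord : orderOf x₀ = s := orderOf_eq_prime (hspow x₀ hx₀) hx₀1'
  have hsK : s ∣ q ^ a * r ^ b := by
    rw [← hK, ← hord]; exact orderOf_dvd_natCard x₀
  have hsqr : s = q ∨ s = r := by
    rcases (Nat.Prime.dvd_mul hs).mp hsK with h | h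
    · left; exact (Nat.prime_dvd_prime_iff_eq hs hq).mp (hs.dvd_of_dvd_pow h)
    · right; exact (Nat.prime_dvd_prime_iff_eq hs hr).mp (hs.dvd_of_dvd_pow h)
  rcases hsqr with rfl | rfl
  · exact lemmaA'' p s r hp hs hr hpq hpr hqr N hNab hNp hN1 K Q₀ hQne hspow hrK
  · obtain ⟨g, hg⟩ := lemmaA'' p s q hp hs hq hpr hpq hqr.symm N hNab hNp hN1 K Q₀ hQne hspow hqK
    refine ⟨g, ?_⟩
    rcases hg with h | h | h
    · exact Or.inr (Or.inl h)
    · exact Or.inl h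
    · exact Or.inr (Or.inr (by rw [h, mul_comm]))

end Cfsg.Agent.Lib.Helper7.ThreePrimes
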