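import Mathlib
import Cfsg.Agent.Lib.Helper7.ThreePrimesC

set_option autoImplicit false

namespace Cfsg.Agent.Lib.Helper7.ThreePrimes

open Cfsg.Agent.H1

universe u

/-- lifting an element order from a quotient -/
theorem exists_orderOf_of_quotient {G : Type*} [Group G] [Finite G] (N : Subgroup G) [N.Normal]
    (d : ℕ) (hd : d ≠ 0) (h : ∃ g : G ⧸ N, orderOf g = d) : ∃ g : G, orderOf g = d := by
  obtain ⟨gbar, hg⟩ := h
  obtain ⟨g, rfl⟩ := QuotientGroup.mk_surjective gbar
  have hdvd : d ∣ orderOf g := by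
    rw [← hg]
    exact orderOf_map_dvd (QuotientGroup.mk' N) g
  have hpos : orderOf g ≠ 0 := (orderOf_pos g).ne'
  refine ⟨g ^ (orderOf g / d), ?_⟩
  rw [orderOf_pow_of_dvd ?_ (Nat.div_dvd_of_dvd hdvd), Nat.div_div_self hdvd hpos]
  intro h0
  rw [Nat.div_eq_zero_iff] at h0
  rcases h0 with h0 | h0
  · exact hd h0
  · exact absurd (Nat.le_of_dvd (orderOf_pos g) hdvd) (not_le.mpr h0)

theorem three_primes_aux : ∀ c : ℕ, ∀ (G : Type u) [Group G] [Finite G] [Group.IsSolvable G],
    Nat.card G = c → ∀ p q r : ℕ, p.Prime → q.Prime → r.Prime → p ≠ q → p ≠ r → q ≠ r →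
    p ∣ c → q ∣ c → r ∣ c →
    ∃ g : G, orderOf g = p * q ∨ orderOf g = p * r ∨ orderOf g = q * r := by
  intro c
  induction c using Nat.strong_induction_on with
  | _ c ih =>
    intro G _ _ _ hc p q r hp hq hr hpq hpr hqr hpc hqc hrc
    have hc0 : c ≠ 0 := by rw [← hc]; exact Nat.card_pos.ne'
    haveI : Nontrivial G := by
      rw [← Finite.one_lt_card_iff_nontrivial, hc]
      exact lt_of_lt_of_le hp.one_lt (Nat.le_of_dvd (Nat.pos_of_ne_zero hc0) hpc)
    obtain ⟨N, hNn, hNne, -, hNmin⟩ := exists_minimal_normal_le (⊤ : Subgroup G) top_ne_bot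
    obtain ⟨hNab, l, hl, hlpow⟩ := Cfsg.Agent.S0043.result N hNne hNmin
    have hNl : IsPGroup l N := fun g => ⟨1, by rw [pow_one]; exact Subtype.ext (hlpow g g.2)⟩
    haveI : Fact l.Prime := ⟨hl⟩
    obtain ⟨k, hk⟩ := hNl.exists_card_eq
    have hcard : Nat.card (G ⧸ N) * l ^ k = c := by
      rw [← hk, ← hc]; exact (Subgroup.card_eq_card_quotient_mul_card_subgroup N).symm
    have hk0 : k ≠ 0 := by
      rintro rfl
      rw [pow_zero, Subgroup.card_eq_one] at hk; exact hNne hk
    have hlt : Nat.card (G ⧸ N) < c := by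
      rw [← hcard]
      have h1 : 1 < l ^ k := Nat.one_lt_pow hk0 hl.one_lt
      have h2 : 0 < Nat.card (G ⧸ N) := Nat.card_pos
      nlinarith
    -- the case where some prime does not divide the quotient order
    have hcase : ∀ s t u : ℕ, s.Prime → t.Prime → u.Prime → s ≠ t → s ≠ u → t ≠ u →
        s ∣ c → t ∣ c → u ∣ c → ¬ s ∣ Nat.card (G ⧸ N) →
        ∃ g : G, orderOf g = s * t ∨ orderOf g = s * u ∨ orderOf g = t * u := by
      intro s t u hs ht hu hst hsu htu hsc htc huc hsn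
      have hsl : s = l := by
        rw [← hcard] at hsc
        rcases (Nat.Prime.dvd_mul hs).mp hsc with h | h
        · exact absurd h hsn
        · exact (Nat.prime_dvd_prime_iff_eq hs hl).mp (hs.dvd_of_dvd_pow h)
      subst hsl
      exact lemmaA s t u hs ht hu hst hsu htu N hNab hNl hNne (hc ▸ htc) (hc ▸ huc)
    by_cases hpn : p ∣ Nat.card (G ⧸ N)
    · by_cases hqn : q ∣ Nat.card (G ⧸ N)
      · by_cases hrn : r ∣ Nat.card (G ⧸ N)
        · obtain ⟨g, hg⟩ := ih _ hlt (G ⧸ N) rfl p q r hp hq hr hpq hpr hqr hpn hqn hrn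
          rcases hg with h | h | h
          · obtain ⟨g', hg'⟩ := exists_orderOf_of_quotient N (p * q) (mul_ne_zero hp.ne_zero hq.ne_zero) ⟨g, h⟩
            exact ⟨g', Or.inl hg'⟩
          · obtain ⟨g', hg'⟩ := exists_orderOf_of_quotient N (p * r) (mul_ne_zero hp.ne_zero hr.ne_zero) ⟨g, h⟩
            exact ⟨g', Or.inr (Or.inl hg')⟩
          · obtain ⟨g', hg'⟩ := exists_orderOf_of_quotient N (q * r) (mul_ne_zero hq.ne_zero hr.ne_zero) ⟨g, h⟩
            exact ⟨g', Or.inr (Or.inr hg')⟩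
        · obtain ⟨g, hg⟩ := hcase r p q hr hp hq hpr.symm hqr.symm hpq hrc hpc hqc hrn
          refine ⟨g, ?_⟩
          rcases hg with h | h | h
          · exact Or.inr (Or.inl (by rw [h, mul_comm]))
          · exact Or.inr (Or.inr (by rw [h, mul_comm]))
          · exact Or.inl h
      · obtain ⟨g, hg⟩ := hcase q p r hq hp hr hpq.symm hqr hpr hqc hpc hrc hqn
        refine ⟨g, ?_⟩
        rcases hg with h | h | h
        · exact Or.inl (by rw [h, mul_comm])
        · exact Or.inr (Or.inr h)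
        · exact Or.inr (Or.inl h)
    · exact hcase p q r hp hq hr hpq hpr hqr hpc hqc hrc hpn

/-- In a finite solvable group, among three distinct prime divisors of the order
two are "adjacent": there is an element whose order is the product of two of them. -/
theorem three_primes {G : Type u} [Group G] [Finite G] [Group.IsSolvable G] (p q r : ℕ)
    (hp : p.Prime) (hq : q.Prime) (hr : r.Prime) (hpq : p ≠ q) (hpr : p ≠ r) (hqr : q ≠ r)
    (hpG : p ∣ Nat.card G) (hqG : q ∣ Nat.card G) (hrG : r ∣ Nat.card G) :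
    ∃ g : G, orderOf g = p * q ∨ orderOf g = p * r ∨ orderOf g = q * r :=
  three_primes_aux _ G rfl p q r hp hq hr hpq hpr hqr hpG hqG hrG

/-- three primes below `n` with pairwise products above `n` -/
theorem exists_three_primes (n : ℕ) (hn : 7 ≤ n) :
    ∃ p q r : ℕ, p.Prime ∧ q.Prime ∧ r.Prime ∧ p < q ∧ q < r ∧ r ≤ n ∧ n < p * q := by
  by_cases h15 : n < 15
  · exact ⟨3, 5, 7, by norm_num, by norm_num, by norm_num, by norm_num, by norm_num, hn, by omega⟩
  by_cases h32 : n < 32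
  · exact ⟨5, 7, 11, by norm_num, by norm_num, by norm_num, by norm_num, by norm_num, by omega, by omega⟩
  obtain ⟨k, hk⟩ : ∃ k, k = n / 8 := ⟨_, rfl⟩
  have hk4 : 4 ≤ k := by omega
  have hk8 : 8 * k ≤ n := by omega
  have hk8' : n < 8 * k + 8 := by omega
  obtain ⟨p, hp, hp1, hp2⟩ := Nat.exists_prime_lt_and_le_two_mul k (by omega)
  obtain ⟨q, hq, hq1, hq2⟩ := Nat.exists_prime_lt_and_le_two_mul (2 * k) (by omega)
  obtain ⟨r, hr, hr1, hr2⟩ := Nat.exists_prime_lt_and_le_two_mul (4 * k) (by omega)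
  refine ⟨p, q, r, hp, hq, hr, by omega, by omega, by omega, ?_⟩
  have h1 : (k + 1) * (2 * k + 1) ≤ p * q := Nat.mul_le_mul hp1 hq1
  nlinarith

end Cfsg.Agent.Lib.Helper7.ThreePrimes
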