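import Cfsg.Agent.Lib.Helper7.TitsBaseD
import Cfsg.Agent.Lib.Helper7.MGenG
import Cfsg.Agent.Lib.Helper7.MGenE
import Cfsg.Agent.Lib.Helper6.TitsSimple
import Cfsg.Agent.Lib.Helper6.CoxLift

/-!
# The presented Tits group as a group of permutations of 1600 points, and six letters in it

The four involutions of the presentation act on 1600 points; the presented group is simple, so this action is
faithful, and a word in the generators is trivial as soon as it fixes all the points.  The six letters are
`u = xz`, `v = xy`, `t` and their inverses; `u` and `v` generate a subgroup `L`, and the six letters generate the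
group.
-/

set_option autoImplicit false
set_option maxRecDepth 100000

namespace Cfsg.Agent.Lib.Helper7.TitsB

open Cfsg Cfsg.Spor Cfsg.Agent.Lib.Helper7.MG Cfsg.Agent.Lib.Helper7.HSMult
open Cfsg.Agent.Lib.Helper6.TC Cfsg.Agent.Lib.Helper6.TitsSub Cfsg.Agent.Lib.Helper6

/-! ### the four involutions on the 1600 points -/

/-- the image of one of the 1600 points under one of the four involutions -/
def lkB : ℕ → ℕ → ℕ
  | 0, p => Nat.land (Nat.shiftRight tbX (Nat.mul 16 p)) 65535
  | 1, p => Nat.land (Nat.shiftRight tbY (Nat.mul 16 p)) 65535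
  | 2, p => Nat.land (Nat.shiftRight tbZ (Nat.mul 16 p)) 65535
  | 3, p => Nat.land (Nat.shiftRight tbT (Nat.mul 16 p)) 65535
  | _, p => p

theorem lkB_ge {x : ℕ} (hx : 4 ≤ x) (p : ℕ) : lkB x p = p := by
  obtain ⟨y, rfl⟩ : ∃ y, x = y + 4 := ⟨x - 4, by omega⟩
  rfl

theorem chk_invB : allN 4 (fun x => allN 1600 fun p =>
    Nat.blt (lkB x p) 1600 && Nat.beq (lkB x (lkB x p)) p) = true := by decide +kernel

theorem hhB (x p : ℕ) (hp : p < 1600) : lkB x p < 1600 ∧ lkB x (lkB x p) = p := by
  rcases Nat.lt_or_ge x 4 with hx | hx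
  · have h := chk_invB
    rw [allN_iff] at h
    have h1 := h x hx
    rw [allN_iff] at h1
    have h2 := h1 p hp
    rw [Bool.and_eq_true] at h2
    exact ⟨by simpa [Nat.blt] using h2.1, Nat.eq_of_beq_eq_true h2.2⟩
  · rw [lkB_ge hx, lkB_ge hx]
    exact ⟨hp, rfl⟩

/-- the involutions as permutations of the 1600 points -/
def pmB (x : ℕ) : Equiv.Perm (Fin 1600) := permOf 1600 (lkB x) (lkB x) (hhB x) (hhB x)

theorem pmB_val (x : ℕ) (p : Fin 1600) : (pmB x p).val = lkB x p.val := rfl

theorem pmB_mul_self (x : ℕ) : pmB x * pmB x = 1 := by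
  apply Equiv.ext
  intro p
  apply Fin.ext
  rw [Equiv.Perm.mul_apply, pmB_val, pmB_val]
  exact (hhB x p.val p.2).2

/-- the image of one of the 1600 points under a word in the four involutions -/
def evB : List ℕ → ℕ → ℕ
  | [], p => p
  | x :: w, p => lkB x (evB w p)

theorem wd_pmB_val : ∀ (w : List ℕ) (p : Fin 1600), ((VCert.wd pmB w) p).val = evB w p.val
  | [], _ => rfl
  | x :: w, p => by
    rw [VCert.wd_cons, Equiv.Perm.mul_apply, pmB_val, wd_pmB_val w p]
    rfl

theorem wd_pmB_eq {w w' : List ℕ} (h : ∀ p, p < 1600 → evB w p = evB w' p) : VCert.wd pmB w = VCert.wd pmB w' := by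
  apply Equiv.ext
  intro p
  apply Fin.ext
  rw [wd_pmB_val, wd_pmB_val]
  exact h p.val p.2

theorem evB_append : ∀ (w w' : List ℕ) (p : ℕ), evB (w ++ w') p = evB w (evB w' p)
  | [], _, _ => rfl
  | x :: w, w', p => by
    show lkB x (evB (w ++ w') p) = lkB x (evB w (evB w' p))
    rw [evB_append w w' p]

/-! ### the homomorphism from the presented group -/

/-- the images of the generators -/
def fgenB (a : P4.Gen) : Equiv.Perm (Fin 1600) := pmB (TitsP4TC.code a)

theorem code_lt4 (a : P4.Gen) : TitsP4TC.code a < 4 := by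
  cases a <;> decide

theorem fgenB_gen {x : ℕ} (hx : x < 4) : fgenB (TitsP4TC.gen x) = pmB x := by
  interval_cases x <;> rfl

theorem chk_relsB : (coxWordsL P4.edges TitsP4TC.gen 4 ++ TitsP4TC.extraWords).all
    (fun w => (w.all fun x => decide (x < 4)) && allN 1600 fun p => Nat.beq (evB w p) p) = true := by
  decide +kernel

theorem word_eq_oneB {w : List ℕ}
    (hw : w ∈ coxWordsL P4.edges TitsP4TC.gen 4 ++ TitsP4TC.extraWords) :
    (w.map fun x => fgenB (TitsP4TC.gen x)).prod = 1 := by
  have h0 := List.all_eq_true.1 chk_relsB w hw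
  rw [Bool.and_eq_true] at h0
  obtain ⟨h2, h1⟩ := h0
  have h3 : w.map (fun x => fgenB (TitsP4TC.gen x)) = w.map pmB :=
    List.map_congr_left fun x hx => fgenB_gen (of_decide_eq_true (List.all_eq_true.1 h2 x hx))
  rw [h3]
  rw [allN_iff] at h1
  have h4 := wd_pmB_eq (w := w) (w' := []) fun p hp => Nat.eq_of_beq_eq_true (h1 p hp)
  exact h4

theorem lift_relB : ∀ r ∈ coxRelators P4.edges ∪ {r | r ∈ P4.extra}, FreeGroup.lift fgenB r = 1 :=
  CoxLift.lift_eq_one_of_words TitsP4TC.gen TitsP4TC.code 4 TitsP4TC.extraWords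
    (by intro a; cases a <;> exact ⟨by decide, rfl⟩) fgenB
    (TitsP4TC.extra_iff fgenB fun a => pmB_mul_self _) fun _ hw => word_eq_oneB hw

/-- the homomorphism from the presented group to the group of permutations -/
noncomputable def φB : P4 →* Equiv.Perm (Fin 1600) := PresentedGroup.toGroup lift_relB

theorem φB_of (a : P4.Gen) : φB (PresentedGroup.of a) = fgenB a := PresentedGroup.toGroup.of _

/-- the generators of the presented group, numbered -/
noncomputable def pgen (x : ℕ) : P4 := PresentedGroup.of (TitsP4TC.gen x)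

theorem φB_pgen {x : ℕ} (hx : x < 4) : φB (pgen x) = pmB x := by
  rw [pgen, φB_of, fgenB_gen hx]

theorem chk_moveB : lkB 0 2 ≠ 2 := by decide +kernel

instance instSimpleP4 : IsSimpleGroup P4 := TitsSimple.main.1

theorem card_P4 : Nat.card P4 = 17971200 := TitsSimple.main.2

instance instFiniteP4 : Finite P4 := Nat.finite_of_card_ne_zero (by rw [card_P4]; norm_num)

theorem φB_injective : Function.Injective φB := by
  rw [← MonoidHom.ker_eq_bot_iff]
  rcases (φB.normal_ker).eq_bot_or_eq_top with h | h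
  · exact h
  · exfalso
    have h1 : pgen 0 ∈ φB.ker := by rw [h]; exact Subgroup.mem_top _
    rw [MonoidHom.mem_ker, φB_pgen (by norm_num)] at h1
    have h2 : ((pmB 0) ⟨2, by norm_num⟩).val = ((1 : Equiv.Perm (Fin 1600)) ⟨2, by norm_num⟩).val := by rw [h1]
    rw [pmB_val] at h2
    exact chk_moveB h2

/-- words in the four involutions, all of whose letters are among the four -/
theorem φB_wd_pgen : ∀ w : List ℕ, (∀ x ∈ w, x < 4) → φB (VCert.wd pgen w) = VCert.wd pmB w
  | [], _ => map_one φB
  | x :: w, h => by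
    rw [VCert.wd_cons, VCert.wd_cons, map_mul, φB_pgen (h x List.mem_cons_self),
      φB_wd_pgen w fun y hy => h y (List.mem_cons_of_mem _ hy)]

/-- **two words in the four involutions with the same images of all the points have the same value** -/
theorem wd_pgen_eq {w w' : List ℕ} (hw : ∀ x ∈ w, x < 4) (hw' : ∀ x ∈ w', x < 4)
    (h : ∀ p, p < 1600 → evB w p = evB w' p) : VCert.wd pgen w = VCert.wd pgen w' := by
  apply φB_injective
  rw [φB_wd_pgen w hw, φB_wd_pgen w' hw']
  exact wd_pmB_eq h

/-! ### the six letters -/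

/-- the six letters as words in the four involutions -/
def lKw : ℕ → List ℕ
  | 0 => [0, 2]
  | 1 => [2, 0]
  | 2 => [0, 1]
  | 3 => [1, 0]
  | 4 => [3]
  | 5 => [3]
  | _ => []

theorem lKw_lt : ∀ x, ∀ y ∈ lKw x, y < 4
  | 0, y, h => by simp only [lKw, List.mem_cons, List.not_mem_nil, or_false] at h; omega
  | 1, y, h => by simp only [lKw, List.mem_cons, List.not_mem_nil, or_false] at h; omega
  | 2, y, h => by simp only [lKw, List.mem_cons, List.not_mem_nil, or_false] at h; omega
  | 3, y, h => by simp only [lKw, List.mem_cons, List.not_mem_nil, or_false] at h; omega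
  | 4, y, h => by simp only [lKw, List.mem_cons, List.not_mem_nil, or_false] at h; omega
  | 5, y, h => by simp only [lKw, List.mem_cons, List.not_mem_nil, or_false] at h; omega
  | _ + 6, y, h => by simp [lKw] at h

/-- the six letters in the presented group -/
noncomputable def lK (x : ℕ) : P4 := VCert.wd pgen (lKw x)

theorem lK_of_ge {x : ℕ} (hx : 6 ≤ x) : lK x = 1 := by
  obtain ⟨y, rfl⟩ : ∃ y, x = y + 6 := ⟨x - 6, by omega⟩
  rfl

/-- a word in the six letters as a word in the four involutions -/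
def expW : List ℕ → List ℕ
  | [] => []
  | x :: w => lKw x ++ expW w

theorem expW_lt : ∀ w : List ℕ, ∀ y ∈ expW w, y < 4
  | [], y, h => by simp [expW] at h
  | x :: w, y, h => by
    rw [expW, List.mem_append] at h
    rcases h with h | h
    · exact lKw_lt x y h
    · exact expW_lt w y h

theorem wd_lK_expW : ∀ w : List ℕ, VCert.wd lK w = VCert.wd pgen (expW w)
  | [] => rfl
  | x :: w => by
    rw [VCert.wd_cons, expW, VCert.wd_append, wd_lK_expW w]
    rfl

/-- the image of one of the 1600 points under a word in the six letters -/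
def ev6 (w : List ℕ) (p : ℕ) : ℕ := evB (expW w) p

/-- **two words in the six letters with the same images of all the points have the same value** -/
theorem wd_lK_eq {w w' : List ℕ} (h : ∀ p, p < 1600 → ev6 w p = ev6 w' p) : VCert.wd lK w = VCert.wd lK w' := by
  rw [wd_lK_expW, wd_lK_expW]
  exact wd_pgen_eq (expW_lt w) (expW_lt w') h

/-- the check that a word in the six letters fixes all the points -/
def triv6 (w : List ℕ) : Bool := allN 1600 fun p => Nat.beq (ev6 w p) p

theorem wd_lK_eq_one {w : List ℕ} (h : triv6 w = true) : VCert.wd lK w = 1 := by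
  rw [triv6, allN_iff] at h
  exact wd_lK_eq (w := w) (w' := []) fun p hp => Nat.eq_of_beq_eq_true (h p hp)

theorem chk_iv6 : ∀ x, x < 6 → triv6 [x, Nat.xor x 1] = true := by decide +kernel

theorem lK_iv {x : ℕ} (hx : x < 6) : lK (Nat.xor x 1) = (lK x)⁻¹ := by
  have h := wd_lK_eq_one (chk_iv6 x hx)
  rw [VCert.wd_cons, VCert.wd_cons, VCert.wd_nil, mul_one] at h
  exact (eq_inv_of_mul_eq_one_right h)

/-! ### the six letters generate the group -/

theorem chk_wX : (allN 1600 fun p => Nat.beq (ev6 wX p) (evB [0] p)) = true := by decide +kernel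

theorem pgen_zero_eq : pgen 0 = VCert.wd lK wX := by
  have h := chk_wX
  rw [allN_iff] at h
  have h1 : VCert.wd pgen (expW wX) = VCert.wd pgen [0] :=
    wd_pgen_eq (expW_lt wX) (by intro x hx; simp only [List.mem_cons, List.not_mem_nil, or_false] at hx; omega)
      fun p hp => Nat.eq_of_beq_eq_true (h p hp)
  rw [wd_lK_expW, h1, VCert.wd_cons, VCert.wd_nil, mul_one]

theorem pgen_mul_self {x : ℕ} (hx : x < 4) : pgen x * pgen x = 1 := by
  apply φB_injective
  rw [map_mul, φB_pgen hx, pmB_mul_self, map_one]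

theorem wd_lK_mem (S : Subgroup P4) (hS : ∀ x, x < 6 → lK x ∈ S) : ∀ w : List ℕ, VCert.wd lK w ∈ S
  | [] => S.one_mem
  | x :: w => by
    rw [VCert.wd_cons]
    refine S.mul_mem ?_ (wd_lK_mem S hS w)
    rcases Nat.lt_or_ge x 6 with h | h
    · exact hS x h
    · rw [lK_of_ge h]; exact S.one_mem

theorem closure_lK : Subgroup.closure (lK '' Set.Iio 6) = ⊤ := by
  set S := Subgroup.closure (lK '' Set.Iio 6) with hS
  have hm : ∀ x, x < 6 → lK x ∈ S := fun x hx => Subgroup.subset_closure ⟨x, hx, rfl⟩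
  have h0 : pgen 0 ∈ S := by rw [pgen_zero_eq]; exact wd_lK_mem S hm wX
  have e2 : lK 2 = pgen 0 * pgen 1 := by
    show VCert.wd pgen [0, 1] = _
    rw [VCert.wd_cons, VCert.wd_cons, VCert.wd_nil, mul_one]
  have e0 : lK 0 = pgen 0 * pgen 2 := by
    show VCert.wd pgen [0, 2] = _
    rw [VCert.wd_cons, VCert.wd_cons, VCert.wd_nil, mul_one]
  have e4 : lK 4 = pgen 3 := by
    show VCert.wd pgen [3] = _
    rw [VCert.wd_cons, VCert.wd_nil, mul_one]
  have h1 : pgen 1 ∈ S := by
    have : pgen 1 = pgen 0 * lK 2 := by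
      rw [e2, ← mul_assoc, pgen_mul_self (by norm_num), one_mul]
    rw [this]; exact S.mul_mem h0 (hm 2 (by norm_num))
  have h2 : pgen 2 ∈ S := by
    have : pgen 2 = pgen 0 * lK 0 := by
      rw [e0, ← mul_assoc, pgen_mul_self (by norm_num), one_mul]
    rw [this]; exact S.mul_mem h0 (hm 0 (by norm_num))
  have h3 : pgen 3 ∈ S := by rw [← e4]; exact hm 4 (by norm_num)
  rw [eq_top_iff, ← PresentedGroup.closure_range_of, Subgroup.closure_le]
  rintro _ ⟨a, rfl⟩
  cases a
  · exact h0
  · exact h1
  · exact h2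
  · exact h3

/-! ### the subgroup generated by the first two letters and their inverses -/

/-- the subgroup `L` generated by `u` and `v` -/
noncomputable def L : Subgroup P4 := Subgroup.closure (lK '' Set.Iio 4)

theorem lK_mem_L {x : ℕ} (hx : x < 4) : lK x ∈ L := Subgroup.subset_closure ⟨x, hx, rfl⟩

/-- the first four letters in `L` -/
noncomputable def lK1 (x : ℕ) : ↥L := if h : x < 4 then ⟨lK x, lK_mem_L h⟩ else 1

theorem lK1_val {x : ℕ} (hx : x < 4) : (lK1 x : P4) = lK x := by
  rw [lK1, dif_pos hx]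

theorem lK1_of_ge {x : ℕ} (hx : 4 ≤ x) : lK1 x = 1 := by
  rw [lK1, dif_neg (by omega)]

theorem wd_lK1_val : ∀ w : List ℕ, (∀ x ∈ w, x < 4) → ((VCert.wd lK1 w : ↥L) : P4) = VCert.wd lK w
  | [], _ => rfl
  | x :: w, h => by
    rw [VCert.wd_cons, VCert.wd_cons, Subgroup.coe_mul, lK1_val (h x List.mem_cons_self),
      wd_lK1_val w fun y hy => h y (List.mem_cons_of_mem _ hy)]

/-- the check that a word in the first four letters fixes all the points -/
def triv4 (w : List ℕ) : Bool := (w.all fun x => Nat.blt x 4) && triv6 w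

theorem wd_lK1_eq_one {w : List ℕ} (h : triv4 w = true) : VCert.wd lK1 w = 1 := by
  rw [triv4, Bool.and_eq_true] at h
  apply Subtype.ext
  rw [wd_lK1_val w fun x hx => by simpa [Nat.blt] using List.all_eq_true.1 h.1 x hx, wd_lK_eq_one h.2]
  rfl

theorem lK1_iv {x : ℕ} (hx : x < 4) : lK1 (Nat.xor x 1) = (lK1 x)⁻¹ := by
  have hx' : Nat.xor x 1 < 4 := by
    have : x = 0 ∨ x = 1 ∨ x = 2 ∨ x = 3 := by omega
    rcases this with rfl | rfl | rfl | rfl <;> decide
  apply Subtype.ext
  rw [Subgroup.coe_inv, lK1_val hx', lK1_val hx, lK_iv (by omega)]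

theorem closure_lK1 : Subgroup.closure (lK1 '' Set.Iio 4) = ⊤ := by
  have h := Subgroup.closure_closure_coe_preimage (k := lK '' Set.Iio 4)
  have e : ((↑) ⁻¹' (lK '' Set.Iio 4) : Set ↥(Subgroup.closure (lK '' Set.Iio 4))) = lK1 '' Set.Iio 4 := by
    ext z
    constructor
    · rintro ⟨x, hx, hz⟩
      exact ⟨x, hx, Subtype.ext (by rw [lK1_val hx]; exact hz)⟩
    · rintro ⟨x, hx, rfl⟩
      exact ⟨x, hx, (lK1_val hx).symm⟩
  rw [e] at h
  exact h

end Cfsg.Agent.Lib.Helper7.TitsB
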