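import Cfsg.Agent.Lib.Helper7.TitsTC

/-! # The multiplier of the Tits group, the table over L: the check of the rows 1600 to 2399 of the certificate (generated) -/

set_option autoImplicit false
set_option maxRecDepth 100000

namespace Cfsg.Agent.Lib.Helper7.TitsT

theorem rows_ok_16 : rowsOK 1600 100 = true := by decide +kernel

theorem rows_ok_17 : rowsOK 1700 100 = true := by decide +kernel

theorem rows_ok_18 : rowsOK 1800 100 = true := by decide +kernel

theorem rows_ok_19 : rowsOK 1900 100 = true := by decide +kernel

theorem rows_ok_20 : rowsOK 2000 100 = true := by decide +kernel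

theorem rows_ok_21 : rowsOK 2100 100 = true := by decide +kernel

theorem rows_ok_22 : rowsOK 2200 100 = true := by decide +kernel

theorem rows_ok_23 : rowsOK 2300 100 = true := by decide +kernel

end Cfsg.Agent.Lib.Helper7.TitsT
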