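import Cfsg.Agent.Lib.Helper7.TitsTK0
import Cfsg.Agent.Lib.Helper7.TitsTK1
import Cfsg.Agent.Lib.Helper7.TitsTK2
import Cfsg.Agent.Lib.Helper7.TitsTK3

/-! # The multiplier of the Tits group, the table over L: all the rows and words of the certificate are checked, and the words that give the relations
between the classes are traced (generated) -/

set_option autoImplicit false
set_option maxRecDepth 100000

namespace Cfsg.Agent.Lib.Helper7.TitsT

open Cfsg.Agent.Lib.Helper7.MG Cfsg.Agent.Lib.Helper7.HSMult

theorem rows_ok_all : ∀ k, k < 32 → rowsOK (100 * k) 100 = true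
  | 0, _ => rows_ok_0
  | 1, _ => rows_ok_1
  | 2, _ => rows_ok_2
  | 3, _ => rows_ok_3
  | 4, _ => rows_ok_4
  | 5, _ => rows_ok_5
  | 6, _ => rows_ok_6
  | 7, _ => rows_ok_7
  | 8, _ => rows_ok_8
  | 9, _ => rows_ok_9
  | 10, _ => rows_ok_10
  | 11, _ => rows_ok_11
  | 12, _ => rows_ok_12
  | 13, _ => rows_ok_13
  | 14, _ => rows_ok_14
  | 15, _ => rows_ok_15
  | 16, _ => rows_ok_16
  | 17, _ => rows_ok_17
  | 18, _ => rows_ok_18
  | 19, _ => rows_ok_19
  | 20, _ => rows_ok_20
  | 21, _ => rows_ok_21
  | 22, _ => rows_ok_22
  | 23, _ => rows_ok_23
  | 24, _ => rows_ok_24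
  | 25, _ => rows_ok_25
  | 26, _ => rows_ok_26
  | 27, _ => rows_ok_27
  | 28, _ => rows_ok_28
  | 29, _ => rows_ok_29
  | 30, _ => rows_ok_30
  | 31, _ => rows_ok_31
  | k + 32, h => absurd h (by omega)

/-- **every entry of the table is justified** -/
theorem cert_all : ∀ a, a < cert.n → ∀ x, x < cert.g → cert.slotOK a x = true := by
  intro a ha x hx
  have ha' : a < 3200 := ha
  have hx' : x < 6 := hx
  have h1 := rows_ok_all (a / 100) (by omega)
  rw [rowsOK, allN_iff] at h1
  have h2 := h1 (a % 100) (Nat.mod_lt _ (by norm_num))
  rw [allN_iff] at h2
  have h3 := h2 x hx'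
  have e : Nat.add (100 * (a / 100)) (a % 100) = a := Nat.div_add_mod a 100
  rw [e] at h3
  exact h3

theorem words_ok : wordsOK = true := by decide +kernel

/-- **every word of the certificate is justified** -/
theorem cert_wall : ∀ i, i < cert.nW → cert.wordOK i = true := by
  intro i hi
  have h := words_ok
  rw [wordsOK, allN_iff] at h
  exact h i hi

theorem close_0 : cert.scan 4095 (cert.W 63) 2331 0 = some (2331, 47922684336355386668345241492967351432314612462158024) := by decide +kernel

theorem close_1 : cert.scan 4095 (cert.W 383) 3128 0 = some (3128, 95783985709871855081626937159786641467754536029453762) := by decide +kernel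

theorem close_2 : cert.scan 4095 (cert.W 30) 1044 0 = some (1044, 41904214908525155899053978935654259268738660591235074) := by decide +kernel

theorem close_3 : cert.scan 4095 (cert.W 55) 2029 0 = some (2029, 47889069788940203864561002357608094054712240651665627) := by decide +kernel

theorem close_4 : cert.scan 4095 (cert.W 346) 1841 0 = some (1841, 65840711495206973337528495251549088842240284518560128) := by decide +kernel

theorem close_5 : cert.scan 4095 (cert.W 204) 2668 0 = some (2668, 59861702664549050473317562816469830530029195201912689) := by decide +kernel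

theorem close_6 : cert.scan 4095 (cert.W 169) 859 0 = some (859, 53891462620706914015148101498868593059374236317029554) := by decide +kernel

theorem close_7 : cert.scan 4095 (cert.W 43) 1998 0 = some (1998, 47880300854381464777774041181024555580710518292250241) := by decide +kernel

theorem close_8 : cert.scan 4095 (cert.W 185) 2488 0 = some (2488, 59847087611936827124627231737210974326632872314708266) := by decide +kernel

theorem close_9 : cert.scan 4095 (cert.W 347) 3142 0 = some (3142, 65805635850356884640552567517383064512253616135906350) := by decide +kernel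

theorem close_10 : cert.scan 4095 (cert.W 191) 1090 0 = some (1090, 59866087116496523440689862753958219187728969029951918) := by decide +kernel

end Cfsg.Agent.Lib.Helper7.TitsT
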