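/-! # The multiplier of the Tits group, the subgroup L: the words of the certificate (generated) -/

set_option autoImplicit false

namespace Cfsg.Agent.Lib.Helper7.TitsL

/-- the packed words -/
noncomputable def relP : Nat := 0x22222202222220222222022222201c00000000000000000000000000000000000033330203333020333302033330201c00000000220302022030202203020220302022030202203020220302022030203800000000000000000000000000003302203302203302203302203302203302202400000000000000000000000022220222202222022220222202222022220222202800000000000000000000000033020330203302033020330203302033020330202800000000000000000000000000000000000000000000222030220220302220201400000000000000000000000000000000000000000000222030203020302220201400000000000000000000000000000000000000000000033333333333020220201300000000000000000000000000000000000000000000002220222022033030201200000000000000000000000000000000000000000000003033020302030220201200000000000000000000000000000000000000000000000333333333333020201100000000000000000000000000000000000000000000000022202220222022201000000000000000000000000000000000000000000000000030220220330330201000000000000000000000000000000000000000000000000033033020330330201000000000000000000000000000000000000000000000000033033022022030201000000000000000000000000000000000000000000000000033033303302030201000000000000000000000000000000000000000000000000033033020302030201000000000000000000000000000000000000000000000000030203020302030201000000000000000000000000000000000000000000000000000003030302020200c00000000000000000000000000000000000000000000000000000022020220200a00000000000000000000000000000000000000000000000000000000002020200600000000000000000000000000000000000000000000000000000000000000000200000000000000000000000002202202202202202202202202202202202202202700000000000000000000000000000000000000000000000000022222222222220d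

/-- the packed classes of the words -/
noncomputable def rhsP : Nat := 0xdfff0e0000e0040e0000e0010e0000e0000e0001bffe1c0021bffe1c01312001120001200411ffc13ffe1400013ffa14015140001400413ff61400f0a0000a00109fff0a0030a0000a00109ffe0a005098000980009802097ff090000900108ffe090040900008fff090040900008800088000880108800080000800108000080000800007fff0800407fff0800007fff0800208002080000800107ffc080070800007fff08002080020800007fff08003080010800007fff08004080000600006000060000600305000050000500204fff03000030000300103000010000100001000010011380013800138001380006800068000680006800

/-- the packed times and rows of the words -/
noncomputable def wtaP : Nat := 0x1c000000000000301c0000001e0000d01c0000601c00000012000000120000000800000012000000120000000800000000000000120000001200000012000000120000001200000012000070080000000800000000000000000000000000000000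

end Cfsg.Agent.Lib.Helper7.TitsL
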