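import Cfsg.Agent.Lib.Helper7.TitsTT0
import Cfsg.Agent.Lib.Helper7.TitsTR
import Cfsg.Agent.Lib.Helper7.MGenC

/-! # The multiplier of the Tits group, the table over L: the certificate of the enumeration of the cosets (generated) -/

set_option autoImplicit false

namespace Cfsg.Agent.Lib.Helper7.TitsT

open Cfsg.Agent.Lib.Helper7.MG Cfsg.Agent.Lib.Helper7.HSMult

/-- the part of the table that contains a row -/
noncomputable def rowSel (a : ℕ) : ℕ := (cond (Nat.beq (Nat.land a 1) 0) (cond (Nat.beq (Nat.land a 2) 0) (cond (Nat.beq (Nat.land a 4) 0) (cond (Nat.beq (Nat.land a 8) 0) rl0 rl8) (cond (Nat.beq (Nat.land a 8) 0) rl4 rl12)) (cond (Nat.beq (Nat.land a 4) 0) (cond (Nat.beq (Nat.land a 8) 0) rl2 rl10) (cond (Nat.beq (Nat.land a 8) 0) rl6 rl14))) (cond (Nat.beq (Nat.land a 2) 0) (cond (Nat.beq (Nat.land a 4) 0) (cond (Nat.beq (Nat.land a 8) 0) rl1 rl9) (cond (Nat.beq (Nat.land a 8) 0) rl5 rl13)) (cond (Nat.beq (Nat.land a 4) 0) (cond (Nat.beq (Nat.land a 8) 0) rl3 rl11) (cond (Nat.beq (Nat.land a 8) 0)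 rl7 rl15))))

/-- a row of the table -/
noncomputable def rowOf (a : ℕ) : ℕ :=
  strictN a fun a' => Nat.shiftRight (rowSel a') (Nat.mul 1428 (Nat.shiftRight a' 4))

/-- a word -/
noncomputable def wordOf (i : ℕ) : List ℕ :=
  strictN (Nat.land (Nat.shiftRight relP (Nat.mul 264 i)) 29642774844752946028434172162224104410437116074403984394101141506025761187823615) fun v =>
    unp (Nat.land v 255) (Nat.shiftRight v 8)

/-- the certificate -/
noncomputable def cert : VCert where
  n := 3200
  g := 6
  k := 9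
  nW := 405
  B := 2048
  iv := fun x => Nat.xor x 1
  sub := fun x => Nat.beq x 0 || Nat.beq x 1 || Nat.beq x 2 || Nat.beq x 3
  sl := fun a x => Nat.land (Nat.shiftRight (rowOf a) (Nat.mul 234 x)) 27606985387162255149739023449108101809804435888681546220650096895197183
  pr := fun a => Nat.land (Nat.shiftRight (rowOf a) 1404) 16777215
  W := wordOf
  rhs := fun i => Nat.land (Nat.shiftRight rhsP (Nat.mul 180 i)) 1532495540865888858358347027150309183618739122183602175
  wT := fun i => Nat.land (Nat.shiftRight wtaP (Nat.mul 32 i)) 4095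
  wA := fun i => Nat.land (Nat.shiftRight wtaP (Nat.add (Nat.mul 32 i) 12)) 1048575

/-- the check of the rows from `lo` to `lo + k` -/
noncomputable def rowsOK (lo k : ℕ) : Bool := allN k fun i => allN 6 fun x => cert.slotOK (Nat.add lo i) x

/-- the check of the words -/
noncomputable def wordsOK : Bool := allN 405 fun i => cert.wordOK i

end Cfsg.Agent.Lib.Helper7.TitsT
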