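import Cfsg.Agent.Lib.Helper7.TitsTU
import Cfsg.Prelude.Def_KGroupFacts

/-!
# The multiplier of the Tits group is trivial

The derived subgroup of the twisted group of type F4 over the field of two elements is isomorphic to the presented
group, all of whose finite stem extensions are isomorphisms.
-/

set_option autoImplicit false
set_option maxRecDepth 100000

namespace Cfsg.Agent.Lib.Helper7.TitsT

open Cfsg Cfsg.Agent.Lib.Helper7.MG Cfsg.Agent.Lib.Helper7.TitsB Cfsg.Agent.Lib.Helper6.TitsSub

instance instFiniteTits : Finite Cfsg.Lie.TitsGroup :=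
  Nat.finite_of_card_ne_zero (by
    have h : Nat.card Cfsg.Lie.TitsGroup = 17971200 := Cfsg.Agent.Lib.Helper6.F4Iso.card_D
    rw [h]
    norm_num)

/-- **the Schur multiplier of the Tits group is trivial** -/
theorem multiplier_tits : Cfsg.HasCyclicSchurMultiplier Cfsg.Lie.TitsGroup 1 := by
  obtain ⟨e⟩ : Nonempty (Cfsg.Lie.TitsGroup ≃* P4) := ⟨Cfsg.Agent.Lib.Helper6.F4Iso.isoD⟩
  constructor
  · refine ⟨Cfsg.Lie.TitsGroup, inferInstance, inferInstance, MonoidHom.id _, ⟨fun x => ⟨x, rfl⟩, ?_, ?_⟩, ⟨?_⟩⟩
    · intro x hx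
      rw [MonoidHom.mem_ker] at hx
      have : x = 1 := hx
      rw [this]
      exact Subgroup.one_mem _
    · intro x hx
      rw [MonoidHom.mem_ker] at hx
      have : x = 1 := hx
      rw [this]
      exact Subgroup.one_mem _
    · exact
        { toFun := fun _ => 1
          invFun := fun _ => 1
          left_inv := fun x => by
            apply Subtype.ext
            have h := x.2
            rw [MonoidHom.mem_ker] at h
            exact h.symm
          right_inv := fun y => Subsingleton.elim (α := Fin 1) _ _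
          map_mul' := fun _ _ => (mul_one _).symm }
  · intro Γ _ _ σ hσ
    have hk : ∀ x, x ∈ (e.toMonoidHom.comp σ).ker ↔ x ∈ σ.ker := by
      intro x
      rw [MonoidHom.mem_ker, MonoidHom.mem_ker]
      show e (σ x) = 1 ↔ σ x = 1
      exact MulEquiv.map_eq_one_iff e
    have h := ker_eq_bot_of_stem (e.toMonoidHom.comp σ) (e.surjective.comp hσ.1)
      (fun x hx => hσ.2.1 ((hk x).1 hx)) (fun x hx => hσ.2.2 ((hk x).1 hx))
    refine ⟨1, ?_⟩
    intro y
    refine ⟨1, ?_⟩
    apply Subtype.ext
    have hy : y.1 ∈ (e.toMonoidHom.comp σ).ker := (hk y.1).2 y.2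
    rw [h, Subgroup.mem_bot] at hy
    rw [hy]
    rfl

end Cfsg.Agent.Lib.Helper7.TitsT
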