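import Cfsg.Agent.Lib.Helper7.TitsLU
import Cfsg.Agent.Lib.Helper7.MGenH

/-!
# The multiplier of the Tits group, the table over L: every finite stem extension of the presented Tits group is an isomorphism

In a finite stem extension the derived subgroup of the preimage of `L` is a copy of `L`, since `L` is perfect and has
no proper stem extensions; the first four letters are lifted into this copy, so that all the words in these letters
that are trivial in the group are trivial in the extension.  The lift of the fifth letter is chosen so that one more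
given word is trivial; this is possible since the kernel has order prime to thirteen, the Sylow subgroups for this
prime being cyclic.  The checked table over the copy of `L` shows that the kernel is generated by the values of the
other given words; the traced words give relations between them, which make their thirteenth powers trivial, so that
they are trivial.
-/

set_option autoImplicit false
set_option maxRecDepth 100000

namespace Cfsg.Agent.Lib.Helper7.TitsT

open Cfsg Cfsg.Spor Cfsg.Agent.Lib.Helper7.MG Cfsg.Agent.Lib.Helper7.HSMult Cfsg.Agent.Lib.Helper7.TitsB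
open Cfsg.Agent.Lib.Helper7.M12Mult Cfsg.Agent.Lib.Helper6.TitsSub
open scoped IsMulCommutative

/-! ### the data of the certificate -/

/-- the words that define the central elements -/
def axI : ℕ → ℕ
  | 0 => 3
  | 1 => 4
  | 2 => 16
  | 3 => 18
  | 4 => 142
  | 5 => 280
  | 6 => 278
  | 7 => 388
  | 8 => 402
  | _ => 0

theorem axI_lt : ∀ j, axI j < 405
  | 0 => by decide
  | 1 => by decide
  | 2 => by decide
  | 3 => by decide
  | 4 => by decide
  | 5 => by decide
  | 6 => by decide
  | 7 => by decide
  | 8 => by decide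
  | _ + 9 => by
    show (0 : ℕ) < 405
    decide

/-- the word of which a power is the trivial word that is not a word in the first four letters -/
def yW : List ℕ := [0, 2, 4]

theorem chk_wT : ∀ i, i < 405 → cert.wT i = 0 →
    (((cert.W i).all fun x => Nat.blt x 4) = true ∧
      ∀ l, l < 9 → ((fld (cert.rhs i) l : ℤ) - ((cert.W i).length : ℤ) * (cert.B : ℤ)) = 0) ∨
    i = 2 ∨ ∃ j, j < 9 ∧ i = axI j := by decide +kernel

theorem chk_W3 : cert.W 2 = wpow 13 yW := by decide +kernel

theorem chk_yW : expsumL 4 5 (wpow 13 yW) = 13 := by decide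

theorem chk_len : ∀ i, i < 405 → (cert.W i).length ≤ 255 := by decide +kernel

theorem chk_ax : ∀ j, j < 9 → ∀ l, l < 9 →
    ((fld (cert.rhs (axI j)) l : ℤ) - ((cert.W (axI j)).length : ℤ) * (cert.B : ℤ)) = if l = j then 1 else 0 := by
  decide +kernel

theorem chk_ex : ∀ l, l < 9 →
    ((fld (cert.rhs 2) l : ℤ) - ((cert.W 2).length : ℤ) * (cert.B : ℤ)) = 0 := by
  decide +kernel

/-- the relations between the central elements that the traced words give -/
def relL : List (List ℤ) := [[(-200), 8, (-21), 1, (-2), 6, 76, 17, (-22)],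
    [353, (-13), 52, (-15), (-29), 3, (-119), (-23), 2],
    [(-2), 2, 0, 0, 0, 0, 0, 0, 0],
    [(-217), 55, (-69), 7, 13, 0, 73, 24, 1],
    [(-397), 120, (-138), 23, 35, (-5), 106, 47, 4],
    [144, 32, 3, (-5), (-3), (-8), (-54), (-8), 1],
    [(-1196), 134, (-221), 59, 73, 12, 354, 97, (-10)],
    [383, (-28), 81, (-28), (-28), (-8), (-101), (-30), 7],
    [(-296), 47, (-63), 13, 20, 2, 99, 18, 11],
    [3027, (-255), 642, (-145), (-155), (-81), (-970), (-236), 30],
    [(-430), 16, (-39), 17, 27, (-1), 134, 30, (-2)]]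

/-- the combinations of the relations that give the thirteenth powers of the central elements -/
def lamL : List (List ℤ) := [[(-179459135119119641852828033422836), 379693981768539287667729162364239, 3146263023847780213846324540971375, 1797262210852575660771746053147551, (-641494298355830545134285574993077), 456322352796991310378309526038749, (-572109912502595827107329945829684), (-1044177566320620271885371258538396), (-84615671158528977990560806378458), 2, 938090042210876548345060058804976],
    [1115791784723233292469234810997, (-2360757089824247266012343659180), (-19561971210089786683068010348190), (-11174523985818354293563328448834), 3988507286503531317932131838347, (-2837195956051465842232243183092), 3557108084274466146301261398484, 6492200854080225828523344085527, 526100110060490422653171334667, 2, (-5832598946466503922289609071793)],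
    [(-2657482648730811359234382049), 5622618027818098746791046897, 46590770587793900614288185443, 26614377347745500088487262445, (-9499432648044341173299268080), 6757353054115026003855667375, (-8471968644189515443714685432), (-15462482658512362757235406577), (-1253013271044934089219087253), 3, 13891507994105774475486702480],
    [(-3441256594590897322278575), 7280902238942382595785319, 60331831934590373996641472, 34463781580135937151486165, (-12301109570956968662869264), 8750305771726510645071717, (-10970614607740996102078006), (-20022847728757826155767938), (-1622565695453414471408102), 6, 17988543976518349085847833],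
    [565755971203408677688, (-1197008651986214303235), (-9918787870769865203954), (-5665979761538218328210), 2022350266799460952825, (-1438584308996712055945), 1803611719003090486122, 3291834058770048697428, 266756112379266322047, 6, (-2957386608126570262494)],
    [(-9523080675870175904), 20148633938997205745, 166957879205879931799, 95372537142125032378, (-34041186882452838273), 24214953320733237075, (-30359272870733840120), (-55409757755740087781), (-4490169098110861582), 7, 49780175009061753640],
    [(-2373108887413401), 5020948986710597, 41605152833693185, 23766407448444862, (-8482910717488790), 6034257493936620, (-7565394300134288), (-13807862503228831), (-1118929950863005), 4, 12404995794095233],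
    [(-61778201549), 130708371680, 1083090426907, 618701450004, (-220832247042), 157087429746, (-196946906402), (-359454602927), (-29128659193), 5, 322934330789],
    [(-58170), 123073, 1019773, 582548, (-207929), 147914, (-185440), (-338449), (-27428), (-1), 304069]]

theorem chk_rel_0 : ∀ l, l < 9 → ((fld (cert.rhs 63) l : ℤ) - (fld 47922684336355386668345241492967351432314612462158024 l : ℤ)) = (relL.getD 0 []).getD l 0 := by
  decide +kernel

theorem chk_rel_1 : ∀ l, l < 9 → ((fld (cert.rhs 383) l : ℤ) - (fld 95783985709871855081626937159786641467754536029453762 l : ℤ)) = (relL.getD 1 []).getD l 0 := by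
  decide +kernel

theorem chk_rel_2 : ∀ l, l < 9 → ((fld (cert.rhs 30) l : ℤ) - (fld 41904214908525155899053978935654259268738660591235074 l : ℤ)) = (relL.getD 2 []).getD l 0 := by
  decide +kernel

theorem chk_rel_3 : ∀ l, l < 9 → ((fld (cert.rhs 55) l : ℤ) - (fld 47889069788940203864561002357608094054712240651665627 l : ℤ)) = (relL.getD 3 []).getD l 0 := by
  decide +kernel

theorem chk_rel_4 : ∀ l, l < 9 → ((fld (cert.rhs 346) l : ℤ) - (fld 65840711495206973337528495251549088842240284518560128 l : ℤ)) = (relL.getD 4 []).getD l 0 := by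
  decide +kernel

theorem chk_rel_5 : ∀ l, l < 9 → ((fld (cert.rhs 204) l : ℤ) - (fld 59861702664549050473317562816469830530029195201912689 l : ℤ)) = (relL.getD 5 []).getD l 0 := by
  decide +kernel

theorem chk_rel_6 : ∀ l, l < 9 → ((fld (cert.rhs 169) l : ℤ) - (fld 53891462620706914015148101498868593059374236317029554 l : ℤ)) = (relL.getD 6 []).getD l 0 := by
  decide +kernel

theorem chk_rel_7 : ∀ l, l < 9 → ((fld (cert.rhs 43) l : ℤ) - (fld 47880300854381464777774041181024555580710518292250241 l : ℤ)) = (relL.getD 7 []).getD l 0 := by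
  decide +kernel

theorem chk_rel_8 : ∀ l, l < 9 → ((fld (cert.rhs 185) l : ℤ) - (fld 59847087611936827124627231737210974326632872314708266 l : ℤ)) = (relL.getD 8 []).getD l 0 := by
  decide +kernel

theorem chk_rel_9 : ∀ l, l < 9 → ((fld (cert.rhs 347) l : ℤ) - (fld 65805635850356884640552567517383064512253616135906350 l : ℤ)) = (relL.getD 9 []).getD l 0 := by
  decide +kernel

theorem chk_rel_10 : ∀ l, l < 9 → ((fld (cert.rhs 191) l : ℤ) - (fld 59866087116496523440689862753958219187728969029951918 l : ℤ)) = (relL.getD 10 []).getD l 0 := by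
  decide +kernel

theorem chk_lam : ∀ j, j < 9 → ∀ l, l < 9 →
    ((13 : ℕ) : ℤ) * ((if l = j then 1 else 0) - dotL (([] : List (List ℤ)).getD j []) [] l) =
      dotL (lamL.getD j []) relL l := by
  decide +kernel

theorem chk_mu : ∀ t, t < ([] : List (List ℤ)).length → ∀ l, l < 9 →
    ((13 : ℕ) : ℤ) * (([] : List ℤ).getD t 0 * (([] : List (List ℤ)).getD t []).getD l 0) =
      dotL (([] : List (List ℤ)).getD t []) relL l := by
  intro t ht
  exact absurd ht (Nat.not_lt_zero t)

section upper

universe u

variable {Γ : Type u} [Group Γ] [Finite Γ] (σ : Γ →* P4) (hsurj : Function.Surjective σ)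
  (hcen : σ.ker ≤ Subgroup.center Γ) (hder : σ.ker ≤ commutator Γ)

include hsurj hcen hder in
theorem not_dvd_card_ker : ¬ 13 ∣ Nat.card σ.ker := by
  have hperf := perfect_of_stem σ hsurj hcen hder P4_perfect
  have : Fact (Nat.Prime 13) := ⟨by norm_num⟩
  exact Cfsg.Agent.S0102.result P4_perfect
    (fun P => isCyclic_sylow_of_card_eq 13 1382400 (by rw [card_P4]) (by norm_num) P) σ hsurj hcen hperf

/-! ### the letters in the extension -/

/-- the letters in the extension -/
def gU (a c t : Γ) : ℕ → Γ
  | 0 => a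
  | 1 => a⁻¹
  | 2 => c
  | 3 => c⁻¹
  | 4 => t
  | 5 => t⁻¹
  | _ => 1

omit [Finite Γ] in
theorem map_gU (a c t : Γ) (ha : σ a = lK 0) (hc : σ c = lK 2) (ht : σ t = lK 4) : ∀ x, σ (gU a c t x) = lK x
  | 0 => ha
  | 1 => by
    show σ a⁻¹ = lK 1
    rw [map_inv, ha]
    exact (lK_iv (x := 0) (by norm_num)).symm
  | 2 => hc
  | 3 => by
    show σ c⁻¹ = lK 3
    rw [map_inv, hc]
    exact (lK_iv (x := 2) (by norm_num)).symm
  | 4 => ht
  | 5 => by
    show σ t⁻¹ = lK 5
    rw [map_inv, ht]
    exact (lK_iv (x := 4) (by norm_num)).symm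
  | x + 6 => by
    show σ 1 = lK (x + 6)
    rw [map_one, lK_of_ge (by omega)]

omit [Finite Γ] in
theorem map_wd_gU (a c t : Γ) (ha : σ a = lK 0) (hc : σ c = lK 2) (ht : σ t = lK 4) :
    ∀ w : List ℕ, σ (VCert.wd (gU a c t) w) = VCert.wd lK w
  | [] => map_one σ
  | x :: w => by
    rw [VCert.wd_cons, VCert.wd_cons, map_mul, map_gU σ a c t ha hc ht x, map_wd_gU a c t ha hc ht w]

include hsurj hcen hder in
/-- **lifts of the generators: the first two in the copy of `L`, the third such that the given word is trivial** -/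
theorem exists_lifts : ∃ a c t : Γ, a ∈ Mt σ L ∧ c ∈ Mt σ L ∧ σ a = lK 0 ∧ σ c = lK 2 ∧ σ t = lK 4 ∧
    VCert.wd (gU a c t) (wpow 13 yW) = 1 := by
  have hnd := not_dvd_card_ker σ hsurj hcen hder
  have cop : (Nat.card ↥σ.ker).Coprime 13 :=
    ((Nat.Prime.coprime_iff_not_dvd (by norm_num)).2 hnd).symm
  obtain ⟨a, haM, ha⟩ := exists_mem_Mt (σ := σ) hsurj L L_perfect (lK 0) (lK_mem_L (by norm_num))
  obtain ⟨c, hcM, hc⟩ := exists_mem_Mt (σ := σ) hsurj L L_perfect (lK 2) (lK_mem_L (by norm_num))
  obtain ⟨t0, ht0⟩ := hsurj (lK 4)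
  have hk2 : VCert.wd (gU a c t0) (wpow 13 yW) ∈ σ.ker := by
    rw [MonoidHom.mem_ker, map_wd_gU σ a c t0 ha hc ht0, ← chk_W3]
    exact wd_lK_W (by norm_num)
  obtain ⟨w, hw, hwr⟩ := exists_root σ.ker 13 cop _ (Subgroup.inv_mem _ hk2)
  have hwc : ∀ x : Γ, w⁻¹ * x = x * w⁻¹ := fun x =>
    (Subgroup.mem_center_iff.1 (Subgroup.inv_mem _ (hcen hw)) x).symm
  refine ⟨a, c, t0 * w, haM, hcM, ha, hc, ?_, ?_⟩
  · rw [map_mul, MonoidHom.mem_ker.1 hw, mul_one, ht0]
  · rw [wd_central_mul_at 4 5 (by norm_num) (gU a c t0) (gU a c (t0 * w)) w (hcen hw) rfl (by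
        show (t0 * w)⁻¹ = t0⁻¹ * w⁻¹
        rw [mul_inv_rev, hwc]) (by
        intro x h0 h1
        match x, h0, h1 with
        | 0, _, _ => rfl
        | 1, _, _ => rfl
        | 2, _, _ => rfl
        | 3, _, _ => rfl
        | 4, h0, _ => exact absurd rfl h0
        | 5, _, h1 => exact absurd rfl h1
        | _ + 6, _, _ => rfl), chk_yW]
    show _ * w ^ ((13 : ℕ) : ℤ) = 1
    rw [zpow_natCast, hwr, mul_inv_cancel]

variable (a c t : Γ) (haM : a ∈ Mt σ L) (hcM : c ∈ Mt σ L) (ha : σ a = lK 0) (hc : σ c = lK 2) (ht : σ t = lK 4)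
  (hy : VCert.wd (gU a c t) (wpow 13 yW) = 1)

include ha hc ht in
omit [Finite Γ] in
theorem wd_gU_mem_ker {i : ℕ} (hi : i < 405) : VCert.wd (gU a c t) (cert.W i) ∈ σ.ker := by
  rw [MonoidHom.mem_ker, map_wd_gU σ a c t ha hc ht, wd_lK_W hi]

omit [Finite Γ] in
theorem gU_iv : ∀ x, x < 6 → gU a c t (Nat.xor x 1) = (gU a c t x)⁻¹
  | 0, _ => rfl
  | 1, _ => (inv_inv a).symm
  | 2, _ => rfl
  | 3, _ => (inv_inv c).symm
  | 4, _ => rfl
  | 5, _ => (inv_inv t).symm
  | x + 6, h => absurd h (by omega)

include haM hcM in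
omit [Finite Γ] in
theorem gU_mem_Mt : ∀ x, x < 4 → gU a c t x ∈ Mt σ L
  | 0, _ => haM
  | 1, _ => Subgroup.inv_mem _ haM
  | 2, _ => hcM
  | 3, _ => Subgroup.inv_mem _ hcM
  | x + 4, h => absurd h (by omega)

/-- the central elements: the values of the given words -/
noncomputable def zU (j : ℕ) : Subgroup.center Γ :=
  ⟨VCert.wd (gU a c t) (cert.W (axI j)), hcen (wd_gU_mem_ker σ a c t ha hc ht (axI_lt j))⟩

include hsurj haM hcM hy in
theorem hW0_U : ∀ i, i < cert.nW → cert.wT i = 0 →
    VCert.wd (gU a c t) (cert.W i) = (cert.ek (zU σ hcen a c t ha hc ht) i : Γ) := by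
  intro i hi hT
  rcases chk_wT i hi hT with ⟨h4, h0⟩ | rfl | ⟨j, hj, rfl⟩
  · rw [VCert.ek, cert.kap_one _ h0]
    have hl : ∀ x ∈ (cert.W i).map (gU a c t), x ∈ Mt σ L := by
      intro x hx
      obtain ⟨y, hy', rfl⟩ := List.mem_map.1 hx
      exact gU_mem_Mt σ a c t haM hcM y (by simpa [Nat.blt] using List.all_eq_true.1 h4 y hy')
    have h1 : (((cert.W i).map (gU a c t)).map σ).prod = 1 := by
      rw [← map_list_prod]
      have := map_wd_gU σ a c t ha hc ht (cert.W i)
      rw [VCert.wd] at this
      rw [this]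
      exact wd_lK_W hi
    exact prod_eq_one_of_Mt hsurj hcen L L_perfect TitsL.MF_L _ hl h1
  · rw [VCert.ek, cert.kap_one _ chk_ex, chk_W3]
    exact hy
  · rw [VCert.ek, cert.kap_unit _ hj (chk_ax j hj)]
    rfl

include hcen hder ha hc ht in
omit [Finite Γ] in
theorem hgen_U : ∀ y : Γ, ∃ u : List ℕ, (∀ x ∈ u, x < cert.g) ∧ y = (u.map (gU a c t)).prod := by
  apply MG.exists_word_of_closure (gU a c t) 6 (fun x => Nat.xor x 1)
  · intro x hx
    refine ⟨?_, gU_iv a c t x hx⟩
    have : x = 0 ∨ x = 1 ∨ x = 2 ∨ x = 3 ∨ x = 4 ∨ x = 5 := by omega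
    rcases this with rfl | rfl | rfl | rfl | rfl | rfl <;> decide
  · apply Cfsg.Agent.Lib.Helper7.M12Mult.closure_eq_top_of_stem (σ := σ) hcen hder
    intro g
    have hg : g ∈ Subgroup.closure (lK '' Set.Iio 6) := by rw [closure_lK]; exact Subgroup.mem_top g
    induction hg using Subgroup.closure_induction with
    | mem y hy =>
      obtain ⟨x, hx, rfl⟩ := hy
      exact ⟨gU a c t x, Subgroup.subset_closure ⟨x, hx, rfl⟩, map_gU σ a c t ha hc ht x⟩
    | one => exact ⟨1, one_mem _, map_one σ⟩
    | mul p q _ _ ihp ihq =>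
      obtain ⟨p', hp', rfl⟩ := ihp
      obtain ⟨q', hq', rfl⟩ := ihq
      exact ⟨p' * q', mul_mem hp' hq', map_mul σ p' q'⟩
    | inv p _ ihp =>
      obtain ⟨p', hp', rfl⟩ := ihp
      exact ⟨p'⁻¹, inv_mem hp', map_inv σ p'⟩

include hsurj hcen in
theorem hHK_U : ∀ u, u ∈ Mt σ L → u ∈ σ.ker → u = 1 := fun _ hu hk =>
  eq_one_of_mem_Mt hsurj hcen L L_perfect TitsL.MF_L hu (MonoidHom.mem_ker.1 hk)

include haM hcM in
omit [Finite Γ] in
theorem hsub_U : ∀ x, cert.sub x = true → gU a c t x ∈ Mt σ L := fun x hx =>
  gU_mem_Mt σ a c t haM hcM x (lt_four_of_sub hx)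

include hsurj hder haM hcM hy in
/-- **the kernel is generated by the central elements** -/
theorem ker_eq_Zc_U : σ.ker = Zc (zU σ hcen a c t ha hc ht) 9 := by
  refine ker_eq_Zc_of_sub σ cert (gU a c t) (zU σ hcen a c t ha hc ht) (Mt σ L) 5616 hsurj
    (by rw [card_P4]; rfl) (by decide) (by norm_num) (hHK_U σ hsurj hcen) ?_
    (hsub_U σ a c t haM hcM) ?_ (hgen_U σ hcen hder a c t ha hc ht) (by decide) (by decide) (gU_iv a c t) ?_
    (hW0_U σ hsurj hcen a c t haM hcM ha hc ht hy) cert_all cert_wall
  · rw [← card_L]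
    exact card_Mt_le hsurj hcen L L_perfect TitsL.MF_L
  · intro j _
    exact wd_gU_mem_ker σ a c t ha hc ht (axI_lt j)
  · intro i hi
    exact wd_gU_mem_ker σ a c t ha hc ht hi

include hsurj haM hcM hy in
/-- the relations between the central elements -/
theorem rel_U : ∀ r ∈ relL, zprod (zU σ hcen a c t ha hc ht) 9 (fun l => r.getD l 0) = 1 := by
  have hKn : ∀ u, u ∈ σ.ker → ∀ g : Γ, g * u * g⁻¹ ∈ σ.ker := fun u hu g =>
    (inferInstance : σ.ker.Normal).conj_mem u hu g
  have key : ∀ {i v row : ℕ}, i < 405 → cert.scan 4095 (cert.W i) row 0 = some (row, v) →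
      cert.ek (zU σ hcen a c t ha hc ht) i = cert.kap (zU σ hcen a c t ha hc ht) v (cert.W i).length := by
    intro i v row hi h
    exact cert.close_spec (γ := gU a c t) (H := Mt σ L) σ.ker hKn
      (fun j _ => wd_gU_mem_ker σ a c t ha hc ht (axI_lt j)) (hHK_U σ hsurj hcen) (by decide) (by decide)
      (gU_iv a c t) (hsub_U σ a c t haM hcM)
      (fun i hi => wd_gU_mem_ker σ a c t ha hc ht hi) (hW0_U σ hsurj hcen a c t haM hcM ha hc ht hy)
      cert_all cert_wall hi (chk_len i hi) h
  intro r hr
  simp only [relL, List.mem_cons, List.not_mem_nil, or_false] at hr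
  rcases hr with rfl | rfl | rfl | rfl | rfl | rfl | rfl | rfl | rfl | rfl | rfl
  · exact cert.rel_of_close _ (key (by norm_num) close_0) _ chk_rel_0
  · exact cert.rel_of_close _ (key (by norm_num) close_1) _ chk_rel_1
  · exact cert.rel_of_close _ (key (by norm_num) close_2) _ chk_rel_2
  · exact cert.rel_of_close _ (key (by norm_num) close_3) _ chk_rel_3
  · exact cert.rel_of_close _ (key (by norm_num) close_4) _ chk_rel_4
  · exact cert.rel_of_close _ (key (by norm_num) close_5) _ chk_rel_5
  · exact cert.rel_of_close _ (key (by norm_num) close_6) _ chk_rel_6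
  · exact cert.rel_of_close _ (key (by norm_num) close_7) _ chk_rel_7
  · exact cert.rel_of_close _ (key (by norm_num) close_8) _ chk_rel_8
  · exact cert.rel_of_close _ (key (by norm_num) close_9) _ chk_rel_9
  · exact cert.rel_of_close _ (key (by norm_num) close_10) _ chk_rel_10

include hsurj hcen hder haM hcM ha hc ht hy in
/-- **the kernel is trivial** -/
theorem ker_eq_bot_U : σ.ker = ⊥ := by
  have hnd := not_dvd_card_ker σ hsurj hcen hder
  have copq : (Nat.card ↥σ.ker).Coprime 13 :=
    ((Nat.Prime.coprime_iff_not_dvd (by norm_num)).2 hnd).symm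
  have hK := ker_eq_Zc_U σ hsurj hcen hder a c t haM hcM ha hc ht hy
  set S : Subgroup (Subgroup.center Γ) := σ.ker.comap (Subgroup.center Γ).subtype with hS
  have hzS : ∀ j, j < 9 → zU σ hcen a c t ha hc ht j ∈ S :=
    fun j _ => wd_gU_mem_ker σ a c t ha hc ht (axI_lt j)
  have hq : ∀ u, u ∈ S → u ^ 13 = 1 → u = 1 := by
    intro u hu huq
    have h1 : (⟨(u : Γ), hu⟩ : ↥σ.ker) ^ 13 = 1 := by
      apply Subtype.ext
      rw [Subgroup.coe_pow, Subgroup.coe_one]
      show (u : Γ) ^ 13 = 1
      rw [← Subgroup.coe_pow, huq, Subgroup.coe_one]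
    have h2 := eq_one_of_pow_of_coprime 13 copq _ h1
    apply Subtype.ext
    have h3 : ((⟨(u : Γ), hu⟩ : ↥σ.ker) : Γ) = ((1 : ↥σ.ker) : Γ) := congrArg Subtype.val h2
    exact h3
  obtain ⟨hz, _⟩ := abelian_of_relations_q (zU σ hcen a c t ha hc ht) 9 relL
    (rel_U σ hsurj hcen a c t haM hcM ha hc ht hy) S hzS 13 hq [] [] [] lamL [] chk_lam chk_mu
  rw [hK]
  apply Zc_eq_bot_of_triv
  intro j hj
  rw [hz j hj]
  rfl

end upper

/-- **every finite stem extension of the presented Tits group is an isomorphism** -/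
theorem ker_eq_bot_of_stem {Γ : Type*} [Group Γ] [Finite Γ] (σ : Γ →* P4) (hsurj : Function.Surjective σ)
    (hcen : σ.ker ≤ Subgroup.center Γ) (hder : σ.ker ≤ commutator Γ) : σ.ker = ⊥ := by
  obtain ⟨a, c, t, haM, hcM, ha, hc, ht, hy⟩ := exists_lifts σ hsurj hcen hder
  exact ker_eq_bot_U σ hsurj hcen hder a c t haM hcM ha hc ht hy

end Cfsg.Agent.Lib.Helper7.TitsT
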