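import Mathlib
import Cfsg.Prelude.Def_Transfer
import Cfsg.Prelude.Def_PLocal
import Cfsg.Agent.Lib.Helper7.TraceSplit

set_option autoImplicit false

namespace Cfsg.Agent.Lib.Helper7

open Cfsg
open scoped Pointwise commutatorElement

variable {G : Type*} [Group G] [Finite G] {p : ℕ} [Fact p.Prime]

/-- refined trace argument: `C_V(T) ≤ C_{[V, R']}(T) C_V(R)` when `|R : T|` is prime to `p` and `R = R' T` -/
theorem centralizer_le_commutator_inf_sup_centralizer (V R T R' : Subgroup G)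
    (hVc : ∀ a ∈ V, ∀ b ∈ V, a * b = b * a) (hVp : ∀ a ∈ V, a ^ p = 1)
    (hRV : R ≤ Subgroup.normalizer (V : Set G)) (hTR : T ≤ R) (hidx : ¬ p ∣ T.relIndex R)
    (hR'R : R' ≤ R) (hfac : ∀ g ∈ R, ∃ r ∈ R', ∃ t ∈ T, g = r * t) :
    V ⊓ Subgroup.centralizer (T : Set G) ≤
      (⁅V, R'⁆ ⊓ Subgroup.centralizer (T : Set G)) ⊔ (V ⊓ Subgroup.centralizer (R : Set G)) := by
  have hp : p.Prime := Fact.out
  intro u hu
  have huV : u ∈ V := hu.1
  have huT : ∀ t ∈ T, t * u = u * t := fun t ht => Subgroup.mem_centralizer_iff.mp hu.2 t ht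
  letI : CommGroup ↥V :=
    { (inferInstance : Group ↥V) with mul_comm := fun a b => Subtype.ext (hVc a a.2 b b.2) }
  letI : Fintype (↥R ⧸ T.subgroupOf R) := Fintype.ofFinite _
  have hconj : ∀ g ∈ R, ∀ v ∈ V, g * v * g⁻¹ ∈ V := fun g hg v hv =>
    (Subgroup.mem_normalizer_iff.mp (hRV hg) v).mp hv
  let f : ↥R ⧸ T.subgroupOf R → ↥V := fun q =>
    ⟨((q.out : ↥R) : G) * u * ((q.out : ↥R) : G)⁻¹, hconj _ (q.out : ↥R).2 u huV⟩
  obtain ⟨tr, htr⟩ : ∃ tr : ↥V, tr = ∏ q, f q := ⟨_, rfl⟩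
  -- conjugation by `r ∈ R` as a hom on `V`
  have hfix : ∀ r : ↥R, (r : G) * (tr : G) * (r : G)⁻¹ = (tr : G) := by
    intro r
    let c : ↥V →* ↥V :=
      { toFun := fun v => ⟨(r : G) * (v : G) * (r : G)⁻¹, hconj _ r.2 _ v.2⟩
        map_one' := by apply Subtype.ext; simp
        map_mul' := fun a b => by apply Subtype.ext; simp [mul_assoc] }
    have h1 : c tr = ∏ q, c (f q) := by rw [htr, map_prod]
    have h2 : ∀ q, c (f q) = f (r • q) := by
      intro q
      have hmk : ((r • q).out : ↥R ⧸ T.subgroupOf R) = ((r * q.out : ↥R) : ↥R ⧸ T.subgroupOf R) := by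
        rw [QuotientGroup.out_eq']
        conv_lhs => rw [← QuotientGroup.out_eq' q]
        rfl
      have hmem : (r * q.out)⁻¹ * (r • q).out ∈ T.subgroupOf R := QuotientGroup.eq.mp hmk.symm
      have hmemT : (((r * q.out)⁻¹ * (r • q).out : ↥R) : G) ∈ T := Subgroup.mem_subgroupOf.mp hmem
      have hcomm := huT _ hmemT
      apply Subtype.ext
      show (r : G) * (((q.out : ↥R) : G) * u * ((q.out : ↥R) : G)⁻¹) * (r : G)⁻¹ =
        (((r • q).out : ↥R) : G) * u * (((r • q).out : ↥R) : G)⁻¹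
      have e : (((r • q).out : ↥R) : G) =
          ((r : G) * ((q.out : ↥R) : G)) * (((r * q.out)⁻¹ * (r • q).out : ↥R) : G) := by
        simp [mul_assoc]
      generalize (((r * q.out)⁻¹ * (r • q).out : ↥R) : G) = t at hcomm e
      rw [e]
      calc (r : G) * (((q.out : ↥R) : G) * u * ((q.out : ↥R) : G)⁻¹) * (r : G)⁻¹
          = (r : G) * ((q.out : ↥R) : G) * (u * t) * t⁻¹ * ((q.out : ↥R) : G)⁻¹ * (r : G)⁻¹ := by group
        _ = (r : G) * ((q.out : ↥R) : G) * (t * u) * t⁻¹ * ((q.out : ↥R) : G)⁻¹ * (r : G)⁻¹ := by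
            rw [hcomm]
        _ = _ := by group
    have h3 : ∏ q, c (f q) = ∏ q, f q := by
      simp_rw [h2]
      exact Fintype.prod_equiv (MulAction.toPerm r) _ _ (fun q => rfl)
    have h4 : c tr = tr := by rw [h1, h3, htr]
    exact congrArg Subtype.val h4
  have htrC : (tr : G) ∈ V ⊓ Subgroup.centralizer (R : Set G) := by
    refine ⟨tr.2, ?_⟩
    apply Subgroup.mem_centralizer_iff.mpr
    intro r hr
    have := hfix ⟨r, hr⟩
    calc r * (tr : G) = (r * (tr : G) * r⁻¹) * r := by group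
      _ = (tr : G) * r := by rw [this]
  -- the other expression for the trace
  have hcomm_mem : ∀ g ∈ R, g * u * g⁻¹ * u⁻¹ ∈ ⁅V, R'⁆ := by
    intro g hg
    obtain ⟨r, hr, t, ht, rfl⟩ := hfac g hg
    have htu := huT t ht
    have h1 : ⁅u, r⁆ ∈ ⁅V, R'⁆ := Subgroup.commutator_mem_commutator huV hr
    have h2 := Subgroup.inv_mem _ h1
    have e : (⁅u, r⁆)⁻¹ = r * t * u * (r * t)⁻¹ * u⁻¹ := by
      rw [commutatorElement_def]
      calc (u * r * u⁻¹ * r⁻¹)⁻¹ = r * (u * t) * t⁻¹ * r⁻¹ * u⁻¹ := by group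
        _ = r * (t * u) * t⁻¹ * r⁻¹ * u⁻¹ := by rw [htu]
        _ = r * t * u * (r * t)⁻¹ * u⁻¹ := by group
    rwa [e] at h2
  have hcV : ⁅V, R'⁆ ≤ V := commutator_le_left_of_le_normalizer V R' (hR'R.trans hRV)
  let a : ↥R ⧸ T.subgroupOf R → ↥V := fun q =>
    ⟨((q.out : ↥R) : G) * u * ((q.out : ↥R) : G)⁻¹ * u⁻¹, hcV (hcomm_mem _ (q.out : ↥R).2)⟩
  have hfa : ∀ q, f q = a q * ⟨u, huV⟩ := by
    intro q
    apply Subtype.ext
    show ((q.out : ↥R) : G) * u * ((q.out : ↥R) : G)⁻¹ =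
      ((q.out : ↥R) : G) * u * ((q.out : ↥R) : G)⁻¹ * u⁻¹ * u
    group
  have hprod : tr = (∏ q, a q) * (⟨u, huV⟩ : ↥V) ^ (Fintype.card (↥R ⧸ T.subgroupOf R)) := by
    rw [htr]
    simp_rw [hfa]
    rw [Finset.prod_mul_distrib, Finset.prod_const, Finset.card_univ]
  have hamem : (∏ q, a q) ∈ (⁅V, R'⁆).subgroupOf V := by
    apply Subgroup.prod_mem
    intro q _
    exact Subgroup.mem_subgroupOf.mpr (hcomm_mem _ (q.out : ↥R).2)
  obtain ⟨W, hW⟩ : ∃ W : Subgroup G, W = (⁅V, R'⁆ ⊓ Subgroup.centralizer (T : Set G)) ⊔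
      (V ⊓ Subgroup.centralizer (R : Set G)) := ⟨_, rfl⟩
  rw [← hW]
  have hm : Fintype.card (↥R ⧸ T.subgroupOf R) = T.relIndex R := by
    rw [Subgroup.relIndex, Subgroup.index, Nat.card_eq_fintype_card]
  have h1 : ((⟨u, huV⟩ : ↥V) ^ (Fintype.card (↥R ⧸ T.subgroupOf R))) = (∏ q, a q)⁻¹ * tr := by
    rw [hprod]; group
  have h3 : u ^ (T.relIndex R) = ((∏ q, a q : ↥V) : G)⁻¹ * (tr : G) := by
    have h2 := congrArg Subtype.val h1
    rw [hm] at h2
    simpa using h2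
  have htrT : (tr : G) ∈ Subgroup.centralizer (T : Set G) :=
    Subgroup.centralizer_le (show (T : Set G) ⊆ R from hTR) htrC.2
  have haT : ((∏ q, a q : ↥V) : G) ∈ Subgroup.centralizer (T : Set G) := by
    have e : ((∏ q, a q : ↥V) : G) = (tr : G) * (u ^ (T.relIndex R))⁻¹ := by
      rw [h3]; group
    rw [e]
    exact Subgroup.mul_mem _ htrT (Subgroup.inv_mem _ (Subgroup.pow_mem _ hu.2 _))
  have hpow : u ^ (T.relIndex R) ∈ W := by
    rw [h3, hW]
    exact Subgroup.mul_mem_sup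
      (Subgroup.inv_mem _ ⟨Subgroup.mem_subgroupOf.mp hamem, haT⟩) htrC
  have hcop : (T.relIndex R).Coprime p := ((Nat.Prime.coprime_iff_not_dvd hp).mpr hidx).symm
  obtain ⟨m', -, hm'⟩ := Nat.exists_mul_mod_eq_one_of_coprime hcop hp.one_lt
  have h5 := Subgroup.pow_mem _ hpow m'
  rw [← pow_mul, pow_eq_pow_mod _ (hVp u huV), hm', pow_one] at h5
  exact h5

/-- S2826 -/
theorem omega_center_centralizer_via_commutator (T : Sylow p G) (V : Subgroup G) [hVn : V.Normal]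
    (hV : Cfsg.IsElementaryAbelian p V)
    (hZV : omegaOne p ((T : Subgroup G) ⊓ Subgroup.centralizer ((T : Subgroup G) : Set G)) ≤ V) :
    Subgroup.centralizer
        ((omegaOne p ((T : Subgroup G) ⊓ Subgroup.centralizer ((T : Subgroup G) : Set G)) : Subgroup G) : Set G) =
      Subgroup.centralizer (((⁅V, Cfsg.pResidual p G⁆ ⊓
        omegaOne p ((T : Subgroup G) ⊓ Subgroup.centralizer ((T : Subgroup G) : Set G)) : Subgroup G)) : Set G) := by
  obtain ⟨hVc, hVp⟩ := (isElementaryAbelian_iff V).mp hV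
  obtain ⟨Z, hZ⟩ : ∃ Z : Subgroup G,
    Z = omegaOne p ((T : Subgroup G) ⊓ Subgroup.centralizer ((T : Subgroup G) : Set G)) := ⟨_, rfl⟩
  rw [← hZ] at hZV ⊢
  have hVpg : IsPGroup p ↥V := by
    intro v
    refine ⟨1, ?_⟩
    apply Subtype.ext
    rw [pow_one, Subgroup.coe_pow, Subgroup.coe_one]
    exact hVp v v.2
  have hVT : V ≤ (T : Subgroup G) := hVpg.le_sylow_of_normal T
  have hZT : Z ≤ Subgroup.centralizer ((T : Subgroup G) : Set G) := by
    rw [hZ]
    unfold omegaOne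
    rw [Subgroup.closure_le]
    rintro x ⟨hx, -⟩
    exact hx.2
  have hZeq : V ⊓ Subgroup.centralizer ((T : Subgroup G) : Set G) ≤ Z := by
    intro v hv
    rw [hZ]
    exact Subgroup.subset_closure ⟨⟨hVT hv.1, hv.2⟩, hVp v hv.1⟩
  have hdecomp := centralizer_le_commutator_inf_sup_centralizer V ⊤ (T : Subgroup G) (pResidual p G)
    hVc hVp (by rw [Subgroup.normalizer_eq_top_iff.mpr hVn]) le_top
    (by rw [Subgroup.relIndex_top_right]; exact T.not_dvd_index) le_top (by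
      intro g _
      obtain ⟨r, hr, m, hm, hg⟩ := Cfsg.Agent.Lib.Lead.PResidual.exists_mul (p := p) (T : Subgroup G)
        T.not_dvd_index g⁻¹
      refine ⟨m⁻¹, Subgroup.inv_mem _ hm, r⁻¹, Subgroup.inv_mem _ hr, ?_⟩
      calc g = (g⁻¹)⁻¹ := (inv_inv g).symm
        _ = (r * m)⁻¹ := by rw [hg]
        _ = m⁻¹ * r⁻¹ := by group)
  have hcV : ⁅V, pResidual p G⁆ ≤ V :=
    commutator_le_left_of_le_normalizer V _ (by rw [Subgroup.normalizer_eq_top_iff.mpr hVn]; exact le_top)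
  apply le_antisymm
  · exact Subgroup.centralizer_le (show ((⁅V, pResidual p G⁆ ⊓ Z : Subgroup G) : Set G) ⊆ Z from inf_le_right)
  · intro g hg
    apply Subgroup.mem_centralizer_iff.mpr
    intro z hz
    have hz' := hdecomp ⟨hZV hz, hZT hz⟩
    have hle : (⁅V, pResidual p G⁆ ⊓ Subgroup.centralizer ((T : Subgroup G) : Set G)) ⊔
        (V ⊓ Subgroup.centralizer ((⊤ : Subgroup G) : Set G)) ≤
        Subgroup.centralizer ({g} : Set G) := by
      apply sup_le
      · intro w hw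
        have hwZ : w ∈ ⁅V, pResidual p G⁆ ⊓ Z := ⟨hw.1, hZeq ⟨hcV hw.1, hw.2⟩⟩
        rw [Subgroup.mem_centralizer_singleton_iff]
        exact Subgroup.mem_centralizer_iff.mp hg w hwZ
      · intro w hw
        rw [Subgroup.mem_centralizer_singleton_iff]
        exact (Subgroup.mem_centralizer_iff.mp hw.2 g (Subgroup.mem_top g)).symm
    exact Subgroup.mem_centralizer_singleton_iff.mp (hle hz')

end Cfsg.Agent.Lib.Helper7
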