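import Mathlib
import Cfsg.Agent.Lib.Helper7.TransferOrbit

/-!
# Localized transfer: reduction to the fixed cosets
-/

set_option autoImplicit false
set_option linter.unusedVariables false
set_option linter.unusedSectionVars false

namespace Cfsg.Agent.Lib.Helper7.LocalTransfer

open Subgroup MulAction
open scoped Pointwise

attribute [local instance] Classical.propDecidable

variable {G : Type*} [Group G] [Finite G] {H : Subgroup G} {A : Type*} [CommGroup A] (ϕ : H →* A)

attribute [local instance] fintypeQuot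

/-- extension of `ϕ` by `1` -/
noncomputable def phiE (g : G) : A := if h : g ∈ H then ϕ ⟨g, h⟩ else 1

theorem phiE_of_mem {g : G} (h : g ∈ H) : phiE ϕ g = ϕ ⟨g, h⟩ := by
  unfold phiE; rw [dif_pos h]

theorem tr_singleton (t : G) (q : G ⧸ H) : tr t ({q} : Finset (G ⧸ H)) = {t • q} := by
  unfold tr
  rw [Finset.image_singleton]

theorem tO_singleton_of_fixed {x t : G} (h : t⁻¹ * x * t ∈ H) :
    tO ϕ ({((t : G) : G ⧸ H)} : Finset (G ⧸ H)) x = ϕ ⟨t⁻¹ * x * t, h⟩ := by
  have h1 := tO_conj ϕ (tr_singleton_one h) t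
  rw [tr_singleton, tO_singleton_one ϕ h] at h1
  have e1 : t • (((1 : G) : G ⧸ H)) = ((t : G) : G ⧸ H) := by
    rw [MulAction.Quotient.smul_coe, smul_eq_mul, mul_one]
  have e2 : t * (t⁻¹ * x * t) * t⁻¹ = x := by group
  rw [e1, e2] at h1
  exact h1

theorem tO_eq_prod_singleton (O : Finset (G ⧸ H)) (g : G) :
    tO ϕ O g = ∏ q ∈ O, tO ϕ ({q} : Finset (G ⧸ H)) g := by
  unfold tO dO
  refine Finset.prod_congr rfl (fun q _ => ?_)
  rw [Finset.prod_singleton]

/-- **Reduction of the transfer to the fixed cosets**. -/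
theorem transfer_eq_prod_fixed {p : ℕ} [Fact p.Prime] {K : Subgroup G} (hK : IsPGroup p K)
    {x : G} (hx : x ∈ K)
    (hϕ : ∀ (t : G) (n : ℕ), 2 ≤ n → n ∣ orderOf x → ∀ h : t⁻¹ * x ^ n * t ∈ H, ϕ ⟨_, h⟩ = 1)
    (hblock : ∀ q₀ : G ⧸ H, (∃ k ∈ K, k • q₀ ≠ q₀) →
      ∀ M : Subgroup G, M ≤ K → (∀ a ∈ K, ∀ m ∈ M, a⁻¹ * m * a ∈ M) → M.relIndex K = p →
      (∀ a ∈ K, a • q₀ = q₀ → a ∈ M) → x ∈ M →
      ∃ u ∈ K, u ∉ M ∧ ∏ j ∈ Finset.range p, tO ϕ (orbF M q₀) ((u ^ j)⁻¹ * x * u ^ j) = 1) :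
    MonoidHom.transfer ϕ x =
      ∏ q ∈ Finset.univ.filter (fun q : G ⧸ H => ∀ k ∈ K, k • q = q),
        phiE ϕ ((Quotient.out q : G)⁻¹ * x * (Quotient.out q : G)) := by
  rw [transfer_eq_tO]
  set Fix : Finset (G ⧸ H) := Finset.univ.filter (fun q : G ⧸ H => ∀ k ∈ K, k • q = q) with hFix
  have hunion : (Finset.univ : Finset (G ⧸ H)) = Fix ∪ (Finset.univ \ Fix) :=
    (Finset.union_sdiff_of_subset (Finset.subset_univ _)).symm
  have hFixtr : ∀ k ∈ K, tr k Fix = Fix := by
    intro k hk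
    ext q
    rw [mem_tr, hFix, Finset.mem_filter, Finset.mem_filter]
    simp only [Finset.mem_univ, true_and]
    constructor
    · intro h k' hk'
      have h1 := h (k⁻¹ * k' * k) (K.mul_mem (K.mul_mem (K.inv_mem hk) hk') hk)
      rw [mul_smul, mul_smul, smul_inv_smul] at h1
      have h2 := congrArg (fun z => k • z) h1
      simp only [smul_inv_smul] at h2
      exact h2
    · intro h k' hk'
      have h1 := h (k * k' * k⁻¹) (K.mul_mem (K.mul_mem hk hk') (K.inv_mem hk))
      rw [mul_smul, mul_smul] at h1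
      have h2 := congrArg (fun z => k⁻¹ • z) h1
      simp only [inv_smul_smul] at h2
      exact h2
  rw [hunion, tO_union ϕ Finset.disjoint_sdiff]
  have h1 : tO ϕ (Finset.univ \ Fix) x = 1 := by
    apply tO_eq_one_of_orbits ϕ K x _ _ rfl
    · intro k hk
      rw [tr_sdiff, tr_univ, hFixtr k hk]
    · intro q hq
      have hq1 : ∃ k ∈ K, k • q ≠ q := by
        rw [Finset.mem_sdiff, hFix, Finset.mem_filter] at hq
        by_contra hcon
        push Not at hcon
        exact hq.2 ⟨Finset.mem_univ _, hcon⟩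
      exact tO_orbF_eq_one ϕ hK q hq1 hx hϕ (hblock q hq1)
  rw [h1, mul_one, tO_eq_prod_singleton]
  refine Finset.prod_congr rfl (fun q hq => ?_)
  have hq' : ∀ k ∈ K, k • q = q := by
    rw [hFix, Finset.mem_filter] at hq
    exact hq.2
  have hqo : ((Quotient.out q : G) : G ⧸ H) = q := QuotientGroup.out_eq' q
  have hmem : (Quotient.out q : G)⁻¹ * x * (Quotient.out q : G) ∈ H := by
    have h2 := hq' x hx
    conv at h2 => rw [← hqo]
    rw [MulAction.Quotient.smul_coe, smul_eq_mul, QuotientGroup.eq] at h2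
    have e : (Quotient.out q : G)⁻¹ * x * (Quotient.out q : G) =
        ((x * (Quotient.out q : G))⁻¹ * (Quotient.out q : G))⁻¹ := by group
    rw [e]
    exact H.inv_mem h2
  rw [phiE_of_mem ϕ hmem]
  conv_lhs => rw [← hqo]
  exact tO_singleton_of_fixed ϕ hmem

end Cfsg.Agent.Lib.Helper7.LocalTransfer
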