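import Mathlib
import Cfsg.Prelude.Def_Transfer
import Cfsg.Agent.Lib.Helper7.TateH

set_option autoImplicit false
set_option linter.unusedVariables false
set_option linter.unusedSectionVars false

universe u

namespace Cfsg.Agent.Lib.Helper7.TransferStable

open Cfsg Subgroup

/-- The transfer of a `G`-stable homomorphism restricts to the `index`-th power. -/
theorem transfer_eq_pow_of_stable {G : Type*} [Group G] {H : Subgroup G} [H.FiniteIndex]
    {A : Type*} [CommGroup A] (ϕ : ↥H →* A)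
    (hstab : ∀ (h : ↥H) (g : G) (hg : g⁻¹ * (h : G) * g ∈ H), ϕ ⟨g⁻¹ * (h : G) * g, hg⟩ = ϕ h)
    (x : ↥H) : MonoidHom.transfer ϕ (x : G) = ϕ x ^ H.index := by
  classical
  have : Fintype (Quotient (MulAction.orbitRel (zpowers (x : G)) (G ⧸ H))) :=
    Fintype.ofFinite _
  rw [index_eq_sum_minimalPeriod H (x : G), ← Finset.prod_pow_eq_pow_sum,
    MonoidHom.transfer_eq_prod_quotient_orbitRel_zpowers_quot]
  apply Finset.prod_congr rfl
  intro q _
  have h1 := hstab (x ^ Function.minimalPeriod ((x : G) • ·) q.out) q.out.out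
    (by simpa using QuotientGroup.out_conj_pow_minimalPeriod_mem H (x : G) q.out)
  rw [map_pow] at h1
  rw [← h1]
  congr 1

/-- `O^p(H)`, viewed in `G`, lies in `O^p(G)`. -/
theorem map_pResidual_le {G : Type*} [Group G] (p : ℕ) (H : Subgroup G) :
    (pResidual p ↥H).map H.subtype ≤ pResidual p G := by
  rw [Subgroup.map_le_iff_le_comap]
  unfold pResidual
  rw [Subgroup.closure_le]
  intro g hg
  have hg' : Nat.Coprime (orderOf g) p := hg
  rw [SetLike.mem_coe, Subgroup.mem_comap]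
  refine Subgroup.subset_closure ?_
  show Nat.Coprime (orderOf ((g : ↥H) : G)) p
  rw [Subgroup.orderOf_coe]
  exact hg'

/-- If `H` controls fusion of its own elements and has index prime to `p`, then
`H ∩ O^p(G) = O^p(H)`. -/
theorem pResidual_subgroupOf_le_of_stable {G : Type u} [Group G] [Finite G] {p : ℕ} [Fact p.Prime]
    (H : Subgroup G) (hH : ¬ p ∣ H.index)
    (hfus : ∀ (h : ↥H) (g : G), g⁻¹ * (h : G) * g ∈ H → ∃ c : ↥H, g⁻¹ * (h : G) * g = ((c⁻¹ * h * c : ↥H) : G)) :
    (pResidual p G).subgroupOf H ≤ pResidual p ↥H := by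
  have hp : p.Prime := Fact.out
  apply TateH.tateH H hH
  intro Z _ hZ lam
  have hcop : Nat.Coprime H.index p := ((Nat.Prime.coprime_iff_not_dvd hp).mpr hH).symm
  obtain ⟨j, -, hj⟩ := Nat.exists_mul_mod_eq_one_of_coprime hcop hp.one_lt
  refine ⟨(powMonoidHom j).comp (MonoidHom.transfer lam), fun h => ?_⟩
  have hstab : ∀ (h : ↥H) (g : G) (hg : g⁻¹ * (h : G) * g ∈ H),
      lam ⟨g⁻¹ * (h : G) * g, hg⟩ = lam h := by
    intro h g hg
    obtain ⟨c, hc⟩ := hfus h g hg
    have e : (⟨g⁻¹ * (h : G) * g, hg⟩ : ↥H) = c⁻¹ * h * c := Subtype.ext hc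
    rw [e, map_mul, map_mul, map_inv, mul_comm (lam c)⁻¹, mul_assoc, inv_mul_cancel, mul_one]
  rw [MonoidHom.comp_apply, transfer_eq_pow_of_stable lam hstab h, powMonoidHom_apply, ← pow_mul]
  have hfinZ : Finite Z := Nat.finite_of_card_ne_zero (by rw [hZ]; exact hp.ne_zero)
  have hA : (lam h) ^ p = 1 := hZ ▸ pow_card_eq_one'
  have hdiv := Nat.div_add_mod (H.index * j) p
  rw [hj] at hdiv
  rw [← hdiv, pow_add, pow_mul, hA, one_pow, one_mul, pow_one]

end Cfsg.Agent.Lib.Helper7.TransferStable
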