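/-! # The unitary group of degree four over the field of nine elements on 126 points: a base of four points with words that move
them through the orbits of the successive stabilisers (generated).  Every entry is the image of the base point
followed by a word. -/

set_option autoImplicit false

namespace Cfsg.Agent.Lib.Helper7.U43MB

/-- the orbit of the first base point under the stabiliser of the earlier ones -/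
def lvl1 : List (List Nat) := [[0, 5],
  [1],
  [2, 0],
  [3, 3],
  [4, 3, 0],
  [5, 2, 3],
  [6, 4, 3],
  [7, 5, 3],
  [8, 2, 3, 0],
  [9, 4, 3, 0],
  [10, 1, 2, 3],
  [11, 4, 2, 3],
  [12, 5, 2, 3],
  [13, 0, 4, 3],
  [14, 1, 4, 3],
  [15, 2, 4, 3],
  [16, 5, 4, 3],
  [17, 2, 5, 3],
  [18, 4, 5, 3],
  [19, 4, 2, 3, 0],
  [20, 5, 2, 3, 0],
  [21, 0, 4, 3, 0],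
  [22, 2, 4, 3, 0],
  [23, 5, 4, 3, 0],
  [24, 0, 1, 2, 3],
  [25, 4, 1, 2, 3],
  [26, 0, 4, 2, 3],
  [27, 1, 4, 2, 3],
  [28, 2, 4, 2, 3],
  [29, 3, 4, 2, 3],
  [30, 5, 4, 2, 3],
  [31, 0, 5, 2, 3],
  [32, 4, 5, 2, 3],
  [33, 1, 0, 4, 3],
  [34, 2, 0, 4, 3],
  [35, 5, 0, 4, 3],
  [36, 0, 1, 4, 3],
  [37, 2, 1, 4, 3],
  [38, 1, 2, 4, 3],
  [39, 3, 2, 4, 3],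
  [40, 5, 2, 4, 3],
  [41, 0, 5, 4, 3],
  [42, 2, 5, 4, 3],
  [43, 3, 2, 5, 3],
  [44, 4, 2, 5, 3],
  [45, 0, 4, 5, 3],
  [46, 2, 4, 5, 3],
  [47, 3, 4, 5, 3],
  [48, 0, 4, 2, 3, 0],
  [49, 1, 4, 2, 3, 0],
  [50, 2, 4, 2, 3, 0],
  [51, 3, 4, 2, 3, 0],
  [52, 0, 5, 2, 3, 0],
  [53, 3, 5, 2, 3, 0],
  [54, 4, 5, 2, 3, 0],
  [55, 1, 0, 4, 3, 0],
  [56, 2, 0, 4, 3, 0],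
  [57, 1, 2, 4, 3, 0],
  [58, 3, 2, 4, 3, 0],
  [59, 0, 5, 4, 3, 0],
  [60, 2, 5, 4, 3, 0],
  [61, 3, 5, 4, 3, 0],
  [62, 3, 4, 1, 2, 3],
  [63, 2, 0, 4, 2, 3],
  [64, 3, 0, 4, 2, 3],
  [65, 3, 1, 4, 2, 3],
  [66, 5, 3, 4, 2, 3],
  [67, 3, 4, 5, 2, 3],
  [68, 0, 1, 0, 4, 3],
  [69, 4, 1, 0, 4, 3],
  [70, 3, 2, 0, 4, 3],
  [71, 4, 2, 0, 4, 3],
  [72, 0, 5, 0, 4, 3],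
  [73, 3, 5, 0, 4, 3],
  [74, 4, 5, 0, 4, 3],
  [75, 2, 0, 1, 4, 3],
  [76, 4, 0, 1, 4, 3],
  [77, 5, 0, 1, 4, 3],
  [78, 3, 2, 1, 4, 3],
  [79, 3, 1, 2, 4, 3],
  [80, 5, 3, 2, 4, 3],
  [81, 2, 0, 5, 4, 3],
  [82, 4, 0, 5, 4, 3],
  [83, 4, 3, 2, 5, 3],
  [84, 0, 4, 2, 5, 3],
  [85, 2, 4, 2, 5, 3],
  [86, 2, 0, 4, 5, 3],
  [87, 3, 0, 4, 5, 3],
  [88, 2, 0, 4, 2, 3, 0],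
  [89, 3, 0, 4, 2, 3, 0],
  [90, 3, 1, 4, 2, 3, 0],
  [91, 3, 0, 5, 2, 3, 0],
  [92, 2, 3, 5, 2, 3, 0],
  [93, 4, 1, 0, 4, 3, 0],
  [94, 3, 2, 0, 4, 3, 0],
  [95, 3, 1, 2, 4, 3, 0],
  [96, 2, 0, 5, 4, 3, 0],
  [97, 3, 0, 5, 4, 3, 0],
  [98, 4, 0, 5, 4, 3, 0],
  [99, 1, 2, 0, 4, 2, 3],
  [100, 4, 2, 0, 4, 2, 3],
  [101, 5, 2, 0, 4, 2, 3],
  [102, 2, 3, 1, 4, 2, 3],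
  [103, 1, 5, 3, 4, 2, 3],
  [104, 2, 5, 3, 4, 2, 3],
  [105, 5, 3, 4, 5, 2, 3],
  [106, 3, 4, 1, 0, 4, 3],
  [107, 5, 4, 2, 0, 4, 3],
  [108, 3, 0, 5, 0, 4, 3],
  [109, 2, 3, 5, 0, 4, 3],
  [110, 3, 2, 0, 1, 4, 3],
  [111, 3, 4, 0, 1, 4, 3],
  [112, 2, 3, 1, 2, 4, 3],
  [113, 4, 3, 1, 2, 4, 3],
  [114, 1, 5, 3, 2, 4, 3],
  [115, 0, 4, 3, 2, 5, 3],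
  [116, 2, 0, 4, 2, 5, 3],
  [117, 4, 3, 0, 4, 5, 3],
  [118, 1, 2, 0, 4, 2, 3, 0],
  [119, 2, 3, 1, 4, 2, 3, 0],
  [120, 2, 3, 0, 5, 2, 3, 0],
  [121, 4, 3, 0, 5, 2, 3, 0],
  [122, 5, 3, 2, 0, 4, 3, 0],
  [123, 3, 5, 2, 0, 4, 2, 3],
  [124, 0, 5, 3, 4, 5, 2, 3],
  [125, 2, 3, 0, 5, 0, 4, 3]]

/-- the orbit of the second base point under the stabiliser of the earlier ones -/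
def lvl2 : List (List Nat) := [[0, 5, 3, 5, 0, 5, 2],
  [2, 5, 3, 5, 0, 2],
  [4, 0, 2],
  [5],
  [6, 0, 4, 0, 4, 0, 2],
  [7, 0, 5, 2],
  [12, 0, 1, 0, 1],
  [16, 0, 1, 0, 1, 0, 4, 0, 2],
  [17, 5, 3, 5],
  [18, 0, 5, 1, 0, 4, 0, 2],
  [19, 0, 1, 0, 4],
  [20, 0, 1, 0, 5, 0],
  [21, 0, 4, 0, 2],
  [22, 0, 2, 0, 4, 0, 2],
  [23, 0, 2, 0, 4, 0, 5, 4],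
  [24, 0, 1],
  [25, 0, 4, 0, 1, 0, 1],
  [26, 0, 4],
  [27, 0, 1, 0, 1, 0, 4],
  [28, 0, 2, 0, 4],
  [29, 0, 1, 0, 1, 0, 4, 5, 3, 5, 0, 4],
  [30, 0, 5, 4],
  [33, 0, 2, 0, 1, 0, 4, 0, 2],
  [34, 0, 4, 0, 2, 0, 4],
  [35, 0, 1, 0, 5, 4, 0, 2],
  [36, 0, 1, 0, 4, 0, 4, 0, 2],
  [37, 0, 1, 0, 1, 0, 4, 0, 1, 0, 1],
  [38, 0, 2, 0, 4, 0, 1, 0, 1],
  [39, 0, 1, 0, 5, 4, 5, 3, 5, 0, 4],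
  [40, 0, 5, 4, 0, 2, 0, 4],
  [44, 0, 5, 1, 0, 4],
  [45, 5, 3, 5, 0, 4, 0, 2],
  [46, 0, 5, 2, 0, 4, 0, 2],
  [51, 5, 3, 5, 0, 2, 0, 4, 0, 2],
  [52, 0, 5, 0],
  [54, 0, 4, 0, 1, 0, 5, 0],
  [58, 5, 3, 5, 0, 1, 0, 4],
  [59, 0, 5, 4, 0, 2],
  [60, 0, 2, 0, 5, 4, 0, 2],
  [62, 5, 3, 5, 0, 4, 0, 1, 0, 1],
  [64, 5, 3, 5, 0, 4, 0, 2, 0, 4],
  [65, 5, 3, 5, 0, 2, 0, 4, 0, 1, 0, 1],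
  [66, 5, 3, 5, 0, 5, 4],
  [70, 5, 3, 5, 0, 4],
  [72, 5, 3, 5, 0, 1, 0, 4, 0, 2],
  [74, 0, 4, 0, 1, 0, 5, 4, 0, 2],
  [77, 0, 1, 0, 4, 0, 2],
  [78, 0, 4, 0, 2, 0, 1, 0, 4],
  [79, 5, 3, 5, 0, 1, 0, 1, 0, 4],
  [80, 5, 3, 5, 0, 5, 4, 0, 2, 0, 4],
  [81, 0, 1, 0, 4, 0, 1, 0, 1],
  [82, 0, 4, 0, 1, 0, 4, 0, 4, 0, 2],
  [84, 0, 4, 5, 3, 5],
  [85, 5, 3, 5, 0, 2, 0, 4],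
  [86, 0, 4, 5, 3, 5, 0, 2, 0, 4],
  [88, 0, 2, 0, 1, 0, 4],
  [89, 0, 1, 0, 4, 5, 3, 5, 0, 4],
  [90, 0, 4, 5, 3, 5, 0, 4],
  [93, 0, 2, 5, 3, 5, 0, 4, 0, 1, 0, 1],
  [94, 0, 5, 4, 5, 3, 5, 0, 4],
  [95, 5, 3, 5, 0, 4, 5, 3, 5, 0, 4],
  [96, 0, 4, 0, 5, 4],
  [98, 0, 4, 0, 5, 4, 0, 2],
  [99, 0, 1, 0, 2, 0, 1, 0, 4],
  [100, 0, 4, 0, 4, 0, 2, 0, 4],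
  [101, 0, 5, 2, 0, 4],
  [102, 0, 2, 0, 4, 5, 3, 5, 0, 4],
  [103, 5, 3, 5, 0, 5, 2, 0, 4, 0, 2],
  [104, 5, 3, 5, 0, 2, 5, 3, 5, 0, 4, 0, 1, 0, 1],
  [105, 5, 3, 5, 0, 2, 0, 5, 4, 0, 2],
  [106, 0, 2, 5, 3, 5, 0, 1, 0, 1, 0, 4],
  [107, 5, 3, 5, 0, 4, 0, 1, 0, 5, 0],
  [111, 0, 2, 5, 3, 5, 0, 5, 4],
  [112, 0, 5, 2, 0, 4, 5, 3, 5, 0, 4],
  [113, 5, 3, 5, 0, 4, 5, 3, 5],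
  [114, 5, 3, 5, 0, 5, 1, 0, 4],
  [116, 0, 5, 2, 0, 1, 0, 4],
  [119, 0, 2, 5, 3, 5, 0, 2, 0, 4, 0, 1, 0, 1],
  [122, 5, 3, 5, 0, 4, 5, 3, 5, 0, 2, 0, 4],
  [124, 5, 3, 5, 0, 4, 0, 5, 4]]

/-- the orbit of the third base point under the stabiliser of the earlier ones -/
def lvl3 : List (List Nat) := [[3],
  [10, 1, 0, 1, 2, 1, 2, 0, 1],
  [11, 1, 0, 1, 4, 1, 2, 1, 2, 0, 1],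
  [15, 1, 0, 1, 2, 1, 4, 1, 4, 0, 1],
  [31, 1, 0, 1, 2, 0, 1],
  [42, 1, 0, 1, 2, 1, 4, 0, 1],
  [48, 1, 0, 1, 4, 1, 4, 1, 2, 0, 1],
  [53, 5, 3, 5, 0, 5, 0, 1, 2, 0, 1],
  [55, 1, 0, 1, 4, 1, 4, 0, 1],
  [56, 1, 0, 1, 2, 1, 2, 1, 4, 0, 1],
  [68, 1, 0, 1, 4, 0, 1],
  [73, 5, 3, 5, 0, 5, 0, 1, 4, 0, 1],
  [75, 1, 0, 1, 4, 1, 2, 0, 1],
  [91, 5, 3, 5, 0, 5, 0, 1, 2, 1, 2, 0, 1],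
  [108, 5, 3, 5, 0, 5, 0, 1, 4, 1, 4, 0, 1],
  [117, 1, 0, 1, 2, 0, 1, 5, 3, 5, 0, 5, 0, 1, 2, 1, 2, 0, 1],
  [118, 1, 0, 1, 2, 1, 4, 1, 4, 1, 2, 0, 1],
  [123, 1, 0, 1, 4, 0, 1, 5, 3, 5, 0, 5, 0, 1, 2, 0, 1]]

/-- the orbit of the fourth base point under the stabiliser of the earlier ones -/
def lvl4 : List (List Nat) := [[0],
  [4, 5, 3, 5, 0, 5, 1],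
  [19, 1, 0, 4, 1, 2, 1, 2, 1, 0, 1, 5, 3, 5, 0, 5, 0, 1, 4, 1, 2, 1, 2, 4, 1, 2, 1, 0, 1, 5, 3, 5, 0, 5, 0, 1, 4, 1, 2, 0, 1],
  [22, 1, 0, 4, 1, 2, 1, 2, 1, 0, 1, 5, 3, 5, 0, 5, 0, 1, 4, 1, 2, 1, 2, 4, 1, 2, 1, 0, 1, 5, 3, 5, 0, 5, 0, 1, 4, 1, 2, 4, 1, 2, 1, 2, 1, 0, 1, 5, 3, 5, 0, 5, 0, 1, 4, 1, 2, 1, 2, 0, 1, 5, 3, 5, 0, 5, 1],
  [26, 1, 0, 4, 1, 2, 1, 2, 1, 0, 1, 5, 3, 5, 0, 5, 0, 1, 4, 1, 2, 1, 2, 0, 1],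
  [34, 1, 0, 4, 1, 2, 1, 2, 1, 0, 1, 5, 3, 5, 0, 5, 0, 1, 4, 1, 2, 1, 2, 0, 1, 5, 3, 5, 0, 5, 0, 4, 1, 2, 1, 2, 1, 0, 1, 5, 3, 5, 0, 5, 0, 1, 4, 1, 2, 1, 2, 0, 1],
  [37, 1, 0, 4, 1, 2, 1, 0, 1, 5, 3, 5, 0, 5, 0, 1, 4, 1, 2, 0, 1],
  [40, 1, 0, 4, 1, 2, 1, 2, 1, 0, 1, 5, 3, 5, 0, 5, 0, 1, 4, 1, 2, 1, 2, 4, 1, 2, 1, 2, 1, 0, 1, 5, 3, 5, 0, 5, 0, 1, 4, 1, 2, 1, 2, 0, 1],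
  [65, 1, 0, 4, 1, 2, 1, 2, 1, 0, 1, 5, 3, 5, 0, 5, 0, 1, 4, 1, 2, 1, 2, 4, 1, 2, 1, 2, 1, 0, 1, 5, 3, 5, 0, 5, 0, 1, 4, 1, 2, 1, 2, 0, 1, 5, 3, 5, 0, 5, 1],
  [74, 1, 0, 4, 1, 2, 1, 0, 1, 5, 3, 5, 0, 5, 0, 1, 4, 1, 2, 4, 1, 2, 1, 2, 1, 0, 1, 5, 3, 5, 0, 5, 0, 1, 4, 1, 2, 1, 2, 0, 1, 5, 3, 5, 0, 5, 1],
  [81, 1, 0, 4, 1, 2, 1, 0, 1, 5, 3, 5, 0, 5, 0, 1, 4, 1, 2, 4, 1, 2, 1, 0, 1, 5, 3, 5, 0, 5, 0, 1, 4, 1, 2, 0, 1],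
  [103, 1, 0, 4, 1, 2, 1, 2, 1, 0, 1, 5, 3, 5, 0, 5, 0, 1, 4, 1, 2, 1, 2, 4, 1, 2, 1, 0, 1, 5, 3, 5, 0, 5, 0, 1, 4, 1, 2, 4, 1, 2, 1, 2, 1, 0, 1, 5, 3, 5, 0, 5, 0, 1, 4, 1, 2, 1, 2, 0, 1],
  [104, 1, 0, 4, 1, 2, 1, 0, 1, 5, 3, 5, 0, 5, 0, 1, 4, 1, 2, 4, 1, 2, 1, 2, 1, 0, 1, 5, 3, 5, 0, 5, 0, 1, 4, 1, 2, 1, 2, 0, 1],
  [105, 1, 0, 4, 1, 2, 1, 0, 1, 5, 3, 5, 0, 5, 0, 1, 4, 1, 2, 0, 1, 5, 3, 5, 0, 5, 1],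
  [113, 1, 0, 4, 1, 2, 1, 2, 1, 0, 1, 5, 3, 5, 0, 5, 0, 1, 4, 1, 2, 1, 2, 0, 1, 5, 3, 5, 0, 5, 1],
  [114, 5, 3, 5, 0, 5, 0, 4, 1, 2, 1, 2, 1, 0, 1, 5, 3, 5, 0, 5, 0, 1, 4, 1, 2, 1, 2, 0, 1],
  [122, 1, 0, 4, 1, 2, 1, 2, 1, 0, 1, 5, 3, 5, 0, 5, 0, 1, 4, 1, 2, 1, 2, 4, 1, 2, 1, 2, 1, 0, 1, 5, 3, 5, 0, 5, 0, 1, 4, 1, 2, 1, 2, 4, 1, 2, 1, 0, 1, 5, 3, 5, 0, 5, 0, 1, 4, 1, 2, 0, 1],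
  [124, 5, 3, 5, 0, 5, 0, 4, 1, 2, 1, 0, 1, 5, 3, 5, 0, 5, 0, 1, 4, 1, 2, 0, 1]]

end Cfsg.Agent.Lib.Helper7.U43MB
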