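import Cfsg.Agent.Lib.Helper7.U43MLU
import Cfsg.Agent.Lib.Helper7.MGenF
import Cfsg.Agent.Lib.Helper7.MGenH

/-!
# The multiplier of the unitary group of degree four over the field of nine elements, the table over L: the kernel of every finite stem extension of the presented unitary group is an image of the product of
cyclic groups of orders four, three and three

In a finite stem extension the derived subgroup of the preimage of `L` is a copy of `L`, since `L` is perfect and has
no proper stem extensions; the first four letters are lifted into this copy, so that all the words in these letters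
that are trivial in the group are trivial in the extension.  The lift of the fifth letter is chosen so that one more
given word is trivial; this is possible since the kernel has order prime to seven, the Sylow subgroups for this
prime being cyclic.  The checked table over the copy of `L` shows that the kernel is generated by the values of the
other given words; the traced words give relations between them, which make the kernel a group generated by three
elements of orders dividing four, three and three.
-/

set_option autoImplicit false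
set_option maxRecDepth 100000

namespace Cfsg.Agent.Lib.Helper7.U43MT

open Cfsg Cfsg.Spor Cfsg.Agent.Lib.Helper7.MG Cfsg.Agent.Lib.Helper7.HSMult Cfsg.Agent.Lib.Helper7.U43MB
open Cfsg.Agent.Lib.Helper7.M12Mult Cfsg.Agent.Lib.Helper6.U43Sub
open scoped IsMulCommutative

/-! ### the data of the certificate -/

/-- the words that define the central elements -/
def axI : ℕ → ℕ
  | 0 => 3
  | 1 => 4
  | 2 => 75
  | 3 => 7
  | 4 => 13
  | 5 => 97
  | 6 => 6
  | 7 => 34
  | 8 => 99
  | 9 => 98
  | _ => 0

theorem axI_lt : ∀ j, axI j < 100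
  | 0 => by decide
  | 1 => by decide
  | 2 => by decide
  | 3 => by decide
  | 4 => by decide
  | 5 => by decide
  | 6 => by decide
  | 7 => by decide
  | 8 => by decide
  | 9 => by decide
  | _ + 10 => by
    show (0 : ℕ) < 100
    decide

/-- the word of which a power is the trivial word that is not a word in the first four letters -/
def yW : List ℕ := [4, 2, 2]

theorem chk_wT : ∀ i, i < 100 → cert.wT i = 0 →
    (((cert.W i).all fun x => Nat.blt x 4) = true ∧
      ∀ l, l < 10 → ((fld (cert.rhs i) l : ℤ) - ((cert.W i).length : ℤ) * (cert.B : ℤ)) = 0) ∨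
    i = 2 ∨ ∃ j, j < 10 ∧ i = axI j := by decide +kernel

theorem chk_W3 : cert.W 2 = wpow 7 yW := by decide +kernel

theorem chk_yW : expsumL 4 5 (wpow 7 yW) = 7 := by decide

theorem chk_len : ∀ i, i < 100 → (cert.W i).length ≤ 255 := by decide +kernel

theorem chk_ax : ∀ j, j < 10 → ∀ l, l < 10 →
    ((fld (cert.rhs (axI j)) l : ℤ) - ((cert.W (axI j)).length : ℤ) * (cert.B : ℤ)) = if l = j then 1 else 0 := by
  decide +kernel

theorem chk_ex : ∀ l, l < 10 →
    ((fld (cert.rhs 2) l : ℤ) - ((cert.W 2).length : ℤ) * (cert.B : ℤ)) = 0 := by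
  decide +kernel

/-- the relations between the central elements that the traced words give -/
def relL : List (List ℤ) := [[(-4), (-1), 6, (-4), (-13), 0, 2, 4, (-1), (-2)],
    [30, (-3), (-3), (-2), (-7), 8, 2, (-5), (-2), 7],
    [10, 2, 2, (-2), 2, (-2), (-2), (-6), 0, 6],
    [21, 2, (-1), 3, (-10), (-1), (-9), 3, (-11), 5],
    [(-26), 0, 12, 0, (-12), (-10), 2, 0, 8, (-4)],
    [(-5), 0, 2, 3, 0, (-4), 0, (-4), 4, (-7)],
    [3, 0, 0, 0, (-3), 0, 0, 0, 0, 0],
    [(-10), 3, 6, 2, 1, (-11), (-2), (-4), (-5), 7],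
    [(-1), 4, 2, 12, 9, (-5), (-3), (-16), (-10), 10],
    [13, (-2), (-10), 7, 37, (-10), (-3), (-14), (-4), 15],
    [1, (-16), 10, 0, (-23), (-12), 10, 5, (-11), (-7)]]

/-- the exponents of the first generator of the kernel -/
def c1L : List ℤ := [0, 1, 0, 0, 0, 0, 0, 0, 0, 0]

/-- the exponents of the second generator of the kernel -/
def c2L : List ℤ := [0, (-1), 0, 0, 0, 0, 0, 0, 1, 0]

/-- the exponents of the third generator of the kernel -/
def c3L : List ℤ := [0, 0, 0, 0, 0, 1, 0, 0, 0, 0]

/-- the exponents of the generators of the kernel -/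
def cLL : List (List ℤ) := [c1L, c2L, c3L]

/-- the orders of the generators of the kernel -/
def nL : List ℤ := [4, 3, 3]

/-- the central elements as products of powers of the generators -/
def mLL : List (List ℤ) := [[2, 2, 2],
    [1, 0, 0],
    [2, 1, 1],
    [2, 1, 1],
    [2, 0, 0],
    [0, 0, 1],
    [2, 1, 0],
    [3, 2, 2],
    [1, 1, 0],
    [0, 0, 1]]

/-- the combinations of the relations that express the central elements by the generators -/
def lamL : List (List ℤ) := [[(-2624954752475085066894633048), 2240550643372134308882675897, (-1334673610875297482240530478), 202546075994743524522796513, (-184780664150433659471910593), 1404015104417363230080447278, (-8756876533238844725624036127), 2861708247865036634440076141, (-1039068027636440561363227134), (-966049807176539058660771343), 0],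
    [0, 0, 0, 0, 0, 0, 0, 0, 0, 0, 0],
    [713751485544621164005190474, (-609228158556609805336716041), 362911121260742238107306207, (-55074306517538379990772758), 50243713120363802152311943, (-381765767794693091293387221), 2381082427587247366307717338, (-778127131975526058080941400), 282533002752956298945888607, 262678617348431494889377383, 1],
    [689039021452618977156155482, (-588134641699438070065393474), 350345924221746134690446473, (-53167449789712343044246280), 48504107695390957887584846, (-368547759819573864716072453), 2298641388677257409184399945, (-751185767652781430541060139), 272750765059944180221363354, 253583804895597622797349166, 0],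
    [1370624543834624208862952690, (-1169907291016991934257714447), 696902073206851826177134618, (-105759774622409789460411503), 96483534914970277840401575, (-733108850815224142507198624), 4572417826429005653820959462, (-1494245780091794774196815035), 542551120185778009882728464, 504424533426481692142052855, (-4)],
    [0, 0, 0, 0, 0, 0, 0, 0, 0, 0, 0],
    [684903987659585401257310509, (-584605151289513439427028680), 348243442082411855454713644, (-52848383387483925680737298), 48213026757770688085811154, (-366336045542510162714328237), 2284846872656658299781165654, (-746677781258133225193486472), 271113943928651857661051564, 252062007769509265817737535, 0],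
    [684904936573942388942920242, (-584605961242778747756969428), 348243924563471789148336097, (-52848456607366775739587600), 48213093555503083562790740, (-366336553090340750261196591), 2284850038244886791640586378, (-746678815758266741297654123), 271114319549057649952624835, 252062356994017128531511015, (-1)],
    [0, 0, 0, 0, 0, 0, 0, 0, 0, 0, 0],
    [474481550865233404437, (-404997435882238986780), 241252922241760812467, (-36611822039612666182), 33400581862729754729, (-253786951395645516338), 1582875420732027606996, (-517276637355569143563), 187819850510774486214, 174621223581085181320, 0]]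

/-- the combinations of the relations that give the powers of the generators -/
def muL : List (List ℤ) := [[(-2739615950443367106837199946), 2338420604991631751022692626, (-1392973768230511496795689019), 211393533534891131196294960, (-192852107017357747280070665), 1465344182065754228327665400, (-9139387489976196232091982660), 2986711124819972996999067542, (-1084455775637428284190430230), (-1008248031006281511597092282), 12],
    [2054711962832525330169756905, (-1753815453743723813302746811), 1044730326172883622618049192, (-158545150151168348400450977), 144639080263018310462999474, (-1099008136549315671268137180), 6854540617482147174208622266, (-2240033343614979747794932843), 813341831728071213159391428, 756186023254711133713223629, (-6)],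
    [(-1423444652595699536642), 1214992307646716382763, (-723758766725282093344), 109835466118837946333, (-100201745588189216552), 761360854186936187079, (-4748626262196080563607), 1551829912066706692987, (-563459551532323190787), (-523863670743255294928), 0]]

theorem chk_rel_0 : ∀ l, l < 10 → ((fld (cert.rhs 17) l : ℤ) - (fld 47081372905316449845579831184074146558922436587542350428164 l : ℤ)) = (relL.getD 0 []).getD l 0 := by
  decide +kernel

theorem chk_rel_1 : ∀ l, l < 10 → ((fld (cert.rhs 31) l : ℤ) - (fld 50206134307761719161069427786398683707942888932183708303331 l : ℤ)) = (relL.getD 1 []).getD l 0 := by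
  decide +kernel

theorem chk_rel_2 : ∀ l, l < 10 → ((fld (cert.rhs 62) l : ℤ) - (fld 56484774522082679436497361417903845564114403071251686920183 l : ℤ)) = (relL.getD 2 []).getD l 0 := by
  decide +kernel

theorem chk_rel_3 : ∀ l, l < 10 → ((fld (cert.rhs 59) l : ℤ) - (fld 56486307033700050791837111514394655153194678489296427585514 l : ℤ)) = (relL.getD 3 []).getD l 0 := by
  decide +kernel

theorem chk_rel_4 : ∀ l, l < 10 → ((fld (cert.rhs 85) l : ℤ) - (fld 78465379005137560314465488157886468988681712130035393021975 l : ℤ)) = (relL.getD 4 []).getD l 0 := by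
  decide +kernel

theorem chk_rel_5 : ∀ l, l < 10 → ((fld (cert.rhs 12) l : ℤ) - (fld 43950481514861734119878950638530086101107886752465505251332 l : ℤ)) = (relL.getD 5 []).getD l 0 := by
  decide +kernel

theorem chk_rel_6 : ∀ l, l < 10 → ((fld (cert.rhs 54) l : ℤ) - (fld 56493969495327866406865403592556204355746289078070939783165 l : ℤ)) = (relL.getD 6 []).getD l 0 := by
  decide +kernel

theorem chk_rel_7 : ∀ l, l < 10 → ((fld (cert.rhs 80) l : ℤ) - (fld 87879508100920311018235904870458878240208834355098163404838 l : ℤ)) = (relL.getD 7 []).getD l 0 := by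
  decide +kernel

theorem chk_rel_8 : ∀ l, l < 10 → ((fld (cert.rhs 33) l : ℤ) - (fld 53340090693682698058625290881239384327929124178286364100609 l : ℤ)) = (relL.getD 8 []).getD l 0 := by
  decide +kernel

theorem chk_rel_9 : ∀ l, l < 10 → ((fld (cert.rhs 74) l : ℤ) - (fld 43916766624654711601610697894799150123477705663247896571891 l : ℤ)) = (relL.getD 9 []).getD l 0 := by
  decide +kernel

theorem chk_rel_10 : ∀ l, l < 10 → ((fld (cert.rhs 91) l : ℤ) - (fld 94153550850541216306383854918397945402311966040976966873087 l : ℤ)) = (relL.getD 10 []).getD l 0 := by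
  decide +kernel

theorem chk_lam : ∀ j, j < 10 → ∀ l, l < 10 →
    ((7 : ℕ) : ℤ) * ((if l = j then 1 else 0) - dotL (mLL.getD j []) cLL l) = dotL (lamL.getD j []) relL l := by
  decide +kernel

theorem chk_mu : ∀ t, t < cLL.length → ∀ l, l < 10 →
    ((7 : ℕ) : ℤ) * (nL.getD t 0 * (cLL.getD t []).getD l 0) = dotL (muL.getD t []) relL l := by
  decide +kernel

section upper

universe u

variable {Γ : Type u} [Group Γ] [Finite Γ] (σ : Γ →* Q6) (hsurj : Function.Surjective σ)
  (hcen : σ.ker ≤ Subgroup.center Γ) (hder : σ.ker ≤ commutator Γ)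

include hsurj hcen hder in
theorem not_dvd_card_ker : ¬ 7 ∣ Nat.card σ.ker := by
  have hperf := perfect_of_stem σ hsurj hcen hder Q6_perfect
  have : Fact (Nat.Prime 7) := ⟨by norm_num⟩
  exact Cfsg.Agent.S0102.result Q6_perfect
    (fun P => isCyclic_sylow_of_card_eq 7 466560 (by rw [card_Q6]) (by norm_num) P) σ hsurj hcen hperf

/-! ### the letters in the extension -/

/-- the letters in the extension -/
def gU (a c t : Γ) : ℕ → Γ
  | 0 => a
  | 1 => a⁻¹
  | 2 => c
  | 3 => c⁻¹
  | 4 => t
  | 5 => t⁻¹
  | _ => 1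

omit [Finite Γ] in
theorem map_gU (a c t : Γ) (ha : σ a = lK 0) (hc : σ c = lK 2) (ht : σ t = lK 4) : ∀ x, σ (gU a c t x) = lK x
  | 0 => ha
  | 1 => by
    show σ a⁻¹ = lK 1
    rw [map_inv, ha]
    exact (lK_iv (x := 0) (by norm_num)).symm
  | 2 => hc
  | 3 => by
    show σ c⁻¹ = lK 3
    rw [map_inv, hc]
    exact (lK_iv (x := 2) (by norm_num)).symm
  | 4 => ht
  | 5 => by
    show σ t⁻¹ = lK 5
    rw [map_inv, ht]
    exact (lK_iv (x := 4) (by norm_num)).symm
  | x + 6 => by
    show σ 1 = lK (x + 6)
    rw [map_one, lK_of_ge (by omega)]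

omit [Finite Γ] in
theorem map_wd_gU (a c t : Γ) (ha : σ a = lK 0) (hc : σ c = lK 2) (ht : σ t = lK 4) :
    ∀ w : List ℕ, σ (VCert.wd (gU a c t) w) = VCert.wd lK w
  | [] => map_one σ
  | x :: w => by
    rw [VCert.wd_cons, VCert.wd_cons, map_mul, map_gU σ a c t ha hc ht x, map_wd_gU a c t ha hc ht w]

include hsurj hcen hder in
/-- **lifts of the generators: the first two in the copy of `L`, the third such that the given word is trivial** -/
theorem exists_lifts : ∃ a c t : Γ, a ∈ Mt σ L ∧ c ∈ Mt σ L ∧ σ a = lK 0 ∧ σ c = lK 2 ∧ σ t = lK 4 ∧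
    VCert.wd (gU a c t) (wpow 7 yW) = 1 := by
  have hnd := not_dvd_card_ker σ hsurj hcen hder
  have cop : (Nat.card ↥σ.ker).Coprime 7 :=
    ((Nat.Prime.coprime_iff_not_dvd (by norm_num)).2 hnd).symm
  obtain ⟨a, haM, ha⟩ := exists_mem_Mt (σ := σ) hsurj L L_perfect (lK 0) (lK_mem_L (by norm_num))
  obtain ⟨c, hcM, hc⟩ := exists_mem_Mt (σ := σ) hsurj L L_perfect (lK 2) (lK_mem_L (by norm_num))
  obtain ⟨t0, ht0⟩ := hsurj (lK 4)
  have hk2 : VCert.wd (gU a c t0) (wpow 7 yW) ∈ σ.ker := by
    rw [MonoidHom.mem_ker, map_wd_gU σ a c t0 ha hc ht0, ← chk_W3]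
    exact wd_lK_W (by norm_num)
  obtain ⟨w, hw, hwr⟩ := exists_root σ.ker 7 cop _ (Subgroup.inv_mem _ hk2)
  have hwc : ∀ x : Γ, w⁻¹ * x = x * w⁻¹ := fun x =>
    (Subgroup.mem_center_iff.1 (Subgroup.inv_mem _ (hcen hw)) x).symm
  refine ⟨a, c, t0 * w, haM, hcM, ha, hc, ?_, ?_⟩
  · rw [map_mul, MonoidHom.mem_ker.1 hw, mul_one, ht0]
  · rw [wd_central_mul_at 4 5 (by norm_num) (gU a c t0) (gU a c (t0 * w)) w (hcen hw) rfl (by
        show (t0 * w)⁻¹ = t0⁻¹ * w⁻¹
        rw [mul_inv_rev, hwc]) (by
        intro x h0 h1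
        match x, h0, h1 with
        | 0, _, _ => rfl
        | 1, _, _ => rfl
        | 2, _, _ => rfl
        | 3, _, _ => rfl
        | 4, h0, _ => exact absurd rfl h0
        | 5, _, h1 => exact absurd rfl h1
        | _ + 6, _, _ => rfl), chk_yW]
    show _ * w ^ ((7 : ℕ) : ℤ) = 1
    rw [zpow_natCast, hwr, mul_inv_cancel]

variable (a c t : Γ) (haM : a ∈ Mt σ L) (hcM : c ∈ Mt σ L) (ha : σ a = lK 0) (hc : σ c = lK 2) (ht : σ t = lK 4)
  (hy : VCert.wd (gU a c t) (wpow 7 yW) = 1)

include ha hc ht in
omit [Finite Γ] in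
theorem wd_gU_mem_ker {i : ℕ} (hi : i < 100) : VCert.wd (gU a c t) (cert.W i) ∈ σ.ker := by
  rw [MonoidHom.mem_ker, map_wd_gU σ a c t ha hc ht, wd_lK_W hi]

omit [Finite Γ] in
theorem gU_iv : ∀ x, x < 6 → gU a c t (Nat.xor x 1) = (gU a c t x)⁻¹
  | 0, _ => rfl
  | 1, _ => (inv_inv a).symm
  | 2, _ => rfl
  | 3, _ => (inv_inv c).symm
  | 4, _ => rfl
  | 5, _ => (inv_inv t).symm
  | x + 6, h => absurd h (by omega)

include haM hcM in
omit [Finite Γ] in
theorem gU_mem_Mt : ∀ x, x < 4 → gU a c t x ∈ Mt σ L
  | 0, _ => haM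
  | 1, _ => Subgroup.inv_mem _ haM
  | 2, _ => hcM
  | 3, _ => Subgroup.inv_mem _ hcM
  | x + 4, h => absurd h (by omega)

/-- the central elements: the values of the given words -/
noncomputable def zU (j : ℕ) : Subgroup.center Γ :=
  ⟨VCert.wd (gU a c t) (cert.W (axI j)), hcen (wd_gU_mem_ker σ a c t ha hc ht (axI_lt j))⟩

include hsurj haM hcM hy in
theorem hW0_U : ∀ i, i < cert.nW → cert.wT i = 0 →
    VCert.wd (gU a c t) (cert.W i) = (cert.ek (zU σ hcen a c t ha hc ht) i : Γ) := by
  intro i hi hT
  rcases chk_wT i hi hT with ⟨h4, h0⟩ | rfl | ⟨j, hj, rfl⟩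
  · rw [VCert.ek, cert.kap_one _ h0]
    have hl : ∀ x ∈ (cert.W i).map (gU a c t), x ∈ Mt σ L := by
      intro x hx
      obtain ⟨y, hy', rfl⟩ := List.mem_map.1 hx
      exact gU_mem_Mt σ a c t haM hcM y (by simpa [Nat.blt] using List.all_eq_true.1 h4 y hy')
    have h1 : (((cert.W i).map (gU a c t)).map σ).prod = 1 := by
      rw [← map_list_prod]
      have := map_wd_gU σ a c t ha hc ht (cert.W i)
      rw [VCert.wd] at this
      rw [this]
      exact wd_lK_W hi
    exact prod_eq_one_of_Mt hsurj hcen L L_perfect U43ML.MF_L _ hl h1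
  · rw [VCert.ek, cert.kap_one _ chk_ex, chk_W3]
    exact hy
  · rw [VCert.ek, cert.kap_unit _ hj (chk_ax j hj)]
    rfl

include hcen hder ha hc ht in
omit [Finite Γ] in
theorem hgen_U : ∀ y : Γ, ∃ u : List ℕ, (∀ x ∈ u, x < cert.g) ∧ y = (u.map (gU a c t)).prod := by
  apply MG.exists_word_of_closure (gU a c t) 6 (fun x => Nat.xor x 1)
  · intro x hx
    refine ⟨?_, gU_iv a c t x hx⟩
    have : x = 0 ∨ x = 1 ∨ x = 2 ∨ x = 3 ∨ x = 4 ∨ x = 5 := by omega
    rcases this with rfl | rfl | rfl | rfl | rfl | rfl <;> decide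
  · apply Cfsg.Agent.Lib.Helper7.M12Mult.closure_eq_top_of_stem (σ := σ) hcen hder
    intro g
    have hg : g ∈ Subgroup.closure (lK '' Set.Iio 6) := by rw [closure_lK]; exact Subgroup.mem_top g
    induction hg using Subgroup.closure_induction with
    | mem y hy =>
      obtain ⟨x, hx, rfl⟩ := hy
      exact ⟨gU a c t x, Subgroup.subset_closure ⟨x, hx, rfl⟩, map_gU σ a c t ha hc ht x⟩
    | one => exact ⟨1, one_mem _, map_one σ⟩
    | mul p q _ _ ihp ihq =>
      obtain ⟨p', hp', rfl⟩ := ihp
      obtain ⟨q', hq', rfl⟩ := ihq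
      exact ⟨p' * q', mul_mem hp' hq', map_mul σ p' q'⟩
    | inv p _ ihp =>
      obtain ⟨p', hp', rfl⟩ := ihp
      exact ⟨p'⁻¹, inv_mem hp', map_inv σ p'⟩

include hsurj hcen in
theorem hHK_U : ∀ u, u ∈ Mt σ L → u ∈ σ.ker → u = 1 := fun _ hu hk =>
  eq_one_of_mem_Mt hsurj hcen L L_perfect U43ML.MF_L hu (MonoidHom.mem_ker.1 hk)

include haM hcM in
omit [Finite Γ] in
theorem hsub_U : ∀ x, cert.sub x = true → gU a c t x ∈ Mt σ L := fun x hx =>
  gU_mem_Mt σ a c t haM hcM x (lt_four_of_sub hx)

include hsurj hder haM hcM hy in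
/-- **the kernel is generated by the central elements** -/
theorem ker_eq_Zc_U : σ.ker = Zc (zU σ hcen a c t ha hc ht) 10 := by
  refine ker_eq_Zc_of_sub σ cert (gU a c t) (zU σ hcen a c t ha hc ht) (Mt σ L) 6048 hsurj
    (by rw [card_Q6]; rfl) (by decide) (by norm_num) (hHK_U σ hsurj hcen) ?_
    (hsub_U σ a c t haM hcM) ?_ (hgen_U σ hcen hder a c t ha hc ht) (by decide) (by decide) (gU_iv a c t) ?_
    (hW0_U σ hsurj hcen a c t haM hcM ha hc ht hy) cert_all cert_wall
  · rw [← card_L]
    exact card_Mt_le hsurj hcen L L_perfect U43ML.MF_L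
  · intro j _
    exact wd_gU_mem_ker σ a c t ha hc ht (axI_lt j)
  · intro i hi
    exact wd_gU_mem_ker σ a c t ha hc ht hi

include hsurj haM hcM hy in
/-- the relations between the central elements -/
theorem rel_U : ∀ r ∈ relL, zprod (zU σ hcen a c t ha hc ht) 10 (fun l => r.getD l 0) = 1 := by
  have hKn : ∀ u, u ∈ σ.ker → ∀ g : Γ, g * u * g⁻¹ ∈ σ.ker := fun u hu g =>
    (inferInstance : σ.ker.Normal).conj_mem u hu g
  have key : ∀ {i v row : ℕ}, i < 100 → cert.scan 4095 (cert.W i) row 0 = some (row, v) →
      cert.ek (zU σ hcen a c t ha hc ht) i = cert.kap (zU σ hcen a c t ha hc ht) v (cert.W i).length := by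
    intro i v row hi h
    exact cert.close_spec (γ := gU a c t) (H := Mt σ L) σ.ker hKn
      (fun j _ => wd_gU_mem_ker σ a c t ha hc ht (axI_lt j)) (hHK_U σ hsurj hcen) (by decide) (by decide)
      (gU_iv a c t) (hsub_U σ a c t haM hcM)
      (fun i hi => wd_gU_mem_ker σ a c t ha hc ht hi) (hW0_U σ hsurj hcen a c t haM hcM ha hc ht hy)
      cert_all cert_wall hi (chk_len i hi) h
  intro r hr
  simp only [relL, List.mem_cons, List.not_mem_nil, or_false] at hr
  rcases hr with rfl | rfl | rfl | rfl | rfl | rfl | rfl | rfl | rfl | rfl | rfl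
  · exact cert.rel_of_close _ (key (by norm_num) close_0) _ chk_rel_0
  · exact cert.rel_of_close _ (key (by norm_num) close_1) _ chk_rel_1
  · exact cert.rel_of_close _ (key (by norm_num) close_2) _ chk_rel_2
  · exact cert.rel_of_close _ (key (by norm_num) close_3) _ chk_rel_3
  · exact cert.rel_of_close _ (key (by norm_num) close_4) _ chk_rel_4
  · exact cert.rel_of_close _ (key (by norm_num) close_5) _ chk_rel_5
  · exact cert.rel_of_close _ (key (by norm_num) close_6) _ chk_rel_6
  · exact cert.rel_of_close _ (key (by norm_num) close_7) _ chk_rel_7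
  · exact cert.rel_of_close _ (key (by norm_num) close_8) _ chk_rel_8
  · exact cert.rel_of_close _ (key (by norm_num) close_9) _ chk_rel_9
  · exact cert.rel_of_close _ (key (by norm_num) close_10) _ chk_rel_10

include hsurj hcen hder haM hcM ha hc ht hy in
/-- **the kernel is an image of the product of cyclic groups of orders four, three and three** -/
theorem exists_surj_U :
    ∃ π : Multiplicative (ZMod 4 × ZMod 3 × ZMod 3) →* ↥σ.ker, Function.Surjective π := by
  have hnd := not_dvd_card_ker σ hsurj hcen hder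
  have copq : (Nat.card ↥σ.ker).Coprime 7 :=
    ((Nat.Prime.coprime_iff_not_dvd (by norm_num)).2 hnd).symm
  have hK := ker_eq_Zc_U σ hsurj hcen hder a c t haM hcM ha hc ht hy
  set S : Subgroup (Subgroup.center Γ) := σ.ker.comap (Subgroup.center Γ).subtype with hS
  have hzS : ∀ j, j < 10 → zU σ hcen a c t ha hc ht j ∈ S :=
    fun j _ => wd_gU_mem_ker σ a c t ha hc ht (axI_lt j)
  have hq : ∀ u, u ∈ S → u ^ 7 = 1 → u = 1 := by
    intro u hu huq
    have h1 : (⟨(u : Γ), hu⟩ : ↥σ.ker) ^ 7 = 1 := by
      apply Subtype.ext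
      rw [Subgroup.coe_pow, Subgroup.coe_one]
      show (u : Γ) ^ 7 = 1
      rw [← Subgroup.coe_pow, huq, Subgroup.coe_one]
    have h2 := eq_one_of_pow_of_coprime 7 copq _ h1
    apply Subtype.ext
    have h3 : ((⟨(u : Γ), hu⟩ : ↥σ.ker) : Γ) = ((1 : ↥σ.ker) : Γ) := congrArg Subtype.val h2
    exact h3
  obtain ⟨hz, hN⟩ := abelian_of_relations_q (zU σ hcen a c t ha hc ht) 10 relL
    (rel_U σ hsurj hcen a c t haM hcM ha hc ht hy) S hzS 7 hq cLL mLL nL lamL muL chk_lam chk_mu
  set g1 := zprod (zU σ hcen a c t ha hc ht) 10 (fun l => c1L.getD l 0) with hg1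
  set g2 := zprod (zU σ hcen a c t ha hc ht) 10 (fun l => c2L.getD l 0) with hg2
  set g3 := zprod (zU σ hcen a c t ha hc ht) 10 (fun l => c3L.getD l 0) with hg3
  have o1 : g1 ^ (4 : ℤ) = 1 := hN 0 (by decide)
  have o2 : g2 ^ (3 : ℤ) = 1 := hN 1 (by decide)
  have o3 : g3 ^ (3 : ℤ) = 1 := hN 2 (by decide)
  have hzc : ∀ j, j < 10 →
      zU σ hcen a c t ha hc ht j ∈ Subgroup.closure ({g1, g2, g3} : Set (Subgroup.center Γ)) := by
    intro j hj
    rw [hz j hj]
    apply gprod_mem
    intro c' hc'
    simp only [cLL, List.mem_cons, List.not_mem_nil, or_false] at hc'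
    rcases hc' with rfl | rfl | rfl
    · exact Subgroup.subset_closure (Set.mem_insert _ _)
    · exact Subgroup.subset_closure (Set.mem_insert_of_mem _ (Set.mem_insert _ _))
    · exact Subgroup.subset_closure (Set.mem_insert_of_mem _ (Set.mem_insert_of_mem _ rfl))
  have hsub : Zc (zU σ hcen a c t ha hc ht) 10 ≤
      (Subgroup.closure ({g1, g2, g3} : Set (Subgroup.center Γ))).map (Subgroup.center Γ).subtype := by
    rw [Zc, Subgroup.closure_le]
    rintro _ ⟨j, hj, rfl⟩
    exact ⟨zU σ hcen a c t ha hc ht j, hzc j hj, rfl⟩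
  have hle : ∀ y ∈ σ.ker, ∃ i j l : ℤ, y = (g1 : Γ) ^ i * (g2 : Γ) ^ j * (g3 : Γ) ^ l := by
    intro y hy
    rw [hK] at hy
    obtain ⟨y', hy', rfl⟩ := hsub hy
    obtain ⟨i, j, l, rfl⟩ := mem_closure_triple g1 g2 g3 y' hy'
    exact ⟨i, j, l, by simp⟩
  have hgK : ∀ g : Subgroup.center Γ, g ∈ S → (g : Γ) ∈ σ.ker := fun g hg => hg
  have m1 : g1 ∈ S := zprod_mem _ 10 S hzS _
  have m2 : g2 ∈ S := zprod_mem _ 10 S hzS _
  have m3 : g3 ∈ S := zprod_mem _ 10 S hzS _
  have hpow : ∀ (g : Subgroup.center Γ) (hg : g ∈ S) (n : ℕ), g ^ (n : ℤ) = 1 →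
      (⟨(g : Γ), hgK g hg⟩ : ↥σ.ker) ^ n = 1 := by
    intro g hg n h
    apply Subtype.ext
    rw [Subgroup.coe_pow, Subgroup.coe_one]
    show (g : Γ) ^ n = 1
    rw [zpow_natCast] at h
    rw [← Subgroup.coe_pow, h, Subgroup.coe_one]
  apply exists_surj_prod3 (⟨(g1 : Γ), hgK g1 m1⟩ : ↥σ.ker) ⟨(g2 : Γ), hgK g2 m2⟩ ⟨(g3 : Γ), hgK g3 m3⟩ 4 3 3
    (hpow g1 m1 4 o1) (hpow g2 m2 3 o2) (hpow g3 m3 3 o3)
  · intro x y
    apply Subtype.ext
    rw [Subgroup.coe_mul, Subgroup.coe_mul]
    exact Subgroup.mem_center_iff.1 (hcen y.2) x.1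
  · intro y
    obtain ⟨i, j, l, h⟩ := hle y.1 y.2
    refine ⟨i, j, l, ?_⟩
    apply Subtype.ext
    rw [Subgroup.coe_mul, Subgroup.coe_mul, Subgroup.coe_zpow, Subgroup.coe_zpow, Subgroup.coe_zpow]
    exact h

end upper

/-- **the kernel of every finite stem extension of the presented group is an image of the product of cyclic groups of
orders four, three and three** -/
theorem exists_surj_of_stem {Γ : Type*} [Group Γ] [Finite Γ] (σ : Γ →* Q6) (hsurj : Function.Surjective σ)
    (hcen : σ.ker ≤ Subgroup.center Γ) (hder : σ.ker ≤ commutator Γ) :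
    ∃ π : Multiplicative (ZMod 4 × ZMod 3 × ZMod 3) →* ↥σ.ker, Function.Surjective π := by
  obtain ⟨a, c, t, haM, hcM, ha, hc, ht, hy⟩ := exists_lifts σ hsurj hcen hder
  exact exists_surj_U σ hsurj hcen hder a c t haM hcM ha hc ht hy

end Cfsg.Agent.Lib.Helper7.U43MT
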