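import Cfsg.Agent.Lib.Helper7.U43ME
import Cfsg.Agent.Lib.Helper7.U43MEW

/-! # The multiplier of the unitary group of degree four over the field of nine elements: checks of words on the 5400
points, file 1 (generated) -/

set_option autoImplicit false
set_option maxRecDepth 100000

namespace Cfsg.Agent.Lib.Helper7.U43MM

theorem shk_ax2_0_0 : shOK cw_ax2_0 18 0 1350 = true := by decide +kernel

theorem shk_ax2_0_1 : shOK cw_ax2_0 18 1350 1350 = true := by decide +kernel

theorem shk_ax2_0_2 : shOK cw_ax2_0 18 2700 1350 = true := by decide +kernel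

theorem shk_ax2_0_3 : shOK cw_ax2_0 18 4050 1350 = true := by decide +kernel

theorem shk_ax2_1_0 : shOK cw_ax2_1 3 0 1350 = true := by decide +kernel

theorem shk_ax2_1_1 : shOK cw_ax2_1 3 1350 1350 = true := by decide +kernel

theorem shk_ax2_1_2 : shOK cw_ax2_1 3 2700 1350 = true := by decide +kernel

theorem shk_ax2_1_3 : shOK cw_ax2_1 3 4050 1350 = true := by decide +kernel

theorem shk_ax2_2_0 : shOK cw_ax2_2 34 0 1350 = true := by decide +kernel

theorem shk_ax2_2_1 : shOK cw_ax2_2 34 1350 1350 = true := by decide +kernel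

theorem shk_ax2_2_2 : shOK cw_ax2_2 34 2700 1350 = true := by decide +kernel

theorem shk_ax2_2_3 : shOK cw_ax2_2 34 4050 1350 = true := by decide +kernel

theorem shk_ax2_3_0 : shOK cw_ax2_3 34 0 1350 = true := by decide +kernel

theorem shk_ax2_3_1 : shOK cw_ax2_3 34 1350 1350 = true := by decide +kernel

theorem shk_ax2_3_2 : shOK cw_ax2_3 34 2700 1350 = true := by decide +kernel

theorem shk_ax2_3_3 : shOK cw_ax2_3 34 4050 1350 = true := by decide +kernel

theorem shk_ax2_4_0 : shOK cw_ax2_4 2 0 1350 = true := by decide +kernel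

theorem shk_ax2_4_1 : shOK cw_ax2_4 2 1350 1350 = true := by decide +kernel

theorem shk_ax2_4_2 : shOK cw_ax2_4 2 2700 1350 = true := by decide +kernel

theorem shk_ax2_4_3 : shOK cw_ax2_4 2 4050 1350 = true := by decide +kernel

theorem shk_ax2_5_0 : shOK cw_ax2_5 24 0 1350 = true := by decide +kernel

theorem shk_ax2_5_1 : shOK cw_ax2_5 24 1350 1350 = true := by decide +kernel

theorem shk_ax2_5_2 : shOK cw_ax2_5 24 2700 1350 = true := by decide +kernel

theorem shk_ax2_5_3 : shOK cw_ax2_5 24 4050 1350 = true := by decide +kernel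

end Cfsg.Agent.Lib.Helper7.U43MM
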