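import Cfsg.Agent.Lib.Helper7.U43ME
import Cfsg.Agent.Lib.Helper7.U43MEW

/-! # The multiplier of the unitary group of degree four over the field of nine elements: checks of words on the 5400
points, file 2 (generated) -/

set_option autoImplicit false
set_option maxRecDepth 100000

namespace Cfsg.Agent.Lib.Helper7.U43MM

theorem shk_ax2_6_0 : shOK cw_ax2_6 10 0 1350 = true := by decide +kernel

theorem shk_ax2_6_1 : shOK cw_ax2_6 10 1350 1350 = true := by decide +kernel

theorem shk_ax2_6_2 : shOK cw_ax2_6 10 2700 1350 = true := by decide +kernel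

theorem shk_ax2_6_3 : shOK cw_ax2_6 10 4050 1350 = true := by decide +kernel

theorem shk_ax2_7_0 : shOK cw_ax2_7 17 0 1350 = true := by decide +kernel

theorem shk_ax2_7_1 : shOK cw_ax2_7 17 1350 1350 = true := by decide +kernel

theorem shk_ax2_7_2 : shOK cw_ax2_7 17 2700 1350 = true := by decide +kernel

theorem shk_ax2_7_3 : shOK cw_ax2_7 17 4050 1350 = true := by decide +kernel

theorem shk_ax2_8_0 : shOK cw_ax2_8 11 0 1350 = true := by decide +kernel

theorem shk_ax2_8_1 : shOK cw_ax2_8 11 1350 1350 = true := by decide +kernel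

theorem shk_ax2_8_2 : shOK cw_ax2_8 11 2700 1350 = true := by decide +kernel

theorem shk_ax2_8_3 : shOK cw_ax2_8 11 4050 1350 = true := by decide +kernel

theorem shk_ax2_9_0 : shOK cw_ax2_9 24 0 1350 = true := by decide +kernel

theorem shk_ax2_9_1 : shOK cw_ax2_9 24 1350 1350 = true := by decide +kernel

theorem shk_ax2_9_2 : shOK cw_ax2_9 24 2700 1350 = true := by decide +kernel

theorem shk_ax2_9_3 : shOK cw_ax2_9 24 4050 1350 = true := by decide +kernel

end Cfsg.Agent.Lib.Helper7.U43MM
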