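import Cfsg.Agent.Lib.Helper7.U43ME
import Cfsg.Agent.Lib.Helper7.U43MEW

/-! # The multiplier of the unitary group of degree four over the field of nine elements: checks of words on the 5400
points, file 3 (generated) -/

set_option autoImplicit false
set_option maxRecDepth 100000

namespace Cfsg.Agent.Lib.Helper7.U43MM

theorem fxk_ex2_0 : fxOK cw_ex2 0 1350 = true := by decide +kernel

theorem fxk_ex2_1 : fxOK cw_ex2 1350 1350 = true := by decide +kernel

theorem fxk_ex2_2 : fxOK cw_ex2 2700 1350 = true := by decide +kernel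

theorem fxk_ex2_3 : fxOK cw_ex2 4050 1350 = true := by decide +kernel

theorem fxk_l1a_0 : fxOK cw_l1a 0 1350 = true := by decide +kernel

theorem fxk_l1a_1 : fxOK cw_l1a 1350 1350 = true := by decide +kernel

theorem fxk_l1a_2 : fxOK cw_l1a 2700 1350 = true := by decide +kernel

theorem fxk_l1a_3 : fxOK cw_l1a 4050 1350 = true := by decide +kernel

theorem fxk_l1b_0 : fxOK cw_l1b 0 1350 = true := by decide +kernel

theorem fxk_l1b_1 : fxOK cw_l1b 1350 1350 = true := by decide +kernel

theorem fxk_l1b_2 : fxOK cw_l1b 2700 1350 = true := by decide +kernel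

theorem fxk_l1b_3 : fxOK cw_l1b 4050 1350 = true := by decide +kernel

theorem fxk_ax1_0_0 : fxOK cw_ax1_0 0 1350 = true := by decide +kernel

theorem fxk_ax1_0_1 : fxOK cw_ax1_0 1350 1350 = true := by decide +kernel

theorem fxk_ax1_0_2 : fxOK cw_ax1_0 2700 1350 = true := by decide +kernel

theorem fxk_ax1_0_3 : fxOK cw_ax1_0 4050 1350 = true := by decide +kernel

theorem fxk_ax1_1_0 : fxOK cw_ax1_1 0 1350 = true := by decide +kernel

theorem fxk_ax1_1_1 : fxOK cw_ax1_1 1350 1350 = true := by decide +kernel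

theorem fxk_ax1_1_2 : fxOK cw_ax1_1 2700 1350 = true := by decide +kernel

theorem fxk_ax1_1_3 : fxOK cw_ax1_1 4050 1350 = true := by decide +kernel

theorem fxk_ax1_2_0 : fxOK cw_ax1_2 0 1350 = true := by decide +kernel

theorem fxk_ax1_2_1 : fxOK cw_ax1_2 1350 1350 = true := by decide +kernel

theorem fxk_ax1_2_2 : fxOK cw_ax1_2 2700 1350 = true := by decide +kernel

theorem fxk_ax1_2_3 : fxOK cw_ax1_2 4050 1350 = true := by decide +kernel

theorem fxk_ax1_3_0 : fxOK cw_ax1_3 0 1350 = true := by decide +kernel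

theorem fxk_ax1_3_1 : fxOK cw_ax1_3 1350 1350 = true := by decide +kernel

theorem fxk_ax1_3_2 : fxOK cw_ax1_3 2700 1350 = true := by decide +kernel

theorem fxk_ax1_3_3 : fxOK cw_ax1_3 4050 1350 = true := by decide +kernel

theorem fxk_ax1_4_0 : fxOK cw_ax1_4 0 1350 = true := by decide +kernel

theorem fxk_ax1_4_1 : fxOK cw_ax1_4 1350 1350 = true := by decide +kernel

theorem fxk_ax1_4_2 : fxOK cw_ax1_4 2700 1350 = true := by decide +kernel

theorem fxk_ax1_4_3 : fxOK cw_ax1_4 4050 1350 = true := by decide +kernel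

end Cfsg.Agent.Lib.Helper7.U43MM
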