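import Cfsg.Agent.Lib.Helper7.U43ME
import Cfsg.Agent.Lib.Helper7.U43MEW

/-! # The multiplier of the unitary group of degree four over the field of nine elements: checks of words on the 5400
points, file 0 (generated) -/

set_option autoImplicit false
set_option maxRecDepth 100000

namespace Cfsg.Agent.Lib.Helper7.U43MM

theorem cnk_0_2_0 : cenOK 0 2 0 2700 = true := by decide +kernel

theorem cnk_0_2_1 : cenOK 0 2 2700 2700 = true := by decide +kernel

theorem cnk_1_2_0 : cenOK 1 2 0 2700 = true := by decide +kernel

theorem cnk_1_2_1 : cenOK 1 2 2700 2700 = true := by decide +kernel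

theorem cnk_2_2_0 : cenOK 2 2 0 2700 = true := by decide +kernel

theorem cnk_2_2_1 : cenOK 2 2 2700 2700 = true := by decide +kernel

theorem cnk_3_2_0 : cenOK 3 2 0 2700 = true := by decide +kernel

theorem cnk_3_2_1 : cenOK 3 2 2700 2700 = true := by decide +kernel

theorem cnk_4_2_0 : cenOK 4 2 0 2700 = true := by decide +kernel

theorem cnk_4_2_1 : cenOK 4 2 2700 2700 = true := by decide +kernel

theorem cnk_5_2_0 : cenOK 5 2 0 2700 = true := by decide +kernel

theorem cnk_5_2_1 : cenOK 5 2 2700 2700 = true := by decide +kernel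

theorem cnk_0_3_0 : cenOK 0 3 0 2700 = true := by decide +kernel

theorem cnk_0_3_1 : cenOK 0 3 2700 2700 = true := by decide +kernel

theorem cnk_1_3_0 : cenOK 1 3 0 2700 = true := by decide +kernel

theorem cnk_1_3_1 : cenOK 1 3 2700 2700 = true := by decide +kernel

theorem cnk_2_3_0 : cenOK 2 3 0 2700 = true := by decide +kernel

theorem cnk_2_3_1 : cenOK 2 3 2700 2700 = true := by decide +kernel

theorem cnk_3_3_0 : cenOK 3 3 0 2700 = true := by decide +kernel

theorem cnk_3_3_1 : cenOK 3 3 2700 2700 = true := by decide +kernel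

theorem cnk_4_3_0 : cenOK 4 3 0 2700 = true := by decide +kernel

theorem cnk_4_3_1 : cenOK 4 3 2700 2700 = true := by decide +kernel

theorem cnk_5_3_0 : cenOK 5 3 0 2700 = true := by decide +kernel

theorem cnk_5_3_1 : cenOK 5 3 2700 2700 = true := by decide +kernel

theorem cnk_0_10_0 : cenOK 0 10 0 2700 = true := by decide +kernel

theorem cnk_0_10_1 : cenOK 0 10 2700 2700 = true := by decide +kernel

theorem cnk_1_10_0 : cenOK 1 10 0 2700 = true := by decide +kernel

theorem cnk_1_10_1 : cenOK 1 10 2700 2700 = true := by decide +kernel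

theorem cnk_2_10_0 : cenOK 2 10 0 2700 = true := by decide +kernel

theorem cnk_2_10_1 : cenOK 2 10 2700 2700 = true := by decide +kernel

theorem cnk_3_10_0 : cenOK 3 10 0 2700 = true := by decide +kernel

theorem cnk_3_10_1 : cenOK 3 10 2700 2700 = true := by decide +kernel

theorem cnk_4_10_0 : cenOK 4 10 0 2700 = true := by decide +kernel

theorem cnk_4_10_1 : cenOK 4 10 2700 2700 = true := by decide +kernel

theorem cnk_5_10_0 : cenOK 5 10 0 2700 = true := by decide +kernel

theorem cnk_5_10_1 : cenOK 5 10 2700 2700 = true := by decide +kernel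

theorem cnk_0_11_0 : cenOK 0 11 0 2700 = true := by decide +kernel

theorem cnk_0_11_1 : cenOK 0 11 2700 2700 = true := by decide +kernel

theorem cnk_1_11_0 : cenOK 1 11 0 2700 = true := by decide +kernel

theorem cnk_1_11_1 : cenOK 1 11 2700 2700 = true := by decide +kernel

theorem cnk_2_11_0 : cenOK 2 11 0 2700 = true := by decide +kernel

theorem cnk_2_11_1 : cenOK 2 11 2700 2700 = true := by decide +kernel

theorem cnk_3_11_0 : cenOK 3 11 0 2700 = true := by decide +kernel

theorem cnk_3_11_1 : cenOK 3 11 2700 2700 = true := by decide +kernel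

theorem cnk_4_11_0 : cenOK 4 11 0 2700 = true := by decide +kernel

theorem cnk_4_11_1 : cenOK 4 11 2700 2700 = true := by decide +kernel

theorem cnk_5_11_0 : cenOK 5 11 0 2700 = true := by decide +kernel

theorem cnk_5_11_1 : cenOK 5 11 2700 2700 = true := by decide +kernel

theorem cnk_0_17_0 : cenOK 0 17 0 2700 = true := by decide +kernel

theorem cnk_0_17_1 : cenOK 0 17 2700 2700 = true := by decide +kernel

theorem cnk_1_17_0 : cenOK 1 17 0 2700 = true := by decide +kernel

theorem cnk_1_17_1 : cenOK 1 17 2700 2700 = true := by decide +kernel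

theorem cnk_2_17_0 : cenOK 2 17 0 2700 = true := by decide +kernel

theorem cnk_2_17_1 : cenOK 2 17 2700 2700 = true := by decide +kernel

theorem cnk_3_17_0 : cenOK 3 17 0 2700 = true := by decide +kernel

theorem cnk_3_17_1 : cenOK 3 17 2700 2700 = true := by decide +kernel

theorem cnk_4_17_0 : cenOK 4 17 0 2700 = true := by decide +kernel

theorem cnk_4_17_1 : cenOK 4 17 2700 2700 = true := by decide +kernel

theorem cnk_5_17_0 : cenOK 5 17 0 2700 = true := by decide +kernel

theorem cnk_5_17_1 : cenOK 5 17 2700 2700 = true := by decide +kernel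

theorem cnk_0_18_0 : cenOK 0 18 0 2700 = true := by decide +kernel

theorem cnk_0_18_1 : cenOK 0 18 2700 2700 = true := by decide +kernel

theorem cnk_1_18_0 : cenOK 1 18 0 2700 = true := by decide +kernel

theorem cnk_1_18_1 : cenOK 1 18 2700 2700 = true := by decide +kernel

theorem cnk_2_18_0 : cenOK 2 18 0 2700 = true := by decide +kernel

theorem cnk_2_18_1 : cenOK 2 18 2700 2700 = true := by decide +kernel

theorem cnk_3_18_0 : cenOK 3 18 0 2700 = true := by decide +kernel

theorem cnk_3_18_1 : cenOK 3 18 2700 2700 = true := by decide +kernel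

theorem cnk_4_18_0 : cenOK 4 18 0 2700 = true := by decide +kernel

theorem cnk_4_18_1 : cenOK 4 18 2700 2700 = true := by decide +kernel

theorem cnk_5_18_0 : cenOK 5 18 0 2700 = true := by decide +kernel

theorem cnk_5_18_1 : cenOK 5 18 2700 2700 = true := by decide +kernel

theorem cnk_0_24_0 : cenOK 0 24 0 2700 = true := by decide +kernel

theorem cnk_0_24_1 : cenOK 0 24 2700 2700 = true := by decide +kernel

theorem cnk_1_24_0 : cenOK 1 24 0 2700 = true := by decide +kernel

theorem cnk_1_24_1 : cenOK 1 24 2700 2700 = true := by decide +kernel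

theorem cnk_2_24_0 : cenOK 2 24 0 2700 = true := by decide +kernel

theorem cnk_2_24_1 : cenOK 2 24 2700 2700 = true := by decide +kernel

theorem cnk_3_24_0 : cenOK 3 24 0 2700 = true := by decide +kernel

theorem cnk_3_24_1 : cenOK 3 24 2700 2700 = true := by decide +kernel

theorem cnk_4_24_0 : cenOK 4 24 0 2700 = true := by decide +kernel

theorem cnk_4_24_1 : cenOK 4 24 2700 2700 = true := by decide +kernel

theorem cnk_5_24_0 : cenOK 5 24 0 2700 = true := by decide +kernel

theorem cnk_5_24_1 : cenOK 5 24 2700 2700 = true := by decide +kernel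

theorem cnk_0_34_0 : cenOK 0 34 0 2700 = true := by decide +kernel

theorem cnk_0_34_1 : cenOK 0 34 2700 2700 = true := by decide +kernel

theorem cnk_1_34_0 : cenOK 1 34 0 2700 = true := by decide +kernel

theorem cnk_1_34_1 : cenOK 1 34 2700 2700 = true := by decide +kernel

theorem cnk_2_34_0 : cenOK 2 34 0 2700 = true := by decide +kernel

theorem cnk_2_34_1 : cenOK 2 34 2700 2700 = true := by decide +kernel

theorem cnk_3_34_0 : cenOK 3 34 0 2700 = true := by decide +kernel

theorem cnk_3_34_1 : cenOK 3 34 2700 2700 = true := by decide +kernel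

theorem cnk_4_34_0 : cenOK 4 34 0 2700 = true := by decide +kernel

theorem cnk_4_34_1 : cenOK 4 34 2700 2700 = true := by decide +kernel

theorem cnk_5_34_0 : cenOK 5 34 0 2700 = true := by decide +kernel

theorem cnk_5_34_1 : cenOK 5 34 2700 2700 = true := by decide +kernel

end Cfsg.Agent.Lib.Helper7.U43MM
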