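import Cfsg.Agent.Lib.Helper7.U43MTK0

/-! # The multiplier of the unitary group of degree four over the field of nine elements, the table over L: all the rows and words of the certificate are checked, and the words that give the relations
between the classes are traced (generated) -/

set_option autoImplicit false
set_option maxRecDepth 100000

namespace Cfsg.Agent.Lib.Helper7.U43MT

open Cfsg.Agent.Lib.Helper7.MG Cfsg.Agent.Lib.Helper7.HSMult

theorem rows_ok_all : ∀ k, k < 4 → rowsOK (135 * k) 135 = true
  | 0, _ => rows_ok_0
  | 1, _ => rows_ok_1
  | 2, _ => rows_ok_2
  | 3, _ => rows_ok_3
  | k + 4, h => absurd h (by omega)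

/-- **every entry of the table is justified** -/
theorem cert_all : ∀ a, a < cert.n → ∀ x, x < cert.g → cert.slotOK a x = true := by
  intro a ha x hx
  have ha' : a < 540 := ha
  have hx' : x < 6 := hx
  have h1 := rows_ok_all (a / 135) (by omega)
  rw [rowsOK, allN_iff] at h1
  have h2 := h1 (a % 135) (Nat.mod_lt _ (by norm_num))
  rw [allN_iff] at h2
  have h3 := h2 x hx'
  have e : Nat.add (135 * (a / 135)) (a % 135) = a := Nat.div_add_mod a 135
  rw [e] at h3
  exact h3

theorem words_ok : wordsOK = true := by decide +kernel

/-- **every word of the certificate is justified** -/
theorem cert_wall : ∀ i, i < cert.nW → cert.wordOK i = true := by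
  intro i hi
  have h := words_ok
  rw [wordsOK, allN_iff] at h
  exact h i hi

theorem close_0 : cert.scan 4095 (cert.W 17) 64 0 = some (64, 47081372905316449845579831184074146558922436587542350428164) := by decide +kernel

theorem close_1 : cert.scan 4095 (cert.W 31) 120 0 = some (120, 50206134307761719161069427786398683707942888932183708303331) := by decide +kernel

theorem close_2 : cert.scan 4095 (cert.W 62) 460 0 = some (460, 56484774522082679436497361417903845564114403071251686920183) := by decide +kernel

theorem close_3 : cert.scan 4095 (cert.W 59) 388 0 = some (388, 56486307033700050791837111514394655153194678489296427585514) := by decide +kernel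

theorem close_4 : cert.scan 4095 (cert.W 85) 214 0 = some (214, 78465379005137560314465488157886468988681712130035393021975) := by decide +kernel

theorem close_5 : cert.scan 4095 (cert.W 12) 499 0 = some (499, 43950481514861734119878950638530086101107886752465505251332) := by decide +kernel

theorem close_6 : cert.scan 4095 (cert.W 54) 2 0 = some (2, 56493969495327866406865403592556204355746289078070939783165) := by decide +kernel

theorem close_7 : cert.scan 4095 (cert.W 80) 456 0 = some (456, 87879508100920311018235904870458878240208834355098163404838) := by decide +kernel

theorem close_8 : cert.scan 4095 (cert.W 33) 234 0 = some (234, 53340090693682698058625290881239384327929124178286364100609) := by decide +kernel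

theorem close_9 : cert.scan 4095 (cert.W 74) 104 0 = some (104, 43916766624654711601610697894799150123477705663247896571891) := by decide +kernel

theorem close_10 : cert.scan 4095 (cert.W 91) 517 0 = some (517, 94153550850541216306383854918397945402311966040976966873087) := by decide +kernel

end Cfsg.Agent.Lib.Helper7.U43MT
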