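import Cfsg.Agent.Lib.Helper7.U43MLC

/-! # The multiplier of the unitary group of degree four over the field of nine elements, the subgroup L: the check of the rows 0 to 863 of the certificate (generated) -/

set_option autoImplicit false
set_option maxRecDepth 100000

namespace Cfsg.Agent.Lib.Helper7.U43ML

theorem rows_ok_0 : rowsOK 0 108 = true := by decide +kernel

theorem rows_ok_1 : rowsOK 108 108 = true := by decide +kernel

theorem rows_ok_2 : rowsOK 216 108 = true := by decide +kernel

theorem rows_ok_3 : rowsOK 324 108 = true := by decide +kernel

theorem rows_ok_4 : rowsOK 432 108 = true := by decide +kernel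

theorem rows_ok_5 : rowsOK 540 108 = true := by decide +kernel

theorem rows_ok_6 : rowsOK 648 108 = true := by decide +kernel

theorem rows_ok_7 : rowsOK 756 108 = true := by decide +kernel

end Cfsg.Agent.Lib.Helper7.U43ML
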