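import Cfsg.Agent.Lib.Helper7.U43MTC

/-! # The multiplier of the unitary group of degree four over the field of nine elements, the table over L: the check of the rows 0 to 539 of the certificate (generated) -/

set_option autoImplicit false
set_option maxRecDepth 100000

namespace Cfsg.Agent.Lib.Helper7.U43MT

theorem rows_ok_0 : rowsOK 0 135 = true := by decide +kernel

theorem rows_ok_1 : rowsOK 135 135 = true := by decide +kernel

theorem rows_ok_2 : rowsOK 270 135 = true := by decide +kernel

theorem rows_ok_3 : rowsOK 405 135 = true := by decide +kernel

end Cfsg.Agent.Lib.Helper7.U43MT
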