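import Cfsg.Agent.Lib.Helper7.U62MBaseD
import Cfsg.Agent.Lib.Helper7.MGenG
import Cfsg.Agent.Lib.Helper7.MGenE
import Cfsg.Agent.Lib.Helper6.U62PBSimple
import Cfsg.Agent.Lib.Helper6.CoxLift

/-!
# The presented unitary group of degree six over the field of four elements as a group of permutations of 672
points, and fourteen letters in it

The involutions of the presentation act on 672 points; the presented group is simple, so this action is faithful, and
a word in the generators is trivial as soon as it fixes all the points.  The fourteen letters are the involutions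
`c`, `d`, `e`, `f`, `g`, `s = tihfedefhit` and `h`, each of them twice; the first twelve generate a subgroup `L`,
and the fourteen letters generate the group.
-/

set_option autoImplicit false
set_option maxRecDepth 100000
set_option linter.constructorNameAsVariable false

namespace Cfsg.Agent.Lib.Helper7.U62MB

open Cfsg Cfsg.Spor Cfsg.Agent.Lib.Helper7.MG Cfsg.Agent.Lib.Helper7.HSMult
open Cfsg.Agent.Lib.Helper6.TC Cfsg.Agent.Lib.Helper6.U62Sub Cfsg.Agent.Lib.Helper6

/-! ### evaluation of words by tables -/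

/-- the image of a point under a word, the letters acting by `lk`; the last letter acts first -/
def evL (lk : ℕ → ℕ → ℕ) (w : List ℕ) (p : ℕ) : ℕ := @List.rec ℕ (fun _ => ℕ) p (fun x _ ih => lk x ih) w

theorem evL_nil (lk : ℕ → ℕ → ℕ) (p : ℕ) : evL lk [] p = p := rfl

theorem evL_cons (lk : ℕ → ℕ → ℕ) (x : ℕ) (w : List ℕ) (p : ℕ) : evL lk (x :: w) p = lk x (evL lk w p) := rfl

theorem evL_append (lk : ℕ → ℕ → ℕ) : ∀ (w w' : List ℕ) (p : ℕ), evL lk (w ++ w') p = evL lk w (evL lk w' p)
  | [], _, _ => rfl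
  | x :: w, w', p => by
    show lk x (evL lk (w ++ w') p) = lk x (evL lk w (evL lk w' p))
    rw [evL_append lk w w' p]

theorem evL_lt (lk : ℕ → ℕ → ℕ) (h : ∀ x p, p < 672 → lk x p < 672) : ∀ (w : List ℕ) (p : ℕ), p < 672 → evL lk w p < 672
  | [], _, hp => hp
  | x :: w, p, hp => h x _ (evL_lt lk h w p hp)

/-- an entry of a packed table of 672 points -/
def tbl (t p : ℕ) : ℕ := Nat.land (Nat.shiftRight t (Nat.mul 10 p)) 1023

/-- the values of words in a group that acts on the 672 points, the letters acting by `lk` -/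
theorem ev_link {Γ : Type*} [Group Γ] (ψ : Γ →* Equiv.Perm (Fin 672)) (γ : ℕ → Γ) (lk : ℕ → ℕ → ℕ)
    (h : ∀ x (p : Fin 672), (ψ (γ x) p).val = lk x p.val) :
    ∀ (w : List ℕ) (p : Fin 672), (ψ (VCert.wd γ w) p).val = evL lk w p.val
  | [], p => by rw [VCert.wd_nil, map_one]; rfl
  | x :: w, p => by
    rw [VCert.wd_cons, map_mul, Equiv.Perm.mul_apply, h, ev_link ψ γ lk h w p]
    rfl

/-! ### the involutions on the 672 points -/

/-- the image of one of the 672 points under one of the involutions -/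
def lkB (x p : ℕ) : ℕ := cond (Nat.blt x 9) (tbl (selB x) p) p

theorem lkB_ge {x : ℕ} (hx : 9 ≤ x) (p : ℕ) : lkB x p = p := by
  have : Nat.blt x 9 = false := by
    rw [Bool.eq_false_iff]
    intro h
    have : x < 9 := by simpa [Nat.blt] using h
    omega
  rw [lkB, this]
  rfl

theorem chk_invB : allN 9 (fun x => allN 672 fun p =>
    Nat.blt (lkB x p) 672 && Nat.beq (lkB x (lkB x p)) p) = true := by decide +kernel

theorem hhB (x p : ℕ) (hp : p < 672) : lkB x p < 672 ∧ lkB x (lkB x p) = p := by
  rcases Nat.lt_or_ge x 9 with hx | hx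
  · have h := chk_invB
    rw [allN_iff] at h
    have h1 := h x hx
    rw [allN_iff] at h1
    have h2 := h1 p hp
    rw [Bool.and_eq_true] at h2
    exact ⟨by simpa [Nat.blt] using h2.1, Nat.eq_of_beq_eq_true h2.2⟩
  · rw [lkB_ge hx, lkB_ge hx]
    exact ⟨hp, rfl⟩

/-- the involutions as permutations of the 672 points -/
def pmB (x : ℕ) : Equiv.Perm (Fin 672) := permOf 672 (lkB x) (lkB x) (hhB x) (hhB x)

theorem pmB_val (x : ℕ) (p : Fin 672) : (pmB x p).val = lkB x p.val := rfl

theorem pmB_mul_self (x : ℕ) : pmB x * pmB x = 1 := by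
  apply Equiv.ext
  intro p
  apply Fin.ext
  rw [Equiv.Perm.mul_apply, pmB_val, pmB_val]
  exact (hhB x p.val p.2).2

/-- the image of one of the 672 points under a word in the involutions -/
def evB (w : List ℕ) (p : ℕ) : ℕ := evL lkB w p

theorem wd_pmB_val : ∀ (w : List ℕ) (p : Fin 672), ((VCert.wd pmB w) p).val = evB w p.val
  | [], _ => rfl
  | x :: w, p => by
    rw [VCert.wd_cons, Equiv.Perm.mul_apply, pmB_val, wd_pmB_val w p]
    rfl

theorem wd_pmB_eq {w w' : List ℕ} (h : ∀ p, p < 672 → evB w p = evB w' p) : VCert.wd pmB w = VCert.wd pmB w' := by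
  apply Equiv.ext
  intro p
  apply Fin.ext
  rw [wd_pmB_val, wd_pmB_val]
  exact h p.val p.2

theorem evB_append (w w' : List ℕ) (p : ℕ) : evB (w ++ w') p = evB w (evB w' p) := evL_append lkB w w' p

theorem evB_lt (w : List ℕ) (p : ℕ) (hp : p < 672) : evB w p < 672 :=
  evL_lt lkB (fun x p hp => (hhB x p hp).1) w p hp

/-! ### the homomorphism from the presented group -/

/-- the images of the generators -/
def fgenB (a : PB.Gen) : Equiv.Perm (Fin 672) := pmB (U62PBTC.code a)

theorem fgenB_gen {x : ℕ} (hx : x < 9) : fgenB (U62PBTC.gen x) = pmB x := by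
  interval_cases x <;> rfl

theorem chk_relsB : (coxWordsL PB.edges U62PBTC.gen 9 ++ U62PBTC.extraWords).all
    (fun w => (w.all fun x => decide (x < 9)) && allN 672 fun p => Nat.beq (evB w p) p) = true := by
  decide +kernel

theorem word_eq_oneB {w : List ℕ}
    (hw : w ∈ coxWordsL PB.edges U62PBTC.gen 9 ++ U62PBTC.extraWords) :
    (w.map fun x => fgenB (U62PBTC.gen x)).prod = 1 := by
  have h0 := List.all_eq_true.1 chk_relsB w hw
  rw [Bool.and_eq_true] at h0
  obtain ⟨h2, h1⟩ := h0
  have h3 : w.map (fun x => fgenB (U62PBTC.gen x)) = w.map pmB :=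
    List.map_congr_left fun x hx => fgenB_gen (of_decide_eq_true (List.all_eq_true.1 h2 x hx))
  rw [h3]
  rw [allN_iff] at h1
  have h4 := wd_pmB_eq (w := w) (w' := []) fun p hp => Nat.eq_of_beq_eq_true (h1 p hp)
  exact h4

theorem lift_relB : ∀ r ∈ coxRelators PB.edges ∪ {r | r ∈ PB.extra}, FreeGroup.lift fgenB r = 1 :=
  CoxLift.lift_eq_one_of_words U62PBTC.gen U62PBTC.code 9 U62PBTC.extraWords
    (by intro a; cases a <;> exact ⟨by decide, rfl⟩) fgenB
    (U62PBTC.extra_iff fgenB fun a => pmB_mul_self _) fun _ hw => word_eq_oneB hw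

/-- the homomorphism from the presented group to the group of permutations -/
noncomputable def φB : PB →* Equiv.Perm (Fin 672) := PresentedGroup.toGroup lift_relB

theorem φB_of (a : PB.Gen) : φB (PresentedGroup.of a) = fgenB a := PresentedGroup.toGroup.of _

/-- the generators of the presented group, numbered -/
noncomputable def pgen (x : ℕ) : PB := PresentedGroup.of (U62PBTC.gen x)

theorem φB_pgen {x : ℕ} (hx : x < 9) : φB (pgen x) = pmB x := by
  rw [pgen, φB_of, fgenB_gen hx]

theorem chk_moveB : lkB 1 1 ≠ 1 := by decide +kernel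

instance instSimplePB : IsSimpleGroup PB := U62PBSimple.main.1

theorem card_PB : Nat.card PB = 9196830720 := U62PBSimple.main.2

instance instFinitePB : Finite PB := Nat.finite_of_card_ne_zero (by rw [card_PB]; norm_num)

theorem φB_injective : Function.Injective φB := by
  rw [← MonoidHom.ker_eq_bot_iff]
  rcases (φB.normal_ker).eq_bot_or_eq_top with h | h
  · exact h
  · exfalso
    have h1 : pgen 1 ∈ φB.ker := by rw [h]; exact Subgroup.mem_top _
    rw [MonoidHom.mem_ker, φB_pgen (by norm_num)] at h1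
    have h2 : ((pmB 1) ⟨1, by norm_num⟩).val = ((1 : Equiv.Perm (Fin 672)) ⟨1, by norm_num⟩).val := by rw [h1]
    rw [pmB_val] at h2
    exact chk_moveB h2

/-- words in the involutions, all of whose letters are among the nine -/
theorem φB_wd_pgen : ∀ w : List ℕ, (∀ x ∈ w, x < 9) → φB (VCert.wd pgen w) = VCert.wd pmB w
  | [], _ => map_one φB
  | x :: w, h => by
    rw [VCert.wd_cons, VCert.wd_cons, map_mul, φB_pgen (h x List.mem_cons_self),
      φB_wd_pgen w fun y hy => h y (List.mem_cons_of_mem _ hy)]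

/-- **two words in the involutions with the same images of all the points have the same value** -/
theorem wd_pgen_eq {w w' : List ℕ} (hw : ∀ x ∈ w, x < 9) (hw' : ∀ x ∈ w', x < 9)
    (h : ∀ p, p < 672 → evB w p = evB w' p) : VCert.wd pgen w = VCert.wd pgen w' := by
  apply φB_injective
  rw [φB_wd_pgen w hw, φB_wd_pgen w' hw']
  exact wd_pmB_eq h

theorem φB_apply_val {w : List ℕ} (hw : ∀ x ∈ w, x < 9) (p : Fin 672) :
    (φB (VCert.wd pgen w) p).val = evB w p.val := by
  rw [φB_wd_pgen w hw, wd_pmB_val]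

/-! ### words in letters that are words -/

/-- a word in letters that are words, written out -/
def expW (lw : ℕ → List ℕ) : List ℕ → List ℕ
  | [] => []
  | x :: w => lw x ++ expW lw w

theorem expW_lt (lw : ℕ → List ℕ) (m : ℕ) (h : ∀ x, ∀ y ∈ lw x, y < m) : ∀ w : List ℕ, ∀ y ∈ expW lw w, y < m
  | [], y, hy => by simp [expW] at hy
  | x :: w, y, hy => by
    rw [expW, List.mem_append] at hy
    rcases hy with hy | hy
    · exact h x y hy
    · exact expW_lt lw m h w y hy

theorem wd_expW {Γ : Type*} [Group Γ] (γ : ℕ → Γ) (lw : ℕ → List ℕ) :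
    ∀ w : List ℕ, VCert.wd (fun x => VCert.wd γ (lw x)) w = VCert.wd γ (expW lw w)
  | [] => rfl
  | x :: w => by
    rw [VCert.wd_cons, expW, VCert.wd_append, wd_expW γ lw w]

theorem expW_append (lw : ℕ → List ℕ) : ∀ w w' : List ℕ, expW lw (w ++ w') = expW lw w ++ expW lw w'
  | [], _ => rfl
  | x :: w, w' => by
    show lw x ++ expW lw (w ++ w') = (lw x ++ expW lw w) ++ expW lw w'
    rw [expW_append lw w w', List.append_assoc]

/-! ### the fourteen letters -/

/-- the fourteen letters as words in the involutions -/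
def lTw : ℕ → List ℕ
  | 0 => [1]
  | 1 => [1]
  | 2 => [2]
  | 3 => [2]
  | 4 => [3]
  | 5 => [3]
  | 6 => [4]
  | 7 => [4]
  | 8 => [5]
  | 9 => [5]
  | 10 => [8, 7, 6, 4, 3, 2, 3, 4, 6, 7, 8]
  | 11 => [8, 7, 6, 4, 3, 2, 3, 4, 6, 7, 8]
  | 12 => [6]
  | 13 => [6]
  | _ => []

theorem lTw_lt : ∀ x, ∀ y ∈ lTw x, y < 9
  | 0, y, h => by simp only [lTw, List.mem_cons, List.not_mem_nil, or_false] at h; omega
  | 1, y, h => by simp only [lTw, List.mem_cons, List.not_mem_nil, or_false] at h; omega
  | 2, y, h => by simp only [lTw, List.mem_cons, List.not_mem_nil, or_false] at h; omega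
  | 3, y, h => by simp only [lTw, List.mem_cons, List.not_mem_nil, or_false] at h; omega
  | 4, y, h => by simp only [lTw, List.mem_cons, List.not_mem_nil, or_false] at h; omega
  | 5, y, h => by simp only [lTw, List.mem_cons, List.not_mem_nil, or_false] at h; omega
  | 6, y, h => by simp only [lTw, List.mem_cons, List.not_mem_nil, or_false] at h; omega
  | 7, y, h => by simp only [lTw, List.mem_cons, List.not_mem_nil, or_false] at h; omega
  | 8, y, h => by simp only [lTw, List.mem_cons, List.not_mem_nil, or_false] at h; omega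
  | 9, y, h => by simp only [lTw, List.mem_cons, List.not_mem_nil, or_false] at h; omega
  | 10, y, h => by simp only [lTw, List.mem_cons, List.not_mem_nil, or_false] at h; omega
  | 11, y, h => by simp only [lTw, List.mem_cons, List.not_mem_nil, or_false] at h; omega
  | 12, y, h => by simp only [lTw, List.mem_cons, List.not_mem_nil, or_false] at h; omega
  | 13, y, h => by simp only [lTw, List.mem_cons, List.not_mem_nil, or_false] at h; omega
  | _ + 14, y, h => by simp [lTw] at h

/-- the fourteen letters in the presented group -/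
noncomputable def lT (x : ℕ) : PB := VCert.wd pgen (lTw x)

theorem lT_of_ge {x : ℕ} (hx : 14 ≤ x) : lT x = 1 := by
  obtain ⟨y, rfl⟩ : ∃ y, x = y + 14 := ⟨x - 14, by omega⟩
  rfl

theorem wd_lT_expW (w : List ℕ) : VCert.wd lT w = VCert.wd pgen (expW lTw w) := wd_expW pgen lTw w

/-- the image of one of the 672 points under one of the fourteen letters -/
def lkT (x p : ℕ) : ℕ := cond (Nat.blt x 14) (tbl (selT x) p) p

theorem lkT_ge {x : ℕ} (hx : 14 ≤ x) (p : ℕ) : lkT x p = p := by
  have : Nat.blt x 14 = false := by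
    rw [Bool.eq_false_iff]
    intro h
    have : x < 14 := by simpa [Nat.blt] using h
    omega
  rw [lkT, this]
  rfl

theorem chk_lkT : allN 14 (fun x => allN 672 fun p => Nat.beq (lkT x p) (evB (lTw x) p)) = true := by
  decide +kernel

theorem φB_lT_val (x : ℕ) (p : Fin 672) : (φB (lT x) p).val = lkT x p.val := by
  rcases Nat.lt_or_ge x 14 with hx | hx
  · have h := chk_lkT
    rw [allN_iff] at h
    have h1 := h x hx
    rw [allN_iff] at h1
    rw [lT, φB_apply_val (lTw_lt x), Nat.eq_of_beq_eq_true (h1 p.val p.2)]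
  · rw [lT_of_ge hx, lkT_ge hx, map_one]
    rfl

/-- the image of one of the 672 points under a word in the fourteen letters -/
def evT (w : List ℕ) (p : ℕ) : ℕ := evL lkT w p

theorem φB_wd_lT_val (w : List ℕ) (p : Fin 672) : (φB (VCert.wd lT w) p).val = evT w p.val :=
  ev_link φB lT lkT φB_lT_val w p

/-- **two words in the fourteen letters with the same images of all the points have the same value** -/
theorem wd_lT_eq {w w' : List ℕ} (h : ∀ p, p < 672 → evT w p = evT w' p) : VCert.wd lT w = VCert.wd lT w' := by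
  apply φB_injective
  apply Equiv.ext
  intro p
  apply Fin.ext
  rw [φB_wd_lT_val, φB_wd_lT_val]
  exact h p.val p.2

/-- the check that a word in the fourteen letters fixes all the points -/
def trivT (w : List ℕ) : Bool := allN 672 fun p => Nat.beq (evT w p) p

theorem wd_lT_eq_one {w : List ℕ} (h : trivT w = true) : VCert.wd lT w = 1 := by
  rw [trivT, allN_iff] at h
  exact wd_lT_eq (w := w) (w' := []) fun p hp => Nat.eq_of_beq_eq_true (h p hp)

theorem chk_ivT : ∀ x, x < 14 → trivT [x, Nat.xor x 1] = true := by decide +kernel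

theorem lT_iv {x : ℕ} (hx : x < 14) : lT (Nat.xor x 1) = (lT x)⁻¹ := by
  have h := wd_lT_eq_one (chk_ivT x hx)
  rw [VCert.wd_cons, VCert.wd_cons, VCert.wd_nil, mul_one] at h
  exact (eq_inv_of_mul_eq_one_right h)

/-! ### the fourteen letters generate the group -/

/-- the words for the involutions in the fourteen letters -/
def wG : ℕ → List ℕ
  | 0 => []
  | 1 => [0]
  | 2 => [2]
  | 3 => [4]
  | 4 => [6]
  | 5 => [8]
  | 6 => [12]
  | 7 => wGi
  | 8 => wGt
  | _ => []

theorem chk_wG : (allN 9 fun g => allN 672 fun p => Nat.beq (evT (wG g) p) (evB [g] p)) = true := by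
  decide +kernel

theorem pgen_eq {g : ℕ} (hg : g < 9) : pgen g = VCert.wd lT (wG g) := by
  have h := chk_wG
  rw [allN_iff] at h
  have h0 := h g hg
  rw [allN_iff] at h0
  apply φB_injective
  apply Equiv.ext
  intro p
  apply Fin.ext
  rw [φB_wd_lT_val, φB_pgen hg, pmB_val, Nat.eq_of_beq_eq_true (h0 p.val p.2)]
  rfl

theorem pgen_mul_self {x : ℕ} (hx : x < 9) : pgen x * pgen x = 1 := by
  apply φB_injective
  rw [map_mul, φB_pgen hx, pmB_mul_self, map_one]

theorem wd_mem_of_letters {Γ : Type*} [Group Γ] (γ : ℕ → Γ) (S : Subgroup Γ) (m : ℕ)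
    (hS : ∀ x, x < m → γ x ∈ S) (h1 : ∀ x, m ≤ x → γ x = 1) : ∀ w : List ℕ, VCert.wd γ w ∈ S
  | [] => S.one_mem
  | x :: w => by
    rw [VCert.wd_cons]
    refine S.mul_mem ?_ (wd_mem_of_letters γ S m hS h1 w)
    rcases Nat.lt_or_ge x m with h | h
    · exact hS x h
    · rw [h1 x h]; exact S.one_mem

theorem closure_lT : Subgroup.closure (lT '' Set.Iio 14) = ⊤ := by
  set S := Subgroup.closure (lT '' Set.Iio 14) with hS
  have hm : ∀ x, x < 14 → lT x ∈ S := fun x hx => Subgroup.subset_closure ⟨x, hx, rfl⟩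
  have hg : ∀ g, g < 9 → pgen g ∈ S := fun g hg => by
    rw [pgen_eq hg]; exact wd_mem_of_letters lT S 14 hm (fun x hx => lT_of_ge hx) (wG g)
  rw [eq_top_iff, ← PresentedGroup.closure_range_of, Subgroup.closure_le]
  rintro _ ⟨a, rfl⟩
  cases a
  · exact hg 0 (by norm_num)
  · exact hg 1 (by norm_num)
  · exact hg 2 (by norm_num)
  · exact hg 3 (by norm_num)
  · exact hg 4 (by norm_num)
  · exact hg 5 (by norm_num)
  · exact hg 6 (by norm_num)
  · exact hg 7 (by norm_num)
  · exact hg 8 (by norm_num)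

/-! ### the subgroup generated by the first twelve letters -/

/-- the subgroup `L` generated by `c`, `d`, `e`, `f`, `g` and `s` -/
noncomputable def L : Subgroup PB := Subgroup.closure (lT '' Set.Iio 12)

theorem lT_mem_L {x : ℕ} (hx : x < 12) : lT x ∈ L := Subgroup.subset_closure ⟨x, hx, rfl⟩

/-- the first twelve letters in `L` -/
noncomputable def lT1 (x : ℕ) : ↥L := if h : x < 12 then ⟨lT x, lT_mem_L h⟩ else 1

theorem lT1_val {x : ℕ} (hx : x < 12) : (lT1 x : PB) = lT x := by
  rw [lT1, dif_pos hx]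

theorem lT1_of_ge {x : ℕ} (hx : 12 ≤ x) : lT1 x = 1 := by
  rw [lT1, dif_neg (by omega)]

theorem wd_lT1_val : ∀ w : List ℕ, (∀ x ∈ w, x < 12) → ((VCert.wd lT1 w : ↥L) : PB) = VCert.wd lT w
  | [], _ => rfl
  | x :: w, h => by
    rw [VCert.wd_cons, VCert.wd_cons, Subgroup.coe_mul, lT1_val (h x List.mem_cons_self),
      wd_lT1_val w fun y hy => h y (List.mem_cons_of_mem _ hy)]

theorem xor_lt_twelve {x : ℕ} (hx : x < 12) : Nat.xor x 1 < 12 := by
  interval_cases x <;> decide

theorem lT1_iv {x : ℕ} (hx : x < 12) : lT1 (Nat.xor x 1) = (lT1 x)⁻¹ := by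
  apply Subtype.ext
  rw [Subgroup.coe_inv, lT1_val (xor_lt_twelve hx), lT1_val hx, lT_iv (by omega)]

theorem closure_lT1 : Subgroup.closure (lT1 '' Set.Iio 12) = ⊤ := by
  have h := Subgroup.closure_closure_coe_preimage (k := lT '' Set.Iio 12)
  have e : ((↑) ⁻¹' (lT '' Set.Iio 12) : Set ↥(Subgroup.closure (lT '' Set.Iio 12))) = lT1 '' Set.Iio 12 := by
    ext z
    constructor
    · rintro ⟨x, hx, hz⟩
      exact ⟨x, hx, Subtype.ext (by rw [lT1_val hx]; exact hz)⟩
    · rintro ⟨x, hx, rfl⟩
      exact ⟨x, hx, (lT1_val hx).symm⟩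
  rw [e] at h
  exact h

end Cfsg.Agent.Lib.Helper7.U62MB
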