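/-! # The unitary group of degree six over the field of four elements on 672 points: a base of five points with
words that move them through the orbits of the successive stabilisers (generated).  Every entry is the image of the
base point followed by a word. -/

set_option autoImplicit false

namespace Cfsg.Agent.Lib.Helper7.U62MB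

/-- the orbit of the first base point under the stabiliser of the earlier ones -/
def lvl1 : List (List Nat) := [[0, 3, 4, 8, 6, 2, 3, 4, 1],
  [1, 6, 7, 8, 6, 5],
  [2, 7, 3, 2],
  [3, 8, 7, 1],
  [4, 1, 2, 6, 2],
  [5, 6, 7, 4, 8, 5],
  [6, 8, 5, 1],
  [7, 5, 4, 3, 2, 6],
  [8, 3, 2, 6, 4, 5, 3, 2],
  [9, 6, 7, 8, 7],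
  [10, 7, 8, 4, 1],
  [11, 7, 3, 4, 8, 1, 2, 6, 5, 1],
  [12, 6, 7, 8, 6, 5, 1],
  [13, 4, 8, 6, 5, 1],
  [14, 4, 3, 2, 6, 4, 1],
  [15, 7, 8, 6, 4, 1],
  [16, 7, 6, 3, 2],
  [17, 5, 4, 8, 6, 2, 3, 4, 1],
  [18, 7, 6, 5, 2],
  [19, 7, 8, 6, 4],
  [20, 4, 8, 6, 5],
  [21, 4, 3, 1, 2, 6, 4, 1],
  [22, 8, 5],
  [23, 5, 4, 8, 2, 6, 2],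
  [24, 8, 7, 2, 6, 2, 3, 4, 1],
  [25, 5, 3, 4, 8, 7, 4],
  [26, 3, 4, 8, 4, 2],
  [27, 2, 3, 1, 2, 6, 4],
  [28, 6, 7, 4, 8, 5, 1],
  [29, 8, 7],
  [30, 2, 6, 2],
  [31, 7, 5, 3, 4, 8, 7, 5, 1],
  [32, 7, 5, 2],
  [33, 5, 3, 4, 8, 7, 4, 1],
  [34, 7, 8, 4],
  [35, 7, 3, 4, 8, 2, 6, 5, 1],
  [36, 6, 7, 8, 7, 1],
  [37, 2, 3, 1, 2, 6, 3, 4],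
  [38, 5, 4, 8, 4, 2],
  [39, 7, 4, 8, 2, 6, 3, 4],
  [40, 8, 7, 3, 2],
  [41, 7, 1],
  [42, 3, 2, 6],
  [43, 7, 5, 4, 8, 7, 1],
  [44, 5, 1],
  [45, 7, 5, 4, 8, 3, 4],
  [46, 7, 1, 2, 6, 2, 3, 4, 1],
  [47, 6, 7, 8],
  [48, 7, 8, 7, 4, 1],
  [49, 5, 1, 2, 3, 4, 8, 6, 2],
  [50, 4, 8, 3, 2],
  [51, 3, 4, 8, 6, 5, 2],
  [52, 6, 7, 6, 2],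
  [53, 4, 8, 1, 2, 6, 2, 3, 4, 1],
  [54, 1, 2, 6, 7, 6, 3, 2],
  [55, 4, 3, 2, 6, 5],
  [56, 3, 2, 6, 7, 8, 1],
  [57, 8, 5, 3, 2],
  [58, 8, 6, 7, 4, 2],
  [59, 8, 7, 4, 8, 1],
  [60, 8, 3, 2, 6, 1],
  [61, 6, 2, 3, 1, 2, 6, 4, 1],
  [62, 5, 3, 2],
  [63, 6, 7, 4, 2],
  [64, 3, 2, 6, 7, 8, 7, 1],
  [65, 3, 2, 6, 1],
  [66, 3, 2, 6, 7, 8, 4, 2],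
  [67, 7, 4, 8, 1],
  [68, 5],
  [69, 6, 2, 3, 4, 8],
  [70, 7, 2, 6, 2, 3, 4, 1],
  [71, 5, 3, 4, 8, 7],
  [72, 3, 4, 8, 2],
  [73, 2, 6, 7, 8, 4],
  [74, 2, 6, 7, 6, 3, 2],
  [75, 4, 8, 6, 3, 4],
  [76, 1, 2, 3, 4, 8, 3, 4, 1],
  [77, 2, 6, 7, 8, 6, 4, 1],
  [78, 4, 8, 5, 2],
  [79, 5, 4, 8, 6, 5, 2],
  [80, 4, 8, 7, 6, 2, 3, 4, 1],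
  [81, 6, 7, 8, 1, 2, 6, 4, 1],
  [82, 7, 8, 2, 6, 5, 1],
  [83, 7, 3, 2, 6, 2],
  [84, 2, 6, 3, 2],
  [85, 7, 4, 8, 6, 1],
  [86, 8, 7, 3, 4, 8, 5],
  [87, 7, 4, 8, 2, 6, 5],
  [88, 2, 6, 7, 8, 5, 1],
  [89, 4, 8, 7, 2],
  [90, 6, 4, 2],
  [91, 4, 3, 2, 6, 2],
  [92, 8, 2, 6, 4, 1],
  [93, 6],
  [94, 8, 7, 2, 6, 4, 5, 3, 2],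
  [95, 1, 2, 6, 4, 1],
  [96, 8, 6, 1],
  [97, 4, 8, 2, 6, 4],
  [98, 7, 4, 8, 4, 2],
  [99, 6, 7, 8, 7, 4, 2],
  [100, 2, 6, 7, 4, 8, 7, 1],
  [101, 3, 4, 8, 4],
  [102, 8, 7, 2, 3, 4, 8, 1],
  [103, 8, 1, 2, 6, 3, 4, 1],
  [104, 6, 7, 8, 1],
  [105, 7, 8, 7, 4],
  [106, 5, 2, 3, 4, 8, 6, 2],
  [107, 6, 7, 3, 4, 8, 7, 5, 1],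
  [108, 1, 2, 6, 7, 8, 4],
  [109, 5, 4, 8, 2],
  [110, 4, 8, 2, 6, 5, 2],
  [111, 3, 4, 8, 7, 5],
  [112, 7, 8, 3, 2, 6, 3, 4, 1],
  [113, 6, 7, 2, 6, 3, 2],
  [114, 6, 7, 8, 2, 6, 4, 1],
  [115, 7, 8, 1, 2, 6, 5, 1],
  [116, 7, 8, 2, 6],
  [117, 5, 4, 8, 7, 5, 2],
  [118, 3, 4, 8, 6, 3, 2],
  [119, 6, 7, 6, 5, 3, 2],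
  [120, 7, 2, 6, 4, 5, 3, 2],
  [121, 1, 2, 6, 3, 4, 1],
  [122, 3, 4, 8],
  [123, 7, 2, 3, 4, 8, 1],
  [124, 4, 8, 2, 6],
  [125, 8, 1, 2, 6, 4, 1],
  [126, 6, 1],
  [127, 7, 5, 4, 8, 5, 2],
  [128, 8, 7, 4, 8, 4, 2],
  [129, 6, 7, 8, 4, 2],
  [130, 7, 4, 8],
  [131, 7, 3, 4, 8, 5, 1],
  [132, 8, 7, 4, 3, 2, 6, 5, 2],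
  [133, 8, 7, 4, 8, 6],
  [134, 3, 4, 8, 4, 1],
  [135, 7, 5, 2, 3, 4, 8, 7, 1],
  [136, 8, 2, 6, 3, 4, 1],
  [137, 2],
  [138, 8, 6, 4, 5, 3, 2],
  [139, 8, 7, 4, 8, 7, 5, 2],
  [140, 7],
  [141, 8, 2, 6, 2],
  [142, 7, 5, 4, 8, 7],
  [143, 8, 7, 5, 2],
  [144, 5, 3, 4, 8, 7, 1],
  [145, 6, 7, 3, 4, 8, 7, 5],
  [146, 4, 8, 2, 6, 2, 3, 4, 1],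
  [147, 2, 6, 7, 8, 6, 1],
  [148, 5, 4, 8, 6, 3, 2],
  [149, 4, 8, 2, 3, 4, 1],
  [150, 4, 8, 6, 3, 4, 1],
  [151, 2, 3, 4, 8, 3, 4, 1],
  [152, 1, 2, 6, 7, 8, 6, 4, 1],
  [153, 3, 4, 8, 7, 5, 1],
  [154, 7, 8, 3, 1, 2, 6, 3, 4, 1],
  [155, 6, 7, 8, 3, 2, 6, 1],
  [156, 8, 7, 4, 8],
  [157, 7, 4, 8, 7, 5, 2],
  [158, 8, 2],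
  [159, 6, 4, 5, 3, 2],
  [160, 7, 4, 8, 6],
  [161, 8, 7, 3, 4, 8, 5, 1],
  [162, 7, 4, 3, 2, 6, 5, 2],
  [163, 2, 6, 3, 4, 1],
  [164, 3, 4, 8, 1],
  [165, 7, 1, 2, 3, 4, 8, 1],
  [166, 3, 1, 2, 6, 1],
  [167, 4, 8, 7, 4, 2],
  [168, 8, 6, 4, 2],
  [169, 2, 6, 7, 8, 7, 5, 1],
  [170, 2, 6, 4, 1],
  [171, 8, 6],
  [172, 8, 4, 3, 2, 6, 2],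
  [173, 7, 3, 4, 8, 5],
  [174, 5, 4, 3, 2, 6, 3, 4],
  [175, 8, 7, 4, 8, 6, 1],
  [176, 3, 4, 8, 3, 2],
  [177, 6, 2, 3, 4, 8, 5, 1],
  [178, 7, 2, 6, 5, 2],
  [179, 7, 2, 6, 3, 2],
  [180, 4, 8, 2, 6, 5],
  [181, 4, 2, 3, 1, 2, 6, 4, 1],
  [182, 7, 8, 2, 6, 4],
  [183, 4, 3, 2, 6, 3, 4, 1],
  [184, 7, 8, 2, 6, 4, 1],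
  [185, 4, 8, 2, 6, 5, 1],
  [186, 8, 7, 2],
  [187, 6, 2],
  [188, 7, 3, 4, 8, 2],
  [189, 7, 5],
  [190, 5, 2, 3, 4, 8, 7, 4, 1],
  [191, 7, 4, 8, 1, 2, 6, 3, 4, 1],
  [192, 5, 3, 4, 8, 6, 4, 2],
  [193, 2, 6, 7, 8, 7, 1],
  [194, 7, 8, 4, 2],
  [195, 5, 4, 8, 4],
  [196, 7, 4, 8, 6, 3, 4],
  [197, 3, 1, 2, 6, 3, 4],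
  [198, 5, 4, 8, 6, 2],
  [199, 8, 7, 6, 2, 3, 4, 1],
  [200, 8, 5, 2],
  [201, 2, 3, 4, 8, 4, 2],
  [202, 3, 1, 2, 6, 4],
  [203, 7, 3, 4, 8, 4],
  [204, 4, 3, 2, 6, 5, 2],
  [205, 6, 7, 2, 6, 5, 3, 2],
  [206, 6, 7, 8, 6, 3, 4],
  [207, 5, 4, 8, 5],
  [208, 4, 8, 7, 5, 2],
  [209, 6, 7, 8, 3, 1, 2, 6, 4, 1],
  [210, 7, 2, 3, 4, 8, 4, 1],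
  [211, 5, 4, 8, 7],
  [212, 2, 3, 4, 8, 6, 2],
  [213, 3, 1, 2, 6, 2, 3, 4, 1],
  [214, 4, 8, 2],
  [215, 6, 5, 3, 2],
  [216, 7, 8, 7, 5, 2],
  [217, 3, 2, 6, 7, 8, 4],
  [218, 7, 3, 4, 8, 7],
  [219, 2, 6, 5],
  [220, 7, 4, 8, 6, 3, 4, 1],
  [221, 7, 5, 4, 8],
  [222, 5, 2, 3, 4, 8, 2],
  [223, 2, 6, 7, 4, 8, 4, 2],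
  [224, 4, 8, 6, 4, 2],
  [225, 2, 6, 7, 4, 8, 7, 5, 1],
  [226, 8, 7, 4, 2],
  [227, 1, 2, 6, 5, 1],
  [228, 8, 3, 1, 2, 6, 3, 4, 1],
  [229, 7, 2, 3, 4, 8, 7, 1],
  [230, 3, 2, 6, 4],
  [231, 4],
  [232, 2, 6, 7, 5, 3, 2],
  [233, 8, 7, 4, 8, 5],
  [234, 8, 6, 7, 3, 2],
  [235, 8, 2, 3, 4, 1],
  [236, 3, 4, 8, 7, 2],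
  [237, 6, 7, 3, 4, 8],
  [238, 6, 5, 1],
  [239, 8, 3, 2, 6, 4, 1],
  [240, 4, 3, 1, 2, 6, 3, 4, 1],
  [241, 7, 8, 1, 2, 6, 4, 1],
  [242, 4, 8, 1, 2, 6, 5, 1],
  [243, 4, 8, 7, 5],
  [244, 6, 7, 8, 3, 2, 6, 4, 1],
  [245, 5, 4, 8, 5, 2],
  [246, 7, 4, 8, 2, 6, 3, 4, 1],
  [247, 6, 7, 4, 8, 7, 5, 1],
  [248, 8, 7, 4],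
  [249, 7, 4, 8, 3, 4, 1],
  [250, 3, 1, 2, 6, 7, 8, 4],
  [251, 7, 3, 4, 8, 7, 1],
  [252, 1, 2, 6, 5],
  [253, 5, 3, 4, 8, 2],
  [254, 6, 7, 4, 8, 4, 2],
  [255, 7, 5, 4, 8, 2],
  [256, 3, 2, 6, 3, 4],
  [257, 8, 3, 4, 1],
  [258, 6, 7, 4, 8, 6, 1],
  [259, 8, 2, 6, 7, 3, 2],
  [260, 2, 6, 5, 1],
  [261, 8, 3, 2, 6, 3, 4, 1],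
  [262, 2, 6, 7, 3, 4, 8],
  [263, 6, 7, 5, 3, 2],
  [264, 8, 7, 4, 8, 5, 2],
  [265, 4, 2],
  [266, 7, 3, 4, 8, 4, 1],
  [267, 2, 6, 5, 3, 2],
  [268, 7, 8, 7, 5],
  [269, 4, 8],
  [270, 6, 7, 3, 4, 8, 1],
  [271, 6, 5],
  [272, 8, 3, 1, 2, 6, 4, 1],
  [273, 3, 4, 8, 6, 2],
  [274, 6, 7, 6, 4, 5, 3, 2],
  [275, 5, 4, 8, 7, 2],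
  [276, 6, 2, 3, 4, 8, 7, 5, 1],
  [277, 7, 1, 2, 6, 5, 2],
  [278, 7, 8, 3, 2, 6, 1],
  [279, 4, 8, 7, 3, 2],
  [280, 5, 4, 8, 5, 1],
  [281, 4, 8, 7, 5, 1],
  [282, 7, 5, 1],
  [283, 8, 7, 5, 3, 2],
  [284, 4, 8, 6, 7, 4, 2],
  [285, 7, 8, 7, 3, 2],
  [286, 5, 4, 8, 7, 1],
  [287, 1, 2, 3, 4, 8, 6, 2],
  [288, 3, 2, 6, 2, 3, 4, 1],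
  [289, 6, 7, 4, 8, 7, 5],
  [290, 8, 7, 4, 1],
  [291, 7, 4, 8, 3, 4],
  [292, 5, 4, 8, 4, 1],
  [293, 6, 7, 2],
  [294, 8, 7, 4, 8, 3, 2],
  [295, 4, 5, 3, 2],
  [296, 7, 5, 4, 8, 1],
  [297, 8, 7, 4, 8, 7, 4, 1],
  [298, 6, 5, 2, 3, 4, 8, 7, 1],
  [299, 8, 3, 4],
  [300, 6, 7, 4, 8, 6],
  [301, 5, 4, 3, 2, 6, 5, 1],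
  [302, 7, 5, 4, 8, 7, 4, 1],
  [303, 8, 6, 7, 5, 2],
  [304, 6, 7, 6, 4, 2],
  [305, 8, 3, 2],
  [306, 4, 1],
  [307, 8, 4, 3, 2, 6, 5, 1],
  [308, 8, 7, 4, 8, 5, 1],
  [309, 8, 3, 2, 6, 5, 1],
  [310, 7, 8, 7, 5, 1],
  [311, 4, 8, 1],
  [312, 7, 2],
  [313, 8, 6, 2],
  [314, 7, 5, 4, 8, 7, 2],
  [315, 8, 7, 5],
  [316, 5, 2, 3, 4, 8, 7, 1],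
  [317, 6, 7, 1, 2, 3, 4, 8, 1],
  [318, 4, 8, 6, 2, 3, 4, 1],
  [319, 6, 7, 8, 6, 1],
  [320, 5, 4, 3, 1, 2, 6, 1],
  [321, 4, 8, 3, 4, 1],
  [322, 4, 8, 2, 6, 3, 4, 1],
  [323, 3, 4, 8, 3, 4, 1],
  [324, 1, 2, 6, 7, 8, 6, 4],
  [325, 2, 3, 4, 8, 7, 5, 1],
  [326, 3, 1, 2, 6, 7, 8, 6, 4],
  [327, 5, 4, 3, 1, 2, 6, 4, 1],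
  [328, 8, 7, 4, 8, 2],
  [329, 7, 4, 8, 7, 5],
  [330, 8],
  [331, 2, 6, 4, 5, 3, 2],
  [332, 3, 4, 8, 7, 4],
  [333, 6, 7, 4, 8, 2, 6, 4, 1],
  [334, 7, 4, 8, 1, 2, 6, 5, 1],
  [335, 6, 3, 4, 1],
  [336, 2, 3, 4, 8, 1],
  [337, 6, 7, 3, 4, 8, 5],
  [338, 8, 6, 3, 2],
  [339, 4, 8, 7, 4],
  [340, 7, 8, 3, 4, 1],
  [341, 6, 7, 8, 7, 5, 1],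
  [342, 6, 4, 1],
  [343, 8, 2, 6],
  [344, 4, 8, 1, 2, 6, 4, 1],
  [345, 7, 3, 4, 8, 7, 5],
  [346, 5, 4, 3, 2, 6, 4],
  [347, 8, 7, 4, 8, 2, 6, 1],
  [348, 2, 6, 7, 4, 8, 4],
  [349, 5, 4, 8, 7, 4],
  [350, 2, 3, 4, 8, 6, 4, 2],
  [351, 8, 3, 1, 2, 6, 2, 3, 4, 1],
  [352, 4, 8, 4, 2],
  [353, 8, 6, 5, 3, 2],
  [354, 7, 8, 5, 2],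
  [355, 2, 3, 1, 2, 6, 4, 1],
  [356, 7, 4, 8, 2, 6, 4],
  [357, 8, 2, 6, 5],
  [358, 4, 8, 1, 2, 6, 3, 4, 1],
  [359, 3, 4, 8, 3, 4],
  [360, 2, 6, 7, 8, 6, 4],
  [361, 5, 4, 8, 3, 4, 1],
  [362, 7, 6, 2],
  [363, 7, 8, 6, 3, 4],
  [364, 3, 4, 8, 7, 4, 1],
  [365, 6, 7, 4, 8, 1, 2, 6, 4, 1],
  [366, 7, 4, 8, 2, 6, 5, 1],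
  [367, 2, 6, 5, 2],
  [368, 7, 4, 8, 7, 2],
  [369, 3, 4, 8, 2, 6, 2],
  [370, 6, 4],
  [371, 3, 2, 6, 2],
  [372, 4, 8, 2, 6, 4, 1],
  [373, 7, 3, 4, 1],
  [374, 3, 4, 8, 6, 7, 2],
  [375, 7, 1, 2, 3, 4, 8, 3, 4, 1],
  [376, 6, 7, 2, 3, 4, 8, 1],
  [377, 7, 5, 4, 8, 7, 5],
  [378, 7, 4],
  [379, 4, 8, 2, 6, 2],
  [380, 2, 3, 1, 2, 6, 3, 4, 1],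
  [381, 8, 7, 3, 4, 8, 7, 1],
  [382, 3, 2, 6, 5, 2],
  [383, 7, 4, 8, 7, 4, 2],
  [384, 8, 6, 7, 4, 8, 4, 2],
  [385, 2, 6, 7, 4, 8, 1],
  [386, 2, 3, 4, 8, 5, 1],
  [387, 3, 2, 6, 7, 8, 6, 4],
  [388, 5, 4, 3, 2, 6, 4, 1],
  [389, 4, 3, 1, 2, 6, 1],
  [390, 7, 8, 6, 3, 4, 1],
  [391, 7, 6, 5, 3, 2],
  [392, 6, 3, 4],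
  [393, 1, 2, 3, 4, 8, 1],
  [394, 7, 2, 3, 4, 8],
  [395, 8, 2, 6, 2, 3, 4, 1],
  [396, 4, 3, 2, 6, 4],
  [397, 7, 8, 2],
  [398, 7, 3, 4, 8, 7, 5, 1],
  [399, 8, 7, 4, 8, 6, 5, 1],
  [400, 2, 3, 4, 8, 7, 1],
  [401, 8, 7, 4, 8, 7],
  [402, 7, 2, 3, 4, 8, 3, 4, 1],
  [403, 8, 6, 5, 2],
  [404, 8, 7, 5, 1],
  [405, 7, 5, 3, 2],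
  [406, 4, 8, 6, 7, 2],
  [407, 7, 8, 3, 2],
  [408, 5, 4, 8, 7, 4, 1],
  [409, 1, 2, 3, 4, 8, 6, 4, 2],
  [410, 8, 3, 2, 6, 2, 3, 4, 1],
  [411, 7, 5, 4, 8, 7, 5, 1],
  [412, 7, 4, 1],
  [413, 4, 3, 2, 6],
  [414, 6, 7, 8, 6],
  [415, 5, 4, 3, 2, 6, 1],
  [416, 4, 8, 3, 4],
  [417, 7, 4, 8, 6, 7, 4, 2],
  [418, 5, 4, 8, 3, 4],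
  [419, 4, 3, 2, 6, 1],
  [420, 7, 4, 8, 7, 5, 1],
  [421, 8, 1],
  [422, 4, 8, 3, 2, 6, 5, 1],
  [423, 7, 8, 5, 3, 2],
  [424, 1, 2, 6, 5, 2],
  [425, 8, 1, 2, 6, 2, 3, 4, 1],
  [426, 4, 8, 7, 4, 1],
  [427, 7, 8, 3, 4],
  [428, 6, 7, 8, 7, 5],
  [429, 5, 4, 8, 6, 7, 2],
  [430, 7, 3, 4],
  [431, 8, 7, 4, 8, 7, 1],
  [432, 5, 3, 4, 8, 6, 2],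
  [433, 2, 6, 7, 8, 1],
  [434, 7, 8, 7, 4, 2],
  [435, 5, 4, 8],
  [436, 6, 7, 3, 4, 8, 7, 1],
  [437, 1, 2, 6, 7, 8, 4, 1],
  [438, 7, 4, 8, 2],
  [439, 8, 7, 4, 8, 7, 5],
  [440],
  [441, 8, 2, 6, 4, 5, 3, 2],
  [442, 3, 4, 8, 7],
  [443, 7, 2, 3, 4, 8, 5, 1],
  [444, 8, 7, 4, 8, 1, 2, 6, 5, 1],
  [445, 8, 6, 3, 4, 1],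
  [446, 2, 3, 4, 8, 4, 1],
  [447, 7, 5, 3, 4, 8, 7, 1],
  [448, 4, 8, 6, 5, 2],
  [449, 2, 6, 7, 6, 5, 3, 2],
  [450, 5, 4, 8, 7, 5],
  [451, 6, 7, 8, 2, 6, 5, 1],
  [452, 2, 6, 7, 2, 6, 3, 2],
  [453, 3, 4, 8, 5],
  [454, 7, 8, 3, 2, 6, 4, 1],
  [455, 7, 8, 6],
  [456, 2, 6, 7, 8, 2, 6, 4, 1],
  [457, 7, 3, 2, 6, 5, 2],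
  [458, 7, 6, 4, 5, 3, 2],
  [459, 2, 6, 7, 8, 4, 2],
  [460, 7, 5, 4, 8, 5],
  [461, 8, 7, 4, 8, 4],
  [462, 7, 3, 4, 8, 1],
  [463, 1, 2, 6, 3, 4],
  [464, 2, 3, 4, 8],
  [465, 2, 6, 1],
  [466, 4, 8, 6],
  [467, 6, 7, 8, 3, 4],
  [468, 6, 7, 3, 4, 8, 7],
  [469, 6, 7, 4, 8, 1],
  [470, 7, 4, 8, 7, 4],
  [471, 6, 7, 2, 3, 4, 8, 4, 1],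
  [472, 4, 8, 6, 2],
  [473, 7, 5, 4, 8, 7, 5, 2],
  [474, 7, 4, 2],
  [475, 8, 1, 2, 6, 5, 1],
  [476, 3, 1, 2, 6, 3, 4, 1],
  [477, 7, 4, 8, 1, 2, 6, 4, 1],
  [478, 3, 4, 8, 7, 1],
  [479, 7, 2, 3, 4, 8, 7, 5, 1],
  [480, 8, 7, 4, 8, 2, 6, 5, 1],
  [481, 8, 2, 6, 5, 2],
  [482, 8, 7, 4, 8, 7, 2],
  [483, 7, 3, 4, 8, 3, 4, 1],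
  [484, 5, 4, 3, 2, 6, 3, 4, 1],
  [485, 3, 4, 8, 5, 1],
  [486, 7, 8, 3, 1, 2, 6, 4, 1],
  [487, 7, 2, 6, 5, 3, 2],
  [488, 4, 8, 6, 3, 2],
  [489, 7, 8, 2, 6, 3, 4, 1],
  [490, 7, 3, 4, 8],
  [491, 2, 6, 3, 4],
  [492, 1, 2, 3, 4, 8],
  [493, 7, 8],
  [494, 8, 6, 2, 3, 4, 1],
  [495, 4, 3, 2, 6, 3, 4],
  [496, 2, 6, 7, 8, 4, 1],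
  [497, 3, 4, 1],
  [498, 7, 5, 4, 8, 4],
  [499, 2, 6, 7, 3, 2],
  [500, 8, 2, 6, 5, 1],
  [501, 3, 2, 6, 3, 4, 1],
  [502, 7, 4, 8, 2, 6, 4, 1],
  [503, 4, 8, 6, 5, 3, 2],
  [504, 7, 4, 8, 5, 2],
  [505, 8, 4, 2],
  [506, 8, 6, 3, 4],
  [507, 1, 2, 3, 4, 8, 4, 1],
  [508, 7, 5, 3, 4, 8, 7],
  [509, 2, 6, 2, 3, 4, 1],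
  [510, 7, 3, 4, 8, 3, 4],
  [511, 7, 8, 7, 2],
  [512, 7, 8, 6, 1],
  [513, 4, 8, 7, 3, 4, 8, 5],
  [514, 7, 8, 2, 6, 5],
  [515, 2, 3, 4, 8, 2, 3, 4, 1],
  [516, 7, 8, 1, 2, 6, 3, 4, 1],
  [517, 2, 6, 7, 8, 2, 6, 1],
  [518, 1, 2, 6, 1],
  [519, 4, 8, 6, 1],
  [520, 8, 2, 6, 4],
  [521, 7, 6, 2, 3, 4, 8, 5, 1],
  [522, 4, 3, 1, 2, 6, 3, 4],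
  [523, 7, 6, 4, 2],
  [524, 5, 4, 8, 1],
  [525, 8, 6, 7, 2],
  [526, 7, 4, 8, 3, 2],
  [527, 7, 4, 5, 3, 2],
  [528, 6, 7, 4, 8],
  [529, 7, 4, 8, 7, 4, 1],
  [530, 6, 5, 2, 3, 4, 8, 7, 4, 1],
  [531, 3, 4],
  [532, 7, 5, 4, 8, 4, 1],
  [533, 1, 2, 6, 7, 3, 2],
  [534, 8, 7, 4, 8, 7, 5, 1],
  [535, 1],
  [536, 7, 3, 2, 6, 2, 3, 4, 1],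
  [537, 7, 8, 7, 5, 3, 2],
  [538, 3, 2, 6, 5],
  [539, 1, 2, 6, 2, 3, 4, 1],
  [540, 4, 3, 2, 6, 2, 3, 4, 1],
  [541, 5, 4, 8, 7, 5, 1],
  [542, 6, 7, 8, 1, 2, 6, 5, 1],
  [543, 5, 3, 4, 8, 6, 5, 2],
  [544, 7, 8, 3, 2, 6, 5, 1],
  [545, 1, 2, 3, 4, 8, 2, 3, 4, 1],
  [546, 1, 2, 6, 7, 8, 4, 2],
  [547, 7, 5, 4, 8, 5, 1],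
  [548, 8, 7, 4, 8, 4, 1],
  [549, 7, 8, 6, 7, 4, 2],
  [550, 7, 8, 1],
  [551, 6, 2, 3, 4, 8, 7, 1],
  [552, 5, 4, 8, 6, 4, 2],
  [553, 7, 6, 2, 3, 4, 1],
  [554, 5, 2],
  [555, 2, 3, 4, 8, 2],
  [556, 6, 7, 8, 4],
  [557, 6, 7, 4, 8, 4, 1],
  [558, 6, 3, 2],
  [559, 4, 8, 7],
  [560, 2, 6, 4, 2],
  [561, 6, 7, 8, 5, 1],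
  [562, 8, 6, 4, 1],
  [563, 2, 6],
  [564, 4, 8, 1, 2, 6, 1],
  [565, 8, 7, 3, 4, 8, 7, 5],
  [566, 7, 4, 8, 6, 5],
  [567, 7, 4, 8, 2, 6, 1],
  [568, 8, 7, 6, 4, 5, 3, 2],
  [569, 2, 6, 7, 8, 7, 4, 2],
  [570, 6, 7, 4, 8, 7, 1],
  [571, 7, 4, 8, 4],
  [572, 8, 7, 3, 4, 8, 1],
  [573, 8, 1, 2, 6, 3, 4],
  [574, 2, 3, 4, 8, 4],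
  [575, 8, 2, 6, 1],
  [576, 4, 8, 6, 4],
  [577, 1, 2, 6, 4],
  [578, 6, 7, 6, 3, 2],
  [579, 5, 4, 8, 2, 6, 5, 2],
  [580, 3, 4, 8, 2, 6, 5, 1],
  [581, 4, 8, 5],
  [582, 7, 8, 6, 5, 1],
  [583, 7, 8, 1, 2, 6, 1],
  [584, 6, 7, 8, 2, 6, 3, 4],
  [585, 5, 4, 3, 2, 6, 5, 2],
  [586, 6, 7, 8, 6, 4, 1],
  [587, 4, 8, 2, 6, 3, 4],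
  [588, 6, 7, 8, 4, 1],
  [589, 8, 4],
  [590, 4, 3, 1, 2, 6, 5, 1],
  [591, 7, 4, 8, 5],
  [592, 6, 7, 3, 2],
  [593, 2, 3, 4, 1],
  [594, 3, 4, 8, 7, 4, 2],
  [595, 7, 4, 8, 6, 4, 1],
  [596, 8, 6, 5, 1],
  [597, 3, 2, 6, 4, 1],
  [598, 8, 6, 4],
  [599, 1, 2, 6],
  [600, 4, 8, 2, 6, 1],
  [601, 8, 7, 3, 4, 1],
  [602, 3, 4, 8, 6, 7, 4, 2],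
  [603, 1, 2, 3, 4, 8, 2, 6, 2],
  [604, 8, 7, 3, 4, 8],
  [605, 8, 2, 6, 3, 4],
  [606, 5, 4, 3, 2, 6, 2],
  [607, 7, 8, 7],
  [608, 6, 2, 3, 4, 1],
  [609, 8, 4, 3, 2, 6, 3, 4],
  [610, 7, 8, 6, 5],
  [611, 7, 8, 2, 6, 1],
  [612, 6, 7, 8, 1, 2, 6, 3, 4],
  [613, 6, 7, 8, 2, 6, 1],
  [614, 3, 4, 8, 2, 3, 4, 1],
  [615, 7, 8, 1, 2, 6, 3, 4],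
  [616, 6, 7, 4, 8, 4],
  [617, 3, 1, 2, 6, 5, 1],
  [618, 7, 8, 5],
  [619, 4, 8, 4],
  [620, 7, 4, 8, 6, 4],
  [621, 8, 6, 5],
  [622, 3, 1, 2, 6, 4, 1],
  [623, 3, 4, 8, 6, 4, 2],
  [624, 8, 6, 7, 6, 4, 5, 3, 2],
  [625, 5, 4, 8, 7, 4, 2],
  [626, 8, 7, 3, 4, 8, 7, 5, 1],
  [627, 7, 4, 8, 6, 5, 1],
  [628, 2, 3, 4, 8, 7, 4, 1],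
  [629, 7, 4, 8, 7],
  [630, 2, 3, 4, 8, 2, 6, 2],
  [631, 6, 5, 2],
  [632, 8, 1, 2, 6, 1],
  [633, 4, 8, 6, 4, 1],
  [634, 2, 6, 4],
  [635, 6, 7, 4, 8, 2, 6, 1],
  [636, 4, 5, 3, 4, 8, 7, 4, 1],
  [637, 7, 2, 3, 4, 1],
  [638, 2, 3, 4, 8, 3, 4],
  [639, 6, 7, 8, 6, 4],
  [640, 5, 3, 4, 8, 7, 5, 1],
  [641, 7, 2, 6, 2],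
  [642, 7, 8, 2, 6, 3, 4],
  [643, 5, 4, 8, 2, 3, 4, 1],
  [644, 1, 2, 3, 4, 8, 2],
  [645, 6, 7, 5, 2],
  [646, 6, 7, 2, 3, 4, 1],
  [647, 3, 2],
  [648, 8, 4, 1],
  [649, 4, 3, 2, 6, 5, 1],
  [650, 7, 4, 8, 5, 1],
  [651, 3, 2, 6, 5, 1],
  [652, 7, 8, 5, 1],
  [653, 4, 8, 4, 1],
  [654, 4, 8, 7, 1],
  [655, 1, 2, 6, 4, 2],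
  [656, 6, 7, 8, 5],
  [657, 5, 4, 8, 6, 7, 4, 2],
  [658, 8, 7, 3, 4],
  [659, 7, 4, 8, 7, 1],
  [660, 7, 3, 2, 6, 4, 5, 3, 2],
  [661, 6, 7, 4, 8, 7],
  [662, 7, 4, 8, 4, 1],
  [663, 6, 7, 6, 2, 3, 4, 1],
  [664, 7, 8, 7, 1],
  [665, 6, 2, 3, 4, 8, 7, 4, 1],
  [666, 5, 4, 3, 2, 6, 5],
  [667, 3, 4, 8, 1, 2, 6, 5, 1],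
  [668, 4, 8, 5, 1],
  [669, 6, 7, 6, 5, 2],
  [670, 6, 7, 8, 1, 2, 6, 1],
  [671, 7, 1, 2, 6, 2]]

/-- the orbit of the second base point under the stabiliser of the earlier ones -/
def lvl2 : List (List Nat) := [[0, 6, 7, 6, 2, 3, 4, 3, 2, 1, 2, 1, 3, 2, 6, 7, 8, 7, 6, 2, 6, 7, 6],
  [1, 2, 3, 4, 3, 2, 4, 5, 4, 2, 6, 7, 8, 7, 6, 2, 6, 7, 6, 2, 3, 4, 3, 2, 3, 4, 5, 4],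
  [2, 6, 7, 6, 2, 3, 4, 3, 2, 6, 7, 6, 4, 5, 4],
  [3, 4, 5, 4, 2, 6, 7, 8, 7, 6, 2, 6, 7, 6, 3, 1, 2, 1],
  [4, 2, 6, 7, 8, 7, 6, 3, 4, 3, 2, 4, 5, 4, 2, 6, 7, 8, 7, 6, 2, 6, 7, 6, 1, 2, 1],
  [5, 1, 2, 1, 6, 7, 6, 3, 4, 5, 4, 1, 2, 1],
  [7, 3, 2, 6, 7, 8, 7, 6, 2, 1, 2, 1],
  [8, 4, 5, 4, 2, 6, 7, 8, 7, 6, 2, 6, 7, 6],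
  [9, 2, 3, 4, 3, 6, 7, 8, 7, 6, 2, 4, 5, 4, 1, 2, 1],
  [10, 4, 5, 4, 3, 1, 2, 1, 6, 7, 6, 4, 5, 4],
  [13, 4, 5, 4, 2, 6, 7, 8, 7, 6, 2, 3, 1, 2, 1, 6, 7, 6, 1, 2, 1],
  [15, 4, 5, 4, 3, 1, 2, 1, 6, 7, 6, 4, 5, 4, 1, 2, 1],
  [16, 2, 3, 4, 3, 2, 6, 7, 6, 4, 5, 4],
  [17, 4, 5, 4, 1, 2, 1, 3, 2, 6, 7, 8, 7, 6, 2, 6, 7, 6, 2, 3, 4, 3, 2, 6, 7, 6],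
  [20, 1, 2, 1, 6, 7, 6, 1, 2, 1, 3, 4, 5, 4, 1, 2, 1],
  [21, 3, 4, 5, 4, 2, 6, 7, 8, 7, 6, 3, 4, 3, 2, 3, 1, 2, 1],
  [22, 2, 3, 4, 3, 6, 7, 8, 7, 6, 2, 3, 4, 5, 4, 3, 2, 6, 7, 8, 7, 6, 2, 6, 7, 6, 1, 2, 1],
  [24, 2, 6, 7, 8, 7, 6, 2, 3, 4, 5, 4, 2, 6, 7, 8, 7, 6, 2, 6, 7, 6, 1, 2, 1],
  [26, 2, 3, 4, 3, 2, 1, 2, 1, 3, 2, 6, 7, 8, 7, 6, 2, 6, 7, 6],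
  [27, 2, 6, 7, 8, 7, 6, 2, 3, 4, 5, 4, 2, 6, 7, 8, 7, 6, 2, 1, 2, 1],
  [28, 4, 5, 4, 2, 6, 7, 8, 7, 6, 2, 3, 1, 2, 1, 6, 7, 6],
  [29, 6, 7, 6, 2, 3, 4, 3, 6, 7, 8, 7, 6, 2, 4, 5, 4, 1, 2, 1],
  [31, 2, 3, 4, 3, 6, 7, 8, 7, 6, 3, 4, 3, 2, 6, 7, 6],
  [33, 3, 2, 6, 7, 8, 7, 6, 2, 6, 7, 6, 1, 2, 1],
  [35, 3, 1, 2, 1, 6, 7, 6, 2, 3, 4, 3, 6, 7, 8, 7, 6, 3, 4, 3, 2, 3, 1, 2, 1],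
  [36, 4, 5, 4, 2, 6, 7, 8, 7, 6, 2, 3, 1, 2, 1],
  [37, 4, 5, 4, 2, 6, 7, 8, 7, 6, 2],
  [38, 1, 2, 1, 3, 2, 6, 7, 8, 7, 6, 2, 3, 1, 2, 1, 6, 7, 6, 1, 2, 1],
  [40, 3, 4, 5, 4, 2, 6, 7, 8, 7, 6, 2, 1, 2, 1, 6, 7, 6, 3, 1, 2, 1],
  [41, 1, 2, 1, 6, 7, 6, 2, 3, 4, 3, 2, 6, 7, 6, 3, 4, 5, 4],
  [42, 4, 5, 4, 2, 6, 7, 8, 7, 6, 2, 1, 2, 1, 3, 4, 5, 4],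
  [44, 4, 5, 4, 2, 6, 7, 8, 7, 6, 3, 4, 3, 2, 6, 7, 6, 1, 2, 1, 3, 2, 6, 7, 8, 7, 6, 2],
  [46, 6, 7, 6, 2, 3, 4, 3, 2, 1, 2, 1, 3, 4, 5, 4],
  [47, 2, 6, 7, 8, 7, 6, 2, 6, 7, 6, 2, 3, 4, 3, 2, 6, 7, 6, 3, 4, 5, 4],
  [48, 2, 3, 4, 3, 2, 4, 5, 4, 3, 2, 6, 7, 8, 7, 6, 2, 6, 7, 6],
  [49, 3, 2, 6, 7, 8, 7, 6, 2],
  [50, 4, 5, 4, 3, 1, 2, 1, 6, 7, 6, 2, 3, 4, 3, 2, 4, 5, 4, 2, 6, 7, 8, 7, 6, 2, 3, 1, 2, 1],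
  [51, 3, 1, 2, 1],
  [53, 2, 6, 7, 8, 7, 6, 2, 3, 1, 2, 1, 6, 7, 6, 3, 4, 5, 4, 1, 2, 1],
  [55],
  [56, 6, 7, 6, 3, 4, 5, 4, 1, 2, 1, 3, 2, 6, 7, 8, 7, 6, 2],
  [58, 2, 6, 7, 8, 7, 6, 2, 4, 5, 4, 3, 1, 2, 1, 6, 7, 6],
  [60, 2, 3, 4, 3, 6, 7, 8, 7, 6, 2, 3, 1, 2, 1, 6, 7, 6, 1, 2, 1],
  [61, 2, 3, 4, 3, 2, 1, 2, 1, 6, 7, 6],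
  [62, 3, 2, 6, 7, 8, 7, 6, 3, 4, 3, 2, 4, 5, 4, 2, 6, 7, 8, 7, 6, 2, 6, 7, 6, 2, 3, 4, 3, 2, 3, 4, 5, 4],
  [63, 2, 3, 4, 3, 2, 4, 5, 4, 2, 6, 7, 8, 7, 6, 2, 3, 4, 5, 4, 2, 6, 7, 8, 7, 6, 2, 6, 7, 6],
  [64, 2, 3, 4, 3, 2, 3, 2, 6, 7, 8, 7, 6, 2, 4, 5, 4],
  [65, 2, 3, 4, 3, 2, 3, 2, 6, 7, 8, 7, 6, 3, 4, 3, 2, 4, 5, 4],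
  [66, 2, 3, 4, 3, 2, 3, 4, 5, 4, 2, 6, 7, 8, 7, 6, 2, 4, 5, 4, 3, 1, 2, 1, 6, 7, 6],
  [67, 1, 2, 1, 6, 7, 6, 4, 5, 4, 1, 2, 1],
  [69, 3, 1, 2, 1, 6, 7, 6],
  [70, 2, 6, 7, 8, 7, 6, 2, 6, 7, 6, 2, 3, 4, 3, 2, 4, 5, 4],
  [71, 2, 6, 7, 8, 7, 6, 2, 6, 7, 6, 3, 4, 5, 4, 3, 1, 2, 1],
  [72, 3, 4, 5, 4, 2, 6, 7, 8, 7, 6, 3, 4, 3, 2, 3, 2, 6, 7, 8, 7, 6, 2, 6, 7, 6],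
  [74, 2, 6, 7, 8, 7, 6, 3, 4, 3, 2, 3, 2, 6, 7, 8, 7, 6, 2, 1, 2, 1, 6, 7, 6, 4, 5, 4, 1, 2, 1],
  [76, 3, 2, 6, 7, 8, 7, 6, 2, 6, 7, 6],
  [77, 2, 3, 4, 3, 2, 6, 7, 6, 1, 2, 1, 3, 2, 6, 7, 8, 7, 6, 2],
  [78, 2, 6, 7, 8, 7, 6, 3, 4, 3, 2, 3, 2, 6, 7, 8, 7, 6, 2, 6, 7, 6],
  [79, 2, 6, 7, 8, 7, 6, 2, 3, 4, 5, 4],
  [80, 1, 2, 1, 6, 7, 6, 1, 2, 1, 3, 4, 5, 4],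
  [81, 2, 6, 7, 8, 7, 6, 3, 4, 3, 2, 3, 4, 5, 4],
  [83, 4, 5, 4, 2, 6, 7, 8, 7, 6, 2, 6, 7, 6, 1, 2, 1, 3, 4, 5, 4],
  [84, 3, 4, 5, 4, 3, 2, 6, 7, 8, 7, 6, 2, 6, 7, 6],
  [85, 1, 2, 1, 6, 7, 6, 4, 5, 4],
  [86, 2, 3, 4, 3, 2, 3, 2, 6, 7, 8, 7, 6, 2, 3, 1, 2, 1],
  [87, 6, 7, 6, 2, 3, 4, 3, 6, 7, 8, 7, 6, 3, 4, 3, 2, 3, 1, 2, 1],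
  [89, 4, 5, 4, 1, 2, 1, 3, 2, 6, 7, 8, 7, 6, 2, 6, 7, 6, 4, 5, 4],
  [90, 2, 3, 4, 3, 2, 6, 7, 6, 1, 2, 1, 3, 4, 5, 4, 3, 1, 2, 1],
  [91, 2, 6, 7, 8, 7, 6, 2, 3, 1, 2, 1, 6, 7, 6, 3, 1, 2, 1],
  [92, 4, 5, 4, 2, 6, 7, 8, 7, 6, 2, 6, 7, 6, 4, 5, 4, 1, 2, 1],
  [95, 2, 3, 4, 3, 2, 4, 5, 4, 1, 2, 1],
  [97, 6, 7, 6, 1, 2, 1, 3, 2, 6, 7, 8, 7, 6, 2, 6, 7, 6, 3, 1, 2, 1],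
  [98, 3, 2, 6, 7, 8, 7, 6, 2, 1, 2, 1, 6, 7, 6, 1, 2, 1],
  [99, 2, 6, 7, 8, 7, 6, 2, 4, 5, 4, 3, 1, 2, 1, 6, 7, 6, 1, 2, 1],
  [102, 1, 2, 1, 3, 2, 6, 7, 8, 7, 6, 3, 4, 3, 2, 4, 5, 4, 3, 1, 2, 1, 6, 7, 6],
  [103, 6, 7, 6, 2, 3, 4, 3, 6, 7, 8, 7, 6, 2, 6, 7, 6, 3, 1, 2, 1],
  [105, 3, 2, 6, 7, 8, 7, 6, 3, 4, 3, 2, 6, 7, 6, 1, 2, 1, 3, 2, 6, 7, 8, 7, 6, 2, 1, 2, 1],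
  [106, 2, 6, 7, 8, 7, 6, 2, 4, 5, 4, 3, 1, 2, 1],
  [107, 2, 6, 7, 8, 7, 6, 2, 4, 5, 4],
  [108, 2, 3, 4, 3, 6, 7, 8, 7, 6, 2, 6, 7, 6, 3, 1, 2, 1],
  [110, 2, 3, 4, 3, 6, 7, 8, 7, 6, 3, 4, 3, 2, 3, 1, 2, 1],
  [112, 2, 3, 4, 3, 2, 6, 7, 6, 1, 2, 1, 3, 2, 6, 7, 8, 7, 6, 2, 1, 2, 1, 6, 7, 6, 1, 2, 1],
  [113, 3, 4, 5, 4, 3, 2, 6, 7, 8, 7, 6, 2],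
  [114, 4, 5, 4, 2, 6, 7, 8, 7, 6, 2, 4, 5, 4, 1, 2, 1],
  [115, 2, 6, 7, 8, 7, 6, 3, 4, 3, 2, 1, 2, 1, 6, 7, 6, 1, 2, 1, 3, 4, 5, 4, 1, 2, 1],
  [116, 2, 3, 4, 3, 2, 3, 1, 2, 1, 6, 7, 6, 3, 4, 5, 4],
  [117, 2, 6, 7, 8, 7, 6, 2, 1, 2, 1, 6, 7, 6, 3, 1, 2, 1],
  [119, 2, 3, 4, 3, 6, 7, 8, 7, 6, 2, 4, 5, 4, 3, 1, 2, 1, 6, 7, 6, 4, 5, 4, 3, 1, 2, 1],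
  [120, 2, 3, 4, 3, 2, 3, 4, 5, 4, 3, 2, 6, 7, 8, 7, 6, 2, 6, 7, 6, 1, 2, 1],
  [121, 2, 3, 4, 3, 2, 1, 2, 1, 3, 4, 5, 4],
  [122, 4, 5, 4, 2, 6, 7, 8, 7, 6, 2, 1, 2, 1, 6, 7, 6, 2, 3, 4, 3, 2, 3, 4, 5, 4],
  [123, 4, 5, 4, 3, 2, 6, 7, 8, 7, 6, 3, 4, 3, 2, 1, 2, 1, 6, 7, 6],
  [125, 2, 6, 7, 8, 7, 6, 2, 6, 7, 6, 2, 3, 4, 3, 2, 3, 4, 5, 4],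
  [126, 2, 6, 7, 8, 7, 6, 2, 4, 5, 4, 1, 2, 1, 3, 2, 6, 7, 8, 7, 6, 2],
  [127, 2, 6, 7, 8, 7, 6, 2, 6, 7, 6, 3, 4, 5, 4],
  [128, 3, 1, 2, 1, 6, 7, 6, 2, 3, 4, 3, 6, 7, 8, 7, 6, 2, 3, 1, 2, 1],
  [131, 3, 1, 2, 1, 6, 7, 6, 1, 2, 1],
  [133, 2, 3, 4, 3, 2, 4, 5, 4, 2, 6, 7, 8, 7, 6, 2, 1, 2, 1, 6, 7, 6, 3, 1, 2, 1],
  [134, 2, 3, 4, 3, 6, 7, 8, 7, 6, 2, 1, 2, 1, 6, 7, 6],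
  [135, 1, 2, 1, 6, 7, 6, 2, 3, 4, 3, 2, 3, 2, 6, 7, 8, 7, 6, 2, 1, 2, 1, 6, 7, 6],
  [138, 1, 2, 1, 3, 2, 6, 7, 8, 7, 6, 2, 6, 7, 6, 2, 3, 4, 3, 2, 4, 5, 4],
  [139, 2, 3, 4, 3, 2, 4, 5, 4, 2, 6, 7, 8, 7, 6, 2, 4, 5, 4],
  [141, 3, 2, 6, 7, 8, 7, 6, 2, 4, 5, 4, 3, 2, 6, 7, 8, 7, 6, 2],
  [142, 2, 6, 7, 8, 7, 6, 3, 4, 3, 2, 4, 5, 4, 3, 1, 2, 1, 6, 7, 6],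
  [143, 1, 2, 1, 6, 7, 6, 2, 3, 4, 3, 2, 4, 5, 4, 2, 6, 7, 8, 7, 6, 2, 3, 1, 2, 1],
  [144, 6, 7, 6, 2, 3, 4, 3, 2, 3, 2, 6, 7, 8, 7, 6, 2, 3, 1, 2, 1],
  [146, 2, 6, 7, 8, 7, 6, 2, 3, 4, 5, 4, 2, 6, 7, 8, 7, 6, 2, 1, 2, 1, 6, 7, 6, 2, 3, 4, 3, 2, 3, 4, 5, 4],
  [148, 3, 4, 5, 4, 1, 2, 1, 3, 2, 6, 7, 8, 7, 6, 2],
  [149, 3, 2, 6, 7, 8, 7, 6, 2, 1, 2, 1, 6, 7, 6],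
  [150, 1, 2, 1, 3, 2, 6, 7, 8, 7, 6, 2, 6, 7, 6, 3, 1, 2, 1],
  [151, 2, 6, 7, 8, 7, 6, 2, 6, 7, 6, 4, 5, 4, 3, 1, 2, 1],
  [152, 4, 5, 4, 3, 1, 2, 1, 6, 7, 6, 4, 5, 4, 3, 1, 2, 1],
  [153, 2, 6, 7, 8, 7, 6, 2, 6, 7, 6, 4, 5, 4],
  [155, 3, 4, 5, 4, 2, 6, 7, 8, 7, 6, 2, 4, 5, 4, 3, 1, 2, 1],
  [156, 6, 7, 6, 2, 3, 4, 3, 6, 7, 8, 7, 6, 2, 1, 2, 1, 6, 7, 6],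
  [157, 6, 7, 6, 3, 1, 2, 1],
  [158, 2, 3, 4, 3, 6, 7, 8, 7, 6, 2, 1, 2, 1, 6, 7, 6, 4, 5, 4, 1, 2, 1],
  [159, 2, 6, 7, 8, 7, 6, 3, 4, 3, 2, 3, 2, 6, 7, 8, 7, 6, 2, 6, 7, 6, 3, 1, 2, 1],
  [161, 2, 6, 7, 8, 7, 6, 2, 3, 4, 5, 4, 3, 1, 2, 1],
  [162, 6, 7, 6],
  [163, 2, 6, 7, 8, 7, 6, 3, 4, 3, 2, 4, 5, 4],
  [164, 3, 4, 5, 4, 3, 2, 6, 7, 8, 7, 6, 2, 1, 2, 1, 6, 7, 6, 4, 5, 4],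
  [167, 1, 2, 1, 6, 7, 6, 3, 4, 5, 4],
  [169, 2, 3, 4, 3, 2, 3, 4, 5, 4, 3, 2, 6, 7, 8, 7, 6, 2, 4, 5, 4],
  [170, 1, 2, 1, 3, 4, 5, 4, 2, 6, 7, 8, 7, 6, 2, 1, 2, 1],
  [171, 2, 6, 7, 8, 7, 6, 3, 4, 3, 2, 6, 7, 6, 3, 4, 5, 4],
  [174, 2, 3, 4, 3, 6, 7, 8, 7, 6, 2, 1, 2, 1, 3, 4, 5, 4],
  [175, 1, 2, 1, 3, 4, 5, 4, 3, 2, 6, 7, 8, 7, 6, 2, 6, 7, 6, 4, 5, 4],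
  [176, 4, 5, 4, 3, 1, 2, 1, 6, 7, 6, 2, 3, 4, 3, 6, 7, 8, 7, 6, 2, 3, 1, 2, 1],
  [177, 6, 7, 6, 2, 3, 4, 3, 6, 7, 8, 7, 6, 2, 6, 7, 6, 2, 3, 4, 3, 2, 6, 7, 6, 3, 4, 5, 4],
  [178, 3, 4, 5, 4, 3, 2, 6, 7, 8, 7, 6, 2, 6, 7, 6, 1, 2, 1],
  [179, 2, 3, 4, 3, 2, 3, 4, 5, 4, 2, 6, 7, 8, 7, 6, 2, 6, 7, 6, 1, 2, 1],
  [181, 2, 3, 4, 3, 6, 7, 8, 7, 6, 2, 4, 5, 4, 3, 2, 6, 7, 8, 7, 6, 2],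
  [182, 2, 3, 4, 3, 6, 7, 8, 7, 6, 2, 6, 7, 6, 3, 4, 5, 4],
  [183, 2, 3, 4, 3, 6, 7, 8, 7, 6, 2, 4, 5, 4, 1, 2, 1, 3, 2, 6, 7, 8, 7, 6, 2],
  [184, 3, 2, 6, 7, 8, 7, 6, 3, 4, 3, 2, 1, 2, 1, 6, 7, 6],
  [186, 4, 5, 4, 2, 6, 7, 8, 7, 6, 2, 1, 2, 1, 6, 7, 6, 3, 1, 2, 1],
  [187, 2, 6, 7, 8, 7, 6, 3, 4, 3, 2, 4, 5, 4, 2, 6, 7, 8, 7, 6, 2, 1, 2, 1, 6, 7, 6, 1, 2, 1],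
  [188, 6, 7, 6, 3, 4, 5, 4, 1, 2, 1],
  [189, 6, 7, 6, 2, 3, 4, 3, 2],
  [190, 2, 6, 7, 8, 7, 6, 3, 4, 3, 2, 6, 7, 6, 4, 5, 4, 1, 2, 1, 3, 2, 6, 7, 8, 7, 6, 2, 1, 2, 1],
  [191, 1, 2, 1, 6, 7, 6, 2, 3, 4, 3, 2, 3, 2, 6, 7, 8, 7, 6, 2, 1, 2, 1, 6, 7, 6, 1, 2, 1],
  [193, 2, 3, 4, 3, 6, 7, 8, 7, 6, 2, 4, 5, 4],
  [194, 4, 5, 4, 3, 1, 2, 1, 6, 7, 6, 3, 4, 5, 4],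
  [195, 3, 1, 2, 1, 6, 7, 6, 1, 2, 1, 3, 4, 5, 4, 3, 1, 2, 1],
  [196, 6, 7, 6, 2, 3, 4, 3, 2, 3, 2, 6, 7, 8, 7, 6, 2, 1, 2, 1, 6, 7, 6, 1, 2, 1],
  [198, 1, 2, 1, 3, 2, 6, 7, 8, 7, 6, 2, 1, 2, 1],
  [199, 4, 5, 4, 2, 6, 7, 8, 7, 6, 2, 1, 2, 1, 6, 7, 6],
  [201, 4, 5, 4, 3, 2, 6, 7, 8, 7, 6, 3, 4, 3, 2, 6, 7, 6, 1, 2, 1, 3, 2, 6, 7, 8, 7, 6, 2, 1, 2, 1],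
  [203, 4, 5, 4, 2, 6, 7, 8, 7, 6, 3, 4, 3, 2, 6, 7, 6, 1, 2, 1, 3, 4, 5, 4, 1, 2, 1],
  [204, 2, 6, 7, 8, 7, 6, 3, 4, 3, 2, 3, 2, 6, 7, 8, 7, 6, 2, 6, 7, 6, 1, 2, 1],
  [206, 4, 5, 4, 3, 1, 2, 1, 6, 7, 6, 3, 4, 5, 4, 1, 2, 1],
  [208, 1, 2, 1, 3, 2, 6, 7, 8, 7, 6, 2, 6, 7, 6, 4, 5, 4],
  [209, 3, 2, 6, 7, 8, 7, 6, 3, 4, 3, 2, 3, 4, 5, 4],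
  [211, 6, 7, 6, 2, 3, 4, 3, 6, 7, 8, 7, 6, 3, 4, 3, 2, 3, 4, 5, 4],
  [213, 2, 6, 7, 8, 7, 6, 3, 4, 3, 2, 3, 4, 5, 4, 3, 2, 6, 7, 8, 7, 6, 2, 6, 7, 6, 1, 2, 1],
  [214, 4, 5, 4, 2, 6, 7, 8, 7, 6, 3, 4, 3, 2, 3, 2, 6, 7, 8, 7, 6, 2, 6, 7, 6],
  [215, 2, 3, 4, 3, 2, 6, 7, 6, 1, 2, 1, 3, 4, 5, 4],
  [218, 2, 3, 4, 3, 2, 6, 7, 6, 4, 5, 4, 1, 2, 1, 3, 2, 6, 7, 8, 7, 6, 2],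
  [219, 3, 4, 5, 4, 3, 2, 6, 7, 8, 7, 6, 2, 1, 2, 1],
  [220, 2, 3, 4, 3, 6, 7, 8, 7, 6, 3, 4, 3, 2, 1, 2, 1, 6, 7, 6],
  [221, 2, 3, 4, 3, 6, 7, 8, 7, 6, 3, 4, 3, 2, 4, 5, 4, 3, 1, 2, 1, 6, 7, 6],
  [222, 6, 7, 6, 2, 3, 4, 3, 2, 4, 5, 4, 2, 6, 7, 8, 7, 6, 2, 6, 7, 6, 4, 5, 4, 1, 2, 1],
  [224, 2, 3, 4, 3, 2, 1, 2, 1, 3, 2, 6, 7, 8, 7, 6, 2, 1, 2, 1, 6, 7, 6, 1, 2, 1],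
  [226, 4, 5, 4, 2, 6, 7, 8, 7, 6, 2, 1, 2, 1, 6, 7, 6, 1, 2, 1],
  [227, 2, 3, 4, 3, 2, 1, 2, 1],
  [228, 6, 7, 6, 2, 3, 4, 3, 2, 3, 2, 6, 7, 8, 7, 6, 2, 6, 7, 6, 3, 1, 2, 1],
  [229, 4, 5, 4, 3, 2, 6, 7, 8, 7, 6, 3, 4, 3, 2, 6, 7, 6],
  [230, 4, 5, 4, 2, 6, 7, 8, 7, 6, 2, 1, 2, 1],
  [232, 6, 7, 6, 1, 2, 1, 3, 4, 5, 4, 2, 6, 7, 8, 7, 6, 3, 4, 3, 2, 3, 1, 2, 1],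
  [233, 2, 3, 4, 3, 6, 7, 8, 7, 6, 2, 3, 1, 2, 1],
  [234, 2, 6, 7, 8, 7, 6, 2, 3, 4, 5, 4, 3, 2, 6, 7, 8, 7, 6, 2],
  [235, 4, 5, 4, 3, 1, 2, 1, 6, 7, 6, 1, 2, 1, 3, 4, 5, 4],
  [236, 3, 4, 5, 4, 1, 2, 1, 3, 2, 6, 7, 8, 7, 6, 2, 6, 7, 6, 4, 5, 4],
  [237, 3, 1, 2, 1, 6, 7, 6, 3, 4, 5, 4, 3, 1, 2, 1],
  [239, 3, 4, 5, 4, 2, 6, 7, 8, 7, 6, 2, 6, 7, 6, 4, 5, 4, 1, 2, 1],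
  [240, 1, 2, 1, 3, 4, 5, 4, 2, 6, 7, 8, 7, 6, 3, 4, 3, 2, 3, 1, 2, 1],
  [242, 6, 7, 6, 1, 2, 1, 3, 4, 5, 4, 1, 2, 1],
  [244, 3, 4, 5, 4, 2, 6, 7, 8, 7, 6, 2, 4, 5, 4, 1, 2, 1],
  [245, 3, 2, 6, 7, 8, 7, 6, 2, 1, 2, 1, 6, 7, 6, 3, 1, 2, 1],
  [247, 3, 2, 6, 7, 8, 7, 6, 2, 4, 5, 4],
  [249, 6, 7, 6, 2, 3, 4, 3, 6, 7, 8, 7, 6, 3, 4, 3, 2, 1, 2, 1, 6, 7, 6],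
  [250, 2, 3, 4, 3, 2, 3, 2, 6, 7, 8, 7, 6, 2, 6, 7, 6, 3, 1, 2, 1],
  [251, 3, 1, 2, 1, 6, 7, 6, 4, 5, 4, 3, 1, 2, 1],
  [254, 3, 4, 5, 4, 2, 6, 7, 8, 7, 6, 2, 4, 5, 4, 3, 1, 2, 1, 6, 7, 6],
  [255, 6, 7, 6, 1, 2, 1, 3, 2, 6, 7, 8, 7, 6, 2, 1, 2, 1],
  [256, 3, 2, 6, 7, 8, 7, 6, 3, 4, 3, 2, 4, 5, 4, 1, 2, 1],
  [257, 6, 7, 6, 2, 3, 4, 3, 6, 7, 8, 7, 6, 2, 6, 7, 6, 3, 4, 5, 4],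
  [258, 4, 5, 4, 3, 2, 6, 7, 8, 7, 6, 2, 1, 2, 1, 6, 7, 6, 4, 5, 4, 1, 2, 1],
  [260, 1, 2, 1, 3, 4, 5, 4, 3, 2, 6, 7, 8, 7, 6, 2, 1, 2, 1],
  [262, 2, 3, 4, 3, 6, 7, 8, 7, 6, 2, 6, 7, 6, 2, 3, 4, 3, 2, 6, 7, 6, 3, 4, 5, 4],
  [263, 6, 7, 6, 2, 3, 4, 3, 2, 6, 7, 6, 1, 2, 1, 3, 4, 5, 4],
  [264, 2, 3, 4, 3, 2, 3, 4, 5, 4, 2, 6, 7, 8, 7, 6, 2, 4, 5, 4],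
  [265, 2, 6, 7, 8, 7, 6, 3, 4, 3, 2, 6, 7, 6, 1, 2, 1, 3, 2, 6, 7, 8, 7, 6, 2, 6, 7, 6],
  [266, 1, 2, 1, 3, 2, 6, 7, 8, 7, 6, 2, 6, 7, 6, 1, 2, 1],
  [268, 2, 6, 7, 8, 7, 6, 3, 4, 3, 2, 3, 4, 5, 4, 2, 6, 7, 8, 7, 6, 2, 6, 7, 6],
  [269, 3, 4, 5, 4, 2, 6, 7, 8, 7, 6, 2, 1, 2, 1, 6, 7, 6, 2, 3, 4, 3, 2, 3, 4, 5, 4],
  [270, 3, 2, 6, 7, 8, 7, 6, 2, 3, 1, 2, 1, 6, 7, 6],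
  [271, 2, 3, 4, 3, 2],
  [272, 3, 2, 6, 7, 8, 7, 6, 2, 6, 7, 6, 2, 3, 4, 3, 2, 3, 4, 5, 4],
  [273, 3, 4, 5, 4, 1, 2, 1],
  [275, 1, 2, 1, 6, 7, 6, 2, 3, 4, 3, 6, 7, 8, 7, 6, 2, 3, 1, 2, 1],
  [276, 4, 5, 4, 3, 2, 6, 7, 8, 7, 6, 2, 6, 7, 6, 2, 3, 4, 3, 2, 6, 7, 6],
  [278, 2, 3, 4, 3, 2, 1, 2, 1, 6, 7, 6, 4, 5, 4],
  [280, 2, 3, 4, 3, 2, 4, 5, 4, 2, 6, 7, 8, 7, 6, 2, 6, 7, 6, 4, 5, 4, 1, 2, 1],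
  [281, 3, 2, 6, 7, 8, 7, 6, 2, 6, 7, 6, 4, 5, 4],
  [283, 3, 1, 2, 1, 6, 7, 6, 2, 3, 4, 3, 2, 4, 5, 4, 2, 6, 7, 8, 7, 6, 2, 3, 1, 2, 1],
  [285, 2, 3, 4, 3, 6, 7, 8, 7, 6, 2, 3, 1, 2, 1, 6, 7, 6],
  [286, 6, 7, 6, 2, 3, 4, 3, 6, 7, 8, 7, 6, 2, 3, 1, 2, 1],
  [287, 1, 2, 1, 3, 4, 5, 4, 1, 2, 1],
  [290, 4, 5, 4, 2, 6, 7, 8, 7, 6, 2, 6, 7, 6, 1, 2, 1],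
  [291, 2, 3, 4, 3, 2, 3, 2, 6, 7, 8, 7, 6, 2, 1, 2, 1, 6, 7, 6, 1, 2, 1],
  [292, 3, 2, 6, 7, 8, 7, 6, 2, 3, 1, 2, 1, 6, 7, 6, 1, 2, 1],
  [293, 2, 6, 7, 8, 7, 6, 2, 6, 7, 6, 2, 3, 4, 3, 2, 4, 5, 4, 2, 6, 7, 8, 7, 6, 2, 1, 2, 1, 6, 7, 6, 1, 2, 1],
  [294, 2, 3, 4, 3, 2, 4, 5, 4, 3, 2, 6, 7, 8, 7, 6, 2, 4, 5, 4],
  [296, 6, 7, 6, 1, 2, 1, 3, 2, 6, 7, 8, 7, 6, 2, 6, 7, 6, 1, 2, 1],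
  [298, 1, 2, 1, 3, 4, 5, 4, 2, 6, 7, 8, 7, 6, 2, 4, 5, 4, 3, 1, 2, 1, 6, 7, 6],
  [299, 4, 5, 4, 3, 1, 2, 1, 6, 7, 6, 1, 2, 1, 3, 4, 5, 4, 1, 2, 1],
  [300, 1, 2, 1, 3, 4, 5, 4, 1, 2, 1, 3, 2, 6, 7, 8, 7, 6, 2, 6, 7, 6, 4, 5, 4],
  [301, 2, 3, 4, 3, 2, 4, 5, 4, 3, 2, 6, 7, 8, 7, 6, 3, 4, 3, 2, 4, 5, 4],
  [302, 2, 3, 4, 3, 2, 3, 2, 6, 7, 8, 7, 6, 2, 6, 7, 6],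
  [304, 2, 6, 7, 8, 7, 6, 2, 6, 7, 6, 2, 3, 4, 3, 2, 6, 7, 6, 1, 2, 1, 3, 2, 6, 7, 8, 7, 6, 2, 6, 7, 6],
  [305, 2, 3, 4, 3, 2, 3, 2, 6, 7, 8, 7, 6, 2, 1, 2, 1, 6, 7, 6, 4, 5, 4, 1, 2, 1],
  [306, 2, 6, 7, 8, 7, 6, 3, 4, 3, 2, 6, 7, 6, 1, 2, 1, 3, 2, 6, 7, 8, 7, 6, 2],
  [307, 1, 2, 1, 6, 7, 6, 2, 3, 4, 3, 2, 6, 7, 6, 1, 2, 1, 3, 4, 5, 4],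
  [308, 2, 3, 4, 3, 6, 7, 8, 7, 6, 3, 4, 3, 2, 3, 4, 5, 4],
  [309, 2, 3, 4, 3, 2, 1, 2, 1, 6, 7, 6, 1, 2, 1, 3, 4, 5, 4],
  [311, 4, 5, 4, 3, 2, 6, 7, 8, 7, 6, 2, 1, 2, 1, 6, 7, 6, 4, 5, 4],
  [312, 6, 7, 6, 2, 3, 4, 3, 2, 6, 7, 6, 3, 4, 5, 4],
  [313, 4, 5, 4, 2, 6, 7, 8, 7, 6, 2, 3, 4, 5, 4],
  [315, 2, 6, 7, 8, 7, 6, 2, 3, 4, 5, 4, 3, 2, 6, 7, 8, 7, 6, 2, 6, 7, 6, 1, 2, 1],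
  [317, 4, 5, 4, 2, 6, 7, 8, 7, 6, 3, 4, 3, 2, 3, 4, 5, 4],
  [318, 2, 6, 7, 8, 7, 6, 2, 3, 1, 2, 1, 6, 7, 6, 4, 5, 4, 1, 2, 1],
  [319, 6, 7, 6, 2, 3, 4, 3, 6, 7, 8, 7, 6, 2, 6, 7, 6, 4, 5, 4, 1, 2, 1],
  [320, 2, 3, 4, 3, 2, 4, 5, 4, 3, 1, 2, 1],
  [322, 2, 3, 4, 3, 2, 6, 7, 6, 1, 2, 1, 3, 2, 6, 7, 8, 7, 6, 2, 3, 1, 2, 1],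
  [324, 3, 2, 6, 7, 8, 7, 6, 3, 4, 3, 2, 6, 7, 6],
  [325, 6, 7, 6, 2, 3, 4, 3, 2, 4, 5, 4, 2, 6, 7, 8, 7, 6, 2, 6, 7, 6, 3, 1, 2, 1],
  [326, 2, 6, 7, 8, 7, 6, 3, 4, 3, 2, 6, 7, 6],
  [327, 2, 3, 4, 3, 2, 3, 4, 5, 4, 3, 1, 2, 1],
  [329, 2, 3, 4, 3, 2, 6, 7, 6, 3, 4, 5, 4, 1, 2, 1, 3, 2, 6, 7, 8, 7, 6, 2, 1, 2, 1],
  [331, 3, 4, 5, 4, 2, 6, 7, 8, 7, 6, 2, 6, 7, 6],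
  [332, 6, 7, 6, 2, 3, 4, 3, 2, 4, 5, 4, 2, 6, 7, 8, 7, 6, 3, 4, 3, 2, 3, 1, 2, 1],
  [333, 1, 2, 1, 3, 2, 6, 7, 8, 7, 6, 2, 3, 1, 2, 1],
  [336, 2, 6, 7, 8, 7, 6, 2, 6, 7, 6, 4, 5, 4, 1, 2, 1],
  [337, 3, 1, 2, 1, 6, 7, 6, 3, 4, 5, 4, 1, 2, 1],
  [338, 3, 4, 5, 4, 2, 6, 7, 8, 7, 6, 2, 3, 4, 5, 4],
  [339, 6, 7, 6, 2, 3, 4, 3, 2, 3, 4, 5, 4, 2, 6, 7, 8, 7, 6, 3, 4, 3, 2, 3, 1, 2, 1],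
  [340, 4, 5, 4, 3, 1, 2, 1, 6, 7, 6],
  [341, 2, 3, 4, 3, 2, 4, 5, 4, 2, 6, 7, 8, 7, 6, 2, 3, 1, 2, 1],
  [343, 4, 5, 4, 2, 6, 7, 8, 7, 6, 2, 1, 2, 1, 6, 7, 6, 4, 5, 4, 3, 1, 2, 1],
  [344, 6, 7, 6, 2, 3, 4, 3, 2, 1, 2, 1, 3, 2, 6, 7, 8, 7, 6, 2, 3, 1, 2, 1],
  [345, 2, 3, 4, 3, 2, 6, 7, 6, 4, 5, 4, 1, 2, 1, 3, 2, 6, 7, 8, 7, 6, 2, 1, 2, 1],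
  [346, 2, 6, 7, 8, 7, 6, 2, 1, 2, 1],
  [348, 2, 6, 7, 8, 7, 6, 2, 1, 2, 1, 6, 7, 6, 3, 4, 5, 4, 3, 1, 2, 1],
  [350, 2, 3, 4, 3, 2, 4, 5, 4, 3, 1, 2, 1, 6, 7, 6],
  [351, 2, 6, 7, 8, 7, 6, 2, 6, 7, 6, 2, 3, 4, 3, 2, 6, 7, 6],
  [352, 2, 6, 7, 8, 7, 6, 2, 3, 1, 2, 1, 6, 7, 6, 4, 5, 4],
  [353, 3, 4, 5, 4, 1, 2, 1, 3, 2, 6, 7, 8, 7, 6, 2, 1, 2, 1],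
  [354, 6, 7, 6, 4, 5, 4, 1, 2, 1, 3, 2, 6, 7, 8, 7, 6, 2, 1, 2, 1],
  [355, 1, 2, 1, 3, 2, 6, 7, 8, 7, 6, 3, 4, 3, 2, 4, 5, 4],
  [357, 2, 6, 7, 8, 7, 6, 2, 1, 2, 1, 6, 7, 6, 2, 3, 4, 3, 2, 4, 5, 4, 2, 6, 7, 8, 7, 6, 2, 3, 1, 2, 1],
  [359, 1, 2, 1, 3, 2, 6, 7, 8, 7, 6, 2, 6, 7, 6],
  [360, 2, 3, 4, 3, 2, 6, 7, 6, 1, 2, 1, 3, 2, 6, 7, 8, 7, 6, 2, 6, 7, 6],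
  [361, 3, 4, 5, 4, 2, 6, 7, 8, 7, 6, 2, 3, 1, 2, 1, 6, 7, 6, 1, 2, 1],
  [362, 2, 3, 4, 3, 2, 6, 7, 6, 3, 4, 5, 4],
  [364, 6, 7, 6, 4, 5, 4],
  [365, 2, 3, 4, 3, 2, 1, 2, 1, 3, 2, 6, 7, 8, 7, 6, 2, 3, 1, 2, 1],
  [366, 1, 2, 1, 6, 7, 6, 2, 3, 4, 3, 6, 7, 8, 7, 6, 3, 4, 3, 2, 3, 1, 2, 1],
  [367, 2, 3, 4, 3, 2, 3, 4, 5, 4, 2, 6, 7, 8, 7, 6, 2, 6, 7, 6],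
  [368, 6, 7, 6, 4, 5, 4, 3, 1, 2, 1],
  [369, 2, 3, 4, 3, 2, 3, 4, 5, 4, 2, 6, 7, 8, 7, 6, 3, 4, 3, 2, 3, 1, 2, 1],
  [370, 2, 3, 4, 3, 2, 4, 5, 4],
  [372, 6, 7, 6, 1, 2, 1, 3, 2, 6, 7, 8, 7, 6, 2, 3, 1, 2, 1],
  [374, 3, 4, 5, 4, 3, 1, 2, 1],
  [375, 2, 3, 4, 3, 6, 7, 8, 7, 6, 2, 6, 7, 6, 1, 2, 1],
  [376, 2, 6, 7, 8, 7, 6, 2, 4, 5, 4, 1, 2, 1],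
  [378, 6, 7, 6, 2, 3, 4, 3, 2, 4, 5, 4],
  [379, 2, 3, 4, 3, 2, 4, 5, 4, 2, 6, 7, 8, 7, 6, 3, 4, 3, 2, 3, 1, 2, 1],
  [380, 3, 4, 5, 4, 2, 6, 7, 8, 7, 6, 2],
  [381, 6, 7, 6, 1, 2, 1, 3, 2, 6, 7, 8, 7, 6, 2, 1, 2, 1, 6, 7, 6],
  [382, 2, 3, 4, 3, 2, 4, 5, 4, 2, 6, 7, 8, 7, 6, 2, 6, 7, 6],
  [383, 2, 6, 7, 8, 7, 6, 3, 4, 3, 2, 4, 5, 4, 2, 6, 7, 8, 7, 6, 2, 6, 7, 6, 4, 5, 4, 1, 2, 1],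
  [385, 6, 7, 6, 3, 4, 5, 4, 3, 1, 2, 1],
  [387, 2, 3, 4, 3, 2, 6, 7, 6, 1, 2, 1, 3, 2, 6, 7, 8, 7, 6, 2, 1, 2, 1, 6, 7, 6],
  [388, 1, 2, 1, 3, 4, 5, 4, 3, 2, 6, 7, 8, 7, 6, 2],
  [389, 4, 5, 4, 2, 6, 7, 8, 7, 6, 3, 4, 3, 2, 3, 1, 2, 1],
  [390, 4, 5, 4, 3, 1, 2, 1, 6, 7, 6, 1, 2, 1],
  [392, 2, 3, 4, 3, 2, 3, 4, 5, 4],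
  [393, 4, 5, 4, 2, 6, 7, 8, 7, 6, 2, 6, 7, 6, 2, 3, 4, 3, 2, 3, 4, 5, 4],
  [394, 2, 3, 4, 3, 2, 4, 5, 4, 2, 6, 7, 8, 7, 6, 2, 6, 7, 6, 3, 4, 5, 4],
  [395, 6, 7, 6, 2, 3, 4, 3, 2, 6, 7, 6, 1, 2, 1, 3, 2, 6, 7, 8, 7, 6, 2, 6, 7, 6],
  [396, 3, 4, 5, 4],
  [397, 4, 5, 4, 2, 6, 7, 8, 7, 6, 2, 6, 7, 6, 3, 4, 5, 4],
  [398, 3, 1, 2, 1, 6, 7, 6, 3, 1, 2, 1],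
  [400, 2, 3, 4, 3, 2, 4, 5, 4, 2, 6, 7, 8, 7, 6, 2, 6, 7, 6, 3, 1, 2, 1],
  [402, 2, 3, 4, 3, 2, 4, 5, 4, 3, 1, 2, 1, 6, 7, 6, 4, 5, 4],
  [403, 4, 5, 4, 1, 2, 1, 3, 2, 6, 7, 8, 7, 6, 2, 1, 2, 1],
  [404, 6, 7, 6, 2, 3, 4, 3, 2, 4, 5, 4, 2, 6, 7, 8, 7, 6, 2, 3, 1, 2, 1],
  [406, 4, 5, 4, 3, 1, 2, 1],
  [407, 3, 4, 5, 4, 2, 6, 7, 8, 7, 6, 2, 6, 7, 6, 3, 4, 5, 4],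
  [408, 2, 6, 7, 8, 7, 6, 2, 6, 7, 6, 1, 2, 1],
  [409, 2, 3, 4, 3, 2, 3, 2, 6, 7, 8, 7, 6, 2, 6, 7, 6, 1, 2, 1],
  [410, 2, 3, 4, 3, 6, 7, 8, 7, 6, 2, 3, 1, 2, 1, 6, 7, 6, 4, 5, 4, 1, 2, 1],
  [411, 2, 3, 4, 3, 2, 3, 2, 6, 7, 8, 7, 6, 3, 4, 3, 2, 6, 7, 6],
  [413, 4, 5, 4],
  [415, 1, 2, 1, 3, 4, 5, 4, 1, 2, 1, 3, 2, 6, 7, 8, 7, 6, 2],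
  [416, 1, 2, 1, 3, 2, 6, 7, 8, 7, 6, 2, 1, 2, 1, 6, 7, 6],
  [417, 2, 6, 7, 8, 7, 6, 2, 6, 7, 6, 2, 3, 4, 3, 2, 4, 5, 4, 2, 6, 7, 8, 7, 6, 2, 6, 7, 6, 4, 5, 4, 1, 2, 1],
  [418, 3, 1, 2, 1, 6, 7, 6, 1, 2, 1, 3, 4, 5, 4, 1, 2, 1],
  [420, 1, 2, 1, 6, 7, 6, 3, 1, 2, 1],
  [421, 2, 3, 4, 3, 6, 7, 8, 7, 6, 2, 6, 7, 6, 4, 5, 4, 1, 2, 1],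
  [422, 6, 7, 6, 1, 2, 1, 3, 2, 6, 7, 8, 7, 6, 3, 4, 3, 2, 4, 5, 4],
  [423, 6, 7, 6, 3, 4, 5, 4, 1, 2, 1, 3, 2, 6, 7, 8, 7, 6, 2, 1, 2, 1],
  [424, 2, 3, 4, 3, 2, 1, 2, 1, 6, 7, 6, 1, 2, 1, 3, 4, 5, 4, 1, 2, 1],
  [425, 3, 2, 6, 7, 8, 7, 6, 2, 6, 7, 6, 2, 3, 4, 3, 2, 6, 7, 6],
  [426, 6, 7, 6, 3, 4, 5, 4],
  [428, 2, 6, 7, 8, 7, 6, 2, 3, 4, 5, 4, 3, 2, 6, 7, 8, 7, 6, 2, 1, 2, 1],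
  [430, 6, 7, 6, 2, 3, 4, 3, 2, 3, 4, 5, 4],
  [431, 6, 7, 6, 1, 2, 1, 3, 2, 6, 7, 8, 7, 6, 2, 6, 7, 6],
  [432, 1, 2, 1, 3, 2, 6, 7, 8, 7, 6, 2],
  [433, 6, 7, 6, 4, 5, 4, 1, 2, 1, 3, 2, 6, 7, 8, 7, 6, 2],
  [434, 2, 3, 4, 3, 6, 7, 8, 7, 6, 3, 4, 3, 2, 6, 7, 6, 3, 4, 5, 4],
  [435, 6, 7, 6, 2, 3, 4, 3, 6, 7, 8, 7, 6, 2, 6, 7, 6, 2, 3, 4, 3, 2, 3, 4, 5, 4],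
  [436, 3, 4, 5, 4, 3, 2, 6, 7, 8, 7, 6, 2, 4, 5, 4],
  [437, 3, 4, 5, 4, 2, 6, 7, 8, 7, 6, 2, 6, 7, 6, 4, 5, 4],
  [438, 6, 7, 6, 4, 5, 4, 1, 2, 1],
  [439, 2, 6, 7, 8, 7, 6, 2, 3, 1, 2, 1],
  [441, 2, 6, 7, 8, 7, 6, 2, 3, 4, 5, 4, 2, 6, 7, 8, 7, 6, 2, 6, 7, 6],
  [443, 6, 7, 6, 2, 3, 4, 3, 6, 7, 8, 7, 6, 2, 4, 5, 4, 3, 1, 2, 1, 6, 7, 6],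
  [444, 2, 6, 7, 8, 7, 6, 2],
  [445, 4, 5, 4, 2, 6, 7, 8, 7, 6, 2, 1, 2, 1, 6, 7, 6, 4, 5, 4],
  [446, 6, 7, 6, 2, 3, 4, 3, 6, 7, 8, 7, 6, 2, 4, 5, 4, 3, 2, 6, 7, 8, 7, 6, 2, 4, 5, 4],
  [448, 1, 2, 1],
  [450, 6, 7, 6, 2, 3, 4, 3, 2, 4, 5, 4, 2, 6, 7, 8, 7, 6, 2, 4, 5, 4, 1, 2, 1],
  [451, 2, 6, 7, 8, 7, 6, 3, 4, 3, 2, 4, 5, 4, 2, 6, 7, 8, 7, 6, 2, 3, 1, 2, 1],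
  [452, 4, 5, 4, 2, 6, 7, 8, 7, 6, 2, 3, 4, 5, 4, 2, 6, 7, 8, 7, 6, 2],
  [453, 1, 2, 1, 6, 7, 6, 2, 3, 4, 3, 2, 4, 5, 4, 2, 6, 7, 8, 7, 6, 2, 6, 7, 6, 3, 1, 2, 1],
  [454, 2, 6, 7, 8, 7, 6, 3, 4, 3, 2, 1, 2, 1, 6, 7, 6],
  [455, 2, 3, 4, 3, 2, 4, 5, 4, 2, 6, 7, 8, 7, 6, 2, 1, 2, 1, 6, 7, 6, 1, 2, 1],
  [457, 4, 5, 4, 3, 2, 6, 7, 8, 7, 6, 2, 6, 7, 6, 1, 2, 1],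
  [458, 2, 3, 4, 3, 2, 6, 7, 6],
  [459, 2, 3, 4, 3, 2, 4, 5, 4, 2, 6, 7, 8, 7, 6, 2, 4, 5, 4, 3, 1, 2, 1, 6, 7, 6],
  [460, 6, 7, 6, 2, 3, 4, 3, 6, 7, 8, 7, 6, 2, 1, 2, 1, 6, 7, 6, 1, 2, 1],
  [462, 3, 1, 2, 1, 6, 7, 6, 4, 5, 4, 1, 2, 1],
  [464, 2, 6, 7, 8, 7, 6, 2, 1, 2, 1, 6, 7, 6, 4, 5, 4, 1, 2, 1],
  [465, 2, 3, 4, 3, 6, 7, 8, 7, 6, 3, 4, 3, 2, 4, 5, 4],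
  [466, 1, 2, 1, 6, 7, 6, 1, 2, 1, 3, 4, 5, 4, 3, 1, 2, 1],
  [467, 1, 2, 1, 3, 4, 5, 4, 2, 6, 7, 8, 7, 6, 2, 1, 2, 1, 6, 7, 6, 4, 5, 4],
  [469, 2, 6, 7, 8, 7, 6, 2, 3, 1, 2, 1, 6, 7, 6],
  [471, 2, 3, 4, 3, 6, 7, 8, 7, 6, 2, 4, 5, 4, 3, 2, 6, 7, 8, 7, 6, 2, 4, 5, 4],
  [472, 4, 5, 4, 1, 2, 1],
  [473, 3, 2, 6, 7, 8, 7, 6, 2, 6, 7, 6, 3, 4, 5, 4],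
  [476, 2, 6, 7, 8, 7, 6, 2, 3, 4, 5, 4, 2, 6, 7, 8, 7, 6, 2],
  [477, 2, 3, 4, 3, 2, 1, 2, 1, 3, 2, 6, 7, 8, 7, 6, 3, 4, 3, 2, 4, 5, 4, 3, 1, 2, 1, 6, 7, 6],
  [478, 3, 4, 5, 4, 3, 2, 6, 7, 8, 7, 6, 2, 6, 7, 6, 4, 5, 4],
  [480, 2, 3, 4, 3, 6, 7, 8, 7, 6, 2, 3, 4, 5, 4],
  [482, 6, 7, 6, 1, 2, 1, 3, 2, 6, 7, 8, 7, 6, 2],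
  [483, 2, 6, 7, 8, 7, 6, 2, 1, 2, 1, 6, 7, 6, 1, 2, 1, 3, 4, 5, 4],
  [484, 4, 5, 4, 3, 2, 6, 7, 8, 7, 6, 3, 4, 3, 2, 4, 5, 4],
  [485, 2, 6, 7, 8, 7, 6, 2, 1, 2, 1, 6, 7, 6, 4, 5, 4],
  [487, 2, 6, 7, 8, 7, 6, 2, 3, 1, 2, 1, 6, 7, 6, 2, 3, 4, 3, 2, 4, 5, 4, 2, 6, 7, 8, 7, 6, 2, 3, 1, 2, 1],
  [489, 2, 3, 4, 3, 2, 6, 7, 6, 1, 2, 1, 3, 2, 6, 7, 8, 7, 6, 2, 6, 7, 6, 1, 2, 1],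
  [491, 2, 6, 7, 8, 7, 6, 3, 4, 3, 2, 4, 5, 4, 1, 2, 1],
  [492, 1, 2, 1, 3, 4, 5, 4, 3, 2, 6, 7, 8, 7, 6, 2, 1, 2, 1, 6, 7, 6, 4, 5, 4],
  [493, 6, 7, 6, 2, 3, 4, 3, 2, 4, 5, 4, 2, 6, 7, 8, 7, 6, 2, 1, 2, 1, 6, 7, 6, 1, 2, 1],
  [494, 1, 2, 1, 3, 2, 6, 7, 8, 7, 6, 2, 6, 7, 6, 2, 3, 4, 3, 2, 6, 7, 6],
  [497, 3, 2, 6, 7, 8, 7, 6, 3, 4, 3, 2, 6, 7, 6, 1, 2, 1, 3, 2, 6, 7, 8, 7, 6, 2],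
  [499, 4, 5, 4, 2, 6, 7, 8, 7, 6, 2, 3, 4, 5, 4, 2, 6, 7, 8, 7, 6, 2, 6, 7, 6],
  [500, 2, 6, 7, 8, 7, 6, 2, 6, 7, 6, 2, 3, 4, 3, 2, 4, 5, 4, 2, 6, 7, 8, 7, 6, 2, 3, 1, 2, 1],
  [501, 3, 2, 6, 7, 8, 7, 6, 3, 4, 3, 2, 4, 5, 4],
  [504, 6, 7, 6, 1, 2, 1],
  [505, 2, 3, 4, 3, 6, 7, 8, 7, 6, 2, 1, 2, 1, 6, 7, 6, 4, 5, 4, 3, 1, 2, 1],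
  [506, 1, 2, 1, 6, 7, 6, 2, 3, 4, 3, 6, 7, 8, 7, 6, 2, 6, 7, 6, 3, 1, 2, 1],
  [508, 3, 2, 6, 7, 8, 7, 6, 3, 4, 3, 2, 4, 5, 4, 3, 1, 2, 1, 6, 7, 6],
  [510, 2, 3, 4, 3, 6, 7, 8, 7, 6, 2, 1, 2, 1, 6, 7, 6, 1, 2, 1],
  [511, 4, 5, 4, 3, 2, 6, 7, 8, 7, 6, 2, 6, 7, 6, 3, 4, 5, 4],
  [512, 4, 5, 4, 2, 6, 7, 8, 7, 6, 2, 1, 2, 1, 6, 7, 6, 1, 2, 1, 3, 4, 5, 4],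
  [513, 3, 4, 5, 4, 2, 6, 7, 8, 7, 6, 2, 4, 5, 4],
  [515, 6, 7, 6, 2, 3, 4, 3, 6, 7, 8, 7, 6, 2, 3, 4, 5, 4],
  [517, 4, 5, 4, 1, 2, 1, 3, 2, 6, 7, 8, 7, 6, 2],
  [519, 2, 6, 7, 8, 7, 6, 2, 3, 1, 2, 1, 6, 7, 6, 1, 2, 1],
  [520, 4, 5, 4, 2, 6, 7, 8, 7, 6, 2, 1, 2, 1, 6, 7, 6, 4, 5, 4, 1, 2, 1],
  [521, 2, 3, 4, 3, 6, 7, 8, 7, 6, 2, 4, 5, 4, 3, 1, 2, 1, 6, 7, 6],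
  [522, 2, 3, 4, 3, 2, 1, 2, 1, 3, 4, 5, 4, 2, 6, 7, 8, 7, 6, 3, 4, 3, 2, 3, 1, 2, 1],
  [525, 4, 5, 4, 3, 2, 6, 7, 8, 7, 6, 2, 3, 4, 5, 4],
  [527, 6, 7, 6, 2, 3, 4, 3, 2, 6, 7, 6],
  [528, 1, 2, 1, 6, 7, 6, 3, 4, 5, 4, 3, 1, 2, 1],
  [529, 3, 2, 6, 7, 8, 7, 6, 2, 3, 1, 2, 1, 6, 7, 6, 3, 1, 2, 1],
  [532, 3, 1, 2, 1, 6, 7, 6, 4, 5, 4],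
  [533, 4, 5, 4, 3, 2, 6, 7, 8, 7, 6, 2, 6, 7, 6, 2, 3, 4, 3, 2, 4, 5, 4],
  [534, 2, 3, 4, 3, 2, 4, 5, 4, 2, 6, 7, 8, 7, 6, 2, 4, 5, 4, 1, 2, 1],
  [536, 3, 2, 6, 7, 8, 7, 6, 2, 6, 7, 6, 2, 3, 4, 3, 2, 4, 5, 4],
  [538, 4, 5, 4, 3, 2, 6, 7, 8, 7, 6, 2, 1, 2, 1],
  [539, 2, 6, 7, 8, 7, 6, 2, 4, 5, 4, 3, 1, 2, 1, 6, 7, 6, 4, 5, 4, 3, 1, 2, 1],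
  [540, 2, 3, 4, 3, 6, 7, 8, 7, 6, 2, 4, 5, 4, 3, 1, 2, 1, 6, 7, 6, 3, 4, 5, 4, 3, 1, 2, 1],
  [541, 2, 6, 7, 8, 7, 6, 2, 6, 7, 6, 3, 1, 2, 1],
  [543, 3, 2, 6, 7, 8, 7, 6, 2, 3, 4, 5, 4],
  [545, 2, 6, 7, 8, 7, 6, 2, 6, 7, 6],
  [547, 2, 6, 7, 8, 7, 6, 2, 1, 2, 1, 6, 7, 6, 3, 4, 5, 4],
  [548, 2, 3, 4, 3, 6, 7, 8, 7, 6, 2, 6, 7, 6, 2, 3, 4, 3, 2, 3, 4, 5, 4],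
  [549, 6, 7, 6, 2, 3, 4, 3, 6, 7, 8, 7, 6, 3, 4, 3, 2, 6, 7, 6, 3, 4, 5, 4],
  [550, 4, 5, 4, 2, 6, 7, 8, 7, 6, 2, 1, 2, 1, 6, 7, 6, 3, 4, 5, 4],
  [553, 1, 2, 1, 6, 7, 6, 2, 3, 4, 3, 2, 1, 2, 1, 3, 4, 5, 4],
  [554, 2, 6, 7, 8, 7, 6, 3, 4, 3, 2, 4, 5, 4, 2, 6, 7, 8, 7, 6, 2, 6, 7, 6, 2, 3, 4, 3, 2, 3, 4, 5, 4],
  [555, 3, 2, 6, 7, 8, 7, 6, 2, 1, 2, 1, 6, 7, 6, 4, 5, 4, 1, 2, 1],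
  [556, 1, 2, 1, 3, 4, 5, 4, 2, 6, 7, 8, 7, 6, 2, 6, 7, 6, 4, 5, 4],
  [558, 2, 3, 4, 3, 6, 7, 8, 7, 6, 2, 3, 1, 2, 1, 6, 7, 6, 3, 1, 2, 1],
  [560, 2, 6, 7, 8, 7, 6, 3, 4, 3, 2, 3, 1, 2, 1, 6, 7, 6],
  [561, 6, 7, 6, 2, 3, 4, 3, 2, 4, 5, 4, 2, 6, 7, 8, 7, 6, 2, 1, 2, 1, 6, 7, 6],
  [562, 3, 4, 5, 4, 2, 6, 7, 8, 7, 6, 2, 1, 2, 1, 6, 7, 6, 4, 5, 4],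
  [563, 2, 3, 4, 3, 6, 7, 8, 7, 6, 3, 4, 3, 2, 4, 5, 4, 1, 2, 1],
  [564, 6, 7, 6, 1, 2, 1, 3, 4, 5, 4, 3, 1, 2, 1],
  [565, 3, 2, 6, 7, 8, 7, 6, 2, 3, 1, 2, 1],
  [567, 1, 2, 1, 6, 7, 6, 2, 3, 4, 3, 2, 4, 5, 4, 2, 6, 7, 8, 7, 6, 3, 4, 3, 2, 3, 1, 2, 1],
  [568, 6, 7, 6, 2, 3, 4, 3, 6, 7, 8, 7, 6, 2, 3, 1, 2, 1, 6, 7, 6, 3, 4, 5, 4, 1, 2, 1],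
  [569, 2, 3, 4, 3, 2, 3, 1, 2, 1, 6, 7, 6],
  [570, 4, 5, 4, 3, 2, 6, 7, 8, 7, 6, 2, 4, 5, 4],
  [571, 3, 4, 5, 4, 2, 6, 7, 8, 7, 6, 3, 4, 3, 2, 6, 7, 6, 1, 2, 1, 3, 4, 5, 4, 1, 2, 1],
  [573, 4, 5, 4, 2, 6, 7, 8, 7, 6, 2, 6, 7, 6, 4, 5, 4],
  [574, 1, 2, 1, 6, 7, 6, 2, 3, 4, 3, 6, 7, 8, 7, 6, 2, 4, 5, 4, 3, 2, 6, 7, 8, 7, 6, 2, 4, 5, 4],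
  [575, 4, 5, 4, 2, 6, 7, 8, 7, 6, 2, 6, 7, 6, 4, 5, 4, 3, 1, 2, 1],
  [576, 2, 3, 4, 3, 6, 7, 8, 7, 6, 2, 6, 7, 6, 3, 4, 5, 4, 3, 1, 2, 1],
  [579, 2, 6, 7, 8, 7, 6, 2, 4, 5, 4, 3, 2, 6, 7, 8, 7, 6, 2, 4, 5, 4],
  [581, 3, 1, 2, 1, 6, 7, 6, 2, 3, 4, 3, 2, 4, 5, 4, 2, 6, 7, 8, 7, 6, 2, 6, 7, 6, 3, 1, 2, 1],
  [582, 4, 5, 4, 1, 2, 1, 3, 2, 6, 7, 8, 7, 6, 2, 6, 7, 6, 1, 2, 1],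
  [583, 2, 3, 4, 3, 2, 4, 5, 4, 2, 6, 7, 8, 7, 6, 2, 6, 7, 6, 1, 2, 1],
  [586, 1, 2, 1, 3, 2, 6, 7, 8, 7, 6, 3, 4, 3, 2, 6, 7, 6],
  [587, 2, 6, 7, 8, 7, 6, 2, 6, 7, 6, 1, 2, 1, 3, 4, 5, 4, 3, 1, 2, 1],
  [588, 2, 3, 4, 3, 6, 7, 8, 7, 6, 2, 1, 2, 1, 6, 7, 6, 3, 1, 2, 1],
  [589, 4, 5, 4, 3, 1, 2, 1, 6, 7, 6, 1, 2, 1, 3, 4, 5, 4, 3, 1, 2, 1],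
  [590, 2, 6, 7, 8, 7, 6, 3, 4, 3, 2, 3, 1, 2, 1],
  [592, 4, 5, 4, 1, 2, 1, 3, 2, 6, 7, 8, 7, 6, 2, 6, 7, 6, 2, 3, 4, 3, 2, 4, 5, 4],
  [594, 3, 1, 2, 1, 6, 7, 6, 3, 4, 5, 4],
  [595, 6, 7, 6, 1, 2, 1, 3, 2, 6, 7, 8, 7, 6, 2, 1, 2, 1, 6, 7, 6, 1, 2, 1],
  [596, 2, 3, 4, 3, 2, 4, 5, 4, 2, 6, 7, 8, 7, 6, 2, 1, 2, 1, 6, 7, 6],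
  [597, 1, 2, 1, 3, 4, 5, 4, 2, 6, 7, 8, 7, 6, 2],
  [598, 2, 6, 7, 8, 7, 6, 2, 1, 2, 1, 6, 7, 6, 2, 3, 4, 3, 2, 3, 4, 5, 4],
  [599, 2, 6, 7, 8, 7, 6, 2, 4, 5, 4, 3, 2, 6, 7, 8, 7, 6, 2],
  [601, 3, 4, 5, 4, 2, 6, 7, 8, 7, 6, 2, 6, 7, 6, 1, 2, 1],
  [603, 1, 2, 1, 3, 4, 5, 4],
  [604, 6, 7, 6, 2, 3, 4, 3, 2, 3, 2, 6, 7, 8, 7, 6, 2, 1, 2, 1, 6, 7, 6],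
  [606, 2, 3, 4, 3, 6, 7, 8, 7, 6, 2, 6, 7, 6],
  [608, 2, 6, 7, 8, 7, 6, 2, 4, 5, 4, 3, 1, 2, 1, 6, 7, 6, 3, 4, 5, 4, 3, 1, 2, 1],
  [609, 2, 6, 7, 8, 7, 6, 2, 4, 5, 4, 3, 2, 6, 7, 8, 7, 6, 2, 6, 7, 6, 4, 5, 4],
  [610, 2, 6, 7, 8, 7, 6, 3, 4, 3, 2, 6, 7, 6, 1, 2, 1, 3, 4, 5, 4, 1, 2, 1],
  [611, 2, 3, 4, 3, 2, 3, 1, 2, 1, 6, 7, 6, 4, 5, 4],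
  [612, 4, 5, 4, 2, 6, 7, 8, 7, 6, 2, 4, 5, 4],
  [613, 4, 5, 4, 2, 6, 7, 8, 7, 6, 2, 4, 5, 4, 3, 1, 2, 1],
  [614, 2, 6, 7, 8, 7, 6, 2, 1, 2, 1, 6, 7, 6],
  [615, 4, 5, 4, 3, 1, 2, 1, 6, 7, 6, 3, 1, 2, 1],
  [616, 1, 2, 1, 6, 7, 6, 2, 3, 4, 3, 2, 3, 2, 6, 7, 8, 7, 6, 2, 3, 1, 2, 1],
  [617, 2, 3, 4, 3, 2, 3, 1, 2, 1],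
  [618, 2, 3, 4, 3, 6, 7, 8, 7, 6, 3, 4, 3, 2, 3, 4, 5, 4, 2, 6, 7, 8, 7, 6, 2, 6, 7, 6],
  [620, 2, 3, 4, 3, 2, 3, 2, 6, 7, 8, 7, 6, 3, 4, 3, 2, 4, 5, 4, 3, 1, 2, 1, 6, 7, 6],
  [622, 2, 3, 4, 3, 2, 3, 4, 5, 4, 1, 2, 1],
  [623, 2, 3, 4, 3, 2, 1, 2, 1, 3, 2, 6, 7, 8, 7, 6, 2, 6, 7, 6, 1, 2, 1],
  [624, 2, 3, 4, 3, 6, 7, 8, 7, 6, 2, 3, 1, 2, 1, 6, 7, 6, 3, 4, 5, 4, 1, 2, 1],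
  [625, 2, 6, 7, 8, 7, 6, 2, 1, 2, 1, 6, 7, 6, 1, 2, 1],
  [626, 2, 6, 7, 8, 7, 6, 2, 1, 2, 1, 3, 4, 5, 4, 3, 1, 2, 1],
  [627, 1, 2, 1, 6, 7, 6],
  [629, 2, 3, 4, 3, 2, 6, 7, 6, 3, 4, 5, 4, 1, 2, 1, 3, 2, 6, 7, 8, 7, 6, 2],
  [631, 2, 3, 4, 3, 2, 6, 7, 6, 1, 2, 1, 3, 4, 5, 4, 1, 2, 1],
  [632, 4, 5, 4, 3, 2, 6, 7, 8, 7, 6, 2, 6, 7, 6],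
  [634, 3, 4, 5, 4, 2, 6, 7, 8, 7, 6, 2, 1, 2, 1],
  [636, 2, 6, 7, 8, 7, 6, 2, 6, 7, 6, 1, 2, 1, 3, 4, 5, 4],
  [637, 1, 2, 1, 6, 7, 6, 2, 3, 4, 3, 2, 3, 4, 5, 4],
  [638, 2, 6, 7, 8, 7, 6, 2, 1, 2, 1, 6, 7, 6, 4, 5, 4, 3, 1, 2, 1],
  [639, 4, 5, 4, 3, 1, 2, 1, 6, 7, 6, 3, 4, 5, 4, 3, 1, 2, 1],
  [640, 3, 2, 6, 7, 8, 7, 6, 2, 6, 7, 6, 3, 1, 2, 1],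
  [641, 6, 7, 6, 2, 3, 4, 3, 6, 7, 8, 7, 6, 3, 4, 3, 2, 4, 5, 4, 1, 2, 1],
  [642, 2, 3, 4, 3, 2, 6, 7, 6, 1, 2, 1, 3, 2, 6, 7, 8, 7, 6, 2, 1, 2, 1],
  [643, 3, 1, 2, 1, 6, 7, 6, 1, 2, 1, 3, 4, 5, 4],
  [644, 1, 2, 1, 3, 4, 5, 4, 2, 6, 7, 8, 7, 6, 3, 4, 3, 2, 3, 2, 6, 7, 8, 7, 6, 2, 6, 7, 6],
  [645, 2, 3, 4, 3, 6, 7, 8, 7, 6, 2, 3, 4, 5, 4, 2, 6, 7, 8, 7, 6, 2, 6, 7, 6],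
  [646, 2, 6, 7, 8, 7, 6, 2, 4, 5, 4, 3, 1, 2, 1, 6, 7, 6, 1, 2, 1, 3, 4, 5, 4, 3, 1, 2, 1],
  [648, 2, 3, 4, 3, 6, 7, 8, 7, 6, 2, 6, 7, 6, 4, 5, 4, 3, 1, 2, 1],
  [650, 1, 2, 1, 6, 7, 6, 1, 2, 1],
  [651, 2, 6, 7, 8, 7, 6, 2, 3, 4, 5, 4, 2, 6, 7, 8, 7, 6, 3, 4, 3, 2, 3, 1, 2, 1],
  [652, 6, 7, 6, 4, 5, 4, 1, 2, 1, 3, 2, 6, 7, 8, 7, 6, 2, 6, 7, 6, 1, 2, 1],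
  [653, 2, 3, 4, 3, 2, 3, 2, 6, 7, 8, 7, 6, 2, 1, 2, 1, 6, 7, 6],
  [654, 4, 5, 4, 3, 2, 6, 7, 8, 7, 6, 2, 6, 7, 6, 4, 5, 4],
  [655, 2, 6, 7, 8, 7, 6, 3, 4, 3, 2, 6, 7, 6, 1, 2, 1, 3, 2, 6, 7, 8, 7, 6, 2, 1, 2, 1],
  [657, 4, 5, 4, 2, 6, 7, 8, 7, 6, 2, 4, 5, 4, 3, 1, 2, 1, 6, 7, 6],
  [659, 1, 2, 1, 6, 7, 6, 4, 5, 4, 3, 1, 2, 1],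
  [660, 2, 3, 4, 3, 2, 4, 5, 4, 3, 2, 6, 7, 8, 7, 6, 2, 6, 7, 6, 1, 2, 1],
  [662, 1, 2, 1, 3, 2, 6, 7, 8, 7, 6, 2, 1, 2, 1, 6, 7, 6, 1, 2, 1],
  [664, 2, 6, 7, 8, 7, 6, 3, 4, 3, 2, 3, 1, 2, 1, 6, 7, 6, 4, 5, 4],
  [665, 1, 2, 1, 3, 4, 5, 4, 3, 1, 2, 1],
  [666, 2, 6, 7, 8, 7, 6, 2, 1, 2, 1, 3, 4, 5, 4],
  [667, 6, 7, 6, 1, 2, 1, 3, 4, 5, 4],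
  [668, 3, 2, 6, 7, 8, 7, 6, 2, 1, 2, 1, 6, 7, 6, 4, 5, 4],
  [669, 2, 3, 4, 3, 6, 7, 8, 7, 6, 3, 4, 3, 2, 3, 4, 5, 4, 3, 2, 6, 7, 8, 7, 6, 2, 6, 7, 6, 1, 2, 1],
  [670, 4, 5, 4, 3, 2, 6, 7, 8, 7, 6, 2],
  [671, 2, 3, 4, 3, 2, 1, 2, 1, 6, 7, 6, 3, 4, 5, 4]]

/-- the orbit of the third base point under the stabiliser of the earlier ones -/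
def lvl3 : List (List Nat) := [[6, 2, 6, 7, 8, 7, 6, 2, 4, 5, 4, 3, 2, 6, 7, 8, 7, 6, 3, 4, 3, 2, 1, 2, 1, 3, 4, 5, 4, 6, 7, 6, 2, 3, 4, 3, 2, 6, 7, 6, 4, 5, 4, 3, 2, 6, 7, 8, 7, 6, 2, 3, 4, 5, 4, 1, 2, 1, 2, 3, 4, 3, 6, 7, 8, 7, 6, 3, 4, 3, 2],
  [14, 1, 2, 1, 4, 5, 4, 3, 2, 6, 7, 8, 7, 6, 2, 3, 4, 5, 4, 6, 7, 6, 2, 3, 4, 3, 2, 6, 7, 6, 1, 2, 1, 4, 5, 4, 2, 6, 7, 8, 7, 6, 2, 3, 2, 3, 4, 3, 6, 7, 8, 7, 6, 3, 4, 3, 2, 4, 5, 4, 3, 1, 2, 1],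
  [18, 3, 2, 3, 4, 3, 6, 7, 8, 7, 6, 3, 4, 3, 2],
  [19, 1, 2, 1, 6, 7, 6, 2, 3, 4, 3, 2, 6, 7, 6, 1, 2, 1, 2, 3, 4, 3, 6, 7, 8, 7, 6, 3, 4, 3, 2, 1, 2, 1, 4, 5, 4, 3, 2, 6, 7, 8, 7, 6, 2, 3, 4, 5, 4, 6, 7, 6, 2, 3, 4, 3, 2, 6, 7, 6, 1, 2, 1, 2, 3, 4, 3, 6, 7, 8, 7, 6, 3, 4, 3, 2],
  [23, 1, 2, 1, 6, 7, 6, 2, 3, 4, 3, 2, 6, 7, 6, 1, 2, 1, 4, 5, 4, 2, 6, 7, 8, 7, 6, 2, 3, 2, 3, 4, 3, 6, 7, 8, 7, 6, 3, 4, 3, 2, 4, 5, 4, 3, 1, 2, 1],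
  [25, 1, 2, 1, 6, 7, 6, 2, 3, 4, 3, 2, 6, 7, 6, 1, 2, 1, 2, 6, 7, 8, 7, 6, 2, 4, 5, 4, 3, 2, 6, 7, 8, 7, 6, 3, 4, 3, 2, 1, 2, 1, 3, 4, 5, 4, 1, 2, 1, 2, 6, 7, 8, 7, 6, 2, 4, 5, 4, 3, 2, 6, 7, 8, 7, 6, 3, 4, 3, 2, 1, 2, 1, 3, 4, 5, 4, 1, 2, 1, 4, 5, 4, 2, 6, 7, 8, 7, 6, 2, 3, 2, 3, 4, 3, 6, 7, 8, 7, 6, 3, 4, 3, 2, 4, 5, 4, 3, 1, 2, 1],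
  [30, 3, 1, 2, 1, 6, 7, 6, 2, 3, 4, 3, 2, 6, 7, 6, 1, 2, 1, 2, 6, 7, 8, 7, 6, 2, 4, 5, 4, 3, 2, 6, 7, 8, 7, 6, 3, 4, 3, 2, 1, 2, 1, 3, 4, 5, 4, 1, 2, 1],
  [32, 1, 2, 1, 4, 5, 4, 3, 2, 6, 7, 8, 7, 6, 2, 3, 4, 5, 4, 1, 2, 1, 3, 2, 3, 4, 3, 6, 7, 8, 7, 6, 3, 4, 3, 2],
  [34, 1, 2, 1, 4, 5, 4, 3, 2, 6, 7, 8, 7, 6, 2, 3, 4, 5, 4, 1, 2, 1, 3, 1, 2, 1, 6, 7, 6, 2, 3, 4, 3, 2, 6, 7, 6, 1, 2, 1],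
  [39, 3, 1, 2, 1, 6, 7, 6, 2, 3, 4, 3, 2, 6, 7, 6, 1, 2, 1],
  [43, 4, 5, 4, 2, 6, 7, 8, 7, 6, 2, 3, 2, 3, 4, 3, 6, 7, 8, 7, 6, 3, 4, 3, 2, 4, 5, 4, 3, 6, 7, 6, 2, 3, 4, 3, 2, 6, 7, 6, 1, 2, 1, 2, 6, 7, 8, 7, 6, 2, 4, 5, 4, 3, 2, 6, 7, 8, 7, 6, 3, 4, 3, 2, 1, 2, 1, 3, 4, 5, 4, 1, 2, 1],
  [45, 2, 6, 7, 8, 7, 6, 2, 4, 5, 4, 3, 2, 6, 7, 8, 7, 6, 3, 4, 3, 2, 1, 2, 1, 3, 4, 5, 4, 1, 2, 1, 2, 3, 4, 3, 6, 7, 8, 7, 6, 3, 4, 3, 2],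
  [54, 4, 5, 4, 2, 6, 7, 8, 7, 6, 2, 3, 2, 3, 4, 3, 6, 7, 8, 7, 6, 3, 4, 3, 2, 4, 5, 4, 3, 1, 2, 1, 4, 5, 4, 2, 6, 7, 8, 7, 6, 2, 3, 2, 3, 4, 3, 6, 7, 8, 7, 6, 3, 4, 3, 2, 4, 5, 4, 3, 1, 2, 1, 2, 6, 7, 8, 7, 6, 2, 4, 5, 4, 3, 2, 6, 7, 8, 7, 6, 3, 4, 3, 2, 1, 2, 1, 3, 4, 5, 4, 1, 2, 1],
  [57, 3, 1, 2, 1, 4, 5, 4, 3, 2, 6, 7, 8, 7, 6, 2, 3, 4, 5, 4, 6, 7, 6, 2, 3, 4, 3, 2, 6, 7, 6, 1, 2, 1, 2, 3, 4, 3, 6, 7, 8, 7, 6, 3, 4, 3, 2],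
  [59, 2, 6, 7, 8, 7, 6, 2, 4, 5, 4, 3, 2, 6, 7, 8, 7, 6, 3, 4, 3, 2, 1, 2, 1, 2, 6, 7, 8, 7, 6, 2, 3, 4, 5, 4, 6, 7, 6, 2, 3, 4, 3, 2, 6, 7, 6, 1, 2, 1, 2, 3, 4, 3, 6, 7, 8, 7, 6, 3, 4, 3, 2],
  [68, 1, 2, 1, 4, 5, 4, 3, 2, 6, 7, 8, 7, 6, 2, 3, 4, 5, 4, 1, 2, 1, 3, 4, 5, 4, 2, 6, 7, 8, 7, 6, 2, 3, 2, 3, 4, 3, 6, 7, 8, 7, 6, 3, 4, 3, 2, 4, 5, 4, 3, 1, 2, 1],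
  [75, 1, 2, 1, 6, 7, 6, 2, 3, 4, 3, 2, 6, 7, 6, 1, 2, 1, 4, 5, 4, 2, 6, 7, 8, 7, 6, 2, 3, 2, 3, 4, 3, 6, 7, 8, 7, 6, 3, 4, 3, 2, 4, 5, 4, 3, 1, 2, 1, 2, 6, 7, 8, 7, 6, 2, 4, 5, 4, 3, 2, 6, 7, 8, 7, 6, 3, 4, 3, 2, 1, 2, 1, 3, 4, 5, 4, 1, 2, 1, 2, 3, 4, 3, 6, 7, 8, 7, 6, 3, 4, 3, 2],
  [82, 1, 2, 1, 6, 7, 6, 2, 3, 4, 3, 2, 6, 7, 6, 1, 2, 1, 2, 6, 7, 8, 7, 6, 2, 4, 5, 4, 3, 2, 6, 7, 8, 7, 6, 3, 4, 3, 2, 1, 2, 1, 3, 4, 5, 4, 1, 2, 1, 4, 5, 4, 2, 6, 7, 8, 7, 6, 2, 3, 2, 3, 4, 3, 6, 7, 8, 7, 6, 3, 4, 3, 2, 4, 5, 4, 3, 1, 2, 1, 2, 3, 4, 3, 6, 7, 8, 7, 6, 3, 4, 3, 2],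
  [93, 1, 2, 1, 4, 5, 4, 3, 2, 6, 7, 8, 7, 6, 2, 3, 4, 5, 4, 6, 7, 6, 2, 3, 4, 3, 2, 6, 7, 6, 1, 2, 1, 4, 5, 4, 2, 6, 7, 8, 7, 6, 2, 3, 2, 3, 4, 3, 6, 7, 8, 7, 6, 3, 4, 3, 2, 4, 5, 4, 3, 1, 2, 1, 2, 3, 4, 3, 6, 7, 8, 7, 6, 3, 4, 3, 2],
  [94, 4, 5, 4, 2, 6, 7, 8, 7, 6, 2, 3, 2, 3, 4, 3, 6, 7, 8, 7, 6, 3, 4, 3, 2, 4, 5, 4, 3, 1, 2, 1, 2, 6, 7, 8, 7, 6, 2, 4, 5, 4, 3, 2, 6, 7, 8, 7, 6, 3, 4, 3, 2, 1, 2, 1, 3, 4, 5, 4, 1, 2, 1, 2, 6, 7, 8, 7, 6, 2, 4, 5, 4, 3, 2, 6, 7, 8, 7, 6, 3, 4, 3, 2, 1, 2, 1, 3, 4, 5, 4, 1, 2, 1],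
  [100, 4, 5, 4, 2, 6, 7, 8, 7, 6, 2, 3, 2, 3, 4, 3, 6, 7, 8, 7, 6, 3, 4, 3, 2, 4, 5, 4, 3, 1, 2, 1, 3, 1, 2, 1, 6, 7, 6, 2, 3, 4, 3, 2, 6, 7, 6, 1, 2, 1, 4, 5, 4, 2, 6, 7, 8, 7, 6, 2, 3, 2, 3, 4, 3, 6, 7, 8, 7, 6, 3, 4, 3, 2, 4, 5, 4, 3, 1, 2, 1, 2, 3, 4, 3, 6, 7, 8, 7, 6, 3, 4, 3, 2],
  [101, 3, 1, 2, 1, 6, 7, 6, 2, 3, 4, 3, 2, 6, 7, 6, 1, 2, 1, 3, 4, 5, 4, 2, 6, 7, 8, 7, 6, 2, 3, 2, 3, 4, 3, 6, 7, 8, 7, 6, 3, 4, 3, 2, 4, 5, 4, 3, 1, 2, 1],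
  [104, 2, 3, 4, 3, 6, 7, 8, 7, 6, 3, 4, 3, 2, 3, 1, 2, 1, 6, 7, 6, 2, 3, 4, 3, 2, 6, 7, 6, 1, 2, 1, 2, 6, 7, 8, 7, 6, 2, 4, 5, 4, 3, 2, 6, 7, 8, 7, 6, 3, 4, 3, 2, 1, 2, 1, 3, 4, 5, 4, 1, 2, 1],
  [111, 2, 6, 7, 8, 7, 6, 2, 4, 5, 4, 3, 2, 6, 7, 8, 7, 6, 3, 4, 3, 2, 1, 2, 1, 3, 4, 5, 4, 1, 2, 1, 4, 5, 4, 2, 6, 7, 8, 7, 6, 2, 3, 2, 3, 4, 3, 6, 7, 8, 7, 6, 3, 4, 3, 2, 4, 5, 4, 3, 1, 2, 1],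
  [118, 4, 5, 4, 2, 6, 7, 8, 7, 6, 2, 3, 2, 3, 4, 3, 6, 7, 8, 7, 6, 3, 4, 3, 2, 4, 5, 4, 3, 6, 7, 6, 2, 3, 4, 3, 2, 6, 7, 6, 1, 2, 1, 4, 5, 4, 2, 6, 7, 8, 7, 6, 2, 3, 2, 3, 4, 3, 6, 7, 8, 7, 6, 3, 4, 3, 2, 4, 5, 4, 3, 1, 2, 1, 2, 3, 4, 3, 6, 7, 8, 7, 6, 3, 4, 3, 2],
  [129, 1, 2, 1, 6, 7, 6, 2, 3, 4, 3, 2, 6, 7, 6, 4, 5, 4, 3, 2, 6, 7, 8, 7, 6, 2, 3, 4, 5, 4, 1, 2, 1, 2, 3, 4, 3, 6, 7, 8, 7, 6, 3, 4, 3, 2],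
  [130, 4, 5, 4, 2, 6, 7, 8, 7, 6, 2, 3, 2, 3, 4, 3, 6, 7, 8, 7, 6, 3, 4, 3, 2, 4, 5, 4, 3, 4, 5, 4, 3, 2, 6, 7, 8, 7, 6, 2, 3, 4, 5, 4, 1, 2, 1, 3, 1, 2, 1, 6, 7, 6, 2, 3, 4, 3, 2, 6, 7, 6, 1, 2, 1],
  [136, 2, 3, 4, 3, 6, 7, 8, 7, 6, 3, 4, 3, 2, 3, 1, 2, 1, 6, 7, 6, 2, 3, 4, 3, 2, 6, 7, 6, 1, 2, 1],
  [137, 2, 6, 7, 8, 7, 6, 2, 4, 5, 4, 3, 2, 6, 7, 8, 7, 6, 3, 4, 3, 2, 1, 2, 1, 3, 4, 5, 4, 6, 7, 6, 2, 3, 4, 3, 2, 6, 7, 6, 1, 2, 1, 2, 3, 4, 3, 6, 7, 8, 7, 6, 3, 4, 3, 2],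
  [140, 1, 2, 1, 6, 7, 6, 2, 3, 4, 3, 2, 6, 7, 6, 4, 5, 4, 3, 2, 6, 7, 8, 7, 6, 2, 3, 4, 5, 4, 1, 2, 1, 2, 3, 4, 3, 6, 7, 8, 7, 6, 3, 4, 3, 2, 3, 1, 2, 1, 6, 7, 6, 2, 3, 4, 3, 2, 6, 7, 6, 1, 2, 1, 4, 5, 4, 2, 6, 7, 8, 7, 6, 2, 3, 2, 3, 4, 3, 6, 7, 8, 7, 6, 3, 4, 3, 2, 4, 5, 4, 3, 1, 2, 1, 2, 3, 4, 3, 6, 7, 8, 7, 6, 3, 4, 3, 2],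
  [147, 1, 2, 1, 6, 7, 6, 2, 3, 4, 3, 2, 6, 7, 6, 4, 5, 4, 3, 2, 6, 7, 8, 7, 6, 2, 3, 4, 5, 4, 6, 7, 6, 2, 3, 4, 3, 2, 6, 7, 6, 1, 2, 1, 2, 3, 4, 3, 6, 7, 8, 7, 6, 3, 4, 3, 2],
  [154, 3, 4, 5, 4, 2, 6, 7, 8, 7, 6, 2, 3, 2, 3, 4, 3, 6, 7, 8, 7, 6, 3, 4, 3, 2, 4, 5, 4, 3, 1, 2, 1],
  [165, 2, 3, 4, 3, 6, 7, 8, 7, 6, 3, 4, 3, 2, 1, 2, 1, 4, 5, 4, 3, 2, 6, 7, 8, 7, 6, 2, 3, 4, 5, 4, 1, 2, 1, 3, 2, 3, 4, 3, 6, 7, 8, 7, 6, 3, 4, 3, 2],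
  [166, 1, 2, 1, 6, 7, 6, 2, 3, 4, 3, 2, 6, 7, 6, 1, 2, 1, 4, 5, 4, 2, 6, 7, 8, 7, 6, 2, 3, 2, 3, 4, 3, 6, 7, 8, 7, 6, 3, 4, 3, 2, 4, 5, 4, 3, 1, 2, 1, 2, 3, 4, 3, 6, 7, 8, 7, 6, 3, 4, 3, 2],
  [172, 1, 2, 1, 6, 7, 6, 2, 3, 4, 3, 2, 6, 7, 6, 1, 2, 1, 4, 5, 4, 2, 6, 7, 8, 7, 6, 2, 3, 2, 3, 4, 3, 6, 7, 8, 7, 6, 3, 4, 3, 2, 4, 5, 4, 3, 1, 2, 1, 2, 6, 7, 8, 7, 6, 2, 4, 5, 4, 3, 2, 6, 7, 8, 7, 6, 3, 4, 3, 2, 1, 2, 1, 3, 4, 5, 4, 1, 2, 1],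
  [173, 2, 6, 7, 8, 7, 6, 2, 4, 5, 4, 3, 2, 6, 7, 8, 7, 6, 3, 4, 3, 2, 1, 2, 1, 2, 6, 7, 8, 7, 6, 2, 3, 4, 5, 4, 1, 2, 1, 2, 3, 4, 3, 6, 7, 8, 7, 6, 3, 4, 3, 2],
  [180, 4, 5, 4, 2, 6, 7, 8, 7, 6, 2, 3, 2, 3, 4, 3, 6, 7, 8, 7, 6, 3, 4, 3, 2, 4, 5, 4, 3, 1, 2, 1, 2, 3, 4, 3, 6, 7, 8, 7, 6, 3, 4, 3, 2],
  [185, 4, 5, 4, 2, 6, 7, 8, 7, 6, 2, 3, 2, 3, 4, 3, 6, 7, 8, 7, 6, 3, 4, 3, 2, 4, 5, 4, 3, 6, 7, 6, 2, 3, 4, 3, 2, 6, 7, 6, 1, 2, 1, 2, 6, 7, 8, 7, 6, 2, 4, 5, 4, 3, 2, 6, 7, 8, 7, 6, 3, 4, 3, 2, 1, 2, 1, 3, 4, 5, 4, 6, 7, 6, 2, 3, 4, 3, 2, 6, 7, 6, 1, 2, 1, 2, 3, 4, 3, 6, 7, 8, 7, 6, 3, 4, 3, 2],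
  [192, 1, 2, 1, 6, 7, 6, 2, 3, 4, 3, 2, 6, 7, 6, 1, 2, 1, 4, 5, 4, 2, 6, 7, 8, 7, 6, 2, 3, 2, 3, 4, 3, 6, 7, 8, 7, 6, 3, 4, 3, 2, 4, 5, 4, 3, 1, 2, 1, 3, 4, 5, 4, 2, 6, 7, 8, 7, 6, 2, 3, 2, 3, 4, 3, 6, 7, 8, 7, 6, 3, 4, 3, 2, 4, 5, 4, 3, 1, 2, 1],
  [197, 1, 2, 1, 6, 7, 6, 2, 3, 4, 3, 2, 6, 7, 6, 1, 2, 1, 2, 3, 4, 3, 6, 7, 8, 7, 6, 3, 4, 3, 2, 1, 2, 1, 4, 5, 4, 3, 2, 6, 7, 8, 7, 6, 2, 3, 4, 5, 4, 1, 2, 1, 3, 2, 3, 4, 3, 6, 7, 8, 7, 6, 3, 4, 3, 2],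
  [200, 1, 2, 1, 4, 5, 4, 3, 2, 6, 7, 8, 7, 6, 2, 3, 4, 5, 4, 6, 7, 6, 2, 3, 4, 3, 2, 6, 7, 6, 1, 2, 1, 2, 3, 4, 3, 6, 7, 8, 7, 6, 3, 4, 3, 2],
  [207, 2, 3, 4, 3, 6, 7, 8, 7, 6, 3, 4, 3, 2, 3, 1, 2, 1, 4, 5, 4, 3, 2, 6, 7, 8, 7, 6, 2, 3, 4, 5, 4, 6, 7, 6, 2, 3, 4, 3, 2, 6, 7, 6, 1, 2, 1],
  [210, 1, 2, 1, 6, 7, 6, 2, 3, 4, 3, 2, 6, 7, 6, 1, 2, 1, 4, 5, 4, 2, 6, 7, 8, 7, 6, 2, 3, 2, 3, 4, 3, 6, 7, 8, 7, 6, 3, 4, 3, 2, 4, 5, 4, 3, 6, 7, 6, 2, 3, 4, 3, 2, 6, 7, 6, 1, 2, 1, 2, 6, 7, 8, 7, 6, 2, 4, 5, 4, 3, 2, 6, 7, 8, 7, 6, 3, 4, 3, 2, 1, 2, 1, 3, 4, 5, 4, 1, 2, 1],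
  [212, 4, 5, 4, 2, 6, 7, 8, 7, 6, 2, 3, 2, 3, 4, 3, 6, 7, 8, 7, 6, 3, 4, 3, 2, 4, 5, 4, 3, 6, 7, 6, 2, 3, 4, 3, 2, 6, 7, 6, 1, 2, 1, 3, 4, 5, 4, 2, 6, 7, 8, 7, 6, 2, 3, 2, 3, 4, 3, 6, 7, 8, 7, 6, 3, 4, 3, 2, 4, 5, 4, 3, 1, 2, 1, 2, 6, 7, 8, 7, 6, 2, 4, 5, 4, 3, 2, 6, 7, 8, 7, 6, 3, 4, 3, 2, 1, 2, 1, 3, 4, 5, 4, 1, 2, 1],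
  [216, 3, 1, 2, 1, 6, 7, 6, 2, 3, 4, 3, 2, 6, 7, 6, 1, 2, 1, 3, 2, 3, 4, 3, 6, 7, 8, 7, 6, 3, 4, 3, 2],
  [225, 1, 2, 1, 6, 7, 6, 2, 3, 4, 3, 2, 6, 7, 6, 1, 2, 1, 3, 1, 2, 1, 4, 5, 4, 3, 2, 6, 7, 8, 7, 6, 2, 3, 4, 5, 4, 6, 7, 6, 2, 3, 4, 3, 2, 6, 7, 6, 1, 2, 1, 2, 3, 4, 3, 6, 7, 8, 7, 6, 3, 4, 3, 2],
  [231, 4, 5, 4, 2, 6, 7, 8, 7, 6, 2, 3, 2, 3, 4, 3, 6, 7, 8, 7, 6, 3, 4, 3, 2, 4, 5, 4, 3, 6, 7, 6, 2, 3, 4, 3, 2, 6, 7, 6, 4, 5, 4, 3, 2, 6, 7, 8, 7, 6, 2, 3, 4, 5, 4, 1, 2, 1, 2, 3, 4, 3, 6, 7, 8, 7, 6, 3, 4, 3, 2],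
  [238, 1, 2, 1, 6, 7, 6, 2, 3, 4, 3, 2, 6, 7, 6, 1, 2, 1, 2, 6, 7, 8, 7, 6, 2, 4, 5, 4, 3, 2, 6, 7, 8, 7, 6, 3, 4, 3, 2, 1, 2, 1, 3, 4, 5, 4, 1, 2, 1, 4, 5, 4, 2, 6, 7, 8, 7, 6, 2, 3, 2, 3, 4, 3, 6, 7, 8, 7, 6, 3, 4, 3, 2, 4, 5, 4, 3, 1, 2, 1, 4, 5, 4, 2, 6, 7, 8, 7, 6, 2, 3, 2, 3, 4, 3, 6, 7, 8, 7, 6, 3, 4, 3, 2, 4, 5, 4, 3, 1, 2, 1],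
  [243, 2, 6, 7, 8, 7, 6, 2, 4, 5, 4, 3, 2, 6, 7, 8, 7, 6, 3, 4, 3, 2, 1, 2, 1, 3, 4, 5, 4, 1, 2, 1, 3, 4, 5, 4, 2, 6, 7, 8, 7, 6, 2, 3, 2, 3, 4, 3, 6, 7, 8, 7, 6, 3, 4, 3, 2, 4, 5, 4, 3, 1, 2, 1],
  [246, 1, 2, 1, 6, 7, 6, 2, 3, 4, 3, 2, 6, 7, 6, 1, 2, 1, 3, 1, 2, 1, 4, 5, 4, 3, 2, 6, 7, 8, 7, 6, 2, 3, 4, 5, 4, 6, 7, 6, 2, 3, 4, 3, 2, 6, 7, 6, 1, 2, 1],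
  [248, 4, 5, 4, 2, 6, 7, 8, 7, 6, 2, 3, 2, 3, 4, 3, 6, 7, 8, 7, 6, 3, 4, 3, 2, 4, 5, 4, 3, 1, 2, 1, 3, 2, 3, 4, 3, 6, 7, 8, 7, 6, 3, 4, 3, 2],
  [252, 4, 5, 4, 2, 6, 7, 8, 7, 6, 2, 3, 2, 3, 4, 3, 6, 7, 8, 7, 6, 3, 4, 3, 2, 4, 5, 4, 3, 6, 7, 6, 2, 3, 4, 3, 2, 6, 7, 6, 4, 5, 4, 3, 2, 6, 7, 8, 7, 6, 2, 3, 4, 5, 4, 1, 2, 1, 3, 2, 3, 4, 3, 6, 7, 8, 7, 6, 3, 4, 3, 2],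
  [261, 4, 5, 4, 2, 6, 7, 8, 7, 6, 2, 3, 2, 3, 4, 3, 6, 7, 8, 7, 6, 3, 4, 3, 2, 4, 5, 4, 3, 6, 7, 6, 2, 3, 4, 3, 2, 6, 7, 6, 1, 2, 1],
  [267, 4, 5, 4, 2, 6, 7, 8, 7, 6, 2, 3, 2, 3, 4, 3, 6, 7, 8, 7, 6, 3, 4, 3, 2, 4, 5, 4, 3, 1, 2, 1, 4, 5, 4, 2, 6, 7, 8, 7, 6, 2, 3, 2, 3, 4, 3, 6, 7, 8, 7, 6, 3, 4, 3, 2, 4, 5, 4, 3, 1, 2, 1, 2, 6, 7, 8, 7, 6, 2, 4, 5, 4, 3, 2, 6, 7, 8, 7, 6, 3, 4, 3, 2, 1, 2, 1, 3, 4, 5, 4, 1, 2, 1, 2, 3, 4, 3, 6, 7, 8, 7, 6, 3, 4, 3, 2],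
  [274, 4, 5, 4, 2, 6, 7, 8, 7, 6, 2, 3, 2, 3, 4, 3, 6, 7, 8, 7, 6, 3, 4, 3, 2, 4, 5, 4, 3, 6, 7, 6, 2, 3, 4, 3, 2, 6, 7, 6, 1, 2, 1, 4, 5, 4, 2, 6, 7, 8, 7, 6, 2, 3, 2, 3, 4, 3, 6, 7, 8, 7, 6, 3, 4, 3, 2, 4, 5, 4, 3, 6, 7, 6, 2, 3, 4, 3, 2, 6, 7, 6, 1, 2, 1],
  [279, 3, 1, 2, 1, 6, 7, 6, 2, 3, 4, 3, 2, 6, 7, 6, 4, 5, 4, 3, 2, 6, 7, 8, 7, 6, 2, 3, 4, 5, 4, 6, 7, 6, 2, 3, 4, 3, 2, 6, 7, 6, 1, 2, 1, 2, 3, 4, 3, 6, 7, 8, 7, 6, 3, 4, 3, 2],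
  [282, 4, 5, 4, 2, 6, 7, 8, 7, 6, 2, 3, 2, 3, 4, 3, 6, 7, 8, 7, 6, 3, 4, 3, 2, 4, 5, 4, 3, 1, 2, 1, 3, 1, 2, 1, 6, 7, 6, 2, 3, 4, 3, 2, 6, 7, 6, 1, 2, 1],
  [284, 1, 2, 1, 6, 7, 6, 2, 3, 4, 3, 2, 6, 7, 6, 1, 2, 1, 2, 3, 4, 3, 6, 7, 8, 7, 6, 3, 4, 3, 2],
  [288, 2, 6, 7, 8, 7, 6, 2, 4, 5, 4, 3, 2, 6, 7, 8, 7, 6, 3, 4, 3, 2, 1, 2, 1, 3, 4, 5, 4, 1, 2, 1, 2, 6, 7, 8, 7, 6, 2, 4, 5, 4, 3, 2, 6, 7, 8, 7, 6, 3, 4, 3, 2, 1, 2, 1, 3, 4, 5, 4, 6, 7, 6, 2, 3, 4, 3, 2, 6, 7, 6, 1, 2, 1, 2, 3, 4, 3, 6, 7, 8, 7, 6, 3, 4, 3, 2],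
  [297, 3, 1, 2, 1, 6, 7, 6, 2, 3, 4, 3, 2, 6, 7, 6, 1, 2, 1, 4, 5, 4, 2, 6, 7, 8, 7, 6, 2, 3, 2, 3, 4, 3, 6, 7, 8, 7, 6, 3, 4, 3, 2, 4, 5, 4, 3, 1, 2, 1, 2, 6, 7, 8, 7, 6, 2, 4, 5, 4, 3, 2, 6, 7, 8, 7, 6, 3, 4, 3, 2, 1, 2, 1, 3, 4, 5, 4, 1, 2, 1],
  [303, 1, 2, 1, 6, 7, 6, 2, 3, 4, 3, 2, 6, 7, 6, 1, 2, 1, 2, 6, 7, 8, 7, 6, 2, 4, 5, 4, 3, 2, 6, 7, 8, 7, 6, 3, 4, 3, 2, 1, 2, 1, 3, 4, 5, 4, 6, 7, 6, 2, 3, 4, 3, 2, 6, 7, 6, 1, 2, 1, 2, 6, 7, 8, 7, 6, 2, 4, 5, 4, 3, 2, 6, 7, 8, 7, 6, 3, 4, 3, 2, 1, 2, 1, 3, 4, 5, 4, 1, 2, 1],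
  [310, 2, 6, 7, 8, 7, 6, 2, 4, 5, 4, 3, 2, 6, 7, 8, 7, 6, 3, 4, 3, 2, 1, 2, 1, 3, 4, 5, 4, 1, 2, 1, 4, 5, 4, 2, 6, 7, 8, 7, 6, 2, 3, 2, 3, 4, 3, 6, 7, 8, 7, 6, 3, 4, 3, 2, 4, 5, 4, 3, 1, 2, 1, 2, 3, 4, 3, 6, 7, 8, 7, 6, 3, 4, 3, 2],
  [314, 1, 2, 1, 4, 5, 4, 3, 2, 6, 7, 8, 7, 6, 2, 3, 4, 5, 4, 1, 2, 1, 2, 3, 4, 3, 6, 7, 8, 7, 6, 3, 4, 3, 2],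
  [316, 1, 2, 1, 6, 7, 6, 2, 3, 4, 3, 2, 6, 7, 6, 1, 2, 1, 4, 5, 4, 2, 6, 7, 8, 7, 6, 2, 3, 2, 3, 4, 3, 6, 7, 8, 7, 6, 3, 4, 3, 2, 4, 5, 4, 3, 6, 7, 6, 2, 3, 4, 3, 2, 6, 7, 6, 1, 2, 1],
  [321, 3, 1, 2, 1, 4, 5, 4, 3, 2, 6, 7, 8, 7, 6, 2, 3, 4, 5, 4, 6, 7, 6, 2, 3, 4, 3, 2, 6, 7, 6, 1, 2, 1],
  [323, 1, 2, 1, 4, 5, 4, 3, 2, 6, 7, 8, 7, 6, 2, 3, 4, 5, 4, 6, 7, 6, 2, 3, 4, 3, 2, 6, 7, 6, 1, 2, 1],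
  [328, 4, 5, 4, 2, 6, 7, 8, 7, 6, 2, 3, 2, 3, 4, 3, 6, 7, 8, 7, 6, 3, 4, 3, 2, 4, 5, 4, 3, 1, 2, 1, 4, 5, 4, 2, 6, 7, 8, 7, 6, 2, 3, 2, 3, 4, 3, 6, 7, 8, 7, 6, 3, 4, 3, 2, 4, 5, 4, 3, 1, 2, 1],
  [330, 1, 2, 1, 6, 7, 6, 2, 3, 4, 3, 2, 6, 7, 6, 1, 2, 1, 2, 6, 7, 8, 7, 6, 2, 4, 5, 4, 3, 2, 6, 7, 8, 7, 6, 3, 4, 3, 2, 1, 2, 1, 3, 4, 5, 4, 1, 2, 1, 4, 5, 4, 2, 6, 7, 8, 7, 6, 2, 3, 2, 3, 4, 3, 6, 7, 8, 7, 6, 3, 4, 3, 2, 4, 5, 4, 3, 1, 2, 1],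
  [335, 2, 6, 7, 8, 7, 6, 2, 4, 5, 4, 3, 2, 6, 7, 8, 7, 6, 3, 4, 3, 2, 1, 2, 1, 3, 4, 5, 4, 6, 7, 6, 2, 3, 4, 3, 2, 6, 7, 6, 1, 2, 1, 4, 5, 4, 2, 6, 7, 8, 7, 6, 2, 3, 2, 3, 4, 3, 6, 7, 8, 7, 6, 3, 4, 3, 2, 4, 5, 4, 3, 1, 2, 1, 2, 3, 4, 3, 6, 7, 8, 7, 6, 3, 4, 3, 2],
  [342, 2, 6, 7, 8, 7, 6, 2, 4, 5, 4, 3, 2, 6, 7, 8, 7, 6, 3, 4, 3, 2, 1, 2, 1, 3, 4, 5, 4, 1, 2, 1, 3, 1, 2, 1, 6, 7, 6, 2, 3, 4, 3, 2, 6, 7, 6, 1, 2, 1, 4, 5, 4, 2, 6, 7, 8, 7, 6, 2, 3, 2, 3, 4, 3, 6, 7, 8, 7, 6, 3, 4, 3, 2, 4, 5, 4, 3, 1, 2, 1, 2, 3, 4, 3, 6, 7, 8, 7, 6, 3, 4, 3, 2],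
  [347, 2, 6, 7, 8, 7, 6, 2, 4, 5, 4, 3, 2, 6, 7, 8, 7, 6, 3, 4, 3, 2, 1, 2, 1, 2, 6, 7, 8, 7, 6, 2, 3, 4, 5, 4, 6, 7, 6, 2, 3, 4, 3, 2, 6, 7, 6, 1, 2, 1, 3, 2, 3, 4, 3, 6, 7, 8, 7, 6, 3, 4, 3, 2],
  [349, 2, 6, 7, 8, 7, 6, 2, 4, 5, 4, 3, 2, 6, 7, 8, 7, 6, 3, 4, 3, 2, 1, 2, 1, 3, 4, 5, 4, 6, 7, 6, 2, 3, 4, 3, 2, 6, 7, 6, 1, 2, 1, 4, 5, 4, 2, 6, 7, 8, 7, 6, 2, 3, 2, 3, 4, 3, 6, 7, 8, 7, 6, 3, 4, 3, 2, 4, 5, 4, 3, 1, 2, 1, 2, 6, 7, 8, 7, 6, 2, 4, 5, 4, 3, 2, 6, 7, 8, 7, 6, 3, 4, 3, 2, 1, 2, 1, 3, 4, 5, 4, 1, 2, 1],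
  [363, 1, 2, 1, 4, 5, 4, 3, 2, 6, 7, 8, 7, 6, 2, 3, 4, 5, 4, 6, 7, 6, 2, 3, 4, 3, 2, 6, 7, 6, 1, 2, 1, 2, 6, 7, 8, 7, 6, 2, 4, 5, 4, 3, 2, 6, 7, 8, 7, 6, 3, 4, 3, 2, 1, 2, 1, 3, 4, 5, 4, 1, 2, 1, 4, 5, 4, 2, 6, 7, 8, 7, 6, 2, 3, 2, 3, 4, 3, 6, 7, 8, 7, 6, 3, 4, 3, 2, 4, 5, 4, 3, 1, 2, 1],
  [371, 1, 2, 1, 6, 7, 6, 2, 3, 4, 3, 2, 6, 7, 6, 1, 2, 1, 2, 6, 7, 8, 7, 6, 2, 4, 5, 4, 3, 2, 6, 7, 8, 7, 6, 3, 4, 3, 2, 1, 2, 1, 3, 4, 5, 4, 1, 2, 1],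
  [377, 1, 2, 1, 6, 7, 6, 2, 3, 4, 3, 2, 6, 7, 6, 1, 2, 1],
  [391, 2, 3, 4, 3, 6, 7, 8, 7, 6, 3, 4, 3, 2],
  [399, 3, 1, 2, 1, 6, 7, 6, 2, 3, 4, 3, 2, 6, 7, 6, 1, 2, 1, 4, 5, 4, 2, 6, 7, 8, 7, 6, 2, 3, 2, 3, 4, 3, 6, 7, 8, 7, 6, 3, 4, 3, 2, 4, 5, 4, 3, 1, 2, 1],
  [405, 4, 5, 4, 2, 6, 7, 8, 7, 6, 2, 3, 2, 3, 4, 3, 6, 7, 8, 7, 6, 3, 4, 3, 2, 4, 5, 4, 3, 1, 2, 1, 3, 4, 5, 4, 2, 6, 7, 8, 7, 6, 2, 3, 2, 3, 4, 3, 6, 7, 8, 7, 6, 3, 4, 3, 2, 4, 5, 4, 3, 1, 2, 1],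
  [419, 2, 6, 7, 8, 7, 6, 2, 4, 5, 4, 3, 2, 6, 7, 8, 7, 6, 3, 4, 3, 2, 1, 2, 1, 3, 4, 5, 4, 1, 2, 1, 3, 1, 2, 1, 6, 7, 6, 2, 3, 4, 3, 2, 6, 7, 6, 1, 2, 1, 4, 5, 4, 2, 6, 7, 8, 7, 6, 2, 3, 2, 3, 4, 3, 6, 7, 8, 7, 6, 3, 4, 3, 2, 4, 5, 4, 3, 1, 2, 1],
  [427, 3, 1, 2, 1, 4, 5, 4, 3, 2, 6, 7, 8, 7, 6, 2, 3, 4, 5, 4, 1, 2, 1, 3, 1, 2, 1, 6, 7, 6, 2, 3, 4, 3, 2, 6, 7, 6, 1, 2, 1],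
  [447, 3, 4, 5, 4, 2, 6, 7, 8, 7, 6, 2, 3, 2, 3, 4, 3, 6, 7, 8, 7, 6, 3, 4, 3, 2, 4, 5, 4, 3, 6, 7, 6, 2, 3, 4, 3, 2, 6, 7, 6, 1, 2, 1, 2, 6, 7, 8, 7, 6, 2, 4, 5, 4, 3, 2, 6, 7, 8, 7, 6, 3, 4, 3, 2, 1, 2, 1, 3, 4, 5, 4, 1, 2, 1],
  [449, 2, 6, 7, 8, 7, 6, 2, 4, 5, 4, 3, 2, 6, 7, 8, 7, 6, 3, 4, 3, 2, 1, 2, 1, 2, 6, 7, 8, 7, 6, 2, 3, 4, 5, 4, 1, 2, 1, 3, 4, 5, 4, 2, 6, 7, 8, 7, 6, 2, 3, 2, 3, 4, 3, 6, 7, 8, 7, 6, 3, 4, 3, 2, 4, 5, 4, 3, 1, 2, 1],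
  [456, 1, 2, 1, 6, 7, 6, 2, 3, 4, 3, 2, 6, 7, 6, 1, 2, 1, 3, 4, 5, 4, 2, 6, 7, 8, 7, 6, 2, 3, 2, 3, 4, 3, 6, 7, 8, 7, 6, 3, 4, 3, 2, 4, 5, 4, 3, 1, 2, 1, 2, 6, 7, 8, 7, 6, 2, 4, 5, 4, 3, 2, 6, 7, 8, 7, 6, 3, 4, 3, 2, 1, 2, 1, 3, 4, 5, 4, 1, 2, 1],
  [461, 3, 4, 5, 4, 2, 6, 7, 8, 7, 6, 2, 3, 2, 3, 4, 3, 6, 7, 8, 7, 6, 3, 4, 3, 2, 4, 5, 4, 3, 1, 2, 1, 2, 6, 7, 8, 7, 6, 2, 4, 5, 4, 3, 2, 6, 7, 8, 7, 6, 3, 4, 3, 2, 1, 2, 1, 3, 4, 5, 4, 1, 2, 1, 2, 3, 4, 3, 6, 7, 8, 7, 6, 3, 4, 3, 2],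
  [463, 1, 2, 1, 4, 5, 4, 3, 2, 6, 7, 8, 7, 6, 2, 3, 4, 5, 4, 1, 2, 1, 2, 3, 4, 3, 6, 7, 8, 7, 6, 3, 4, 3, 2, 3, 1, 2, 1, 6, 7, 6, 2, 3, 4, 3, 2, 6, 7, 6, 1, 2, 1, 4, 5, 4, 2, 6, 7, 8, 7, 6, 2, 3, 2, 3, 4, 3, 6, 7, 8, 7, 6, 3, 4, 3, 2, 4, 5, 4, 3, 1, 2, 1],
  [468, 2, 3, 4, 3, 6, 7, 8, 7, 6, 3, 4, 3, 2, 3, 1, 2, 1, 6, 7, 6, 2, 3, 4, 3, 2, 6, 7, 6, 1, 2, 1, 4, 5, 4, 2, 6, 7, 8, 7, 6, 2, 3, 2, 3, 4, 3, 6, 7, 8, 7, 6, 3, 4, 3, 2, 4, 5, 4, 3, 1, 2, 1],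
  [474, 1, 2, 1, 4, 5, 4, 3, 2, 6, 7, 8, 7, 6, 2, 3, 4, 5, 4, 6, 7, 6, 2, 3, 4, 3, 2, 6, 7, 6, 1, 2, 1, 3, 2, 3, 4, 3, 6, 7, 8, 7, 6, 3, 4, 3, 2],
  [475, 2, 3, 4, 3, 6, 7, 8, 7, 6, 3, 4, 3, 2, 1, 2, 1, 4, 5, 4, 3, 2, 6, 7, 8, 7, 6, 2, 3, 4, 5, 4, 1, 2, 1, 2, 6, 7, 8, 7, 6, 2, 4, 5, 4, 3, 2, 6, 7, 8, 7, 6, 3, 4, 3, 2, 1, 2, 1, 3, 4, 5, 4, 1, 2, 1],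
  [479, 2, 6, 7, 8, 7, 6, 2, 4, 5, 4, 3, 2, 6, 7, 8, 7, 6, 3, 4, 3, 2, 1, 2, 1, 3, 4, 5, 4, 6, 7, 6, 2, 3, 4, 3, 2, 6, 7, 6, 1, 2, 1, 4, 5, 4, 2, 6, 7, 8, 7, 6, 2, 3, 2, 3, 4, 3, 6, 7, 8, 7, 6, 3, 4, 3, 2, 4, 5, 4, 3, 6, 7, 6, 2, 3, 4, 3, 2, 6, 7, 6, 1, 2, 1],
  [481, 1, 2, 1, 6, 7, 6, 2, 3, 4, 3, 2, 6, 7, 6, 1, 2, 1, 2, 6, 7, 8, 7, 6, 2, 4, 5, 4, 3, 2, 6, 7, 8, 7, 6, 3, 4, 3, 2, 1, 2, 1, 3, 4, 5, 4, 6, 7, 6, 2, 3, 4, 3, 2, 6, 7, 6, 1, 2, 1, 4, 5, 4, 2, 6, 7, 8, 7, 6, 2, 3, 2, 3, 4, 3, 6, 7, 8, 7, 6, 3, 4, 3, 2, 4, 5, 4, 3, 6, 7, 6, 2, 3, 4, 3, 2, 6, 7, 6, 1, 2, 1],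
  [488, 1, 2, 1, 6, 7, 6, 2, 3, 4, 3, 2, 6, 7, 6, 4, 5, 4, 3, 2, 6, 7, 8, 7, 6, 2, 3, 4, 5, 4, 6, 7, 6, 2, 3, 4, 3, 2, 6, 7, 6, 1, 2, 1, 3, 2, 3, 4, 3, 6, 7, 8, 7, 6, 3, 4, 3, 2],
  [490, 4, 5, 4, 2, 6, 7, 8, 7, 6, 2, 3, 2, 3, 4, 3, 6, 7, 8, 7, 6, 3, 4, 3, 2, 4, 5, 4, 3, 1, 2, 1, 2, 3, 4, 3, 6, 7, 8, 7, 6, 3, 4, 3, 2, 3, 1, 2, 1, 6, 7, 6, 2, 3, 4, 3, 2, 6, 7, 6, 1, 2, 1],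
  [496, 4, 5, 4, 2, 6, 7, 8, 7, 6, 2, 3, 2, 3, 4, 3, 6, 7, 8, 7, 6, 3, 4, 3, 2, 4, 5, 4, 3, 6, 7, 6, 2, 3, 4, 3, 2, 6, 7, 6, 1, 2, 1, 3, 2, 3, 4, 3, 6, 7, 8, 7, 6, 3, 4, 3, 2],
  [502, 4, 5, 4, 2, 6, 7, 8, 7, 6, 2, 3, 2, 3, 4, 3, 6, 7, 8, 7, 6, 3, 4, 3, 2, 4, 5, 4, 3, 4, 5, 4, 3, 2, 6, 7, 8, 7, 6, 2, 3, 4, 5, 4, 1, 2, 1, 3, 2, 3, 4, 3, 6, 7, 8, 7, 6, 3, 4, 3, 2],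
  [503, 1, 2, 1, 6, 7, 6, 2, 3, 4, 3, 2, 6, 7, 6, 4, 5, 4, 3, 2, 6, 7, 8, 7, 6, 2, 3, 4, 5, 4, 1, 2, 1, 3, 2, 3, 4, 3, 6, 7, 8, 7, 6, 3, 4, 3, 2],
  [507, 2, 3, 4, 3, 6, 7, 8, 7, 6, 3, 4, 3, 2, 1, 2, 1, 4, 5, 4, 3, 2, 6, 7, 8, 7, 6, 2, 3, 4, 5, 4, 6, 7, 6, 2, 3, 4, 3, 2, 6, 7, 6, 1, 2, 1, 2, 3, 4, 3, 6, 7, 8, 7, 6, 3, 4, 3, 2],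
  [509, 4, 5, 4, 2, 6, 7, 8, 7, 6, 2, 3, 2, 3, 4, 3, 6, 7, 8, 7, 6, 3, 4, 3, 2, 4, 5, 4, 3, 1, 2, 1, 4, 5, 4, 2, 6, 7, 8, 7, 6, 2, 3, 2, 3, 4, 3, 6, 7, 8, 7, 6, 3, 4, 3, 2, 4, 5, 4, 3, 6, 7, 6, 2, 3, 4, 3, 2, 6, 7, 6, 1, 2, 1],
  [516, 4, 5, 4, 2, 6, 7, 8, 7, 6, 2, 3, 2, 3, 4, 3, 6, 7, 8, 7, 6, 3, 4, 3, 2, 4, 5, 4, 3, 1, 2, 1],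
  [518, 3, 1, 2, 1, 6, 7, 6, 2, 3, 4, 3, 2, 6, 7, 6, 1, 2, 1, 4, 5, 4, 2, 6, 7, 8, 7, 6, 2, 3, 2, 3, 4, 3, 6, 7, 8, 7, 6, 3, 4, 3, 2, 4, 5, 4, 3, 1, 2, 1, 2, 3, 4, 3, 6, 7, 8, 7, 6, 3, 4, 3, 2],
  [524, 3, 4, 5, 4, 2, 6, 7, 8, 7, 6, 2, 3, 2, 3, 4, 3, 6, 7, 8, 7, 6, 3, 4, 3, 2, 4, 5, 4, 3, 1, 2, 1, 2, 6, 7, 8, 7, 6, 2, 4, 5, 4, 3, 2, 6, 7, 8, 7, 6, 3, 4, 3, 2, 1, 2, 1, 3, 4, 5, 4, 1, 2, 1],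
  [530, 1, 2, 1, 6, 7, 6, 2, 3, 4, 3, 2, 6, 7, 6, 4, 5, 4, 3, 2, 6, 7, 8, 7, 6, 2, 3, 4, 5, 4, 1, 2, 1, 3, 1, 2, 1, 6, 7, 6, 2, 3, 4, 3, 2, 6, 7, 6, 1, 2, 1],
  [531, 2, 6, 7, 8, 7, 6, 2, 4, 5, 4, 3, 2, 6, 7, 8, 7, 6, 3, 4, 3, 2, 1, 2, 1, 3, 4, 5, 4, 6, 7, 6, 2, 3, 4, 3, 2, 6, 7, 6, 1, 2, 1, 3, 2, 3, 4, 3, 6, 7, 8, 7, 6, 3, 4, 3, 2],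
  [535, 2, 6, 7, 8, 7, 6, 2, 4, 5, 4, 3, 2, 6, 7, 8, 7, 6, 3, 4, 3, 2, 1, 2, 1, 3, 4, 5, 4, 1, 2, 1, 2, 6, 7, 8, 7, 6, 2, 4, 5, 4, 3, 2, 6, 7, 8, 7, 6, 3, 4, 3, 2, 1, 2, 1, 3, 4, 5, 4, 1, 2, 1],
  [537, 1, 2, 1, 6, 7, 6, 2, 3, 4, 3, 2, 6, 7, 6, 1, 2, 1, 3, 2, 3, 4, 3, 6, 7, 8, 7, 6, 3, 4, 3, 2],
  [544, 2, 3, 4, 3, 6, 7, 8, 7, 6, 3, 4, 3, 2, 1, 2, 1, 4, 5, 4, 3, 2, 6, 7, 8, 7, 6, 2, 3, 4, 5, 4, 6, 7, 6, 2, 3, 4, 3, 2, 6, 7, 6, 1, 2, 1],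
  [546, 2, 6, 7, 8, 7, 6, 2, 4, 5, 4, 3, 2, 6, 7, 8, 7, 6, 3, 4, 3, 2, 1, 2, 1, 3, 4, 5, 4, 1, 2, 1, 2, 6, 7, 8, 7, 6, 2, 4, 5, 4, 3, 2, 6, 7, 8, 7, 6, 3, 4, 3, 2, 1, 2, 1, 3, 4, 5, 4, 1, 2, 1, 4, 5, 4, 2, 6, 7, 8, 7, 6, 2, 3, 2, 3, 4, 3, 6, 7, 8, 7, 6, 3, 4, 3, 2, 4, 5, 4, 3, 1, 2, 1],
  [552, 2, 6, 7, 8, 7, 6, 2, 4, 5, 4, 3, 2, 6, 7, 8, 7, 6, 3, 4, 3, 2, 1, 2, 1, 3, 4, 5, 4, 6, 7, 6, 2, 3, 4, 3, 2, 6, 7, 6, 1, 2, 1, 2, 6, 7, 8, 7, 6, 2, 4, 5, 4, 3, 2, 6, 7, 8, 7, 6, 3, 4, 3, 2, 1, 2, 1, 3, 4, 5, 4, 1, 2, 1],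
  [557, 4, 5, 4, 2, 6, 7, 8, 7, 6, 2, 3, 2, 3, 4, 3, 6, 7, 8, 7, 6, 3, 4, 3, 2, 4, 5, 4, 3, 1, 2, 1, 2, 6, 7, 8, 7, 6, 2, 4, 5, 4, 3, 2, 6, 7, 8, 7, 6, 3, 4, 3, 2, 1, 2, 1, 3, 4, 5, 4, 1, 2, 1, 2, 3, 4, 3, 6, 7, 8, 7, 6, 3, 4, 3, 2],
  [566, 1, 2, 1, 4, 5, 4, 3, 2, 6, 7, 8, 7, 6, 2, 3, 4, 5, 4, 1, 2, 1, 2, 6, 7, 8, 7, 6, 2, 4, 5, 4, 3, 2, 6, 7, 8, 7, 6, 3, 4, 3, 2, 1, 2, 1, 3, 4, 5, 4, 1, 2, 1],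
  [572, 1, 2, 1, 6, 7, 6, 2, 3, 4, 3, 2, 6, 7, 6, 1, 2, 1, 4, 5, 4, 2, 6, 7, 8, 7, 6, 2, 3, 2, 3, 4, 3, 6, 7, 8, 7, 6, 3, 4, 3, 2, 4, 5, 4, 3, 1, 2, 1, 2, 6, 7, 8, 7, 6, 2, 4, 5, 4, 3, 2, 6, 7, 8, 7, 6, 3, 4, 3, 2, 1, 2, 1, 3, 4, 5, 4, 1, 2, 1, 2, 6, 7, 8, 7, 6, 2, 4, 5, 4, 3, 2, 6, 7, 8, 7, 6, 3, 4, 3, 2, 1, 2, 1, 3, 4, 5, 4, 1, 2, 1],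
  [580, 2, 6, 7, 8, 7, 6, 2, 4, 5, 4, 3, 2, 6, 7, 8, 7, 6, 3, 4, 3, 2, 1, 2, 1, 3, 4, 5, 4, 6, 7, 6, 2, 3, 4, 3, 2, 6, 7, 6, 1, 2, 1, 3, 4, 5, 4, 2, 6, 7, 8, 7, 6, 2, 3, 2, 3, 4, 3, 6, 7, 8, 7, 6, 3, 4, 3, 2, 4, 5, 4, 3, 1, 2, 1],
  [584, 4, 5, 4, 2, 6, 7, 8, 7, 6, 2, 3, 2, 3, 4, 3, 6, 7, 8, 7, 6, 3, 4, 3, 2, 4, 5, 4, 3, 4, 5, 4, 3, 2, 6, 7, 8, 7, 6, 2, 3, 4, 5, 4, 6, 7, 6, 2, 3, 4, 3, 2, 6, 7, 6, 1, 2, 1, 4, 5, 4, 2, 6, 7, 8, 7, 6, 2, 3, 2, 3, 4, 3, 6, 7, 8, 7, 6, 3, 4, 3, 2, 4, 5, 4, 3, 1, 2, 1],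
  [585],
  [591, 2, 6, 7, 8, 7, 6, 2, 4, 5, 4, 3, 2, 6, 7, 8, 7, 6, 3, 4, 3, 2, 1, 2, 1, 3, 4, 5, 4, 1, 2, 1, 4, 5, 4, 2, 6, 7, 8, 7, 6, 2, 3, 2, 3, 4, 3, 6, 7, 8, 7, 6, 3, 4, 3, 2, 4, 5, 4, 3, 1, 2, 1, 4, 5, 4, 2, 6, 7, 8, 7, 6, 2, 3, 2, 3, 4, 3, 6, 7, 8, 7, 6, 3, 4, 3, 2, 4, 5, 4, 3, 1, 2, 1],
  [600, 4, 5, 4, 2, 6, 7, 8, 7, 6, 2, 3, 2, 3, 4, 3, 6, 7, 8, 7, 6, 3, 4, 3, 2, 4, 5, 4, 3, 1, 2, 1, 2, 6, 7, 8, 7, 6, 2, 4, 5, 4, 3, 2, 6, 7, 8, 7, 6, 3, 4, 3, 2, 1, 2, 1, 3, 4, 5, 4, 6, 7, 6, 2, 3, 4, 3, 2, 6, 7, 6, 1, 2, 1, 2, 3, 4, 3, 6, 7, 8, 7, 6, 3, 4, 3, 2],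
  [602, 3, 1, 2, 1, 6, 7, 6, 2, 3, 4, 3, 2, 6, 7, 6, 1, 2, 1, 2, 3, 4, 3, 6, 7, 8, 7, 6, 3, 4, 3, 2],
  [605, 1, 2, 1, 4, 5, 4, 3, 2, 6, 7, 8, 7, 6, 2, 3, 4, 5, 4, 6, 7, 6, 2, 3, 4, 3, 2, 6, 7, 6, 1, 2, 1, 3, 4, 5, 4, 2, 6, 7, 8, 7, 6, 2, 3, 2, 3, 4, 3, 6, 7, 8, 7, 6, 3, 4, 3, 2, 4, 5, 4, 3, 1, 2, 1],
  [607, 2, 6, 7, 8, 7, 6, 2, 4, 5, 4, 3, 2, 6, 7, 8, 7, 6, 3, 4, 3, 2, 1, 2, 1, 3, 4, 5, 4, 1, 2, 1],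
  [619, 1, 2, 1, 6, 7, 6, 2, 3, 4, 3, 2, 6, 7, 6, 1, 2, 1, 3, 4, 5, 4, 2, 6, 7, 8, 7, 6, 2, 3, 2, 3, 4, 3, 6, 7, 8, 7, 6, 3, 4, 3, 2, 4, 5, 4, 3, 1, 2, 1],
  [628, 4, 5, 4, 2, 6, 7, 8, 7, 6, 2, 3, 2, 3, 4, 3, 6, 7, 8, 7, 6, 3, 4, 3, 2, 4, 5, 4, 3, 4, 5, 4, 3, 2, 6, 7, 8, 7, 6, 2, 3, 4, 5, 4, 1, 2, 1, 2, 6, 7, 8, 7, 6, 2, 4, 5, 4, 3, 2, 6, 7, 8, 7, 6, 3, 4, 3, 2, 1, 2, 1, 3, 4, 5, 4, 1, 2, 1],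
  [630, 1, 2, 1, 4, 5, 4, 3, 2, 6, 7, 8, 7, 6, 2, 3, 4, 5, 4, 1, 2, 1, 2, 3, 4, 3, 6, 7, 8, 7, 6, 3, 4, 3, 2, 3, 1, 2, 1, 6, 7, 6, 2, 3, 4, 3, 2, 6, 7, 6, 1, 2, 1, 4, 5, 4, 2, 6, 7, 8, 7, 6, 2, 3, 2, 3, 4, 3, 6, 7, 8, 7, 6, 3, 4, 3, 2, 4, 5, 4, 3, 1, 2, 1, 2, 3, 4, 3, 6, 7, 8, 7, 6, 3, 4, 3, 2],
  [633, 4, 5, 4, 2, 6, 7, 8, 7, 6, 2, 3, 2, 3, 4, 3, 6, 7, 8, 7, 6, 3, 4, 3, 2, 4, 5, 4, 3, 1, 2, 1, 2, 6, 7, 8, 7, 6, 2, 4, 5, 4, 3, 2, 6, 7, 8, 7, 6, 3, 4, 3, 2, 1, 2, 1, 3, 4, 5, 4, 1, 2, 1],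
  [635, 4, 5, 4, 2, 6, 7, 8, 7, 6, 2, 3, 2, 3, 4, 3, 6, 7, 8, 7, 6, 3, 4, 3, 2, 4, 5, 4, 3, 1, 2, 1, 2, 6, 7, 8, 7, 6, 2, 4, 5, 4, 3, 2, 6, 7, 8, 7, 6, 3, 4, 3, 2, 1, 2, 1, 3, 4, 5, 4, 1, 2, 1, 3, 1, 2, 1, 6, 7, 6, 2, 3, 4, 3, 2, 6, 7, 6, 1, 2, 1, 4, 5, 4, 2, 6, 7, 8, 7, 6, 2, 3, 2, 3, 4, 3, 6, 7, 8, 7, 6, 3, 4, 3, 2, 4, 5, 4, 3, 1, 2, 1],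
  [647, 1, 2, 1, 4, 5, 4, 3, 2, 6, 7, 8, 7, 6, 2, 3, 4, 5, 4, 1, 2, 1, 3, 1, 2, 1, 6, 7, 6, 2, 3, 4, 3, 2, 6, 7, 6, 1, 2, 1, 2, 3, 4, 3, 6, 7, 8, 7, 6, 3, 4, 3, 2],
  [656, 1, 2, 1, 6, 7, 6, 2, 3, 4, 3, 2, 6, 7, 6, 1, 2, 1, 4, 5, 4, 2, 6, 7, 8, 7, 6, 2, 3, 2, 3, 4, 3, 6, 7, 8, 7, 6, 3, 4, 3, 2, 4, 5, 4, 3, 1, 2, 1, 3, 2, 3, 4, 3, 6, 7, 8, 7, 6, 3, 4, 3, 2],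
  [658, 3, 4, 5, 4, 2, 6, 7, 8, 7, 6, 2, 3, 2, 3, 4, 3, 6, 7, 8, 7, 6, 3, 4, 3, 2, 4, 5, 4, 3, 1, 2, 1, 3, 2, 3, 4, 3, 6, 7, 8, 7, 6, 3, 4, 3, 2],
  [661, 2, 3, 4, 3, 6, 7, 8, 7, 6, 3, 4, 3, 2, 3, 1, 2, 1, 6, 7, 6, 2, 3, 4, 3, 2, 6, 7, 6, 1, 2, 1, 4, 5, 4, 2, 6, 7, 8, 7, 6, 2, 3, 2, 3, 4, 3, 6, 7, 8, 7, 6, 3, 4, 3, 2, 4, 5, 4, 3, 1, 2, 1, 2, 3, 4, 3, 6, 7, 8, 7, 6, 3, 4, 3, 2],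
  [663, 1, 2, 1, 6, 7, 6, 2, 3, 4, 3, 2, 6, 7, 6, 1, 2, 1, 2, 6, 7, 8, 7, 6, 2, 4, 5, 4, 3, 2, 6, 7, 8, 7, 6, 3, 4, 3, 2, 1, 2, 1, 3, 4, 5, 4, 6, 7, 6, 2, 3, 4, 3, 2, 6, 7, 6, 1, 2, 1, 2, 3, 4, 3, 6, 7, 8, 7, 6, 3, 4, 3, 2]]

/-- the orbit of the fourth base point under the stabiliser of the earlier ones -/
def lvl4 : List (List Nat) := [[45, 2, 3, 4, 3, 6, 7, 8, 7, 6, 3, 4, 3, 2, 1, 2, 1, 6, 7, 6, 2, 3, 4, 3, 2, 6, 7, 6, 1, 2, 1, 3, 4, 5, 4, 2, 6, 7, 8, 7, 6, 2, 3, 2, 3, 4, 3, 6, 7, 8, 7, 6, 3, 4, 3, 2, 4, 5, 4, 3, 6, 7, 6, 2, 3, 4, 3, 2, 6, 7, 6, 1, 2, 1, 2, 3, 4, 3, 6, 7, 8, 7, 6, 3, 4, 3, 2, 3],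
  [75, 3],
  [93, 2, 3, 4, 3, 6, 7, 8, 7, 6, 3, 4, 3, 2, 1, 2, 1, 6, 7, 6, 2, 3, 4, 3, 2, 6, 7, 6, 1, 2, 1, 2, 6, 7, 8, 7, 6, 2, 4, 5, 4, 3, 2, 6, 7, 8, 7, 6, 3, 4, 3, 2, 1, 2, 1, 3, 4, 5, 4, 6, 7, 6, 2, 3, 4, 3, 2, 6, 7, 6, 1, 2, 1],
  [94, 3, 2, 3, 4, 3, 6, 7, 8, 7, 6, 3, 4, 3, 2, 1, 2, 1, 6, 7, 6, 2, 3, 4, 3, 2, 6, 7, 6, 1, 2, 1, 3, 4, 5, 4, 2, 6, 7, 8, 7, 6, 2, 3, 2, 3, 4, 3, 6, 7, 8, 7, 6, 3, 4, 3, 2, 4, 5, 4, 3, 1, 2, 1, 2, 6, 7, 8, 7, 6, 2, 4, 5, 4, 3, 2, 6, 7, 8, 7, 6, 3, 4, 3, 2, 1, 2, 1, 3, 4, 5, 4, 6, 7, 6, 2, 3, 4, 3, 2, 6, 7, 6, 1, 2, 1],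
  [111, 3, 2, 3, 4, 3, 6, 7, 8, 7, 6, 3, 4, 3, 2, 1, 2, 1, 6, 7, 6, 2, 3, 4, 3, 2, 6, 7, 6, 1, 2, 1, 2, 6, 7, 8, 7, 6, 2, 4, 5, 4, 3, 2, 6, 7, 8, 7, 6, 3, 4, 3, 2, 1, 2, 1, 3, 4, 5, 4, 6, 7, 6, 2, 3, 4, 3, 2, 6, 7, 6, 4, 5, 4, 3, 2, 6, 7, 8, 7, 6, 2, 3, 4, 5, 4, 1, 2, 1],
  [129, 2, 3, 4, 3, 6, 7, 8, 7, 6, 3, 4, 3, 2, 1, 2, 1, 6, 7, 6, 2, 3, 4, 3, 2, 6, 7, 6, 1, 2, 1, 3, 4, 5, 4, 2, 6, 7, 8, 7, 6, 2, 3, 2, 3, 4, 3, 6, 7, 8, 7, 6, 3, 4, 3, 2, 4, 5, 4, 3, 1, 2, 1, 2, 6, 7, 8, 7, 6, 2, 4, 5, 4, 3, 2, 6, 7, 8, 7, 6, 3, 4, 3, 2, 1, 2, 1, 3, 4, 5, 4, 6, 7, 6, 2, 3, 4, 3, 2, 6, 7, 6, 1, 2, 1, 3],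
  [130, 1, 2, 1, 4, 5, 4, 3, 2, 6, 7, 8, 7, 6, 2, 3, 4, 5, 4, 1, 2, 1, 3],
  [147, 2, 3, 4, 3, 6, 7, 8, 7, 6, 3, 4, 3, 2, 1, 2, 1, 6, 7, 6, 2, 3, 4, 3, 2, 6, 7, 6, 1, 2, 1, 2, 6, 7, 8, 7, 6, 2, 4, 5, 4, 3, 2, 6, 7, 8, 7, 6, 3, 4, 3, 2, 1, 2, 1, 3, 4, 5, 4, 6, 7, 6, 2, 3, 4, 3, 2, 6, 7, 6, 4, 5, 4, 3, 2, 6, 7, 8, 7, 6, 2, 3, 4, 5, 4, 1, 2, 1, 2, 3, 4, 3, 6, 7, 8, 7, 6, 3, 4, 3, 2, 1, 2, 1, 6, 7, 6, 2, 3, 4, 3, 2, 6, 7, 6, 1, 2, 1, 3, 4, 5, 4, 2, 6, 7, 8, 7, 6, 2, 3, 2, 3, 4, 3, 6, 7, 8, 7, 6, 3, 4, 3, 2, 4, 5, 4, 3, 6, 7, 6, 2, 3, 4, 3, 2, 6, 7, 6, 1, 2, 1, 2, 3, 4, 3, 6, 7, 8, 7, 6, 3, 4, 3, 2],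
  [165, 2, 3, 4, 3, 6, 7, 8, 7, 6, 3, 4, 3, 2, 1, 2, 1, 6, 7, 6, 2, 3, 4, 3, 2, 6, 7, 6, 1, 2, 1, 2, 6, 7, 8, 7, 6, 2, 4, 5, 4, 3, 2, 6, 7, 8, 7, 6, 3, 4, 3, 2, 1, 2, 1, 3, 4, 5, 4, 6, 7, 6, 2, 3, 4, 3, 2, 6, 7, 6, 1, 2, 1, 2, 3, 4, 3, 6, 7, 8, 7, 6, 3, 4, 3, 2, 1, 2, 1, 6, 7, 6, 2, 3, 4, 3, 2, 6, 7, 6, 1, 2, 1, 2, 6, 7, 8, 7, 6, 2, 4, 5, 4, 3, 2, 6, 7, 8, 7, 6, 3, 4, 3, 2, 1, 2, 1, 3, 4, 5, 4, 6, 7, 6, 2, 3, 4, 3, 2, 6, 7, 6, 4, 5, 4, 3, 2, 6, 7, 8, 7, 6, 2, 3, 4, 5, 4, 1, 2, 1, 3],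
  [166, 2, 3, 4, 3, 6, 7, 8, 7, 6, 3, 4, 3, 2, 1, 2, 1, 6, 7, 6, 2, 3, 4, 3, 2, 6, 7, 6, 1, 2, 1, 2, 6, 7, 8, 7, 6, 2, 4, 5, 4, 3, 2, 6, 7, 8, 7, 6, 3, 4, 3, 2, 1, 2, 1, 3, 4, 5, 4, 6, 7, 6, 2, 3, 4, 3, 2, 6, 7, 6, 1, 2, 1, 3],
  [192, 2, 3, 4, 3, 6, 7, 8, 7, 6, 3, 4, 3, 2, 1, 2, 1, 6, 7, 6, 2, 3, 4, 3, 2, 6, 7, 6, 1, 2, 1, 3, 4, 5, 4, 2, 6, 7, 8, 7, 6, 2, 3, 2, 3, 4, 3, 6, 7, 8, 7, 6, 3, 4, 3, 2, 4, 5, 4, 3, 6, 7, 6, 2, 3, 4, 3, 2, 6, 7, 6, 1, 2, 1, 2, 3, 4, 3, 6, 7, 8, 7, 6, 3, 4, 3, 2, 1, 2, 1, 4, 5, 4, 3, 2, 6, 7, 8, 7, 6, 2, 3, 4, 5, 4, 1, 2, 1],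
  [207],
  [216, 2, 3, 4, 3, 6, 7, 8, 7, 6, 3, 4, 3, 2, 1, 2, 1, 6, 7, 6, 2, 3, 4, 3, 2, 6, 7, 6, 1, 2, 1, 3, 4, 5, 4, 2, 6, 7, 8, 7, 6, 2, 3, 2, 3, 4, 3, 6, 7, 8, 7, 6, 3, 4, 3, 2, 4, 5, 4, 3, 1, 2, 1, 2, 6, 7, 8, 7, 6, 2, 4, 5, 4, 3, 2, 6, 7, 8, 7, 6, 3, 4, 3, 2, 1, 2, 1, 3, 4, 5, 4, 6, 7, 6, 2, 3, 4, 3, 2, 6, 7, 6, 4, 5, 4, 3, 2, 6, 7, 8, 7, 6, 2, 3, 4, 5, 4, 1, 2, 1, 2, 3, 4, 3, 6, 7, 8, 7, 6, 3, 4, 3, 2, 1, 2, 1, 6, 7, 6, 2, 3, 4, 3, 2, 6, 7, 6, 1, 2, 1, 3, 4, 5, 4, 2, 6, 7, 8, 7, 6, 2, 3, 2, 3, 4, 3, 6, 7, 8, 7, 6, 3, 4, 3, 2, 4, 5, 4, 3, 6, 7, 6, 2, 3, 4, 3, 2, 6, 7, 6, 1, 2, 1, 2, 3, 4, 3, 6, 7, 8, 7, 6, 3, 4, 3, 2],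
  [238, 2, 3, 4, 3, 6, 7, 8, 7, 6, 3, 4, 3, 2, 1, 2, 1, 6, 7, 6, 2, 3, 4, 3, 2, 6, 7, 6, 1, 2, 1, 3, 4, 5, 4, 2, 6, 7, 8, 7, 6, 2, 3, 2, 3, 4, 3, 6, 7, 8, 7, 6, 3, 4, 3, 2, 4, 5, 4, 3, 1, 2, 1, 2, 6, 7, 8, 7, 6, 2, 4, 5, 4, 3, 2, 6, 7, 8, 7, 6, 3, 4, 3, 2, 1, 2, 1, 3, 4, 5, 4, 6, 7, 6, 2, 3, 4, 3, 2, 6, 7, 6, 4, 5, 4, 3, 2, 6, 7, 8, 7, 6, 2, 3, 4, 5, 4, 1, 2, 1],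
  [243, 2, 3, 4, 3, 6, 7, 8, 7, 6, 3, 4, 3, 2, 1, 2, 1, 6, 7, 6, 2, 3, 4, 3, 2, 6, 7, 6, 1, 2, 1, 2, 6, 7, 8, 7, 6, 2, 4, 5, 4, 3, 2, 6, 7, 8, 7, 6, 3, 4, 3, 2, 1, 2, 1, 3, 4, 5, 4, 6, 7, 6, 2, 3, 4, 3, 2, 6, 7, 6, 4, 5, 4, 3, 2, 6, 7, 8, 7, 6, 2, 3, 4, 5, 4, 1, 2, 1],
  [252, 3, 2, 3, 4, 3, 6, 7, 8, 7, 6, 3, 4, 3, 2, 1, 2, 1, 6, 7, 6, 2, 3, 4, 3, 2, 6, 7, 6, 1, 2, 1, 2, 6, 7, 8, 7, 6, 2, 4, 5, 4, 3, 2, 6, 7, 8, 7, 6, 3, 4, 3, 2, 1, 2, 1, 3, 4, 5, 4, 6, 7, 6, 2, 3, 4, 3, 2, 6, 7, 6, 1, 2, 1, 2, 3, 4, 3, 6, 7, 8, 7, 6, 3, 4, 3, 2, 1, 2, 1, 6, 7, 6, 2, 3, 4, 3, 2, 6, 7, 6, 1, 2, 1, 3, 4, 5, 4, 2, 6, 7, 8, 7, 6, 2, 3, 2, 3, 4, 3, 6, 7,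 8, 7, 6, 3, 4, 3, 2, 4, 5, 4, 3, 6, 7, 6, 2, 3, 4, 3, 2, 6, 7, 6, 1, 2, 1, 2, 3, 4, 3, 6, 7, 8, 7, 6, 3, 4, 3, 2],
  [274, 2, 3, 4, 3, 6, 7, 8, 7, 6, 3, 4, 3, 2, 1, 2, 1, 6, 7, 6, 2, 3, 4, 3, 2, 6, 7, 6, 1, 2, 1, 2, 6, 7, 8, 7, 6, 2, 4, 5, 4, 3, 2, 6, 7, 8, 7, 6, 3, 4, 3, 2, 1, 2, 1, 3, 4, 5, 4, 6, 7, 6, 2, 3, 4, 3, 2, 6, 7, 6, 1, 2, 1, 2, 3, 4, 3, 6, 7, 8, 7, 6, 3, 4, 3, 2, 1, 2, 1, 6, 7, 6, 2, 3, 4, 3, 2, 6, 7, 6, 1, 2, 1, 2, 6, 7, 8, 7, 6, 2, 4, 5, 4, 3, 2, 6, 7, 8, 7, 6, 3, 4, 3, 2, 1, 2, 1, 3, 4, 5, 4, 6, 7, 6, 2, 3, 4, 3, 2, 6, 7, 6, 1, 2, 1],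
  [279, 2, 3, 4, 3, 6, 7, 8, 7, 6, 3, 4, 3, 2, 1, 2, 1, 6, 7, 6, 2, 3, 4, 3, 2, 6, 7, 6, 1, 2, 1, 2, 6, 7, 8, 7, 6, 2, 4, 5, 4, 3, 2, 6, 7, 8, 7, 6, 3, 4, 3, 2, 1, 2, 1, 3, 4, 5, 4, 6, 7, 6, 2, 3, 4, 3, 2, 6, 7, 6, 1, 2, 1, 2, 3, 4, 3, 6, 7, 8, 7, 6, 3, 4, 3, 2, 1, 2, 1, 6, 7, 6, 2, 3, 4, 3, 2, 6, 7, 6, 1, 2, 1, 3, 4, 5, 4, 2, 6, 7, 8, 7, 6, 2, 3, 2, 3, 4, 3, 6, 7, 8, 7, 6, 3, 4, 3, 2, 4, 5, 4, 3, 6, 7, 6, 2, 3, 4, 3, 2, 6, 7, 6, 1, 2, 1, 2, 3, 4, 3, 6, 7, 8, 7, 6, 3, 4, 3, 2, 1, 2, 1, 4, 5, 4, 3, 2, 6, 7, 8, 7, 6, 2, 3, 4, 5, 4, 1, 2, 1, 3],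
  [288, 1, 2, 1, 4, 5, 4, 3, 2, 6, 7, 8, 7, 6, 2, 3, 4, 5, 4, 1, 2, 1],
  [310, 2, 3, 4, 3, 6, 7, 8, 7, 6, 3, 4, 3, 2, 1, 2, 1, 6, 7, 6, 2, 3, 4, 3, 2, 6, 7, 6, 1, 2, 1, 2, 6, 7, 8, 7, 6, 2, 4, 5, 4, 3, 2, 6, 7, 8, 7, 6, 3, 4, 3, 2, 1, 2, 1, 3, 4, 5, 4, 6, 7, 6, 2, 3, 4, 3, 2, 6, 7, 6, 1, 2, 1, 3, 1, 2, 1, 4, 5, 4, 3, 2, 6, 7, 8, 7, 6, 2, 3, 4, 5, 4, 1, 2, 1],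
  [456, 2, 3, 4, 3, 6, 7, 8, 7, 6, 3, 4, 3, 2, 1, 2, 1, 6, 7, 6, 2, 3, 4, 3, 2, 6, 7, 6, 1, 2, 1, 3, 4, 5, 4, 2, 6, 7, 8, 7, 6, 2, 3, 2, 3, 4, 3, 6, 7, 8, 7, 6, 3, 4, 3, 2, 4, 5, 4, 3, 6, 7, 6, 2, 3, 4, 3, 2, 6, 7, 6, 1, 2, 1, 2, 3, 4, 3, 6, 7, 8, 7, 6, 3, 4, 3, 2, 3, 1, 2, 1, 4, 5, 4, 3, 2, 6, 7, 8, 7, 6, 2, 3, 4, 5, 4, 1, 2, 1, 3],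
  [474, 2, 3, 4, 3, 6, 7, 8, 7, 6, 3, 4, 3, 2, 1, 2, 1, 6, 7, 6, 2, 3, 4, 3, 2, 6, 7, 6, 1, 2, 1, 2, 6, 7, 8, 7, 6, 2, 4, 5, 4, 3, 2, 6, 7, 8, 7, 6, 3, 4, 3, 2, 1, 2, 1, 3, 4, 5, 4, 6, 7, 6, 2, 3, 4, 3, 2, 6, 7, 6, 4, 5, 4, 3, 2, 6, 7, 8, 7, 6, 2, 3, 4, 5, 4, 1, 2, 1, 3],
  [481, 2, 3, 4, 3, 6, 7, 8, 7, 6, 3, 4, 3, 2, 1, 2, 1, 6, 7, 6, 2, 3, 4, 3, 2, 6, 7, 6, 1, 2, 1, 2, 6, 7, 8, 7, 6, 2, 4, 5, 4, 3, 2, 6, 7, 8, 7, 6, 3, 4, 3, 2, 1, 2, 1, 3, 4, 5, 4, 6, 7, 6, 2, 3, 4, 3, 2, 6, 7, 6, 1, 2, 1, 2, 3, 4, 3, 6, 7, 8, 7, 6, 3, 4, 3, 2, 1, 2, 1, 6, 7, 6, 2, 3, 4, 3, 2, 6, 7, 6, 1, 2, 1, 3, 4, 5, 4, 2, 6, 7, 8, 7, 6, 2, 3, 2, 3, 4, 3, 6, 7,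 8, 7, 6, 3, 4, 3, 2, 4, 5, 4, 3, 6, 7, 6, 2, 3, 4, 3, 2, 6, 7, 6, 1, 2, 1, 2, 3, 4, 3, 6, 7, 8, 7, 6, 3, 4, 3, 2],
  [490, 3, 1, 2, 1, 4, 5, 4, 3, 2, 6, 7, 8, 7, 6, 2, 3, 4, 5, 4, 1, 2, 1, 3],
  [502, 1, 2, 1, 4, 5, 4, 3, 2, 6, 7, 8, 7, 6, 2, 3, 4, 5, 4, 1, 2, 1, 2, 3, 4, 3, 6, 7, 8, 7, 6, 3, 4, 3, 2, 1, 2, 1, 6, 7, 6, 2, 3, 4, 3, 2, 6, 7, 6, 1, 2, 1, 3, 4, 5, 4, 2, 6, 7, 8, 7, 6, 2, 3, 2, 3, 4, 3, 6, 7, 8, 7, 6, 3, 4, 3, 2, 4, 5, 4, 3, 1, 2, 1, 2, 6, 7, 8, 7, 6, 2, 4, 5, 4, 3, 2, 6, 7, 8, 7, 6, 3, 4, 3, 2, 1, 2, 1, 3, 4, 5, 4, 6, 7, 6, 2, 3, 4, 3, 2, 6, 7, 6, 1, 2, 1],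
  [509, 3, 1, 2, 1, 4, 5, 4, 3, 2, 6, 7, 8, 7, 6, 2, 3, 4, 5, 4, 1, 2, 1],
  [518, 3, 2, 3, 4, 3, 6, 7, 8, 7, 6, 3, 4, 3, 2, 1, 2, 1, 6, 7, 6, 2, 3, 4, 3, 2, 6, 7, 6, 1, 2, 1, 2, 6, 7, 8, 7, 6, 2, 4, 5, 4, 3, 2, 6, 7, 8, 7, 6, 3, 4, 3, 2, 1, 2, 1, 3, 4, 5, 4, 6, 7, 6, 2, 3, 4, 3, 2, 6, 7, 6, 1, 2, 1, 3],
  [530, 2, 3, 4, 3, 6, 7, 8, 7, 6, 3, 4, 3, 2, 1, 2, 1, 6, 7, 6, 2, 3, 4, 3, 2, 6, 7, 6, 1, 2, 1, 2, 6, 7, 8, 7, 6, 2, 4, 5, 4, 3, 2, 6, 7, 8, 7, 6, 3, 4, 3, 2, 1, 2, 1, 3, 4, 5, 4, 6, 7, 6, 2, 3, 4, 3, 2, 6, 7, 6, 1, 2, 1, 2, 3, 4, 3, 6, 7, 8, 7, 6, 3, 4, 3, 2, 1, 2, 1, 6, 7, 6, 2, 3, 4, 3, 2, 6, 7, 6, 1, 2, 1, 2, 6, 7, 8, 7, 6, 2,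 4, 5, 4, 3, 2, 6, 7, 8, 7, 6, 3, 4, 3, 2, 1, 2, 1, 3, 4, 5, 4, 6, 7, 6, 2, 3, 4, 3, 2, 6, 7, 6, 1, 2, 1, 3, 1, 2, 1, 4, 5, 4, 3, 2, 6, 7, 8, 7, 6, 2, 3, 4, 5, 4, 1, 2, 1],
  [537, 2, 3, 4, 3, 6, 7, 8, 7, 6, 3, 4, 3, 2, 1, 2, 1, 6, 7, 6, 2, 3, 4, 3, 2, 6, 7, 6, 1, 2, 1, 2, 6, 7, 8, 7, 6, 2, 4, 5, 4, 3, 2, 6, 7, 8, 7, 6, 3, 4, 3, 2, 1, 2, 1, 3, 4, 5, 4, 6, 7, 6, 2, 3, 4, 3, 2, 6, 7, 6, 1, 2, 1, 3, 1, 2, 1, 4, 5, 4, 3, 2, 6, 7, 8, 7, 6, 2, 3, 4, 5, 4, 1, 2, 1, 3],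
  [546, 2, 3, 4, 3, 6, 7, 8, 7, 6, 3, 4, 3, 2, 1, 2, 1, 6, 7, 6, 2, 3, 4, 3, 2, 6, 7, 6, 1, 2, 1, 3, 4, 5, 4, 2, 6, 7, 8, 7, 6, 2, 3, 2, 3, 4, 3, 6, 7, 8, 7, 6, 3, 4, 3, 2, 4, 5, 4, 3, 1, 2, 1, 2, 6, 7, 8, 7, 6, 2, 4, 5, 4, 3, 2, 6, 7, 8, 7, 6, 3, 4, 3, 2, 1, 2, 1, 3, 4, 5, 4, 6, 7, 6, 2, 3, 4, 3, 2, 6, 7, 6, 1, 2, 1],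
  [552, 3, 2, 3, 4, 3, 6, 7, 8, 7, 6, 3, 4, 3, 2, 1, 2, 1, 6, 7, 6, 2, 3, 4, 3, 2, 6, 7, 6, 1, 2, 1, 3, 4, 5, 4, 2, 6, 7, 8, 7, 6, 2, 3, 2, 3, 4, 3, 6, 7, 8, 7, 6, 3, 4, 3, 2, 4, 5, 4, 3, 6, 7, 6, 2, 3, 4, 3, 2, 6, 7, 6, 1, 2, 1, 2, 3, 4, 3, 6, 7, 8, 7, 6, 3, 4, 3, 2, 1, 2, 1, 4, 5, 4, 3, 2, 6, 7, 8, 7, 6, 2, 3, 4, 5, 4, 1, 2, 1],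
  [566, 1, 2, 1, 4, 5, 4, 3, 2, 6, 7, 8, 7, 6, 2, 3, 4, 5, 4, 1, 2, 1, 2, 3, 4, 3, 6, 7, 8, 7, 6, 3, 4, 3, 2, 1, 2, 1, 6, 7, 6, 2, 3, 4, 3, 2, 6, 7, 6, 1, 2, 1, 3, 4, 5, 4, 2, 6, 7, 8, 7, 6, 2, 3, 2, 3, 4, 3, 6, 7, 8, 7, 6, 3, 4, 3, 2, 4, 5, 4, 3, 6, 7, 6, 2, 3, 4, 3, 2, 6, 7, 6, 1, 2, 1, 2, 3, 4, 3, 6, 7, 8, 7, 6, 3, 4, 3, 2],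
  [584, 2, 3, 4, 3, 6, 7, 8, 7, 6, 3, 4, 3, 2, 1, 2, 1, 6, 7, 6, 2, 3, 4, 3, 2, 6, 7, 6, 1, 2, 1, 3, 4, 5, 4, 2, 6, 7, 8, 7, 6, 2, 3, 2, 3, 4, 3, 6, 7, 8, 7, 6, 3, 4, 3, 2, 4, 5, 4, 3, 1, 2, 1, 2, 6, 7, 8, 7, 6, 2, 4, 5, 4, 3, 2, 6, 7, 8, 7, 6, 3, 4, 3, 2, 1, 2, 1, 3, 4, 5, 4, 6, 7, 6, 2, 3, 4, 3, 2, 6, 7, 6, 1, 2, 1, 2, 3, 4, 3, 6, 7, 8, 7, 6, 3, 4, 3, 2, 1, 2, 1, 6, 7, 6, 2, 3, 4, 3, 2, 6, 7, 6, 1, 2, 1, 2, 6, 7, 8, 7, 6, 2, 4, 5, 4, 3, 2, 6, 7, 8, 7, 6, 3, 4, 3, 2, 1, 2, 1, 3, 4, 5, 4, 6, 7, 6, 2, 3, 4, 3, 2, 6, 7, 6, 1, 2, 1],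
  [607, 2, 3, 4, 3, 6, 7, 8, 7, 6, 3, 4, 3, 2, 1, 2, 1, 6, 7, 6, 2, 3, 4, 3, 2, 6, 7, 6, 1, 2, 1, 3, 4, 5, 4, 2, 6, 7, 8, 7, 6, 2, 3, 2, 3, 4, 3, 6, 7, 8, 7, 6, 3, 4, 3, 2, 4, 5, 4, 3, 6, 7, 6, 2, 3, 4, 3, 2, 6, 7, 6, 1, 2, 1, 2, 3, 4, 3, 6, 7, 8, 7, 6, 3, 4, 3, 2],
  [635, 2, 3, 4, 3, 6, 7, 8, 7, 6, 3, 4, 3, 2, 1, 2, 1, 6, 7, 6, 2, 3, 4, 3, 2, 6, 7, 6, 1, 2, 1, 3, 4, 5, 4, 2, 6, 7, 8, 7, 6, 2, 3, 2, 3, 4, 3, 6, 7, 8, 7, 6, 3, 4, 3, 2, 4, 5, 4, 3, 6, 7, 6, 2, 3, 4, 3, 2, 6, 7, 6, 1, 2, 1, 2, 3, 4, 3, 6, 7, 8, 7, 6, 3, 4, 3, 2, 1, 2, 1, 4, 5, 4, 3, 2, 6, 7, 8, 7, 6, 2, 3, 4, 5, 4, 1, 2, 1, 3],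
  [663, 2, 3, 4, 3, 6, 7, 8, 7, 6, 3, 4, 3, 2, 1, 2, 1, 6, 7, 6, 2, 3, 4, 3, 2, 6, 7, 6, 1, 2, 1, 3, 4, 5, 4, 2, 6, 7, 8, 7, 6, 2, 3, 2, 3, 4, 3, 6, 7, 8, 7, 6, 3, 4, 3, 2, 4, 5, 4, 3, 6, 7, 6, 2, 3, 4, 3, 2, 6, 7, 6, 1, 2, 1, 2, 3, 4, 3, 6, 7, 8, 7, 6, 3, 4, 3, 2, 3, 1, 2, 1, 4, 5, 4, 3, 2, 6, 7, 8, 7, 6, 2, 3, 4, 5, 4, 1, 2, 1]]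

/-- the orbit of the fifth base point under the stabiliser of the earlier ones -/
def lvl5 : List (List Nat) := [[319, 1, 2, 1, 6, 7, 6, 2, 3, 4, 3, 2, 6, 7, 6, 4, 5, 4, 3, 1, 2, 1, 2, 3, 4, 3, 6, 7, 8, 7, 6, 2, 3, 4, 5, 4, 2, 6, 7, 8, 7, 6, 2, 1, 2, 1, 6, 7, 6, 2, 3, 4, 3, 2, 6, 7, 6, 1, 2, 1, 2, 3, 4, 3, 6, 7, 8, 7, 6, 3, 4, 3, 2, 3, 2, 3, 4, 3, 6, 7, 8, 7, 6, 3, 4, 3, 2, 1, 2, 1, 6, 7, 6, 2, 3, 4, 3, 2, 6, 7, 6, 1, 2, 1, 2, 6, 7, 8, 7, 6, 2, 4, 5, 4, 3, 2, 6, 7, 8, 7, 6, 3, 4, 3, 2, 1, 2, 1, 3, 4, 5, 4, 6, 7, 6, 2, 3, 4, 3, 2, 6, 7, 6, 1, 2, 1, 3, 2, 3, 4, 3, 6, 7, 8, 7, 6, 3, 4, 3, 2, 1, 2, 1, 6, 7, 6, 2, 3, 4, 3, 2, 6, 7, 6, 1,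 2, 1, 2, 6, 7, 8, 7, 6, 2, 4, 5, 4, 3, 2, 6, 7, 8, 7, 6, 3, 4, 3, 2, 1, 2, 1, 3, 4, 5, 4, 6, 7, 6, 2, 3, 4, 3, 2, 6, 7, 6, 1, 2, 1, 2, 3, 4, 3, 6, 7, 8, 7, 6, 3, 4, 3, 2, 1, 2, 1, 6, 7, 6, 2, 3, 4, 3, 2, 6, 7, 6, 1, 2, 1, 2, 6, 7, 8, 7, 6, 2, 4, 5, 4, 3, 2, 6, 7, 8, 7, 6, 3, 4, 3, 2, 1, 2, 1, 3, 4, 5, 4, 6, 7, 6, 2, 3, 4, 3, 2, 6, 7, 6, 1, 2, 1, 3],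
  [331, 1, 2, 1, 6, 7, 6, 2, 3, 4, 3, 2, 6, 7, 6, 4, 5, 4, 3, 1, 2, 1, 2, 3, 4, 3, 6, 7, 8, 7, 6, 2, 3, 4, 5, 4, 2, 6, 7, 8, 7, 6, 2, 1, 2, 1, 6, 7, 6, 2, 3, 4, 3, 2, 6, 7, 6, 1, 2, 1, 2, 3, 4, 3, 6, 7, 8, 7, 6, 3, 4, 3, 2, 3, 2, 3, 4, 3, 6, 7, 8, 7, 6, 3, 4, 3, 2, 1, 2, 1, 6, 7, 6, 2, 3, 4, 3, 2, 6, 7, 6, 1, 2, 1, 2, 6, 7, 8, 7, 6, 2, 4, 5, 4, 3, 2, 6, 7, 8, 7, 6, 3, 4, 3, 2, 1, 2, 1, 3, 4, 5, 4, 6, 7, 6, 2, 3, 4, 3, 2, 6, 7, 6, 1, 2, 1],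
  [366, 3, 2, 3, 4, 3, 6, 7, 8, 7, 6, 3, 4, 3, 2, 1, 2, 1, 6, 7, 6, 2, 3, 4, 3, 2, 6, 7, 6, 1, 2, 1, 2, 6, 7, 8, 7, 6, 2, 4, 5, 4, 3, 2, 6, 7, 8, 7, 6, 3, 4, 3, 2, 1, 2, 1, 3, 4, 5, 4, 6, 7, 6, 2, 3, 4, 3, 2, 6, 7, 6, 1, 2, 1, 2, 3, 4, 3, 6, 7, 8, 7, 6, 3, 4, 3, 2, 1, 2, 1, 6, 7, 6, 2, 3, 4, 3, 2, 6, 7, 6, 1, 2, 1, 2, 6, 7, 8, 7, 6, 2, 4, 5, 4, 3, 2, 6, 7, 8, 7, 6, 3, 4, 3, 2, 1, 2, 1, 3, 4, 5, 4, 6, 7, 6, 2, 3, 4, 3, 2, 6, 7, 6, 1, 2, 1, 3, 1, 2, 1, 6, 7, 6, 2, 3, 4, 3, 2, 6, 7, 6, 4, 5, 4, 3, 1, 2, 1, 2, 3, 4, 3, 6, 7, 8, 7, 6, 2, 3, 4, 5, 4, 2, 6, 7, 8, 7, 6, 2, 1, 2, 1, 6, 7, 6, 2, 3, 4, 3, 2, 6, 7, 6, 1, 2, 1, 2, 3, 4, 3, 6, 7,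 8, 7, 6, 3, 4, 3, 2, 3, 2, 3, 4, 3, 6, 7, 8, 7, 6, 3, 4, 3, 2, 1, 2, 1, 6, 7, 6, 2, 3, 4, 3, 2, 6, 7, 6, 1, 2, 1, 2, 6, 7, 8, 7, 6, 2, 4, 5, 4, 3, 2, 6, 7, 8, 7, 6, 3, 4, 3, 2, 1, 2, 1, 3, 4, 5, 4, 6, 7, 6, 2, 3, 4, 3, 2, 6, 7, 6, 1, 2, 1],
  [403, 1, 2, 1, 6, 7, 6, 2, 3, 4, 3, 2, 6, 7, 6, 4, 5, 4, 3, 1, 2, 1, 2, 3, 4, 3, 6, 7, 8, 7, 6, 2, 3, 4, 5, 4, 2, 6, 7, 8, 7, 6, 2, 1, 2, 1, 6, 7, 6, 2, 3, 4, 3, 2, 6, 7, 6, 1, 2, 1, 2, 3, 4, 3, 6, 7, 8, 7, 6, 3, 4, 3, 2, 3, 2, 3, 4, 3, 6, 7, 8, 7, 6, 3, 4, 3, 2, 1, 2, 1, 6, 7, 6, 2, 3, 4, 3, 2, 6, 7, 6, 1, 2, 1, 2, 6, 7, 8, 7, 6, 2, 4, 5, 4, 3, 2, 6, 7, 8, 7, 6, 3, 4, 3, 2, 1, 2, 1, 3, 4, 5, 4,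 6, 7, 6, 2, 3, 4, 3, 2, 6, 7, 6, 1, 2, 1, 3, 2, 3, 4, 3, 6, 7, 8, 7, 6, 3, 4, 3, 2, 1, 2, 1, 6, 7, 6, 2, 3, 4, 3, 2, 6, 7, 6, 1, 2, 1, 2, 6, 7, 8, 7, 6, 2, 4, 5, 4, 3, 2, 6, 7, 8, 7, 6, 3, 4, 3, 2, 1, 2, 1, 3, 4, 5, 4, 6, 7, 6, 2, 3, 4, 3, 2, 6, 7, 6, 1, 2, 1, 2, 3, 4, 3, 6, 7, 8, 7, 6, 3, 4, 3, 2, 1, 2, 1, 6, 7, 6, 2, 3, 4, 3, 2, 6, 7, 6, 1, 2, 1, 2, 6, 7, 8, 7, 6, 2, 4, 5, 4, 3, 2, 6, 7, 8, 7, 6, 3, 4, 3, 2, 1, 2, 1, 3, 4, 5, 4, 6, 7, 6, 2, 3, 4, 3, 2, 6, 7, 6, 1, 2, 1, 3, 1, 2, 1, 6, 7, 6, 2, 3, 4, 3, 2, 6, 7, 6, 4, 5, 4, 3, 1, 2, 1, 2, 3, 4, 3, 6, 7, 8, 7, 6, 2, 3, 4, 5, 4, 2, 6, 7, 8, 7, 6, 2, 1, 2, 1, 6, 7, 6, 2, 3, 4, 3, 2, 6,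 7, 6, 1, 2, 1, 2, 3, 4, 3, 6, 7, 8, 7, 6, 3, 4, 3, 2, 3, 2, 3, 4, 3, 6, 7, 8, 7, 6, 3, 4, 3, 2, 1, 2, 1, 6, 7, 6, 2, 3, 4, 3, 2, 6, 7, 6, 1, 2, 1, 2, 6, 7, 8, 7, 6, 2, 4, 5, 4, 3, 2, 6, 7, 8, 7, 6, 3, 4, 3, 2, 1, 2, 1, 3, 4, 5, 4, 6, 7, 6, 2, 3, 4, 3, 2, 6, 7, 6, 1, 2, 1],
  [409, 3, 2, 3, 4, 3, 6, 7, 8, 7, 6, 3, 4, 3, 2, 1, 2, 1, 6, 7, 6, 2, 3, 4, 3, 2, 6, 7, 6, 1, 2, 1, 2, 6, 7, 8, 7, 6, 2, 4, 5, 4, 3, 2, 6, 7, 8, 7, 6, 3, 4, 3, 2, 1, 2, 1, 3, 4, 5, 4, 6, 7, 6, 2, 3, 4, 3, 2, 6, 7, 6, 1, 2, 1, 2, 3, 4, 3, 6, 7, 8, 7, 6, 3, 4, 3, 2, 1, 2, 1, 6, 7, 6, 2, 3, 4, 3, 2, 6, 7, 6, 1, 2, 1, 2, 6, 7, 8, 7, 6, 2, 4, 5, 4, 3, 2, 6, 7, 8, 7, 6,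 3, 4, 3, 2, 1, 2, 1, 3, 4, 5, 4, 6, 7, 6, 2, 3, 4, 3, 2, 6, 7, 6, 1, 2, 1, 3],
  [430]]

end Cfsg.Agent.Lib.Helper7.U62MB
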