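import Cfsg.Agent.Lib.Helper7.U62MBase
import Cfsg.Agent.Lib.Helper7.U62MBase2D
import Cfsg.Agent.Lib.Helper7.PermBase5

/-!
# The presented unitary group of degree six over the field of four elements on 672 points: a word that fixes five
points is trivial

The points `440`, `55`, `585`, `207`, `430` form a base: their orbits under the successive stabilisers have 672, 495,
128, 36 and 6 elements, and the group has `672 * 495 * 128 * 36 * 6` elements.  So a word in the letters is trivial
as soon as it fixes these five points.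
-/

set_option autoImplicit false
set_option maxRecDepth 100000

namespace Cfsg.Agent.Lib.Helper7.U62MB

open Cfsg Cfsg.Spor Cfsg.Agent.Lib.Helper7.MG Cfsg.Agent.Lib.Helper7.HSMult Cfsg.Agent.Lib.Helper7.PB
open Cfsg.Agent.Lib.Helper6.U62Sub Cfsg.Agent.Lib.Helper6

/-- the check of an entry: its word fixes the earlier base points and moves the base point to the head -/
def entOK (fix : List ℕ) (b : ℕ) (e : List ℕ) : Bool :=
  match e with
  | [] => false
  | q :: w => (w.all fun x => Nat.blt x 9) && (fix.all fun c => Nat.beq (evB w c) c) && Nat.beq (evB w b) q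

/-- the check of a level -/
def lvlOK (fix : List ℕ) (b : ℕ) (l : List (List ℕ)) : Bool := (l.all fun e => entOK fix b e) && incH l

theorem chk_lvl1 : lvlOK [] 440 lvl1 = true := by decide +kernel

theorem chk_lvl2 : lvlOK [440] 55 lvl2 = true := by decide +kernel

theorem chk_lvl3 : lvlOK [440, 55] 585 lvl3 = true := by decide +kernel

theorem chk_lvl4 : lvlOK [440, 55, 585] 207 lvl4 = true := by decide +kernel

theorem chk_lvl5 : lvlOK [440, 55, 585, 207] 430 lvl5 = true := by decide +kernel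

theorem chk_len : lvl1.length * lvl2.length * lvl3.length * lvl4.length * lvl5.length = 9196830720 := by
  decide +kernel

/-- the elements of a level -/
noncomputable def uL (l : List (List ℕ)) (i : Fin l.length) : PB := VCert.wd pgen (l.get i).tail

theorem ent_spec {fix : List ℕ} {b : ℕ} {l : List (List ℕ)} (h : lvlOK fix b l = true) (i : Fin l.length) :
    (∀ x ∈ (l.get i).tail, x < 9) ∧ (∀ c ∈ fix, evB (l.get i).tail c = c) ∧
      evB (l.get i).tail b = (l.get i).headI := by
  rw [lvlOK, Bool.and_eq_true] at h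
  have h1 := List.all_eq_true.1 h.1 (l.get i) (List.get_mem l i)
  generalize l.get i = e at h1
  cases e with
  | nil => exact absurd h1 (by simp [entOK])
  | cons q w =>
    rw [entOK, Bool.and_eq_true, Bool.and_eq_true] at h1
    obtain ⟨⟨h2, h3⟩, h4⟩ := h1
    refine ⟨?_, ?_, ?_⟩
    · intro x hx
      simpa [Nat.blt] using List.all_eq_true.1 h2 x hx
    · intro c hc
      exact Nat.eq_of_beq_eq_true (List.all_eq_true.1 h3 c hc)
    · exact Nat.eq_of_beq_eq_true h4

theorem uL_fix {fix : List ℕ} {b : ℕ} {l : List (List ℕ)} (h : lvlOK fix b l = true) (i : Fin l.length)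
    (c : Fin 672) (hc : c.val ∈ fix) : φB (uL l i) c = c := by
  obtain ⟨h1, h2, _⟩ := ent_spec h i
  apply Fin.ext
  rw [uL, φB_apply_val h1, h2 c.val hc]

theorem uL_inj {fix : List ℕ} {b : ℕ} {l : List (List ℕ)} (h : lvlOK fix b l = true) (p : Fin 672)
    (hp : p.val = b) : Function.Injective fun i => φB (uL l i) p := by
  intro i j hij
  have h1 := congrArg Fin.val hij
  simp only at h1
  obtain ⟨hi1, _, hi3⟩ := ent_spec h i
  obtain ⟨hj1, _, hj3⟩ := ent_spec h j
  rw [uL, uL, φB_apply_val hi1, φB_apply_val hj1, hp, hi3, hj3] at h1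
  rw [lvlOK, Bool.and_eq_true] at h
  exact head_injective h.2 h1

/-- **an element that fixes the five base points is trivial** -/
theorem eq_one_of_base {g : PB} (h0 : (φB g ⟨440, by norm_num⟩).val = 440)
    (h1 : (φB g ⟨55, by norm_num⟩).val = 55) (h2 : (φB g ⟨585, by norm_num⟩).val = 585)
    (h3 : (φB g ⟨207, by norm_num⟩).val = 207) (h4 : (φB g ⟨430, by norm_num⟩).val = 430) : g = 1 := by
  refine eq_one_of_fix5 φB (⟨440, by norm_num⟩ : Fin 672) ⟨55, by norm_num⟩ ⟨585, by norm_num⟩
    ⟨207, by norm_num⟩ ⟨430, by norm_num⟩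
    lvl1.length lvl2.length lvl3.length lvl4.length lvl5.length (by rw [card_PB, chk_len])
    (uL lvl1) (uL_inj chk_lvl1 _ rfl)
    (uL lvl2) (fun j => uL_fix chk_lvl2 j _ (by simp)) (uL_inj chk_lvl2 _ rfl)
    (uL lvl3) (fun k => ⟨uL_fix chk_lvl3 k _ (by simp), uL_fix chk_lvl3 k _ (by simp)⟩) (uL_inj chk_lvl3 _ rfl)
    (uL lvl4) (fun k => ⟨uL_fix chk_lvl4 k _ (by simp), uL_fix chk_lvl4 k _ (by simp),
      uL_fix chk_lvl4 k _ (by simp)⟩) (uL_inj chk_lvl4 _ rfl)
    (uL lvl5) (fun k => ⟨uL_fix chk_lvl5 k _ (by simp), uL_fix chk_lvl5 k _ (by simp),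
      uL_fix chk_lvl5 k _ (by simp), uL_fix chk_lvl5 k _ (by simp)⟩) (uL_inj chk_lvl5 _ rfl)
    g (Fin.ext h0) (Fin.ext h1) (Fin.ext h2) (Fin.ext h3) (Fin.ext h4)

/-- the check that a word fixes the five base points, the letters acting by `lk` -/
def base5 (lk : ℕ → ℕ → ℕ) (w : List ℕ) : Bool :=
  strictL w fun w' => Nat.beq (evL lk w' 440) 440 && Nat.beq (evL lk w' 55) 55 && Nat.beq (evL lk w' 585) 585 &&
    Nat.beq (evL lk w' 207) 207 && Nat.beq (evL lk w' 430) 430

/-- **a word in letters of a group that acts faithfully enough on the 672 points is trivial as soon as it fixes the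
five base points** -/
theorem wd_eq_one_of_base5 {Γ : Type*} [Group Γ] (ψ : Γ →* Equiv.Perm (Fin 672))
    (hψ : ∀ g : Γ, (ψ g ⟨440, by norm_num⟩).val = 440 → (ψ g ⟨55, by norm_num⟩).val = 55 →
      (ψ g ⟨585, by norm_num⟩).val = 585 → (ψ g ⟨207, by norm_num⟩).val = 207 →
      (ψ g ⟨430, by norm_num⟩).val = 430 → g = 1)
    (γ : ℕ → Γ) (lk : ℕ → ℕ → ℕ) (h : ∀ x (p : Fin 672), (ψ (γ x) p).val = lk x p.val)
    {w : List ℕ} (hb : base5 lk w = true) : VCert.wd γ w = 1 := by
  rw [base5, strictL_eq, Bool.and_eq_true, Bool.and_eq_true, Bool.and_eq_true, Bool.and_eq_true] at hb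
  apply hψ
  · rw [ev_link ψ γ lk h]; exact Nat.eq_of_beq_eq_true hb.1.1.1.1
  · rw [ev_link ψ γ lk h]; exact Nat.eq_of_beq_eq_true hb.1.1.1.2
  · rw [ev_link ψ γ lk h]; exact Nat.eq_of_beq_eq_true hb.1.1.2
  · rw [ev_link ψ γ lk h]; exact Nat.eq_of_beq_eq_true hb.1.2
  · rw [ev_link ψ γ lk h]; exact Nat.eq_of_beq_eq_true hb.2

/-- the check that a word in the fourteen letters fixes the five base points -/
def baseT (w : List ℕ) : Bool := base5 lkT w

/-- **a word in the fourteen letters that fixes the five base points is trivial** -/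
theorem wd_lT_eq_one_of_base {w : List ℕ} (h : baseT w = true) : VCert.wd lT w = 1 :=
  wd_eq_one_of_base5 φB (fun _ h0 h1 h2 h3 h4 => eq_one_of_base h0 h1 h2 h3 h4) lT lkT φB_lT_val h

/-- the action of `L` on the 672 points -/
noncomputable def φL : ↥L →* Equiv.Perm (Fin 672) := φB.comp L.subtype

theorem φL_apply (g : ↥L) : φL g = φB (g : PB) := rfl

theorem eq_one_of_baseL {g : ↥L} (h0 : (φL g ⟨440, by norm_num⟩).val = 440)
    (h1 : (φL g ⟨55, by norm_num⟩).val = 55) (h2 : (φL g ⟨585, by norm_num⟩).val = 585)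
    (h3 : (φL g ⟨207, by norm_num⟩).val = 207) (h4 : (φL g ⟨430, by norm_num⟩).val = 430) : g = 1 :=
  Subtype.ext (eq_one_of_base h0 h1 h2 h3 h4)

/-- the image of one of the 672 points under one of the first twelve letters -/
def lkT1 (x p : ℕ) : ℕ := cond (Nat.blt x 12) (tbl (selT x) p) p

theorem lkT1_lt {x : ℕ} (hx : x < 12) (p : ℕ) : lkT1 x p = lkT x p := by
  have h1 : Nat.blt x 12 = true := by simpa [Nat.blt] using hx
  have h2 : Nat.blt x 14 = true := by
    have : x < 14 := by omega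
    simpa [Nat.blt] using this
  rw [lkT1, lkT, h1, h2]

theorem lkT1_ge {x : ℕ} (hx : 12 ≤ x) (p : ℕ) : lkT1 x p = p := by
  have : Nat.blt x 12 = false := by
    rw [Bool.eq_false_iff]
    intro h
    have : x < 12 := by simpa [Nat.blt] using h
    omega
  rw [lkT1, this]
  rfl

theorem φL_lT1_val (x : ℕ) (p : Fin 672) : (φL (lT1 x) p).val = lkT1 x p.val := by
  rcases Nat.lt_or_ge x 12 with hx | hx
  · rw [φL_apply, lT1_val hx, φB_lT_val, lkT1_lt hx]
  · rw [lT1_of_ge hx, map_one, lkT1_ge hx]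
    rfl

/-- the image of one of the 672 points under a word in the first twelve letters -/
def evT1 (w : List ℕ) (p : ℕ) : ℕ := evL lkT1 w p

theorem φL_wd_lT1_val (w : List ℕ) (p : Fin 672) : (φL (VCert.wd lT1 w) p).val = evT1 w p.val :=
  ev_link φL lT1 lkT1 φL_lT1_val w p

theorem evT1_lt (w : List ℕ) (p : ℕ) (hp : p < 672) : evT1 w p < 672 := by
  have h := (φL (VCert.wd lT1 w) ⟨p, hp⟩).2
  rw [φL_wd_lT1_val] at h
  exact h

/-- the check that a word in the first twelve letters fixes the five base points -/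
def baseT1 (w : List ℕ) : Bool := base5 lkT1 w

theorem wd_lT1_eq_one_of_base {w : List ℕ} (h : baseT1 w = true) : VCert.wd lT1 w = 1 :=
  wd_eq_one_of_base5 φL (fun _ h0 h1 h2 h3 h4 => eq_one_of_baseL h0 h1 h2 h3 h4) lT1 lkT1 φL_lT1_val h

end Cfsg.Agent.Lib.Helper7.U62MB
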