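import Cfsg.Agent.Lib.Helper7.U62MBase2

/-!
# The presented unitary group of degree six over the field of four elements: systems of letters in the subgroup `L`,
and bounds for the orders of subgroups by closed sets of images of the base

A system of letters consists of words in the first twelve of the fourteen letters; its letters are elements of `L`.
A word in the letters of a system is trivial as soon as it fixes the five base points.  If a list of packed tuples of
points contains the base and is closed under the letters of a system, then the subgroup generated by these letters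
has at most as many elements as the list.
-/

set_option autoImplicit false
set_option maxRecDepth 100000

namespace Cfsg.Agent.Lib.Helper7.U62MB

open Cfsg Cfsg.Spor Cfsg.Agent.Lib.Helper7.MG Cfsg.Agent.Lib.Helper7.HSMult Cfsg.Agent.Lib.Helper7.PB
open Cfsg.Agent.Lib.Helper6.U62Sub Cfsg.Agent.Lib.Helper6

/-! ### packed images of the base -/

/-- five points, packed -/
def pack5 (a b c d e : ℕ) : ℕ :=
  Nat.add a (Nat.mul 1024 (Nat.add b (Nat.mul 1024 (Nat.add c (Nat.mul 1024 (Nat.add d (Nat.mul 1024 e)))))))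

/-- the components of a packed tuple -/
def comp5 (t i : ℕ) : ℕ := Nat.land (Nat.shiftRight t (Nat.mul 10 i)) 1023

theorem comp5_pack5 {a b c d e : ℕ} (ha : a < 1024) (hb : b < 1024) (hc : c < 1024) (hd : d < 1024)
    (he : e < 1024) : comp5 (pack5 a b c d e) 0 = a ∧ comp5 (pack5 a b c d e) 1 = b ∧
      comp5 (pack5 a b c d e) 2 = c ∧ comp5 (pack5 a b c d e) 3 = d ∧ comp5 (pack5 a b c d e) 4 = e := by
  have e0 : ∀ t i : ℕ, comp5 t i = t / 2 ^ (10 * i) % 1024 := by
    intro t i
    show (t >>> (10 * i)) &&& 1023 = _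
    rw [Nat.shiftRight_eq_div_pow]
    exact Nat.and_two_pow_sub_one_eq_mod _ 10
  have e1 : pack5 a b c d e = a + 1024 * (b + 1024 * (c + 1024 * (d + 1024 * e))) := rfl
  rw [e0, e0, e0, e0, e0, e1]
  refine ⟨by omega, by omega, by omega, by omega, by omega⟩

/-- the packed images of the base points under an element of the group -/
noncomputable def codeG (g : PB) : ℕ :=
  pack5 (φB g ⟨440, by norm_num⟩).val (φB g ⟨55, by norm_num⟩).val (φB g ⟨585, by norm_num⟩).val
    (φB g ⟨207, by norm_num⟩).val (φB g ⟨430, by norm_num⟩).val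

/-- the packed base -/
def codeBase : ℕ := pack5 440 55 585 207 430

theorem codeG_one : codeG 1 = codeBase := by
  rw [codeG, map_one]
  rfl

/-- a permutation of the points, given by a function, applied to a packed tuple -/
def actF (f : ℕ → ℕ) (t : ℕ) : ℕ :=
  pack5 (f (comp5 t 0)) (f (comp5 t 1)) (f (comp5 t 2)) (f (comp5 t 3)) (f (comp5 t 4))

theorem codeG_mul {a : PB} {f : ℕ → ℕ} (ha : ∀ p : Fin 672, (φB a p).val = f p.val) (g : PB) :
    codeG (a * g) = actF f (codeG g) := by
  have hlt : ∀ p : Fin 672, (φB g p).val < 1024 := fun p => lt_trans (φB g p).2 (by norm_num)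
  obtain ⟨c0, c1, c2, c3, c4⟩ := comp5_pack5 (hlt ⟨440, by norm_num⟩) (hlt ⟨55, by norm_num⟩)
    (hlt ⟨585, by norm_num⟩) (hlt ⟨207, by norm_num⟩) (hlt ⟨430, by norm_num⟩)
  have key : ∀ p : Fin 672, (φB (a * g) p).val = f (φB g p).val := by
    intro p
    rw [map_mul, Equiv.Perm.mul_apply, ha]
  rw [actF]
  show pack5 _ _ _ _ _ = _
  rw [key, key, key, key, key]
  have e : ∀ i, comp5 (codeG g) i = comp5 (pack5 (φB g ⟨440, by norm_num⟩).val (φB g ⟨55, by norm_num⟩).val
      (φB g ⟨585, by norm_num⟩).val (φB g ⟨207, by norm_num⟩).val (φB g ⟨430, by norm_num⟩).val) i := fun _ => rfl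
  rw [e 0, e 1, e 2, e 3, e 4, c0, c1, c2, c3, c4]

theorem codeG_injective : Function.Injective codeG := by
  intro g g' h
  have hlt : ∀ (k : PB) (p : Fin 672), (φB k p).val < 1024 := fun k p => lt_trans (φB k p).2 (by norm_num)
  obtain ⟨c0, c1, c2, c3, c4⟩ := comp5_pack5 (hlt g ⟨440, by norm_num⟩) (hlt g ⟨55, by norm_num⟩)
    (hlt g ⟨585, by norm_num⟩) (hlt g ⟨207, by norm_num⟩) (hlt g ⟨430, by norm_num⟩)
  obtain ⟨d0, d1, d2, d3, d4⟩ := comp5_pack5 (hlt g' ⟨440, by norm_num⟩) (hlt g' ⟨55, by norm_num⟩)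
    (hlt g' ⟨585, by norm_num⟩) (hlt g' ⟨207, by norm_num⟩) (hlt g' ⟨430, by norm_num⟩)
  have h' : pack5 (φB g ⟨440, by norm_num⟩).val (φB g ⟨55, by norm_num⟩).val (φB g ⟨585, by norm_num⟩).val
      (φB g ⟨207, by norm_num⟩).val (φB g ⟨430, by norm_num⟩).val =
    pack5 (φB g' ⟨440, by norm_num⟩).val (φB g' ⟨55, by norm_num⟩).val (φB g' ⟨585, by norm_num⟩).val
      (φB g' ⟨207, by norm_num⟩).val (φB g' ⟨430, by norm_num⟩).val := h
  rw [h'] at c0 c1 c2 c3 c4
  have key : ∀ p : Fin 672, (φB g p).val = (φB g' p).val → (φB (g'⁻¹ * g) p).val = p.val := by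
    intro p hp
    rw [map_mul, Equiv.Perm.mul_apply, Fin.ext hp, map_inv, Equiv.Perm.inv_eq_iff_eq.2 rfl]
  have h1 : g'⁻¹ * g = 1 := eq_one_of_base (key _ (c0.symm.trans d0)) (key _ (c1.symm.trans d1))
    (key _ (c2.symm.trans d2)) (key _ (c3.symm.trans d3)) (key _ (c4.symm.trans d4))
  exact (inv_mul_eq_one.1 h1).symm

/-! ### systems of letters -/

section letsys

variable (lw : ℕ → List ℕ) (lk : ℕ → ℕ → ℕ)

/-- the letters of a system, in `L` -/
noncomputable def lS (x : ℕ) : ↥L := VCert.wd lT1 (lw x)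

omit lk in
theorem lS_of_ge (g : ℕ) (hge : ∀ x, g ≤ x → lw x = []) {x : ℕ} (hx : g ≤ x) : lS lw x = 1 := by
  rw [lS, hge x hx]
  rfl

variable (hlk : ∀ x p, p < 672 → lk x p = evT1 (lw x) p)

include hlk

theorem φL_lS_val (x : ℕ) (p : Fin 672) : (φL (lS lw x) p).val = lk x p.val := by
  rw [lS, φL_wd_lT1_val, hlk x p.val p.2]

theorem φL_wd_lS_val (w : List ℕ) (p : Fin 672) : (φL (VCert.wd (lS lw) w) p).val = evL lk w p.val :=
  ev_link φL (lS lw) lk (φL_lS_val lw lk hlk) w p

/-- **a word in the letters of a system that fixes the five base points is trivial** -/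
theorem wd_lS_eq_one_of_base {w : List ℕ} (h : base5 lk w = true) : VCert.wd (lS lw) w = 1 :=
  wd_eq_one_of_base5 φL (fun _ h0 h1 h2 h3 h4 => eq_one_of_baseL h0 h1 h2 h3 h4) (lS lw) lk
    (φL_lS_val lw lk hlk) h

theorem lS_iv (g : ℕ) (hiv : ∀ x, x < g → base5 lk [x, Nat.xor x 1] = true) {x : ℕ} (hx : x < g) :
    lS lw (Nat.xor x 1) = (lS lw x)⁻¹ := by
  have h := wd_lS_eq_one_of_base lw lk hlk (hiv x hx)
  rw [VCert.wd_cons, VCert.wd_cons, VCert.wd_nil, mul_one] at h
  exact (eq_inv_of_mul_eq_one_right h)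

/-- the check that a word in the letters of a system, after one of the first twelve letters, fixes the five base
points -/
def base5p (w : List ℕ) (y : ℕ) : Bool :=
  strictL w fun w' => Nat.beq (evL lk w' (lkT1 y 440)) 440 && Nat.beq (evL lk w' (lkT1 y 55)) 55 &&
    Nat.beq (evL lk w' (lkT1 y 585)) 585 && Nat.beq (evL lk w' (lkT1 y 207)) 207 &&
    Nat.beq (evL lk w' (lkT1 y 430)) 430

theorem wd_lS_mul_eq_one {w : List ℕ} {y : ℕ} (h : base5p lk w y = true) :
    VCert.wd (lS lw) w * lT1 y = 1 := by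
  rw [base5p, strictL_eq, Bool.and_eq_true, Bool.and_eq_true, Bool.and_eq_true, Bool.and_eq_true] at h
  have key : ∀ p : Fin 672, (φL (VCert.wd (lS lw) w * lT1 y) p).val = evL lk w (lkT1 y p.val) := by
    intro p
    rw [map_mul, Equiv.Perm.mul_apply, φL_wd_lS_val lw lk hlk, φL_lT1_val]
  apply eq_one_of_baseL
  · rw [key]; exact Nat.eq_of_beq_eq_true h.1.1.1.1
  · rw [key]; exact Nat.eq_of_beq_eq_true h.1.1.1.2
  · rw [key]; exact Nat.eq_of_beq_eq_true h.1.1.2
  · rw [key]; exact Nat.eq_of_beq_eq_true h.1.2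
  · rw [key]; exact Nat.eq_of_beq_eq_true h.2

/-- **the letters of a system generate `L` if the first twelve letters are words in them** -/
theorem closure_lS (g : ℕ) (hge : ∀ x, g ≤ x → lw x = []) (wGs : ℕ → List ℕ)
    (hG : ∀ t, t < 12 → base5p lk (wGs t) (Nat.xor t 1) = true) :
    Subgroup.closure (lS lw '' Set.Iio g) = ⊤ := by
  set S := Subgroup.closure (lS lw '' Set.Iio g) with hS
  have hm : ∀ x, x < g → lS lw x ∈ S := fun x hx => Subgroup.subset_closure ⟨x, hx, rfl⟩
  rw [eq_top_iff, ← closure_lT1, Subgroup.closure_le]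
  rintro _ ⟨t, ht, rfl⟩
  have h1 := wd_lS_mul_eq_one lw lk hlk (hG t ht)
  rw [lT1_iv ht, mul_inv_eq_one] at h1
  rw [SetLike.mem_coe, ← h1]
  exact wd_mem_of_letters (lS lw) S g hm (fun x hx => lS_of_ge lw g hge hx) (wGs t)

/-- **every element of `L` is a word in the letters of a system that generates `L`** -/
theorem hgen_lS (g : ℕ) (hiv : ∀ x, x < g → base5 lk [x, Nat.xor x 1] = true)
    (hx1 : ∀ x, x < g → Nat.xor x 1 < g) (hcl : Subgroup.closure (lS lw '' Set.Iio g) = ⊤) :
    ∀ y : ↥L, ∃ u : List ℕ, (∀ x ∈ u, x < g) ∧ y = (u.map (lS lw)).prod := by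
  apply exists_word_of_closure (lS lw) g (fun x => Nat.xor x 1) _ hcl
  intro x hx
  exact ⟨hx1 x hx, lS_iv lw lk hlk g hiv hx⟩

/-! ### a closed list of packed tuples bounds the order of a subgroup -/

omit hlk in
/-- the check that a number is in a list -/
def memN (c : ℕ) : List ℕ → Bool
  | [] => false
  | a :: l => cond (Nat.beq a c) true (memN c l)

omit lw lk hlk in
theorem mem_of_memN {c : ℕ} : ∀ {l : List ℕ}, memN c l = true → c ∈ l
  | [], h => by simp [memN] at h
  | a :: l, h => by
    rw [memN] at h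
    cases hb : Nat.beq a c with
    | true => rw [Nat.eq_of_beq_eq_true hb]; exact List.mem_cons_self
    | false =>
      rw [hb] at h
      exact List.mem_cons_of_mem _ (mem_of_memN h)

omit lw hlk in
/-- the check that a list of packed tuples is closed under the first `m` letters of a system -/
def closedS (m : ℕ) (T : List ℕ) : Bool :=
  T.all fun t => allN m fun x => strictN (actF (lk x) t) fun c => memN c T

theorem code_mem_of_closed (m : ℕ) (T : List ℕ) (hT : closedS lk m T = true)
    (hb : memN codeBase T = true) :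
    ∀ u : List ℕ, (∀ x ∈ u, x < m) → codeG ((VCert.wd (lS lw) u : ↥L) : PB) ∈ T
  | [], _ => by
    have : ((VCert.wd (lS lw) [] : ↥L) : PB) = 1 := rfl
    rw [this, codeG_one]
    exact mem_of_memN hb
  | x :: u, h => by
    have ih := code_mem_of_closed m T hT hb u fun y hy => h y (List.mem_cons_of_mem _ hy)
    have e : ((VCert.wd (lS lw) (x :: u) : ↥L) : PB) =
        ((lS lw x : ↥L) : PB) * ((VCert.wd (lS lw) u : ↥L) : PB) := by
      rw [VCert.wd_cons, Subgroup.coe_mul]
    rw [e, codeG_mul (a := ((lS lw x : ↥L) : PB)) (f := lk x) (fun p => φL_lS_val lw lk hlk x p)]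
    rw [closedS] at hT
    have h2 := List.all_eq_true.1 hT _ ih
    rw [allN_iff] at h2
    have h3 := h2 x (h x List.mem_cons_self)
    rw [strictN_eq] at h3
    exact mem_of_memN h3

/-- **the subgroup generated by the first `m` letters of a system has at most as many elements as a closed list of
packed tuples that contains the base** -/
theorem card_closure_le (g m : ℕ) (hmg : m ≤ g)
    (hiv : ∀ x, x < g → base5 lk [x, Nat.xor x 1] = true)
    (hx1 : ∀ x, x < m → Nat.xor x 1 < m) (T : List ℕ) (hT : closedS lk m T = true)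
    (hb : memN codeBase T = true) :
    Nat.card ↥(Subgroup.closure (lS lw '' Set.Iio m)) ≤ T.length := by
  set Q := Subgroup.closure (lS lw '' Set.Iio m) with hQ
  -- every element of `Q` is a word in the first `m` letters
  have hw : ∀ y : ↥L, y ∈ Q → ∃ u : List ℕ, (∀ x ∈ u, x < m) ∧ y = VCert.wd (lS lw) u := by
    intro y hy
    induction hy using Subgroup.closure_induction with
    | mem y hy =>
      obtain ⟨x, hx, rfl⟩ := hy
      exact ⟨[x], by simpa using hx, by rw [VCert.wd_cons, VCert.wd_nil, mul_one]⟩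
    | one => exact ⟨[], by simp, rfl⟩
    | mul a b _ _ iha ihb =>
      obtain ⟨u, hu, rfl⟩ := iha
      obtain ⟨v, hv, rfl⟩ := ihb
      refine ⟨u ++ v, ?_, by rw [VCert.wd_append]⟩
      intro x hx
      rcases List.mem_append.1 hx with h | h
      · exact hu x h
      · exact hv x h
    | inv a _ iha =>
      obtain ⟨u, hu, rfl⟩ := iha
      refine ⟨(u.map fun x => Nat.xor x 1).reverse, ?_, ?_⟩
      · intro x hx
        rw [List.mem_reverse, List.mem_map] at hx
        obtain ⟨x', hx', rfl⟩ := hx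
        exact hx1 x' (hu x' hx')
      · have key : ∀ u : List ℕ, (∀ x ∈ u, x < m) →
            (VCert.wd (lS lw) u)⁻¹ = VCert.wd (lS lw) (u.map fun x => Nat.xor x 1).reverse := by
          intro u
          induction u with
          | nil => intro _; simp [VCert.wd]
          | cons x u ih =>
            intro hu
            rw [VCert.wd_cons, mul_inv_rev, ih fun x' hx' => hu x' (List.mem_cons_of_mem _ hx'),
              List.map_cons, List.reverse_cons, VCert.wd_append, VCert.wd_cons, VCert.wd_nil, mul_one,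
              lS_iv lw lk hlk g hiv (lt_of_lt_of_le (hu x List.mem_cons_self) hmg)]
        exact key u hu
  have hmem : ∀ y : ↥Q, codeG ((y : ↥L) : PB) ∈ T.toFinset := by
    intro y
    obtain ⟨u, hu, e⟩ := hw y.1 y.2
    rw [List.mem_toFinset, e]
    exact code_mem_of_closed lw lk hlk m T hT hb u hu
  have hinj : Function.Injective (fun y : ↥Q => (⟨codeG ((y : ↥L) : PB), hmem y⟩ : ↥T.toFinset)) := by
    intro y y' h
    have h1 : codeG ((y : ↥L) : PB) = codeG ((y' : ↥L) : PB) := congrArg Subtype.val h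
    exact Subtype.ext (Subtype.ext (codeG_injective h1))
  have h2 := Nat.card_le_card_of_injective _ hinj
  rw [Nat.card_eq_fintype_card (α := ↥T.toFinset), Fintype.card_coe] at h2
  exact le_trans h2 (List.toFinset_card_le T)

end letsys

end Cfsg.Agent.Lib.Helper7.U62MB
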