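import Cfsg.Agent.Lib.Helper7.U62MBase3
import Cfsg.Agent.Lib.Helper7.U62MBase4D

/-!
# The presented unitary group of degree six over the field of four elements: two systems of letters in the subgroup
`L`

The system `X` consists of `u = csfedefs` of order three, `v = cdef` of order five and the involution `g`; the first
two generate a subgroup of order at most 405.  The system `Y` consists of `eg`, `fegf`, two longer words of orders
eight and four, and the involution `d`; the first four generate a subgroup of order at most 1024.  Each system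
generates `L`.
-/

set_option autoImplicit false
set_option maxRecDepth 100000

namespace Cfsg.Agent.Lib.Helper7.U62MB

open Cfsg Cfsg.Spor Cfsg.Agent.Lib.Helper7.MG Cfsg.Agent.Lib.Helper7.HSMult Cfsg.Agent.Lib.Helper7.PB
open Cfsg.Agent.Lib.Helper6.U62Sub Cfsg.Agent.Lib.Helper6

/-! ### the system `X` -/

theorem lXw_ge (x : ℕ) (hx : 6 ≤ x) : lXw x = [] := by
  obtain ⟨y, rfl⟩ : ∃ y, x = y + 6 := ⟨x - 6, by omega⟩
  rfl

/-- the image of one of the 672 points under a letter of the system `X` -/
def lkX (x p : ℕ) : ℕ := cond (Nat.blt x 6) (tbl (selX x) p) p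

theorem lkX_ge {x : ℕ} (hx : 6 ≤ x) (p : ℕ) : lkX x p = p := by
  have : Nat.blt x 6 = false := by
    rw [Bool.eq_false_iff]
    intro h
    have : x < 6 := by simpa [Nat.blt] using h
    omega
  rw [lkX, this]
  rfl

theorem chk_lkX : allN 6 (fun x => allN 672 fun p => Nat.beq (lkX x p) (evT1 (lXw x) p)) = true := by
  decide +kernel

theorem hlkX (x p : ℕ) (hp : p < 672) : lkX x p = evT1 (lXw x) p := by
  rcases Nat.lt_or_ge x 6 with hx | hx
  · have h := chk_lkX
    rw [allN_iff] at h
    have h1 := h x hx
    rw [allN_iff] at h1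
    exact Nat.eq_of_beq_eq_true (h1 p hp)
  · rw [lkX_ge hx, lXw_ge x hx]
    rfl

/-- the letters of the system `X`: `u`, `v`, `g` and their inverses -/
noncomputable def lX : ℕ → ↥L := lS lXw

/-- the check that a word in the letters of the system `X` fixes the five base points -/
def baseX (w : List ℕ) : Bool := base5 lkX w

/-- **a word in the letters of the system `X` that fixes the five base points is trivial** -/
theorem wd_lX_eq_one_of_base {w : List ℕ} (h : baseX w = true) : VCert.wd lX w = 1 :=
  wd_lS_eq_one_of_base lXw lkX hlkX h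

theorem chk_ivX : ∀ x, x < 6 → base5 lkX [x, Nat.xor x 1] = true := by decide +kernel

theorem lX_iv {x : ℕ} (hx : x < 6) : lX (Nat.xor x 1) = (lX x)⁻¹ :=
  lS_iv lXw lkX hlkX 6 chk_ivX hx

theorem lX_of_ge {x : ℕ} (hx : 6 ≤ x) : lX x = 1 := lS_of_ge lXw 6 lXw_ge hx

theorem chk_wGX : ∀ t, t < 12 → base5p lkX (wGX t) (Nat.xor t 1) = true := by decide +kernel

theorem closure_lX : Subgroup.closure (lX '' Set.Iio 6) = ⊤ :=
  closure_lS lXw lkX hlkX 6 lXw_ge wGX chk_wGX

theorem xor_lt_X : ∀ x, x < 6 → Nat.xor x 1 < 6 := by decide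

theorem xor_lt_subX : ∀ x, x < 4 → Nat.xor x 1 < 4 := by decide

theorem hgen_LX : ∀ y : ↥L, ∃ u : List ℕ, (∀ x ∈ u, x < 6) ∧ y = (u.map lX).prod :=
  hgen_lS lXw lkX hlkX 6 chk_ivX xor_lt_X closure_lX

/-- the subgroup generated by the first 4 letters of the system `X` -/
noncomputable def QX : Subgroup ↥L := Subgroup.closure (lX '' Set.Iio 4)

theorem lX_mem_QX {x : ℕ} (hx : x < 4) : lX x ∈ QX := Subgroup.subset_closure ⟨x, hx, rfl⟩

theorem chk_closedX : closedS lkX 4 tlX = true := by decide +kernel

theorem chk_baseX : memN codeBase tlX = true := by decide +kernel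

theorem chk_lenX : tlX.length = 405 := by decide +kernel

/-- **the subgroup generated by the first 4 letters of the system `X` has at most 405 elements** -/
theorem card_QX_le : Nat.card ↥QX ≤ 405 := by
  have h := card_closure_le lXw lkX hlkX 6 4 (by norm_num) chk_ivX xor_lt_subX tlX
    chk_closedX chk_baseX
  rw [chk_lenX] at h
  exact h

/-! ### the system `Y` -/

theorem lYw_ge (x : ℕ) (hx : 10 ≤ x) : lYw x = [] := by
  obtain ⟨y, rfl⟩ : ∃ y, x = y + 10 := ⟨x - 10, by omega⟩
  rfl

/-- the image of one of the 672 points under a letter of the system `Y` -/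
def lkY (x p : ℕ) : ℕ := cond (Nat.blt x 10) (tbl (selY x) p) p

theorem lkY_ge {x : ℕ} (hx : 10 ≤ x) (p : ℕ) : lkY x p = p := by
  have : Nat.blt x 10 = false := by
    rw [Bool.eq_false_iff]
    intro h
    have : x < 10 := by simpa [Nat.blt] using h
    omega
  rw [lkY, this]
  rfl

theorem chk_lkY : allN 10 (fun x => allN 672 fun p => Nat.beq (lkY x p) (evT1 (lYw x) p)) = true := by
  decide +kernel

theorem hlkY (x p : ℕ) (hp : p < 672) : lkY x p = evT1 (lYw x) p := by
  rcases Nat.lt_or_ge x 10 with hx | hx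
  · have h := chk_lkY
    rw [allN_iff] at h
    have h1 := h x hx
    rw [allN_iff] at h1
    exact Nat.eq_of_beq_eq_true (h1 p hp)
  · rw [lkY_ge hx, lYw_ge x hx]
    rfl

/-- the letters of the system `Y`: four elements of a Sylow 2-subgroup, `d`, and their inverses -/
noncomputable def lY : ℕ → ↥L := lS lYw

/-- the check that a word in the letters of the system `Y` fixes the five base points -/
def baseY (w : List ℕ) : Bool := base5 lkY w

/-- **a word in the letters of the system `Y` that fixes the five base points is trivial** -/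
theorem wd_lY_eq_one_of_base {w : List ℕ} (h : baseY w = true) : VCert.wd lY w = 1 :=
  wd_lS_eq_one_of_base lYw lkY hlkY h

theorem chk_ivY : ∀ x, x < 10 → base5 lkY [x, Nat.xor x 1] = true := by decide +kernel

theorem lY_iv {x : ℕ} (hx : x < 10) : lY (Nat.xor x 1) = (lY x)⁻¹ :=
  lS_iv lYw lkY hlkY 10 chk_ivY hx

theorem lY_of_ge {x : ℕ} (hx : 10 ≤ x) : lY x = 1 := lS_of_ge lYw 10 lYw_ge hx

theorem chk_wGY : ∀ t, t < 12 → base5p lkY (wGY t) (Nat.xor t 1) = true := by decide +kernel

theorem closure_lY : Subgroup.closure (lY '' Set.Iio 10) = ⊤ :=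
  closure_lS lYw lkY hlkY 10 lYw_ge wGY chk_wGY

theorem xor_lt_Y : ∀ x, x < 10 → Nat.xor x 1 < 10 := by decide

theorem xor_lt_subY : ∀ x, x < 8 → Nat.xor x 1 < 8 := by decide

theorem hgen_LY : ∀ y : ↥L, ∃ u : List ℕ, (∀ x ∈ u, x < 10) ∧ y = (u.map lY).prod :=
  hgen_lS lYw lkY hlkY 10 chk_ivY xor_lt_Y closure_lY

/-- the subgroup generated by the first 8 letters of the system `Y` -/
noncomputable def QY : Subgroup ↥L := Subgroup.closure (lY '' Set.Iio 8)

theorem lY_mem_QY {x : ℕ} (hx : x < 8) : lY x ∈ QY := Subgroup.subset_closure ⟨x, hx, rfl⟩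

theorem chk_closedY : closedS lkY 8 tlY = true := by decide +kernel

theorem chk_baseY : memN codeBase tlY = true := by decide +kernel

theorem chk_lenY : tlY.length = 1024 := by decide +kernel

/-- **the subgroup generated by the first 8 letters of the system `Y` has at most 1024 elements** -/
theorem card_QY_le : Nat.card ↥QY ≤ 1024 := by
  have h := card_closure_le lYw lkY hlkY 10 8 (by norm_num) chk_ivY xor_lt_subY tlY
    chk_closedY chk_baseY
  rw [chk_lenY] at h
  exact h

end Cfsg.Agent.Lib.Helper7.U62MB
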