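import Cfsg.Agent.Lib.Helper7.U62MLF
import Cfsg.Agent.Lib.Helper7.MGenF
import Cfsg.Agent.Lib.Helper7.MGenH

/-!
# The multiplier of the unitary group of degree six over the field of four elements, the table of the group over the unitary subgroup of degree five: the kernel of every finite stem extension of the presented unitary group is an image of the product of
cyclic groups of orders three, two and two

In a finite stem extension the derived subgroup of the preimage of `L` is a copy of `L`, since `L` is perfect and has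
no proper stem extensions; the first twelve letters are lifted into this copy, so that all the words in these letters
that are trivial in the group are trivial in the extension.  The lift of the last generator is chosen so that one
more given word, in which this generator has the exponent sum one, is trivial.  The checked table over the copy of
`L` shows that the kernel is generated by the values of the other given words; the traced words give relations
between them, which make the kernel a group generated by three elements of orders dividing three, two and two.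
-/

set_option autoImplicit false
set_option maxRecDepth 100000

namespace Cfsg.Agent.Lib.Helper7.U62MT

open Cfsg Cfsg.Spor Cfsg.Agent.Lib.Helper7.MG Cfsg.Agent.Lib.Helper7.HSMult Cfsg.Agent.Lib.Helper7.U62MB
open Cfsg.Agent.Lib.Helper7.M12Mult Cfsg.Agent.Lib.Helper6.U62Sub
open scoped IsMulCommutative

/-! ### the data of the certificate -/

/-- the words that define the central elements -/
def axI : ℕ → ℕ
  | 0 => 1
  | 1 => 25
  | 2 => 23
  | 3 => 26
  | 4 => 39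
  | 5 => 24
  | 6 => 1310
  | 7 => 1440
  | 8 => 1431
  | _ => 0

theorem axI_lt : ∀ j, axI j < 1443
  | 0 => by decide
  | 1 => by decide
  | 2 => by decide
  | 3 => by decide
  | 4 => by decide
  | 5 => by decide
  | 6 => by decide
  | 7 => by decide
  | 8 => by decide
  | _ + 9 => by
    show (0 : ℕ) < 1443
    decide

/-- the trivial word that is not a word in the first twelve letters -/
def yW : List ℕ := [12, 2, 12, 2, 13, 2]

theorem chk_wT : ∀ i, i < 1443 → cert.wT i = 0 →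
    (((cert.W i).all fun x => Nat.blt x 12) = true ∧
      ∀ l, l < 9 → ((fld (cert.rhs i) l : ℤ) - ((cert.W i).length : ℤ) * (cert.B : ℤ)) = 0) ∨
    i = 0 ∨ ∃ j, j < 9 ∧ i = axI j := by decide +kernel

theorem chk_W3 : cert.W 0 = wpow 1 yW := by decide +kernel

theorem chk_yW : expsumL 12 13 (wpow 1 yW) = 1 := by decide

theorem chk_len : ∀ i, i < 1443 → (cert.W i).length ≤ 255 := by decide +kernel

theorem chk_ax : ∀ j, j < 9 → ∀ l, l < 9 →
    ((fld (cert.rhs (axI j)) l : ℤ) - ((cert.W (axI j)).length : ℤ) * (cert.B : ℤ)) = if l = j then 1 else 0 := by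
  decide +kernel

theorem chk_ex : ∀ l, l < 9 →
    ((fld (cert.rhs 0) l : ℤ) - ((cert.W 0).length : ℤ) * (cert.B : ℤ)) = 0 := by
  decide +kernel

/-- the relations between the central elements that the traced words give -/
def relL : List (List ℤ) := [[(-1), 20, 9, 4, (-1), (-24), 9, 0, 0],
    [(-11), 3, 5, 2, 11, 3, 12, 0, 0],
    [1, (-4), 0, (-5), 0, (-17), (-6), 2, 0],
    [(-1), 1, 3, 5, 4, (-4), 3, 0, 2],
    [(-2), 4, 10, (-2), 3, 11, (-3), (-2), 0],
    [8, (-1), (-6), 0, (-6), (-7), 3, 0, 0],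
    [(-3), 3, 2, (-5), 2, (-2), 6, 0, 0],
    [(-1), 6, 0, (-5), 4, 5, 0, 0, 2],
    [1, (-1), 0, 0, (-1), 0, 0, 0, 0],
    [(-2), 0, 4, (-6), 2, 11, (-6), (-2), 0],
    [2, (-6), (-5), (-4), (-2), (-7), 0, 0, 0]]

/-- the exponents of the first generator of the kernel -/
def c1L : List ℤ := [0, 0, 0, 0, 0, 0, 1, 0, 0]

/-- the exponents of the second generator of the kernel -/
def c2L : List ℤ := [0, 0, 0, 0, 0, 0, 0, 1, 0]

/-- the exponents of the third generator of the kernel -/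
def c3L : List ℤ := [0, 0, 0, 0, 0, 0, 0, 0, 1]

/-- the exponents of the generators of the kernel -/
def cLL : List (List ℤ) := [c1L, c2L, c3L]

/-- the orders of the generators of the kernel -/
def nL : List ℤ := [3, 2, 2]

/-- the central elements as products of powers of the generators -/
def mLL : List (List ℤ) := [[0, 0, 0],
    [0, 0, 0],
    [0, 0, 0],
    [0, 0, 0],
    [0, 0, 0],
    [0, 0, 0],
    [1, 0, 0],
    [0, 1, 0],
    [0, 0, 1]]

/-- the combinations of the relations that express the central elements by the generators -/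
def lamL : List (List ℤ) := [[9077522792858351712307, 1819595532909245687742, (-24235635638807814576220), (-48229095095058678814119), 94101879281087028245335, (-56149734672919333222597), (-60588271289276156200694), 48229095095058678814119, 20490903089438454676568, (-118337514919894842821555), 125899799221069991101688],
    [436317692959533929648, 87460174229807010733, (-1164903340992083868961), (-2318166308759643647958), 4523074830875959578974, (-2698877573962419388034), (-2912219043960030925351), 2318166308759643647958, 984910064855475126119, (-5687978171868043447935), 6051464831729557190425],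
    [38794853382057789420, 7776454383501873206, (-103576488066571475616), (-206117981266226734973), 402165733206200169424, (-239968631727493285587), (-258937725079473456206), 206117981266226734973, 87572523821821962716, (-505742221272771645040), 538061359146855436216],
    [503768338105770907, 100980701294360167, (-1344986530720102071), (-2676533195102275753), 5222300006270313975, (-3116098870444108015), (-3362420941549545940), 2676533195102275753, 1137167973158279567, (-6567286536990416046), 6986964843684788703],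
    [(-180578747102079), (-36197130986418), 482118394934963, 959419190110385, (-1871964394724373), 1116984112155251, 1205279718725249, (-959419190110385), (-407624601041159), 2354082789659336, (-2504518966521408)],
    [29714885062, 5956368643, (-79334323234), (-157875893027), 308038502438, (-183803770053), (-198333131026), 157875893027, 67076100387, (-387372825672), 412127641930],
    [0, 0, 0, 0, 0, 0, 0, 0, 0, 0, 0],
    [0, 0, 0, 0, 0, 0, 0, 0, 0, 0, 0],
    [0, 0, 0, 0, 0, 0, 0, 0, 0, 0, 0]]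

/-- the combinations of the relations that give the powers of the generators -/
def muL : List (List ℤ) := [[3713356783, 744344858, (-9914110275), (-19729153151), 38494406426, (-22969261865), (-24784941145), 19729153151, 8382246535, (-48408516701), 51502032448],
    [1339329, 268469, (-3575810), (-7115889), 13884120, (-8284528), (-8939404), 7115889, 3023298, (-17459931), 18575695],
    [863, 172, (-2305), (-4585), 8948, (-5340), (-5760), 4586, 1947, (-11253), 11972]]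

theorem chk_rel_0 : ∀ l, l < 9 → ((fld (cert.rhs 426) l : ℤ) - (fld 53876847739532331335762148754355590210525100580573185 l : ℤ)) = (relL.getD 0 []).getD l 0 := by
  decide +kernel

theorem chk_rel_1 : ∀ l, l < 9 → ((fld (cert.rhs 264) l : ℤ) - (fld 41904214908525139948314226551564913413238919911206923 l : ℤ)) = (relL.getD 1 []).getD l 0 := by
  decide +kernel

theorem chk_rel_2 : ∀ l, l < 9 → ((fld (cert.rhs 390) l : ℤ) - (fld 47890531321241164424492029946326311753180067580116991 l : ℤ)) = (relL.getD 2 []).getD l 0 := by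
  decide +kernel

theorem chk_rel_3 : ∀ l, l < 9 → ((fld (cert.rhs 925) l : ℤ) - (fld 65846557567264864904998071343465988590806608966103041 l : ℤ)) = (relL.getD 3 []).getD l 0 := by
  decide +kernel

theorem chk_rel_4 : ∀ l, l < 9 → ((fld (cert.rhs 1245) l : ℤ) - (fld 65849480573327127835999766557524133812804341991518210 l : ℤ)) = (relL.getD 4 []).getD l 0 := by
  decide +kernel

theorem chk_rel_5 : ∀ l, l < 9 → ((fld (cert.rhs 563) l : ℤ) - (fld 53876847739532339311108573409691581443317675305504760 l : ℤ)) = (relL.getD 5 []).getD l 0 := by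
  decide +kernel

theorem chk_rel_6 : ∀ l, l < 9 → ((fld (cert.rhs 961) l : ℤ) - (fld 65849480570539522723147956059601209155067150511157251 l : ℤ)) = (relL.getD 6 []).getD l 0 := by
  decide +kernel

theorem chk_rel_7 : ∀ l, l < 9 → ((fld (cert.rhs 836) l : ℤ) - (fld 59860241151761275192807063359746898814985937767931906 l : ℤ)) = (relL.getD 7 []).getD l 0 := by
  decide +kernel

theorem chk_rel_8 : ∀ l, l < 9 → ((fld (cert.rhs 1200) l : ℤ) - (fld 65849480570539530698513395471522761813345082304147455 l : ℤ)) = (relL.getD 8 []).getD l 0 := by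
  decide +kernel

theorem chk_rel_9 : ∀ l, l < 9 → ((fld (cert.rhs 1402) l : ℤ) - (fld 35917898495809163324359483245156212049291652450246658 l : ℤ)) = (relL.getD 9 []).getD l 0 := by
  decide +kernel

theorem chk_rel_10 : ∀ l, l < 9 → ((fld (cert.rhs 1182) l : ℤ) - (fld 65849480570539530698522269026933289850461704392060926 l : ℤ)) = (relL.getD 10 []).getD l 0 := by
  decide +kernel

theorem chk_lam : ∀ j, j < 9 → ∀ l, l < 9 →
    ((1 : ℕ) : ℤ) * ((if l = j then 1 else 0) - dotL (mLL.getD j []) cLL l) = dotL (lamL.getD j []) relL l := by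
  decide +kernel

theorem chk_mu : ∀ t, t < cLL.length → ∀ l, l < 9 →
    ((1 : ℕ) : ℤ) * (nL.getD t 0 * (cLL.getD t []).getD l 0) = dotL (muL.getD t []) relL l := by
  decide +kernel

section upper

universe u

variable {Γ : Type u} [Group Γ] [Finite Γ] (σ : Γ →* PB) (hsurj : Function.Surjective σ)
  (hcen : σ.ker ≤ Subgroup.center Γ) (hder : σ.ker ≤ commutator Γ)

/-! ### the letters in the extension -/

/-- the letters in the extension -/
def gU (l0 l1 l2 l3 l4 l5 l6 : Γ) : ℕ → Γ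
  | 0 => l0
  | 1 => l0⁻¹
  | 2 => l1
  | 3 => l1⁻¹
  | 4 => l2
  | 5 => l2⁻¹
  | 6 => l3
  | 7 => l3⁻¹
  | 8 => l4
  | 9 => l4⁻¹
  | 10 => l5
  | 11 => l5⁻¹
  | 12 => l6
  | 13 => l6⁻¹
  | _ => 1

omit [Finite Γ] in
theorem map_gU (l0 l1 l2 l3 l4 l5 l6 : Γ) (h0 : σ l0 = lT 0) (h1 : σ l1 = lT 2) (h2 : σ l2 = lT 4) (h3 : σ l3 = lT 6) (h4 : σ l4 = lT 8) (h5 : σ l5 = lT 10) (h6 : σ l6 = lT 12) : ∀ x, σ (gU l0 l1 l2 l3 l4 l5 l6 x) = lT x
  | 0 => h0
  | 1 => by
    show σ l0⁻¹ = lT 1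
    rw [map_inv, h0]
    exact (lT_iv (x := 0) (by norm_num)).symm
  | 2 => h1
  | 3 => by
    show σ l1⁻¹ = lT 3
    rw [map_inv, h1]
    exact (lT_iv (x := 2) (by norm_num)).symm
  | 4 => h2
  | 5 => by
    show σ l2⁻¹ = lT 5
    rw [map_inv, h2]
    exact (lT_iv (x := 4) (by norm_num)).symm
  | 6 => h3
  | 7 => by
    show σ l3⁻¹ = lT 7
    rw [map_inv, h3]
    exact (lT_iv (x := 6) (by norm_num)).symm
  | 8 => h4
  | 9 => by
    show σ l4⁻¹ = lT 9
    rw [map_inv, h4]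
    exact (lT_iv (x := 8) (by norm_num)).symm
  | 10 => h5
  | 11 => by
    show σ l5⁻¹ = lT 11
    rw [map_inv, h5]
    exact (lT_iv (x := 10) (by norm_num)).symm
  | 12 => h6
  | 13 => by
    show σ l6⁻¹ = lT 13
    rw [map_inv, h6]
    exact (lT_iv (x := 12) (by norm_num)).symm
  | x + 14 => by
    show σ 1 = lT (x + 14)
    rw [map_one, lT_of_ge (by omega)]

omit [Finite Γ] in
theorem map_wd_gU (l0 l1 l2 l3 l4 l5 l6 : Γ) (h0 : σ l0 = lT 0) (h1 : σ l1 = lT 2) (h2 : σ l2 = lT 4) (h3 : σ l3 = lT 6) (h4 : σ l4 = lT 8) (h5 : σ l5 = lT 10) (h6 : σ l6 = lT 12) :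
    ∀ w : List ℕ, σ (VCert.wd (gU l0 l1 l2 l3 l4 l5 l6) w) = VCert.wd lT w
  | [] => map_one σ
  | x :: w => by
    rw [VCert.wd_cons, VCert.wd_cons, map_mul, map_gU σ l0 l1 l2 l3 l4 l5 l6 h0 h1 h2 h3 h4 h5 h6 x, map_wd_gU l0 l1 l2 l3 l4 l5 l6 h0 h1 h2 h3 h4 h5 h6 w]

include hsurj hcen in
/-- **lifts of the generators: the first six in the copy of `L`, the last one such that the given word is trivial** -/
theorem exists_lifts : ∃ (l0 l1 l2 l3 l4 l5 l6 : Γ), l0 ∈ Mt σ L ∧ l1 ∈ Mt σ L ∧ l2 ∈ Mt σ L ∧ l3 ∈ Mt σ L ∧ l4 ∈ Mt σ L ∧ l5 ∈ Mt σ L ∧ σ l0 = lT 0 ∧ σ l1 = lT 2 ∧ σ l2 = lT 4 ∧ σ l3 = lT 6 ∧ σ l4 = lT 8 ∧ σ l5 = lT 10 ∧ σ l6 = lT 12 ∧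
    VCert.wd (gU l0 l1 l2 l3 l4 l5 l6) (wpow 1 yW) = 1 := by
  obtain ⟨l0, m0, h0⟩ := exists_mem_Mt (σ := σ) hsurj L L_perfect (lT 0) (lT_mem_L (by norm_num))
  obtain ⟨l1, m1, h1⟩ := exists_mem_Mt (σ := σ) hsurj L L_perfect (lT 2) (lT_mem_L (by norm_num))
  obtain ⟨l2, m2, h2⟩ := exists_mem_Mt (σ := σ) hsurj L L_perfect (lT 4) (lT_mem_L (by norm_num))
  obtain ⟨l3, m3, h3⟩ := exists_mem_Mt (σ := σ) hsurj L L_perfect (lT 6) (lT_mem_L (by norm_num))
  obtain ⟨l4, m4, h4⟩ := exists_mem_Mt (σ := σ) hsurj L L_perfect (lT 8) (lT_mem_L (by norm_num))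
  obtain ⟨l5, m5, h5⟩ := exists_mem_Mt (σ := σ) hsurj L L_perfect (lT 10) (lT_mem_L (by norm_num))
  obtain ⟨t0, ht0⟩ := hsurj (lT 12)
  have hk2 : VCert.wd (gU l0 l1 l2 l3 l4 l5 t0) (wpow 1 yW) ∈ σ.ker := by
    rw [MonoidHom.mem_ker, map_wd_gU σ l0 l1 l2 l3 l4 l5 t0 h0 h1 h2 h3 h4 h5 ht0, ← chk_W3]
    exact wd_lT_W (by norm_num)
  set w := (VCert.wd (gU l0 l1 l2 l3 l4 l5 t0) (wpow 1 yW))⁻¹ with hwdef
  have hw : w ∈ σ.ker := Subgroup.inv_mem _ hk2
  have hwc : ∀ x : Γ, w⁻¹ * x = x * w⁻¹ := fun x =>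
    (Subgroup.mem_center_iff.1 (Subgroup.inv_mem _ (hcen hw)) x).symm
  refine ⟨l0, l1, l2, l3, l4, l5, t0 * w, m0, m1, m2, m3, m4, m5, h0, h1, h2, h3, h4, h5, ?_, ?_⟩
  · rw [map_mul, MonoidHom.mem_ker.1 hw, mul_one, ht0]
  · rw [wd_central_mul_at 12 13 (by norm_num) (gU l0 l1 l2 l3 l4 l5 t0) (gU l0 l1 l2 l3 l4 l5 (t0 * w)) w (hcen hw) rfl (by
        show (t0 * w)⁻¹ = t0⁻¹ * w⁻¹
        rw [mul_inv_rev, hwc]) (by
        intro x h0 h1
        match x, h0, h1 with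
        | 0, _, _ => rfl
        | 1, _, _ => rfl
        | 2, _, _ => rfl
        | 3, _, _ => rfl
        | 4, _, _ => rfl
        | 5, _, _ => rfl
        | 6, _, _ => rfl
        | 7, _, _ => rfl
        | 8, _, _ => rfl
        | 9, _, _ => rfl
        | 10, _, _ => rfl
        | 11, _, _ => rfl
        | 12, h0, _ => exact absurd rfl h0
        | 13, _, h1 => exact absurd rfl h1
        | _ + 14, _, _ => rfl), chk_yW, zpow_one, hwdef, mul_inv_cancel]

variable (l0 l1 l2 l3 l4 l5 l6 : Γ) (m0 : l0 ∈ Mt σ L) (m1 : l1 ∈ Mt σ L) (m2 : l2 ∈ Mt σ L) (m3 : l3 ∈ Mt σ L) (m4 : l4 ∈ Mt σ L) (m5 : l5 ∈ Mt σ L) (h0 : σ l0 = lT 0) (h1 : σ l1 = lT 2) (h2 : σ l2 = lT 4) (h3 : σ l3 = lT 6) (h4 : σ l4 = lT 8) (h5 : σ l5 = lT 10) (h6 : σ l6 = lT 12)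
  (hy : VCert.wd (gU l0 l1 l2 l3 l4 l5 l6) (wpow 1 yW) = 1)

include h0 h1 h2 h3 h4 h5 h6 in
omit [Finite Γ] in
theorem wd_gU_mem_ker {i : ℕ} (hi : i < 1443) : VCert.wd (gU l0 l1 l2 l3 l4 l5 l6) (cert.W i) ∈ σ.ker := by
  rw [MonoidHom.mem_ker, map_wd_gU σ l0 l1 l2 l3 l4 l5 l6 h0 h1 h2 h3 h4 h5 h6, wd_lT_W hi]

omit [Finite Γ] in
theorem gU_iv : ∀ x, x < 14 → gU l0 l1 l2 l3 l4 l5 l6 (Nat.xor x 1) = (gU l0 l1 l2 l3 l4 l5 l6 x)⁻¹
  | 0, _ => rfl
  | 1, _ => (inv_inv l0).symm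
  | 2, _ => rfl
  | 3, _ => (inv_inv l1).symm
  | 4, _ => rfl
  | 5, _ => (inv_inv l2).symm
  | 6, _ => rfl
  | 7, _ => (inv_inv l3).symm
  | 8, _ => rfl
  | 9, _ => (inv_inv l4).symm
  | 10, _ => rfl
  | 11, _ => (inv_inv l5).symm
  | 12, _ => rfl
  | 13, _ => (inv_inv l6).symm
  | x + 14, h => absurd h (by omega)

include m0 m1 m2 m3 m4 m5 in
omit [Finite Γ] in
theorem gU_mem_Mt : ∀ x, x < 12 → gU l0 l1 l2 l3 l4 l5 l6 x ∈ Mt σ L
  | 0, _ => m0
  | 1, _ => Subgroup.inv_mem _ m0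
  | 2, _ => m1
  | 3, _ => Subgroup.inv_mem _ m1
  | 4, _ => m2
  | 5, _ => Subgroup.inv_mem _ m2
  | 6, _ => m3
  | 7, _ => Subgroup.inv_mem _ m3
  | 8, _ => m4
  | 9, _ => Subgroup.inv_mem _ m4
  | 10, _ => m5
  | 11, _ => Subgroup.inv_mem _ m5
  | x + 12, h => absurd h (by omega)

/-- the central elements: the values of the given words -/
noncomputable def zU (j : ℕ) : Subgroup.center Γ :=
  ⟨VCert.wd (gU l0 l1 l2 l3 l4 l5 l6) (cert.W (axI j)), hcen (wd_gU_mem_ker σ l0 l1 l2 l3 l4 l5 l6 h0 h1 h2 h3 h4 h5 h6 (axI_lt j))⟩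

include hsurj m0 m1 m2 m3 m4 m5 hy in
theorem hW0_U : ∀ i, i < cert.nW → cert.wT i = 0 →
    VCert.wd (gU l0 l1 l2 l3 l4 l5 l6) (cert.W i) = (cert.ek (zU σ hcen l0 l1 l2 l3 l4 l5 l6 h0 h1 h2 h3 h4 h5 h6) i : Γ) := by
  intro i hi hT
  rcases chk_wT i hi hT with ⟨hall4, hz0⟩ | rfl | ⟨j, hj, rfl⟩
  · rw [VCert.ek, cert.kap_one _ hz0]
    have hl : ∀ x ∈ (cert.W i).map (gU l0 l1 l2 l3 l4 l5 l6), x ∈ Mt σ L := by
      intro x hx
      obtain ⟨y, hy', rfl⟩ := List.mem_map.1 hx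
      exact gU_mem_Mt σ l0 l1 l2 l3 l4 l5 l6 m0 m1 m2 m3 m4 m5 y (by simpa [Nat.blt] using List.all_eq_true.1 hall4 y hy')
    have h1 : (((cert.W i).map (gU l0 l1 l2 l3 l4 l5 l6)).map σ).prod = 1 := by
      rw [← map_list_prod]
      have := map_wd_gU σ l0 l1 l2 l3 l4 l5 l6 h0 h1 h2 h3 h4 h5 h6 (cert.W i)
      rw [VCert.wd] at this
      rw [this]
      exact wd_lT_W hi
    exact prod_eq_one_of_Mt hsurj hcen L L_perfect MF_L _ hl h1
  · rw [VCert.ek, cert.kap_one _ chk_ex, chk_W3]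
    exact hy
  · rw [VCert.ek, cert.kap_unit _ hj (chk_ax j hj)]
    rfl

include hcen hder h0 h1 h2 h3 h4 h5 h6 in
omit [Finite Γ] in
theorem hgen_U : ∀ y : Γ, ∃ u : List ℕ, (∀ x ∈ u, x < cert.g) ∧ y = (u.map (gU l0 l1 l2 l3 l4 l5 l6)).prod := by
  apply MG.exists_word_of_closure (gU l0 l1 l2 l3 l4 l5 l6) 14 (fun x => Nat.xor x 1)
  · intro x hx
    exact ⟨xor_lt_T x hx, gU_iv l0 l1 l2 l3 l4 l5 l6 x hx⟩
  · apply Cfsg.Agent.Lib.Helper7.M12Mult.closure_eq_top_of_stem (σ := σ) hcen hder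
    intro y
    have hg : y ∈ Subgroup.closure (lT '' Set.Iio 14) := by rw [closure_lT]; exact Subgroup.mem_top y
    induction hg using Subgroup.closure_induction with
    | mem y hy =>
      obtain ⟨x, hx, rfl⟩ := hy
      exact ⟨gU l0 l1 l2 l3 l4 l5 l6 x, Subgroup.subset_closure ⟨x, hx, rfl⟩, map_gU σ l0 l1 l2 l3 l4 l5 l6 h0 h1 h2 h3 h4 h5 h6 x⟩
    | one => exact ⟨1, one_mem _, map_one σ⟩
    | mul p q _ _ ihp ihq =>
      obtain ⟨p', hp', rfl⟩ := ihp
      obtain ⟨q', hq', rfl⟩ := ihq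
      exact ⟨p' * q', mul_mem hp' hq', map_mul σ p' q'⟩
    | inv p _ ihp =>
      obtain ⟨p', hp', rfl⟩ := ihp
      exact ⟨p'⁻¹, inv_mem hp', map_inv σ p'⟩

include hsurj hcen in
theorem hHK_U : ∀ u, u ∈ Mt σ L → u ∈ σ.ker → u = 1 := fun _ hu hk =>
  eq_one_of_mem_Mt hsurj hcen L L_perfect MF_L hu (MonoidHom.mem_ker.1 hk)

include m0 m1 m2 m3 m4 m5 in
omit [Finite Γ] in
theorem hsub_U : ∀ x, cert.sub x = true → gU l0 l1 l2 l3 l4 l5 l6 x ∈ Mt σ L := fun x hx =>
  gU_mem_Mt σ l0 l1 l2 l3 l4 l5 l6 m0 m1 m2 m3 m4 m5 x (lt_of_subT hx)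

include hsurj hder m0 m1 m2 m3 m4 m5 hy in
/-- **the kernel is generated by the central elements** -/
theorem ker_eq_Zc_U : σ.ker = Zc (zU σ hcen l0 l1 l2 l3 l4 l5 l6 h0 h1 h2 h3 h4 h5 h6) 9 := by
  refine ker_eq_Zc_of_sub σ cert (gU l0 l1 l2 l3 l4 l5 l6) (zU σ hcen l0 l1 l2 l3 l4 l5 l6 h0 h1 h2 h3 h4 h5 h6) (Mt σ L) 13685760 hsurj
    (by rw [card_PB]; rfl) (by decide) (by norm_num) (hHK_U σ hsurj hcen) ?_
    (hsub_U σ l0 l1 l2 l3 l4 l5 l6 m0 m1 m2 m3 m4 m5) ?_ (hgen_U σ hcen hder l0 l1 l2 l3 l4 l5 l6 h0 h1 h2 h3 h4 h5 h6) (by decide) (by decide) (gU_iv l0 l1 l2 l3 l4 l5 l6) ?_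
    (hW0_U σ hsurj hcen l0 l1 l2 l3 l4 l5 l6 m0 m1 m2 m3 m4 m5 h0 h1 h2 h3 h4 h5 h6 hy) cert_all cert_wall
  · rw [← card_L]
    exact card_Mt_le hsurj hcen L L_perfect MF_L
  · intro j _
    exact wd_gU_mem_ker σ l0 l1 l2 l3 l4 l5 l6 h0 h1 h2 h3 h4 h5 h6 (axI_lt j)
  · intro i hi
    exact wd_gU_mem_ker σ l0 l1 l2 l3 l4 l5 l6 h0 h1 h2 h3 h4 h5 h6 hi

include hsurj m0 m1 m2 m3 m4 m5 hy in
/-- the relations between the central elements -/
theorem rel_U : ∀ r ∈ relL, zprod (zU σ hcen l0 l1 l2 l3 l4 l5 l6 h0 h1 h2 h3 h4 h5 h6) 9 (fun l => r.getD l 0) = 1 := by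
  have hKn : ∀ u, u ∈ σ.ker → ∀ g : Γ, g * u * g⁻¹ ∈ σ.ker := fun u hu g =>
    (inferInstance : σ.ker.Normal).conj_mem u hu g
  have key : ∀ {i v row : ℕ}, i < 1443 → cert.scan 4095 (cert.W i) row 0 = some (row, v) →
      cert.ek (zU σ hcen l0 l1 l2 l3 l4 l5 l6 h0 h1 h2 h3 h4 h5 h6) i = cert.kap (zU σ hcen l0 l1 l2 l3 l4 l5 l6 h0 h1 h2 h3 h4 h5 h6) v (cert.W i).length := by
    intro i v row hi h
    exact cert.close_spec (γ := gU l0 l1 l2 l3 l4 l5 l6) (H := Mt σ L) σ.ker hKn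
      (fun j _ => wd_gU_mem_ker σ l0 l1 l2 l3 l4 l5 l6 h0 h1 h2 h3 h4 h5 h6 (axI_lt j)) (hHK_U σ hsurj hcen) (by decide) (by decide)
      (gU_iv l0 l1 l2 l3 l4 l5 l6) (hsub_U σ l0 l1 l2 l3 l4 l5 l6 m0 m1 m2 m3 m4 m5)
      (fun i hi => wd_gU_mem_ker σ l0 l1 l2 l3 l4 l5 l6 h0 h1 h2 h3 h4 h5 h6 hi) (hW0_U σ hsurj hcen l0 l1 l2 l3 l4 l5 l6 m0 m1 m2 m3 m4 m5 h0 h1 h2 h3 h4 h5 h6 hy)
      cert_all cert_wall hi (chk_len i hi) h
  intro r hr
  simp only [relL, List.mem_cons, List.not_mem_nil, or_false] at hr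
  rcases hr with rfl | rfl | rfl | rfl | rfl | rfl | rfl | rfl | rfl | rfl | rfl
  · exact cert.rel_of_close _ (key (by norm_num) close_0) _ chk_rel_0
  · exact cert.rel_of_close _ (key (by norm_num) close_1) _ chk_rel_1
  · exact cert.rel_of_close _ (key (by norm_num) close_2) _ chk_rel_2
  · exact cert.rel_of_close _ (key (by norm_num) close_3) _ chk_rel_3
  · exact cert.rel_of_close _ (key (by norm_num) close_4) _ chk_rel_4
  · exact cert.rel_of_close _ (key (by norm_num) close_5) _ chk_rel_5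
  · exact cert.rel_of_close _ (key (by norm_num) close_6) _ chk_rel_6
  · exact cert.rel_of_close _ (key (by norm_num) close_7) _ chk_rel_7
  · exact cert.rel_of_close _ (key (by norm_num) close_8) _ chk_rel_8
  · exact cert.rel_of_close _ (key (by norm_num) close_9) _ chk_rel_9
  · exact cert.rel_of_close _ (key (by norm_num) close_10) _ chk_rel_10

include hsurj hcen hder m0 m1 m2 m3 m4 m5 h0 h1 h2 h3 h4 h5 h6 hy in
/-- **the kernel is an image of the product of cyclic groups of orders three, two and two** -/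
theorem exists_surj_U :
    ∃ π : Multiplicative (ZMod 3 × ZMod 2 × ZMod 2) →* ↥σ.ker, Function.Surjective π := by
  have hK := ker_eq_Zc_U σ hsurj hcen hder l0 l1 l2 l3 l4 l5 l6 m0 m1 m2 m3 m4 m5 h0 h1 h2 h3 h4 h5 h6 hy
  set S : Subgroup (Subgroup.center Γ) := σ.ker.comap (Subgroup.center Γ).subtype with hS
  have hzS : ∀ j, j < 9 → zU σ hcen l0 l1 l2 l3 l4 l5 l6 h0 h1 h2 h3 h4 h5 h6 j ∈ S :=
    fun j _ => wd_gU_mem_ker σ l0 l1 l2 l3 l4 l5 l6 h0 h1 h2 h3 h4 h5 h6 (axI_lt j)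
  have hq : ∀ u, u ∈ S → u ^ 1 = 1 → u = 1 := by
    intro u _ huq
    rwa [pow_one] at huq
  obtain ⟨hz, hN⟩ := abelian_of_relations_q (zU σ hcen l0 l1 l2 l3 l4 l5 l6 h0 h1 h2 h3 h4 h5 h6) 9 relL
    (rel_U σ hsurj hcen l0 l1 l2 l3 l4 l5 l6 m0 m1 m2 m3 m4 m5 h0 h1 h2 h3 h4 h5 h6 hy) S hzS 1 hq cLL mLL nL lamL muL chk_lam chk_mu
  set g1 := zprod (zU σ hcen l0 l1 l2 l3 l4 l5 l6 h0 h1 h2 h3 h4 h5 h6) 9 (fun l => c1L.getD l 0) with hg1
  set g2 := zprod (zU σ hcen l0 l1 l2 l3 l4 l5 l6 h0 h1 h2 h3 h4 h5 h6) 9 (fun l => c2L.getD l 0) with hg2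
  set g3 := zprod (zU σ hcen l0 l1 l2 l3 l4 l5 l6 h0 h1 h2 h3 h4 h5 h6) 9 (fun l => c3L.getD l 0) with hg3
  have o1 : g1 ^ (3 : ℤ) = 1 := hN 0 (by decide)
  have o2 : g2 ^ (2 : ℤ) = 1 := hN 1 (by decide)
  have o3 : g3 ^ (2 : ℤ) = 1 := hN 2 (by decide)
  have hzc : ∀ j, j < 9 →
      zU σ hcen l0 l1 l2 l3 l4 l5 l6 h0 h1 h2 h3 h4 h5 h6 j ∈ Subgroup.closure ({g1, g2, g3} : Set (Subgroup.center Γ)) := by
    intro j hj
    rw [hz j hj]
    apply gprod_mem
    intro c' hc'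
    simp only [cLL, List.mem_cons, List.not_mem_nil, or_false] at hc'
    rcases hc' with rfl | rfl | rfl
    · exact Subgroup.subset_closure (Set.mem_insert _ _)
    · exact Subgroup.subset_closure (Set.mem_insert_of_mem _ (Set.mem_insert _ _))
    · exact Subgroup.subset_closure (Set.mem_insert_of_mem _ (Set.mem_insert_of_mem _ rfl))
  have hsub : Zc (zU σ hcen l0 l1 l2 l3 l4 l5 l6 h0 h1 h2 h3 h4 h5 h6) 9 ≤
      (Subgroup.closure ({g1, g2, g3} : Set (Subgroup.center Γ))).map (Subgroup.center Γ).subtype := by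
    rw [Zc, Subgroup.closure_le]
    rintro _ ⟨j, hj, rfl⟩
    exact ⟨zU σ hcen l0 l1 l2 l3 l4 l5 l6 h0 h1 h2 h3 h4 h5 h6 j, hzc j hj, rfl⟩
  have hle : ∀ y ∈ σ.ker, ∃ i j l : ℤ, y = (g1 : Γ) ^ i * (g2 : Γ) ^ j * (g3 : Γ) ^ l := by
    intro y hy
    rw [hK] at hy
    obtain ⟨y', hy', rfl⟩ := hsub hy
    obtain ⟨i, j, l, rfl⟩ := mem_closure_triple g1 g2 g3 y' hy'
    exact ⟨i, j, l, by simp⟩
  have hgK : ∀ g : Subgroup.center Γ, g ∈ S → (g : Γ) ∈ σ.ker := fun g hg => hg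
  have k1 : g1 ∈ S := zprod_mem _ 9 S hzS _
  have k2 : g2 ∈ S := zprod_mem _ 9 S hzS _
  have k3 : g3 ∈ S := zprod_mem _ 9 S hzS _
  have hpow : ∀ (g : Subgroup.center Γ) (hg : g ∈ S) (n : ℕ), g ^ (n : ℤ) = 1 →
      (⟨(g : Γ), hgK g hg⟩ : ↥σ.ker) ^ n = 1 := by
    intro g hg n h
    apply Subtype.ext
    rw [Subgroup.coe_pow, Subgroup.coe_one]
    show (g : Γ) ^ n = 1
    rw [zpow_natCast] at h
    rw [← Subgroup.coe_pow, h, Subgroup.coe_one]
  apply exists_surj_prod3 (⟨(g1 : Γ), hgK g1 k1⟩ : ↥σ.ker) ⟨(g2 : Γ), hgK g2 k2⟩ ⟨(g3 : Γ), hgK g3 k3⟩ 3 2 2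
    (hpow g1 k1 3 o1) (hpow g2 k2 2 o2) (hpow g3 k3 2 o3)
  · intro x y
    apply Subtype.ext
    rw [Subgroup.coe_mul, Subgroup.coe_mul]
    exact Subgroup.mem_center_iff.1 (hcen y.2) x.1
  · intro y
    obtain ⟨i, j, l, h⟩ := hle y.1 y.2
    refine ⟨i, j, l, ?_⟩
    apply Subtype.ext
    rw [Subgroup.coe_mul, Subgroup.coe_mul, Subgroup.coe_zpow, Subgroup.coe_zpow, Subgroup.coe_zpow]
    exact h

end upper

/-- **the kernel of every finite stem extension of the presented group is an image of the product of cyclic groups of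
orders three, two and two** -/
theorem exists_surj_of_stem {Γ : Type*} [Group Γ] [Finite Γ] (σ : Γ →* PB) (hsurj : Function.Surjective σ)
    (hcen : σ.ker ≤ Subgroup.center Γ) (hder : σ.ker ≤ commutator Γ) :
    ∃ π : Multiplicative (ZMod 3 × ZMod 2 × ZMod 2) →* ↥σ.ker, Function.Surjective π := by
  obtain ⟨l0, l1, l2, l3, l4, l5, l6, m0, m1, m2, m3, m4, m5, h0, h1, h2, h3, h4, h5, h6, hy⟩ :=
    exists_lifts σ hsurj hcen
  exact exists_surj_U σ hsurj hcen hder l0 l1 l2 l3 l4 l5 l6 m0 m1 m2 m3 m4 m5 h0 h1 h2 h3 h4 h5 h6 hy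

end Cfsg.Agent.Lib.Helper7.U62MT
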