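import Cfsg.Agent.Lib.Helper7.U62MED
import Cfsg.Agent.Lib.Helper7.U62MTU

/-!
# The multiplier of the unitary group of degree six over the field of four elements: a central extension with kernel
of order twelve

The nine involutions of the presentation act on 4704 points: the 672 points taken three times, twice and twice.  The
permutations, paired with the involutions in the presented group, generate a group that maps onto the presented
group.  The words of the relators act as shifts of the copies of each point, which commute with the involutions; so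
the elements of the group that lie over the identity and commute with the involutions form a central subgroup `N`,
the presented group maps to the quotient by `N`, and the kernel of the projection lies in `N`.
-/

set_option autoImplicit false
set_option maxRecDepth 100000
set_option linter.constructorNameAsVariable false

namespace Cfsg.Agent.Lib.Helper7.U62MM

open Cfsg Cfsg.Spor Cfsg.Agent.Lib.Helper7.MG Cfsg.Agent.Lib.Helper7.HSMult Cfsg.Agent.Lib.Helper7.U62MB
open Cfsg.Agent.Lib.Helper6.TC Cfsg.Agent.Lib.Helper6.U62Sub Cfsg.Agent.Lib.Helper6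

/-! ### the involutions on the 4704 points -/

/-- an entry of a part of a table -/
def ent9 (t i : ℕ) : ℕ := Nat.land (Nat.shiftRight t (Nat.mul 16 i)) 65535

/-- the part of the table of an involution that contains the points from `512 c` on -/
noncomputable def sel9 (x c : ℕ) : ℕ :=
  cond (Nat.ble 5 x)
    (cond (Nat.ble 7 x) (cond (Nat.ble 8 x) (n9_8_0_10 c) (n9_7_0_10 c))
      (cond (Nat.ble 6 x) (n9_6_0_10 c) (n9_5_0_10 c)))
    (cond (Nat.ble 3 x) (cond (Nat.ble 4 x) (n9_4_0_10 c) (n9_3_0_10 c))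
      (cond (Nat.ble 2 x) (n9_2_0_10 c) (n9_1_0_10 c)))

/-- the image of one of the 4704 points under an involution; the involution `a` acts trivially -/
noncomputable def lk9 (x p : ℕ) : ℕ :=
  cond (Nat.ble 9 x) p
    (cond (Nat.ble 1 x) (strictN p fun q => ent9 (sel9 x (Nat.shiftRight q 9)) (Nat.land q 511)) p)

theorem lk9_ge {x : ℕ} (hx : 9 ≤ x) (p : ℕ) : lk9 x p = p := by
  have h : Nat.ble 9 x = true := Nat.ble_eq_true_of_le hx
  rw [lk9, h]
  rfl

theorem lk9_zero (p : ℕ) : lk9 0 p = p := rfl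

/-- the check that an involution is an involution of the 4704 points -/
noncomputable def inv9OK (x : ℕ) : Bool := allN 4704 fun p =>
  Nat.blt (lk9 x p) 4704 && Nat.beq (lk9 x (lk9 x p)) p

theorem chk_inv9_1 : inv9OK 1 = true := by decide +kernel

theorem chk_inv9_2 : inv9OK 2 = true := by decide +kernel

theorem chk_inv9_3 : inv9OK 3 = true := by decide +kernel

theorem chk_inv9_4 : inv9OK 4 = true := by decide +kernel

theorem chk_inv9_5 : inv9OK 5 = true := by decide +kernel

theorem chk_inv9_6 : inv9OK 6 = true := by decide +kernel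

theorem chk_inv9_7 : inv9OK 7 = true := by decide +kernel

theorem chk_inv9_8 : inv9OK 8 = true := by decide +kernel

theorem chk_inv9 : ∀ x, 0 < x → x < 9 → inv9OK x = true
  | 0, h, _ => absurd h (by omega)
  | 1, _, _ => chk_inv9_1
  | 2, _, _ => chk_inv9_2
  | 3, _, _ => chk_inv9_3
  | 4, _, _ => chk_inv9_4
  | 5, _, _ => chk_inv9_5
  | 6, _, _ => chk_inv9_6
  | 7, _, _ => chk_inv9_7
  | 8, _, _ => chk_inv9_8
  | x + 9, _, h => absurd h (by omega)

theorem hh9 (x p : ℕ) (hp : p < 4704) : lk9 x p < 4704 ∧ lk9 x (lk9 x p) = p := by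
  rcases Nat.lt_or_ge x 9 with hx | hx
  · rcases Nat.eq_zero_or_pos x with rfl | h0
    · exact ⟨hp, rfl⟩
    · have h1 := chk_inv9 x h0 hx
      rw [inv9OK, allN_iff] at h1
      have h2 := h1 p hp
      rw [Bool.and_eq_true] at h2
      exact ⟨by simpa [Nat.blt] using h2.1, Nat.eq_of_beq_eq_true h2.2⟩
  · rw [lk9_ge hx, lk9_ge hx]
    exact ⟨hp, rfl⟩

/-- the involutions as permutations of the 4704 points -/
noncomputable def pm9 (x : ℕ) : Equiv.Perm (Fin 4704) := permOf 4704 (lk9 x) (lk9 x) (hh9 x) (hh9 x)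

theorem pm9_val (x : ℕ) (p : Fin 4704) : (pm9 x p).val = lk9 x p.val := rfl

theorem pm9_mul_self (x : ℕ) : pm9 x * pm9 x = 1 := by
  apply Equiv.ext
  intro p
  apply Fin.ext
  rw [Equiv.Perm.mul_apply, pm9_val, pm9_val]
  exact (hh9 x p.val p.2).2

/-- the image of one of the 4704 points under a word -/
noncomputable def ev9 (w : List ℕ) (p : ℕ) : ℕ := evL lk9 w p

theorem ev9_nil (p : ℕ) : ev9 [] p = p := rfl

theorem ev9_cons (x : ℕ) (w : List ℕ) (p : ℕ) : ev9 (x :: w) p = lk9 x (ev9 w p) := rfl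

theorem ev9_append (w w' : List ℕ) (p : ℕ) : ev9 (w ++ w') p = ev9 w (ev9 w' p) := evL_append lk9 w w' p

theorem ev9_lt : ∀ (w : List ℕ) (p : ℕ), p < 4704 → ev9 w p < 4704
  | [], _, hp => hp
  | x :: w, p, hp => by
    rw [ev9_cons]
    exact (hh9 x (ev9 w p) (ev9_lt w p hp)).1

theorem wd_pm9_val : ∀ (w : List ℕ) (p : Fin 4704), ((VCert.wd pm9 w) p).val = ev9 w p.val
  | [], _ => rfl
  | x :: w, p => by
    rw [VCert.wd_cons, Equiv.Perm.mul_apply, pm9_val, wd_pm9_val w p]
    rfl

theorem wd_pm9_eq {w w' : List ℕ} (h : ∀ p, p < 4704 → ev9 w p = ev9 w' p) : VCert.wd pm9 w = VCert.wd pm9 w' := by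
  apply Equiv.ext
  intro p
  apply Fin.ext
  rw [wd_pm9_val, wd_pm9_val]
  exact h p.val p.2

/-! ### the extension -/

/-- the pairs -/
noncomputable def gP (x : ℕ) : Equiv.Perm (Fin 4704) × PB := (pm9 x, pgen x)

/-- the extension -/
noncomputable def GE : Subgroup (Equiv.Perm (Fin 4704) × PB) :=
  Subgroup.closure (gP '' Set.Iio 9)

theorem gP_mem {x : ℕ} (hx : x < 9) : gP x ∈ GE := Subgroup.subset_closure ⟨x, hx, rfl⟩

/-- the involutions of the extension -/
noncomputable def gE (x : ℕ) : ↥GE := if h : x < 9 then ⟨gP x, gP_mem h⟩ else 1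

theorem gE_val {x : ℕ} (hx : x < 9) : (gE x : Equiv.Perm (Fin 4704) × PB) = (pm9 x, pgen x) := by
  rw [gE, dif_pos hx]
  rfl

theorem gE_of_ge {x : ℕ} (hx : 9 ≤ x) : gE x = 1 := by
  rw [gE, dif_neg (by omega)]

theorem wd_gE_val : ∀ w : List ℕ, (∀ x ∈ w, x < 9) →
    ((VCert.wd gE w : ↥GE) : Equiv.Perm (Fin 4704) × PB) = (VCert.wd pm9 w, VCert.wd pgen w)
  | [], _ => rfl
  | x :: w, h => by
    rw [VCert.wd_cons, Subgroup.coe_mul, wd_gE_val w fun y hy => h y (List.mem_cons_of_mem _ hy),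
      gE_val (h x List.mem_cons_self), VCert.wd_cons, VCert.wd_cons]
    rfl

theorem gE_mul_self (x : ℕ) : gE x * gE x = 1 := by
  rcases Nat.lt_or_ge x 9 with hx | hx
  · apply Subtype.ext
    rw [Subgroup.coe_mul, gE_val hx]
    show (pm9 x * pm9 x, pgen x * pgen x) = 1
    rw [pm9_mul_self, pgen_mul_self hx]
    rfl
  · rw [gE_of_ge hx, one_mul]

theorem closure_gE : Subgroup.closure (gE '' Set.Iio 9) = ⊤ := by
  have h := Subgroup.closure_closure_coe_preimage (k := gP '' Set.Iio 9)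
  have e : ((↑) ⁻¹' (gP '' Set.Iio 9) : Set ↥(Subgroup.closure (gP '' Set.Iio 9))) = gE '' Set.Iio 9 := by
    ext z
    constructor
    · rintro ⟨x, hx, hz⟩
      exact ⟨x, hx, Subtype.ext (by rw [gE_val hx]; exact hz)⟩
    · rintro ⟨x, hx, rfl⟩
      exact ⟨x, hx, (gE_val hx).symm⟩
  rw [e] at h
  exact h

/-- the projection onto the presented group -/
noncomputable def sigE : ↥GE →* PB := (MonoidHom.snd _ _).comp GE.subtype

theorem sigE_apply (g : ↥GE) : sigE g = g.1.2 := rfl

theorem sigE_gE {x : ℕ} (hx : x < 9) : sigE (gE x) = pgen x := by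
  rw [sigE_apply, gE_val hx]

theorem sigE_wd {w : List ℕ} (hw : ∀ x ∈ w, x < 9) : sigE (VCert.wd gE w) = VCert.wd pgen w := by
  rw [sigE_apply, wd_gE_val w hw]

theorem closure_pgen : Subgroup.closure (pgen '' Set.Iio 9) = ⊤ := by
  rw [eq_top_iff, ← PresentedGroup.closure_range_of, Subgroup.closure_le]
  rintro _ ⟨a, rfl⟩
  apply Subgroup.subset_closure
  cases a
  · exact ⟨0, by norm_num, rfl⟩
  · exact ⟨1, by norm_num, rfl⟩
  · exact ⟨2, by norm_num, rfl⟩
  · exact ⟨3, by norm_num, rfl⟩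
  · exact ⟨4, by norm_num, rfl⟩
  · exact ⟨5, by norm_num, rfl⟩
  · exact ⟨6, by norm_num, rfl⟩
  · exact ⟨7, by norm_num, rfl⟩
  · exact ⟨8, by norm_num, rfl⟩

theorem sigE_surj : Function.Surjective sigE := by
  rw [← MonoidHom.range_eq_top, eq_top_iff, ← closure_pgen, Subgroup.closure_le]
  rintro _ ⟨x, hx, rfl⟩
  exact ⟨gE x, sigE_gE hx⟩

/-- a word that fixes all the points and is trivial in the presented group is trivial -/
theorem wd_gE_eq_one {w : List ℕ} (hw : ∀ x ∈ w, x < 9) (h9 : ∀ p, p < 4704 → ev9 w p = p)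
    (hB : VCert.wd pgen w = 1) : VCert.wd gE w = 1 := by
  apply Subtype.ext
  rw [wd_gE_val w hw, hB, wd_pm9_eq (w := w) (w' := []) fun p hp => by rw [h9 p hp, ev9_nil]]
  rfl

theorem ev9_of_wd_gE_eq {w w' : List ℕ} (hw : ∀ x ∈ w, x < 9) (hw' : ∀ x ∈ w', x < 9)
    (h : VCert.wd gE w = VCert.wd gE w') {p : ℕ} (hp : p < 4704) : ev9 w p = ev9 w' p := by
  have h1 : ((VCert.wd gE w : ↥GE) : Equiv.Perm (Fin 4704) × PB) = (VCert.wd gE w' : ↥GE) := congrArg Subtype.val h
  rw [wd_gE_val w hw, wd_gE_val w' hw'] at h1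
  have h2 : VCert.wd pm9 w = VCert.wd pm9 w' := congrArg Prod.fst h1
  have h3 := wd_pm9_val w ⟨p, hp⟩
  rw [h2, wd_pm9_val] at h3
  exact h3.symm

/-! ### the central subgroup -/

/-- the elements over the identity whose permutations commute with the involutions -/
noncomputable def N : Subgroup ↥GE where
  carrier := {g | g.1.2 = 1 ∧ ∀ y, pm9 y * g.1.1 = g.1.1 * pm9 y}
  one_mem' := ⟨rfl, fun y => by
    show pm9 y * 1 = 1 * pm9 y
    rw [mul_one, one_mul]⟩
  mul_mem' := by
    rintro a b ⟨ha, ha'⟩ ⟨hb, hb'⟩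
    refine ⟨?_, fun y => ?_⟩
    · show a.1.2 * b.1.2 = 1
      rw [ha, hb, one_mul]
    · show pm9 y * (a.1.1 * b.1.1) = a.1.1 * b.1.1 * pm9 y
      rw [← mul_assoc, ha' y, mul_assoc, hb' y, mul_assoc]
  inv_mem' := by
    rintro a ⟨ha, ha'⟩
    refine ⟨?_, fun y => ?_⟩
    · show (a.1.2)⁻¹ = 1
      rw [ha, inv_one]
    · show pm9 y * (a.1.1)⁻¹ = (a.1.1)⁻¹ * pm9 y
      rw [eq_inv_mul_iff_mul_eq, ← mul_assoc, ← ha' y, mul_assoc, mul_inv_cancel, mul_one]

theorem mem_N {g : ↥GE} : g ∈ N ↔ g.1.2 = 1 ∧ ∀ y, pm9 y * g.1.1 = g.1.1 * pm9 y := Iff.rfl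

theorem N_le_center : N ≤ Subgroup.center ↥GE := by
  intro g hg
  obtain ⟨h1, h2⟩ := mem_N.1 hg
  apply central_of_comm_gens (gE '' Set.Iio 9) closure_gE
  rintro _ ⟨x, hx, rfl⟩
  apply Subtype.ext
  rw [Subgroup.coe_mul, Subgroup.coe_mul, gE_val hx]
  apply Prod.ext
  · exact h2 x
  · show pgen x * g.1.2 = g.1.2 * pgen x
    rw [h1, mul_one, one_mul]

instance instNormalN : N.Normal :=
  ⟨fun n hn g => by
    have h := Subgroup.mem_center_iff.1 (N_le_center hn) g
    rw [h, mul_inv_cancel_right]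
    exact hn⟩

/-! ### the shifts -/

/-- the shift of a point by the element of the kernel with the number `e = e₁ + 3 e₂ + 6 e₃`: the first 2016 points
are shifted in their blocks of three by `e₁`, the next 1344 points in their blocks of two by `e₂`, the last 1344
points in their blocks of two by `e₃` -/
def sh (e p : ℕ) : ℕ :=
  strictN p fun q =>
    cond (Nat.blt q 2016)
      (Nat.add (Nat.mul 3 (Nat.div q 3)) (Nat.mod (Nat.add (Nat.mod q 3) (Nat.mod e 3)) 3))
      (Nat.add (Nat.mul 2 (Nat.div q 2))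
        (Nat.mod (Nat.add (Nat.mod q 2) (cond (Nat.blt q 3360) (Nat.mod (Nat.div e 3) 2) (Nat.div e 6))) 2))

/-- the check that the word of a relator shifts the points by the given shift -/
noncomputable def shOKi (i : ℕ) : Bool :=
  strictL (relL.getD i []) fun w => strictN (relE.getD i 0) fun e =>
    allN 4704 fun p => Nat.beq (ev9 w p) (sh e p)

theorem shOKi_spec {i : ℕ} (h : shOKi i = true) {p : ℕ} (hp : p < 4704) :
    ev9 (relL.getD i []) p = sh (relE.getD i 0) p := by
  rw [shOKi, strictL_eq, strictN_eq, allN_iff] at h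
  exact Nat.eq_of_beq_eq_true (h p hp)

/-- the check that an involution commutes with a shift -/
noncomputable def cenOK (x e : ℕ) : Bool :=
  allN 4704 fun p => Nat.beq (lk9 x (sh e p)) (sh e (lk9 x p))

theorem cenOK_spec {x e : ℕ} (h : cenOK x e = true) {p : ℕ} (hp : p < 4704) :
    lk9 x (sh e p) = sh e (lk9 x p) := by
  rw [cenOK, allN_iff] at h
  exact Nat.eq_of_beq_eq_true (h p hp)

/-- a word that is trivial in the presented group and acts as a shift that commutes with the involutions has its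
value in the central subgroup -/
theorem wd_gE_mem_N {w : List ℕ} {e : ℕ} (hw : ∀ x ∈ w, x < 9) (hB : VCert.wd pgen w = 1)
    (hs : ∀ p, p < 4704 → ev9 w p = sh e p)
    (hc : ∀ y, y < 9 → ∀ p, p < 4704 → lk9 y (sh e p) = sh e (lk9 y p)) : VCert.wd gE w ∈ N := by
  rw [mem_N, wd_gE_val w hw]
  refine ⟨hB, fun y => ?_⟩
  show pm9 y * VCert.wd pm9 w = VCert.wd pm9 w * pm9 y
  apply Equiv.ext
  intro p
  apply Fin.ext
  rw [Equiv.Perm.mul_apply, Equiv.Perm.mul_apply, pm9_val, wd_pm9_val, wd_pm9_val, pm9_val]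
  rcases Nat.lt_or_ge y 9 with hy | hy
  · rw [hs _ p.2, hs _ (hh9 y p.val p.2).1]
    exact hc y hy p.val p.2
  · rw [lk9_ge hy, lk9_ge hy]

end Cfsg.Agent.Lib.Helper7.U62MM
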