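import Cfsg.Agent.Lib.Helper7.U62ME

/-! # The multiplier of the unitary group of degree six over the field of four elements: checks of words on the 4704
points, file 1 (generated) -/

set_option autoImplicit false
set_option maxRecDepth 100000

namespace Cfsg.Agent.Lib.Helper7.U62MM

theorem shk_2 : shOKi 2 = true := by decide +kernel

theorem shk_6 : shOKi 6 = true := by decide +kernel

theorem shk_10 : shOKi 10 = true := by decide +kernel

theorem shk_12 : shOKi 12 = true := by decide +kernel

theorem shk_16 : shOKi 16 = true := by decide +kernel

theorem shk_23 : shOKi 23 = true := by decide +kernel

theorem shk_28 : shOKi 28 = true := by decide +kernel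

theorem shk_30 : shOKi 30 = true := by decide +kernel

theorem shk_35 : shOKi 35 = true := by decide +kernel

theorem shk_42 : shOKi 42 = true := by decide +kernel

theorem shk_47 : shOKi 47 = true := by decide +kernel

theorem shk_53 : shOKi 53 = true := by decide +kernel

theorem shk_58 : shOKi 58 = true := by decide +kernel

theorem shk_64 : shOKi 64 = true := by decide +kernel

theorem shk_68 : shOKi 68 = true := by decide +kernel

theorem shk_70 : shOKi 70 = true := by decide +kernel

theorem shk_71 : shOKi 71 = true := by decide +kernel

theorem shk_75 : shOKi 75 = true := by decide +kernel

theorem shk_84 : shOKi 84 = true := by decide +kernel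

end Cfsg.Agent.Lib.Helper7.U62MM
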