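import Cfsg.Agent.Lib.Helper7.U62ME

/-! # The multiplier of the unitary group of degree six over the field of four elements: checks of words on the 4704
points, file 2 (generated) -/

set_option autoImplicit false
set_option maxRecDepth 100000

namespace Cfsg.Agent.Lib.Helper7.U62MM

theorem shk_1 : shOKi 1 = true := by decide +kernel

theorem shk_3 : shOKi 3 = true := by decide +kernel

theorem shk_7 : shOKi 7 = true := by decide +kernel

theorem shk_13 : shOKi 13 = true := by decide +kernel

theorem shk_17 : shOKi 17 = true := by decide +kernel

theorem shk_19 : shOKi 19 = true := by decide +kernel

theorem shk_24 : shOKi 24 = true := by decide +kernel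

theorem shk_25 : shOKi 25 = true := by decide +kernel

theorem shk_31 : shOKi 31 = true := by decide +kernel

theorem shk_32 : shOKi 32 = true := by decide +kernel

theorem shk_36 : shOKi 36 = true := by decide +kernel

theorem shk_40 : shOKi 40 = true := by decide +kernel

theorem shk_41 : shOKi 41 = true := by decide +kernel

theorem shk_43 : shOKi 43 = true := by decide +kernel

theorem shk_48 : shOKi 48 = true := by decide +kernel

theorem shk_49 : shOKi 49 = true := by decide +kernel

theorem shk_54 : shOKi 54 = true := by decide +kernel

theorem shk_59 : shOKi 59 = true := by decide +kernel

theorem shk_65 : shOKi 65 = true := by decide +kernel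

theorem shk_69 : shOKi 69 = true := by decide +kernel

theorem shk_72 : shOKi 72 = true := by decide +kernel

theorem shk_77 : shOKi 77 = true := by decide +kernel

theorem shk_80 : shOKi 80 = true := by decide +kernel

theorem shk_83 : shOKi 83 = true := by decide +kernel

end Cfsg.Agent.Lib.Helper7.U62MM
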