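import Cfsg.Agent.Lib.Helper7.U62ME

/-! # The multiplier of the unitary group of degree six over the field of four elements: checks of words on the 4704
points, file 3 (generated) -/

set_option autoImplicit false
set_option maxRecDepth 100000

namespace Cfsg.Agent.Lib.Helper7.U62MM

theorem shk_4 : shOKi 4 = true := by decide +kernel

theorem shk_8 : shOKi 8 = true := by decide +kernel

theorem shk_14 : shOKi 14 = true := by decide +kernel

theorem shk_18 : shOKi 18 = true := by decide +kernel

theorem shk_26 : shOKi 26 = true := by decide +kernel

theorem shk_33 : shOKi 33 = true := by decide +kernel

theorem shk_37 : shOKi 37 = true := by decide +kernel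

theorem shk_45 : shOKi 45 = true := by decide +kernel

theorem shk_50 : shOKi 50 = true := by decide +kernel

theorem shk_51 : shOKi 51 = true := by decide +kernel

theorem shk_55 : shOKi 55 = true := by decide +kernel

theorem shk_56 : shOKi 56 = true := by decide +kernel

theorem shk_62 : shOKi 62 = true := by decide +kernel

theorem shk_66 : shOKi 66 = true := by decide +kernel

theorem shk_73 : shOKi 73 = true := by decide +kernel

theorem shk_76 : shOKi 76 = true := by decide +kernel

theorem shk_78 : shOKi 78 = true := by decide +kernel

theorem shk_81 : shOKi 81 = true := by decide +kernel

theorem shk_85 : shOKi 85 = true := by decide +kernel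

theorem shk_86 : shOKi 86 = true := by decide +kernel

end Cfsg.Agent.Lib.Helper7.U62MM
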