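import Cfsg.Agent.Lib.Helper7.U62ME

/-! # The multiplier of the unitary group of degree six over the field of four elements: checks of words on the 4704
points, file 4 (generated) -/

set_option autoImplicit false
set_option maxRecDepth 100000

namespace Cfsg.Agent.Lib.Helper7.U62MM

theorem shk_0 : shOKi 0 = true := by decide +kernel

theorem shk_5 : shOKi 5 = true := by decide +kernel

theorem shk_9 : shOKi 9 = true := by decide +kernel

theorem shk_11 : shOKi 11 = true := by decide +kernel

theorem shk_15 : shOKi 15 = true := by decide +kernel

theorem shk_20 : shOKi 20 = true := by decide +kernel

theorem shk_21 : shOKi 21 = true := by decide +kernel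

theorem shk_22 : shOKi 22 = true := by decide +kernel

theorem shk_27 : shOKi 27 = true := by decide +kernel

theorem shk_29 : shOKi 29 = true := by decide +kernel

theorem shk_34 : shOKi 34 = true := by decide +kernel

theorem shk_38 : shOKi 38 = true := by decide +kernel

theorem shk_39 : shOKi 39 = true := by decide +kernel

theorem shk_44 : shOKi 44 = true := by decide +kernel

theorem shk_46 : shOKi 46 = true := by decide +kernel

theorem shk_52 : shOKi 52 = true := by decide +kernel

theorem shk_57 : shOKi 57 = true := by decide +kernel

theorem shk_60 : shOKi 60 = true := by decide +kernel

theorem shk_61 : shOKi 61 = true := by decide +kernel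

theorem shk_63 : shOKi 63 = true := by decide +kernel

theorem shk_67 : shOKi 67 = true := by decide +kernel

theorem shk_74 : shOKi 74 = true := by decide +kernel

theorem shk_79 : shOKi 79 = true := by decide +kernel

theorem shk_82 : shOKi 82 = true := by decide +kernel

end Cfsg.Agent.Lib.Helper7.U62MM
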