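import Cfsg.Agent.Lib.Helper7.U62MEK0
import Cfsg.Agent.Lib.Helper7.U62MEK1
import Cfsg.Agent.Lib.Helper7.U62MEK2
import Cfsg.Agent.Lib.Helper7.U62MEK3
import Cfsg.Agent.Lib.Helper7.U62MEK4

/-! # The multiplier of the unitary group of degree six over the field of four elements: the checks of the words on
the 4704 points put together (generated) -/

set_option autoImplicit false
set_option maxRecDepth 100000

namespace Cfsg.Agent.Lib.Helper7.U62MM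

open Cfsg.Agent.Lib.Helper7.MG Cfsg.Agent.Lib.Helper7.HSMult

/-- the words of the relators act as the given shifts -/
theorem rel_spec : ∀ i, i < 87 → ∀ p, p < 4704 → ev9 (relL.getD i []) p = sh (relE.getD i 0) p
  | 0, _, _, hp => shOKi_spec shk_0 hp
  | 1, _, _, hp => shOKi_spec shk_1 hp
  | 2, _, _, hp => shOKi_spec shk_2 hp
  | 3, _, _, hp => shOKi_spec shk_3 hp
  | 4, _, _, hp => shOKi_spec shk_4 hp
  | 5, _, _, hp => shOKi_spec shk_5 hp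
  | 6, _, _, hp => shOKi_spec shk_6 hp
  | 7, _, _, hp => shOKi_spec shk_7 hp
  | 8, _, _, hp => shOKi_spec shk_8 hp
  | 9, _, _, hp => shOKi_spec shk_9 hp
  | 10, _, _, hp => shOKi_spec shk_10 hp
  | 11, _, _, hp => shOKi_spec shk_11 hp
  | 12, _, _, hp => shOKi_spec shk_12 hp
  | 13, _, _, hp => shOKi_spec shk_13 hp
  | 14, _, _, hp => shOKi_spec shk_14 hp
  | 15, _, _, hp => shOKi_spec shk_15 hp
  | 16, _, _, hp => shOKi_spec shk_16 hp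
  | 17, _, _, hp => shOKi_spec shk_17 hp
  | 18, _, _, hp => shOKi_spec shk_18 hp
  | 19, _, _, hp => shOKi_spec shk_19 hp
  | 20, _, _, hp => shOKi_spec shk_20 hp
  | 21, _, _, hp => shOKi_spec shk_21 hp
  | 22, _, _, hp => shOKi_spec shk_22 hp
  | 23, _, _, hp => shOKi_spec shk_23 hp
  | 24, _, _, hp => shOKi_spec shk_24 hp
  | 25, _, _, hp => shOKi_spec shk_25 hp
  | 26, _, _, hp => shOKi_spec shk_26 hp
  | 27, _, _, hp => shOKi_spec shk_27 hp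
  | 28, _, _, hp => shOKi_spec shk_28 hp
  | 29, _, _, hp => shOKi_spec shk_29 hp
  | 30, _, _, hp => shOKi_spec shk_30 hp
  | 31, _, _, hp => shOKi_spec shk_31 hp
  | 32, _, _, hp => shOKi_spec shk_32 hp
  | 33, _, _, hp => shOKi_spec shk_33 hp
  | 34, _, _, hp => shOKi_spec shk_34 hp
  | 35, _, _, hp => shOKi_spec shk_35 hp
  | 36, _, _, hp => shOKi_spec shk_36 hp
  | 37, _, _, hp => shOKi_spec shk_37 hp
  | 38, _, _, hp => shOKi_spec shk_38 hp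
  | 39, _, _, hp => shOKi_spec shk_39 hp
  | 40, _, _, hp => shOKi_spec shk_40 hp
  | 41, _, _, hp => shOKi_spec shk_41 hp
  | 42, _, _, hp => shOKi_spec shk_42 hp
  | 43, _, _, hp => shOKi_spec shk_43 hp
  | 44, _, _, hp => shOKi_spec shk_44 hp
  | 45, _, _, hp => shOKi_spec shk_45 hp
  | 46, _, _, hp => shOKi_spec shk_46 hp
  | 47, _, _, hp => shOKi_spec shk_47 hp
  | 48, _, _, hp => shOKi_spec shk_48 hp
  | 49, _, _, hp => shOKi_spec shk_49 hp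
  | 50, _, _, hp => shOKi_spec shk_50 hp
  | 51, _, _, hp => shOKi_spec shk_51 hp
  | 52, _, _, hp => shOKi_spec shk_52 hp
  | 53, _, _, hp => shOKi_spec shk_53 hp
  | 54, _, _, hp => shOKi_spec shk_54 hp
  | 55, _, _, hp => shOKi_spec shk_55 hp
  | 56, _, _, hp => shOKi_spec shk_56 hp
  | 57, _, _, hp => shOKi_spec shk_57 hp
  | 58, _, _, hp => shOKi_spec shk_58 hp
  | 59, _, _, hp => shOKi_spec shk_59 hp
  | 60, _, _, hp => shOKi_spec shk_60 hp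
  | 61, _, _, hp => shOKi_spec shk_61 hp
  | 62, _, _, hp => shOKi_spec shk_62 hp
  | 63, _, _, hp => shOKi_spec shk_63 hp
  | 64, _, _, hp => shOKi_spec shk_64 hp
  | 65, _, _, hp => shOKi_spec shk_65 hp
  | 66, _, _, hp => shOKi_spec shk_66 hp
  | 67, _, _, hp => shOKi_spec shk_67 hp
  | 68, _, _, hp => shOKi_spec shk_68 hp
  | 69, _, _, hp => shOKi_spec shk_69 hp
  | 70, _, _, hp => shOKi_spec shk_70 hp
  | 71, _, _, hp => shOKi_spec shk_71 hp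
  | 72, _, _, hp => shOKi_spec shk_72 hp
  | 73, _, _, hp => shOKi_spec shk_73 hp
  | 74, _, _, hp => shOKi_spec shk_74 hp
  | 75, _, _, hp => shOKi_spec shk_75 hp
  | 76, _, _, hp => shOKi_spec shk_76 hp
  | 77, _, _, hp => shOKi_spec shk_77 hp
  | 78, _, _, hp => shOKi_spec shk_78 hp
  | 79, _, _, hp => shOKi_spec shk_79 hp
  | 80, _, _, hp => shOKi_spec shk_80 hp
  | 81, _, _, hp => shOKi_spec shk_81 hp
  | 82, _, _, hp => shOKi_spec shk_82 hp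
  | 83, _, _, hp => shOKi_spec shk_83 hp
  | 84, _, _, hp => shOKi_spec shk_84 hp
  | 85, _, _, hp => shOKi_spec shk_85 hp
  | 86, _, _, hp => shOKi_spec shk_86 hp
  | i + 87, h, _, _ => absurd h (by omega)

theorem lk9_sh_0 : ∀ y, y < 9 → ∀ p, p < 4704 → lk9 y (sh 0 p) = sh 0 (lk9 y p)
  | 0, _, _, _ => rfl
  | 1, _, _, hp => cenOK_spec cnk_1_0 hp
  | 2, _, _, hp => cenOK_spec cnk_2_0 hp
  | 3, _, _, hp => cenOK_spec cnk_3_0 hp
  | 4, _, _, hp => cenOK_spec cnk_4_0 hp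
  | 5, _, _, hp => cenOK_spec cnk_5_0 hp
  | 6, _, _, hp => cenOK_spec cnk_6_0 hp
  | 7, _, _, hp => cenOK_spec cnk_7_0 hp
  | 8, _, _, hp => cenOK_spec cnk_8_0 hp
  | y + 9, h, _, _ => absurd h (by omega)

theorem lk9_sh_2 : ∀ y, y < 9 → ∀ p, p < 4704 → lk9 y (sh 2 p) = sh 2 (lk9 y p)
  | 0, _, _, _ => rfl
  | 1, _, _, hp => cenOK_spec cnk_1_2 hp
  | 2, _, _, hp => cenOK_spec cnk_2_2 hp
  | 3, _, _, hp => cenOK_spec cnk_3_2 hp
  | 4, _, _, hp => cenOK_spec cnk_4_2 hp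
  | 5, _, _, hp => cenOK_spec cnk_5_2 hp
  | 6, _, _, hp => cenOK_spec cnk_6_2 hp
  | 7, _, _, hp => cenOK_spec cnk_7_2 hp
  | 8, _, _, hp => cenOK_spec cnk_8_2 hp
  | y + 9, h, _, _ => absurd h (by omega)

theorem lk9_sh_6 : ∀ y, y < 9 → ∀ p, p < 4704 → lk9 y (sh 6 p) = sh 6 (lk9 y p)
  | 0, _, _, _ => rfl
  | 1, _, _, hp => cenOK_spec cnk_1_6 hp
  | 2, _, _, hp => cenOK_spec cnk_2_6 hp
  | 3, _, _, hp => cenOK_spec cnk_3_6 hp
  | 4, _, _, hp => cenOK_spec cnk_4_6 hp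
  | 5, _, _, hp => cenOK_spec cnk_5_6 hp
  | 6, _, _, hp => cenOK_spec cnk_6_6 hp
  | 7, _, _, hp => cenOK_spec cnk_7_6 hp
  | 8, _, _, hp => cenOK_spec cnk_8_6 hp
  | y + 9, h, _, _ => absurd h (by omega)

theorem lk9_sh_9 : ∀ y, y < 9 → ∀ p, p < 4704 → lk9 y (sh 9 p) = sh 9 (lk9 y p)
  | 0, _, _, _ => rfl
  | 1, _, _, hp => cenOK_spec cnk_1_9 hp
  | 2, _, _, hp => cenOK_spec cnk_2_9 hp
  | 3, _, _, hp => cenOK_spec cnk_3_9 hp
  | 4, _, _, hp => cenOK_spec cnk_4_9 hp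
  | 5, _, _, hp => cenOK_spec cnk_5_9 hp
  | 6, _, _, hp => cenOK_spec cnk_6_9 hp
  | 7, _, _, hp => cenOK_spec cnk_7_9 hp
  | 8, _, _, hp => cenOK_spec cnk_8_9 hp
  | y + 9, h, _, _ => absurd h (by omega)

/-- the shifts of the words of the relators commute with the involutions -/
theorem rel_cen : ∀ i, i < 87 → ∀ y, y < 9 → ∀ p, p < 4704 →
    lk9 y (sh (relE.getD i 0) p) = sh (relE.getD i 0) (lk9 y p)
  | 0, _ => lk9_sh_0
  | 1, _ => lk9_sh_0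
  | 2, _ => lk9_sh_0
  | 3, _ => lk9_sh_0
  | 4, _ => lk9_sh_0
  | 5, _ => lk9_sh_0
  | 6, _ => lk9_sh_0
  | 7, _ => lk9_sh_0
  | 8, _ => lk9_sh_0
  | 9, _ => lk9_sh_0
  | 10, _ => lk9_sh_0
  | 11, _ => lk9_sh_0
  | 12, _ => lk9_sh_0
  | 13, _ => lk9_sh_0
  | 14, _ => lk9_sh_0
  | 15, _ => lk9_sh_0
  | 16, _ => lk9_sh_0
  | 17, _ => lk9_sh_0
  | 18, _ => lk9_sh_0
  | 19, _ => lk9_sh_0
  | 20, _ => lk9_sh_0
  | 21, _ => lk9_sh_0
  | 22, _ => lk9_sh_0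
  | 23, _ => lk9_sh_0
  | 24, _ => lk9_sh_0
  | 25, _ => lk9_sh_0
  | 26, _ => lk9_sh_0
  | 27, _ => lk9_sh_0
  | 28, _ => lk9_sh_0
  | 29, _ => lk9_sh_0
  | 30, _ => lk9_sh_0
  | 31, _ => lk9_sh_0
  | 32, _ => lk9_sh_0
  | 33, _ => lk9_sh_0
  | 34, _ => lk9_sh_0
  | 35, _ => lk9_sh_0
  | 36, _ => lk9_sh_0
  | 37, _ => lk9_sh_0
  | 38, _ => lk9_sh_0
  | 39, _ => lk9_sh_0
  | 40, _ => lk9_sh_0
  | 41, _ => lk9_sh_0
  | 42, _ => lk9_sh_0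
  | 43, _ => lk9_sh_0
  | 44, _ => lk9_sh_0
  | 45, _ => lk9_sh_0
  | 46, _ => lk9_sh_0
  | 47, _ => lk9_sh_0
  | 48, _ => lk9_sh_0
  | 49, _ => lk9_sh_0
  | 50, _ => lk9_sh_0
  | 51, _ => lk9_sh_0
  | 52, _ => lk9_sh_0
  | 53, _ => lk9_sh_0
  | 54, _ => lk9_sh_0
  | 55, _ => lk9_sh_0
  | 56, _ => lk9_sh_0
  | 57, _ => lk9_sh_0
  | 58, _ => lk9_sh_0
  | 59, _ => lk9_sh_0
  | 60, _ => lk9_sh_0
  | 61, _ => lk9_sh_0
  | 62, _ => lk9_sh_0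
  | 63, _ => lk9_sh_0
  | 64, _ => lk9_sh_0
  | 65, _ => lk9_sh_0
  | 66, _ => lk9_sh_0
  | 67, _ => lk9_sh_0
  | 68, _ => lk9_sh_0
  | 69, _ => lk9_sh_0
  | 70, _ => lk9_sh_0
  | 71, _ => lk9_sh_0
  | 72, _ => lk9_sh_0
  | 73, _ => lk9_sh_0
  | 74, _ => lk9_sh_0
  | 75, _ => lk9_sh_0
  | 76, _ => lk9_sh_0
  | 77, _ => lk9_sh_0
  | 78, _ => lk9_sh_0
  | 79, _ => lk9_sh_0
  | 80, _ => lk9_sh_0
  | 81, _ => lk9_sh_0
  | 82, _ => lk9_sh_2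
  | 83, _ => lk9_sh_6
  | 84, _ => lk9_sh_6
  | 85, _ => lk9_sh_9
  | 86, _ => lk9_sh_0
  | i + 87, h => absurd h (by omega)

end Cfsg.Agent.Lib.Helper7.U62MM
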