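import Cfsg.Agent.Lib.Helper7.U62ME

/-! # The multiplier of the unitary group of degree six over the field of four elements: checks of words on the 4704
points, file 0 (generated) -/

set_option autoImplicit false
set_option maxRecDepth 100000

namespace Cfsg.Agent.Lib.Helper7.U62MM

theorem cnk_1_0 : cenOK 1 0 = true := by decide +kernel

theorem cnk_2_0 : cenOK 2 0 = true := by decide +kernel

theorem cnk_3_0 : cenOK 3 0 = true := by decide +kernel

theorem cnk_4_0 : cenOK 4 0 = true := by decide +kernel

theorem cnk_5_0 : cenOK 5 0 = true := by decide +kernel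

theorem cnk_6_0 : cenOK 6 0 = true := by decide +kernel

theorem cnk_7_0 : cenOK 7 0 = true := by decide +kernel

theorem cnk_8_0 : cenOK 8 0 = true := by decide +kernel

theorem cnk_1_2 : cenOK 1 2 = true := by decide +kernel

theorem cnk_2_2 : cenOK 2 2 = true := by decide +kernel

theorem cnk_3_2 : cenOK 3 2 = true := by decide +kernel

theorem cnk_4_2 : cenOK 4 2 = true := by decide +kernel

theorem cnk_5_2 : cenOK 5 2 = true := by decide +kernel

theorem cnk_6_2 : cenOK 6 2 = true := by decide +kernel

theorem cnk_7_2 : cenOK 7 2 = true := by decide +kernel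

theorem cnk_8_2 : cenOK 8 2 = true := by decide +kernel

theorem cnk_1_6 : cenOK 1 6 = true := by decide +kernel

theorem cnk_2_6 : cenOK 2 6 = true := by decide +kernel

theorem cnk_3_6 : cenOK 3 6 = true := by decide +kernel

theorem cnk_4_6 : cenOK 4 6 = true := by decide +kernel

theorem cnk_5_6 : cenOK 5 6 = true := by decide +kernel

theorem cnk_6_6 : cenOK 6 6 = true := by decide +kernel

theorem cnk_7_6 : cenOK 7 6 = true := by decide +kernel

theorem cnk_8_6 : cenOK 8 6 = true := by decide +kernel

theorem cnk_1_9 : cenOK 1 9 = true := by decide +kernel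

theorem cnk_2_9 : cenOK 2 9 = true := by decide +kernel

theorem cnk_3_9 : cenOK 3 9 = true := by decide +kernel

theorem cnk_4_9 : cenOK 4 9 = true := by decide +kernel

theorem cnk_5_9 : cenOK 5 9 = true := by decide +kernel

theorem cnk_6_9 : cenOK 6 9 = true := by decide +kernel

theorem cnk_7_9 : cenOK 7 9 = true := by decide +kernel

theorem cnk_8_9 : cenOK 8 9 = true := by decide +kernel

end Cfsg.Agent.Lib.Helper7.U62MM
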