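import Cfsg.Agent.Lib.Helper7.U62MEB
import Cfsg.Agent.Lib.Helper6.U62Unit
import Cfsg.Agent.Lib.Helper8.SUTransport
import Cfsg.Prelude.Def_KGroupFacts

/-!
# The multiplier of the projective special unitary group of degree six over the field of four elements is the product
of cyclic groups of orders three, two and two

The group generated by the pairs is a stem extension of the presented group whose kernel has at least twelve
elements; together with the bound for the kernels of all stem extensions, applied also to this one, this gives the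
multiplier.  The statement is carried over to the projective special unitary group over any field of four elements.
-/

set_option autoImplicit false
set_option maxRecDepth 100000
set_option linter.constructorNameAsVariable false

namespace Cfsg.Agent.Lib.Helper7.U62MM

open Cfsg Cfsg.Spor Cfsg.Agent.Lib.Helper7.MG Cfsg.Agent.Lib.Helper7.HSMult Cfsg.Agent.Lib.Helper7.U62MB
open Cfsg.Agent.Lib.Helper6.TC Cfsg.Agent.Lib.Helper6.U62Sub Cfsg.Agent.Lib.Helper6

/-! ### the words of the relators -/

theorem relL_eq : coxWordsL PB.edges U62PBTC.gen 9 ++ U62PBTC.extraWords = relL := by decide +kernel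

theorem relL_length : relL.length = 87 := by decide +kernel

theorem rel_pgen {w : List ℕ} (hw : w ∈ relL) : (∀ x ∈ w, x < 9) ∧ VCert.wd pgen w = 1 := by
  rw [← relL_eq] at hw
  have h0 := List.all_eq_true.1 chk_relsB w hw
  rw [Bool.and_eq_true] at h0
  obtain ⟨h2, h1⟩ := h0
  have hlt : ∀ x ∈ w, x < 9 := fun x hx => of_decide_eq_true (List.all_eq_true.1 h2 x hx)
  rw [allN_iff] at h1
  exact ⟨hlt, wd_pgen_eq (w' := []) hlt (fun x hx => absurd hx List.not_mem_nil)
    fun p hp => Nat.eq_of_beq_eq_true (h1 p hp)⟩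

theorem getD_mem {i : ℕ} (hi : i < 87) : relL.getD i [] ∈ relL := by
  rw [List.getD_eq_getElem _ _ (by rw [relL_length]; exact hi)]
  exact List.getElem_mem _

theorem rel_mem_N {w : List ℕ} (hw : w ∈ relL) : VCert.wd gE w ∈ N := by
  obtain ⟨i, hi, rfl⟩ := List.mem_iff_getElem.1 hw
  have hi' : i < 87 := by rwa [relL_length] at hi
  obtain ⟨hlt, hB⟩ := rel_pgen hw
  have e : relL.getD i [] = relL[i] := List.getD_eq_getElem _ _ hi
  refine wd_gE_mem_N (e := relE.getD i 0) hlt hB (fun p hp => ?_) (rel_cen i hi')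
  have h := rel_spec i hi' p hp
  rw [e] at h
  exact h

/-! ### the presented group maps to the quotient by the central subgroup -/

/-- the images of the generators -/
noncomputable def fgenE (a : PB.Gen) : ↥GE ⧸ N := QuotientGroup.mk' N (gE (U62PBTC.code a))

theorem fgenE_gen {x : ℕ} (hx : x < 9) : fgenE (U62PBTC.gen x) = QuotientGroup.mk' N (gE x) := by
  interval_cases x <;> rfl

theorem fgenE_mul_self (a : PB.Gen) : fgenE a * fgenE a = 1 := by
  rw [fgenE, ← map_mul, gE_mul_self, map_one]

theorem word_eq_oneE {w : List ℕ} (hw : w ∈ coxWordsL PB.edges U62PBTC.gen 9 ++ U62PBTC.extraWords) :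
    (w.map fun x => fgenE (U62PBTC.gen x)).prod = 1 := by
  rw [relL_eq] at hw
  obtain ⟨hlt, _⟩ := rel_pgen hw
  have h3 : w.map (fun x => fgenE (U62PBTC.gen x)) = w.map (fun x => QuotientGroup.mk' N (gE x)) :=
    List.map_congr_left fun x hx => fgenE_gen (hlt x hx)
  have h4 : (w.map fun x => QuotientGroup.mk' N (gE x)).prod = QuotientGroup.mk' N (VCert.wd gE w) := by
    rw [VCert.wd, map_list_prod, List.map_map]
    rfl
  rw [h3, h4]
  exact (QuotientGroup.eq_one_iff _).2 (rel_mem_N hw)

theorem lift_relE : ∀ r ∈ coxRelators PB.edges ∪ {r | r ∈ PB.extra}, FreeGroup.lift fgenE r = 1 :=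
  CoxLift.lift_eq_one_of_words U62PBTC.gen U62PBTC.code 9 U62PBTC.extraWords
    (by intro a; cases a <;> exact ⟨by decide, rfl⟩) fgenE
    (U62PBTC.extra_iff fgenE fgenE_mul_self) fun _ hw => word_eq_oneE hw

/-- the homomorphism from the presented group to the quotient of the extension by the central subgroup -/
noncomputable def θE : PB →* ↥GE ⧸ N := PresentedGroup.toGroup lift_relE

theorem θE_pgen {x : ℕ} (hx : x < 9) : θE (pgen x) = QuotientGroup.mk' N (gE x) := by
  rw [pgen, θE, PresentedGroup.toGroup.of, fgenE_gen hx]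

theorem θE_sigE : θE.comp sigE = QuotientGroup.mk' N := by
  apply MonoidHom.eq_of_eqOn_dense closure_gE
  rintro _ ⟨x, hx, rfl⟩
  show θE (sigE (gE x)) = _
  rw [sigE_gE hx, θE_pgen hx]

/-- **the kernel of the projection lies in the central subgroup** -/
theorem ker_sigE_le : sigE.ker ≤ N := by
  intro g hg
  have h1 : θE (sigE g) = QuotientGroup.mk' N g := DFunLike.congr_fun θE_sigE g
  rw [MonoidHom.mem_ker.1 hg, map_one] at h1
  exact (QuotientGroup.eq_one_iff g).1 h1.symm

/-! ### the extension is perfect -/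

theorem sh_zero (p : ℕ) : sh 0 p = p := by
  rw [sh, strictN_eq]
  show cond (Nat.blt p 2016) (3 * (p / 3) + (p % 3 + 0 % 3) % 3)
    (2 * (p / 2) + (p % 2 + cond (Nat.blt p 3360) (0 / 3 % 2) (0 / 6)) % 2) = p
  cases Nat.blt p 2016 <;> cases Nat.blt p 3360 <;> simp only [cond_true, cond_false] <;> omega

theorem chk_sh66 : allN 4704 (fun p => Nat.beq (sh 6 (sh 6 p)) p) = true := by decide +kernel

/-- a word of a relator with trivial shift is trivial in the extension -/
theorem rel_exact {i : ℕ} (hi : i < 87) (he : relE.getD i 0 = 0) : VCert.wd gE (relL.getD i []) = 1 := by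
  obtain ⟨hlt, hB⟩ := rel_pgen (getD_mem hi)
  exact wd_gE_eq_one hlt (fun p hp => by rw [rel_spec i hi p hp, he, sh_zero]) hB

theorem gE_zero : gE 0 = 1 := by
  have h := rel_exact (i := 86) (by norm_num) rfl
  have e : relL.getD 86 [] = [0] := rfl
  rw [e, VCert.wd_cons, VCert.wd_nil, mul_one] at h
  exact h

/-- the word of odd length that is trivial in the extension -/
def oddW : List ℕ := relL.getD 84 [] ++ relL.getD 83 []

theorem oddW_lt : ∀ x ∈ oddW, x < 9 := by decide +kernel

theorem wd_gE_oddW : VCert.wd gE oddW = 1 := by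
  refine wd_gE_eq_one oddW_lt (fun p hp => ?_) ?_
  · have h := chk_sh66
    rw [allN_iff] at h
    rw [oddW, ev9_append, rel_spec 83 (by norm_num) p hp, rel_spec 84 (by norm_num) _ ?_]
    · exact Nat.eq_of_beq_eq_true (h p hp)
    · rw [← rel_spec 83 (by norm_num) p hp]
      exact ev9_lt _ p hp
  · rw [oddW, VCert.wd_append, (rel_pgen (getD_mem (i := 84) (by norm_num))).2,
      (rel_pgen (getD_mem (i := 83) (by norm_num))).2, one_mul]

theorem ab_eq_of_cox {A : Type*} [CommGroup A] {a b : A} (ha : a * a = 1) (hb : b * b = 1)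
    (h : a * (b * (a * (b * (a * b)))) = 1) : a = b := by
  have h1 : a * (b * (a * (b * (a * b)))) = (a * a) * (b * b) * (a * b) := by
    simp only [mul_comm, mul_left_comm]
  rw [h1, ha, hb, one_mul, one_mul] at h
  have h2 : a = b⁻¹ := eq_inv_of_mul_eq_one_left h
  rw [h2]
  exact inv_eq_of_mul_eq_one_left hb

/-- the value of a word whose letters all have the same image, except the first letter, which is trivial -/
theorem wd_eq_pow {A : Type*} [Group A] (γ : ℕ → A) (u : A) (h0 : γ 0 = 1) (h : ∀ x, 0 < x → x < 9 → γ x = u) :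
    ∀ w : List ℕ, (∀ x ∈ w, x < 9) → VCert.wd γ w = u ^ (w.countP fun x => decide (0 < x))
  | [], _ => by rw [VCert.wd_nil, List.countP_nil, pow_zero]
  | x :: w, hw => by
    have ih := wd_eq_pow γ u h0 h w fun y hy => hw y (List.mem_cons_of_mem _ hy)
    rw [VCert.wd_cons, ih, List.countP_cons]
    rcases Nat.eq_zero_or_pos x with rfl | hx
    · rw [h0, one_mul]
      simp
    · rw [h x hx (hw x List.mem_cons_self)]
      have : decide (0 < x) = true := decide_eq_true hx
      rw [this, if_pos rfl, pow_succ']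

theorem chk_count : oddW.countP (fun x => decide (0 < x)) = 93 := by decide +kernel

theorem cox_edge {x y : ℕ} (hx : x < 9) (hy : y < 9) (he : relE.getD (9 * x + y) 0 = 0)
    (hw : relL.getD (9 * x + y) [] = [x, y, x, y, x, y]) :
    gE x * (gE y * (gE x * (gE y * (gE x * gE y)))) = 1 := by
  have h := rel_exact (i := 9 * x + y) (by omega) he
  rw [hw, VCert.wd_cons, VCert.wd_cons, VCert.wd_cons, VCert.wd_cons, VCert.wd_cons, VCert.wd_cons, VCert.wd_nil,
    mul_one] at h
  exact h

theorem commutator_GE : commutator ↥GE = ⊤ := by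
  set π := (Abelianization.of : ↥GE →* Abelianization ↥GE) with hπ
  have sq : ∀ x, π (gE x) * π (gE x) = 1 := fun x => by rw [← map_mul, gE_mul_self, map_one]
  have ed : ∀ x y, x < 9 → y < 9 → relE.getD (9 * x + y) 0 = 0 →
      relL.getD (9 * x + y) [] = [x, y, x, y, x, y] → π (gE x) = π (gE y) := by
    intro x y hx hy he hw
    apply ab_eq_of_cox (sq x) (sq y)
    rw [← map_mul, ← map_mul, ← map_mul, ← map_mul, ← map_mul, cox_edge hx hy he hw, map_one]
  have e12 : π (gE 1) = π (gE 2) := ed 1 2 (by norm_num) (by norm_num) rfl rfl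
  have e23 : π (gE 2) = π (gE 3) := ed 2 3 (by norm_num) (by norm_num) rfl rfl
  have e26 : π (gE 2) = π (gE 6) := ed 2 6 (by norm_num) (by norm_num) rfl rfl
  have e34 : π (gE 3) = π (gE 4) := ed 3 4 (by norm_num) (by norm_num) rfl rfl
  have e45 : π (gE 4) = π (gE 5) := ed 4 5 (by norm_num) (by norm_num) rfl rfl
  have e67 : π (gE 6) = π (gE 7) := ed 6 7 (by norm_num) (by norm_num) rfl rfl
  have e84 : π (gE 8) = π (gE 4) := ed 8 4 (by norm_num) (by norm_num) rfl rfl
  set u := π (gE 1) with hu
  have hall : ∀ x, 0 < x → x < 9 → (fun x => π (gE x)) x = u := by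
    intro x h0 h9
    show π (gE x) = u
    have : x = 1 ∨ x = 2 ∨ x = 3 ∨ x = 4 ∨ x = 5 ∨ x = 6 ∨ x = 7 ∨ x = 8 := by omega
    rcases this with rfl | rfl | rfl | rfl | rfl | rfl | rfl | rfl
    · rfl
    · exact e12.symm
    · rw [← e23]; exact e12.symm
    · rw [← e34, ← e23]; exact e12.symm
    · rw [← e45, ← e34, ← e23]; exact e12.symm
    · rw [← e26]; exact e12.symm
    · rw [← e67, ← e26]; exact e12.symm
    · rw [e84, ← e34, ← e23]; exact e12.symm
  have h93 : u ^ 93 = 1 := by
    have h1 : π (VCert.wd gE oddW) = VCert.wd (fun x => π (gE x)) oddW := by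
      rw [VCert.wd, map_list_prod, List.map_map]
      rfl
    rw [wd_gE_oddW, map_one, wd_eq_pow (fun x => π (gE x)) u (by show π (gE 0) = 1; rw [gE_zero, map_one]) hall
      oddW oddW_lt, chk_count] at h1
    exact h1.symm
  have hu1 : u = 1 := by
    have h2 : u ^ 2 = 1 := by rw [pow_two]; exact sq 1
    have : u = u ^ 93 * ((u ^ 2) ^ 46)⁻¹ := by
      rw [← pow_mul]; group
    rw [this, h93, h2, one_pow, inv_one, mul_one]
  have hk : (⊤ : Subgroup ↥GE) ≤ π.ker := by
    rw [← closure_gE, Subgroup.closure_le]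
    rintro _ ⟨x, hx, rfl⟩
    have hx' : x < 9 := hx
    rw [SetLike.mem_coe, MonoidHom.mem_ker]
    rcases Nat.eq_zero_or_pos x with rfl | h0
    · rw [gE_zero, map_one]
    · rw [← hu1]
      exact hall x h0 hx'
  rw [← Abelianization.ker_of ↥GE]
  exact top_le_iff.1 hk

/-- **the group generated by the pairs is a stem extension of the presented group** -/
theorem stem_GE : IsStemExtension sigE := by
  refine ⟨sigE_surj, ?_, ?_⟩
  · exact ker_sigE_le.trans N_le_center
  · rw [commutator_GE]
    exact le_top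

/-! ### the order of the kernel -/

/-- the words of the kernel -/
def kw (i : ℕ) : List ℕ :=
  wpow (i % 3) (relL.getD 82 []) ++ (wpow (i / 3 % 2) (relL.getD 83 []) ++ wpow (i / 6) (relL.getD 85 []))

theorem kw_lt : ∀ i, i < 12 → ∀ x ∈ kw i, x < 9 := by decide +kernel

theorem wd_gE_kw_mem {i : ℕ} (hi : i < 12) : VCert.wd gE (kw i) ∈ sigE.ker := by
  rw [MonoidHom.mem_ker, sigE_wd (kw_lt i hi), kw, VCert.wd_append, VCert.wd_append, wd_wpow, wd_wpow, wd_wpow,
    (rel_pgen (getD_mem (i := 82) (by norm_num))).2, (rel_pgen (getD_mem (i := 83) (by norm_num))).2,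
    (rel_pgen (getD_mem (i := 85) (by norm_num))).2, one_pow, one_pow, one_pow, mul_one, mul_one]

theorem chk_sig : ∀ i, i < 12 →
    ev9 (kw i) 0 + 8192 * ev9 (kw i) 2016 + 67108864 * ev9 (kw i) 3360 = sigL.getD i 0 := by
  decide +kernel

theorem chk_nodup : ∀ i, i < 12 → ∀ j, j < 12 → sigL.getD i 0 = sigL.getD j 0 → i = j := by decide +kernel

instance instFiniteGE : Finite ↥GE := inferInstance

theorem card_ker_ge : 12 ≤ Nat.card ↥sigE.ker := by
  have hinj : Function.Injective
      (fun i : Fin 12 => (⟨VCert.wd gE (kw i.val), wd_gE_kw_mem i.2⟩ : ↥sigE.ker)) := by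
    intro i j h
    have h1 : VCert.wd gE (kw i.val) = VCert.wd gE (kw j.val) := congrArg Subtype.val h
    have hi := kw_lt i.val i.2
    have hj := kw_lt j.val j.2
    have e : sigL.getD i.val 0 = sigL.getD j.val 0 := by
      rw [← chk_sig i.val i.2, ← chk_sig j.val j.2, ev9_of_wd_gE_eq hi hj h1 (p := 0) (by norm_num),
        ev9_of_wd_gE_eq hi hj h1 (p := 2016) (by norm_num), ev9_of_wd_gE_eq hi hj h1 (p := 3360) (by norm_num)]
    exact Fin.ext (chk_nodup i.val i.2 j.val j.2 e)
  have := Nat.card_le_card_of_injective _ hinj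
  rwa [Nat.card_fin] at this

/-- the product of the cyclic groups of orders three, two and two has twelve elements -/
theorem card_prod_322 : Nat.card (Multiplicative (ZMod 3 × ZMod 2 × ZMod 2)) = 12 := by
  show Nat.card (ZMod 3 × ZMod 2 × ZMod 2) = 12
  rw [Nat.card_prod, Nat.card_prod, Nat.card_zmod, Nat.card_zmod]

/-- **the kernel of the stem extension is the product of cyclic groups of orders three, two and two** -/
theorem ker_GE : Nonempty (↥sigE.ker ≃* Multiplicative (ZMod 3 × ZMod 2 × ZMod 2)) := by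
  obtain ⟨hs, hc, hd⟩ := stem_GE
  obtain ⟨π, hπ⟩ := U62MT.exists_surj_of_stem sigE hs hc hd
  exact nonempty_equiv_of_surj_of_card_le π hπ (by rw [card_prod_322]; exact card_ker_ge)

/-! ### the projective special unitary group over any field of four elements -/

/-- **the Schur multiplier of the projective special unitary group of degree six over a field of four elements is the
product of cyclic groups of orders three, two and two** -/
theorem multiplier_psu62 {F : Type*} [Field F] [Fintype F] (hF : Fintype.card F = 4) :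
    Cfsg.HasSchurMultiplier (Cfsg.PSU 6 F 2) (Multiplicative (ZMod 3 × ZMod 2 × ZMod 2)) := by
  obtain ⟨e0⟩ : Nonempty (F ≃+* U62Mat.K) :=
    ⟨FiniteField.ringEquivOfCardEq (by rw [hF, Cfsg.Agent.Lib.Helper6.M21.F4c.card])⟩
  obtain ⟨e⟩ : Nonempty (Cfsg.PSU 6 F 2 ≃* PB) :=
    ⟨(Cfsg.Agent.Lib.Helper8.SUTransport.psuEquiv e0 6 2).trans Cfsg.Agent.Lib.Helper6.U62Unit.isoPSU.symm⟩
  constructor
  · obtain ⟨iso⟩ := ker_GE
    obtain ⟨h1, ⟨iso'⟩⟩ := stem_comp_equiv (MulEquiv.ulift (α := ↥GE)) e.symm sigE stem_GE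
    exact ⟨ULift ↥GE, inferInstance, inferInstance, _, h1, ⟨iso'.trans iso⟩⟩
  · intro Γ _ _ σ hσ
    have hk : ∀ x, x ∈ (e.toMonoidHom.comp σ).ker ↔ x ∈ σ.ker := by
      intro x
      rw [MonoidHom.mem_ker, MonoidHom.mem_ker]
      show e (σ x) = 1 ↔ σ x = 1
      exact MulEquiv.map_eq_one_iff e
    obtain ⟨π, hπ⟩ := U62MT.exists_surj_of_stem (e.toMonoidHom.comp σ) (e.surjective.comp hσ.1)
      (fun x hx => hσ.2.1 ((hk x).1 hx)) (fun x hx => hσ.2.2 ((hk x).1 hx))
    have hle : (e.toMonoidHom.comp σ).ker ≤ σ.ker := fun x hx => (hk x).1 hx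
    refine ⟨(Subgroup.inclusion hle).comp π, ?_⟩
    intro y
    obtain ⟨a, ha⟩ := hπ ⟨y.1, (hk y.1).2 y.2⟩
    refine ⟨a, ?_⟩
    apply Subtype.ext
    show ((π a : ↥(e.toMonoidHom.comp σ).ker) : Γ) = y.1
    rw [ha]

end Cfsg.Agent.Lib.Helper7.U62MM
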