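import Cfsg.Agent.Lib.Helper7.U62MTK0
import Cfsg.Agent.Lib.Helper7.U62MTK1

/-! # The multiplier of the unitary group of degree six over the field of four elements, the table of the group over the unitary subgroup of degree five: all the rows and words of the certificate are checked, and the words that give the relations
between the classes are traced (generated) -/

set_option autoImplicit false
set_option maxRecDepth 100000

namespace Cfsg.Agent.Lib.Helper7.U62MT

open Cfsg.Agent.Lib.Helper7.MG Cfsg.Agent.Lib.Helper7.HSMult

theorem rows_ok_all : ∀ k, k < 16 → rowsOK (42 * k) 42 = true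
  | 0, _ => rows_ok_0
  | 1, _ => rows_ok_1
  | 2, _ => rows_ok_2
  | 3, _ => rows_ok_3
  | 4, _ => rows_ok_4
  | 5, _ => rows_ok_5
  | 6, _ => rows_ok_6
  | 7, _ => rows_ok_7
  | 8, _ => rows_ok_8
  | 9, _ => rows_ok_9
  | 10, _ => rows_ok_10
  | 11, _ => rows_ok_11
  | 12, _ => rows_ok_12
  | 13, _ => rows_ok_13
  | 14, _ => rows_ok_14
  | 15, _ => rows_ok_15
  | k + 16, h => absurd h (by omega)

/-- **every entry of the table is justified** -/
theorem cert_all : ∀ a, a < cert.n → ∀ x, x < cert.g → cert.slotOK a x = true := by
  intro a ha x hx
  have ha' : a < 672 := ha
  have hx' : x < 14 := hx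
  have h1 := rows_ok_all (a / 42) (by omega)
  rw [rowsOK, allN_iff] at h1
  have h2 := h1 (a % 42) (Nat.mod_lt _ (by norm_num))
  rw [allN_iff] at h2
  have h3 := h2 x hx'
  have e : Nat.add (42 * (a / 42)) (a % 42) = a := Nat.div_add_mod a 42
  rw [e] at h3
  exact h3

theorem words_ok : wordsOK = true := by decide +kernel

/-- **every word of the certificate is justified** -/
theorem cert_wall : ∀ i, i < cert.nW → cert.wordOK i = true := by
  intro i hi
  have h := words_ok
  rw [wordsOK, allN_iff] at h
  exact h i hi

theorem close_0 : cert.scan 4095 (cert.W 426) 582 0 = some (582, 53876847739532331335762148754355590210525100580573185) := by decide +kernel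

theorem close_1 : cert.scan 4095 (cert.W 264) 261 0 = some (261, 41904214908525139948314226551564913413238919911206923) := by decide +kernel

theorem close_2 : cert.scan 4095 (cert.W 390) 507 0 = some (507, 47890531321241164424492029946326311753180067580116991) := by decide +kernel

theorem close_3 : cert.scan 4095 (cert.W 925) 483 0 = some (483, 65846557567264864904998071343465988590806608966103041) := by decide +kernel

theorem close_4 : cert.scan 4095 (cert.W 1245) 388 0 = some (388, 65849480573327127835999766557524133812804341991518210) := by decide +kernel

theorem close_5 : cert.scan 4095 (cert.W 563) 96 0 = some (96, 53876847739532339311108573409691581443317675305504760) := by decide +kernel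

theorem close_6 : cert.scan 4095 (cert.W 961) 29 0 = some (29, 65849480570539522723147956059601209155067150511157251) := by decide +kernel

theorem close_7 : cert.scan 4095 (cert.W 836) 443 0 = some (443, 59860241151761275192807063359746898814985937767931906) := by decide +kernel

theorem close_8 : cert.scan 4095 (cert.W 1200) 2 0 = some (2, 65849480570539530698513395471522761813345082304147455) := by decide +kernel

theorem close_9 : cert.scan 4095 (cert.W 1402) 456 0 = some (456, 35917898495809163324359483245156212049291652450246658) := by decide +kernel

theorem close_10 : cert.scan 4095 (cert.W 1182) 104 0 = some (104, 65849480570539530698522269026933289850461704392060926) := by decide +kernel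

end Cfsg.Agent.Lib.Helper7.U62MT
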