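import Cfsg.Agent.Lib.Helper7.U62MXC

/-! # The multiplier of the unitary group of degree six over the field of four elements, the table of the unitary subgroup of degree five over a subgroup of order 405: the check of the rows 1056 to 2111 of the certificate (generated) -/

set_option autoImplicit false
set_option maxRecDepth 100000

namespace Cfsg.Agent.Lib.Helper7.U62MX

theorem rows_ok_8 : rowsOK 1056 132 = true := by decide +kernel

theorem rows_ok_9 : rowsOK 1188 132 = true := by decide +kernel

theorem rows_ok_10 : rowsOK 1320 132 = true := by decide +kernel

theorem rows_ok_11 : rowsOK 1452 132 = true := by decide +kernel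

theorem rows_ok_12 : rowsOK 1584 132 = true := by decide +kernel

theorem rows_ok_13 : rowsOK 1716 132 = true := by decide +kernel

theorem rows_ok_14 : rowsOK 1848 132 = true := by decide +kernel

theorem rows_ok_15 : rowsOK 1980 132 = true := by decide +kernel

end Cfsg.Agent.Lib.Helper7.U62MX
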