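import Cfsg.Agent.Lib.Helper7.U62MXC

/-! # The multiplier of the unitary group of degree six over the field of four elements, the table of the unitary subgroup of degree five over a subgroup of order 405: the check of the rows 2112 to 3167 of the certificate (generated) -/

set_option autoImplicit false
set_option maxRecDepth 100000

namespace Cfsg.Agent.Lib.Helper7.U62MX

theorem rows_ok_16 : rowsOK 2112 132 = true := by decide +kernel

theorem rows_ok_17 : rowsOK 2244 132 = true := by decide +kernel

theorem rows_ok_18 : rowsOK 2376 132 = true := by decide +kernel

theorem rows_ok_19 : rowsOK 2508 132 = true := by decide +kernel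

theorem rows_ok_20 : rowsOK 2640 132 = true := by decide +kernel

theorem rows_ok_21 : rowsOK 2772 132 = true := by decide +kernel

theorem rows_ok_22 : rowsOK 2904 132 = true := by decide +kernel

theorem rows_ok_23 : rowsOK 3036 132 = true := by decide +kernel

end Cfsg.Agent.Lib.Helper7.U62MX
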