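import Cfsg.Agent.Lib.Helper7.U62MXC
import Cfsg.Agent.Lib.Helper7.U62MXK2

/-! # The multiplier of the unitary group of degree six over the field of four elements, the table of the unitary subgroup of degree five over a subgroup of order 405: the check of the rows 10560 to 11615 of the certificate (generated) -/

set_option autoImplicit false
set_option maxRecDepth 100000

namespace Cfsg.Agent.Lib.Helper7.U62MX

theorem rows_ok_80 : rowsOK 10560 132 = true := by decide +kernel

theorem rows_ok_81 : rowsOK 10692 132 = true := by decide +kernel

theorem rows_ok_82 : rowsOK 10824 132 = true := by decide +kernel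

theorem rows_ok_83 : rowsOK 10956 132 = true := by decide +kernel

theorem rows_ok_84 : rowsOK 11088 132 = true := by decide +kernel

theorem rows_ok_85 : rowsOK 11220 132 = true := by decide +kernel

theorem rows_ok_86 : rowsOK 11352 132 = true := by decide +kernel

theorem rows_ok_87 : rowsOK 11484 132 = true := by decide +kernel

end Cfsg.Agent.Lib.Helper7.U62MX
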