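import Cfsg.Agent.Lib.Helper7.U62MXC

/-! # The multiplier of the unitary group of degree six over the field of four elements, the table of the unitary subgroup of degree five over a subgroup of order 405: the check of the rows 3168 to 4223 of the certificate (generated) -/

set_option autoImplicit false
set_option maxRecDepth 100000

namespace Cfsg.Agent.Lib.Helper7.U62MX

theorem rows_ok_24 : rowsOK 3168 132 = true := by decide +kernel

theorem rows_ok_25 : rowsOK 3300 132 = true := by decide +kernel

theorem rows_ok_26 : rowsOK 3432 132 = true := by decide +kernel

theorem rows_ok_27 : rowsOK 3564 132 = true := by decide +kernel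

theorem rows_ok_28 : rowsOK 3696 132 = true := by decide +kernel

theorem rows_ok_29 : rowsOK 3828 132 = true := by decide +kernel

theorem rows_ok_30 : rowsOK 3960 132 = true := by decide +kernel

theorem rows_ok_31 : rowsOK 4092 132 = true := by decide +kernel

end Cfsg.Agent.Lib.Helper7.U62MX
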