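import Cfsg.Agent.Lib.Helper7.U62MXC
import Cfsg.Agent.Lib.Helper7.U62MXK3

/-! # The multiplier of the unitary group of degree six over the field of four elements, the table of the unitary subgroup of degree five over a subgroup of order 405: the check of the rows 11616 to 12671 of the certificate (generated) -/

set_option autoImplicit false
set_option maxRecDepth 100000

namespace Cfsg.Agent.Lib.Helper7.U62MX

theorem rows_ok_88 : rowsOK 11616 132 = true := by decide +kernel

theorem rows_ok_89 : rowsOK 11748 132 = true := by decide +kernel

theorem rows_ok_90 : rowsOK 11880 132 = true := by decide +kernel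

theorem rows_ok_91 : rowsOK 12012 132 = true := by decide +kernel

theorem rows_ok_92 : rowsOK 12144 132 = true := by decide +kernel

theorem rows_ok_93 : rowsOK 12276 132 = true := by decide +kernel

theorem rows_ok_94 : rowsOK 12408 132 = true := by decide +kernel

theorem rows_ok_95 : rowsOK 12540 132 = true := by decide +kernel

end Cfsg.Agent.Lib.Helper7.U62MX
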