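import Cfsg.Agent.Lib.Helper7.U62MXC

/-! # The multiplier of the unitary group of degree six over the field of four elements, the table of the unitary subgroup of degree five over a subgroup of order 405: the check of the rows 4224 to 5279 of the certificate (generated) -/

set_option autoImplicit false
set_option maxRecDepth 100000

namespace Cfsg.Agent.Lib.Helper7.U62MX

theorem rows_ok_32 : rowsOK 4224 132 = true := by decide +kernel

theorem rows_ok_33 : rowsOK 4356 132 = true := by decide +kernel

theorem rows_ok_34 : rowsOK 4488 132 = true := by decide +kernel

theorem rows_ok_35 : rowsOK 4620 132 = true := by decide +kernel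

theorem rows_ok_36 : rowsOK 4752 132 = true := by decide +kernel

theorem rows_ok_37 : rowsOK 4884 132 = true := by decide +kernel

theorem rows_ok_38 : rowsOK 5016 132 = true := by decide +kernel

theorem rows_ok_39 : rowsOK 5148 132 = true := by decide +kernel

end Cfsg.Agent.Lib.Helper7.U62MX
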