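import Cfsg.Agent.Lib.Helper7.U62MXC
import Cfsg.Agent.Lib.Helper7.U62MXK4

/-! # The multiplier of the unitary group of degree six over the field of four elements, the table of the unitary subgroup of degree five over a subgroup of order 405: the check of the rows 12672 to 13727 of the certificate (generated) -/

set_option autoImplicit false
set_option maxRecDepth 100000

namespace Cfsg.Agent.Lib.Helper7.U62MX

theorem rows_ok_96 : rowsOK 12672 132 = true := by decide +kernel

theorem rows_ok_97 : rowsOK 12804 132 = true := by decide +kernel

theorem rows_ok_98 : rowsOK 12936 132 = true := by decide +kernel

theorem rows_ok_99 : rowsOK 13068 132 = true := by decide +kernel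

theorem rows_ok_100 : rowsOK 13200 132 = true := by decide +kernel

theorem rows_ok_101 : rowsOK 13332 132 = true := by decide +kernel

theorem rows_ok_102 : rowsOK 13464 132 = true := by decide +kernel

theorem rows_ok_103 : rowsOK 13596 132 = true := by decide +kernel

end Cfsg.Agent.Lib.Helper7.U62MX
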