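import Cfsg.Agent.Lib.Helper7.U62MXC

/-! # The multiplier of the unitary group of degree six over the field of four elements, the table of the unitary subgroup of degree five over a subgroup of order 405: the check of the rows 6336 to 7391 of the certificate (generated) -/

set_option autoImplicit false
set_option maxRecDepth 100000

namespace Cfsg.Agent.Lib.Helper7.U62MX

theorem rows_ok_48 : rowsOK 6336 132 = true := by decide +kernel

theorem rows_ok_49 : rowsOK 6468 132 = true := by decide +kernel

theorem rows_ok_50 : rowsOK 6600 132 = true := by decide +kernel

theorem rows_ok_51 : rowsOK 6732 132 = true := by decide +kernel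

theorem rows_ok_52 : rowsOK 6864 132 = true := by decide +kernel

theorem rows_ok_53 : rowsOK 6996 132 = true := by decide +kernel

theorem rows_ok_54 : rowsOK 7128 132 = true := by decide +kernel

theorem rows_ok_55 : rowsOK 7260 132 = true := by decide +kernel

end Cfsg.Agent.Lib.Helper7.U62MX
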