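import Cfsg.Agent.Lib.Helper7.U62MXC
import Cfsg.Agent.Lib.Helper7.U62MXK6

/-! # The multiplier of the unitary group of degree six over the field of four elements, the table of the unitary subgroup of degree five over a subgroup of order 405: the check of the rows 14784 to 15839 of the certificate (generated) -/

set_option autoImplicit false
set_option maxRecDepth 100000

namespace Cfsg.Agent.Lib.Helper7.U62MX

theorem rows_ok_112 : rowsOK 14784 132 = true := by decide +kernel

theorem rows_ok_113 : rowsOK 14916 132 = true := by decide +kernel

theorem rows_ok_114 : rowsOK 15048 132 = true := by decide +kernel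

theorem rows_ok_115 : rowsOK 15180 132 = true := by decide +kernel

theorem rows_ok_116 : rowsOK 15312 132 = true := by decide +kernel

theorem rows_ok_117 : rowsOK 15444 132 = true := by decide +kernel

theorem rows_ok_118 : rowsOK 15576 132 = true := by decide +kernel

theorem rows_ok_119 : rowsOK 15708 132 = true := by decide +kernel

end Cfsg.Agent.Lib.Helper7.U62MX
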