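import Cfsg.Agent.Lib.Helper7.U62MXC

/-! # The multiplier of the unitary group of degree six over the field of four elements, the table of the unitary subgroup of degree five over a subgroup of order 405: the check of the rows 7392 to 8447 of the certificate (generated) -/

set_option autoImplicit false
set_option maxRecDepth 100000

namespace Cfsg.Agent.Lib.Helper7.U62MX

theorem rows_ok_56 : rowsOK 7392 132 = true := by decide +kernel

theorem rows_ok_57 : rowsOK 7524 132 = true := by decide +kernel

theorem rows_ok_58 : rowsOK 7656 132 = true := by decide +kernel

theorem rows_ok_59 : rowsOK 7788 132 = true := by decide +kernel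

theorem rows_ok_60 : rowsOK 7920 132 = true := by decide +kernel

theorem rows_ok_61 : rowsOK 8052 132 = true := by decide +kernel

theorem rows_ok_62 : rowsOK 8184 132 = true := by decide +kernel

theorem rows_ok_63 : rowsOK 8316 132 = true := by decide +kernel

end Cfsg.Agent.Lib.Helper7.U62MX
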