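import Cfsg.Agent.Lib.Helper7.U62MXC
import Cfsg.Agent.Lib.Helper7.U62MXK7

/-! # The multiplier of the unitary group of degree six over the field of four elements, the table of the unitary subgroup of degree five over a subgroup of order 405: the check of the rows 15840 to 16895 of the certificate (generated) -/

set_option autoImplicit false
set_option maxRecDepth 100000

namespace Cfsg.Agent.Lib.Helper7.U62MX

theorem rows_ok_120 : rowsOK 15840 132 = true := by decide +kernel

theorem rows_ok_121 : rowsOK 15972 132 = true := by decide +kernel

theorem rows_ok_122 : rowsOK 16104 132 = true := by decide +kernel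

theorem rows_ok_123 : rowsOK 16236 132 = true := by decide +kernel

theorem rows_ok_124 : rowsOK 16368 132 = true := by decide +kernel

theorem rows_ok_125 : rowsOK 16500 132 = true := by decide +kernel

theorem rows_ok_126 : rowsOK 16632 132 = true := by decide +kernel

theorem rows_ok_127 : rowsOK 16764 132 = true := by decide +kernel

end Cfsg.Agent.Lib.Helper7.U62MX
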