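import Cfsg.Agent.Lib.Helper7.U62MXC

/-! # The multiplier of the unitary group of degree six over the field of four elements, the table of the unitary subgroup of degree five over a subgroup of order 405: the check of the rows 0 to 1055 of the certificate (generated) -/

set_option autoImplicit false
set_option maxRecDepth 100000

namespace Cfsg.Agent.Lib.Helper7.U62MX

theorem rows_ok_0 : rowsOK 0 132 = true := by decide +kernel

theorem rows_ok_1 : rowsOK 132 132 = true := by decide +kernel

theorem rows_ok_2 : rowsOK 264 132 = true := by decide +kernel

theorem rows_ok_3 : rowsOK 396 132 = true := by decide +kernel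

theorem rows_ok_4 : rowsOK 528 132 = true := by decide +kernel

theorem rows_ok_5 : rowsOK 660 132 = true := by decide +kernel

theorem rows_ok_6 : rowsOK 792 132 = true := by decide +kernel

theorem rows_ok_7 : rowsOK 924 132 = true := by decide +kernel

end Cfsg.Agent.Lib.Helper7.U62MX
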