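import Cfsg.Agent.Lib.Helper7.U62MXC
import Cfsg.Agent.Lib.Helper7.U62MXK0

/-! # The multiplier of the unitary group of degree six over the field of four elements, the table of the unitary subgroup of degree five over a subgroup of order 405: the check of the rows 8448 to 9503 of the certificate (generated) -/

set_option autoImplicit false
set_option maxRecDepth 100000

namespace Cfsg.Agent.Lib.Helper7.U62MX

theorem rows_ok_64 : rowsOK 8448 132 = true := by decide +kernel

theorem rows_ok_65 : rowsOK 8580 132 = true := by decide +kernel

theorem rows_ok_66 : rowsOK 8712 132 = true := by decide +kernel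

theorem rows_ok_67 : rowsOK 8844 132 = true := by decide +kernel

theorem rows_ok_68 : rowsOK 8976 132 = true := by decide +kernel

theorem rows_ok_69 : rowsOK 9108 132 = true := by decide +kernel

theorem rows_ok_70 : rowsOK 9240 132 = true := by decide +kernel

theorem rows_ok_71 : rowsOK 9372 132 = true := by decide +kernel

end Cfsg.Agent.Lib.Helper7.U62MX
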