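import Cfsg.Agent.Lib.Helper7.U62MXC
import Cfsg.Agent.Lib.Helper7.U62MXK8

/-! # The multiplier of the unitary group of degree six over the field of four elements, the table of the unitary subgroup of degree five over a subgroup of order 405: the check of the rows 16896 to 17951 of the certificate (generated) -/

set_option autoImplicit false
set_option maxRecDepth 100000

namespace Cfsg.Agent.Lib.Helper7.U62MX

theorem rows_ok_128 : rowsOK 16896 132 = true := by decide +kernel

theorem rows_ok_129 : rowsOK 17028 132 = true := by decide +kernel

theorem rows_ok_130 : rowsOK 17160 132 = true := by decide +kernel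

theorem rows_ok_131 : rowsOK 17292 132 = true := by decide +kernel

theorem rows_ok_132 : rowsOK 17424 132 = true := by decide +kernel

theorem rows_ok_133 : rowsOK 17556 132 = true := by decide +kernel

theorem rows_ok_134 : rowsOK 17688 132 = true := by decide +kernel

theorem rows_ok_135 : rowsOK 17820 132 = true := by decide +kernel

end Cfsg.Agent.Lib.Helper7.U62MX
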