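import Cfsg.Agent.Lib.Helper7.U62MXC
import Cfsg.Agent.Lib.Helper7.U62MXK1

/-! # The multiplier of the unitary group of degree six over the field of four elements, the table of the unitary subgroup of degree five over a subgroup of order 405: the check of the rows 9504 to 10559 of the certificate (generated) -/

set_option autoImplicit false
set_option maxRecDepth 100000

namespace Cfsg.Agent.Lib.Helper7.U62MX

theorem rows_ok_72 : rowsOK 9504 132 = true := by decide +kernel

theorem rows_ok_73 : rowsOK 9636 132 = true := by decide +kernel

theorem rows_ok_74 : rowsOK 9768 132 = true := by decide +kernel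

theorem rows_ok_75 : rowsOK 9900 132 = true := by decide +kernel

theorem rows_ok_76 : rowsOK 10032 132 = true := by decide +kernel

theorem rows_ok_77 : rowsOK 10164 132 = true := by decide +kernel

theorem rows_ok_78 : rowsOK 10296 132 = true := by decide +kernel

theorem rows_ok_79 : rowsOK 10428 132 = true := by decide +kernel

end Cfsg.Agent.Lib.Helper7.U62MX
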