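import Cfsg.Agent.Lib.Helper7.U62MXC
import Cfsg.Agent.Lib.Helper7.U62MXK9

/-! # The multiplier of the unitary group of degree six over the field of four elements, the table of the unitary subgroup of degree five over a subgroup of order 405: the check of the rows 17952 to 19007 of the certificate (generated) -/

set_option autoImplicit false
set_option maxRecDepth 100000

namespace Cfsg.Agent.Lib.Helper7.U62MX

theorem rows_ok_136 : rowsOK 17952 132 = true := by decide +kernel

theorem rows_ok_137 : rowsOK 18084 132 = true := by decide +kernel

theorem rows_ok_138 : rowsOK 18216 132 = true := by decide +kernel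

theorem rows_ok_139 : rowsOK 18348 132 = true := by decide +kernel

theorem rows_ok_140 : rowsOK 18480 132 = true := by decide +kernel

theorem rows_ok_141 : rowsOK 18612 132 = true := by decide +kernel

theorem rows_ok_142 : rowsOK 18744 132 = true := by decide +kernel

theorem rows_ok_143 : rowsOK 18876 132 = true := by decide +kernel

end Cfsg.Agent.Lib.Helper7.U62MX
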