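import Cfsg.Agent.Lib.Helper7.U62MXC
import Cfsg.Agent.Lib.Helper7.U62MXK10

/-! # The multiplier of the unitary group of degree six over the field of four elements, the table of the unitary subgroup of degree five over a subgroup of order 405: the check of the rows 19008 to 20063 of the certificate (generated) -/

set_option autoImplicit false
set_option maxRecDepth 100000

namespace Cfsg.Agent.Lib.Helper7.U62MX

theorem rows_ok_144 : rowsOK 19008 132 = true := by decide +kernel

theorem rows_ok_145 : rowsOK 19140 132 = true := by decide +kernel

theorem rows_ok_146 : rowsOK 19272 132 = true := by decide +kernel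

theorem rows_ok_147 : rowsOK 19404 132 = true := by decide +kernel

theorem rows_ok_148 : rowsOK 19536 132 = true := by decide +kernel

theorem rows_ok_149 : rowsOK 19668 132 = true := by decide +kernel

theorem rows_ok_150 : rowsOK 19800 132 = true := by decide +kernel

theorem rows_ok_151 : rowsOK 19932 132 = true := by decide +kernel

end Cfsg.Agent.Lib.Helper7.U62MX
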