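import Cfsg.Agent.Lib.Helper7.U62MXC
import Cfsg.Agent.Lib.Helper7.U62MXK11

/-! # The multiplier of the unitary group of degree six over the field of four elements, the table of the unitary subgroup of degree five over a subgroup of order 405: the check of the rows 20064 to 21119 of the certificate (generated) -/

set_option autoImplicit false
set_option maxRecDepth 100000

namespace Cfsg.Agent.Lib.Helper7.U62MX

theorem rows_ok_152 : rowsOK 20064 132 = true := by decide +kernel

theorem rows_ok_153 : rowsOK 20196 132 = true := by decide +kernel

theorem rows_ok_154 : rowsOK 20328 132 = true := by decide +kernel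

theorem rows_ok_155 : rowsOK 20460 132 = true := by decide +kernel

theorem rows_ok_156 : rowsOK 20592 132 = true := by decide +kernel

theorem rows_ok_157 : rowsOK 20724 132 = true := by decide +kernel

theorem rows_ok_158 : rowsOK 20856 132 = true := by decide +kernel

theorem rows_ok_159 : rowsOK 20988 132 = true := by decide +kernel

end Cfsg.Agent.Lib.Helper7.U62MX
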