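import Cfsg.Agent.Lib.Helper7.U62MXC
import Cfsg.Agent.Lib.Helper7.U62MXK12

/-! # The multiplier of the unitary group of degree six over the field of four elements, the table of the unitary subgroup of degree five over a subgroup of order 405: the check of the rows 21120 to 22175 of the certificate (generated) -/

set_option autoImplicit false
set_option maxRecDepth 100000

namespace Cfsg.Agent.Lib.Helper7.U62MX

theorem rows_ok_160 : rowsOK 21120 132 = true := by decide +kernel

theorem rows_ok_161 : rowsOK 21252 132 = true := by decide +kernel

theorem rows_ok_162 : rowsOK 21384 132 = true := by decide +kernel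

theorem rows_ok_163 : rowsOK 21516 132 = true := by decide +kernel

theorem rows_ok_164 : rowsOK 21648 132 = true := by decide +kernel

theorem rows_ok_165 : rowsOK 21780 132 = true := by decide +kernel

theorem rows_ok_166 : rowsOK 21912 132 = true := by decide +kernel

theorem rows_ok_167 : rowsOK 22044 132 = true := by decide +kernel

end Cfsg.Agent.Lib.Helper7.U62MX
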