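import Cfsg.Agent.Lib.Helper7.U62MXC

/-! # The multiplier of the unitary group of degree six over the field of four elements, the table of the unitary subgroup of degree five over a subgroup of order 405: the check of the rows 5280 to 6335 of the certificate (generated) -/

set_option autoImplicit false
set_option maxRecDepth 100000

namespace Cfsg.Agent.Lib.Helper7.U62MX

theorem rows_ok_40 : rowsOK 5280 132 = true := by decide +kernel

theorem rows_ok_41 : rowsOK 5412 132 = true := by decide +kernel

theorem rows_ok_42 : rowsOK 5544 132 = true := by decide +kernel

theorem rows_ok_43 : rowsOK 5676 132 = true := by decide +kernel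

theorem rows_ok_44 : rowsOK 5808 132 = true := by decide +kernel

theorem rows_ok_45 : rowsOK 5940 132 = true := by decide +kernel

theorem rows_ok_46 : rowsOK 6072 132 = true := by decide +kernel

theorem rows_ok_47 : rowsOK 6204 132 = true := by decide +kernel

end Cfsg.Agent.Lib.Helper7.U62MX
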