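import Cfsg.Agent.Lib.Helper7.U62MXC
import Cfsg.Agent.Lib.Helper7.U62MXK5

/-! # The multiplier of the unitary group of degree six over the field of four elements, the table of the unitary subgroup of degree five over a subgroup of order 405: the check of the rows 13728 to 14783 of the certificate (generated) -/

set_option autoImplicit false
set_option maxRecDepth 100000

namespace Cfsg.Agent.Lib.Helper7.U62MX

theorem rows_ok_104 : rowsOK 13728 132 = true := by decide +kernel

theorem rows_ok_105 : rowsOK 13860 132 = true := by decide +kernel

theorem rows_ok_106 : rowsOK 13992 132 = true := by decide +kernel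

theorem rows_ok_107 : rowsOK 14124 132 = true := by decide +kernel

theorem rows_ok_108 : rowsOK 14256 132 = true := by decide +kernel

theorem rows_ok_109 : rowsOK 14388 132 = true := by decide +kernel

theorem rows_ok_110 : rowsOK 14520 132 = true := by decide +kernel

theorem rows_ok_111 : rowsOK 14652 132 = true := by decide +kernel

end Cfsg.Agent.Lib.Helper7.U62MX
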