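import Cfsg.Agent.Lib.Helper7.U62MXC
import Cfsg.Agent.Lib.Helper7.U62MXK13

/-! # The multiplier of the unitary group of degree six over the field of four elements, the table of the unitary subgroup of degree five over a subgroup of order 405: the check of the rows 22176 to 23231 of the certificate (generated) -/

set_option autoImplicit false
set_option maxRecDepth 100000

namespace Cfsg.Agent.Lib.Helper7.U62MX

theorem rows_ok_168 : rowsOK 22176 132 = true := by decide +kernel

theorem rows_ok_169 : rowsOK 22308 132 = true := by decide +kernel

theorem rows_ok_170 : rowsOK 22440 132 = true := by decide +kernel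

theorem rows_ok_171 : rowsOK 22572 132 = true := by decide +kernel

theorem rows_ok_172 : rowsOK 22704 132 = true := by decide +kernel

theorem rows_ok_173 : rowsOK 22836 132 = true := by decide +kernel

theorem rows_ok_174 : rowsOK 22968 132 = true := by decide +kernel

theorem rows_ok_175 : rowsOK 23100 132 = true := by decide +kernel

end Cfsg.Agent.Lib.Helper7.U62MX
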