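import Cfsg.Agent.Lib.Helper7.U62MXC
import Cfsg.Agent.Lib.Helper7.U62MXK14

/-! # The multiplier of the unitary group of degree six over the field of four elements, the table of the unitary subgroup of degree five over a subgroup of order 405: the check of the rows 23232 to 24287 of the certificate (generated) -/

set_option autoImplicit false
set_option maxRecDepth 100000

namespace Cfsg.Agent.Lib.Helper7.U62MX

theorem rows_ok_176 : rowsOK 23232 132 = true := by decide +kernel

theorem rows_ok_177 : rowsOK 23364 132 = true := by decide +kernel

theorem rows_ok_178 : rowsOK 23496 132 = true := by decide +kernel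

theorem rows_ok_179 : rowsOK 23628 132 = true := by decide +kernel

theorem rows_ok_180 : rowsOK 23760 132 = true := by decide +kernel

theorem rows_ok_181 : rowsOK 23892 132 = true := by decide +kernel

theorem rows_ok_182 : rowsOK 24024 132 = true := by decide +kernel

theorem rows_ok_183 : rowsOK 24156 132 = true := by decide +kernel

end Cfsg.Agent.Lib.Helper7.U62MX
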