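import Cfsg.Agent.Lib.Helper7.U62MXC
import Cfsg.Agent.Lib.Helper7.U62MXK15

/-! # The multiplier of the unitary group of degree six over the field of four elements, the table of the unitary subgroup of degree five over a subgroup of order 405: the check of the rows 24288 to 25343 of the certificate (generated) -/

set_option autoImplicit false
set_option maxRecDepth 100000

namespace Cfsg.Agent.Lib.Helper7.U62MX

theorem rows_ok_184 : rowsOK 24288 132 = true := by decide +kernel

theorem rows_ok_185 : rowsOK 24420 132 = true := by decide +kernel

theorem rows_ok_186 : rowsOK 24552 132 = true := by decide +kernel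

theorem rows_ok_187 : rowsOK 24684 132 = true := by decide +kernel

theorem rows_ok_188 : rowsOK 24816 132 = true := by decide +kernel

theorem rows_ok_189 : rowsOK 24948 132 = true := by decide +kernel

theorem rows_ok_190 : rowsOK 25080 132 = true := by decide +kernel

theorem rows_ok_191 : rowsOK 25212 132 = true := by decide +kernel

end Cfsg.Agent.Lib.Helper7.U62MX
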