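import Cfsg.Agent.Lib.Helper7.U62MXC
import Cfsg.Agent.Lib.Helper7.U62MXK16

/-! # The multiplier of the unitary group of degree six over the field of four elements, the table of the unitary subgroup of degree five over a subgroup of order 405: the check of the rows 25344 to 26399 of the certificate (generated) -/

set_option autoImplicit false
set_option maxRecDepth 100000

namespace Cfsg.Agent.Lib.Helper7.U62MX

theorem rows_ok_192 : rowsOK 25344 132 = true := by decide +kernel

theorem rows_ok_193 : rowsOK 25476 132 = true := by decide +kernel

theorem rows_ok_194 : rowsOK 25608 132 = true := by decide +kernel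

theorem rows_ok_195 : rowsOK 25740 132 = true := by decide +kernel

theorem rows_ok_196 : rowsOK 25872 132 = true := by decide +kernel

theorem rows_ok_197 : rowsOK 26004 132 = true := by decide +kernel

theorem rows_ok_198 : rowsOK 26136 132 = true := by decide +kernel

theorem rows_ok_199 : rowsOK 26268 132 = true := by decide +kernel

end Cfsg.Agent.Lib.Helper7.U62MX
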