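import Cfsg.Agent.Lib.Helper7.U62MXC
import Cfsg.Agent.Lib.Helper7.U62MXK17

/-! # The multiplier of the unitary group of degree six over the field of four elements, the table of the unitary subgroup of degree five over a subgroup of order 405: the check of the rows 26400 to 27455 of the certificate (generated) -/

set_option autoImplicit false
set_option maxRecDepth 100000

namespace Cfsg.Agent.Lib.Helper7.U62MX

theorem rows_ok_200 : rowsOK 26400 132 = true := by decide +kernel

theorem rows_ok_201 : rowsOK 26532 132 = true := by decide +kernel

theorem rows_ok_202 : rowsOK 26664 132 = true := by decide +kernel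

theorem rows_ok_203 : rowsOK 26796 132 = true := by decide +kernel

theorem rows_ok_204 : rowsOK 26928 132 = true := by decide +kernel

theorem rows_ok_205 : rowsOK 27060 132 = true := by decide +kernel

theorem rows_ok_206 : rowsOK 27192 132 = true := by decide +kernel

theorem rows_ok_207 : rowsOK 27324 132 = true := by decide +kernel

end Cfsg.Agent.Lib.Helper7.U62MX
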