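import Cfsg.Agent.Lib.Helper7.U62MXC
import Cfsg.Agent.Lib.Helper7.U62MXK18

/-! # The multiplier of the unitary group of degree six over the field of four elements, the table of the unitary subgroup of degree five over a subgroup of order 405: the check of the rows 27456 to 28511 of the certificate (generated) -/

set_option autoImplicit false
set_option maxRecDepth 100000

namespace Cfsg.Agent.Lib.Helper7.U62MX

theorem rows_ok_208 : rowsOK 27456 132 = true := by decide +kernel

theorem rows_ok_209 : rowsOK 27588 132 = true := by decide +kernel

theorem rows_ok_210 : rowsOK 27720 132 = true := by decide +kernel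

theorem rows_ok_211 : rowsOK 27852 132 = true := by decide +kernel

theorem rows_ok_212 : rowsOK 27984 132 = true := by decide +kernel

theorem rows_ok_213 : rowsOK 28116 132 = true := by decide +kernel

theorem rows_ok_214 : rowsOK 28248 132 = true := by decide +kernel

theorem rows_ok_215 : rowsOK 28380 132 = true := by decide +kernel

end Cfsg.Agent.Lib.Helper7.U62MX
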