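import Cfsg.Agent.Lib.Helper7.U62MXC
import Cfsg.Agent.Lib.Helper7.U62MXK20

/-! # The multiplier of the unitary group of degree six over the field of four elements, the table of the unitary subgroup of degree five over a subgroup of order 405: the check of the rows 29568 to 30623 of the certificate (generated) -/

set_option autoImplicit false
set_option maxRecDepth 100000

namespace Cfsg.Agent.Lib.Helper7.U62MX

theorem rows_ok_224 : rowsOK 29568 132 = true := by decide +kernel

theorem rows_ok_225 : rowsOK 29700 132 = true := by decide +kernel

theorem rows_ok_226 : rowsOK 29832 132 = true := by decide +kernel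

theorem rows_ok_227 : rowsOK 29964 132 = true := by decide +kernel

theorem rows_ok_228 : rowsOK 30096 132 = true := by decide +kernel

theorem rows_ok_229 : rowsOK 30228 132 = true := by decide +kernel

theorem rows_ok_230 : rowsOK 30360 132 = true := by decide +kernel

theorem rows_ok_231 : rowsOK 30492 132 = true := by decide +kernel

end Cfsg.Agent.Lib.Helper7.U62MX
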