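import Cfsg.Agent.Lib.Helper7.U62MXC
import Cfsg.Agent.Lib.Helper7.U62MXK21

/-! # The multiplier of the unitary group of degree six over the field of four elements, the table of the unitary subgroup of degree five over a subgroup of order 405: the check of the rows 30624 to 31679 of the certificate (generated) -/

set_option autoImplicit false
set_option maxRecDepth 100000

namespace Cfsg.Agent.Lib.Helper7.U62MX

theorem rows_ok_232 : rowsOK 30624 132 = true := by decide +kernel

theorem rows_ok_233 : rowsOK 30756 132 = true := by decide +kernel

theorem rows_ok_234 : rowsOK 30888 132 = true := by decide +kernel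

theorem rows_ok_235 : rowsOK 31020 132 = true := by decide +kernel

theorem rows_ok_236 : rowsOK 31152 132 = true := by decide +kernel

theorem rows_ok_237 : rowsOK 31284 132 = true := by decide +kernel

theorem rows_ok_238 : rowsOK 31416 132 = true := by decide +kernel

theorem rows_ok_239 : rowsOK 31548 132 = true := by decide +kernel

end Cfsg.Agent.Lib.Helper7.U62MX
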