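import Cfsg.Agent.Lib.Helper7.U62MXC
import Cfsg.Agent.Lib.Helper7.U62MXK22

/-! # The multiplier of the unitary group of degree six over the field of four elements, the table of the unitary subgroup of degree five over a subgroup of order 405: the check of the rows 31680 to 32735 of the certificate (generated) -/

set_option autoImplicit false
set_option maxRecDepth 100000

namespace Cfsg.Agent.Lib.Helper7.U62MX

theorem rows_ok_240 : rowsOK 31680 132 = true := by decide +kernel

theorem rows_ok_241 : rowsOK 31812 132 = true := by decide +kernel

theorem rows_ok_242 : rowsOK 31944 132 = true := by decide +kernel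

theorem rows_ok_243 : rowsOK 32076 132 = true := by decide +kernel

theorem rows_ok_244 : rowsOK 32208 132 = true := by decide +kernel

theorem rows_ok_245 : rowsOK 32340 132 = true := by decide +kernel

theorem rows_ok_246 : rowsOK 32472 132 = true := by decide +kernel

theorem rows_ok_247 : rowsOK 32604 132 = true := by decide +kernel

end Cfsg.Agent.Lib.Helper7.U62MX
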