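import Cfsg.Agent.Lib.Helper7.U62MXC
import Cfsg.Agent.Lib.Helper7.U62MXK23

/-! # The multiplier of the unitary group of degree six over the field of four elements, the table of the unitary subgroup of degree five over a subgroup of order 405: the check of the rows 32736 to 33791 of the certificate (generated) -/

set_option autoImplicit false
set_option maxRecDepth 100000

namespace Cfsg.Agent.Lib.Helper7.U62MX

theorem rows_ok_248 : rowsOK 32736 132 = true := by decide +kernel

theorem rows_ok_249 : rowsOK 32868 132 = true := by decide +kernel

theorem rows_ok_250 : rowsOK 33000 132 = true := by decide +kernel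

theorem rows_ok_251 : rowsOK 33132 132 = true := by decide +kernel

theorem rows_ok_252 : rowsOK 33264 132 = true := by decide +kernel

theorem rows_ok_253 : rowsOK 33396 132 = true := by decide +kernel

theorem rows_ok_254 : rowsOK 33528 132 = true := by decide +kernel

theorem rows_ok_255 : rowsOK 33660 132 = true := by decide +kernel

end Cfsg.Agent.Lib.Helper7.U62MX
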