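import Cfsg.Agent.Lib.Helper7.U62MXK0
import Cfsg.Agent.Lib.Helper7.U62MXK1
import Cfsg.Agent.Lib.Helper7.U62MXK2
import Cfsg.Agent.Lib.Helper7.U62MXK3
import Cfsg.Agent.Lib.Helper7.U62MXK4
import Cfsg.Agent.Lib.Helper7.U62MXK5
import Cfsg.Agent.Lib.Helper7.U62MXK6
import Cfsg.Agent.Lib.Helper7.U62MXK7
import Cfsg.Agent.Lib.Helper7.U62MXK8
import Cfsg.Agent.Lib.Helper7.U62MXK9
import Cfsg.Agent.Lib.Helper7.U62MXK10
import Cfsg.Agent.Lib.Helper7.U62MXK11
import Cfsg.Agent.Lib.Helper7.U62MXK12
import Cfsg.Agent.Lib.Helper7.U62MXK13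
import Cfsg.Agent.Lib.Helper7.U62MXK14
import Cfsg.Agent.Lib.Helper7.U62MXK15
import Cfsg.Agent.Lib.Helper7.U62MXK16
import Cfsg.Agent.Lib.Helper7.U62MXK17
import Cfsg.Agent.Lib.Helper7.U62MXK18
import Cfsg.Agent.Lib.Helper7.U62MXK19
import Cfsg.Agent.Lib.Helper7.U62MXK20
import Cfsg.Agent.Lib.Helper7.U62MXK21
import Cfsg.Agent.Lib.Helper7.U62MXK22
import Cfsg.Agent.Lib.Helper7.U62MXK23
import Cfsg.Agent.Lib.Helper7.U62MXK24
import Cfsg.Agent.Lib.Helper7.U62MXK25
import Cfsg.Agent.Lib.Helper7.U62MXK26
import Cfsg.Agent.Lib.Helper7.U62MXK27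
import Cfsg.Agent.Lib.Helper7.U62MXK28
import Cfsg.Agent.Lib.Helper7.U62MXK29
import Cfsg.Agent.Lib.Helper7.U62MXK30
import Cfsg.Agent.Lib.Helper7.U62MXK31

/-! # The multiplier of the unitary group of degree six over the field of four elements, the table of the unitary subgroup of degree five over a subgroup of order 405: all the rows and words of the certificate are checked, and the words that give the relations
between the classes are traced (generated) -/

set_option autoImplicit false
set_option maxRecDepth 100000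

namespace Cfsg.Agent.Lib.Helper7.U62MX

open Cfsg.Agent.Lib.Helper7.MG Cfsg.Agent.Lib.Helper7.HSMult

theorem rows_ok_all : ∀ k, k < 256 → rowsOK (132 * k) 132 = true
  | 0, _ => rows_ok_0
  | 1, _ => rows_ok_1
  | 2, _ => rows_ok_2
  | 3, _ => rows_ok_3
  | 4, _ => rows_ok_4
  | 5, _ => rows_ok_5
  | 6, _ => rows_ok_6
  | 7, _ => rows_ok_7
  | 8, _ => rows_ok_8
  | 9, _ => rows_ok_9
  | 10, _ => rows_ok_10
  | 11, _ => rows_ok_11
  | 12, _ => rows_ok_12
  | 13, _ => rows_ok_13
  | 14, _ => rows_ok_14
  | 15, _ => rows_ok_15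
  | 16, _ => rows_ok_16
  | 17, _ => rows_ok_17
  | 18, _ => rows_ok_18
  | 19, _ => rows_ok_19
  | 20, _ => rows_ok_20
  | 21, _ => rows_ok_21
  | 22, _ => rows_ok_22
  | 23, _ => rows_ok_23
  | 24, _ => rows_ok_24
  | 25, _ => rows_ok_25
  | 26, _ => rows_ok_26
  | 27, _ => rows_ok_27
  | 28, _ => rows_ok_28
  | 29, _ => rows_ok_29
  | 30, _ => rows_ok_30
  | 31, _ => rows_ok_31
  | 32, _ => rows_ok_32
  | 33, _ => rows_ok_33
  | 34, _ => rows_ok_34
  | 35, _ => rows_ok_35
  | 36, _ => rows_ok_36
  | 37, _ => rows_ok_37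
  | 38, _ => rows_ok_38
  | 39, _ => rows_ok_39
  | 40, _ => rows_ok_40
  | 41, _ => rows_ok_41
  | 42, _ => rows_ok_42
  | 43, _ => rows_ok_43
  | 44, _ => rows_ok_44
  | 45, _ => rows_ok_45
  | 46, _ => rows_ok_46
  | 47, _ => rows_ok_47
  | 48, _ => rows_ok_48
  | 49, _ => rows_ok_49
  | 50, _ => rows_ok_50
  | 51, _ => rows_ok_51
  | 52, _ => rows_ok_52
  | 53, _ => rows_ok_53
  | 54, _ => rows_ok_54
  | 55, _ => rows_ok_55
  | 56, _ => rows_ok_56
  | 57, _ => rows_ok_57
  | 58, _ => rows_ok_58
  | 59, _ => rows_ok_59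
  | 60, _ => rows_ok_60
  | 61, _ => rows_ok_61
  | 62, _ => rows_ok_62
  | 63, _ => rows_ok_63
  | 64, _ => rows_ok_64
  | 65, _ => rows_ok_65
  | 66, _ => rows_ok_66
  | 67, _ => rows_ok_67
  | 68, _ => rows_ok_68
  | 69, _ => rows_ok_69
  | 70, _ => rows_ok_70
  | 71, _ => rows_ok_71
  | 72, _ => rows_ok_72
  | 73, _ => rows_ok_73
  | 74, _ => rows_ok_74
  | 75, _ => rows_ok_75
  | 76, _ => rows_ok_76
  | 77, _ => rows_ok_77
  | 78, _ => rows_ok_78
  | 79, _ => rows_ok_79
  | 80, _ => rows_ok_80
  | 81, _ => rows_ok_81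
  | 82, _ => rows_ok_82
  | 83, _ => rows_ok_83
  | 84, _ => rows_ok_84
  | 85, _ => rows_ok_85
  | 86, _ => rows_ok_86
  | 87, _ => rows_ok_87
  | 88, _ => rows_ok_88
  | 89, _ => rows_ok_89
  | 90, _ => rows_ok_90
  | 91, _ => rows_ok_91
  | 92, _ => rows_ok_92
  | 93, _ => rows_ok_93
  | 94, _ => rows_ok_94
  | 95, _ => rows_ok_95
  | 96, _ => rows_ok_96
  | 97, _ => rows_ok_97
  | 98, _ => rows_ok_98
  | 99, _ => rows_ok_99
  | 100, _ => rows_ok_100
  | 101, _ => rows_ok_101
  | 102, _ => rows_ok_102
  | 103, _ => rows_ok_103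
  | 104, _ => rows_ok_104
  | 105, _ => rows_ok_105
  | 106, _ => rows_ok_106
  | 107, _ => rows_ok_107
  | 108, _ => rows_ok_108
  | 109, _ => rows_ok_109
  | 110, _ => rows_ok_110
  | 111, _ => rows_ok_111
  | 112, _ => rows_ok_112
  | 113, _ => rows_ok_113
  | 114, _ => rows_ok_114
  | 115, _ => rows_ok_115
  | 116, _ => rows_ok_116
  | 117, _ => rows_ok_117
  | 118, _ => rows_ok_118
  | 119, _ => rows_ok_119
  | 120, _ => rows_ok_120
  | 121, _ => rows_ok_121
  | 122, _ => rows_ok_122
  | 123, _ => rows_ok_123
  | 124, _ => rows_ok_124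
  | 125, _ => rows_ok_125
  | 126, _ => rows_ok_126
  | 127, _ => rows_ok_127
  | 128, _ => rows_ok_128
  | 129, _ => rows_ok_129
  | 130, _ => rows_ok_130
  | 131, _ => rows_ok_131
  | 132, _ => rows_ok_132
  | 133, _ => rows_ok_133
  | 134, _ => rows_ok_134
  | 135, _ => rows_ok_135
  | 136, _ => rows_ok_136
  | 137, _ => rows_ok_137
  | 138, _ => rows_ok_138
  | 139, _ => rows_ok_139
  | 140, _ => rows_ok_140
  | 141, _ => rows_ok_141
  | 142, _ => rows_ok_142
  | 143, _ => rows_ok_143
  | 144, _ => rows_ok_144
  | 145, _ => rows_ok_145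
  | 146, _ => rows_ok_146
  | 147, _ => rows_ok_147
  | 148, _ => rows_ok_148
  | 149, _ => rows_ok_149
  | 150, _ => rows_ok_150
  | 151, _ => rows_ok_151
  | 152, _ => rows_ok_152
  | 153, _ => rows_ok_153
  | 154, _ => rows_ok_154
  | 155, _ => rows_ok_155
  | 156, _ => rows_ok_156
  | 157, _ => rows_ok_157
  | 158, _ => rows_ok_158
  | 159, _ => rows_ok_159
  | 160, _ => rows_ok_160
  | 161, _ => rows_ok_161
  | 162, _ => rows_ok_162
  | 163, _ => rows_ok_163
  | 164, _ => rows_ok_164
  | 165, _ => rows_ok_165
  | 166, _ => rows_ok_166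
  | 167, _ => rows_ok_167
  | 168, _ => rows_ok_168
  | 169, _ => rows_ok_169
  | 170, _ => rows_ok_170
  | 171, _ => rows_ok_171
  | 172, _ => rows_ok_172
  | 173, _ => rows_ok_173
  | 174, _ => rows_ok_174
  | 175, _ => rows_ok_175
  | 176, _ => rows_ok_176
  | 177, _ => rows_ok_177
  | 178, _ => rows_ok_178
  | 179, _ => rows_ok_179
  | 180, _ => rows_ok_180
  | 181, _ => rows_ok_181
  | 182, _ => rows_ok_182
  | 183, _ => rows_ok_183
  | 184, _ => rows_ok_184
  | 185, _ => rows_ok_185
  | 186, _ => rows_ok_186
  | 187, _ => rows_ok_187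
  | 188, _ => rows_ok_188
  | 189, _ => rows_ok_189
  | 190, _ => rows_ok_190
  | 191, _ => rows_ok_191
  | 192, _ => rows_ok_192
  | 193, _ => rows_ok_193
  | 194, _ => rows_ok_194
  | 195, _ => rows_ok_195
  | 196, _ => rows_ok_196
  | 197, _ => rows_ok_197
  | 198, _ => rows_ok_198
  | 199, _ => rows_ok_199
  | 200, _ => rows_ok_200
  | 201, _ => rows_ok_201
  | 202, _ => rows_ok_202
  | 203, _ => rows_ok_203
  | 204, _ => rows_ok_204
  | 205, _ => rows_ok_205
  | 206, _ => rows_ok_206
  | 207, _ => rows_ok_207
  | 208, _ => rows_ok_208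
  | 209, _ => rows_ok_209
  | 210, _ => rows_ok_210
  | 211, _ => rows_ok_211
  | 212, _ => rows_ok_212
  | 213, _ => rows_ok_213
  | 214, _ => rows_ok_214
  | 215, _ => rows_ok_215
  | 216, _ => rows_ok_216
  | 217, _ => rows_ok_217
  | 218, _ => rows_ok_218
  | 219, _ => rows_ok_219
  | 220, _ => rows_ok_220
  | 221, _ => rows_ok_221
  | 222, _ => rows_ok_222
  | 223, _ => rows_ok_223
  | 224, _ => rows_ok_224
  | 225, _ => rows_ok_225
  | 226, _ => rows_ok_226
  | 227, _ => rows_ok_227
  | 228, _ => rows_ok_228
  | 229, _ => rows_ok_229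
  | 230, _ => rows_ok_230
  | 231, _ => rows_ok_231
  | 232, _ => rows_ok_232
  | 233, _ => rows_ok_233
  | 234, _ => rows_ok_234
  | 235, _ => rows_ok_235
  | 236, _ => rows_ok_236
  | 237, _ => rows_ok_237
  | 238, _ => rows_ok_238
  | 239, _ => rows_ok_239
  | 240, _ => rows_ok_240
  | 241, _ => rows_ok_241
  | 242, _ => rows_ok_242
  | 243, _ => rows_ok_243
  | 244, _ => rows_ok_244
  | 245, _ => rows_ok_245
  | 246, _ => rows_ok_246
  | 247, _ => rows_ok_247
  | 248, _ => rows_ok_248
  | 249, _ => rows_ok_249
  | 250, _ => rows_ok_250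
  | 251, _ => rows_ok_251
  | 252, _ => rows_ok_252
  | 253, _ => rows_ok_253
  | 254, _ => rows_ok_254
  | 255, _ => rows_ok_255
  | k + 256, h => absurd h (by omega)

/-- **every entry of the table is justified** -/
theorem cert_all : ∀ a, a < cert.n → ∀ x, x < cert.g → cert.slotOK a x = true := by
  intro a ha x hx
  have ha' : a < 33792 := ha
  have hx' : x < 6 := hx
  have h1 := rows_ok_all (a / 132) (by omega)
  rw [rowsOK, allN_iff] at h1
  have h2 := h1 (a % 132) (Nat.mod_lt _ (by norm_num))
  rw [allN_iff] at h2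
  have h3 := h2 x hx'
  have e : Nat.add (132 * (a / 132)) (a % 132) = a := Nat.div_add_mod a 132
  rw [e] at h3
  exact h3

theorem words_ok : wordsOK = true := by decide +kernel

/-- **every word of the certificate is justified** -/
theorem cert_wall : ∀ i, i < cert.nW → cert.wordOK i = true := by
  intro i hi
  have h := words_ok
  rw [wordsOK, allN_iff] at h
  exact h i hi

theorem close_0 : cert.scan 4095 (cert.W 550) 4135 0 = some (4135, 71614614325206289206997333747010284922153632060542644152860386387724659386479197376516067) := by decide +kernel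

theorem close_1 : cert.scan 4095 (cert.W 1044) 7727 0 = some (7727, 75593204038553514199048283930499566874508216756607777135849784484585161440435652084668368) := by decide +kernel

theorem close_2 : cert.scan 4095 (cert.W 2029) 29457 0 = some (29457, 79571793753753338411201622814093977934973231920396562753980909034360547425434927913541677) := by decide +kernel

theorem close_3 : cert.scan 4095 (cert.W 1934) 24878 0 = some (24878, 79571793718552465541882693945529286949055330120028001791584611517008787317173866923597841) := by decide +kernel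

theorem close_4 : cert.scan 4095 (cert.W 3230) 13759 0 = some (13759, 79571793737079281094867129898210093904940873379313280470696389558991616091841153760010231) := by decide +kernel

theorem close_5 : cert.scan 4095 (cert.W 384) 31972 0 = some (31972, 71614614334469711118061342838548807327044731479631793578104606092820359838014687685939194) := by decide +kernel

theorem close_6 : cert.scan 4095 (cert.W 116) 25546 0 = some (25546, 59678845298177742798181218787499376327309654399739651216791924798354901531120330997790733) := by decide +kernel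

theorem close_7 : cert.scan 4095 (cert.W 1772) 138 0 = some (138, 79571793711141846038277918065807422547962108885221399322274137656844617545658416707444727) := by decide +kernel

theorem close_8 : cert.scan 4095 (cert.W 2850) 29188 0 = some (29188, 79571793759311266818636421469343564312534124963941599253569922473009700352067966156709838) := by decide +kernel

theorem close_9 : cert.scan 4095 (cert.W 1090) 14992 0 = some (14992, 75593204031142772782879773607609377738349904484598230263854419123941243221867405037836334) := by decide +kernel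

theorem close_10 : cert.scan 4095 (cert.W 2421) 6699 0 = some (6699, 79571793757458685266782261116811808287479700700908772318916200253404541141336548572176352) := by decide +kernel

theorem close_11 : cert.scan 4095 (cert.W 1300) 2004 0 = some (2004, 75593204027437413559442136745007982324856078932666282745976377559558709960058151856281585) := by decide +kernel

theorem close_12 : cert.scan 4095 (cert.W 91) 1667 0 = some (1667, 55700255573714570882183372304370978132580950708263037520245003091526058216298424726220800) := by decide +kernel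

theorem close_13 : cert.scan 4095 (cert.W 2660) 603 0 = some (603, 79571793712994512398594043263985836967411533294070009297582157623371964538722667644100569) := by decide +kernel

theorem close_14 : cert.scan 4095 (cert.W 3518) 24982 0 = some (24982, 115379100871892237705824540860983634624791758603455309896429460734006813956451691421296684) := by decide +kernel

theorem close_15 : cert.scan 4095 (cert.W 3271) 4255 0 = some (4255, 79565965593304846224974461666349303021486404457009907652734430543871621179334069529386989) := by decide +kernel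

theorem close_16 : cert.scan 4095 (cert.W 1433) 5050 0 = some (5050, 75589318661862917223563378644677936323747253226618636684615428479915443602597519187548161) := by decide +kernel

end Cfsg.Agent.Lib.Helper7.U62MX
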