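import Cfsg.Agent.Lib.Helper7.U62MYC

/-! # The multiplier of the unitary group of degree six over the field of four elements, the table of the unitary subgroup of degree five over a Sylow 2-subgroup: the check of the rows 1215 to 2429 of the certificate (generated) -/

set_option autoImplicit false
set_option maxRecDepth 100000

namespace Cfsg.Agent.Lib.Helper7.U62MY

theorem rows_ok_5 : rowsOK 1215 243 = true := by decide +kernel

theorem rows_ok_6 : rowsOK 1458 243 = true := by decide +kernel

theorem rows_ok_7 : rowsOK 1701 243 = true := by decide +kernel

theorem rows_ok_8 : rowsOK 1944 243 = true := by decide +kernel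

theorem rows_ok_9 : rowsOK 2187 243 = true := by decide +kernel

end Cfsg.Agent.Lib.Helper7.U62MY
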