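import Cfsg.Agent.Lib.Helper7.U62MYC

/-! # The multiplier of the unitary group of degree six over the field of four elements, the table of the unitary subgroup of degree five over a Sylow 2-subgroup: the check of the rows 3645 to 4859 of the certificate (generated) -/

set_option autoImplicit false
set_option maxRecDepth 100000

namespace Cfsg.Agent.Lib.Helper7.U62MY

theorem rows_ok_15 : rowsOK 3645 243 = true := by decide +kernel

theorem rows_ok_16 : rowsOK 3888 243 = true := by decide +kernel

theorem rows_ok_17 : rowsOK 4131 243 = true := by decide +kernel

theorem rows_ok_18 : rowsOK 4374 243 = true := by decide +kernel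

theorem rows_ok_19 : rowsOK 4617 243 = true := by decide +kernel

end Cfsg.Agent.Lib.Helper7.U62MY
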