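import Cfsg.Agent.Lib.Helper7.U62MYC

/-! # The multiplier of the unitary group of degree six over the field of four elements, the table of the unitary subgroup of degree five over a Sylow 2-subgroup: the check of the rows 4860 to 6074 of the certificate (generated) -/

set_option autoImplicit false
set_option maxRecDepth 100000

namespace Cfsg.Agent.Lib.Helper7.U62MY

theorem rows_ok_20 : rowsOK 4860 243 = true := by decide +kernel

theorem rows_ok_21 : rowsOK 5103 243 = true := by decide +kernel

theorem rows_ok_22 : rowsOK 5346 243 = true := by decide +kernel

theorem rows_ok_23 : rowsOK 5589 243 = true := by decide +kernel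

theorem rows_ok_24 : rowsOK 5832 243 = true := by decide +kernel

end Cfsg.Agent.Lib.Helper7.U62MY
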