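import Cfsg.Agent.Lib.Helper7.U62MYK0
import Cfsg.Agent.Lib.Helper7.U62MYK1
import Cfsg.Agent.Lib.Helper7.U62MYK2
import Cfsg.Agent.Lib.Helper7.U62MYK3
import Cfsg.Agent.Lib.Helper7.U62MYK4
import Cfsg.Agent.Lib.Helper7.U62MYK5
import Cfsg.Agent.Lib.Helper7.U62MYK6
import Cfsg.Agent.Lib.Helper7.U62MYK7
import Cfsg.Agent.Lib.Helper7.U62MYK8
import Cfsg.Agent.Lib.Helper7.U62MYK9
import Cfsg.Agent.Lib.Helper7.U62MYK10

/-! # The multiplier of the unitary group of degree six over the field of four elements, the table of the unitary subgroup of degree five over a Sylow 2-subgroup: all the rows and words of the certificate are checked, and the words that give the relations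
between the classes are traced (generated) -/

set_option autoImplicit false
set_option maxRecDepth 100000

namespace Cfsg.Agent.Lib.Helper7.U62MY

open Cfsg.Agent.Lib.Helper7.MG Cfsg.Agent.Lib.Helper7.HSMult

theorem rows_ok_all : ∀ k, k < 55 → rowsOK (243 * k) 243 = true
  | 0, _ => rows_ok_0
  | 1, _ => rows_ok_1
  | 2, _ => rows_ok_2
  | 3, _ => rows_ok_3
  | 4, _ => rows_ok_4
  | 5, _ => rows_ok_5
  | 6, _ => rows_ok_6
  | 7, _ => rows_ok_7
  | 8, _ => rows_ok_8
  | 9, _ => rows_ok_9
  | 10, _ => rows_ok_10
  | 11, _ => rows_ok_11
  | 12, _ => rows_ok_12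
  | 13, _ => rows_ok_13
  | 14, _ => rows_ok_14
  | 15, _ => rows_ok_15
  | 16, _ => rows_ok_16
  | 17, _ => rows_ok_17
  | 18, _ => rows_ok_18
  | 19, _ => rows_ok_19
  | 20, _ => rows_ok_20
  | 21, _ => rows_ok_21
  | 22, _ => rows_ok_22
  | 23, _ => rows_ok_23
  | 24, _ => rows_ok_24
  | 25, _ => rows_ok_25
  | 26, _ => rows_ok_26
  | 27, _ => rows_ok_27
  | 28, _ => rows_ok_28
  | 29, _ => rows_ok_29
  | 30, _ => rows_ok_30
  | 31, _ => rows_ok_31
  | 32, _ => rows_ok_32
  | 33, _ => rows_ok_33
  | 34, _ => rows_ok_34
  | 35, _ => rows_ok_35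
  | 36, _ => rows_ok_36
  | 37, _ => rows_ok_37
  | 38, _ => rows_ok_38
  | 39, _ => rows_ok_39
  | 40, _ => rows_ok_40
  | 41, _ => rows_ok_41
  | 42, _ => rows_ok_42
  | 43, _ => rows_ok_43
  | 44, _ => rows_ok_44
  | 45, _ => rows_ok_45
  | 46, _ => rows_ok_46
  | 47, _ => rows_ok_47
  | 48, _ => rows_ok_48
  | 49, _ => rows_ok_49
  | 50, _ => rows_ok_50
  | 51, _ => rows_ok_51
  | 52, _ => rows_ok_52
  | 53, _ => rows_ok_53
  | 54, _ => rows_ok_54
  | k + 55, h => absurd h (by omega)

/-- **every entry of the table is justified** -/
theorem cert_all : ∀ a, a < cert.n → ∀ x, x < cert.g → cert.slotOK a x = true := by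
  intro a ha x hx
  have ha' : a < 13365 := ha
  have hx' : x < 10 := hx
  have h1 := rows_ok_all (a / 243) (by omega)
  rw [rowsOK, allN_iff] at h1
  have h2 := h1 (a % 243) (Nat.mod_lt _ (by norm_num))
  rw [allN_iff] at h2
  have h3 := h2 x hx'
  have e : Nat.add (243 * (a / 243)) (a % 243) = a := Nat.div_add_mod a 243
  rw [e] at h3
  exact h3

theorem words_ok : wordsOK = true := by decide +kernel

/-- **every word of the certificate is justified** -/
theorem cert_wall : ∀ i, i < cert.nW → cert.wordOK i = true := by
  intro i hi
  have h := words_ok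
  rw [wordsOK, allN_iff] at h
  exact h i hi

theorem close_0 : cert.scan 4095 (cert.W 275) 9325 0 = some (9325, 31385538617284485585946564315607673417106443069440309350398) := by decide +kernel

theorem close_1 : cert.scan 4095 (cert.W 129) 4179 0 = some (4179, 31385538602669472000236001865684804410411397925743315931118) := by decide +kernel

theorem close_2 : cert.scan 4095 (cert.W 241) 8117 0 = some (8117, 31385538605592497575619080132594140135453558399513056530438) := by decide +kernel

theorem close_3 : cert.scan 4095 (cert.W 775) 12922 0 = some (12922, 37659581333290836489978017465458330952524253423577438642218) := by decide +kernel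

theorem close_4 : cert.scan 4095 (cert.W 429) 1537 0 = some (1537, 31385538608515481337147446440309000404982683463435233021952) := by decide +kernel

theorem close_5 : cert.scan 4095 (cert.W 964) 464 0 = some (464, 25108430886812385069717957152247197906120672485633578516482) := by decide +kernel

theorem close_6 : cert.scan 4095 (cert.W 796) 7090 0 = some (7090, 37662646330218577604576935728370798068127580924664905490434) := by decide +kernel

theorem close_7 : cert.scan 4095 (cert.W 1096) 12489 0 = some (12489, 25108430889735371618799596446557581596903717842002921930735) := by decide +kernel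

theorem close_8 : cert.scan 4095 (cert.W 4) 11400 0 = some (11400, 18831323182647322388230368893999335806722545783096746192906) := by decide +kernel

theorem close_9 : cert.scan 4095 (cert.W 910) 4363 0 = some (4363, 37662646315603569594044697519043660470761326203053409329130) := by decide +kernel

theorem close_10 : cert.scan 4095 (cert.W 468) 9685 0 = some (9685, 37662646327295588267862269807014919880583442269769580961785) := by decide +kernel

theorem close_11 : cert.scan 4095 (cert.W 209) 5200 0 = some (5200, 31382473623279733808001167533148091670937090638915642085374) := by decide +kernel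

end Cfsg.Agent.Lib.Helper7.U62MY
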