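import Cfsg.Agent.Lib.Helper7.U62MBase4
import Cfsg.Agent.Lib.Helper7.U62MXD
import Cfsg.Agent.Lib.Helper7.U62MYD
import Cfsg.Agent.Lib.Helper7.U62MTD
import Cfsg.Agent.Lib.Helper7.M12MultD

/-!
# The presented unitary group of degree six over the field of four elements and its subgroup `L`: the words of the
three certificates, the order of `L`

All the words of the three certificates are trivial in the group.  The table of the cosets of `L` shows that `L` has
index at most 672; the table of the cosets in `L` of the subgroup generated by `u` and `v`, which has at most 405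
elements, shows that `L` has at most 13685760 elements; so `L` has 13685760 elements.  The groups are perfect.
-/

set_option autoImplicit false
set_option maxRecDepth 100000

namespace Cfsg.Agent.Lib.Helper7.U62MB

open Cfsg Cfsg.Spor Cfsg.Agent.Lib.Helper7.MG Cfsg.Agent.Lib.Helper7.HSMult
open Cfsg.Agent.Lib.Helper6.U62Sub Cfsg.Agent.Lib.Helper6
open scoped IsMulCommutative commutatorElement

/-! ### the words of the certificates -/

theorem chk_trivT_0 : (allN 512 fun j => strictN (Nat.add 0 j) fun i =>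
    cond (Nat.blt i 1443) (strictL (U62MT.cert.W i) fun w => baseT w) true) = true := by decide +kernel

theorem chk_trivT_1 : (allN 512 fun j => strictN (Nat.add 512 j) fun i =>
    cond (Nat.blt i 1443) (strictL (U62MT.cert.W i) fun w => baseT w) true) = true := by decide +kernel

theorem chk_trivT_2 : (allN 512 fun j => strictN (Nat.add 1024 j) fun i =>
    cond (Nat.blt i 1443) (strictL (U62MT.cert.W i) fun w => baseT w) true) = true := by decide +kernel

theorem chk_trivT_all : ∀ k, k < 3 → (allN 512 fun j => strictN (Nat.add (512 * k) j) fun i =>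
    cond (Nat.blt i 1443) (strictL (U62MT.cert.W i) fun w => baseT w) true) = true
  | 0, _ => chk_trivT_0
  | 1, _ => chk_trivT_1
  | 2, _ => chk_trivT_2
  | k + 3, h => absurd h (by omega)

theorem base_T_W {i : ℕ} (hi : i < 1443) : baseT (U62MT.cert.W i) = true := by
  have h := chk_trivT_all (i / 512) (by omega)
  rw [allN_iff] at h
  have h1 := h (i % 512) (Nat.mod_lt _ (by norm_num))
  rw [strictN_eq] at h1
  have e : Nat.add (512 * (i / 512)) (i % 512) = i := Nat.div_add_mod i 512
  rw [e] at h1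
  have h2 : Nat.blt i 1443 = true := by simpa [Nat.blt] using hi
  rw [h2, cond_true, strictL_eq] at h1
  exact h1

theorem wd_lT_W {i : ℕ} (hi : i < 1443) : VCert.wd lT (U62MT.cert.W i) = 1 :=
  wd_lT_eq_one_of_base (base_T_W hi)

theorem chk_trivX_0 : (allN 512 fun j => strictN (Nat.add 0 j) fun i =>
    cond (Nat.blt i 3519) (strictL (U62MX.cert.W i) fun w => baseX w) true) = true := by decide +kernel

theorem chk_trivX_1 : (allN 512 fun j => strictN (Nat.add 512 j) fun i =>
    cond (Nat.blt i 3519) (strictL (U62MX.cert.W i) fun w => baseX w) true) = true := by decide +kernel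

theorem chk_trivX_2 : (allN 512 fun j => strictN (Nat.add 1024 j) fun i =>
    cond (Nat.blt i 3519) (strictL (U62MX.cert.W i) fun w => baseX w) true) = true := by decide +kernel

theorem chk_trivX_3 : (allN 512 fun j => strictN (Nat.add 1536 j) fun i =>
    cond (Nat.blt i 3519) (strictL (U62MX.cert.W i) fun w => baseX w) true) = true := by decide +kernel

theorem chk_trivX_4 : (allN 512 fun j => strictN (Nat.add 2048 j) fun i =>
    cond (Nat.blt i 3519) (strictL (U62MX.cert.W i) fun w => baseX w) true) = true := by decide +kernel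

theorem chk_trivX_5 : (allN 512 fun j => strictN (Nat.add 2560 j) fun i =>
    cond (Nat.blt i 3519) (strictL (U62MX.cert.W i) fun w => baseX w) true) = true := by decide +kernel

theorem chk_trivX_6 : (allN 512 fun j => strictN (Nat.add 3072 j) fun i =>
    cond (Nat.blt i 3519) (strictL (U62MX.cert.W i) fun w => baseX w) true) = true := by decide +kernel

theorem chk_trivX_all : ∀ k, k < 7 → (allN 512 fun j => strictN (Nat.add (512 * k) j) fun i =>
    cond (Nat.blt i 3519) (strictL (U62MX.cert.W i) fun w => baseX w) true) = true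
  | 0, _ => chk_trivX_0
  | 1, _ => chk_trivX_1
  | 2, _ => chk_trivX_2
  | 3, _ => chk_trivX_3
  | 4, _ => chk_trivX_4
  | 5, _ => chk_trivX_5
  | 6, _ => chk_trivX_6
  | k + 7, h => absurd h (by omega)

theorem base_X_W {i : ℕ} (hi : i < 3519) : baseX (U62MX.cert.W i) = true := by
  have h := chk_trivX_all (i / 512) (by omega)
  rw [allN_iff] at h
  have h1 := h (i % 512) (Nat.mod_lt _ (by norm_num))
  rw [strictN_eq] at h1
  have e : Nat.add (512 * (i / 512)) (i % 512) = i := Nat.div_add_mod i 512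
  rw [e] at h1
  have h2 : Nat.blt i 3519 = true := by simpa [Nat.blt] using hi
  rw [h2, cond_true, strictL_eq] at h1
  exact h1

theorem wd_lX_W {i : ℕ} (hi : i < 3519) : VCert.wd lX (U62MX.cert.W i) = 1 :=
  wd_lX_eq_one_of_base (base_X_W hi)

theorem chk_trivY_0 : (allN 512 fun j => strictN (Nat.add 0 j) fun i =>
    cond (Nat.blt i 1113) (strictL (U62MY.cert.W i) fun w => baseY w) true) = true := by decide +kernel

theorem chk_trivY_1 : (allN 512 fun j => strictN (Nat.add 512 j) fun i =>
    cond (Nat.blt i 1113) (strictL (U62MY.cert.W i) fun w => baseY w) true) = true := by decide +kernel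

theorem chk_trivY_2 : (allN 512 fun j => strictN (Nat.add 1024 j) fun i =>
    cond (Nat.blt i 1113) (strictL (U62MY.cert.W i) fun w => baseY w) true) = true := by decide +kernel

theorem chk_trivY_all : ∀ k, k < 3 → (allN 512 fun j => strictN (Nat.add (512 * k) j) fun i =>
    cond (Nat.blt i 1113) (strictL (U62MY.cert.W i) fun w => baseY w) true) = true
  | 0, _ => chk_trivY_0
  | 1, _ => chk_trivY_1
  | 2, _ => chk_trivY_2
  | k + 3, h => absurd h (by omega)

theorem base_Y_W {i : ℕ} (hi : i < 1113) : baseY (U62MY.cert.W i) = true := by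
  have h := chk_trivY_all (i / 512) (by omega)
  rw [allN_iff] at h
  have h1 := h (i % 512) (Nat.mod_lt _ (by norm_num))
  rw [strictN_eq] at h1
  have e : Nat.add (512 * (i / 512)) (i % 512) = i := Nat.div_add_mod i 512
  rw [e] at h1
  have h2 : Nat.blt i 1113 = true := by simpa [Nat.blt] using hi
  rw [h2, cond_true, strictL_eq] at h1
  exact h1

theorem wd_lY_W {i : ℕ} (hi : i < 1113) : VCert.wd lY (U62MY.cert.W i) = 1 :=
  wd_lY_eq_one_of_base (base_Y_W hi)

/-- a word all of whose letters lie in a subgroup lies in the subgroup -/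
theorem wd_mem_of_list {Γ : Type*} [Group Γ] (γ : ℕ → Γ) (S : Subgroup Γ) :
    ∀ w : List ℕ, (∀ x ∈ w, γ x ∈ S) → VCert.wd γ w ∈ S
  | [], _ => S.one_mem
  | x :: w, h => by
    rw [VCert.wd_cons]
    exact S.mul_mem (h x List.mem_cons_self) (wd_mem_of_list γ S w fun y hy => h y (List.mem_cons_of_mem _ hy))

/-! ### the letters of the subgroups of the tables -/

theorem lt_of_subT {x : ℕ} (hx : U62MT.cert.sub x = true) : x < 12 := by
  have h : (Nat.beq x 0 || Nat.beq x 1 || Nat.beq x 2 || Nat.beq x 3 || Nat.beq x 4 || Nat.beq x 5 || Nat.beq x 6 || Nat.beq x 7 || Nat.beq x 8 || Nat.beq x 9 || Nat.beq x 10 || Nat.beq x 11) = true := hx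
  by_contra hge
  have hf : ∀ k, k < 12 → Nat.beq x k = false := by
    intro k hk
    rw [Bool.eq_false_iff]
    intro e
    have := Nat.eq_of_beq_eq_true e
    omega
  rw [hf 0 (by norm_num), hf 1 (by norm_num), hf 2 (by norm_num), hf 3 (by norm_num), hf 4 (by norm_num), hf 5 (by norm_num), hf 6 (by norm_num), hf 7 (by norm_num), hf 8 (by norm_num), hf 9 (by norm_num), hf 10 (by norm_num), hf 11 (by norm_num)] at h
  exact absurd h (by decide)

theorem lt_of_subX {x : ℕ} (hx : U62MX.cert.sub x = true) : x < 4 := by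
  have h : (Nat.beq x 0 || Nat.beq x 1 || Nat.beq x 2 || Nat.beq x 3) = true := hx
  by_contra hge
  have hf : ∀ k, k < 4 → Nat.beq x k = false := by
    intro k hk
    rw [Bool.eq_false_iff]
    intro e
    have := Nat.eq_of_beq_eq_true e
    omega
  rw [hf 0 (by norm_num), hf 1 (by norm_num), hf 2 (by norm_num), hf 3 (by norm_num)] at h
  exact absurd h (by decide)

theorem lt_of_subY {x : ℕ} (hx : U62MY.cert.sub x = true) : x < 8 := by
  have h : (Nat.beq x 0 || Nat.beq x 1 || Nat.beq x 2 || Nat.beq x 3 || Nat.beq x 4 || Nat.beq x 5 || Nat.beq x 6 || Nat.beq x 7) = true := hx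
  by_contra hge
  have hf : ∀ k, k < 8 → Nat.beq x k = false := by
    intro k hk
    rw [Bool.eq_false_iff]
    intro e
    have := Nat.eq_of_beq_eq_true e
    omega
  rw [hf 0 (by norm_num), hf 1 (by norm_num), hf 2 (by norm_num), hf 3 (by norm_num), hf 4 (by norm_num), hf 5 (by norm_num), hf 6 (by norm_num), hf 7 (by norm_num)] at h
  exact absurd h (by decide)

/-! ### the order of `L` -/

instance instFiniteL : Finite ↥L := inferInstance

theorem xor_lt_T : ∀ x, x < 14 → Nat.xor x 1 < 14 := by decide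

theorem hgen_PB : ∀ y : PB, ∃ u : List ℕ, (∀ x ∈ u, x < U62MT.cert.g) ∧ y = (u.map lT).prod := by
  apply exists_word_of_closure lT 14 (fun x => Nat.xor x 1) _ closure_lT
  intro x hx
  exact ⟨xor_lt_T x hx, lT_iv hx⟩

theorem index_L_le : L.index ≤ 672 ∧ L.index ≠ 0 := by
  refine U62MT.cert.index_le (γ := lT) (H := L) (z := fun _ => 1) ⊥ ?_ ?_ ?_ (by decide) (by decide)
    (fun x hx => lT_iv hx) ?_ ?_ ?_ U62MT.cert_all U62MT.cert_wall L le_rfl ?_ hgen_PB (by decide)
  · intro u hu g
    rw [Subgroup.mem_bot] at hu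
    rw [hu, mul_one, mul_inv_cancel]
    exact Subgroup.one_mem _
  · intro j _
    exact Subgroup.one_mem _
  · intro u _ hu
    exact Subgroup.mem_bot.1 hu
  · intro x hx
    exact lT_mem_L (lt_of_subT hx)
  · intro i hi
    rw [Subgroup.mem_bot]
    exact wd_lT_W hi
  · intro i hi _
    rw [wd_lT_W hi, VCert.ek, U62MT.cert.kap_triv _ (fun _ _ => rfl)]
    rfl
  · intro j _
    exact Subgroup.one_mem _

theorem card_L_le : Nat.card ↥L ≤ 13685760 := by
  have h := card_le_Zc_of_sub (MonoidHom.id ↥L) U62MX.cert lX (fun _ => 1) QX 405 (by decide)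
    (fun u _ hu => hu) card_QX_le (fun x hx => lX_mem_QX (lt_of_subX hx))
    (fun j _ => Subgroup.one_mem _) hgen_LX (by decide) (by decide) (fun x hx => lX_iv hx)
    (fun i hi => by rw [MonoidHom.mem_ker]; exact wd_lX_W hi)
    (fun i hi _ => by rw [wd_lX_W hi, VCert.ek, U62MX.cert.kap_triv _ (fun _ _ => rfl)]; rfl)
    U62MX.cert_all U62MX.cert_wall
  rw [Zc_eq_bot_of_triv _ _ (fun _ _ => rfl), Subgroup.card_bot] at h
  exact h

theorem card_L : Nat.card ↥L = 13685760 := by
  apply le_antisymm card_L_le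
  have h1 := Subgroup.card_mul_index L
  rw [card_PB] at h1
  obtain ⟨h2, _⟩ := index_L_le
  by_contra hlt
  have h3 : Nat.card ↥L ≤ 13685759 := by omega
  have : Nat.card ↥L * L.index ≤ 13685759 * 672 := Nat.mul_le_mul h3 h2
  omega

/-! ### the orders of the subgroups of the tables in `L` -/

theorem card_QX : Nat.card ↥QX = 405 := by
  apply le_antisymm card_QX_le
  have h := card_le_Zc_of_sub (MonoidHom.id ↥L) U62MX.cert lX (fun _ => 1) QX (Nat.card ↥QX) (by decide)
    (fun u _ hu => hu) le_rfl (fun x hx => lX_mem_QX (lt_of_subX hx))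
    (fun j _ => Subgroup.one_mem _) hgen_LX (by decide) (by decide) (fun x hx => lX_iv hx)
    (fun i hi => by rw [MonoidHom.mem_ker]; exact wd_lX_W hi)
    (fun i hi _ => by rw [wd_lX_W hi, VCert.ek, U62MX.cert.kap_triv _ (fun _ _ => rfl)]; rfl)
    U62MX.cert_all U62MX.cert_wall
  rw [Zc_eq_bot_of_triv _ _ (fun _ _ => rfl), Subgroup.card_bot, card_L, mul_one] at h
  have e : U62MX.cert.n = 33792 := rfl
  rw [e] at h
  omega

theorem card_QY_le' : Nat.card ↥L ≤ 13365 * Nat.card ↥QY := by
  have h := card_le_Zc_of_sub (MonoidHom.id ↥L) U62MY.cert lY (fun _ => 1) QY (Nat.card ↥QY) (by decide)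
    (fun u _ hu => hu) le_rfl (fun x hx => lY_mem_QY (lt_of_subY hx))
    (fun j _ => Subgroup.one_mem _) hgen_LY (by decide) (by decide) (fun x hx => lY_iv hx)
    (fun i hi => by rw [MonoidHom.mem_ker]; exact wd_lY_W hi)
    (fun i hi _ => by rw [wd_lY_W hi, VCert.ek, U62MY.cert.kap_triv _ (fun _ _ => rfl)]; rfl)
    U62MY.cert_all U62MY.cert_wall
  rw [Zc_eq_bot_of_triv _ _ (fun _ _ => rfl), Subgroup.card_bot, mul_one] at h
  exact h

theorem card_QY : Nat.card ↥QY = 1024 := by
  apply le_antisymm card_QY_le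
  have h := card_QY_le'
  rw [card_L] at h
  omega

/-! ### the groups are perfect -/

/-- **a group generated by `x`, `y`, `z` with `x ^ 3 = y ^ 5 = z ^ 2 = (z x y⁻¹ y⁻¹) ^ 5 = (y z) ^ 6 = 1` is perfect** -/
theorem perfect_of_three_words {G : Type*} [Group G] {x y z : G}
    (hgen : Subgroup.closure {x, y, z} = (⊤ : Subgroup G))
    (hx : x ^ 3 = 1) (hy : y ^ 5 = 1) (hz : z ^ 2 = 1) (h1 : (z * x * y⁻¹ * y⁻¹) ^ 5 = 1)
    (h2 : (y * z) ^ 6 = 1) : commutator G = ⊤ := by
  set π := (Abelianization.of : G →* Abelianization G) with hπ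
  set X := π x with hX
  set Y := π y with hY
  set Z := π z with hZ
  have e1 : X ^ 3 = 1 := by rw [hX, ← map_pow, hx, map_one]
  have e2 : Y ^ 5 = 1 := by rw [hY, ← map_pow, hy, map_one]
  have e3 : Z ^ 2 = 1 := by rw [hZ, ← map_pow, hz, map_one]
  have e4 : (Z * X * Y⁻¹ * Y⁻¹) ^ 5 = 1 := by
    rw [hX, hY, hZ, ← map_inv, ← map_mul, ← map_mul, ← map_mul, ← map_pow, h1, map_one]
  have e5 : (Y * Z) ^ 6 = 1 := by rw [hY, hZ, ← map_mul, ← map_pow, h2, map_one]
  have e6 : Z * X ^ 2 = 1 := by
    have a1 : (Z * X * Y⁻¹ * Y⁻¹) ^ 5 = Z ^ 2 * Z ^ 2 * Z * (X ^ 3 * X ^ 2) * ((Y ^ 5)⁻¹ * (Y ^ 5)⁻¹) := by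
      rw [mul_pow, mul_pow, mul_pow, inv_pow]
      have : Z ^ 5 = Z ^ 2 * Z ^ 2 * Z := by group
      have : X ^ 5 = X ^ 3 * X ^ 2 := by group
      rw [‹Z ^ 5 = _›, ‹X ^ 5 = _›]
      group
    rw [a1, e1, e2, e3, inv_one, one_mul, one_mul, one_mul, mul_one] at e4
    exact e4
  have x1 : X = 1 := by
    have a2 : Z = (X ^ 2)⁻¹ := eq_inv_of_mul_eq_one_left e6
    rw [a2, inv_pow, ← pow_mul] at e3
    have a3 : X ^ 4 = 1 := by
      have : (X ^ (2 * 2))⁻¹ = 1 := e3
      rwa [inv_eq_one] at this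
    have : X = X ^ 4 * (X ^ 3)⁻¹ := by group
    rw [this, a3, e1, inv_one, mul_one]
  have z1 : Z = 1 := by
    rw [x1, one_pow, mul_one] at e6
    exact e6
  have y1 : Y = 1 := by
    rw [z1, mul_one] at e5
    have : Y = Y ^ 6 * (Y ^ 5)⁻¹ := by group
    rw [this, e5, e2, inv_one, mul_one]
  have hk : (⊤ : Subgroup G) ≤ π.ker := by
    rw [← hgen, Subgroup.closure_le]
    intro g hg
    rcases hg with rfl | rfl | rfl
    · exact x1
    · exact y1
    · exact z1
  rw [← Abelianization.ker_of G]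
  exact top_le_iff.1 hk

theorem closure_three_L : Subgroup.closure {lX 0, lX 2, lX 4} = (⊤ : Subgroup ↥L) := by
  rw [eq_top_iff, ← closure_lX, Subgroup.closure_le]
  rintro _ ⟨x, hx, rfl⟩
  have hx' : x < 6 := hx
  have : x = 0 ∨ x = 1 ∨ x = 2 ∨ x = 3 ∨ x = 4 ∨ x = 5 := by omega
  rcases this with rfl | rfl | rfl | rfl | rfl | rfl
  · exact Subgroup.subset_closure (by simp)
  · have : lX 1 = (lX 0)⁻¹ := lX_iv (x := 0) (by norm_num)
    rw [SetLike.mem_coe, this]
    exact inv_mem (Subgroup.subset_closure (by simp))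
  · exact Subgroup.subset_closure (by simp)
  · have : lX 3 = (lX 2)⁻¹ := lX_iv (x := 2) (by norm_num)
    rw [SetLike.mem_coe, this]
    exact inv_mem (Subgroup.subset_closure (by simp))
  · exact Subgroup.subset_closure (by simp)
  · have : lX 5 = (lX 4)⁻¹ := lX_iv (x := 4) (by norm_num)
    rw [SetLike.mem_coe, this]
    exact inv_mem (Subgroup.subset_closure (by simp))

theorem chk_u3 : baseX (wpow 3 [0]) = true := by decide +kernel

theorem chk_v5 : baseX (wpow 5 [2]) = true := by decide +kernel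

theorem chk_g2 : baseX (wpow 2 [4]) = true := by decide +kernel

theorem chk_guvv5 : baseX (wpow 5 [4, 0, 3, 3]) = true := by decide +kernel

theorem chk_vg6 : baseX (wpow 6 [2, 4]) = true := by decide +kernel

theorem L_perfect : commutator ↥L = ⊤ := by
  have h3 : lX 0 ^ 3 = 1 := by
    have h := wd_lX_eq_one_of_base chk_u3
    rw [wd_wpow, VCert.wd_cons, VCert.wd_nil, mul_one] at h
    exact h
  have h5 : lX 2 ^ 5 = 1 := by
    have h := wd_lX_eq_one_of_base chk_v5
    rw [wd_wpow, VCert.wd_cons, VCert.wd_nil, mul_one] at h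
    exact h
  have h2 : lX 4 ^ 2 = 1 := by
    have h := wd_lX_eq_one_of_base chk_g2
    rw [wd_wpow, VCert.wd_cons, VCert.wd_nil, mul_one] at h
    exact h
  have h4 : (lX 4 * lX 0 * (lX 2)⁻¹ * (lX 2)⁻¹) ^ 5 = 1 := by
    have h := wd_lX_eq_one_of_base chk_guvv5
    have e3 : lX 3 = (lX 2)⁻¹ := lX_iv (x := 2) (by norm_num)
    rw [wd_wpow, VCert.wd_cons, VCert.wd_cons, VCert.wd_cons, VCert.wd_cons, VCert.wd_nil, mul_one,
      ← mul_assoc, ← mul_assoc, e3] at h
    exact h
  have h6 : (lX 2 * lX 4) ^ 6 = 1 := by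
    have h := wd_lX_eq_one_of_base chk_vg6
    rw [wd_wpow, VCert.wd_cons, VCert.wd_cons, VCert.wd_nil, mul_one] at h
    exact h
  exact perfect_of_three_words closure_three_L h3 h5 h2 h4 h6

theorem chk_nc : evB [1, 2] 1 ≠ evB [2, 1] 1 := by decide +kernel

theorem PB_perfect : commutator PB = ⊤ := by
  apply Cfsg.Agent.Lib.Helper7.M12Mult.perfect_of_simple
  intro hc
  have h1 : VCert.wd pgen [1, 2] = VCert.wd pgen [2, 1] := by
    rw [VCert.wd_cons, VCert.wd_cons, VCert.wd_nil, VCert.wd_cons, VCert.wd_cons, VCert.wd_nil, mul_one, mul_one]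
    exact hc _ _
  have h2 := congrArg φB h1
  have hl : ∀ x ∈ [1, 2], x < 9 := by
    intro x hx; simp only [List.mem_cons, List.not_mem_nil, or_false] at hx; omega
  have hl' : ∀ x ∈ [2, 1], x < 9 := by
    intro x hx; simp only [List.mem_cons, List.not_mem_nil, or_false] at hx; omega
  have h3 := φB_apply_val hl ⟨1, by norm_num⟩
  rw [h2, φB_apply_val hl'] at h3
  exact chk_nc h3.symm

end Cfsg.Agent.Lib.Helper7.U62MB
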