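import Cfsg.Agent.Lib.Helper7.U62MGrp
import Cfsg.Agent.Lib.Helper7.MGenF
import Cfsg.Agent.Lib.Helper7.MGenH
import Cfsg.Agent.Lib.Helper7.M12MultA
import Cfsg.Agent.Lib.Helper7.SZLift

/-!
# The multiplier of the unitary group of degree six over the field of four elements, the table of the unitary subgroup of degree five over a Sylow 2-subgroup: a finite stem extension of `L` whose kernel has order odd is an isomorphism

By the theorem of Schur and Zassenhaus the subgroup of the table lifts to a subgroup of the extension that meets the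
kernel trivially; the letters of the subgroup are lifted into it, so that all the words in these letters that are
trivial in the group are trivial in the extension.  The lift of the last generator is chosen so that one more given
word is trivial; this is possible since the order of the kernel is prime to the exponent sum of that generator in
the word.  The checked table shows that the kernel is generated by the values of the other given words; the traced
words give relations between them, which make their powers with exponent 2 trivial, so that they are trivial.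
-/

set_option autoImplicit false
set_option maxRecDepth 100000

namespace Cfsg.Agent.Lib.Helper7.U62MY

open Cfsg Cfsg.Spor Cfsg.Agent.Lib.Helper7.MG Cfsg.Agent.Lib.Helper7.HSMult Cfsg.Agent.Lib.Helper7.U62MB
open Cfsg.Agent.Lib.Helper7.M12Mult Cfsg.Agent.Lib.Helper6.U62Sub
open scoped IsMulCommutative

/-! ### the data of the certificate -/

/-- the words that define the central elements -/
def axI : ℕ → ℕ
  | 0 => 52
  | 1 => 355
  | 2 => 53
  | 3 => 898
  | 4 => 915
  | 5 => 1052
  | 6 => 1070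
  | 7 => 1040
  | 8 => 1073
  | 9 => 1074
  | _ => 0

theorem axI_lt : ∀ j, axI j < 1113
  | 0 => by decide
  | 1 => by decide
  | 2 => by decide
  | 3 => by decide
  | 4 => by decide
  | 5 => by decide
  | 6 => by decide
  | 7 => by decide
  | 8 => by decide
  | 9 => by decide
  | _ + 10 => by
    show (0 : ℕ) < 1113
    decide

/-- the word of which a power is the trivial word that is not a word in the letters of the subgroup -/
def yW : List ℕ := [8]

theorem chk_wT : ∀ i, i < 1113 → cert.wT i = 0 →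
    (((cert.W i).all fun x => Nat.blt x 8) = true ∧
      ∀ l, l < 10 → ((fld (cert.rhs i) l : ℤ) - ((cert.W i).length : ℤ) * (cert.B : ℤ)) = 0) ∨
    i = 0 ∨ ∃ j, j < 10 ∧ i = axI j := by decide +kernel

theorem chk_W3 : cert.W 0 = wpow 2 yW := by decide +kernel

theorem chk_yW : expsumL 8 9 (wpow 2 yW) = 2 := by decide

theorem chk_len : ∀ i, i < 1113 → (cert.W i).length ≤ 255 := by decide +kernel

theorem chk_ax : ∀ j, j < 10 → ∀ l, l < 10 →
    ((fld (cert.rhs (axI j)) l : ℤ) - ((cert.W (axI j)).length : ℤ) * (cert.B : ℤ)) = if l = j then 1 else 0 := by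
  decide +kernel

theorem chk_ex : ∀ l, l < 10 →
    ((fld (cert.rhs 0) l : ℤ) - ((cert.W 0).length : ℤ) * (cert.B : ℤ)) = 0 := by
  decide +kernel

/-- the relations between the central elements that the traced words give -/
def relL : List (List ℤ) := [[2, (-56), 43, 14, 0, 1, 0, 4, (-6), 0],
    [18, 14, 8, (-12), 4, (-2), (-4), 2, 4, 0],
    [(-6), (-13), (-13), (-6), 3, (-5), 14, (-14), 2, 0],
    [(-42), (-76), (-4), 92, 34, 6, (-26), 2, 4, 2],
    [0, (-2), 0, 0, 0, 0, 0, 0, 0, 0],
    [(-2), (-2), (-2), 12, 2, 0, 0, 0, 0, 0],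
    [(-4), 0, 2, 0, 2, 0, 0, 0, 0, 0],
    [17, (-4), 21, 2, 21, (-3), 16, 12, (-2), 0],
    [(-10), (-12), 14, 2, (-5), (-14), (-4), (-10), (-12), 0],
    [21, (-18), 48, (-36), (-8), 16, 2, (-6), 10, 0],
    [6, (-8), 32, (-15), (-2), (-20), 14, (-10), 2, 0],
    [2, (-7), (-22), 16, 2, (-10), 6, 16, (-4), 2]]

/-- the combinations of the relations that give the powers of the central elements -/
def lamL : List (List ℤ) := [[704440869075128588682847898688948774, (-334648091999343903768138908152477494), 347447836216856285254306882988812860, 329827777265598796583559432979077512, (-23251698953092860999069692618146656008), (-4408124941776568215751544185329203644), (-4255509453294739684615367618215001232), (-9820847248485395776269468704690290), (-625690621759299588942094562594570454), (-574698001653482609452188564191912320), 225385276407952219828382874154126988, (-329827777265598796583559432979077512)],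
    [(-1568907162286386908739417943473020), 745317047082414187183592958235738, (-773824209656122325382086033145044), (-734581403194835110612132327037006), 51785406872728886668146404461821258, 9817628557648229769499846875185152, 9477728441873657707673214942270424, 21872662794392797905669074540844, 1393517243175303028028637689096520, 1279948183769647231711738291967544, (-501970555590551525236020656315224), 734581403194835110612132327037006],
    [24149953308658376242185979786690, (-11472553838658459802413645588756), 11911360328721328576710172547132, 11307301677883319980754917910124, (-797125023142696968514969811436999), (-151121288096762904621432394075773), (-145889256448949503704793191644526), (-336682627193076589666604289142), (-21450202514500887492069042330312), (-19702050968071660875189801195720), 7726757689197342665523534057540, (-11307301677883319980754917910124)],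
    [415815684869105056684999287902, (-197535281772537128206506845886), 205090684421083136078657362064, 194689957827990273184072041132, (-13724957691969777448227397378538), (-2602017532088873821840690846308), (-2511932023637295683914157276824), (-5797026413281961924788258886), (-369331175723241570243989307554), (-339231372910254824030631512210), 133039886217887934417499485726, (-194689957827990273184072041132)],
    [4076452342053597721582541404, (-1936538690870594385498840770), 2010608140250597079314366128, 1908644535167207650351643536, (-134552730846670712794793262094), (-25508899372295679495080773872), (-24625745380574262676395789390), (-56831194106611771832205900), (-3620741090477031072498671010), (-3325657436499485110931983020), 1304257572511181602860048620, (-1908644535167207650351643536)],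
    [(-1678819143008114865757544), 797531272933174912744862, (-828035544563779961027698), (-786043528531064858271358), 55413305819641357374219557, 10505416227116682801271259, 10141703934388387094343362, 23404982710560865716876, 1491142038350609221570312, 1369616739998483083167034, (-537136803380854249345648), 786043528531064858271358],
    [5828972147586533868429, (-2769081825232820766145), 2874994692892057017145, 2729195609712005159485, (-192398697366308842886108), (-36475506514027615390368), (-35212673151138192959415), (-81263662558763317812), (-5177344710322438123307), (-4755400761046025241808), 1864974842221899633878, (-2729195609712005159485)],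
    [68644008220476464, (-32609672985511873), 33856939840486482, 32139959005624664, (-2265754137989866443), (-429548281515061737), (-414676715559961836), (-956989222022520), (-60970216336127688), (-56001257283080436), 21962593946081532, (-32139959005624664)],
    [(-4511897461432), 2143399031841, (-2225380552189), (-2112525232825), 148925603391208, 28233750492911, 27256258321055, 62901881073, 4007507303862, 3680902923981, (-1443577880148), 2112525232825],
    [832477, (-395472), 410599, 389776, (-27477844), (-5209327), (-5028972), (-11606), (-739413), (-679152), 266350, (-389775)]]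

theorem chk_rel_0 : ∀ l, l < 10 → ((fld (cert.rhs 275) l : ℤ) - (fld 31385538617284485585946564315607673417106443069440309350398 l : ℤ)) = (relL.getD 0 []).getD l 0 := by
  decide +kernel

theorem chk_rel_1 : ∀ l, l < 10 → ((fld (cert.rhs 129) l : ℤ) - (fld 31385538602669472000236001865684804410411397925743315931118 l : ℤ)) = (relL.getD 1 []).getD l 0 := by
  decide +kernel

theorem chk_rel_2 : ∀ l, l < 10 → ((fld (cert.rhs 241) l : ℤ) - (fld 31385538605592497575619080132594140135453558399513056530438 l : ℤ)) = (relL.getD 2 []).getD l 0 := by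
  decide +kernel

theorem chk_rel_3 : ∀ l, l < 10 → ((fld (cert.rhs 775) l : ℤ) - (fld 37659581333290836489978017465458330952524253423577438642218 l : ℤ)) = (relL.getD 3 []).getD l 0 := by
  decide +kernel

theorem chk_rel_4 : ∀ l, l < 10 → ((fld (cert.rhs 429) l : ℤ) - (fld 31385538608515481337147446440309000404982683463435233021952 l : ℤ)) = (relL.getD 4 []).getD l 0 := by
  decide +kernel

theorem chk_rel_5 : ∀ l, l < 10 → ((fld (cert.rhs 964) l : ℤ) - (fld 25108430886812385069717957152247197906120672485633578516482 l : ℤ)) = (relL.getD 5 []).getD l 0 := by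
  decide +kernel

theorem chk_rel_6 : ∀ l, l < 10 → ((fld (cert.rhs 796) l : ℤ) - (fld 37662646330218577604576935728370798068127580924664905490434 l : ℤ)) = (relL.getD 6 []).getD l 0 := by
  decide +kernel

theorem chk_rel_7 : ∀ l, l < 10 → ((fld (cert.rhs 1096) l : ℤ) - (fld 25108430889735371618799596446557581596903717842002921930735 l : ℤ)) = (relL.getD 7 []).getD l 0 := by
  decide +kernel

theorem chk_rel_8 : ∀ l, l < 10 → ((fld (cert.rhs 4) l : ℤ) - (fld 18831323182647322388230368893999335806722545783096746192906 l : ℤ)) = (relL.getD 8 []).getD l 0 := by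
  decide +kernel

theorem chk_rel_9 : ∀ l, l < 10 → ((fld (cert.rhs 910) l : ℤ) - (fld 37662646315603569594044697519043660470761326203053409329130 l : ℤ)) = (relL.getD 9 []).getD l 0 := by
  decide +kernel

theorem chk_rel_10 : ∀ l, l < 10 → ((fld (cert.rhs 468) l : ℤ) - (fld 37662646327295588267862269807014919880583442269769580961785 l : ℤ)) = (relL.getD 10 []).getD l 0 := by
  decide +kernel

theorem chk_rel_11 : ∀ l, l < 10 → ((fld (cert.rhs 209) l : ℤ) - (fld 31382473623279733808001167533148091670937090638915642085374 l : ℤ)) = (relL.getD 11 []).getD l 0 := by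
  decide +kernel

theorem chk_lam : ∀ j, j < 10 → ∀ l, l < 10 →
    ((2 : ℕ) : ℤ) * ((if l = j then 1 else 0) - dotL (([] : List (List ℤ)).getD j []) [] l) =
      dotL (lamL.getD j []) relL l := by
  decide +kernel

theorem chk_mu : ∀ t, t < ([] : List (List ℤ)).length → ∀ l, l < 10 →
    ((2 : ℕ) : ℤ) * (([] : List ℤ).getD t 0 * (([] : List (List ℤ)).getD t []).getD l 0) =
      dotL (([] : List (List ℤ)).getD t []) relL l := by
  intro t ht
  exact absurd ht (Nat.not_lt_zero t)

section upper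

variable {Γ : Type*} [Group Γ] [Finite Γ] (σ : Γ →* ↥L) (hsurj : Function.Surjective σ)
  (hcen : σ.ker ≤ Subgroup.center Γ) (hder : σ.ker ≤ commutator Γ)
  (hcop : (Nat.card ↥σ.ker).Coprime 2)

/-! ### the letters in the extension -/

/-- the letters in the extension -/
def gU (l0 l1 l2 l3 l4 : Γ) : ℕ → Γ
  | 0 => l0
  | 1 => l0⁻¹
  | 2 => l1
  | 3 => l1⁻¹
  | 4 => l2
  | 5 => l2⁻¹
  | 6 => l3
  | 7 => l3⁻¹
  | 8 => l4
  | 9 => l4⁻¹
  | _ => 1

omit [Finite Γ] in
theorem map_gU (l0 l1 l2 l3 l4 : Γ) (h0 : σ l0 = lY 0) (h1 : σ l1 = lY 2) (h2 : σ l2 = lY 4) (h3 : σ l3 = lY 6) (h4 : σ l4 = lY 8) : ∀ x, σ (gU l0 l1 l2 l3 l4 x) = lY x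
  | 0 => h0
  | 1 => by
    show σ l0⁻¹ = lY 1
    rw [map_inv, h0]
    exact (lY_iv (x := 0) (by norm_num)).symm
  | 2 => h1
  | 3 => by
    show σ l1⁻¹ = lY 3
    rw [map_inv, h1]
    exact (lY_iv (x := 2) (by norm_num)).symm
  | 4 => h2
  | 5 => by
    show σ l2⁻¹ = lY 5
    rw [map_inv, h2]
    exact (lY_iv (x := 4) (by norm_num)).symm
  | 6 => h3
  | 7 => by
    show σ l3⁻¹ = lY 7
    rw [map_inv, h3]
    exact (lY_iv (x := 6) (by norm_num)).symm
  | 8 => h4
  | 9 => by
    show σ l4⁻¹ = lY 9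
    rw [map_inv, h4]
    exact (lY_iv (x := 8) (by norm_num)).symm
  | x + 10 => by
    show σ 1 = lY (x + 10)
    rw [map_one, lY_of_ge (by omega)]

omit [Finite Γ] in
theorem map_wd_gU (l0 l1 l2 l3 l4 : Γ) (h0 : σ l0 = lY 0) (h1 : σ l1 = lY 2) (h2 : σ l2 = lY 4) (h3 : σ l3 = lY 6) (h4 : σ l4 = lY 8) :
    ∀ w : List ℕ, σ (VCert.wd (gU l0 l1 l2 l3 l4) w) = VCert.wd lY w
  | [] => map_one σ
  | x :: w => by
    rw [VCert.wd_cons, VCert.wd_cons, map_mul, map_gU σ l0 l1 l2 l3 l4 h0 h1 h2 h3 h4 x, map_wd_gU l0 l1 l2 l3 l4 h0 h1 h2 h3 h4 w]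

include hsurj hcen hcop in
/-- **lifts of the generators: the first ones in a subgroup that meets the kernel trivially, the last one such that
the given word is trivial** -/
theorem exists_lifts : ∃ (H : Subgroup Γ) (l0 l1 l2 l3 l4 : Γ), (∀ u, u ∈ H → u ∈ σ.ker → u = 1) ∧ Nat.card ↥H ≤ 1024 ∧
    l0 ∈ H ∧ l1 ∈ H ∧ l2 ∈ H ∧ l3 ∈ H ∧ σ l0 = lY 0 ∧ σ l1 = lY 2 ∧ σ l2 = lY 4 ∧ σ l3 = lY 6 ∧ σ l4 = lY 8 ∧
    VCert.wd (gU l0 l1 l2 l3 l4) (wpow 2 yW) = 1 := by
  have copQ : (Nat.card ↥σ.ker).Coprime (Nat.card ↥QY) := by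
    rw [card_QY]
    exact Nat.Coprime.pow_right _ hcop |>.coprime_dvd_right (by norm_num : 1024 ∣ 2 ^ 10)
  obtain ⟨H, hHK, hHQ, hHc⟩ := Cfsg.Agent.Lib.Helper7.SZL.exists_lift_of_coprime σ hsurj QY copQ
  rw [card_QY] at hHc
  obtain ⟨l0, m0, h0⟩ := hHQ (lY 0) (lY_mem_QY (by norm_num))
  obtain ⟨l1, m1, h1⟩ := hHQ (lY 2) (lY_mem_QY (by norm_num))
  obtain ⟨l2, m2, h2⟩ := hHQ (lY 4) (lY_mem_QY (by norm_num))
  obtain ⟨l3, m3, h3⟩ := hHQ (lY 6) (lY_mem_QY (by norm_num))
  obtain ⟨t0, ht0⟩ := hsurj (lY 8)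
  have cop : (Nat.card ↥σ.ker).Coprime 2 := hcop.coprime_dvd_right (by norm_num : 2 ∣ 2)
  have hk2 : VCert.wd (gU l0 l1 l2 l3 t0) (wpow 2 yW) ∈ σ.ker := by
    rw [MonoidHom.mem_ker, map_wd_gU σ l0 l1 l2 l3 t0 h0 h1 h2 h3 ht0, ← chk_W3]
    exact wd_lY_W (by norm_num)
  obtain ⟨w, hw, hwr⟩ := exists_root σ.ker 2 cop _ (Subgroup.inv_mem _ hk2)
  have hwc : ∀ x : Γ, w⁻¹ * x = x * w⁻¹ := fun x =>
    (Subgroup.mem_center_iff.1 (Subgroup.inv_mem _ (hcen hw)) x).symm
  refine ⟨H, l0, l1, l2, l3, t0 * w, hHK, hHc, m0, m1, m2, m3, h0, h1, h2, h3, ?_, ?_⟩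
  · rw [map_mul, MonoidHom.mem_ker.1 hw, mul_one, ht0]
  · rw [wd_central_mul_at 8 9 (by norm_num) (gU l0 l1 l2 l3 t0) (gU l0 l1 l2 l3 (t0 * w)) w (hcen hw) rfl (by
        show (t0 * w)⁻¹ = t0⁻¹ * w⁻¹
        rw [mul_inv_rev, hwc]) (by
        intro x h0 h1
        match x, h0, h1 with
        | 0, _, _ => rfl
        | 1, _, _ => rfl
        | 2, _, _ => rfl
        | 3, _, _ => rfl
        | 4, _, _ => rfl
        | 5, _, _ => rfl
        | 6, _, _ => rfl
        | 7, _, _ => rfl
        | 8, h0, _ => exact absurd rfl h0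
        | 9, _, h1 => exact absurd rfl h1
        | _ + 10, _, _ => rfl), chk_yW]
    show _ * w ^ ((2 : ℕ) : ℤ) = 1
    rw [zpow_natCast, hwr, mul_inv_cancel]

variable (H : Subgroup Γ) (hHK : ∀ u, u ∈ H → u ∈ σ.ker → u = 1) (hHc : Nat.card ↥H ≤ 1024)
  (l0 l1 l2 l3 l4 : Γ) (m0 : l0 ∈ H) (m1 : l1 ∈ H) (m2 : l2 ∈ H) (m3 : l3 ∈ H) (h0 : σ l0 = lY 0) (h1 : σ l1 = lY 2) (h2 : σ l2 = lY 4) (h3 : σ l3 = lY 6) (h4 : σ l4 = lY 8)
  (hy : VCert.wd (gU l0 l1 l2 l3 l4) (wpow 2 yW) = 1)

include h0 h1 h2 h3 h4 in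
omit [Finite Γ] in
theorem wd_gU_mem_ker {i : ℕ} (hi : i < 1113) : VCert.wd (gU l0 l1 l2 l3 l4) (cert.W i) ∈ σ.ker := by
  rw [MonoidHom.mem_ker, map_wd_gU σ l0 l1 l2 l3 l4 h0 h1 h2 h3 h4, wd_lY_W hi]

omit [Finite Γ] in
theorem gU_iv : ∀ x, x < 10 → gU l0 l1 l2 l3 l4 (Nat.xor x 1) = (gU l0 l1 l2 l3 l4 x)⁻¹
  | 0, _ => rfl
  | 1, _ => (inv_inv l0).symm
  | 2, _ => rfl
  | 3, _ => (inv_inv l1).symm
  | 4, _ => rfl
  | 5, _ => (inv_inv l2).symm
  | 6, _ => rfl
  | 7, _ => (inv_inv l3).symm
  | 8, _ => rfl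
  | 9, _ => (inv_inv l4).symm
  | x + 10, h => absurd h (by omega)

include m0 m1 m2 m3 in
omit [Finite Γ] in
theorem gU_mem_H : ∀ x, x < 8 → gU l0 l1 l2 l3 l4 x ∈ H
  | 0, _ => m0
  | 1, _ => Subgroup.inv_mem _ m0
  | 2, _ => m1
  | 3, _ => Subgroup.inv_mem _ m1
  | 4, _ => m2
  | 5, _ => Subgroup.inv_mem _ m2
  | 6, _ => m3
  | 7, _ => Subgroup.inv_mem _ m3
  | x + 8, h => absurd h (by omega)

/-- the central elements: the values of the given words -/
noncomputable def zU (j : ℕ) : Subgroup.center Γ :=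
  ⟨VCert.wd (gU l0 l1 l2 l3 l4) (cert.W (axI j)), hcen (wd_gU_mem_ker σ l0 l1 l2 l3 l4 h0 h1 h2 h3 h4 (axI_lt j))⟩

include hHK m0 m1 m2 m3 hy in
omit [Finite Γ] in
theorem hW0_U : ∀ i, i < cert.nW → cert.wT i = 0 →
    VCert.wd (gU l0 l1 l2 l3 l4) (cert.W i) = (cert.ek (zU σ hcen l0 l1 l2 l3 l4 h0 h1 h2 h3 h4) i : Γ) := by
  intro i hi hT
  rcases chk_wT i hi hT with ⟨hall4, hz0⟩ | rfl | ⟨j, hj, rfl⟩
  · rw [VCert.ek, cert.kap_one _ hz0]
    apply hHK _ _ (wd_gU_mem_ker σ l0 l1 l2 l3 l4 h0 h1 h2 h3 h4 hi)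
    apply wd_mem_of_list
    intro x hx
    exact gU_mem_H H l0 l1 l2 l3 l4 m0 m1 m2 m3 x (by simpa [Nat.blt] using List.all_eq_true.1 hall4 x hx)
  · rw [VCert.ek, cert.kap_one _ chk_ex, chk_W3]
    exact hy
  · rw [VCert.ek, cert.kap_unit _ hj (chk_ax j hj)]
    rfl

include hcen hder h0 h1 h2 h3 h4 in
omit [Finite Γ] in
theorem hgen_U : ∀ y : Γ, ∃ u : List ℕ, (∀ x ∈ u, x < cert.g) ∧ y = (u.map (gU l0 l1 l2 l3 l4)).prod := by
  apply MG.exists_word_of_closure (gU l0 l1 l2 l3 l4) 10 (fun x => Nat.xor x 1)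
  · intro x hx
    exact ⟨xor_lt_Y x hx, gU_iv l0 l1 l2 l3 l4 x hx⟩
  · apply Cfsg.Agent.Lib.Helper7.M12Mult.closure_eq_top_of_stem (σ := σ) hcen hder
    intro y
    have hg : y ∈ Subgroup.closure (lY '' Set.Iio 10) := by rw [closure_lY]; exact Subgroup.mem_top y
    induction hg using Subgroup.closure_induction with
    | mem y hy =>
      obtain ⟨x, hx, rfl⟩ := hy
      exact ⟨gU l0 l1 l2 l3 l4 x, Subgroup.subset_closure ⟨x, hx, rfl⟩, map_gU σ l0 l1 l2 l3 l4 h0 h1 h2 h3 h4 x⟩
    | one => exact ⟨1, one_mem _, map_one σ⟩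
    | mul p q _ _ ihp ihq =>
      obtain ⟨p', hp', rfl⟩ := ihp
      obtain ⟨q', hq', rfl⟩ := ihq
      exact ⟨p' * q', mul_mem hp' hq', map_mul σ p' q'⟩
    | inv p _ ihp =>
      obtain ⟨p', hp', rfl⟩ := ihp
      exact ⟨p'⁻¹, inv_mem hp', map_inv σ p'⟩

include m0 m1 m2 m3 in
omit [Finite Γ] in
theorem hsub_U : ∀ x, cert.sub x = true → gU l0 l1 l2 l3 l4 x ∈ H := fun x hx =>
  gU_mem_H H l0 l1 l2 l3 l4 m0 m1 m2 m3 x (lt_of_subY hx)

include hsurj hder hHK hHc m0 m1 m2 m3 hy in
/-- **the kernel is generated by the central elements** -/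
theorem ker_eq_Zc_U : σ.ker = Zc (zU σ hcen l0 l1 l2 l3 l4 h0 h1 h2 h3 h4) 10 := by
  refine ker_eq_Zc_of_sub σ cert (gU l0 l1 l2 l3 l4) (zU σ hcen l0 l1 l2 l3 l4 h0 h1 h2 h3 h4) H 1024 hsurj
    (by rw [card_L]; rfl) (by decide) (by norm_num) hHK hHc
    (hsub_U H l0 l1 l2 l3 l4 m0 m1 m2 m3) ?_ (hgen_U σ hcen hder l0 l1 l2 l3 l4 h0 h1 h2 h3 h4) (by decide) (by decide) (gU_iv l0 l1 l2 l3 l4) ?_
    (hW0_U σ hcen H hHK l0 l1 l2 l3 l4 m0 m1 m2 m3 h0 h1 h2 h3 h4 hy) cert_all cert_wall
  · intro j _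
    exact wd_gU_mem_ker σ l0 l1 l2 l3 l4 h0 h1 h2 h3 h4 (axI_lt j)
  · intro i hi
    exact wd_gU_mem_ker σ l0 l1 l2 l3 l4 h0 h1 h2 h3 h4 hi

include hHK m0 m1 m2 m3 hy in
omit [Finite Γ] in
/-- the relations between the central elements -/
theorem rel_U : ∀ r ∈ relL, zprod (zU σ hcen l0 l1 l2 l3 l4 h0 h1 h2 h3 h4) 10 (fun l => r.getD l 0) = 1 := by
  have hKn : ∀ u, u ∈ σ.ker → ∀ g : Γ, g * u * g⁻¹ ∈ σ.ker := fun u hu g =>
    (inferInstance : σ.ker.Normal).conj_mem u hu g
  have key : ∀ {i v row : ℕ}, i < 1113 → cert.scan 4095 (cert.W i) row 0 = some (row, v) →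
      cert.ek (zU σ hcen l0 l1 l2 l3 l4 h0 h1 h2 h3 h4) i = cert.kap (zU σ hcen l0 l1 l2 l3 l4 h0 h1 h2 h3 h4) v (cert.W i).length := by
    intro i v row hi h
    exact cert.close_spec (γ := gU l0 l1 l2 l3 l4) (H := H) σ.ker hKn
      (fun j _ => wd_gU_mem_ker σ l0 l1 l2 l3 l4 h0 h1 h2 h3 h4 (axI_lt j)) hHK (by decide) (by decide)
      (gU_iv l0 l1 l2 l3 l4) (hsub_U H l0 l1 l2 l3 l4 m0 m1 m2 m3)
      (fun i hi => wd_gU_mem_ker σ l0 l1 l2 l3 l4 h0 h1 h2 h3 h4 hi) (hW0_U σ hcen H hHK l0 l1 l2 l3 l4 m0 m1 m2 m3 h0 h1 h2 h3 h4 hy)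
      cert_all cert_wall hi (chk_len i hi) h
  intro r hr
  simp only [relL, List.mem_cons, List.not_mem_nil, or_false] at hr
  rcases hr with rfl | rfl | rfl | rfl | rfl | rfl | rfl | rfl | rfl | rfl | rfl | rfl
  · exact cert.rel_of_close _ (key (by norm_num) close_0) _ chk_rel_0
  · exact cert.rel_of_close _ (key (by norm_num) close_1) _ chk_rel_1
  · exact cert.rel_of_close _ (key (by norm_num) close_2) _ chk_rel_2
  · exact cert.rel_of_close _ (key (by norm_num) close_3) _ chk_rel_3
  · exact cert.rel_of_close _ (key (by norm_num) close_4) _ chk_rel_4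
  · exact cert.rel_of_close _ (key (by norm_num) close_5) _ chk_rel_5
  · exact cert.rel_of_close _ (key (by norm_num) close_6) _ chk_rel_6
  · exact cert.rel_of_close _ (key (by norm_num) close_7) _ chk_rel_7
  · exact cert.rel_of_close _ (key (by norm_num) close_8) _ chk_rel_8
  · exact cert.rel_of_close _ (key (by norm_num) close_9) _ chk_rel_9
  · exact cert.rel_of_close _ (key (by norm_num) close_10) _ chk_rel_10
  · exact cert.rel_of_close _ (key (by norm_num) close_11) _ chk_rel_11

include hsurj hcen hder hcop hHK hHc m0 m1 m2 m3 h0 h1 h2 h3 h4 hy in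
/-- **the kernel is trivial** -/
theorem ker_eq_bot_U : σ.ker = ⊥ := by
  have copq : (Nat.card ↥σ.ker).Coprime 2 := hcop.coprime_dvd_right (by norm_num : 2 ∣ 2)
  have hK := ker_eq_Zc_U σ hsurj hcen hder H hHK hHc l0 l1 l2 l3 l4 m0 m1 m2 m3 h0 h1 h2 h3 h4 hy
  set S : Subgroup (Subgroup.center Γ) := σ.ker.comap (Subgroup.center Γ).subtype with hS
  have hzS : ∀ j, j < 10 → zU σ hcen l0 l1 l2 l3 l4 h0 h1 h2 h3 h4 j ∈ S :=
    fun j _ => wd_gU_mem_ker σ l0 l1 l2 l3 l4 h0 h1 h2 h3 h4 (axI_lt j)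
  have hq : ∀ u, u ∈ S → u ^ 2 = 1 → u = 1 := by
    intro u hu huq
    have h1 : (⟨(u : Γ), hu⟩ : ↥σ.ker) ^ 2 = 1 := by
      apply Subtype.ext
      rw [Subgroup.coe_pow, Subgroup.coe_one]
      show (u : Γ) ^ 2 = 1
      rw [← Subgroup.coe_pow, huq, Subgroup.coe_one]
    have h2 := eq_one_of_pow_of_coprime 2 copq _ h1
    apply Subtype.ext
    have h3 : ((⟨(u : Γ), hu⟩ : ↥σ.ker) : Γ) = ((1 : ↥σ.ker) : Γ) := congrArg Subtype.val h2
    exact h3
  obtain ⟨hz, _⟩ := abelian_of_relations_q (zU σ hcen l0 l1 l2 l3 l4 h0 h1 h2 h3 h4) 10 relL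
    (rel_U σ hcen H hHK l0 l1 l2 l3 l4 m0 m1 m2 m3 h0 h1 h2 h3 h4 hy) S hzS 2 hq [] [] [] lamL [] chk_lam chk_mu
  rw [hK]
  apply Zc_eq_bot_of_triv
  intro j hj
  rw [hz j hj]
  rfl

end upper

/-- **a finite stem extension of `L` whose kernel has order odd is an isomorphism** -/
theorem ker_eq_bot_of_stem {Γ : Type*} [Group Γ] [Finite Γ] (σ : Γ →* ↥L) (hsurj : Function.Surjective σ)
    (hcen : σ.ker ≤ Subgroup.center Γ) (hder : σ.ker ≤ commutator Γ)
    (hcop : (Nat.card ↥σ.ker).Coprime 2) : σ.ker = ⊥ := by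
  obtain ⟨H, l0, l1, l2, l3, l4, hHK, hHc, m0, m1, m2, m3, h0, h1, h2, h3, h4, hy⟩ :=
    exists_lifts σ hsurj hcen hcop
  exact ker_eq_bot_U σ hsurj hcen hder hcop H hHK hHc l0 l1 l2 l3 l4 m0 m1 m2 m3 h0 h1 h2 h3 h4 hy

end Cfsg.Agent.Lib.Helper7.U62MY
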