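import Cfsg.Agent.Lib.Helper7.U62MXU
import Cfsg.Agent.Lib.Helper7.U62MYU
import Cfsg.Agent.Lib.Lead.StemQ.Mul

/-!
# The multiplier of the unitary group of degree six over the field of four elements: every finite stem extension of
the subgroup `L` is an isomorphism

Let a finite stem extension of `L` be given.  Its quotient by the elements of the kernel of order a power of two is a
stem extension with a kernel of odd order, hence an isomorphism by the table over a Sylow 2-subgroup.  So the kernel
is a 2-group; its order is prime to fifteen, and the extension is an isomorphism by the table over the subgroup of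
order 405.
-/

set_option autoImplicit false

namespace Cfsg.Agent.Lib.Helper7.U62MB

open Cfsg Cfsg.Agent.Lib.Lead.StemQ

universe u

/-- **every finite stem extension of `L` is an isomorphism** -/
theorem ker_eq_bot_of_stem_L {Γ : Type u} [Group Γ] [Finite Γ] (σ : Γ →* ↥L) (hsurj : Function.Surjective σ)
    (hcen : σ.ker ≤ Subgroup.center Γ) (hder : σ.ker ≤ commutator Γ) : σ.ker = ⊥ := by
  have hσ : IsStemExtension σ := ⟨hsurj, hcen, hder⟩
  -- the quotient by the 2-part of the kernel
  have hq := stem_quot σ hσ (primPart σ hσ 2) (primPart_le σ hσ 2)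
  have hcq := coprime_card_ker_quot σ hσ 2
  have hb := Cfsg.Agent.Lib.Helper7.U62MY.ker_eq_bot_of_stem
    (quotMap σ (primPart σ hσ 2) (primPart_le σ hσ 2)) hq.1 hq.2.1 hq.2.2 hcq
  -- the kernel is a 2-group
  have h2 : ∀ x, x ∈ σ.ker → ∃ k : ℕ, x ^ (2 ^ k) = 1 := by
    intro x hx
    have h1 : (QuotientGroup.mk x : Γ ⧸ primPart σ hσ 2) ∈
        (quotMap σ (primPart σ hσ 2) (primPart_le σ hσ 2)).ker :=
      (mem_ker_quotMap σ _ _ x).2 hx
    rw [hb, Subgroup.mem_bot, QuotientGroup.eq_one_iff] at h1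
    exact h1.2
  -- its order is prime to fifteen
  have hcop : (Nat.card ↥σ.ker).Coprime 15 := by
    apply Nat.coprime_of_dvd
    intro p hp hpc hpd
    have : Fact p.Prime := ⟨hp⟩
    obtain ⟨g, hg⟩ := exists_prime_orderOf_dvd_card' p hpc
    obtain ⟨k, hk⟩ := h2 g.1 g.2
    have h3 : g ^ (2 ^ k) = 1 := by
      apply Subtype.ext
      rw [Subgroup.coe_pow, hk]
      rfl
    have h4 : p ∣ 2 ^ k := by
      rw [← hg]
      exact orderOf_dvd_of_pow_eq_one h3
    have h5 : p ∣ 2 := hp.dvd_of_dvd_pow h4
    have h6 : p = 2 := (Nat.prime_dvd_prime_iff_eq hp Nat.prime_two).1 h5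
    rw [h6] at hpd
    exact absurd hpd (by norm_num)
  exact Cfsg.Agent.Lib.Helper7.U62MX.ker_eq_bot_of_stem σ hsurj hcen hder hcop

theorem MF_L : Cfsg.Agent.Lib.Helper7.M12Mult.MF.{u} ↥L := fun _ _ _ τ hs hc hd =>
  ker_eq_bot_of_stem_L τ hs hc hd

end Cfsg.Agent.Lib.Helper7.U62MB
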