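import Cfsg.Agent.Lib.Helper7.U62MTT0
import Cfsg.Agent.Lib.Helper7.U62MTR
import Cfsg.Agent.Lib.Helper7.MGenC

/-! # The multiplier of the unitary group of degree six over the field of four elements, the table of the group over the unitary subgroup of degree five: the certificate of the enumeration of the cosets (generated) -/

set_option autoImplicit false

namespace Cfsg.Agent.Lib.Helper7.U62MT

open Cfsg.Agent.Lib.Helper7.MG Cfsg.Agent.Lib.Helper7.HSMult

/-- the part of the table that contains a row -/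
noncomputable def rowSel (a : ℕ) : ℕ := (cond (Nat.beq (Nat.land a 1) 0) (cond (Nat.beq (Nat.land a 2) 0) (cond (Nat.beq (Nat.land a 4) 0) (cond (Nat.beq (Nat.land a 8) 0) (cond (Nat.beq (Nat.land a 16) 0) (cond (Nat.beq (Nat.land a 32) 0) rl0 rl32) (cond (Nat.beq (Nat.land a 32) 0) rl16 rl48)) (cond (Nat.beq (Nat.land a 16) 0) (cond (Nat.beq (Nat.land a 32) 0) rl8 rl40) (cond (Nat.beq (Nat.land a 32) 0) rl24 rl56))) (cond (Nat.beq (Nat.land a 8) 0) (cond (Nat.beq (Nat.land a 16) 0) (cond (Nat.beq (Nat.land a 32) 0) rl4 rl36) (cond (Nat.beq (Nat.land a 32) 0) rl20 rl52)) (cond (Nat.beq (Nat.land a 16) 0) (cond (Nat.beq (Nat.land a 32) 0) rl12 rl44) (cond (Nat.beq (Nat.land a 32) 0) rl28 rl60)))) (cond (Nat.beq (Nat.land a 4) 0) (cond (Nat.beq (Nat.land a 8) 0) (cond (Nat.beq (Nat.land a 16) 0) (cond (Nat.beq (Nat.land a 32) 0) rl2 rl34) (cond (Nat.beq (Nat.land a 32) 0) rl18 rl50)) (cond (Nat.beq (Nat.land a 16) 0) (cond (Nat.beq (Nat.land a 32)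 0) rl10 rl42) (cond (Nat.beq (Nat.land a 32) 0) rl26 rl58))) (cond (Nat.beq (Nat.land a 8) 0) (cond (Nat.beq (Nat.land a 16) 0) (cond (Nat.beq (Nat.land a 32) 0) rl6 rl38) (cond (Nat.beq (Nat.land a 32) 0) rl22 rl54)) (cond (Nat.beq (Nat.land a 16) 0) (cond (Nat.beq (Nat.land a 32) 0) rl14 rl46) (cond (Nat.beq (Nat.land a 32) 0) rl30 rl62))))) (cond (Nat.beq (Nat.land a 2) 0) (cond (Nat.beq (Nat.land a 4) 0) (cond (Nat.beq (Nat.land a 8) 0) (cond (Nat.beq (Nat.land a 16) 0) (cond (Nat.beq (Nat.land a 32) 0) rl1 rl33) (cond (Nat.beq (Nat.land a 32) 0) rl17 rl49)) (cond (Nat.beq (Nat.land a 16) 0) (cond (Nat.beq (Nat.land a 32) 0) rl9 rl41) (cond (Nat.beq (Nat.land a 32) 0) rl25 rl57))) (cond (Nat.beq (Nat.land a 8) 0) (cond (Nat.beq (Nat.land a 16) 0) (cond (Nat.beq (Nat.land a 32) 0) rl5 rl37) (cond (Nat.beq (Nat.land a 32) 0) rl21 rl53)) (cond (Nat.beq (Nat.land a 16) 0) (cond (Nat.beq (Nat.land a 32) 0) rl13 rl45) (cond (Nat.beq (Nat.land a 32)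 0) rl29 rl61)))) (cond (Nat.beq (Nat.land a 4) 0) (cond (Nat.beq (Nat.land a 8) 0) (cond (Nat.beq (Nat.land a 16) 0) (cond (Nat.beq (Nat.land a 32) 0) rl3 rl35) (cond (Nat.beq (Nat.land a 32) 0) rl19 rl51)) (cond (Nat.beq (Nat.land a 16) 0) (cond (Nat.beq (Nat.land a 32) 0) rl11 rl43) (cond (Nat.beq (Nat.land a 32) 0) rl27 rl59))) (cond (Nat.beq (Nat.land a 8) 0) (cond (Nat.beq (Nat.land a 16) 0) (cond (Nat.beq (Nat.land a 32) 0) rl7 rl39) (cond (Nat.beq (Nat.land a 32) 0) rl23 rl55)) (cond (Nat.beq (Nat.land a 16) 0) (cond (Nat.beq (Nat.land a 32) 0) rl15 rl47) (cond (Nat.beq (Nat.land a 32) 0) rl31 rl63))))))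

/-- a row of the table -/
noncomputable def rowOf (a : ℕ) : ℕ :=
  strictN a fun a' => Nat.shiftRight (rowSel a') (Nat.mul 3300 (Nat.shiftRight a' 6))

/-- a word -/
noncomputable def wordOf (i : ℕ) : List ℕ :=
  strictN (Nat.land (Nat.shiftRight relP (Nat.mul 200 i)) 1606938044258990275541962092341162602522202993782792835301375) fun v =>
    unp (Nat.land v 255) (Nat.shiftRight v 8)

/-- the certificate -/
noncomputable def cert : VCert where
  n := 672
  g := 14
  k := 9
  nW := 1443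
  B := 2048
  iv := fun x => Nat.xor x 1
  sub := fun x => Nat.beq x 0 || Nat.beq x 1 || Nat.beq x 2 || Nat.beq x 3 || Nat.beq x 4 || Nat.beq x 5 || Nat.beq x 6 || Nat.beq x 7 || Nat.beq x 8 || Nat.beq x 9 || Nat.beq x 10 || Nat.beq x 11
  sl := fun a x => Nat.land (Nat.shiftRight (rowOf a) (Nat.mul 234 x)) 27606985387162255149739023449108101809804435888681546220650096895197183
  pr := fun a => Nat.land (Nat.shiftRight (rowOf a) 3276) 16777215
  W := wordOf
  rhs := fun i => Nat.land (Nat.shiftRight rhsP (Nat.mul 180 i)) 1532495540865888858358347027150309183618739122183602175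
  wT := fun i => Nat.land (Nat.shiftRight wtaP (Nat.mul 32 i)) 4095
  wA := fun i => Nat.land (Nat.shiftRight wtaP (Nat.add (Nat.mul 32 i) 12)) 1048575

/-- the check of the rows from `lo` to `lo + k` -/
noncomputable def rowsOK (lo k : ℕ) : Bool := allN k fun i => allN 14 fun x => cert.slotOK (Nat.add lo i) x

/-- the check of the words -/
noncomputable def wordsOK : Bool := allN 1443 fun i => cert.wordOK i

end Cfsg.Agent.Lib.Helper7.U62MT
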