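import Cfsg.Agent.Lib.Helper7.U62MXT0
import Cfsg.Agent.Lib.Helper7.U62MXT1
import Cfsg.Agent.Lib.Helper7.U62MXT2
import Cfsg.Agent.Lib.Helper7.U62MXT3
import Cfsg.Agent.Lib.Helper7.U62MXT4
import Cfsg.Agent.Lib.Helper7.U62MXT5
import Cfsg.Agent.Lib.Helper7.U62MXT6
import Cfsg.Agent.Lib.Helper7.U62MXT7
import Cfsg.Agent.Lib.Helper7.U62MXT8
import Cfsg.Agent.Lib.Helper7.U62MXT9
import Cfsg.Agent.Lib.Helper7.U62MXT10
import Cfsg.Agent.Lib.Helper7.U62MXT11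
import Cfsg.Agent.Lib.Helper7.U62MXT12
import Cfsg.Agent.Lib.Helper7.U62MXT13
import Cfsg.Agent.Lib.Helper7.U62MXT14
import Cfsg.Agent.Lib.Helper7.U62MXT15
import Cfsg.Agent.Lib.Helper7.U62MXR
import Cfsg.Agent.Lib.Helper7.MGenC

/-! # The multiplier of the unitary group of degree six over the field of four elements, the table of the unitary subgroup of degree five over a subgroup of order 405: the certificate of the enumeration of the cosets (generated) -/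

set_option autoImplicit false

namespace Cfsg.Agent.Lib.Helper7.U62MX

open Cfsg.Agent.Lib.Helper7.MG Cfsg.Agent.Lib.Helper7.HSMult

/-- the part of the table that contains a row -/
noncomputable def rowSel (a : ℕ) : ℕ := (cond (Nat.beq (Nat.land a 1) 0) (cond (Nat.beq (Nat.land a 2) 0) (cond (Nat.beq (Nat.land a 4) 0) (cond (Nat.beq (Nat.land a 8) 0) (cond (Nat.beq (Nat.land a 16) 0) (cond (Nat.beq (Nat.land a 32) 0) (cond (Nat.beq (Nat.land a 64) 0) (cond (Nat.beq (Nat.land a 128) 0) (cond (Nat.beq (Nat.land a 256) 0) (cond (Nat.beq (Nat.land a 512) 0) (cond (Nat.beq (Nat.land a 1024) 0) rl0 rl1024) (cond (Nat.beq (Nat.land a 1024) 0) rl512 rl1536)) (cond (Nat.beq (Nat.land a 512) 0) (cond (Nat.beq (Nat.land a 1024) 0) rl256 rl1280) (cond (Nat.beq (Nat.land a 1024) 0) rl768 rl1792))) (cond (Nat.beq (Nat.land a 256) 0) (cond (Nat.beq (Nat.land a 512) 0) (cond (Nat.beq (Nat.land a 1024) 0) rl128 rl1152)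 (cond (Nat.beq (Nat.land a 1024) 0) rl640 rl1664)) (cond (Nat.beq (Nat.land a 512) 0) (cond (Nat.beq (Nat.land a 1024) 0) rl384 rl1408) (cond (Nat.beq (Nat.land a 1024) 0) rl896 rl1920)))) (cond (Nat.beq (Nat.land a 128) 0) (cond (Nat.beq (Nat.land a 256) 0) (cond (Nat.beq (Nat.land a 512) 0) (cond (Nat.beq (Nat.land a 1024) 0) rl64 rl1088) (cond (Nat.beq (Nat.land a 1024) 0) rl576 rl1600)) (cond (Nat.beq (Nat.land a 512) 0) (cond (Nat.beq (Nat.land a 1024) 0) rl320 rl1344) (cond (Nat.beq (Nat.land a 1024) 0) rl832 rl1856))) (cond (Nat.beq (Nat.land a 256) 0) (cond (Nat.beq (Nat.land a 512) 0) (cond (Nat.beq (Nat.land a 1024) 0) rl192 rl1216) (cond (Nat.beq (Nat.land a 1024) 0) rl704 rl1728)) (cond (Nat.beq (Nat.land a 512) 0) (cond (Nat.beq (Nat.land a 1024) 0) rl448 rl1472) (cond (Nat.beq (Nat.land a 1024) 0) rl960 rl1984))))) (cond (Nat.beq (Nat.land a 64) 0) (cond (Nat.beq (Nat.land a 128) 0) (cond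 (Nat.beq (Nat.land a 256) 0) (cond (Nat.beq (Nat.land a 512) 0) (cond (Nat.beq (Nat.land a 1024) 0) rl32 rl1056) (cond (Nat.beq (Nat.land a 1024) 0) rl544 rl1568)) (cond (Nat.beq (Nat.land a 512) 0) (cond (Nat.beq (Nat.land a 1024) 0) rl288 rl1312) (cond (Nat.beq (Nat.land a 1024) 0) rl800 rl1824))) (cond (Nat.beq (Nat.land a 256) 0) (cond (Nat.beq (Nat.land a 512) 0) (cond (Nat.beq (Nat.land a 1024) 0) rl160 rl1184) (cond (Nat.beq (Nat.land a 1024) 0) rl672 rl1696)) (cond (Nat.beq (Nat.land a 512) 0) (cond (Nat.beq (Nat.land a 1024) 0) rl416 rl1440) (cond (Nat.beq (Nat.land a 1024) 0) rl928 rl1952)))) (cond (Nat.beq (Nat.land a 128) 0) (cond (Nat.beq (Nat.land a 256) 0) (cond (Nat.beq (Nat.land a 512) 0) (cond (Nat.beq (Nat.land a 1024) 0) rl96 rl1120) (cond (Nat.beq (Nat.land a 1024) 0) rl608 rl1632)) (cond (Nat.beq (Nat.land a 512) 0) (cond (Nat.beq (Nat.land a 1024) 0) rl352 rl1376) (cond (Nat.beq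 (Nat.land a 1024) 0) rl864 rl1888))) (cond (Nat.beq (Nat.land a 256) 0) (cond (Nat.beq (Nat.land a 512) 0) (cond (Nat.beq (Nat.land a 1024) 0) rl224 rl1248) (cond (Nat.beq (Nat.land a 1024) 0) rl736 rl1760)) (cond (Nat.beq (Nat.land a 512) 0) (cond (Nat.beq (Nat.land a 1024) 0) rl480 rl1504) (cond (Nat.beq (Nat.land a 1024) 0) rl992 rl2016)))))) (cond (Nat.beq (Nat.land a 32) 0) (cond (Nat.beq (Nat.land a 64) 0) (cond (Nat.beq (Nat.land a 128) 0) (cond (Nat.beq (Nat.land a 256) 0) (cond (Nat.beq (Nat.land a 512) 0) (cond (Nat.beq (Nat.land a 1024) 0) rl16 rl1040) (cond (Nat.beq (Nat.land a 1024) 0) rl528 rl1552)) (cond (Nat.beq (Nat.land a 512) 0) (cond (Nat.beq (Nat.land a 1024) 0) rl272 rl1296) (cond (Nat.beq (Nat.land a 1024) 0) rl784 rl1808))) (cond (Nat.beq (Nat.land a 256) 0) (cond (Nat.beq (Nat.land a 512) 0) (cond (Nat.beq (Nat.land a 1024) 0) rl144 rl1168) (cond (Nat.beq (Nat.land a 1024) 0)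 rl656 rl1680)) (cond (Nat.beq (Nat.land a 512) 0) (cond (Nat.beq (Nat.land a 1024) 0) rl400 rl1424) (cond (Nat.beq (Nat.land a 1024) 0) rl912 rl1936)))) (cond (Nat.beq (Nat.land a 128) 0) (cond (Nat.beq (Nat.land a 256) 0) (cond (Nat.beq (Nat.land a 512) 0) (cond (Nat.beq (Nat.land a 1024) 0) rl80 rl1104) (cond (Nat.beq (Nat.land a 1024) 0) rl592 rl1616)) (cond (Nat.beq (Nat.land a 512) 0) (cond (Nat.beq (Nat.land a 1024) 0) rl336 rl1360) (cond (Nat.beq (Nat.land a 1024) 0) rl848 rl1872))) (cond (Nat.beq (Nat.land a 256) 0) (cond (Nat.beq (Nat.land a 512) 0) (cond (Nat.beq (Nat.land a 1024) 0) rl208 rl1232) (cond (Nat.beq (Nat.land a 1024) 0) rl720 rl1744)) (cond (Nat.beq (Nat.land a 512) 0) (cond (Nat.beq (Nat.land a 1024) 0) rl464 rl1488) (cond (Nat.beq (Nat.land a 1024) 0) rl976 rl2000))))) (cond (Nat.beq (Nat.land a 64) 0) (cond (Nat.beq (Nat.land a 128) 0) (cond (Nat.beq (Nat.land a 256) 0) (cond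 (Nat.beq (Nat.land a 512) 0) (cond (Nat.beq (Nat.land a 1024) 0) rl48 rl1072) (cond (Nat.beq (Nat.land a 1024) 0) rl560 rl1584)) (cond (Nat.beq (Nat.land a 512) 0) (cond (Nat.beq (Nat.land a 1024) 0) rl304 rl1328) (cond (Nat.beq (Nat.land a 1024) 0) rl816 rl1840))) (cond (Nat.beq (Nat.land a 256) 0) (cond (Nat.beq (Nat.land a 512) 0) (cond (Nat.beq (Nat.land a 1024) 0) rl176 rl1200) (cond (Nat.beq (Nat.land a 1024) 0) rl688 rl1712)) (cond (Nat.beq (Nat.land a 512) 0) (cond (Nat.beq (Nat.land a 1024) 0) rl432 rl1456) (cond (Nat.beq (Nat.land a 1024) 0) rl944 rl1968)))) (cond (Nat.beq (Nat.land a 128) 0) (cond (Nat.beq (Nat.land a 256) 0) (cond (Nat.beq (Nat.land a 512) 0) (cond (Nat.beq (Nat.land a 1024) 0) rl112 rl1136) (cond (Nat.beq (Nat.land a 1024) 0) rl624 rl1648)) (cond (Nat.beq (Nat.land a 512) 0) (cond (Nat.beq (Nat.land a 1024) 0) rl368 rl1392) (cond (Nat.beq (Nat.land a 1024) 0) rl880 rl1904)))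 (cond (Nat.beq (Nat.land a 256) 0) (cond (Nat.beq (Nat.land a 512) 0) (cond (Nat.beq (Nat.land a 1024) 0) rl240 rl1264) (cond (Nat.beq (Nat.land a 1024) 0) rl752 rl1776)) (cond (Nat.beq (Nat.land a 512) 0) (cond (Nat.beq (Nat.land a 1024) 0) rl496 rl1520) (cond (Nat.beq (Nat.land a 1024) 0) rl1008 rl2032))))))) (cond (Nat.beq (Nat.land a 16) 0) (cond (Nat.beq (Nat.land a 32) 0) (cond (Nat.beq (Nat.land a 64) 0) (cond (Nat.beq (Nat.land a 128) 0) (cond (Nat.beq (Nat.land a 256) 0) (cond (Nat.beq (Nat.land a 512) 0) (cond (Nat.beq (Nat.land a 1024) 0) rl8 rl1032) (cond (Nat.beq (Nat.land a 1024) 0) rl520 rl1544)) (cond (Nat.beq (Nat.land a 512) 0) (cond (Nat.beq (Nat.land a 1024) 0) rl264 rl1288) (cond (Nat.beq (Nat.land a 1024) 0) rl776 rl1800))) (cond (Nat.beq (Nat.land a 256) 0) (cond (Nat.beq (Nat.land a 512) 0) (cond (Nat.beq (Nat.land a 1024) 0) rl136 rl1160) (cond (Nat.beq (Nat.land a 1024) 0)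 rl648 rl1672)) (cond (Nat.beq (Nat.land a 512) 0) (cond (Nat.beq (Nat.land a 1024) 0) rl392 rl1416) (cond (Nat.beq (Nat.land a 1024) 0) rl904 rl1928)))) (cond (Nat.beq (Nat.land a 128) 0) (cond (Nat.beq (Nat.land a 256) 0) (cond (Nat.beq (Nat.land a 512) 0) (cond (Nat.beq (Nat.land a 1024) 0) rl72 rl1096) (cond (Nat.beq (Nat.land a 1024) 0) rl584 rl1608)) (cond (Nat.beq (Nat.land a 512) 0) (cond (Nat.beq (Nat.land a 1024) 0) rl328 rl1352) (cond (Nat.beq (Nat.land a 1024) 0) rl840 rl1864))) (cond (Nat.beq (Nat.land a 256) 0) (cond (Nat.beq (Nat.land a 512) 0) (cond (Nat.beq (Nat.land a 1024) 0) rl200 rl1224) (cond (Nat.beq (Nat.land a 1024) 0) rl712 rl1736)) (cond (Nat.beq (Nat.land a 512) 0) (cond (Nat.beq (Nat.land a 1024) 0) rl456 rl1480) (cond (Nat.beq (Nat.land a 1024) 0) rl968 rl1992))))) (cond (Nat.beq (Nat.land a 64) 0) (cond (Nat.beq (Nat.land a 128) 0) (cond (Nat.beq (Nat.land a 256) 0) (cond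 (Nat.beq (Nat.land a 512) 0) (cond (Nat.beq (Nat.land a 1024) 0) rl40 rl1064) (cond (Nat.beq (Nat.land a 1024) 0) rl552 rl1576)) (cond (Nat.beq (Nat.land a 512) 0) (cond (Nat.beq (Nat.land a 1024) 0) rl296 rl1320) (cond (Nat.beq (Nat.land a 1024) 0) rl808 rl1832))) (cond (Nat.beq (Nat.land a 256) 0) (cond (Nat.beq (Nat.land a 512) 0) (cond (Nat.beq (Nat.land a 1024) 0) rl168 rl1192) (cond (Nat.beq (Nat.land a 1024) 0) rl680 rl1704)) (cond (Nat.beq (Nat.land a 512) 0) (cond (Nat.beq (Nat.land a 1024) 0) rl424 rl1448) (cond (Nat.beq (Nat.land a 1024) 0) rl936 rl1960)))) (cond (Nat.beq (Nat.land a 128) 0) (cond (Nat.beq (Nat.land a 256) 0) (cond (Nat.beq (Nat.land a 512) 0) (cond (Nat.beq (Nat.land a 1024) 0) rl104 rl1128) (cond (Nat.beq (Nat.land a 1024) 0) rl616 rl1640)) (cond (Nat.beq (Nat.land a 512) 0) (cond (Nat.beq (Nat.land a 1024) 0) rl360 rl1384) (cond (Nat.beq (Nat.land a 1024) 0) rl872 rl1896)))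 (cond (Nat.beq (Nat.land a 256) 0) (cond (Nat.beq (Nat.land a 512) 0) (cond (Nat.beq (Nat.land a 1024) 0) rl232 rl1256) (cond (Nat.beq (Nat.land a 1024) 0) rl744 rl1768)) (cond (Nat.beq (Nat.land a 512) 0) (cond (Nat.beq (Nat.land a 1024) 0) rl488 rl1512) (cond (Nat.beq (Nat.land a 1024) 0) rl1000 rl2024)))))) (cond (Nat.beq (Nat.land a 32) 0) (cond (Nat.beq (Nat.land a 64) 0) (cond (Nat.beq (Nat.land a 128) 0) (cond (Nat.beq (Nat.land a 256) 0) (cond (Nat.beq (Nat.land a 512) 0) (cond (Nat.beq (Nat.land a 1024) 0) rl24 rl1048) (cond (Nat.beq (Nat.land a 1024) 0) rl536 rl1560)) (cond (Nat.beq (Nat.land a 512) 0) (cond (Nat.beq (Nat.land a 1024) 0) rl280 rl1304) (cond (Nat.beq (Nat.land a 1024) 0) rl792 rl1816))) (cond (Nat.beq (Nat.land a 256) 0) (cond (Nat.beq (Nat.land a 512) 0) (cond (Nat.beq (Nat.land a 1024) 0) rl152 rl1176) (cond (Nat.beq (Nat.land a 1024) 0) rl664 rl1688)) (cond (Nat.beq (Nat.land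 a 512) 0) (cond (Nat.beq (Nat.land a 1024) 0) rl408 rl1432) (cond (Nat.beq (Nat.land a 1024) 0) rl920 rl1944)))) (cond (Nat.beq (Nat.land a 128) 0) (cond (Nat.beq (Nat.land a 256) 0) (cond (Nat.beq (Nat.land a 512) 0) (cond (Nat.beq (Nat.land a 1024) 0) rl88 rl1112) (cond (Nat.beq (Nat.land a 1024) 0) rl600 rl1624)) (cond (Nat.beq (Nat.land a 512) 0) (cond (Nat.beq (Nat.land a 1024) 0) rl344 rl1368) (cond (Nat.beq (Nat.land a 1024) 0) rl856 rl1880))) (cond (Nat.beq (Nat.land a 256) 0) (cond (Nat.beq (Nat.land a 512) 0) (cond (Nat.beq (Nat.land a 1024) 0) rl216 rl1240) (cond (Nat.beq (Nat.land a 1024) 0) rl728 rl1752)) (cond (Nat.beq (Nat.land a 512) 0) (cond (Nat.beq (Nat.land a 1024) 0) rl472 rl1496) (cond (Nat.beq (Nat.land a 1024) 0) rl984 rl2008))))) (cond (Nat.beq (Nat.land a 64) 0) (cond (Nat.beq (Nat.land a 128) 0) (cond (Nat.beq (Nat.land a 256) 0) (cond (Nat.beq (Nat.land a 512) 0) (cond (Nat.beq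 (Nat.land a 1024) 0) rl56 rl1080) (cond (Nat.beq (Nat.land a 1024) 0) rl568 rl1592)) (cond (Nat.beq (Nat.land a 512) 0) (cond (Nat.beq (Nat.land a 1024) 0) rl312 rl1336) (cond (Nat.beq (Nat.land a 1024) 0) rl824 rl1848))) (cond (Nat.beq (Nat.land a 256) 0) (cond (Nat.beq (Nat.land a 512) 0) (cond (Nat.beq (Nat.land a 1024) 0) rl184 rl1208) (cond (Nat.beq (Nat.land a 1024) 0) rl696 rl1720)) (cond (Nat.beq (Nat.land a 512) 0) (cond (Nat.beq (Nat.land a 1024) 0) rl440 rl1464) (cond (Nat.beq (Nat.land a 1024) 0) rl952 rl1976)))) (cond (Nat.beq (Nat.land a 128) 0) (cond (Nat.beq (Nat.land a 256) 0) (cond (Nat.beq (Nat.land a 512) 0) (cond (Nat.beq (Nat.land a 1024) 0) rl120 rl1144) (cond (Nat.beq (Nat.land a 1024) 0) rl632 rl1656)) (cond (Nat.beq (Nat.land a 512) 0) (cond (Nat.beq (Nat.land a 1024) 0) rl376 rl1400) (cond (Nat.beq (Nat.land a 1024) 0) rl888 rl1912))) (cond (Nat.beq (Nat.land a 256) 0) (cond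 (Nat.beq (Nat.land a 512) 0) (cond (Nat.beq (Nat.land a 1024) 0) rl248 rl1272) (cond (Nat.beq (Nat.land a 1024) 0) rl760 rl1784)) (cond (Nat.beq (Nat.land a 512) 0) (cond (Nat.beq (Nat.land a 1024) 0) rl504 rl1528) (cond (Nat.beq (Nat.land a 1024) 0) rl1016 rl2040)))))))) (cond (Nat.beq (Nat.land a 8) 0) (cond (Nat.beq (Nat.land a 16) 0) (cond (Nat.beq (Nat.land a 32) 0) (cond (Nat.beq (Nat.land a 64) 0) (cond (Nat.beq (Nat.land a 128) 0) (cond (Nat.beq (Nat.land a 256) 0) (cond (Nat.beq (Nat.land a 512) 0) (cond (Nat.beq (Nat.land a 1024) 0) rl4 rl1028) (cond (Nat.beq (Nat.land a 1024) 0) rl516 rl1540)) (cond (Nat.beq (Nat.land a 512) 0) (cond (Nat.beq (Nat.land a 1024) 0) rl260 rl1284) (cond (Nat.beq (Nat.land a 1024) 0) rl772 rl1796))) (cond (Nat.beq (Nat.land a 256) 0) (cond (Nat.beq (Nat.land a 512) 0) (cond (Nat.beq (Nat.land a 1024) 0) rl132 rl1156) (cond (Nat.beq (Nat.land a 1024) 0) rl644 rl1668))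 (cond (Nat.beq (Nat.land a 512) 0) (cond (Nat.beq (Nat.land a 1024) 0) rl388 rl1412) (cond (Nat.beq (Nat.land a 1024) 0) rl900 rl1924)))) (cond (Nat.beq (Nat.land a 128) 0) (cond (Nat.beq (Nat.land a 256) 0) (cond (Nat.beq (Nat.land a 512) 0) (cond (Nat.beq (Nat.land a 1024) 0) rl68 rl1092) (cond (Nat.beq (Nat.land a 1024) 0) rl580 rl1604)) (cond (Nat.beq (Nat.land a 512) 0) (cond (Nat.beq (Nat.land a 1024) 0) rl324 rl1348) (cond (Nat.beq (Nat.land a 1024) 0) rl836 rl1860))) (cond (Nat.beq (Nat.land a 256) 0) (cond (Nat.beq (Nat.land a 512) 0) (cond (Nat.beq (Nat.land a 1024) 0) rl196 rl1220) (cond (Nat.beq (Nat.land a 1024) 0) rl708 rl1732)) (cond (Nat.beq (Nat.land a 512) 0) (cond (Nat.beq (Nat.land a 1024) 0) rl452 rl1476) (cond (Nat.beq (Nat.land a 1024) 0) rl964 rl1988))))) (cond (Nat.beq (Nat.land a 64) 0) (cond (Nat.beq (Nat.land a 128) 0) (cond (Nat.beq (Nat.land a 256) 0) (cond (Nat.beq (Nat.land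 a 512) 0) (cond (Nat.beq (Nat.land a 1024) 0) rl36 rl1060) (cond (Nat.beq (Nat.land a 1024) 0) rl548 rl1572)) (cond (Nat.beq (Nat.land a 512) 0) (cond (Nat.beq (Nat.land a 1024) 0) rl292 rl1316) (cond (Nat.beq (Nat.land a 1024) 0) rl804 rl1828))) (cond (Nat.beq (Nat.land a 256) 0) (cond (Nat.beq (Nat.land a 512) 0) (cond (Nat.beq (Nat.land a 1024) 0) rl164 rl1188) (cond (Nat.beq (Nat.land a 1024) 0) rl676 rl1700)) (cond (Nat.beq (Nat.land a 512) 0) (cond (Nat.beq (Nat.land a 1024) 0) rl420 rl1444) (cond (Nat.beq (Nat.land a 1024) 0) rl932 rl1956)))) (cond (Nat.beq (Nat.land a 128) 0) (cond (Nat.beq (Nat.land a 256) 0) (cond (Nat.beq (Nat.land a 512) 0) (cond (Nat.beq (Nat.land a 1024) 0) rl100 rl1124) (cond (Nat.beq (Nat.land a 1024) 0) rl612 rl1636)) (cond (Nat.beq (Nat.land a 512) 0) (cond (Nat.beq (Nat.land a 1024) 0) rl356 rl1380) (cond (Nat.beq (Nat.land a 1024) 0) rl868 rl1892))) (cond (Nat.beq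 (Nat.land a 256) 0) (cond (Nat.beq (Nat.land a 512) 0) (cond (Nat.beq (Nat.land a 1024) 0) rl228 rl1252) (cond (Nat.beq (Nat.land a 1024) 0) rl740 rl1764)) (cond (Nat.beq (Nat.land a 512) 0) (cond (Nat.beq (Nat.land a 1024) 0) rl484 rl1508) (cond (Nat.beq (Nat.land a 1024) 0) rl996 rl2020)))))) (cond (Nat.beq (Nat.land a 32) 0) (cond (Nat.beq (Nat.land a 64) 0) (cond (Nat.beq (Nat.land a 128) 0) (cond (Nat.beq (Nat.land a 256) 0) (cond (Nat.beq (Nat.land a 512) 0) (cond (Nat.beq (Nat.land a 1024) 0) rl20 rl1044) (cond (Nat.beq (Nat.land a 1024) 0) rl532 rl1556)) (cond (Nat.beq (Nat.land a 512) 0) (cond (Nat.beq (Nat.land a 1024) 0) rl276 rl1300) (cond (Nat.beq (Nat.land a 1024) 0) rl788 rl1812))) (cond (Nat.beq (Nat.land a 256) 0) (cond (Nat.beq (Nat.land a 512) 0) (cond (Nat.beq (Nat.land a 1024) 0) rl148 rl1172) (cond (Nat.beq (Nat.land a 1024) 0) rl660 rl1684)) (cond (Nat.beq (Nat.land a 512) 0)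 (cond (Nat.beq (Nat.land a 1024) 0) rl404 rl1428) (cond (Nat.beq (Nat.land a 1024) 0) rl916 rl1940)))) (cond (Nat.beq (Nat.land a 128) 0) (cond (Nat.beq (Nat.land a 256) 0) (cond (Nat.beq (Nat.land a 512) 0) (cond (Nat.beq (Nat.land a 1024) 0) rl84 rl1108) (cond (Nat.beq (Nat.land a 1024) 0) rl596 rl1620)) (cond (Nat.beq (Nat.land a 512) 0) (cond (Nat.beq (Nat.land a 1024) 0) rl340 rl1364) (cond (Nat.beq (Nat.land a 1024) 0) rl852 rl1876))) (cond (Nat.beq (Nat.land a 256) 0) (cond (Nat.beq (Nat.land a 512) 0) (cond (Nat.beq (Nat.land a 1024) 0) rl212 rl1236) (cond (Nat.beq (Nat.land a 1024) 0) rl724 rl1748)) (cond (Nat.beq (Nat.land a 512) 0) (cond (Nat.beq (Nat.land a 1024) 0) rl468 rl1492) (cond (Nat.beq (Nat.land a 1024) 0) rl980 rl2004))))) (cond (Nat.beq (Nat.land a 64) 0) (cond (Nat.beq (Nat.land a 128) 0) (cond (Nat.beq (Nat.land a 256) 0) (cond (Nat.beq (Nat.land a 512) 0) (cond (Nat.beq (Nat.land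 a 1024) 0) rl52 rl1076) (cond (Nat.beq (Nat.land a 1024) 0) rl564 rl1588)) (cond (Nat.beq (Nat.land a 512) 0) (cond (Nat.beq (Nat.land a 1024) 0) rl308 rl1332) (cond (Nat.beq (Nat.land a 1024) 0) rl820 rl1844))) (cond (Nat.beq (Nat.land a 256) 0) (cond (Nat.beq (Nat.land a 512) 0) (cond (Nat.beq (Nat.land a 1024) 0) rl180 rl1204) (cond (Nat.beq (Nat.land a 1024) 0) rl692 rl1716)) (cond (Nat.beq (Nat.land a 512) 0) (cond (Nat.beq (Nat.land a 1024) 0) rl436 rl1460) (cond (Nat.beq (Nat.land a 1024) 0) rl948 rl1972)))) (cond (Nat.beq (Nat.land a 128) 0) (cond (Nat.beq (Nat.land a 256) 0) (cond (Nat.beq (Nat.land a 512) 0) (cond (Nat.beq (Nat.land a 1024) 0) rl116 rl1140) (cond (Nat.beq (Nat.land a 1024) 0) rl628 rl1652)) (cond (Nat.beq (Nat.land a 512) 0) (cond (Nat.beq (Nat.land a 1024) 0) rl372 rl1396) (cond (Nat.beq (Nat.land a 1024) 0) rl884 rl1908))) (cond (Nat.beq (Nat.land a 256) 0) (cond (Nat.beq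 (Nat.land a 512) 0) (cond (Nat.beq (Nat.land a 1024) 0) rl244 rl1268) (cond (Nat.beq (Nat.land a 1024) 0) rl756 rl1780)) (cond (Nat.beq (Nat.land a 512) 0) (cond (Nat.beq (Nat.land a 1024) 0) rl500 rl1524) (cond (Nat.beq (Nat.land a 1024) 0) rl1012 rl2036))))))) (cond (Nat.beq (Nat.land a 16) 0) (cond (Nat.beq (Nat.land a 32) 0) (cond (Nat.beq (Nat.land a 64) 0) (cond (Nat.beq (Nat.land a 128) 0) (cond (Nat.beq (Nat.land a 256) 0) (cond (Nat.beq (Nat.land a 512) 0) (cond (Nat.beq (Nat.land a 1024) 0) rl12 rl1036) (cond (Nat.beq (Nat.land a 1024) 0) rl524 rl1548)) (cond (Nat.beq (Nat.land a 512) 0) (cond (Nat.beq (Nat.land a 1024) 0) rl268 rl1292) (cond (Nat.beq (Nat.land a 1024) 0) rl780 rl1804))) (cond (Nat.beq (Nat.land a 256) 0) (cond (Nat.beq (Nat.land a 512) 0) (cond (Nat.beq (Nat.land a 1024) 0) rl140 rl1164) (cond (Nat.beq (Nat.land a 1024) 0) rl652 rl1676)) (cond (Nat.beq (Nat.land a 512) 0)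 (cond (Nat.beq (Nat.land a 1024) 0) rl396 rl1420) (cond (Nat.beq (Nat.land a 1024) 0) rl908 rl1932)))) (cond (Nat.beq (Nat.land a 128) 0) (cond (Nat.beq (Nat.land a 256) 0) (cond (Nat.beq (Nat.land a 512) 0) (cond (Nat.beq (Nat.land a 1024) 0) rl76 rl1100) (cond (Nat.beq (Nat.land a 1024) 0) rl588 rl1612)) (cond (Nat.beq (Nat.land a 512) 0) (cond (Nat.beq (Nat.land a 1024) 0) rl332 rl1356) (cond (Nat.beq (Nat.land a 1024) 0) rl844 rl1868))) (cond (Nat.beq (Nat.land a 256) 0) (cond (Nat.beq (Nat.land a 512) 0) (cond (Nat.beq (Nat.land a 1024) 0) rl204 rl1228) (cond (Nat.beq (Nat.land a 1024) 0) rl716 rl1740)) (cond (Nat.beq (Nat.land a 512) 0) (cond (Nat.beq (Nat.land a 1024) 0) rl460 rl1484) (cond (Nat.beq (Nat.land a 1024) 0) rl972 rl1996))))) (cond (Nat.beq (Nat.land a 64) 0) (cond (Nat.beq (Nat.land a 128) 0) (cond (Nat.beq (Nat.land a 256) 0) (cond (Nat.beq (Nat.land a 512) 0) (cond (Nat.beq (Nat.land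 a 1024) 0) rl44 rl1068) (cond (Nat.beq (Nat.land a 1024) 0) rl556 rl1580)) (cond (Nat.beq (Nat.land a 512) 0) (cond (Nat.beq (Nat.land a 1024) 0) rl300 rl1324) (cond (Nat.beq (Nat.land a 1024) 0) rl812 rl1836))) (cond (Nat.beq (Nat.land a 256) 0) (cond (Nat.beq (Nat.land a 512) 0) (cond (Nat.beq (Nat.land a 1024) 0) rl172 rl1196) (cond (Nat.beq (Nat.land a 1024) 0) rl684 rl1708)) (cond (Nat.beq (Nat.land a 512) 0) (cond (Nat.beq (Nat.land a 1024) 0) rl428 rl1452) (cond (Nat.beq (Nat.land a 1024) 0) rl940 rl1964)))) (cond (Nat.beq (Nat.land a 128) 0) (cond (Nat.beq (Nat.land a 256) 0) (cond (Nat.beq (Nat.land a 512) 0) (cond (Nat.beq (Nat.land a 1024) 0) rl108 rl1132) (cond (Nat.beq (Nat.land a 1024) 0) rl620 rl1644)) (cond (Nat.beq (Nat.land a 512) 0) (cond (Nat.beq (Nat.land a 1024) 0) rl364 rl1388) (cond (Nat.beq (Nat.land a 1024) 0) rl876 rl1900))) (cond (Nat.beq (Nat.land a 256) 0) (cond (Nat.beq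 (Nat.land a 512) 0) (cond (Nat.beq (Nat.land a 1024) 0) rl236 rl1260) (cond (Nat.beq (Nat.land a 1024) 0) rl748 rl1772)) (cond (Nat.beq (Nat.land a 512) 0) (cond (Nat.beq (Nat.land a 1024) 0) rl492 rl1516) (cond (Nat.beq (Nat.land a 1024) 0) rl1004 rl2028)))))) (cond (Nat.beq (Nat.land a 32) 0) (cond (Nat.beq (Nat.land a 64) 0) (cond (Nat.beq (Nat.land a 128) 0) (cond (Nat.beq (Nat.land a 256) 0) (cond (Nat.beq (Nat.land a 512) 0) (cond (Nat.beq (Nat.land a 1024) 0) rl28 rl1052) (cond (Nat.beq (Nat.land a 1024) 0) rl540 rl1564)) (cond (Nat.beq (Nat.land a 512) 0) (cond (Nat.beq (Nat.land a 1024) 0) rl284 rl1308) (cond (Nat.beq (Nat.land a 1024) 0) rl796 rl1820))) (cond (Nat.beq (Nat.land a 256) 0) (cond (Nat.beq (Nat.land a 512) 0) (cond (Nat.beq (Nat.land a 1024) 0) rl156 rl1180) (cond (Nat.beq (Nat.land a 1024) 0) rl668 rl1692)) (cond (Nat.beq (Nat.land a 512) 0) (cond (Nat.beq (Nat.land a 1024) 0)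 rl412 rl1436) (cond (Nat.beq (Nat.land a 1024) 0) rl924 rl1948)))) (cond (Nat.beq (Nat.land a 128) 0) (cond (Nat.beq (Nat.land a 256) 0) (cond (Nat.beq (Nat.land a 512) 0) (cond (Nat.beq (Nat.land a 1024) 0) rl92 rl1116) (cond (Nat.beq (Nat.land a 1024) 0) rl604 rl1628)) (cond (Nat.beq (Nat.land a 512) 0) (cond (Nat.beq (Nat.land a 1024) 0) rl348 rl1372) (cond (Nat.beq (Nat.land a 1024) 0) rl860 rl1884))) (cond (Nat.beq (Nat.land a 256) 0) (cond (Nat.beq (Nat.land a 512) 0) (cond (Nat.beq (Nat.land a 1024) 0) rl220 rl1244) (cond (Nat.beq (Nat.land a 1024) 0) rl732 rl1756)) (cond (Nat.beq (Nat.land a 512) 0) (cond (Nat.beq (Nat.land a 1024) 0) rl476 rl1500) (cond (Nat.beq (Nat.land a 1024) 0) rl988 rl2012))))) (cond (Nat.beq (Nat.land a 64) 0) (cond (Nat.beq (Nat.land a 128) 0) (cond (Nat.beq (Nat.land a 256) 0) (cond (Nat.beq (Nat.land a 512) 0) (cond (Nat.beq (Nat.land a 1024) 0) rl60 rl1084) (cond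 (Nat.beq (Nat.land a 1024) 0) rl572 rl1596)) (cond (Nat.beq (Nat.land a 512) 0) (cond (Nat.beq (Nat.land a 1024) 0) rl316 rl1340) (cond (Nat.beq (Nat.land a 1024) 0) rl828 rl1852))) (cond (Nat.beq (Nat.land a 256) 0) (cond (Nat.beq (Nat.land a 512) 0) (cond (Nat.beq (Nat.land a 1024) 0) rl188 rl1212) (cond (Nat.beq (Nat.land a 1024) 0) rl700 rl1724)) (cond (Nat.beq (Nat.land a 512) 0) (cond (Nat.beq (Nat.land a 1024) 0) rl444 rl1468) (cond (Nat.beq (Nat.land a 1024) 0) rl956 rl1980)))) (cond (Nat.beq (Nat.land a 128) 0) (cond (Nat.beq (Nat.land a 256) 0) (cond (Nat.beq (Nat.land a 512) 0) (cond (Nat.beq (Nat.land a 1024) 0) rl124 rl1148) (cond (Nat.beq (Nat.land a 1024) 0) rl636 rl1660)) (cond (Nat.beq (Nat.land a 512) 0) (cond (Nat.beq (Nat.land a 1024) 0) rl380 rl1404) (cond (Nat.beq (Nat.land a 1024) 0) rl892 rl1916))) (cond (Nat.beq (Nat.land a 256) 0) (cond (Nat.beq (Nat.land a 512) 0) (cond (Nat.beq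 (Nat.land a 1024) 0) rl252 rl1276) (cond (Nat.beq (Nat.land a 1024) 0) rl764 rl1788)) (cond (Nat.beq (Nat.land a 512) 0) (cond (Nat.beq (Nat.land a 1024) 0) rl508 rl1532) (cond (Nat.beq (Nat.land a 1024) 0) rl1020 rl2044))))))))) (cond (Nat.beq (Nat.land a 4) 0) (cond (Nat.beq (Nat.land a 8) 0) (cond (Nat.beq (Nat.land a 16) 0) (cond (Nat.beq (Nat.land a 32) 0) (cond (Nat.beq (Nat.land a 64) 0) (cond (Nat.beq (Nat.land a 128) 0) (cond (Nat.beq (Nat.land a 256) 0) (cond (Nat.beq (Nat.land a 512) 0) (cond (Nat.beq (Nat.land a 1024) 0) rl2 rl1026) (cond (Nat.beq (Nat.land a 1024) 0) rl514 rl1538)) (cond (Nat.beq (Nat.land a 512) 0) (cond (Nat.beq (Nat.land a 1024) 0) rl258 rl1282) (cond (Nat.beq (Nat.land a 1024) 0) rl770 rl1794))) (cond (Nat.beq (Nat.land a 256) 0) (cond (Nat.beq (Nat.land a 512) 0) (cond (Nat.beq (Nat.land a 1024) 0) rl130 rl1154) (cond (Nat.beq (Nat.land a 1024) 0) rl642 rl1666)) (cond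 (Nat.beq (Nat.land a 512) 0) (cond (Nat.beq (Nat.land a 1024) 0) rl386 rl1410) (cond (Nat.beq (Nat.land a 1024) 0) rl898 rl1922)))) (cond (Nat.beq (Nat.land a 128) 0) (cond (Nat.beq (Nat.land a 256) 0) (cond (Nat.beq (Nat.land a 512) 0) (cond (Nat.beq (Nat.land a 1024) 0) rl66 rl1090) (cond (Nat.beq (Nat.land a 1024) 0) rl578 rl1602)) (cond (Nat.beq (Nat.land a 512) 0) (cond (Nat.beq (Nat.land a 1024) 0) rl322 rl1346) (cond (Nat.beq (Nat.land a 1024) 0) rl834 rl1858))) (cond (Nat.beq (Nat.land a 256) 0) (cond (Nat.beq (Nat.land a 512) 0) (cond (Nat.beq (Nat.land a 1024) 0) rl194 rl1218) (cond (Nat.beq (Nat.land a 1024) 0) rl706 rl1730)) (cond (Nat.beq (Nat.land a 512) 0) (cond (Nat.beq (Nat.land a 1024) 0) rl450 rl1474) (cond (Nat.beq (Nat.land a 1024) 0) rl962 rl1986))))) (cond (Nat.beq (Nat.land a 64) 0) (cond (Nat.beq (Nat.land a 128) 0) (cond (Nat.beq (Nat.land a 256) 0) (cond (Nat.beq (Nat.land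 a 512) 0) (cond (Nat.beq (Nat.land a 1024) 0) rl34 rl1058) (cond (Nat.beq (Nat.land a 1024) 0) rl546 rl1570)) (cond (Nat.beq (Nat.land a 512) 0) (cond (Nat.beq (Nat.land a 1024) 0) rl290 rl1314) (cond (Nat.beq (Nat.land a 1024) 0) rl802 rl1826))) (cond (Nat.beq (Nat.land a 256) 0) (cond (Nat.beq (Nat.land a 512) 0) (cond (Nat.beq (Nat.land a 1024) 0) rl162 rl1186) (cond (Nat.beq (Nat.land a 1024) 0) rl674 rl1698)) (cond (Nat.beq (Nat.land a 512) 0) (cond (Nat.beq (Nat.land a 1024) 0) rl418 rl1442) (cond (Nat.beq (Nat.land a 1024) 0) rl930 rl1954)))) (cond (Nat.beq (Nat.land a 128) 0) (cond (Nat.beq (Nat.land a 256) 0) (cond (Nat.beq (Nat.land a 512) 0) (cond (Nat.beq (Nat.land a 1024) 0) rl98 rl1122) (cond (Nat.beq (Nat.land a 1024) 0) rl610 rl1634)) (cond (Nat.beq (Nat.land a 512) 0) (cond (Nat.beq (Nat.land a 1024) 0) rl354 rl1378) (cond (Nat.beq (Nat.land a 1024) 0) rl866 rl1890))) (cond (Nat.beq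 (Nat.land a 256) 0) (cond (Nat.beq (Nat.land a 512) 0) (cond (Nat.beq (Nat.land a 1024) 0) rl226 rl1250) (cond (Nat.beq (Nat.land a 1024) 0) rl738 rl1762)) (cond (Nat.beq (Nat.land a 512) 0) (cond (Nat.beq (Nat.land a 1024) 0) rl482 rl1506) (cond (Nat.beq (Nat.land a 1024) 0) rl994 rl2018)))))) (cond (Nat.beq (Nat.land a 32) 0) (cond (Nat.beq (Nat.land a 64) 0) (cond (Nat.beq (Nat.land a 128) 0) (cond (Nat.beq (Nat.land a 256) 0) (cond (Nat.beq (Nat.land a 512) 0) (cond (Nat.beq (Nat.land a 1024) 0) rl18 rl1042) (cond (Nat.beq (Nat.land a 1024) 0) rl530 rl1554)) (cond (Nat.beq (Nat.land a 512) 0) (cond (Nat.beq (Nat.land a 1024) 0) rl274 rl1298) (cond (Nat.beq (Nat.land a 1024) 0) rl786 rl1810))) (cond (Nat.beq (Nat.land a 256) 0) (cond (Nat.beq (Nat.land a 512) 0) (cond (Nat.beq (Nat.land a 1024) 0) rl146 rl1170) (cond (Nat.beq (Nat.land a 1024) 0) rl658 rl1682)) (cond (Nat.beq (Nat.land a 512) 0)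 (cond (Nat.beq (Nat.land a 1024) 0) rl402 rl1426) (cond (Nat.beq (Nat.land a 1024) 0) rl914 rl1938)))) (cond (Nat.beq (Nat.land a 128) 0) (cond (Nat.beq (Nat.land a 256) 0) (cond (Nat.beq (Nat.land a 512) 0) (cond (Nat.beq (Nat.land a 1024) 0) rl82 rl1106) (cond (Nat.beq (Nat.land a 1024) 0) rl594 rl1618)) (cond (Nat.beq (Nat.land a 512) 0) (cond (Nat.beq (Nat.land a 1024) 0) rl338 rl1362) (cond (Nat.beq (Nat.land a 1024) 0) rl850 rl1874))) (cond (Nat.beq (Nat.land a 256) 0) (cond (Nat.beq (Nat.land a 512) 0) (cond (Nat.beq (Nat.land a 1024) 0) rl210 rl1234) (cond (Nat.beq (Nat.land a 1024) 0) rl722 rl1746)) (cond (Nat.beq (Nat.land a 512) 0) (cond (Nat.beq (Nat.land a 1024) 0) rl466 rl1490) (cond (Nat.beq (Nat.land a 1024) 0) rl978 rl2002))))) (cond (Nat.beq (Nat.land a 64) 0) (cond (Nat.beq (Nat.land a 128) 0) (cond (Nat.beq (Nat.land a 256) 0) (cond (Nat.beq (Nat.land a 512) 0) (cond (Nat.beq (Nat.land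 a 1024) 0) rl50 rl1074) (cond (Nat.beq (Nat.land a 1024) 0) rl562 rl1586)) (cond (Nat.beq (Nat.land a 512) 0) (cond (Nat.beq (Nat.land a 1024) 0) rl306 rl1330) (cond (Nat.beq (Nat.land a 1024) 0) rl818 rl1842))) (cond (Nat.beq (Nat.land a 256) 0) (cond (Nat.beq (Nat.land a 512) 0) (cond (Nat.beq (Nat.land a 1024) 0) rl178 rl1202) (cond (Nat.beq (Nat.land a 1024) 0) rl690 rl1714)) (cond (Nat.beq (Nat.land a 512) 0) (cond (Nat.beq (Nat.land a 1024) 0) rl434 rl1458) (cond (Nat.beq (Nat.land a 1024) 0) rl946 rl1970)))) (cond (Nat.beq (Nat.land a 128) 0) (cond (Nat.beq (Nat.land a 256) 0) (cond (Nat.beq (Nat.land a 512) 0) (cond (Nat.beq (Nat.land a 1024) 0) rl114 rl1138) (cond (Nat.beq (Nat.land a 1024) 0) rl626 rl1650)) (cond (Nat.beq (Nat.land a 512) 0) (cond (Nat.beq (Nat.land a 1024) 0) rl370 rl1394) (cond (Nat.beq (Nat.land a 1024) 0) rl882 rl1906))) (cond (Nat.beq (Nat.land a 256) 0) (cond (Nat.beq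 (Nat.land a 512) 0) (cond (Nat.beq (Nat.land a 1024) 0) rl242 rl1266) (cond (Nat.beq (Nat.land a 1024) 0) rl754 rl1778)) (cond (Nat.beq (Nat.land a 512) 0) (cond (Nat.beq (Nat.land a 1024) 0) rl498 rl1522) (cond (Nat.beq (Nat.land a 1024) 0) rl1010 rl2034))))))) (cond (Nat.beq (Nat.land a 16) 0) (cond (Nat.beq (Nat.land a 32) 0) (cond (Nat.beq (Nat.land a 64) 0) (cond (Nat.beq (Nat.land a 128) 0) (cond (Nat.beq (Nat.land a 256) 0) (cond (Nat.beq (Nat.land a 512) 0) (cond (Nat.beq (Nat.land a 1024) 0) rl10 rl1034) (cond (Nat.beq (Nat.land a 1024) 0) rl522 rl1546)) (cond (Nat.beq (Nat.land a 512) 0) (cond (Nat.beq (Nat.land a 1024) 0) rl266 rl1290) (cond (Nat.beq (Nat.land a 1024) 0) rl778 rl1802))) (cond (Nat.beq (Nat.land a 256) 0) (cond (Nat.beq (Nat.land a 512) 0) (cond (Nat.beq (Nat.land a 1024) 0) rl138 rl1162) (cond (Nat.beq (Nat.land a 1024) 0) rl650 rl1674)) (cond (Nat.beq (Nat.land a 512) 0)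 (cond (Nat.beq (Nat.land a 1024) 0) rl394 rl1418) (cond (Nat.beq (Nat.land a 1024) 0) rl906 rl1930)))) (cond (Nat.beq (Nat.land a 128) 0) (cond (Nat.beq (Nat.land a 256) 0) (cond (Nat.beq (Nat.land a 512) 0) (cond (Nat.beq (Nat.land a 1024) 0) rl74 rl1098) (cond (Nat.beq (Nat.land a 1024) 0) rl586 rl1610)) (cond (Nat.beq (Nat.land a 512) 0) (cond (Nat.beq (Nat.land a 1024) 0) rl330 rl1354) (cond (Nat.beq (Nat.land a 1024) 0) rl842 rl1866))) (cond (Nat.beq (Nat.land a 256) 0) (cond (Nat.beq (Nat.land a 512) 0) (cond (Nat.beq (Nat.land a 1024) 0) rl202 rl1226) (cond (Nat.beq (Nat.land a 1024) 0) rl714 rl1738)) (cond (Nat.beq (Nat.land a 512) 0) (cond (Nat.beq (Nat.land a 1024) 0) rl458 rl1482) (cond (Nat.beq (Nat.land a 1024) 0) rl970 rl1994))))) (cond (Nat.beq (Nat.land a 64) 0) (cond (Nat.beq (Nat.land a 128) 0) (cond (Nat.beq (Nat.land a 256) 0) (cond (Nat.beq (Nat.land a 512) 0) (cond (Nat.beq (Nat.land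 a 1024) 0) rl42 rl1066) (cond (Nat.beq (Nat.land a 1024) 0) rl554 rl1578)) (cond (Nat.beq (Nat.land a 512) 0) (cond (Nat.beq (Nat.land a 1024) 0) rl298 rl1322) (cond (Nat.beq (Nat.land a 1024) 0) rl810 rl1834))) (cond (Nat.beq (Nat.land a 256) 0) (cond (Nat.beq (Nat.land a 512) 0) (cond (Nat.beq (Nat.land a 1024) 0) rl170 rl1194) (cond (Nat.beq (Nat.land a 1024) 0) rl682 rl1706)) (cond (Nat.beq (Nat.land a 512) 0) (cond (Nat.beq (Nat.land a 1024) 0) rl426 rl1450) (cond (Nat.beq (Nat.land a 1024) 0) rl938 rl1962)))) (cond (Nat.beq (Nat.land a 128) 0) (cond (Nat.beq (Nat.land a 256) 0) (cond (Nat.beq (Nat.land a 512) 0) (cond (Nat.beq (Nat.land a 1024) 0) rl106 rl1130) (cond (Nat.beq (Nat.land a 1024) 0) rl618 rl1642)) (cond (Nat.beq (Nat.land a 512) 0) (cond (Nat.beq (Nat.land a 1024) 0) rl362 rl1386) (cond (Nat.beq (Nat.land a 1024) 0) rl874 rl1898))) (cond (Nat.beq (Nat.land a 256) 0) (cond (Nat.beq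 (Nat.land a 512) 0) (cond (Nat.beq (Nat.land a 1024) 0) rl234 rl1258) (cond (Nat.beq (Nat.land a 1024) 0) rl746 rl1770)) (cond (Nat.beq (Nat.land a 512) 0) (cond (Nat.beq (Nat.land a 1024) 0) rl490 rl1514) (cond (Nat.beq (Nat.land a 1024) 0) rl1002 rl2026)))))) (cond (Nat.beq (Nat.land a 32) 0) (cond (Nat.beq (Nat.land a 64) 0) (cond (Nat.beq (Nat.land a 128) 0) (cond (Nat.beq (Nat.land a 256) 0) (cond (Nat.beq (Nat.land a 512) 0) (cond (Nat.beq (Nat.land a 1024) 0) rl26 rl1050) (cond (Nat.beq (Nat.land a 1024) 0) rl538 rl1562)) (cond (Nat.beq (Nat.land a 512) 0) (cond (Nat.beq (Nat.land a 1024) 0) rl282 rl1306) (cond (Nat.beq (Nat.land a 1024) 0) rl794 rl1818))) (cond (Nat.beq (Nat.land a 256) 0) (cond (Nat.beq (Nat.land a 512) 0) (cond (Nat.beq (Nat.land a 1024) 0) rl154 rl1178) (cond (Nat.beq (Nat.land a 1024) 0) rl666 rl1690)) (cond (Nat.beq (Nat.land a 512) 0) (cond (Nat.beq (Nat.land a 1024) 0)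 rl410 rl1434) (cond (Nat.beq (Nat.land a 1024) 0) rl922 rl1946)))) (cond (Nat.beq (Nat.land a 128) 0) (cond (Nat.beq (Nat.land a 256) 0) (cond (Nat.beq (Nat.land a 512) 0) (cond (Nat.beq (Nat.land a 1024) 0) rl90 rl1114) (cond (Nat.beq (Nat.land a 1024) 0) rl602 rl1626)) (cond (Nat.beq (Nat.land a 512) 0) (cond (Nat.beq (Nat.land a 1024) 0) rl346 rl1370) (cond (Nat.beq (Nat.land a 1024) 0) rl858 rl1882))) (cond (Nat.beq (Nat.land a 256) 0) (cond (Nat.beq (Nat.land a 512) 0) (cond (Nat.beq (Nat.land a 1024) 0) rl218 rl1242) (cond (Nat.beq (Nat.land a 1024) 0) rl730 rl1754)) (cond (Nat.beq (Nat.land a 512) 0) (cond (Nat.beq (Nat.land a 1024) 0) rl474 rl1498) (cond (Nat.beq (Nat.land a 1024) 0) rl986 rl2010))))) (cond (Nat.beq (Nat.land a 64) 0) (cond (Nat.beq (Nat.land a 128) 0) (cond (Nat.beq (Nat.land a 256) 0) (cond (Nat.beq (Nat.land a 512) 0) (cond (Nat.beq (Nat.land a 1024) 0) rl58 rl1082) (cond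 (Nat.beq (Nat.land a 1024) 0) rl570 rl1594)) (cond (Nat.beq (Nat.land a 512) 0) (cond (Nat.beq (Nat.land a 1024) 0) rl314 rl1338) (cond (Nat.beq (Nat.land a 1024) 0) rl826 rl1850))) (cond (Nat.beq (Nat.land a 256) 0) (cond (Nat.beq (Nat.land a 512) 0) (cond (Nat.beq (Nat.land a 1024) 0) rl186 rl1210) (cond (Nat.beq (Nat.land a 1024) 0) rl698 rl1722)) (cond (Nat.beq (Nat.land a 512) 0) (cond (Nat.beq (Nat.land a 1024) 0) rl442 rl1466) (cond (Nat.beq (Nat.land a 1024) 0) rl954 rl1978)))) (cond (Nat.beq (Nat.land a 128) 0) (cond (Nat.beq (Nat.land a 256) 0) (cond (Nat.beq (Nat.land a 512) 0) (cond (Nat.beq (Nat.land a 1024) 0) rl122 rl1146) (cond (Nat.beq (Nat.land a 1024) 0) rl634 rl1658)) (cond (Nat.beq (Nat.land a 512) 0) (cond (Nat.beq (Nat.land a 1024) 0) rl378 rl1402) (cond (Nat.beq (Nat.land a 1024) 0) rl890 rl1914))) (cond (Nat.beq (Nat.land a 256) 0) (cond (Nat.beq (Nat.land a 512) 0) (cond (Nat.beq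 (Nat.land a 1024) 0) rl250 rl1274) (cond (Nat.beq (Nat.land a 1024) 0) rl762 rl1786)) (cond (Nat.beq (Nat.land a 512) 0) (cond (Nat.beq (Nat.land a 1024) 0) rl506 rl1530) (cond (Nat.beq (Nat.land a 1024) 0) rl1018 rl2042)))))))) (cond (Nat.beq (Nat.land a 8) 0) (cond (Nat.beq (Nat.land a 16) 0) (cond (Nat.beq (Nat.land a 32) 0) (cond (Nat.beq (Nat.land a 64) 0) (cond (Nat.beq (Nat.land a 128) 0) (cond (Nat.beq (Nat.land a 256) 0) (cond (Nat.beq (Nat.land a 512) 0) (cond (Nat.beq (Nat.land a 1024) 0) rl6 rl1030) (cond (Nat.beq (Nat.land a 1024) 0) rl518 rl1542)) (cond (Nat.beq (Nat.land a 512) 0) (cond (Nat.beq (Nat.land a 1024) 0) rl262 rl1286) (cond (Nat.beq (Nat.land a 1024) 0) rl774 rl1798))) (cond (Nat.beq (Nat.land a 256) 0) (cond (Nat.beq (Nat.land a 512) 0) (cond (Nat.beq (Nat.land a 1024) 0) rl134 rl1158) (cond (Nat.beq (Nat.land a 1024) 0) rl646 rl1670)) (cond (Nat.beq (Nat.land a 512) 0) (cond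 (Nat.beq (Nat.land a 1024) 0) rl390 rl1414) (cond (Nat.beq (Nat.land a 1024) 0) rl902 rl1926)))) (cond (Nat.beq (Nat.land a 128) 0) (cond (Nat.beq (Nat.land a 256) 0) (cond (Nat.beq (Nat.land a 512) 0) (cond (Nat.beq (Nat.land a 1024) 0) rl70 rl1094) (cond (Nat.beq (Nat.land a 1024) 0) rl582 rl1606)) (cond (Nat.beq (Nat.land a 512) 0) (cond (Nat.beq (Nat.land a 1024) 0) rl326 rl1350) (cond (Nat.beq (Nat.land a 1024) 0) rl838 rl1862))) (cond (Nat.beq (Nat.land a 256) 0) (cond (Nat.beq (Nat.land a 512) 0) (cond (Nat.beq (Nat.land a 1024) 0) rl198 rl1222) (cond (Nat.beq (Nat.land a 1024) 0) rl710 rl1734)) (cond (Nat.beq (Nat.land a 512) 0) (cond (Nat.beq (Nat.land a 1024) 0) rl454 rl1478) (cond (Nat.beq (Nat.land a 1024) 0) rl966 rl1990))))) (cond (Nat.beq (Nat.land a 64) 0) (cond (Nat.beq (Nat.land a 128) 0) (cond (Nat.beq (Nat.land a 256) 0) (cond (Nat.beq (Nat.land a 512) 0) (cond (Nat.beq (Nat.land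 a 1024) 0) rl38 rl1062) (cond (Nat.beq (Nat.land a 1024) 0) rl550 rl1574)) (cond (Nat.beq (Nat.land a 512) 0) (cond (Nat.beq (Nat.land a 1024) 0) rl294 rl1318) (cond (Nat.beq (Nat.land a 1024) 0) rl806 rl1830))) (cond (Nat.beq (Nat.land a 256) 0) (cond (Nat.beq (Nat.land a 512) 0) (cond (Nat.beq (Nat.land a 1024) 0) rl166 rl1190) (cond (Nat.beq (Nat.land a 1024) 0) rl678 rl1702)) (cond (Nat.beq (Nat.land a 512) 0) (cond (Nat.beq (Nat.land a 1024) 0) rl422 rl1446) (cond (Nat.beq (Nat.land a 1024) 0) rl934 rl1958)))) (cond (Nat.beq (Nat.land a 128) 0) (cond (Nat.beq (Nat.land a 256) 0) (cond (Nat.beq (Nat.land a 512) 0) (cond (Nat.beq (Nat.land a 1024) 0) rl102 rl1126) (cond (Nat.beq (Nat.land a 1024) 0) rl614 rl1638)) (cond (Nat.beq (Nat.land a 512) 0) (cond (Nat.beq (Nat.land a 1024) 0) rl358 rl1382) (cond (Nat.beq (Nat.land a 1024) 0) rl870 rl1894))) (cond (Nat.beq (Nat.land a 256) 0) (cond (Nat.beq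 (Nat.land a 512) 0) (cond (Nat.beq (Nat.land a 1024) 0) rl230 rl1254) (cond (Nat.beq (Nat.land a 1024) 0) rl742 rl1766)) (cond (Nat.beq (Nat.land a 512) 0) (cond (Nat.beq (Nat.land a 1024) 0) rl486 rl1510) (cond (Nat.beq (Nat.land a 1024) 0) rl998 rl2022)))))) (cond (Nat.beq (Nat.land a 32) 0) (cond (Nat.beq (Nat.land a 64) 0) (cond (Nat.beq (Nat.land a 128) 0) (cond (Nat.beq (Nat.land a 256) 0) (cond (Nat.beq (Nat.land a 512) 0) (cond (Nat.beq (Nat.land a 1024) 0) rl22 rl1046) (cond (Nat.beq (Nat.land a 1024) 0) rl534 rl1558)) (cond (Nat.beq (Nat.land a 512) 0) (cond (Nat.beq (Nat.land a 1024) 0) rl278 rl1302) (cond (Nat.beq (Nat.land a 1024) 0) rl790 rl1814))) (cond (Nat.beq (Nat.land a 256) 0) (cond (Nat.beq (Nat.land a 512) 0) (cond (Nat.beq (Nat.land a 1024) 0) rl150 rl1174) (cond (Nat.beq (Nat.land a 1024) 0) rl662 rl1686)) (cond (Nat.beq (Nat.land a 512) 0) (cond (Nat.beq (Nat.land a 1024) 0)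 rl406 rl1430) (cond (Nat.beq (Nat.land a 1024) 0) rl918 rl1942)))) (cond (Nat.beq (Nat.land a 128) 0) (cond (Nat.beq (Nat.land a 256) 0) (cond (Nat.beq (Nat.land a 512) 0) (cond (Nat.beq (Nat.land a 1024) 0) rl86 rl1110) (cond (Nat.beq (Nat.land a 1024) 0) rl598 rl1622)) (cond (Nat.beq (Nat.land a 512) 0) (cond (Nat.beq (Nat.land a 1024) 0) rl342 rl1366) (cond (Nat.beq (Nat.land a 1024) 0) rl854 rl1878))) (cond (Nat.beq (Nat.land a 256) 0) (cond (Nat.beq (Nat.land a 512) 0) (cond (Nat.beq (Nat.land a 1024) 0) rl214 rl1238) (cond (Nat.beq (Nat.land a 1024) 0) rl726 rl1750)) (cond (Nat.beq (Nat.land a 512) 0) (cond (Nat.beq (Nat.land a 1024) 0) rl470 rl1494) (cond (Nat.beq (Nat.land a 1024) 0) rl982 rl2006))))) (cond (Nat.beq (Nat.land a 64) 0) (cond (Nat.beq (Nat.land a 128) 0) (cond (Nat.beq (Nat.land a 256) 0) (cond (Nat.beq (Nat.land a 512) 0) (cond (Nat.beq (Nat.land a 1024) 0) rl54 rl1078) (cond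 (Nat.beq (Nat.land a 1024) 0) rl566 rl1590)) (cond (Nat.beq (Nat.land a 512) 0) (cond (Nat.beq (Nat.land a 1024) 0) rl310 rl1334) (cond (Nat.beq (Nat.land a 1024) 0) rl822 rl1846))) (cond (Nat.beq (Nat.land a 256) 0) (cond (Nat.beq (Nat.land a 512) 0) (cond (Nat.beq (Nat.land a 1024) 0) rl182 rl1206) (cond (Nat.beq (Nat.land a 1024) 0) rl694 rl1718)) (cond (Nat.beq (Nat.land a 512) 0) (cond (Nat.beq (Nat.land a 1024) 0) rl438 rl1462) (cond (Nat.beq (Nat.land a 1024) 0) rl950 rl1974)))) (cond (Nat.beq (Nat.land a 128) 0) (cond (Nat.beq (Nat.land a 256) 0) (cond (Nat.beq (Nat.land a 512) 0) (cond (Nat.beq (Nat.land a 1024) 0) rl118 rl1142) (cond (Nat.beq (Nat.land a 1024) 0) rl630 rl1654)) (cond (Nat.beq (Nat.land a 512) 0) (cond (Nat.beq (Nat.land a 1024) 0) rl374 rl1398) (cond (Nat.beq (Nat.land a 1024) 0) rl886 rl1910))) (cond (Nat.beq (Nat.land a 256) 0) (cond (Nat.beq (Nat.land a 512) 0) (cond (Nat.beq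 (Nat.land a 1024) 0) rl246 rl1270) (cond (Nat.beq (Nat.land a 1024) 0) rl758 rl1782)) (cond (Nat.beq (Nat.land a 512) 0) (cond (Nat.beq (Nat.land a 1024) 0) rl502 rl1526) (cond (Nat.beq (Nat.land a 1024) 0) rl1014 rl2038))))))) (cond (Nat.beq (Nat.land a 16) 0) (cond (Nat.beq (Nat.land a 32) 0) (cond (Nat.beq (Nat.land a 64) 0) (cond (Nat.beq (Nat.land a 128) 0) (cond (Nat.beq (Nat.land a 256) 0) (cond (Nat.beq (Nat.land a 512) 0) (cond (Nat.beq (Nat.land a 1024) 0) rl14 rl1038) (cond (Nat.beq (Nat.land a 1024) 0) rl526 rl1550)) (cond (Nat.beq (Nat.land a 512) 0) (cond (Nat.beq (Nat.land a 1024) 0) rl270 rl1294) (cond (Nat.beq (Nat.land a 1024) 0) rl782 rl1806))) (cond (Nat.beq (Nat.land a 256) 0) (cond (Nat.beq (Nat.land a 512) 0) (cond (Nat.beq (Nat.land a 1024) 0) rl142 rl1166) (cond (Nat.beq (Nat.land a 1024) 0) rl654 rl1678)) (cond (Nat.beq (Nat.land a 512) 0) (cond (Nat.beq (Nat.land a 1024) 0)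 rl398 rl1422) (cond (Nat.beq (Nat.land a 1024) 0) rl910 rl1934)))) (cond (Nat.beq (Nat.land a 128) 0) (cond (Nat.beq (Nat.land a 256) 0) (cond (Nat.beq (Nat.land a 512) 0) (cond (Nat.beq (Nat.land a 1024) 0) rl78 rl1102) (cond (Nat.beq (Nat.land a 1024) 0) rl590 rl1614)) (cond (Nat.beq (Nat.land a 512) 0) (cond (Nat.beq (Nat.land a 1024) 0) rl334 rl1358) (cond (Nat.beq (Nat.land a 1024) 0) rl846 rl1870))) (cond (Nat.beq (Nat.land a 256) 0) (cond (Nat.beq (Nat.land a 512) 0) (cond (Nat.beq (Nat.land a 1024) 0) rl206 rl1230) (cond (Nat.beq (Nat.land a 1024) 0) rl718 rl1742)) (cond (Nat.beq (Nat.land a 512) 0) (cond (Nat.beq (Nat.land a 1024) 0) rl462 rl1486) (cond (Nat.beq (Nat.land a 1024) 0) rl974 rl1998))))) (cond (Nat.beq (Nat.land a 64) 0) (cond (Nat.beq (Nat.land a 128) 0) (cond (Nat.beq (Nat.land a 256) 0) (cond (Nat.beq (Nat.land a 512) 0) (cond (Nat.beq (Nat.land a 1024) 0) rl46 rl1070) (cond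 (Nat.beq (Nat.land a 1024) 0) rl558 rl1582)) (cond (Nat.beq (Nat.land a 512) 0) (cond (Nat.beq (Nat.land a 1024) 0) rl302 rl1326) (cond (Nat.beq (Nat.land a 1024) 0) rl814 rl1838))) (cond (Nat.beq (Nat.land a 256) 0) (cond (Nat.beq (Nat.land a 512) 0) (cond (Nat.beq (Nat.land a 1024) 0) rl174 rl1198) (cond (Nat.beq (Nat.land a 1024) 0) rl686 rl1710)) (cond (Nat.beq (Nat.land a 512) 0) (cond (Nat.beq (Nat.land a 1024) 0) rl430 rl1454) (cond (Nat.beq (Nat.land a 1024) 0) rl942 rl1966)))) (cond (Nat.beq (Nat.land a 128) 0) (cond (Nat.beq (Nat.land a 256) 0) (cond (Nat.beq (Nat.land a 512) 0) (cond (Nat.beq (Nat.land a 1024) 0) rl110 rl1134) (cond (Nat.beq (Nat.land a 1024) 0) rl622 rl1646)) (cond (Nat.beq (Nat.land a 512) 0) (cond (Nat.beq (Nat.land a 1024) 0) rl366 rl1390) (cond (Nat.beq (Nat.land a 1024) 0) rl878 rl1902))) (cond (Nat.beq (Nat.land a 256) 0) (cond (Nat.beq (Nat.land a 512) 0) (cond (Nat.beq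 (Nat.land a 1024) 0) rl238 rl1262) (cond (Nat.beq (Nat.land a 1024) 0) rl750 rl1774)) (cond (Nat.beq (Nat.land a 512) 0) (cond (Nat.beq (Nat.land a 1024) 0) rl494 rl1518) (cond (Nat.beq (Nat.land a 1024) 0) rl1006 rl2030)))))) (cond (Nat.beq (Nat.land a 32) 0) (cond (Nat.beq (Nat.land a 64) 0) (cond (Nat.beq (Nat.land a 128) 0) (cond (Nat.beq (Nat.land a 256) 0) (cond (Nat.beq (Nat.land a 512) 0) (cond (Nat.beq (Nat.land a 1024) 0) rl30 rl1054) (cond (Nat.beq (Nat.land a 1024) 0) rl542 rl1566)) (cond (Nat.beq (Nat.land a 512) 0) (cond (Nat.beq (Nat.land a 1024) 0) rl286 rl1310) (cond (Nat.beq (Nat.land a 1024) 0) rl798 rl1822))) (cond (Nat.beq (Nat.land a 256) 0) (cond (Nat.beq (Nat.land a 512) 0) (cond (Nat.beq (Nat.land a 1024) 0) rl158 rl1182) (cond (Nat.beq (Nat.land a 1024) 0) rl670 rl1694)) (cond (Nat.beq (Nat.land a 512) 0) (cond (Nat.beq (Nat.land a 1024) 0) rl414 rl1438) (cond (Nat.beq (Nat.land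 a 1024) 0) rl926 rl1950)))) (cond (Nat.beq (Nat.land a 128) 0) (cond (Nat.beq (Nat.land a 256) 0) (cond (Nat.beq (Nat.land a 512) 0) (cond (Nat.beq (Nat.land a 1024) 0) rl94 rl1118) (cond (Nat.beq (Nat.land a 1024) 0) rl606 rl1630)) (cond (Nat.beq (Nat.land a 512) 0) (cond (Nat.beq (Nat.land a 1024) 0) rl350 rl1374) (cond (Nat.beq (Nat.land a 1024) 0) rl862 rl1886))) (cond (Nat.beq (Nat.land a 256) 0) (cond (Nat.beq (Nat.land a 512) 0) (cond (Nat.beq (Nat.land a 1024) 0) rl222 rl1246) (cond (Nat.beq (Nat.land a 1024) 0) rl734 rl1758)) (cond (Nat.beq (Nat.land a 512) 0) (cond (Nat.beq (Nat.land a 1024) 0) rl478 rl1502) (cond (Nat.beq (Nat.land a 1024) 0) rl990 rl2014))))) (cond (Nat.beq (Nat.land a 64) 0) (cond (Nat.beq (Nat.land a 128) 0) (cond (Nat.beq (Nat.land a 256) 0) (cond (Nat.beq (Nat.land a 512) 0) (cond (Nat.beq (Nat.land a 1024) 0) rl62 rl1086) (cond (Nat.beq (Nat.land a 1024) 0) rl574 rl1598))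 (cond (Nat.beq (Nat.land a 512) 0) (cond (Nat.beq (Nat.land a 1024) 0) rl318 rl1342) (cond (Nat.beq (Nat.land a 1024) 0) rl830 rl1854))) (cond (Nat.beq (Nat.land a 256) 0) (cond (Nat.beq (Nat.land a 512) 0) (cond (Nat.beq (Nat.land a 1024) 0) rl190 rl1214) (cond (Nat.beq (Nat.land a 1024) 0) rl702 rl1726)) (cond (Nat.beq (Nat.land a 512) 0) (cond (Nat.beq (Nat.land a 1024) 0) rl446 rl1470) (cond (Nat.beq (Nat.land a 1024) 0) rl958 rl1982)))) (cond (Nat.beq (Nat.land a 128) 0) (cond (Nat.beq (Nat.land a 256) 0) (cond (Nat.beq (Nat.land a 512) 0) (cond (Nat.beq (Nat.land a 1024) 0) rl126 rl1150) (cond (Nat.beq (Nat.land a 1024) 0) rl638 rl1662)) (cond (Nat.beq (Nat.land a 512) 0) (cond (Nat.beq (Nat.land a 1024) 0) rl382 rl1406) (cond (Nat.beq (Nat.land a 1024) 0) rl894 rl1918))) (cond (Nat.beq (Nat.land a 256) 0) (cond (Nat.beq (Nat.land a 512) 0) (cond (Nat.beq (Nat.land a 1024) 0) rl254 rl1278) (cond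 (Nat.beq (Nat.land a 1024) 0) rl766 rl1790)) (cond (Nat.beq (Nat.land a 512) 0) (cond (Nat.beq (Nat.land a 1024) 0) rl510 rl1534) (cond (Nat.beq (Nat.land a 1024) 0) rl1022 rl2046)))))))))) (cond (Nat.beq (Nat.land a 2) 0) (cond (Nat.beq (Nat.land a 4) 0) (cond (Nat.beq (Nat.land a 8) 0) (cond (Nat.beq (Nat.land a 16) 0) (cond (Nat.beq (Nat.land a 32) 0) (cond (Nat.beq (Nat.land a 64) 0) (cond (Nat.beq (Nat.land a 128) 0) (cond (Nat.beq (Nat.land a 256) 0) (cond (Nat.beq (Nat.land a 512) 0) (cond (Nat.beq (Nat.land a 1024) 0) rl1 rl1025) (cond (Nat.beq (Nat.land a 1024) 0) rl513 rl1537)) (cond (Nat.beq (Nat.land a 512) 0) (cond (Nat.beq (Nat.land a 1024) 0) rl257 rl1281) (cond (Nat.beq (Nat.land a 1024) 0) rl769 rl1793))) (cond (Nat.beq (Nat.land a 256) 0) (cond (Nat.beq (Nat.land a 512) 0) (cond (Nat.beq (Nat.land a 1024) 0) rl129 rl1153) (cond (Nat.beq (Nat.land a 1024) 0) rl641 rl1665)) (cond (Nat.beq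 (Nat.land a 512) 0) (cond (Nat.beq (Nat.land a 1024) 0) rl385 rl1409) (cond (Nat.beq (Nat.land a 1024) 0) rl897 rl1921)))) (cond (Nat.beq (Nat.land a 128) 0) (cond (Nat.beq (Nat.land a 256) 0) (cond (Nat.beq (Nat.land a 512) 0) (cond (Nat.beq (Nat.land a 1024) 0) rl65 rl1089) (cond (Nat.beq (Nat.land a 1024) 0) rl577 rl1601)) (cond (Nat.beq (Nat.land a 512) 0) (cond (Nat.beq (Nat.land a 1024) 0) rl321 rl1345) (cond (Nat.beq (Nat.land a 1024) 0) rl833 rl1857))) (cond (Nat.beq (Nat.land a 256) 0) (cond (Nat.beq (Nat.land a 512) 0) (cond (Nat.beq (Nat.land a 1024) 0) rl193 rl1217) (cond (Nat.beq (Nat.land a 1024) 0) rl705 rl1729)) (cond (Nat.beq (Nat.land a 512) 0) (cond (Nat.beq (Nat.land a 1024) 0) rl449 rl1473) (cond (Nat.beq (Nat.land a 1024) 0) rl961 rl1985))))) (cond (Nat.beq (Nat.land a 64) 0) (cond (Nat.beq (Nat.land a 128) 0) (cond (Nat.beq (Nat.land a 256) 0) (cond (Nat.beq (Nat.land a 512) 0)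 (cond (Nat.beq (Nat.land a 1024) 0) rl33 rl1057) (cond (Nat.beq (Nat.land a 1024) 0) rl545 rl1569)) (cond (Nat.beq (Nat.land a 512) 0) (cond (Nat.beq (Nat.land a 1024) 0) rl289 rl1313) (cond (Nat.beq (Nat.land a 1024) 0) rl801 rl1825))) (cond (Nat.beq (Nat.land a 256) 0) (cond (Nat.beq (Nat.land a 512) 0) (cond (Nat.beq (Nat.land a 1024) 0) rl161 rl1185) (cond (Nat.beq (Nat.land a 1024) 0) rl673 rl1697)) (cond (Nat.beq (Nat.land a 512) 0) (cond (Nat.beq (Nat.land a 1024) 0) rl417 rl1441) (cond (Nat.beq (Nat.land a 1024) 0) rl929 rl1953)))) (cond (Nat.beq (Nat.land a 128) 0) (cond (Nat.beq (Nat.land a 256) 0) (cond (Nat.beq (Nat.land a 512) 0) (cond (Nat.beq (Nat.land a 1024) 0) rl97 rl1121) (cond (Nat.beq (Nat.land a 1024) 0) rl609 rl1633)) (cond (Nat.beq (Nat.land a 512) 0) (cond (Nat.beq (Nat.land a 1024) 0) rl353 rl1377) (cond (Nat.beq (Nat.land a 1024) 0) rl865 rl1889))) (cond (Nat.beq (Nat.land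 a 256) 0) (cond (Nat.beq (Nat.land a 512) 0) (cond (Nat.beq (Nat.land a 1024) 0) rl225 rl1249) (cond (Nat.beq (Nat.land a 1024) 0) rl737 rl1761)) (cond (Nat.beq (Nat.land a 512) 0) (cond (Nat.beq (Nat.land a 1024) 0) rl481 rl1505) (cond (Nat.beq (Nat.land a 1024) 0) rl993 rl2017)))))) (cond (Nat.beq (Nat.land a 32) 0) (cond (Nat.beq (Nat.land a 64) 0) (cond (Nat.beq (Nat.land a 128) 0) (cond (Nat.beq (Nat.land a 256) 0) (cond (Nat.beq (Nat.land a 512) 0) (cond (Nat.beq (Nat.land a 1024) 0) rl17 rl1041) (cond (Nat.beq (Nat.land a 1024) 0) rl529 rl1553)) (cond (Nat.beq (Nat.land a 512) 0) (cond (Nat.beq (Nat.land a 1024) 0) rl273 rl1297) (cond (Nat.beq (Nat.land a 1024) 0) rl785 rl1809))) (cond (Nat.beq (Nat.land a 256) 0) (cond (Nat.beq (Nat.land a 512) 0) (cond (Nat.beq (Nat.land a 1024) 0) rl145 rl1169) (cond (Nat.beq (Nat.land a 1024) 0) rl657 rl1681)) (cond (Nat.beq (Nat.land a 512) 0) (cond (Nat.beq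 (Nat.land a 1024) 0) rl401 rl1425) (cond (Nat.beq (Nat.land a 1024) 0) rl913 rl1937)))) (cond (Nat.beq (Nat.land a 128) 0) (cond (Nat.beq (Nat.land a 256) 0) (cond (Nat.beq (Nat.land a 512) 0) (cond (Nat.beq (Nat.land a 1024) 0) rl81 rl1105) (cond (Nat.beq (Nat.land a 1024) 0) rl593 rl1617)) (cond (Nat.beq (Nat.land a 512) 0) (cond (Nat.beq (Nat.land a 1024) 0) rl337 rl1361) (cond (Nat.beq (Nat.land a 1024) 0) rl849 rl1873))) (cond (Nat.beq (Nat.land a 256) 0) (cond (Nat.beq (Nat.land a 512) 0) (cond (Nat.beq (Nat.land a 1024) 0) rl209 rl1233) (cond (Nat.beq (Nat.land a 1024) 0) rl721 rl1745)) (cond (Nat.beq (Nat.land a 512) 0) (cond (Nat.beq (Nat.land a 1024) 0) rl465 rl1489) (cond (Nat.beq (Nat.land a 1024) 0) rl977 rl2001))))) (cond (Nat.beq (Nat.land a 64) 0) (cond (Nat.beq (Nat.land a 128) 0) (cond (Nat.beq (Nat.land a 256) 0) (cond (Nat.beq (Nat.land a 512) 0) (cond (Nat.beq (Nat.land a 1024)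 0) rl49 rl1073) (cond (Nat.beq (Nat.land a 1024) 0) rl561 rl1585)) (cond (Nat.beq (Nat.land a 512) 0) (cond (Nat.beq (Nat.land a 1024) 0) rl305 rl1329) (cond (Nat.beq (Nat.land a 1024) 0) rl817 rl1841))) (cond (Nat.beq (Nat.land a 256) 0) (cond (Nat.beq (Nat.land a 512) 0) (cond (Nat.beq (Nat.land a 1024) 0) rl177 rl1201) (cond (Nat.beq (Nat.land a 1024) 0) rl689 rl1713)) (cond (Nat.beq (Nat.land a 512) 0) (cond (Nat.beq (Nat.land a 1024) 0) rl433 rl1457) (cond (Nat.beq (Nat.land a 1024) 0) rl945 rl1969)))) (cond (Nat.beq (Nat.land a 128) 0) (cond (Nat.beq (Nat.land a 256) 0) (cond (Nat.beq (Nat.land a 512) 0) (cond (Nat.beq (Nat.land a 1024) 0) rl113 rl1137) (cond (Nat.beq (Nat.land a 1024) 0) rl625 rl1649)) (cond (Nat.beq (Nat.land a 512) 0) (cond (Nat.beq (Nat.land a 1024) 0) rl369 rl1393) (cond (Nat.beq (Nat.land a 1024) 0) rl881 rl1905))) (cond (Nat.beq (Nat.land a 256) 0) (cond (Nat.beq (Nat.land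 a 512) 0) (cond (Nat.beq (Nat.land a 1024) 0) rl241 rl1265) (cond (Nat.beq (Nat.land a 1024) 0) rl753 rl1777)) (cond (Nat.beq (Nat.land a 512) 0) (cond (Nat.beq (Nat.land a 1024) 0) rl497 rl1521) (cond (Nat.beq (Nat.land a 1024) 0) rl1009 rl2033))))))) (cond (Nat.beq (Nat.land a 16) 0) (cond (Nat.beq (Nat.land a 32) 0) (cond (Nat.beq (Nat.land a 64) 0) (cond (Nat.beq (Nat.land a 128) 0) (cond (Nat.beq (Nat.land a 256) 0) (cond (Nat.beq (Nat.land a 512) 0) (cond (Nat.beq (Nat.land a 1024) 0) rl9 rl1033) (cond (Nat.beq (Nat.land a 1024) 0) rl521 rl1545)) (cond (Nat.beq (Nat.land a 512) 0) (cond (Nat.beq (Nat.land a 1024) 0) rl265 rl1289) (cond (Nat.beq (Nat.land a 1024) 0) rl777 rl1801))) (cond (Nat.beq (Nat.land a 256) 0) (cond (Nat.beq (Nat.land a 512) 0) (cond (Nat.beq (Nat.land a 1024) 0) rl137 rl1161) (cond (Nat.beq (Nat.land a 1024) 0) rl649 rl1673)) (cond (Nat.beq (Nat.land a 512) 0) (cond (Nat.beq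 (Nat.land a 1024) 0) rl393 rl1417) (cond (Nat.beq (Nat.land a 1024) 0) rl905 rl1929)))) (cond (Nat.beq (Nat.land a 128) 0) (cond (Nat.beq (Nat.land a 256) 0) (cond (Nat.beq (Nat.land a 512) 0) (cond (Nat.beq (Nat.land a 1024) 0) rl73 rl1097) (cond (Nat.beq (Nat.land a 1024) 0) rl585 rl1609)) (cond (Nat.beq (Nat.land a 512) 0) (cond (Nat.beq (Nat.land a 1024) 0) rl329 rl1353) (cond (Nat.beq (Nat.land a 1024) 0) rl841 rl1865))) (cond (Nat.beq (Nat.land a 256) 0) (cond (Nat.beq (Nat.land a 512) 0) (cond (Nat.beq (Nat.land a 1024) 0) rl201 rl1225) (cond (Nat.beq (Nat.land a 1024) 0) rl713 rl1737)) (cond (Nat.beq (Nat.land a 512) 0) (cond (Nat.beq (Nat.land a 1024) 0) rl457 rl1481) (cond (Nat.beq (Nat.land a 1024) 0) rl969 rl1993))))) (cond (Nat.beq (Nat.land a 64) 0) (cond (Nat.beq (Nat.land a 128) 0) (cond (Nat.beq (Nat.land a 256) 0) (cond (Nat.beq (Nat.land a 512) 0) (cond (Nat.beq (Nat.land a 1024)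 0) rl41 rl1065) (cond (Nat.beq (Nat.land a 1024) 0) rl553 rl1577)) (cond (Nat.beq (Nat.land a 512) 0) (cond (Nat.beq (Nat.land a 1024) 0) rl297 rl1321) (cond (Nat.beq (Nat.land a 1024) 0) rl809 rl1833))) (cond (Nat.beq (Nat.land a 256) 0) (cond (Nat.beq (Nat.land a 512) 0) (cond (Nat.beq (Nat.land a 1024) 0) rl169 rl1193) (cond (Nat.beq (Nat.land a 1024) 0) rl681 rl1705)) (cond (Nat.beq (Nat.land a 512) 0) (cond (Nat.beq (Nat.land a 1024) 0) rl425 rl1449) (cond (Nat.beq (Nat.land a 1024) 0) rl937 rl1961)))) (cond (Nat.beq (Nat.land a 128) 0) (cond (Nat.beq (Nat.land a 256) 0) (cond (Nat.beq (Nat.land a 512) 0) (cond (Nat.beq (Nat.land a 1024) 0) rl105 rl1129) (cond (Nat.beq (Nat.land a 1024) 0) rl617 rl1641)) (cond (Nat.beq (Nat.land a 512) 0) (cond (Nat.beq (Nat.land a 1024) 0) rl361 rl1385) (cond (Nat.beq (Nat.land a 1024) 0) rl873 rl1897))) (cond (Nat.beq (Nat.land a 256) 0) (cond (Nat.beq (Nat.land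 a 512) 0) (cond (Nat.beq (Nat.land a 1024) 0) rl233 rl1257) (cond (Nat.beq (Nat.land a 1024) 0) rl745 rl1769)) (cond (Nat.beq (Nat.land a 512) 0) (cond (Nat.beq (Nat.land a 1024) 0) rl489 rl1513) (cond (Nat.beq (Nat.land a 1024) 0) rl1001 rl2025)))))) (cond (Nat.beq (Nat.land a 32) 0) (cond (Nat.beq (Nat.land a 64) 0) (cond (Nat.beq (Nat.land a 128) 0) (cond (Nat.beq (Nat.land a 256) 0) (cond (Nat.beq (Nat.land a 512) 0) (cond (Nat.beq (Nat.land a 1024) 0) rl25 rl1049) (cond (Nat.beq (Nat.land a 1024) 0) rl537 rl1561)) (cond (Nat.beq (Nat.land a 512) 0) (cond (Nat.beq (Nat.land a 1024) 0) rl281 rl1305) (cond (Nat.beq (Nat.land a 1024) 0) rl793 rl1817))) (cond (Nat.beq (Nat.land a 256) 0) (cond (Nat.beq (Nat.land a 512) 0) (cond (Nat.beq (Nat.land a 1024) 0) rl153 rl1177) (cond (Nat.beq (Nat.land a 1024) 0) rl665 rl1689)) (cond (Nat.beq (Nat.land a 512) 0) (cond (Nat.beq (Nat.land a 1024) 0) rl409 rl1433)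 (cond (Nat.beq (Nat.land a 1024) 0) rl921 rl1945)))) (cond (Nat.beq (Nat.land a 128) 0) (cond (Nat.beq (Nat.land a 256) 0) (cond (Nat.beq (Nat.land a 512) 0) (cond (Nat.beq (Nat.land a 1024) 0) rl89 rl1113) (cond (Nat.beq (Nat.land a 1024) 0) rl601 rl1625)) (cond (Nat.beq (Nat.land a 512) 0) (cond (Nat.beq (Nat.land a 1024) 0) rl345 rl1369) (cond (Nat.beq (Nat.land a 1024) 0) rl857 rl1881))) (cond (Nat.beq (Nat.land a 256) 0) (cond (Nat.beq (Nat.land a 512) 0) (cond (Nat.beq (Nat.land a 1024) 0) rl217 rl1241) (cond (Nat.beq (Nat.land a 1024) 0) rl729 rl1753)) (cond (Nat.beq (Nat.land a 512) 0) (cond (Nat.beq (Nat.land a 1024) 0) rl473 rl1497) (cond (Nat.beq (Nat.land a 1024) 0) rl985 rl2009))))) (cond (Nat.beq (Nat.land a 64) 0) (cond (Nat.beq (Nat.land a 128) 0) (cond (Nat.beq (Nat.land a 256) 0) (cond (Nat.beq (Nat.land a 512) 0) (cond (Nat.beq (Nat.land a 1024) 0) rl57 rl1081) (cond (Nat.beq (Nat.land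 a 1024) 0) rl569 rl1593)) (cond (Nat.beq (Nat.land a 512) 0) (cond (Nat.beq (Nat.land a 1024) 0) rl313 rl1337) (cond (Nat.beq (Nat.land a 1024) 0) rl825 rl1849))) (cond (Nat.beq (Nat.land a 256) 0) (cond (Nat.beq (Nat.land a 512) 0) (cond (Nat.beq (Nat.land a 1024) 0) rl185 rl1209) (cond (Nat.beq (Nat.land a 1024) 0) rl697 rl1721)) (cond (Nat.beq (Nat.land a 512) 0) (cond (Nat.beq (Nat.land a 1024) 0) rl441 rl1465) (cond (Nat.beq (Nat.land a 1024) 0) rl953 rl1977)))) (cond (Nat.beq (Nat.land a 128) 0) (cond (Nat.beq (Nat.land a 256) 0) (cond (Nat.beq (Nat.land a 512) 0) (cond (Nat.beq (Nat.land a 1024) 0) rl121 rl1145) (cond (Nat.beq (Nat.land a 1024) 0) rl633 rl1657)) (cond (Nat.beq (Nat.land a 512) 0) (cond (Nat.beq (Nat.land a 1024) 0) rl377 rl1401) (cond (Nat.beq (Nat.land a 1024) 0) rl889 rl1913))) (cond (Nat.beq (Nat.land a 256) 0) (cond (Nat.beq (Nat.land a 512) 0) (cond (Nat.beq (Nat.land a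 1024) 0) rl249 rl1273) (cond (Nat.beq (Nat.land a 1024) 0) rl761 rl1785)) (cond (Nat.beq (Nat.land a 512) 0) (cond (Nat.beq (Nat.land a 1024) 0) rl505 rl1529) (cond (Nat.beq (Nat.land a 1024) 0) rl1017 rl2041)))))))) (cond (Nat.beq (Nat.land a 8) 0) (cond (Nat.beq (Nat.land a 16) 0) (cond (Nat.beq (Nat.land a 32) 0) (cond (Nat.beq (Nat.land a 64) 0) (cond (Nat.beq (Nat.land a 128) 0) (cond (Nat.beq (Nat.land a 256) 0) (cond (Nat.beq (Nat.land a 512) 0) (cond (Nat.beq (Nat.land a 1024) 0) rl5 rl1029) (cond (Nat.beq (Nat.land a 1024) 0) rl517 rl1541)) (cond (Nat.beq (Nat.land a 512) 0) (cond (Nat.beq (Nat.land a 1024) 0) rl261 rl1285) (cond (Nat.beq (Nat.land a 1024) 0) rl773 rl1797))) (cond (Nat.beq (Nat.land a 256) 0) (cond (Nat.beq (Nat.land a 512) 0) (cond (Nat.beq (Nat.land a 1024) 0) rl133 rl1157) (cond (Nat.beq (Nat.land a 1024) 0) rl645 rl1669)) (cond (Nat.beq (Nat.land a 512) 0) (cond (Nat.beq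 (Nat.land a 1024) 0) rl389 rl1413) (cond (Nat.beq (Nat.land a 1024) 0) rl901 rl1925)))) (cond (Nat.beq (Nat.land a 128) 0) (cond (Nat.beq (Nat.land a 256) 0) (cond (Nat.beq (Nat.land a 512) 0) (cond (Nat.beq (Nat.land a 1024) 0) rl69 rl1093) (cond (Nat.beq (Nat.land a 1024) 0) rl581 rl1605)) (cond (Nat.beq (Nat.land a 512) 0) (cond (Nat.beq (Nat.land a 1024) 0) rl325 rl1349) (cond (Nat.beq (Nat.land a 1024) 0) rl837 rl1861))) (cond (Nat.beq (Nat.land a 256) 0) (cond (Nat.beq (Nat.land a 512) 0) (cond (Nat.beq (Nat.land a 1024) 0) rl197 rl1221) (cond (Nat.beq (Nat.land a 1024) 0) rl709 rl1733)) (cond (Nat.beq (Nat.land a 512) 0) (cond (Nat.beq (Nat.land a 1024) 0) rl453 rl1477) (cond (Nat.beq (Nat.land a 1024) 0) rl965 rl1989))))) (cond (Nat.beq (Nat.land a 64) 0) (cond (Nat.beq (Nat.land a 128) 0) (cond (Nat.beq (Nat.land a 256) 0) (cond (Nat.beq (Nat.land a 512) 0) (cond (Nat.beq (Nat.land a 1024)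 0) rl37 rl1061) (cond (Nat.beq (Nat.land a 1024) 0) rl549 rl1573)) (cond (Nat.beq (Nat.land a 512) 0) (cond (Nat.beq (Nat.land a 1024) 0) rl293 rl1317) (cond (Nat.beq (Nat.land a 1024) 0) rl805 rl1829))) (cond (Nat.beq (Nat.land a 256) 0) (cond (Nat.beq (Nat.land a 512) 0) (cond (Nat.beq (Nat.land a 1024) 0) rl165 rl1189) (cond (Nat.beq (Nat.land a 1024) 0) rl677 rl1701)) (cond (Nat.beq (Nat.land a 512) 0) (cond (Nat.beq (Nat.land a 1024) 0) rl421 rl1445) (cond (Nat.beq (Nat.land a 1024) 0) rl933 rl1957)))) (cond (Nat.beq (Nat.land a 128) 0) (cond (Nat.beq (Nat.land a 256) 0) (cond (Nat.beq (Nat.land a 512) 0) (cond (Nat.beq (Nat.land a 1024) 0) rl101 rl1125) (cond (Nat.beq (Nat.land a 1024) 0) rl613 rl1637)) (cond (Nat.beq (Nat.land a 512) 0) (cond (Nat.beq (Nat.land a 1024) 0) rl357 rl1381) (cond (Nat.beq (Nat.land a 1024) 0) rl869 rl1893))) (cond (Nat.beq (Nat.land a 256) 0) (cond (Nat.beq (Nat.land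 a 512) 0) (cond (Nat.beq (Nat.land a 1024) 0) rl229 rl1253) (cond (Nat.beq (Nat.land a 1024) 0) rl741 rl1765)) (cond (Nat.beq (Nat.land a 512) 0) (cond (Nat.beq (Nat.land a 1024) 0) rl485 rl1509) (cond (Nat.beq (Nat.land a 1024) 0) rl997 rl2021)))))) (cond (Nat.beq (Nat.land a 32) 0) (cond (Nat.beq (Nat.land a 64) 0) (cond (Nat.beq (Nat.land a 128) 0) (cond (Nat.beq (Nat.land a 256) 0) (cond (Nat.beq (Nat.land a 512) 0) (cond (Nat.beq (Nat.land a 1024) 0) rl21 rl1045) (cond (Nat.beq (Nat.land a 1024) 0) rl533 rl1557)) (cond (Nat.beq (Nat.land a 512) 0) (cond (Nat.beq (Nat.land a 1024) 0) rl277 rl1301) (cond (Nat.beq (Nat.land a 1024) 0) rl789 rl1813))) (cond (Nat.beq (Nat.land a 256) 0) (cond (Nat.beq (Nat.land a 512) 0) (cond (Nat.beq (Nat.land a 1024) 0) rl149 rl1173) (cond (Nat.beq (Nat.land a 1024) 0) rl661 rl1685)) (cond (Nat.beq (Nat.land a 512) 0) (cond (Nat.beq (Nat.land a 1024) 0) rl405 rl1429)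 (cond (Nat.beq (Nat.land a 1024) 0) rl917 rl1941)))) (cond (Nat.beq (Nat.land a 128) 0) (cond (Nat.beq (Nat.land a 256) 0) (cond (Nat.beq (Nat.land a 512) 0) (cond (Nat.beq (Nat.land a 1024) 0) rl85 rl1109) (cond (Nat.beq (Nat.land a 1024) 0) rl597 rl1621)) (cond (Nat.beq (Nat.land a 512) 0) (cond (Nat.beq (Nat.land a 1024) 0) rl341 rl1365) (cond (Nat.beq (Nat.land a 1024) 0) rl853 rl1877))) (cond (Nat.beq (Nat.land a 256) 0) (cond (Nat.beq (Nat.land a 512) 0) (cond (Nat.beq (Nat.land a 1024) 0) rl213 rl1237) (cond (Nat.beq (Nat.land a 1024) 0) rl725 rl1749)) (cond (Nat.beq (Nat.land a 512) 0) (cond (Nat.beq (Nat.land a 1024) 0) rl469 rl1493) (cond (Nat.beq (Nat.land a 1024) 0) rl981 rl2005))))) (cond (Nat.beq (Nat.land a 64) 0) (cond (Nat.beq (Nat.land a 128) 0) (cond (Nat.beq (Nat.land a 256) 0) (cond (Nat.beq (Nat.land a 512) 0) (cond (Nat.beq (Nat.land a 1024) 0) rl53 rl1077) (cond (Nat.beq (Nat.land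 a 1024) 0) rl565 rl1589)) (cond (Nat.beq (Nat.land a 512) 0) (cond (Nat.beq (Nat.land a 1024) 0) rl309 rl1333) (cond (Nat.beq (Nat.land a 1024) 0) rl821 rl1845))) (cond (Nat.beq (Nat.land a 256) 0) (cond (Nat.beq (Nat.land a 512) 0) (cond (Nat.beq (Nat.land a 1024) 0) rl181 rl1205) (cond (Nat.beq (Nat.land a 1024) 0) rl693 rl1717)) (cond (Nat.beq (Nat.land a 512) 0) (cond (Nat.beq (Nat.land a 1024) 0) rl437 rl1461) (cond (Nat.beq (Nat.land a 1024) 0) rl949 rl1973)))) (cond (Nat.beq (Nat.land a 128) 0) (cond (Nat.beq (Nat.land a 256) 0) (cond (Nat.beq (Nat.land a 512) 0) (cond (Nat.beq (Nat.land a 1024) 0) rl117 rl1141) (cond (Nat.beq (Nat.land a 1024) 0) rl629 rl1653)) (cond (Nat.beq (Nat.land a 512) 0) (cond (Nat.beq (Nat.land a 1024) 0) rl373 rl1397) (cond (Nat.beq (Nat.land a 1024) 0) rl885 rl1909))) (cond (Nat.beq (Nat.land a 256) 0) (cond (Nat.beq (Nat.land a 512) 0) (cond (Nat.beq (Nat.land a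 1024) 0) rl245 rl1269) (cond (Nat.beq (Nat.land a 1024) 0) rl757 rl1781)) (cond (Nat.beq (Nat.land a 512) 0) (cond (Nat.beq (Nat.land a 1024) 0) rl501 rl1525) (cond (Nat.beq (Nat.land a 1024) 0) rl1013 rl2037))))))) (cond (Nat.beq (Nat.land a 16) 0) (cond (Nat.beq (Nat.land a 32) 0) (cond (Nat.beq (Nat.land a 64) 0) (cond (Nat.beq (Nat.land a 128) 0) (cond (Nat.beq (Nat.land a 256) 0) (cond (Nat.beq (Nat.land a 512) 0) (cond (Nat.beq (Nat.land a 1024) 0) rl13 rl1037) (cond (Nat.beq (Nat.land a 1024) 0) rl525 rl1549)) (cond (Nat.beq (Nat.land a 512) 0) (cond (Nat.beq (Nat.land a 1024) 0) rl269 rl1293) (cond (Nat.beq (Nat.land a 1024) 0) rl781 rl1805))) (cond (Nat.beq (Nat.land a 256) 0) (cond (Nat.beq (Nat.land a 512) 0) (cond (Nat.beq (Nat.land a 1024) 0) rl141 rl1165) (cond (Nat.beq (Nat.land a 1024) 0) rl653 rl1677)) (cond (Nat.beq (Nat.land a 512) 0) (cond (Nat.beq (Nat.land a 1024) 0) rl397 rl1421)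 (cond (Nat.beq (Nat.land a 1024) 0) rl909 rl1933)))) (cond (Nat.beq (Nat.land a 128) 0) (cond (Nat.beq (Nat.land a 256) 0) (cond (Nat.beq (Nat.land a 512) 0) (cond (Nat.beq (Nat.land a 1024) 0) rl77 rl1101) (cond (Nat.beq (Nat.land a 1024) 0) rl589 rl1613)) (cond (Nat.beq (Nat.land a 512) 0) (cond (Nat.beq (Nat.land a 1024) 0) rl333 rl1357) (cond (Nat.beq (Nat.land a 1024) 0) rl845 rl1869))) (cond (Nat.beq (Nat.land a 256) 0) (cond (Nat.beq (Nat.land a 512) 0) (cond (Nat.beq (Nat.land a 1024) 0) rl205 rl1229) (cond (Nat.beq (Nat.land a 1024) 0) rl717 rl1741)) (cond (Nat.beq (Nat.land a 512) 0) (cond (Nat.beq (Nat.land a 1024) 0) rl461 rl1485) (cond (Nat.beq (Nat.land a 1024) 0) rl973 rl1997))))) (cond (Nat.beq (Nat.land a 64) 0) (cond (Nat.beq (Nat.land a 128) 0) (cond (Nat.beq (Nat.land a 256) 0) (cond (Nat.beq (Nat.land a 512) 0) (cond (Nat.beq (Nat.land a 1024) 0) rl45 rl1069) (cond (Nat.beq (Nat.land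 a 1024) 0) rl557 rl1581)) (cond (Nat.beq (Nat.land a 512) 0) (cond (Nat.beq (Nat.land a 1024) 0) rl301 rl1325) (cond (Nat.beq (Nat.land a 1024) 0) rl813 rl1837))) (cond (Nat.beq (Nat.land a 256) 0) (cond (Nat.beq (Nat.land a 512) 0) (cond (Nat.beq (Nat.land a 1024) 0) rl173 rl1197) (cond (Nat.beq (Nat.land a 1024) 0) rl685 rl1709)) (cond (Nat.beq (Nat.land a 512) 0) (cond (Nat.beq (Nat.land a 1024) 0) rl429 rl1453) (cond (Nat.beq (Nat.land a 1024) 0) rl941 rl1965)))) (cond (Nat.beq (Nat.land a 128) 0) (cond (Nat.beq (Nat.land a 256) 0) (cond (Nat.beq (Nat.land a 512) 0) (cond (Nat.beq (Nat.land a 1024) 0) rl109 rl1133) (cond (Nat.beq (Nat.land a 1024) 0) rl621 rl1645)) (cond (Nat.beq (Nat.land a 512) 0) (cond (Nat.beq (Nat.land a 1024) 0) rl365 rl1389) (cond (Nat.beq (Nat.land a 1024) 0) rl877 rl1901))) (cond (Nat.beq (Nat.land a 256) 0) (cond (Nat.beq (Nat.land a 512) 0) (cond (Nat.beq (Nat.land a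 1024) 0) rl237 rl1261) (cond (Nat.beq (Nat.land a 1024) 0) rl749 rl1773)) (cond (Nat.beq (Nat.land a 512) 0) (cond (Nat.beq (Nat.land a 1024) 0) rl493 rl1517) (cond (Nat.beq (Nat.land a 1024) 0) rl1005 rl2029)))))) (cond (Nat.beq (Nat.land a 32) 0) (cond (Nat.beq (Nat.land a 64) 0) (cond (Nat.beq (Nat.land a 128) 0) (cond (Nat.beq (Nat.land a 256) 0) (cond (Nat.beq (Nat.land a 512) 0) (cond (Nat.beq (Nat.land a 1024) 0) rl29 rl1053) (cond (Nat.beq (Nat.land a 1024) 0) rl541 rl1565)) (cond (Nat.beq (Nat.land a 512) 0) (cond (Nat.beq (Nat.land a 1024) 0) rl285 rl1309) (cond (Nat.beq (Nat.land a 1024) 0) rl797 rl1821))) (cond (Nat.beq (Nat.land a 256) 0) (cond (Nat.beq (Nat.land a 512) 0) (cond (Nat.beq (Nat.land a 1024) 0) rl157 rl1181) (cond (Nat.beq (Nat.land a 1024) 0) rl669 rl1693)) (cond (Nat.beq (Nat.land a 512) 0) (cond (Nat.beq (Nat.land a 1024) 0) rl413 rl1437) (cond (Nat.beq (Nat.land a 1024)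 0) rl925 rl1949)))) (cond (Nat.beq (Nat.land a 128) 0) (cond (Nat.beq (Nat.land a 256) 0) (cond (Nat.beq (Nat.land a 512) 0) (cond (Nat.beq (Nat.land a 1024) 0) rl93 rl1117) (cond (Nat.beq (Nat.land a 1024) 0) rl605 rl1629)) (cond (Nat.beq (Nat.land a 512) 0) (cond (Nat.beq (Nat.land a 1024) 0) rl349 rl1373) (cond (Nat.beq (Nat.land a 1024) 0) rl861 rl1885))) (cond (Nat.beq (Nat.land a 256) 0) (cond (Nat.beq (Nat.land a 512) 0) (cond (Nat.beq (Nat.land a 1024) 0) rl221 rl1245) (cond (Nat.beq (Nat.land a 1024) 0) rl733 rl1757)) (cond (Nat.beq (Nat.land a 512) 0) (cond (Nat.beq (Nat.land a 1024) 0) rl477 rl1501) (cond (Nat.beq (Nat.land a 1024) 0) rl989 rl2013))))) (cond (Nat.beq (Nat.land a 64) 0) (cond (Nat.beq (Nat.land a 128) 0) (cond (Nat.beq (Nat.land a 256) 0) (cond (Nat.beq (Nat.land a 512) 0) (cond (Nat.beq (Nat.land a 1024) 0) rl61 rl1085) (cond (Nat.beq (Nat.land a 1024) 0) rl573 rl1597)) (cond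 (Nat.beq (Nat.land a 512) 0) (cond (Nat.beq (Nat.land a 1024) 0) rl317 rl1341) (cond (Nat.beq (Nat.land a 1024) 0) rl829 rl1853))) (cond (Nat.beq (Nat.land a 256) 0) (cond (Nat.beq (Nat.land a 512) 0) (cond (Nat.beq (Nat.land a 1024) 0) rl189 rl1213) (cond (Nat.beq (Nat.land a 1024) 0) rl701 rl1725)) (cond (Nat.beq (Nat.land a 512) 0) (cond (Nat.beq (Nat.land a 1024) 0) rl445 rl1469) (cond (Nat.beq (Nat.land a 1024) 0) rl957 rl1981)))) (cond (Nat.beq (Nat.land a 128) 0) (cond (Nat.beq (Nat.land a 256) 0) (cond (Nat.beq (Nat.land a 512) 0) (cond (Nat.beq (Nat.land a 1024) 0) rl125 rl1149) (cond (Nat.beq (Nat.land a 1024) 0) rl637 rl1661)) (cond (Nat.beq (Nat.land a 512) 0) (cond (Nat.beq (Nat.land a 1024) 0) rl381 rl1405) (cond (Nat.beq (Nat.land a 1024) 0) rl893 rl1917))) (cond (Nat.beq (Nat.land a 256) 0) (cond (Nat.beq (Nat.land a 512) 0) (cond (Nat.beq (Nat.land a 1024) 0) rl253 rl1277) (cond (Nat.beq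 (Nat.land a 1024) 0) rl765 rl1789)) (cond (Nat.beq (Nat.land a 512) 0) (cond (Nat.beq (Nat.land a 1024) 0) rl509 rl1533) (cond (Nat.beq (Nat.land a 1024) 0) rl1021 rl2045))))))))) (cond (Nat.beq (Nat.land a 4) 0) (cond (Nat.beq (Nat.land a 8) 0) (cond (Nat.beq (Nat.land a 16) 0) (cond (Nat.beq (Nat.land a 32) 0) (cond (Nat.beq (Nat.land a 64) 0) (cond (Nat.beq (Nat.land a 128) 0) (cond (Nat.beq (Nat.land a 256) 0) (cond (Nat.beq (Nat.land a 512) 0) (cond (Nat.beq (Nat.land a 1024) 0) rl3 rl1027) (cond (Nat.beq (Nat.land a 1024) 0) rl515 rl1539)) (cond (Nat.beq (Nat.land a 512) 0) (cond (Nat.beq (Nat.land a 1024) 0) rl259 rl1283) (cond (Nat.beq (Nat.land a 1024) 0) rl771 rl1795))) (cond (Nat.beq (Nat.land a 256) 0) (cond (Nat.beq (Nat.land a 512) 0) (cond (Nat.beq (Nat.land a 1024) 0) rl131 rl1155) (cond (Nat.beq (Nat.land a 1024) 0) rl643 rl1667)) (cond (Nat.beq (Nat.land a 512) 0) (cond (Nat.beq (Nat.land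 a 1024) 0) rl387 rl1411) (cond (Nat.beq (Nat.land a 1024) 0) rl899 rl1923)))) (cond (Nat.beq (Nat.land a 128) 0) (cond (Nat.beq (Nat.land a 256) 0) (cond (Nat.beq (Nat.land a 512) 0) (cond (Nat.beq (Nat.land a 1024) 0) rl67 rl1091) (cond (Nat.beq (Nat.land a 1024) 0) rl579 rl1603)) (cond (Nat.beq (Nat.land a 512) 0) (cond (Nat.beq (Nat.land a 1024) 0) rl323 rl1347) (cond (Nat.beq (Nat.land a 1024) 0) rl835 rl1859))) (cond (Nat.beq (Nat.land a 256) 0) (cond (Nat.beq (Nat.land a 512) 0) (cond (Nat.beq (Nat.land a 1024) 0) rl195 rl1219) (cond (Nat.beq (Nat.land a 1024) 0) rl707 rl1731)) (cond (Nat.beq (Nat.land a 512) 0) (cond (Nat.beq (Nat.land a 1024) 0) rl451 rl1475) (cond (Nat.beq (Nat.land a 1024) 0) rl963 rl1987))))) (cond (Nat.beq (Nat.land a 64) 0) (cond (Nat.beq (Nat.land a 128) 0) (cond (Nat.beq (Nat.land a 256) 0) (cond (Nat.beq (Nat.land a 512) 0) (cond (Nat.beq (Nat.land a 1024) 0) rl35 rl1059)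 (cond (Nat.beq (Nat.land a 1024) 0) rl547 rl1571)) (cond (Nat.beq (Nat.land a 512) 0) (cond (Nat.beq (Nat.land a 1024) 0) rl291 rl1315) (cond (Nat.beq (Nat.land a 1024) 0) rl803 rl1827))) (cond (Nat.beq (Nat.land a 256) 0) (cond (Nat.beq (Nat.land a 512) 0) (cond (Nat.beq (Nat.land a 1024) 0) rl163 rl1187) (cond (Nat.beq (Nat.land a 1024) 0) rl675 rl1699)) (cond (Nat.beq (Nat.land a 512) 0) (cond (Nat.beq (Nat.land a 1024) 0) rl419 rl1443) (cond (Nat.beq (Nat.land a 1024) 0) rl931 rl1955)))) (cond (Nat.beq (Nat.land a 128) 0) (cond (Nat.beq (Nat.land a 256) 0) (cond (Nat.beq (Nat.land a 512) 0) (cond (Nat.beq (Nat.land a 1024) 0) rl99 rl1123) (cond (Nat.beq (Nat.land a 1024) 0) rl611 rl1635)) (cond (Nat.beq (Nat.land a 512) 0) (cond (Nat.beq (Nat.land a 1024) 0) rl355 rl1379) (cond (Nat.beq (Nat.land a 1024) 0) rl867 rl1891))) (cond (Nat.beq (Nat.land a 256) 0) (cond (Nat.beq (Nat.land a 512) 0) (cond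 (Nat.beq (Nat.land a 1024) 0) rl227 rl1251) (cond (Nat.beq (Nat.land a 1024) 0) rl739 rl1763)) (cond (Nat.beq (Nat.land a 512) 0) (cond (Nat.beq (Nat.land a 1024) 0) rl483 rl1507) (cond (Nat.beq (Nat.land a 1024) 0) rl995 rl2019)))))) (cond (Nat.beq (Nat.land a 32) 0) (cond (Nat.beq (Nat.land a 64) 0) (cond (Nat.beq (Nat.land a 128) 0) (cond (Nat.beq (Nat.land a 256) 0) (cond (Nat.beq (Nat.land a 512) 0) (cond (Nat.beq (Nat.land a 1024) 0) rl19 rl1043) (cond (Nat.beq (Nat.land a 1024) 0) rl531 rl1555)) (cond (Nat.beq (Nat.land a 512) 0) (cond (Nat.beq (Nat.land a 1024) 0) rl275 rl1299) (cond (Nat.beq (Nat.land a 1024) 0) rl787 rl1811))) (cond (Nat.beq (Nat.land a 256) 0) (cond (Nat.beq (Nat.land a 512) 0) (cond (Nat.beq (Nat.land a 1024) 0) rl147 rl1171) (cond (Nat.beq (Nat.land a 1024) 0) rl659 rl1683)) (cond (Nat.beq (Nat.land a 512) 0) (cond (Nat.beq (Nat.land a 1024) 0) rl403 rl1427) (cond (Nat.beq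 (Nat.land a 1024) 0) rl915 rl1939)))) (cond (Nat.beq (Nat.land a 128) 0) (cond (Nat.beq (Nat.land a 256) 0) (cond (Nat.beq (Nat.land a 512) 0) (cond (Nat.beq (Nat.land a 1024) 0) rl83 rl1107) (cond (Nat.beq (Nat.land a 1024) 0) rl595 rl1619)) (cond (Nat.beq (Nat.land a 512) 0) (cond (Nat.beq (Nat.land a 1024) 0) rl339 rl1363) (cond (Nat.beq (Nat.land a 1024) 0) rl851 rl1875))) (cond (Nat.beq (Nat.land a 256) 0) (cond (Nat.beq (Nat.land a 512) 0) (cond (Nat.beq (Nat.land a 1024) 0) rl211 rl1235) (cond (Nat.beq (Nat.land a 1024) 0) rl723 rl1747)) (cond (Nat.beq (Nat.land a 512) 0) (cond (Nat.beq (Nat.land a 1024) 0) rl467 rl1491) (cond (Nat.beq (Nat.land a 1024) 0) rl979 rl2003))))) (cond (Nat.beq (Nat.land a 64) 0) (cond (Nat.beq (Nat.land a 128) 0) (cond (Nat.beq (Nat.land a 256) 0) (cond (Nat.beq (Nat.land a 512) 0) (cond (Nat.beq (Nat.land a 1024) 0) rl51 rl1075) (cond (Nat.beq (Nat.land a 1024) 0)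 rl563 rl1587)) (cond (Nat.beq (Nat.land a 512) 0) (cond (Nat.beq (Nat.land a 1024) 0) rl307 rl1331) (cond (Nat.beq (Nat.land a 1024) 0) rl819 rl1843))) (cond (Nat.beq (Nat.land a 256) 0) (cond (Nat.beq (Nat.land a 512) 0) (cond (Nat.beq (Nat.land a 1024) 0) rl179 rl1203) (cond (Nat.beq (Nat.land a 1024) 0) rl691 rl1715)) (cond (Nat.beq (Nat.land a 512) 0) (cond (Nat.beq (Nat.land a 1024) 0) rl435 rl1459) (cond (Nat.beq (Nat.land a 1024) 0) rl947 rl1971)))) (cond (Nat.beq (Nat.land a 128) 0) (cond (Nat.beq (Nat.land a 256) 0) (cond (Nat.beq (Nat.land a 512) 0) (cond (Nat.beq (Nat.land a 1024) 0) rl115 rl1139) (cond (Nat.beq (Nat.land a 1024) 0) rl627 rl1651)) (cond (Nat.beq (Nat.land a 512) 0) (cond (Nat.beq (Nat.land a 1024) 0) rl371 rl1395) (cond (Nat.beq (Nat.land a 1024) 0) rl883 rl1907))) (cond (Nat.beq (Nat.land a 256) 0) (cond (Nat.beq (Nat.land a 512) 0) (cond (Nat.beq (Nat.land a 1024) 0) rl243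 rl1267) (cond (Nat.beq (Nat.land a 1024) 0) rl755 rl1779)) (cond (Nat.beq (Nat.land a 512) 0) (cond (Nat.beq (Nat.land a 1024) 0) rl499 rl1523) (cond (Nat.beq (Nat.land a 1024) 0) rl1011 rl2035))))))) (cond (Nat.beq (Nat.land a 16) 0) (cond (Nat.beq (Nat.land a 32) 0) (cond (Nat.beq (Nat.land a 64) 0) (cond (Nat.beq (Nat.land a 128) 0) (cond (Nat.beq (Nat.land a 256) 0) (cond (Nat.beq (Nat.land a 512) 0) (cond (Nat.beq (Nat.land a 1024) 0) rl11 rl1035) (cond (Nat.beq (Nat.land a 1024) 0) rl523 rl1547)) (cond (Nat.beq (Nat.land a 512) 0) (cond (Nat.beq (Nat.land a 1024) 0) rl267 rl1291) (cond (Nat.beq (Nat.land a 1024) 0) rl779 rl1803))) (cond (Nat.beq (Nat.land a 256) 0) (cond (Nat.beq (Nat.land a 512) 0) (cond (Nat.beq (Nat.land a 1024) 0) rl139 rl1163) (cond (Nat.beq (Nat.land a 1024) 0) rl651 rl1675)) (cond (Nat.beq (Nat.land a 512) 0) (cond (Nat.beq (Nat.land a 1024) 0) rl395 rl1419) (cond (Nat.beq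 (Nat.land a 1024) 0) rl907 rl1931)))) (cond (Nat.beq (Nat.land a 128) 0) (cond (Nat.beq (Nat.land a 256) 0) (cond (Nat.beq (Nat.land a 512) 0) (cond (Nat.beq (Nat.land a 1024) 0) rl75 rl1099) (cond (Nat.beq (Nat.land a 1024) 0) rl587 rl1611)) (cond (Nat.beq (Nat.land a 512) 0) (cond (Nat.beq (Nat.land a 1024) 0) rl331 rl1355) (cond (Nat.beq (Nat.land a 1024) 0) rl843 rl1867))) (cond (Nat.beq (Nat.land a 256) 0) (cond (Nat.beq (Nat.land a 512) 0) (cond (Nat.beq (Nat.land a 1024) 0) rl203 rl1227) (cond (Nat.beq (Nat.land a 1024) 0) rl715 rl1739)) (cond (Nat.beq (Nat.land a 512) 0) (cond (Nat.beq (Nat.land a 1024) 0) rl459 rl1483) (cond (Nat.beq (Nat.land a 1024) 0) rl971 rl1995))))) (cond (Nat.beq (Nat.land a 64) 0) (cond (Nat.beq (Nat.land a 128) 0) (cond (Nat.beq (Nat.land a 256) 0) (cond (Nat.beq (Nat.land a 512) 0) (cond (Nat.beq (Nat.land a 1024) 0) rl43 rl1067) (cond (Nat.beq (Nat.land a 1024) 0)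 rl555 rl1579)) (cond (Nat.beq (Nat.land a 512) 0) (cond (Nat.beq (Nat.land a 1024) 0) rl299 rl1323) (cond (Nat.beq (Nat.land a 1024) 0) rl811 rl1835))) (cond (Nat.beq (Nat.land a 256) 0) (cond (Nat.beq (Nat.land a 512) 0) (cond (Nat.beq (Nat.land a 1024) 0) rl171 rl1195) (cond (Nat.beq (Nat.land a 1024) 0) rl683 rl1707)) (cond (Nat.beq (Nat.land a 512) 0) (cond (Nat.beq (Nat.land a 1024) 0) rl427 rl1451) (cond (Nat.beq (Nat.land a 1024) 0) rl939 rl1963)))) (cond (Nat.beq (Nat.land a 128) 0) (cond (Nat.beq (Nat.land a 256) 0) (cond (Nat.beq (Nat.land a 512) 0) (cond (Nat.beq (Nat.land a 1024) 0) rl107 rl1131) (cond (Nat.beq (Nat.land a 1024) 0) rl619 rl1643)) (cond (Nat.beq (Nat.land a 512) 0) (cond (Nat.beq (Nat.land a 1024) 0) rl363 rl1387) (cond (Nat.beq (Nat.land a 1024) 0) rl875 rl1899))) (cond (Nat.beq (Nat.land a 256) 0) (cond (Nat.beq (Nat.land a 512) 0) (cond (Nat.beq (Nat.land a 1024) 0) rl235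 rl1259) (cond (Nat.beq (Nat.land a 1024) 0) rl747 rl1771)) (cond (Nat.beq (Nat.land a 512) 0) (cond (Nat.beq (Nat.land a 1024) 0) rl491 rl1515) (cond (Nat.beq (Nat.land a 1024) 0) rl1003 rl2027)))))) (cond (Nat.beq (Nat.land a 32) 0) (cond (Nat.beq (Nat.land a 64) 0) (cond (Nat.beq (Nat.land a 128) 0) (cond (Nat.beq (Nat.land a 256) 0) (cond (Nat.beq (Nat.land a 512) 0) (cond (Nat.beq (Nat.land a 1024) 0) rl27 rl1051) (cond (Nat.beq (Nat.land a 1024) 0) rl539 rl1563)) (cond (Nat.beq (Nat.land a 512) 0) (cond (Nat.beq (Nat.land a 1024) 0) rl283 rl1307) (cond (Nat.beq (Nat.land a 1024) 0) rl795 rl1819))) (cond (Nat.beq (Nat.land a 256) 0) (cond (Nat.beq (Nat.land a 512) 0) (cond (Nat.beq (Nat.land a 1024) 0) rl155 rl1179) (cond (Nat.beq (Nat.land a 1024) 0) rl667 rl1691)) (cond (Nat.beq (Nat.land a 512) 0) (cond (Nat.beq (Nat.land a 1024) 0) rl411 rl1435) (cond (Nat.beq (Nat.land a 1024) 0) rl923 rl1947))))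 (cond (Nat.beq (Nat.land a 128) 0) (cond (Nat.beq (Nat.land a 256) 0) (cond (Nat.beq (Nat.land a 512) 0) (cond (Nat.beq (Nat.land a 1024) 0) rl91 rl1115) (cond (Nat.beq (Nat.land a 1024) 0) rl603 rl1627)) (cond (Nat.beq (Nat.land a 512) 0) (cond (Nat.beq (Nat.land a 1024) 0) rl347 rl1371) (cond (Nat.beq (Nat.land a 1024) 0) rl859 rl1883))) (cond (Nat.beq (Nat.land a 256) 0) (cond (Nat.beq (Nat.land a 512) 0) (cond (Nat.beq (Nat.land a 1024) 0) rl219 rl1243) (cond (Nat.beq (Nat.land a 1024) 0) rl731 rl1755)) (cond (Nat.beq (Nat.land a 512) 0) (cond (Nat.beq (Nat.land a 1024) 0) rl475 rl1499) (cond (Nat.beq (Nat.land a 1024) 0) rl987 rl2011))))) (cond (Nat.beq (Nat.land a 64) 0) (cond (Nat.beq (Nat.land a 128) 0) (cond (Nat.beq (Nat.land a 256) 0) (cond (Nat.beq (Nat.land a 512) 0) (cond (Nat.beq (Nat.land a 1024) 0) rl59 rl1083) (cond (Nat.beq (Nat.land a 1024) 0) rl571 rl1595)) (cond (Nat.beq (Nat.land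 a 512) 0) (cond (Nat.beq (Nat.land a 1024) 0) rl315 rl1339) (cond (Nat.beq (Nat.land a 1024) 0) rl827 rl1851))) (cond (Nat.beq (Nat.land a 256) 0) (cond (Nat.beq (Nat.land a 512) 0) (cond (Nat.beq (Nat.land a 1024) 0) rl187 rl1211) (cond (Nat.beq (Nat.land a 1024) 0) rl699 rl1723)) (cond (Nat.beq (Nat.land a 512) 0) (cond (Nat.beq (Nat.land a 1024) 0) rl443 rl1467) (cond (Nat.beq (Nat.land a 1024) 0) rl955 rl1979)))) (cond (Nat.beq (Nat.land a 128) 0) (cond (Nat.beq (Nat.land a 256) 0) (cond (Nat.beq (Nat.land a 512) 0) (cond (Nat.beq (Nat.land a 1024) 0) rl123 rl1147) (cond (Nat.beq (Nat.land a 1024) 0) rl635 rl1659)) (cond (Nat.beq (Nat.land a 512) 0) (cond (Nat.beq (Nat.land a 1024) 0) rl379 rl1403) (cond (Nat.beq (Nat.land a 1024) 0) rl891 rl1915))) (cond (Nat.beq (Nat.land a 256) 0) (cond (Nat.beq (Nat.land a 512) 0) (cond (Nat.beq (Nat.land a 1024) 0) rl251 rl1275) (cond (Nat.beq (Nat.land a 1024)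 0) rl763 rl1787)) (cond (Nat.beq (Nat.land a 512) 0) (cond (Nat.beq (Nat.land a 1024) 0) rl507 rl1531) (cond (Nat.beq (Nat.land a 1024) 0) rl1019 rl2043)))))))) (cond (Nat.beq (Nat.land a 8) 0) (cond (Nat.beq (Nat.land a 16) 0) (cond (Nat.beq (Nat.land a 32) 0) (cond (Nat.beq (Nat.land a 64) 0) (cond (Nat.beq (Nat.land a 128) 0) (cond (Nat.beq (Nat.land a 256) 0) (cond (Nat.beq (Nat.land a 512) 0) (cond (Nat.beq (Nat.land a 1024) 0) rl7 rl1031) (cond (Nat.beq (Nat.land a 1024) 0) rl519 rl1543)) (cond (Nat.beq (Nat.land a 512) 0) (cond (Nat.beq (Nat.land a 1024) 0) rl263 rl1287) (cond (Nat.beq (Nat.land a 1024) 0) rl775 rl1799))) (cond (Nat.beq (Nat.land a 256) 0) (cond (Nat.beq (Nat.land a 512) 0) (cond (Nat.beq (Nat.land a 1024) 0) rl135 rl1159) (cond (Nat.beq (Nat.land a 1024) 0) rl647 rl1671)) (cond (Nat.beq (Nat.land a 512) 0) (cond (Nat.beq (Nat.land a 1024) 0) rl391 rl1415) (cond (Nat.beq (Nat.land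 a 1024) 0) rl903 rl1927)))) (cond (Nat.beq (Nat.land a 128) 0) (cond (Nat.beq (Nat.land a 256) 0) (cond (Nat.beq (Nat.land a 512) 0) (cond (Nat.beq (Nat.land a 1024) 0) rl71 rl1095) (cond (Nat.beq (Nat.land a 1024) 0) rl583 rl1607)) (cond (Nat.beq (Nat.land a 512) 0) (cond (Nat.beq (Nat.land a 1024) 0) rl327 rl1351) (cond (Nat.beq (Nat.land a 1024) 0) rl839 rl1863))) (cond (Nat.beq (Nat.land a 256) 0) (cond (Nat.beq (Nat.land a 512) 0) (cond (Nat.beq (Nat.land a 1024) 0) rl199 rl1223) (cond (Nat.beq (Nat.land a 1024) 0) rl711 rl1735)) (cond (Nat.beq (Nat.land a 512) 0) (cond (Nat.beq (Nat.land a 1024) 0) rl455 rl1479) (cond (Nat.beq (Nat.land a 1024) 0) rl967 rl1991))))) (cond (Nat.beq (Nat.land a 64) 0) (cond (Nat.beq (Nat.land a 128) 0) (cond (Nat.beq (Nat.land a 256) 0) (cond (Nat.beq (Nat.land a 512) 0) (cond (Nat.beq (Nat.land a 1024) 0) rl39 rl1063) (cond (Nat.beq (Nat.land a 1024) 0) rl551 rl1575))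 (cond (Nat.beq (Nat.land a 512) 0) (cond (Nat.beq (Nat.land a 1024) 0) rl295 rl1319) (cond (Nat.beq (Nat.land a 1024) 0) rl807 rl1831))) (cond (Nat.beq (Nat.land a 256) 0) (cond (Nat.beq (Nat.land a 512) 0) (cond (Nat.beq (Nat.land a 1024) 0) rl167 rl1191) (cond (Nat.beq (Nat.land a 1024) 0) rl679 rl1703)) (cond (Nat.beq (Nat.land a 512) 0) (cond (Nat.beq (Nat.land a 1024) 0) rl423 rl1447) (cond (Nat.beq (Nat.land a 1024) 0) rl935 rl1959)))) (cond (Nat.beq (Nat.land a 128) 0) (cond (Nat.beq (Nat.land a 256) 0) (cond (Nat.beq (Nat.land a 512) 0) (cond (Nat.beq (Nat.land a 1024) 0) rl103 rl1127) (cond (Nat.beq (Nat.land a 1024) 0) rl615 rl1639)) (cond (Nat.beq (Nat.land a 512) 0) (cond (Nat.beq (Nat.land a 1024) 0) rl359 rl1383) (cond (Nat.beq (Nat.land a 1024) 0) rl871 rl1895))) (cond (Nat.beq (Nat.land a 256) 0) (cond (Nat.beq (Nat.land a 512) 0) (cond (Nat.beq (Nat.land a 1024) 0) rl231 rl1255) (cond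 (Nat.beq (Nat.land a 1024) 0) rl743 rl1767)) (cond (Nat.beq (Nat.land a 512) 0) (cond (Nat.beq (Nat.land a 1024) 0) rl487 rl1511) (cond (Nat.beq (Nat.land a 1024) 0) rl999 rl2023)))))) (cond (Nat.beq (Nat.land a 32) 0) (cond (Nat.beq (Nat.land a 64) 0) (cond (Nat.beq (Nat.land a 128) 0) (cond (Nat.beq (Nat.land a 256) 0) (cond (Nat.beq (Nat.land a 512) 0) (cond (Nat.beq (Nat.land a 1024) 0) rl23 rl1047) (cond (Nat.beq (Nat.land a 1024) 0) rl535 rl1559)) (cond (Nat.beq (Nat.land a 512) 0) (cond (Nat.beq (Nat.land a 1024) 0) rl279 rl1303) (cond (Nat.beq (Nat.land a 1024) 0) rl791 rl1815))) (cond (Nat.beq (Nat.land a 256) 0) (cond (Nat.beq (Nat.land a 512) 0) (cond (Nat.beq (Nat.land a 1024) 0) rl151 rl1175) (cond (Nat.beq (Nat.land a 1024) 0) rl663 rl1687)) (cond (Nat.beq (Nat.land a 512) 0) (cond (Nat.beq (Nat.land a 1024) 0) rl407 rl1431) (cond (Nat.beq (Nat.land a 1024) 0) rl919 rl1943)))) (cond (Nat.beq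 (Nat.land a 128) 0) (cond (Nat.beq (Nat.land a 256) 0) (cond (Nat.beq (Nat.land a 512) 0) (cond (Nat.beq (Nat.land a 1024) 0) rl87 rl1111) (cond (Nat.beq (Nat.land a 1024) 0) rl599 rl1623)) (cond (Nat.beq (Nat.land a 512) 0) (cond (Nat.beq (Nat.land a 1024) 0) rl343 rl1367) (cond (Nat.beq (Nat.land a 1024) 0) rl855 rl1879))) (cond (Nat.beq (Nat.land a 256) 0) (cond (Nat.beq (Nat.land a 512) 0) (cond (Nat.beq (Nat.land a 1024) 0) rl215 rl1239) (cond (Nat.beq (Nat.land a 1024) 0) rl727 rl1751)) (cond (Nat.beq (Nat.land a 512) 0) (cond (Nat.beq (Nat.land a 1024) 0) rl471 rl1495) (cond (Nat.beq (Nat.land a 1024) 0) rl983 rl2007))))) (cond (Nat.beq (Nat.land a 64) 0) (cond (Nat.beq (Nat.land a 128) 0) (cond (Nat.beq (Nat.land a 256) 0) (cond (Nat.beq (Nat.land a 512) 0) (cond (Nat.beq (Nat.land a 1024) 0) rl55 rl1079) (cond (Nat.beq (Nat.land a 1024) 0) rl567 rl1591)) (cond (Nat.beq (Nat.land a 512) 0) (cond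 (Nat.beq (Nat.land a 1024) 0) rl311 rl1335) (cond (Nat.beq (Nat.land a 1024) 0) rl823 rl1847))) (cond (Nat.beq (Nat.land a 256) 0) (cond (Nat.beq (Nat.land a 512) 0) (cond (Nat.beq (Nat.land a 1024) 0) rl183 rl1207) (cond (Nat.beq (Nat.land a 1024) 0) rl695 rl1719)) (cond (Nat.beq (Nat.land a 512) 0) (cond (Nat.beq (Nat.land a 1024) 0) rl439 rl1463) (cond (Nat.beq (Nat.land a 1024) 0) rl951 rl1975)))) (cond (Nat.beq (Nat.land a 128) 0) (cond (Nat.beq (Nat.land a 256) 0) (cond (Nat.beq (Nat.land a 512) 0) (cond (Nat.beq (Nat.land a 1024) 0) rl119 rl1143) (cond (Nat.beq (Nat.land a 1024) 0) rl631 rl1655)) (cond (Nat.beq (Nat.land a 512) 0) (cond (Nat.beq (Nat.land a 1024) 0) rl375 rl1399) (cond (Nat.beq (Nat.land a 1024) 0) rl887 rl1911))) (cond (Nat.beq (Nat.land a 256) 0) (cond (Nat.beq (Nat.land a 512) 0) (cond (Nat.beq (Nat.land a 1024) 0) rl247 rl1271) (cond (Nat.beq (Nat.land a 1024) 0) rl759 rl1783))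 (cond (Nat.beq (Nat.land a 512) 0) (cond (Nat.beq (Nat.land a 1024) 0) rl503 rl1527) (cond (Nat.beq (Nat.land a 1024) 0) rl1015 rl2039))))))) (cond (Nat.beq (Nat.land a 16) 0) (cond (Nat.beq (Nat.land a 32) 0) (cond (Nat.beq (Nat.land a 64) 0) (cond (Nat.beq (Nat.land a 128) 0) (cond (Nat.beq (Nat.land a 256) 0) (cond (Nat.beq (Nat.land a 512) 0) (cond (Nat.beq (Nat.land a 1024) 0) rl15 rl1039) (cond (Nat.beq (Nat.land a 1024) 0) rl527 rl1551)) (cond (Nat.beq (Nat.land a 512) 0) (cond (Nat.beq (Nat.land a 1024) 0) rl271 rl1295) (cond (Nat.beq (Nat.land a 1024) 0) rl783 rl1807))) (cond (Nat.beq (Nat.land a 256) 0) (cond (Nat.beq (Nat.land a 512) 0) (cond (Nat.beq (Nat.land a 1024) 0) rl143 rl1167) (cond (Nat.beq (Nat.land a 1024) 0) rl655 rl1679)) (cond (Nat.beq (Nat.land a 512) 0) (cond (Nat.beq (Nat.land a 1024) 0) rl399 rl1423) (cond (Nat.beq (Nat.land a 1024) 0) rl911 rl1935)))) (cond (Nat.beq (Nat.land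 a 128) 0) (cond (Nat.beq (Nat.land a 256) 0) (cond (Nat.beq (Nat.land a 512) 0) (cond (Nat.beq (Nat.land a 1024) 0) rl79 rl1103) (cond (Nat.beq (Nat.land a 1024) 0) rl591 rl1615)) (cond (Nat.beq (Nat.land a 512) 0) (cond (Nat.beq (Nat.land a 1024) 0) rl335 rl1359) (cond (Nat.beq (Nat.land a 1024) 0) rl847 rl1871))) (cond (Nat.beq (Nat.land a 256) 0) (cond (Nat.beq (Nat.land a 512) 0) (cond (Nat.beq (Nat.land a 1024) 0) rl207 rl1231) (cond (Nat.beq (Nat.land a 1024) 0) rl719 rl1743)) (cond (Nat.beq (Nat.land a 512) 0) (cond (Nat.beq (Nat.land a 1024) 0) rl463 rl1487) (cond (Nat.beq (Nat.land a 1024) 0) rl975 rl1999))))) (cond (Nat.beq (Nat.land a 64) 0) (cond (Nat.beq (Nat.land a 128) 0) (cond (Nat.beq (Nat.land a 256) 0) (cond (Nat.beq (Nat.land a 512) 0) (cond (Nat.beq (Nat.land a 1024) 0) rl47 rl1071) (cond (Nat.beq (Nat.land a 1024) 0) rl559 rl1583)) (cond (Nat.beq (Nat.land a 512) 0) (cond (Nat.beq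 (Nat.land a 1024) 0) rl303 rl1327) (cond (Nat.beq (Nat.land a 1024) 0) rl815 rl1839))) (cond (Nat.beq (Nat.land a 256) 0) (cond (Nat.beq (Nat.land a 512) 0) (cond (Nat.beq (Nat.land a 1024) 0) rl175 rl1199) (cond (Nat.beq (Nat.land a 1024) 0) rl687 rl1711)) (cond (Nat.beq (Nat.land a 512) 0) (cond (Nat.beq (Nat.land a 1024) 0) rl431 rl1455) (cond (Nat.beq (Nat.land a 1024) 0) rl943 rl1967)))) (cond (Nat.beq (Nat.land a 128) 0) (cond (Nat.beq (Nat.land a 256) 0) (cond (Nat.beq (Nat.land a 512) 0) (cond (Nat.beq (Nat.land a 1024) 0) rl111 rl1135) (cond (Nat.beq (Nat.land a 1024) 0) rl623 rl1647)) (cond (Nat.beq (Nat.land a 512) 0) (cond (Nat.beq (Nat.land a 1024) 0) rl367 rl1391) (cond (Nat.beq (Nat.land a 1024) 0) rl879 rl1903))) (cond (Nat.beq (Nat.land a 256) 0) (cond (Nat.beq (Nat.land a 512) 0) (cond (Nat.beq (Nat.land a 1024) 0) rl239 rl1263) (cond (Nat.beq (Nat.land a 1024) 0) rl751 rl1775)) (cond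 (Nat.beq (Nat.land a 512) 0) (cond (Nat.beq (Nat.land a 1024) 0) rl495 rl1519) (cond (Nat.beq (Nat.land a 1024) 0) rl1007 rl2031)))))) (cond (Nat.beq (Nat.land a 32) 0) (cond (Nat.beq (Nat.land a 64) 0) (cond (Nat.beq (Nat.land a 128) 0) (cond (Nat.beq (Nat.land a 256) 0) (cond (Nat.beq (Nat.land a 512) 0) (cond (Nat.beq (Nat.land a 1024) 0) rl31 rl1055) (cond (Nat.beq (Nat.land a 1024) 0) rl543 rl1567)) (cond (Nat.beq (Nat.land a 512) 0) (cond (Nat.beq (Nat.land a 1024) 0) rl287 rl1311) (cond (Nat.beq (Nat.land a 1024) 0) rl799 rl1823))) (cond (Nat.beq (Nat.land a 256) 0) (cond (Nat.beq (Nat.land a 512) 0) (cond (Nat.beq (Nat.land a 1024) 0) rl159 rl1183) (cond (Nat.beq (Nat.land a 1024) 0) rl671 rl1695)) (cond (Nat.beq (Nat.land a 512) 0) (cond (Nat.beq (Nat.land a 1024) 0) rl415 rl1439) (cond (Nat.beq (Nat.land a 1024) 0) rl927 rl1951)))) (cond (Nat.beq (Nat.land a 128) 0) (cond (Nat.beq (Nat.land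 a 256) 0) (cond (Nat.beq (Nat.land a 512) 0) (cond (Nat.beq (Nat.land a 1024) 0) rl95 rl1119) (cond (Nat.beq (Nat.land a 1024) 0) rl607 rl1631)) (cond (Nat.beq (Nat.land a 512) 0) (cond (Nat.beq (Nat.land a 1024) 0) rl351 rl1375) (cond (Nat.beq (Nat.land a 1024) 0) rl863 rl1887))) (cond (Nat.beq (Nat.land a 256) 0) (cond (Nat.beq (Nat.land a 512) 0) (cond (Nat.beq (Nat.land a 1024) 0) rl223 rl1247) (cond (Nat.beq (Nat.land a 1024) 0) rl735 rl1759)) (cond (Nat.beq (Nat.land a 512) 0) (cond (Nat.beq (Nat.land a 1024) 0) rl479 rl1503) (cond (Nat.beq (Nat.land a 1024) 0) rl991 rl2015))))) (cond (Nat.beq (Nat.land a 64) 0) (cond (Nat.beq (Nat.land a 128) 0) (cond (Nat.beq (Nat.land a 256) 0) (cond (Nat.beq (Nat.land a 512) 0) (cond (Nat.beq (Nat.land a 1024) 0) rl63 rl1087) (cond (Nat.beq (Nat.land a 1024) 0) rl575 rl1599)) (cond (Nat.beq (Nat.land a 512) 0) (cond (Nat.beq (Nat.land a 1024) 0) rl319 rl1343)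 (cond (Nat.beq (Nat.land a 1024) 0) rl831 rl1855))) (cond (Nat.beq (Nat.land a 256) 0) (cond (Nat.beq (Nat.land a 512) 0) (cond (Nat.beq (Nat.land a 1024) 0) rl191 rl1215) (cond (Nat.beq (Nat.land a 1024) 0) rl703 rl1727)) (cond (Nat.beq (Nat.land a 512) 0) (cond (Nat.beq (Nat.land a 1024) 0) rl447 rl1471) (cond (Nat.beq (Nat.land a 1024) 0) rl959 rl1983)))) (cond (Nat.beq (Nat.land a 128) 0) (cond (Nat.beq (Nat.land a 256) 0) (cond (Nat.beq (Nat.land a 512) 0) (cond (Nat.beq (Nat.land a 1024) 0) rl127 rl1151) (cond (Nat.beq (Nat.land a 1024) 0) rl639 rl1663)) (cond (Nat.beq (Nat.land a 512) 0) (cond (Nat.beq (Nat.land a 1024) 0) rl383 rl1407) (cond (Nat.beq (Nat.land a 1024) 0) rl895 rl1919))) (cond (Nat.beq (Nat.land a 256) 0) (cond (Nat.beq (Nat.land a 512) 0) (cond (Nat.beq (Nat.land a 1024) 0) rl255 rl1279) (cond (Nat.beq (Nat.land a 1024) 0) rl767 rl1791)) (cond (Nat.beq (Nat.land a 512) 0) (cond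 (Nat.beq (Nat.land a 1024) 0) rl511 rl1535) (cond (Nat.beq (Nat.land a 1024) 0) rl1023 rl2047)))))))))))

/-- a row of the table -/
noncomputable def rowOf (a : ℕ) : ℕ :=
  strictN a fun a' => Nat.shiftRight (rowSel a') (Nat.mul 2148 (Nat.shiftRight a' 11))

/-- a word -/
noncomputable def wordOf (i : ℕ) : List ℕ :=
  strictN (Nat.land (Nat.shiftRight relP (Nat.mul 136 i)) 87112285931760246646623899502532662132735) fun v =>
    unp (Nat.land v 255) (Nat.shiftRight v 8)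

/-- the certificate -/
noncomputable def cert : VCert where
  n := 33792
  g := 6
  k := 15
  nW := 3519
  B := 2048
  iv := fun x => Nat.xor x 1
  sub := fun x => Nat.beq x 0 || Nat.beq x 1 || Nat.beq x 2 || Nat.beq x 3
  sl := fun a x => Nat.land (Nat.shiftRight (rowOf a) (Nat.mul 354 x)) 36695977855841144185773134324833391052745039826692497979801421430190766017415756929120296849762010984873983
  pr := fun a => Nat.land (Nat.shiftRight (rowOf a) 2124) 16777215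
  W := wordOf
  rhs := fun i => Nat.land (Nat.shiftRight rhsP (Nat.mul 300 i)) 2037035976334486086268445688409378161051468393665936250636140449354381299763336706183397375
  wT := fun i => Nat.land (Nat.shiftRight wtaP (Nat.mul 32 i)) 4095
  wA := fun i => Nat.land (Nat.shiftRight wtaP (Nat.add (Nat.mul 32 i) 12)) 1048575

/-- the check of the rows from `lo` to `lo + k` -/
noncomputable def rowsOK (lo k : ℕ) : Bool := allN k fun i => allN 6 fun x => cert.slotOK (Nat.add lo i) x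

/-- the check of the words -/
noncomputable def wordsOK : Bool := allN 3519 fun i => cert.wordOK i

end Cfsg.Agent.Lib.Helper7.U62MX
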