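import Cfsg.Agent.Lib.Helper7.U62MXC
import Cfsg.Agent.Lib.Helper7.U62MXK19

/-! # The multiplier of the unitary group of degree six over the field of four elements, the table of the unitary subgroup of degree five over a subgroup of order 405: the check of the rows 28512 to 29567 of the certificate (generated) -/

set_option autoImplicit false
set_option maxRecDepth 100000

namespace Cfsg.Agent.Lib.Helper7.U62MX

theorem rows_ok_216 : rowsOK 28512 132 = true := by decide +kernel

theorem rows_ok_217 : rowsOK 28644 132 = true := by decide +kernel

theorem rows_ok_218 : rowsOK 28776 132 = true := by decide +kernel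

theorem rows_ok_219 : rowsOK 28908 132 = true := by decide +kernel

theorem rows_ok_220 : rowsOK 29040 132 = true := by decide +kernel

theorem rows_ok_221 : rowsOK 29172 132 = true := by decide +kernel

theorem rows_ok_222 : rowsOK 29304 132 = true := by decide +kernel

theorem rows_ok_223 : rowsOK 29436 132 = true := by decide +kernel

end Cfsg.Agent.Lib.Helper7.U62MX
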