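import Cfsg.Agent.Lib.Helper7.U62MYT0
import Cfsg.Agent.Lib.Helper7.U62MYT1
import Cfsg.Agent.Lib.Helper7.U62MYT2
import Cfsg.Agent.Lib.Helper7.U62MYT3
import Cfsg.Agent.Lib.Helper7.U62MYT4
import Cfsg.Agent.Lib.Helper7.U62MYT5
import Cfsg.Agent.Lib.Helper7.U62MYT6
import Cfsg.Agent.Lib.Helper7.U62MYT7
import Cfsg.Agent.Lib.Helper7.U62MYR
import Cfsg.Agent.Lib.Helper7.MGenC

/-! # The multiplier of the unitary group of degree six over the field of four elements, the table of the unitary subgroup of degree five over a Sylow 2-subgroup: the certificate of the enumeration of the cosets (generated) -/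

set_option autoImplicit false

namespace Cfsg.Agent.Lib.Helper7.U62MY

open Cfsg.Agent.Lib.Helper7.MG Cfsg.Agent.Lib.Helper7.HSMult

/-- the part of the table that contains a row -/
noncomputable def rowSel (a : ℕ) : ℕ := (cond (Nat.beq (Nat.land a 1) 0) (cond (Nat.beq (Nat.land a 2) 0) (cond (Nat.beq (Nat.land a 4) 0) (cond (Nat.beq (Nat.land a 8) 0) (cond (Nat.beq (Nat.land a 16) 0) (cond (Nat.beq (Nat.land a 32) 0) (cond (Nat.beq (Nat.land a 64) 0) (cond (Nat.beq (Nat.land a 128) 0) (cond (Nat.beq (Nat.land a 256) 0) (cond (Nat.beq (Nat.land a 512) 0) rl0 rl512) (cond (Nat.beq (Nat.land a 512) 0) rl256 rl768)) (cond (Nat.beq (Nat.land a 256) 0) (cond (Nat.beq (Nat.land a 512) 0) rl128 rl640) (cond (Nat.beq (Nat.land a 512) 0) rl384 rl896))) (cond (Nat.beq (Nat.land a 128) 0) (cond (Nat.beq (Nat.land a 256) 0) (cond (Nat.beq (Nat.land a 512) 0) rl64 rl576) (cond (Nat.beq (Nat.land a 512) 0) rl320 rl832)) (cond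 (Nat.beq (Nat.land a 256) 0) (cond (Nat.beq (Nat.land a 512) 0) rl192 rl704) (cond (Nat.beq (Nat.land a 512) 0) rl448 rl960)))) (cond (Nat.beq (Nat.land a 64) 0) (cond (Nat.beq (Nat.land a 128) 0) (cond (Nat.beq (Nat.land a 256) 0) (cond (Nat.beq (Nat.land a 512) 0) rl32 rl544) (cond (Nat.beq (Nat.land a 512) 0) rl288 rl800)) (cond (Nat.beq (Nat.land a 256) 0) (cond (Nat.beq (Nat.land a 512) 0) rl160 rl672) (cond (Nat.beq (Nat.land a 512) 0) rl416 rl928))) (cond (Nat.beq (Nat.land a 128) 0) (cond (Nat.beq (Nat.land a 256) 0) (cond (Nat.beq (Nat.land a 512) 0) rl96 rl608) (cond (Nat.beq (Nat.land a 512) 0) rl352 rl864)) (cond (Nat.beq (Nat.land a 256) 0) (cond (Nat.beq (Nat.land a 512) 0) rl224 rl736) (cond (Nat.beq (Nat.land a 512) 0) rl480 rl992))))) (cond (Nat.beq (Nat.land a 32) 0) (cond (Nat.beq (Nat.land a 64) 0) (cond (Nat.beq (Nat.land a 128) 0) (cond (Nat.beq (Nat.land a 256) 0) (cond (Nat.beq (Nat.land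 a 512) 0) rl16 rl528) (cond (Nat.beq (Nat.land a 512) 0) rl272 rl784)) (cond (Nat.beq (Nat.land a 256) 0) (cond (Nat.beq (Nat.land a 512) 0) rl144 rl656) (cond (Nat.beq (Nat.land a 512) 0) rl400 rl912))) (cond (Nat.beq (Nat.land a 128) 0) (cond (Nat.beq (Nat.land a 256) 0) (cond (Nat.beq (Nat.land a 512) 0) rl80 rl592) (cond (Nat.beq (Nat.land a 512) 0) rl336 rl848)) (cond (Nat.beq (Nat.land a 256) 0) (cond (Nat.beq (Nat.land a 512) 0) rl208 rl720) (cond (Nat.beq (Nat.land a 512) 0) rl464 rl976)))) (cond (Nat.beq (Nat.land a 64) 0) (cond (Nat.beq (Nat.land a 128) 0) (cond (Nat.beq (Nat.land a 256) 0) (cond (Nat.beq (Nat.land a 512) 0) rl48 rl560) (cond (Nat.beq (Nat.land a 512) 0) rl304 rl816)) (cond (Nat.beq (Nat.land a 256) 0) (cond (Nat.beq (Nat.land a 512) 0) rl176 rl688) (cond (Nat.beq (Nat.land a 512) 0) rl432 rl944))) (cond (Nat.beq (Nat.land a 128) 0) (cond (Nat.beq (Nat.land a 256) 0) (cond (Nat.beq (Nat.land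 a 512) 0) rl112 rl624) (cond (Nat.beq (Nat.land a 512) 0) rl368 rl880)) (cond (Nat.beq (Nat.land a 256) 0) (cond (Nat.beq (Nat.land a 512) 0) rl240 rl752) (cond (Nat.beq (Nat.land a 512) 0) rl496 rl1008)))))) (cond (Nat.beq (Nat.land a 16) 0) (cond (Nat.beq (Nat.land a 32) 0) (cond (Nat.beq (Nat.land a 64) 0) (cond (Nat.beq (Nat.land a 128) 0) (cond (Nat.beq (Nat.land a 256) 0) (cond (Nat.beq (Nat.land a 512) 0) rl8 rl520) (cond (Nat.beq (Nat.land a 512) 0) rl264 rl776)) (cond (Nat.beq (Nat.land a 256) 0) (cond (Nat.beq (Nat.land a 512) 0) rl136 rl648) (cond (Nat.beq (Nat.land a 512) 0) rl392 rl904))) (cond (Nat.beq (Nat.land a 128) 0) (cond (Nat.beq (Nat.land a 256) 0) (cond (Nat.beq (Nat.land a 512) 0) rl72 rl584) (cond (Nat.beq (Nat.land a 512) 0) rl328 rl840)) (cond (Nat.beq (Nat.land a 256) 0) (cond (Nat.beq (Nat.land a 512) 0) rl200 rl712) (cond (Nat.beq (Nat.land a 512) 0) rl456 rl968)))) (cond (Nat.beq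 (Nat.land a 64) 0) (cond (Nat.beq (Nat.land a 128) 0) (cond (Nat.beq (Nat.land a 256) 0) (cond (Nat.beq (Nat.land a 512) 0) rl40 rl552) (cond (Nat.beq (Nat.land a 512) 0) rl296 rl808)) (cond (Nat.beq (Nat.land a 256) 0) (cond (Nat.beq (Nat.land a 512) 0) rl168 rl680) (cond (Nat.beq (Nat.land a 512) 0) rl424 rl936))) (cond (Nat.beq (Nat.land a 128) 0) (cond (Nat.beq (Nat.land a 256) 0) (cond (Nat.beq (Nat.land a 512) 0) rl104 rl616) (cond (Nat.beq (Nat.land a 512) 0) rl360 rl872)) (cond (Nat.beq (Nat.land a 256) 0) (cond (Nat.beq (Nat.land a 512) 0) rl232 rl744) (cond (Nat.beq (Nat.land a 512) 0) rl488 rl1000))))) (cond (Nat.beq (Nat.land a 32) 0) (cond (Nat.beq (Nat.land a 64) 0) (cond (Nat.beq (Nat.land a 128) 0) (cond (Nat.beq (Nat.land a 256) 0) (cond (Nat.beq (Nat.land a 512) 0) rl24 rl536) (cond (Nat.beq (Nat.land a 512) 0) rl280 rl792)) (cond (Nat.beq (Nat.land a 256) 0) (cond (Nat.beq (Nat.land a 512) 0)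 rl152 rl664) (cond (Nat.beq (Nat.land a 512) 0) rl408 rl920))) (cond (Nat.beq (Nat.land a 128) 0) (cond (Nat.beq (Nat.land a 256) 0) (cond (Nat.beq (Nat.land a 512) 0) rl88 rl600) (cond (Nat.beq (Nat.land a 512) 0) rl344 rl856)) (cond (Nat.beq (Nat.land a 256) 0) (cond (Nat.beq (Nat.land a 512) 0) rl216 rl728) (cond (Nat.beq (Nat.land a 512) 0) rl472 rl984)))) (cond (Nat.beq (Nat.land a 64) 0) (cond (Nat.beq (Nat.land a 128) 0) (cond (Nat.beq (Nat.land a 256) 0) (cond (Nat.beq (Nat.land a 512) 0) rl56 rl568) (cond (Nat.beq (Nat.land a 512) 0) rl312 rl824)) (cond (Nat.beq (Nat.land a 256) 0) (cond (Nat.beq (Nat.land a 512) 0) rl184 rl696) (cond (Nat.beq (Nat.land a 512) 0) rl440 rl952))) (cond (Nat.beq (Nat.land a 128) 0) (cond (Nat.beq (Nat.land a 256) 0) (cond (Nat.beq (Nat.land a 512) 0) rl120 rl632) (cond (Nat.beq (Nat.land a 512) 0) rl376 rl888)) (cond (Nat.beq (Nat.land a 256) 0) (cond (Nat.beq (Nat.land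 a 512) 0) rl248 rl760) (cond (Nat.beq (Nat.land a 512) 0) rl504 rl1016))))))) (cond (Nat.beq (Nat.land a 8) 0) (cond (Nat.beq (Nat.land a 16) 0) (cond (Nat.beq (Nat.land a 32) 0) (cond (Nat.beq (Nat.land a 64) 0) (cond (Nat.beq (Nat.land a 128) 0) (cond (Nat.beq (Nat.land a 256) 0) (cond (Nat.beq (Nat.land a 512) 0) rl4 rl516) (cond (Nat.beq (Nat.land a 512) 0) rl260 rl772)) (cond (Nat.beq (Nat.land a 256) 0) (cond (Nat.beq (Nat.land a 512) 0) rl132 rl644) (cond (Nat.beq (Nat.land a 512) 0) rl388 rl900))) (cond (Nat.beq (Nat.land a 128) 0) (cond (Nat.beq (Nat.land a 256) 0) (cond (Nat.beq (Nat.land a 512) 0) rl68 rl580) (cond (Nat.beq (Nat.land a 512) 0) rl324 rl836)) (cond (Nat.beq (Nat.land a 256) 0) (cond (Nat.beq (Nat.land a 512) 0) rl196 rl708) (cond (Nat.beq (Nat.land a 512) 0) rl452 rl964)))) (cond (Nat.beq (Nat.land a 64) 0) (cond (Nat.beq (Nat.land a 128) 0) (cond (Nat.beq (Nat.land a 256) 0) (cond (Nat.beq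 (Nat.land a 512) 0) rl36 rl548) (cond (Nat.beq (Nat.land a 512) 0) rl292 rl804)) (cond (Nat.beq (Nat.land a 256) 0) (cond (Nat.beq (Nat.land a 512) 0) rl164 rl676) (cond (Nat.beq (Nat.land a 512) 0) rl420 rl932))) (cond (Nat.beq (Nat.land a 128) 0) (cond (Nat.beq (Nat.land a 256) 0) (cond (Nat.beq (Nat.land a 512) 0) rl100 rl612) (cond (Nat.beq (Nat.land a 512) 0) rl356 rl868)) (cond (Nat.beq (Nat.land a 256) 0) (cond (Nat.beq (Nat.land a 512) 0) rl228 rl740) (cond (Nat.beq (Nat.land a 512) 0) rl484 rl996))))) (cond (Nat.beq (Nat.land a 32) 0) (cond (Nat.beq (Nat.land a 64) 0) (cond (Nat.beq (Nat.land a 128) 0) (cond (Nat.beq (Nat.land a 256) 0) (cond (Nat.beq (Nat.land a 512) 0) rl20 rl532) (cond (Nat.beq (Nat.land a 512) 0) rl276 rl788)) (cond (Nat.beq (Nat.land a 256) 0) (cond (Nat.beq (Nat.land a 512) 0) rl148 rl660) (cond (Nat.beq (Nat.land a 512) 0) rl404 rl916))) (cond (Nat.beq (Nat.land a 128) 0) (cond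 (Nat.beq (Nat.land a 256) 0) (cond (Nat.beq (Nat.land a 512) 0) rl84 rl596) (cond (Nat.beq (Nat.land a 512) 0) rl340 rl852)) (cond (Nat.beq (Nat.land a 256) 0) (cond (Nat.beq (Nat.land a 512) 0) rl212 rl724) (cond (Nat.beq (Nat.land a 512) 0) rl468 rl980)))) (cond (Nat.beq (Nat.land a 64) 0) (cond (Nat.beq (Nat.land a 128) 0) (cond (Nat.beq (Nat.land a 256) 0) (cond (Nat.beq (Nat.land a 512) 0) rl52 rl564) (cond (Nat.beq (Nat.land a 512) 0) rl308 rl820)) (cond (Nat.beq (Nat.land a 256) 0) (cond (Nat.beq (Nat.land a 512) 0) rl180 rl692) (cond (Nat.beq (Nat.land a 512) 0) rl436 rl948))) (cond (Nat.beq (Nat.land a 128) 0) (cond (Nat.beq (Nat.land a 256) 0) (cond (Nat.beq (Nat.land a 512) 0) rl116 rl628) (cond (Nat.beq (Nat.land a 512) 0) rl372 rl884)) (cond (Nat.beq (Nat.land a 256) 0) (cond (Nat.beq (Nat.land a 512) 0) rl244 rl756) (cond (Nat.beq (Nat.land a 512) 0) rl500 rl1012)))))) (cond (Nat.beq (Nat.land a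 16) 0) (cond (Nat.beq (Nat.land a 32) 0) (cond (Nat.beq (Nat.land a 64) 0) (cond (Nat.beq (Nat.land a 128) 0) (cond (Nat.beq (Nat.land a 256) 0) (cond (Nat.beq (Nat.land a 512) 0) rl12 rl524) (cond (Nat.beq (Nat.land a 512) 0) rl268 rl780)) (cond (Nat.beq (Nat.land a 256) 0) (cond (Nat.beq (Nat.land a 512) 0) rl140 rl652) (cond (Nat.beq (Nat.land a 512) 0) rl396 rl908))) (cond (Nat.beq (Nat.land a 128) 0) (cond (Nat.beq (Nat.land a 256) 0) (cond (Nat.beq (Nat.land a 512) 0) rl76 rl588) (cond (Nat.beq (Nat.land a 512) 0) rl332 rl844)) (cond (Nat.beq (Nat.land a 256) 0) (cond (Nat.beq (Nat.land a 512) 0) rl204 rl716) (cond (Nat.beq (Nat.land a 512) 0) rl460 rl972)))) (cond (Nat.beq (Nat.land a 64) 0) (cond (Nat.beq (Nat.land a 128) 0) (cond (Nat.beq (Nat.land a 256) 0) (cond (Nat.beq (Nat.land a 512) 0) rl44 rl556) (cond (Nat.beq (Nat.land a 512) 0) rl300 rl812)) (cond (Nat.beq (Nat.land a 256) 0) (cond (Nat.beq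 (Nat.land a 512) 0) rl172 rl684) (cond (Nat.beq (Nat.land a 512) 0) rl428 rl940))) (cond (Nat.beq (Nat.land a 128) 0) (cond (Nat.beq (Nat.land a 256) 0) (cond (Nat.beq (Nat.land a 512) 0) rl108 rl620) (cond (Nat.beq (Nat.land a 512) 0) rl364 rl876)) (cond (Nat.beq (Nat.land a 256) 0) (cond (Nat.beq (Nat.land a 512) 0) rl236 rl748) (cond (Nat.beq (Nat.land a 512) 0) rl492 rl1004))))) (cond (Nat.beq (Nat.land a 32) 0) (cond (Nat.beq (Nat.land a 64) 0) (cond (Nat.beq (Nat.land a 128) 0) (cond (Nat.beq (Nat.land a 256) 0) (cond (Nat.beq (Nat.land a 512) 0) rl28 rl540) (cond (Nat.beq (Nat.land a 512) 0) rl284 rl796)) (cond (Nat.beq (Nat.land a 256) 0) (cond (Nat.beq (Nat.land a 512) 0) rl156 rl668) (cond (Nat.beq (Nat.land a 512) 0) rl412 rl924))) (cond (Nat.beq (Nat.land a 128) 0) (cond (Nat.beq (Nat.land a 256) 0) (cond (Nat.beq (Nat.land a 512) 0) rl92 rl604) (cond (Nat.beq (Nat.land a 512) 0) rl348 rl860)) (cond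 (Nat.beq (Nat.land a 256) 0) (cond (Nat.beq (Nat.land a 512) 0) rl220 rl732) (cond (Nat.beq (Nat.land a 512) 0) rl476 rl988)))) (cond (Nat.beq (Nat.land a 64) 0) (cond (Nat.beq (Nat.land a 128) 0) (cond (Nat.beq (Nat.land a 256) 0) (cond (Nat.beq (Nat.land a 512) 0) rl60 rl572) (cond (Nat.beq (Nat.land a 512) 0) rl316 rl828)) (cond (Nat.beq (Nat.land a 256) 0) (cond (Nat.beq (Nat.land a 512) 0) rl188 rl700) (cond (Nat.beq (Nat.land a 512) 0) rl444 rl956))) (cond (Nat.beq (Nat.land a 128) 0) (cond (Nat.beq (Nat.land a 256) 0) (cond (Nat.beq (Nat.land a 512) 0) rl124 rl636) (cond (Nat.beq (Nat.land a 512) 0) rl380 rl892)) (cond (Nat.beq (Nat.land a 256) 0) (cond (Nat.beq (Nat.land a 512) 0) rl252 rl764) (cond (Nat.beq (Nat.land a 512) 0) rl508 rl1020)))))))) (cond (Nat.beq (Nat.land a 4) 0) (cond (Nat.beq (Nat.land a 8) 0) (cond (Nat.beq (Nat.land a 16) 0) (cond (Nat.beq (Nat.land a 32) 0) (cond (Nat.beq (Nat.land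 a 64) 0) (cond (Nat.beq (Nat.land a 128) 0) (cond (Nat.beq (Nat.land a 256) 0) (cond (Nat.beq (Nat.land a 512) 0) rl2 rl514) (cond (Nat.beq (Nat.land a 512) 0) rl258 rl770)) (cond (Nat.beq (Nat.land a 256) 0) (cond (Nat.beq (Nat.land a 512) 0) rl130 rl642) (cond (Nat.beq (Nat.land a 512) 0) rl386 rl898))) (cond (Nat.beq (Nat.land a 128) 0) (cond (Nat.beq (Nat.land a 256) 0) (cond (Nat.beq (Nat.land a 512) 0) rl66 rl578) (cond (Nat.beq (Nat.land a 512) 0) rl322 rl834)) (cond (Nat.beq (Nat.land a 256) 0) (cond (Nat.beq (Nat.land a 512) 0) rl194 rl706) (cond (Nat.beq (Nat.land a 512) 0) rl450 rl962)))) (cond (Nat.beq (Nat.land a 64) 0) (cond (Nat.beq (Nat.land a 128) 0) (cond (Nat.beq (Nat.land a 256) 0) (cond (Nat.beq (Nat.land a 512) 0) rl34 rl546) (cond (Nat.beq (Nat.land a 512) 0) rl290 rl802)) (cond (Nat.beq (Nat.land a 256) 0) (cond (Nat.beq (Nat.land a 512) 0) rl162 rl674) (cond (Nat.beq (Nat.land a 512) 0)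 rl418 rl930))) (cond (Nat.beq (Nat.land a 128) 0) (cond (Nat.beq (Nat.land a 256) 0) (cond (Nat.beq (Nat.land a 512) 0) rl98 rl610) (cond (Nat.beq (Nat.land a 512) 0) rl354 rl866)) (cond (Nat.beq (Nat.land a 256) 0) (cond (Nat.beq (Nat.land a 512) 0) rl226 rl738) (cond (Nat.beq (Nat.land a 512) 0) rl482 rl994))))) (cond (Nat.beq (Nat.land a 32) 0) (cond (Nat.beq (Nat.land a 64) 0) (cond (Nat.beq (Nat.land a 128) 0) (cond (Nat.beq (Nat.land a 256) 0) (cond (Nat.beq (Nat.land a 512) 0) rl18 rl530) (cond (Nat.beq (Nat.land a 512) 0) rl274 rl786)) (cond (Nat.beq (Nat.land a 256) 0) (cond (Nat.beq (Nat.land a 512) 0) rl146 rl658) (cond (Nat.beq (Nat.land a 512) 0) rl402 rl914))) (cond (Nat.beq (Nat.land a 128) 0) (cond (Nat.beq (Nat.land a 256) 0) (cond (Nat.beq (Nat.land a 512) 0) rl82 rl594) (cond (Nat.beq (Nat.land a 512) 0) rl338 rl850)) (cond (Nat.beq (Nat.land a 256) 0) (cond (Nat.beq (Nat.land a 512) 0) rl210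 rl722) (cond (Nat.beq (Nat.land a 512) 0) rl466 rl978)))) (cond (Nat.beq (Nat.land a 64) 0) (cond (Nat.beq (Nat.land a 128) 0) (cond (Nat.beq (Nat.land a 256) 0) (cond (Nat.beq (Nat.land a 512) 0) rl50 rl562) (cond (Nat.beq (Nat.land a 512) 0) rl306 rl818)) (cond (Nat.beq (Nat.land a 256) 0) (cond (Nat.beq (Nat.land a 512) 0) rl178 rl690) (cond (Nat.beq (Nat.land a 512) 0) rl434 rl946))) (cond (Nat.beq (Nat.land a 128) 0) (cond (Nat.beq (Nat.land a 256) 0) (cond (Nat.beq (Nat.land a 512) 0) rl114 rl626) (cond (Nat.beq (Nat.land a 512) 0) rl370 rl882)) (cond (Nat.beq (Nat.land a 256) 0) (cond (Nat.beq (Nat.land a 512) 0) rl242 rl754) (cond (Nat.beq (Nat.land a 512) 0) rl498 rl1010)))))) (cond (Nat.beq (Nat.land a 16) 0) (cond (Nat.beq (Nat.land a 32) 0) (cond (Nat.beq (Nat.land a 64) 0) (cond (Nat.beq (Nat.land a 128) 0) (cond (Nat.beq (Nat.land a 256) 0) (cond (Nat.beq (Nat.land a 512) 0) rl10 rl522) (cond (Nat.beq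 (Nat.land a 512) 0) rl266 rl778)) (cond (Nat.beq (Nat.land a 256) 0) (cond (Nat.beq (Nat.land a 512) 0) rl138 rl650) (cond (Nat.beq (Nat.land a 512) 0) rl394 rl906))) (cond (Nat.beq (Nat.land a 128) 0) (cond (Nat.beq (Nat.land a 256) 0) (cond (Nat.beq (Nat.land a 512) 0) rl74 rl586) (cond (Nat.beq (Nat.land a 512) 0) rl330 rl842)) (cond (Nat.beq (Nat.land a 256) 0) (cond (Nat.beq (Nat.land a 512) 0) rl202 rl714) (cond (Nat.beq (Nat.land a 512) 0) rl458 rl970)))) (cond (Nat.beq (Nat.land a 64) 0) (cond (Nat.beq (Nat.land a 128) 0) (cond (Nat.beq (Nat.land a 256) 0) (cond (Nat.beq (Nat.land a 512) 0) rl42 rl554) (cond (Nat.beq (Nat.land a 512) 0) rl298 rl810)) (cond (Nat.beq (Nat.land a 256) 0) (cond (Nat.beq (Nat.land a 512) 0) rl170 rl682) (cond (Nat.beq (Nat.land a 512) 0) rl426 rl938))) (cond (Nat.beq (Nat.land a 128) 0) (cond (Nat.beq (Nat.land a 256) 0) (cond (Nat.beq (Nat.land a 512) 0) rl106 rl618) (cond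 (Nat.beq (Nat.land a 512) 0) rl362 rl874)) (cond (Nat.beq (Nat.land a 256) 0) (cond (Nat.beq (Nat.land a 512) 0) rl234 rl746) (cond (Nat.beq (Nat.land a 512) 0) rl490 rl1002))))) (cond (Nat.beq (Nat.land a 32) 0) (cond (Nat.beq (Nat.land a 64) 0) (cond (Nat.beq (Nat.land a 128) 0) (cond (Nat.beq (Nat.land a 256) 0) (cond (Nat.beq (Nat.land a 512) 0) rl26 rl538) (cond (Nat.beq (Nat.land a 512) 0) rl282 rl794)) (cond (Nat.beq (Nat.land a 256) 0) (cond (Nat.beq (Nat.land a 512) 0) rl154 rl666) (cond (Nat.beq (Nat.land a 512) 0) rl410 rl922))) (cond (Nat.beq (Nat.land a 128) 0) (cond (Nat.beq (Nat.land a 256) 0) (cond (Nat.beq (Nat.land a 512) 0) rl90 rl602) (cond (Nat.beq (Nat.land a 512) 0) rl346 rl858)) (cond (Nat.beq (Nat.land a 256) 0) (cond (Nat.beq (Nat.land a 512) 0) rl218 rl730) (cond (Nat.beq (Nat.land a 512) 0) rl474 rl986)))) (cond (Nat.beq (Nat.land a 64) 0) (cond (Nat.beq (Nat.land a 128) 0) (cond (Nat.beq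 (Nat.land a 256) 0) (cond (Nat.beq (Nat.land a 512) 0) rl58 rl570) (cond (Nat.beq (Nat.land a 512) 0) rl314 rl826)) (cond (Nat.beq (Nat.land a 256) 0) (cond (Nat.beq (Nat.land a 512) 0) rl186 rl698) (cond (Nat.beq (Nat.land a 512) 0) rl442 rl954))) (cond (Nat.beq (Nat.land a 128) 0) (cond (Nat.beq (Nat.land a 256) 0) (cond (Nat.beq (Nat.land a 512) 0) rl122 rl634) (cond (Nat.beq (Nat.land a 512) 0) rl378 rl890)) (cond (Nat.beq (Nat.land a 256) 0) (cond (Nat.beq (Nat.land a 512) 0) rl250 rl762) (cond (Nat.beq (Nat.land a 512) 0) rl506 rl1018))))))) (cond (Nat.beq (Nat.land a 8) 0) (cond (Nat.beq (Nat.land a 16) 0) (cond (Nat.beq (Nat.land a 32) 0) (cond (Nat.beq (Nat.land a 64) 0) (cond (Nat.beq (Nat.land a 128) 0) (cond (Nat.beq (Nat.land a 256) 0) (cond (Nat.beq (Nat.land a 512) 0) rl6 rl518) (cond (Nat.beq (Nat.land a 512) 0) rl262 rl774)) (cond (Nat.beq (Nat.land a 256) 0) (cond (Nat.beq (Nat.land a 512) 0)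 rl134 rl646) (cond (Nat.beq (Nat.land a 512) 0) rl390 rl902))) (cond (Nat.beq (Nat.land a 128) 0) (cond (Nat.beq (Nat.land a 256) 0) (cond (Nat.beq (Nat.land a 512) 0) rl70 rl582) (cond (Nat.beq (Nat.land a 512) 0) rl326 rl838)) (cond (Nat.beq (Nat.land a 256) 0) (cond (Nat.beq (Nat.land a 512) 0) rl198 rl710) (cond (Nat.beq (Nat.land a 512) 0) rl454 rl966)))) (cond (Nat.beq (Nat.land a 64) 0) (cond (Nat.beq (Nat.land a 128) 0) (cond (Nat.beq (Nat.land a 256) 0) (cond (Nat.beq (Nat.land a 512) 0) rl38 rl550) (cond (Nat.beq (Nat.land a 512) 0) rl294 rl806)) (cond (Nat.beq (Nat.land a 256) 0) (cond (Nat.beq (Nat.land a 512) 0) rl166 rl678) (cond (Nat.beq (Nat.land a 512) 0) rl422 rl934))) (cond (Nat.beq (Nat.land a 128) 0) (cond (Nat.beq (Nat.land a 256) 0) (cond (Nat.beq (Nat.land a 512) 0) rl102 rl614) (cond (Nat.beq (Nat.land a 512) 0) rl358 rl870)) (cond (Nat.beq (Nat.land a 256) 0) (cond (Nat.beq (Nat.land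 a 512) 0) rl230 rl742) (cond (Nat.beq (Nat.land a 512) 0) rl486 rl998))))) (cond (Nat.beq (Nat.land a 32) 0) (cond (Nat.beq (Nat.land a 64) 0) (cond (Nat.beq (Nat.land a 128) 0) (cond (Nat.beq (Nat.land a 256) 0) (cond (Nat.beq (Nat.land a 512) 0) rl22 rl534) (cond (Nat.beq (Nat.land a 512) 0) rl278 rl790)) (cond (Nat.beq (Nat.land a 256) 0) (cond (Nat.beq (Nat.land a 512) 0) rl150 rl662) (cond (Nat.beq (Nat.land a 512) 0) rl406 rl918))) (cond (Nat.beq (Nat.land a 128) 0) (cond (Nat.beq (Nat.land a 256) 0) (cond (Nat.beq (Nat.land a 512) 0) rl86 rl598) (cond (Nat.beq (Nat.land a 512) 0) rl342 rl854)) (cond (Nat.beq (Nat.land a 256) 0) (cond (Nat.beq (Nat.land a 512) 0) rl214 rl726) (cond (Nat.beq (Nat.land a 512) 0) rl470 rl982)))) (cond (Nat.beq (Nat.land a 64) 0) (cond (Nat.beq (Nat.land a 128) 0) (cond (Nat.beq (Nat.land a 256) 0) (cond (Nat.beq (Nat.land a 512) 0) rl54 rl566) (cond (Nat.beq (Nat.land a 512)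 0) rl310 rl822)) (cond (Nat.beq (Nat.land a 256) 0) (cond (Nat.beq (Nat.land a 512) 0) rl182 rl694) (cond (Nat.beq (Nat.land a 512) 0) rl438 rl950))) (cond (Nat.beq (Nat.land a 128) 0) (cond (Nat.beq (Nat.land a 256) 0) (cond (Nat.beq (Nat.land a 512) 0) rl118 rl630) (cond (Nat.beq (Nat.land a 512) 0) rl374 rl886)) (cond (Nat.beq (Nat.land a 256) 0) (cond (Nat.beq (Nat.land a 512) 0) rl246 rl758) (cond (Nat.beq (Nat.land a 512) 0) rl502 rl1014)))))) (cond (Nat.beq (Nat.land a 16) 0) (cond (Nat.beq (Nat.land a 32) 0) (cond (Nat.beq (Nat.land a 64) 0) (cond (Nat.beq (Nat.land a 128) 0) (cond (Nat.beq (Nat.land a 256) 0) (cond (Nat.beq (Nat.land a 512) 0) rl14 rl526) (cond (Nat.beq (Nat.land a 512) 0) rl270 rl782)) (cond (Nat.beq (Nat.land a 256) 0) (cond (Nat.beq (Nat.land a 512) 0) rl142 rl654) (cond (Nat.beq (Nat.land a 512) 0) rl398 rl910))) (cond (Nat.beq (Nat.land a 128) 0) (cond (Nat.beq (Nat.land a 256) 0)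 (cond (Nat.beq (Nat.land a 512) 0) rl78 rl590) (cond (Nat.beq (Nat.land a 512) 0) rl334 rl846)) (cond (Nat.beq (Nat.land a 256) 0) (cond (Nat.beq (Nat.land a 512) 0) rl206 rl718) (cond (Nat.beq (Nat.land a 512) 0) rl462 rl974)))) (cond (Nat.beq (Nat.land a 64) 0) (cond (Nat.beq (Nat.land a 128) 0) (cond (Nat.beq (Nat.land a 256) 0) (cond (Nat.beq (Nat.land a 512) 0) rl46 rl558) (cond (Nat.beq (Nat.land a 512) 0) rl302 rl814)) (cond (Nat.beq (Nat.land a 256) 0) (cond (Nat.beq (Nat.land a 512) 0) rl174 rl686) (cond (Nat.beq (Nat.land a 512) 0) rl430 rl942))) (cond (Nat.beq (Nat.land a 128) 0) (cond (Nat.beq (Nat.land a 256) 0) (cond (Nat.beq (Nat.land a 512) 0) rl110 rl622) (cond (Nat.beq (Nat.land a 512) 0) rl366 rl878)) (cond (Nat.beq (Nat.land a 256) 0) (cond (Nat.beq (Nat.land a 512) 0) rl238 rl750) (cond (Nat.beq (Nat.land a 512) 0) rl494 rl1006))))) (cond (Nat.beq (Nat.land a 32) 0) (cond (Nat.beq (Nat.land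 a 64) 0) (cond (Nat.beq (Nat.land a 128) 0) (cond (Nat.beq (Nat.land a 256) 0) (cond (Nat.beq (Nat.land a 512) 0) rl30 rl542) (cond (Nat.beq (Nat.land a 512) 0) rl286 rl798)) (cond (Nat.beq (Nat.land a 256) 0) (cond (Nat.beq (Nat.land a 512) 0) rl158 rl670) (cond (Nat.beq (Nat.land a 512) 0) rl414 rl926))) (cond (Nat.beq (Nat.land a 128) 0) (cond (Nat.beq (Nat.land a 256) 0) (cond (Nat.beq (Nat.land a 512) 0) rl94 rl606) (cond (Nat.beq (Nat.land a 512) 0) rl350 rl862)) (cond (Nat.beq (Nat.land a 256) 0) (cond (Nat.beq (Nat.land a 512) 0) rl222 rl734) (cond (Nat.beq (Nat.land a 512) 0) rl478 rl990)))) (cond (Nat.beq (Nat.land a 64) 0) (cond (Nat.beq (Nat.land a 128) 0) (cond (Nat.beq (Nat.land a 256) 0) (cond (Nat.beq (Nat.land a 512) 0) rl62 rl574) (cond (Nat.beq (Nat.land a 512) 0) rl318 rl830)) (cond (Nat.beq (Nat.land a 256) 0) (cond (Nat.beq (Nat.land a 512) 0) rl190 rl702) (cond (Nat.beq (Nat.land a 512)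 0) rl446 rl958))) (cond (Nat.beq (Nat.land a 128) 0) (cond (Nat.beq (Nat.land a 256) 0) (cond (Nat.beq (Nat.land a 512) 0) rl126 rl638) (cond (Nat.beq (Nat.land a 512) 0) rl382 rl894)) (cond (Nat.beq (Nat.land a 256) 0) (cond (Nat.beq (Nat.land a 512) 0) rl254 rl766) (cond (Nat.beq (Nat.land a 512) 0) rl510 rl1022))))))))) (cond (Nat.beq (Nat.land a 2) 0) (cond (Nat.beq (Nat.land a 4) 0) (cond (Nat.beq (Nat.land a 8) 0) (cond (Nat.beq (Nat.land a 16) 0) (cond (Nat.beq (Nat.land a 32) 0) (cond (Nat.beq (Nat.land a 64) 0) (cond (Nat.beq (Nat.land a 128) 0) (cond (Nat.beq (Nat.land a 256) 0) (cond (Nat.beq (Nat.land a 512) 0) rl1 rl513) (cond (Nat.beq (Nat.land a 512) 0) rl257 rl769)) (cond (Nat.beq (Nat.land a 256) 0) (cond (Nat.beq (Nat.land a 512) 0) rl129 rl641) (cond (Nat.beq (Nat.land a 512) 0) rl385 rl897))) (cond (Nat.beq (Nat.land a 128) 0) (cond (Nat.beq (Nat.land a 256) 0) (cond (Nat.beq (Nat.land a 512)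 0) rl65 rl577) (cond (Nat.beq (Nat.land a 512) 0) rl321 rl833)) (cond (Nat.beq (Nat.land a 256) 0) (cond (Nat.beq (Nat.land a 512) 0) rl193 rl705) (cond (Nat.beq (Nat.land a 512) 0) rl449 rl961)))) (cond (Nat.beq (Nat.land a 64) 0) (cond (Nat.beq (Nat.land a 128) 0) (cond (Nat.beq (Nat.land a 256) 0) (cond (Nat.beq (Nat.land a 512) 0) rl33 rl545) (cond (Nat.beq (Nat.land a 512) 0) rl289 rl801)) (cond (Nat.beq (Nat.land a 256) 0) (cond (Nat.beq (Nat.land a 512) 0) rl161 rl673) (cond (Nat.beq (Nat.land a 512) 0) rl417 rl929))) (cond (Nat.beq (Nat.land a 128) 0) (cond (Nat.beq (Nat.land a 256) 0) (cond (Nat.beq (Nat.land a 512) 0) rl97 rl609) (cond (Nat.beq (Nat.land a 512) 0) rl353 rl865)) (cond (Nat.beq (Nat.land a 256) 0) (cond (Nat.beq (Nat.land a 512) 0) rl225 rl737) (cond (Nat.beq (Nat.land a 512) 0) rl481 rl993))))) (cond (Nat.beq (Nat.land a 32) 0) (cond (Nat.beq (Nat.land a 64) 0) (cond (Nat.beq (Nat.land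 a 128) 0) (cond (Nat.beq (Nat.land a 256) 0) (cond (Nat.beq (Nat.land a 512) 0) rl17 rl529) (cond (Nat.beq (Nat.land a 512) 0) rl273 rl785)) (cond (Nat.beq (Nat.land a 256) 0) (cond (Nat.beq (Nat.land a 512) 0) rl145 rl657) (cond (Nat.beq (Nat.land a 512) 0) rl401 rl913))) (cond (Nat.beq (Nat.land a 128) 0) (cond (Nat.beq (Nat.land a 256) 0) (cond (Nat.beq (Nat.land a 512) 0) rl81 rl593) (cond (Nat.beq (Nat.land a 512) 0) rl337 rl849)) (cond (Nat.beq (Nat.land a 256) 0) (cond (Nat.beq (Nat.land a 512) 0) rl209 rl721) (cond (Nat.beq (Nat.land a 512) 0) rl465 rl977)))) (cond (Nat.beq (Nat.land a 64) 0) (cond (Nat.beq (Nat.land a 128) 0) (cond (Nat.beq (Nat.land a 256) 0) (cond (Nat.beq (Nat.land a 512) 0) rl49 rl561) (cond (Nat.beq (Nat.land a 512) 0) rl305 rl817)) (cond (Nat.beq (Nat.land a 256) 0) (cond (Nat.beq (Nat.land a 512) 0) rl177 rl689) (cond (Nat.beq (Nat.land a 512) 0) rl433 rl945))) (cond (Nat.beq (Nat.land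 a 128) 0) (cond (Nat.beq (Nat.land a 256) 0) (cond (Nat.beq (Nat.land a 512) 0) rl113 rl625) (cond (Nat.beq (Nat.land a 512) 0) rl369 rl881)) (cond (Nat.beq (Nat.land a 256) 0) (cond (Nat.beq (Nat.land a 512) 0) rl241 rl753) (cond (Nat.beq (Nat.land a 512) 0) rl497 rl1009)))))) (cond (Nat.beq (Nat.land a 16) 0) (cond (Nat.beq (Nat.land a 32) 0) (cond (Nat.beq (Nat.land a 64) 0) (cond (Nat.beq (Nat.land a 128) 0) (cond (Nat.beq (Nat.land a 256) 0) (cond (Nat.beq (Nat.land a 512) 0) rl9 rl521) (cond (Nat.beq (Nat.land a 512) 0) rl265 rl777)) (cond (Nat.beq (Nat.land a 256) 0) (cond (Nat.beq (Nat.land a 512) 0) rl137 rl649) (cond (Nat.beq (Nat.land a 512) 0) rl393 rl905))) (cond (Nat.beq (Nat.land a 128) 0) (cond (Nat.beq (Nat.land a 256) 0) (cond (Nat.beq (Nat.land a 512) 0) rl73 rl585) (cond (Nat.beq (Nat.land a 512) 0) rl329 rl841)) (cond (Nat.beq (Nat.land a 256) 0) (cond (Nat.beq (Nat.land a 512) 0) rl201 rl713)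 (cond (Nat.beq (Nat.land a 512) 0) rl457 rl969)))) (cond (Nat.beq (Nat.land a 64) 0) (cond (Nat.beq (Nat.land a 128) 0) (cond (Nat.beq (Nat.land a 256) 0) (cond (Nat.beq (Nat.land a 512) 0) rl41 rl553) (cond (Nat.beq (Nat.land a 512) 0) rl297 rl809)) (cond (Nat.beq (Nat.land a 256) 0) (cond (Nat.beq (Nat.land a 512) 0) rl169 rl681) (cond (Nat.beq (Nat.land a 512) 0) rl425 rl937))) (cond (Nat.beq (Nat.land a 128) 0) (cond (Nat.beq (Nat.land a 256) 0) (cond (Nat.beq (Nat.land a 512) 0) rl105 rl617) (cond (Nat.beq (Nat.land a 512) 0) rl361 rl873)) (cond (Nat.beq (Nat.land a 256) 0) (cond (Nat.beq (Nat.land a 512) 0) rl233 rl745) (cond (Nat.beq (Nat.land a 512) 0) rl489 rl1001))))) (cond (Nat.beq (Nat.land a 32) 0) (cond (Nat.beq (Nat.land a 64) 0) (cond (Nat.beq (Nat.land a 128) 0) (cond (Nat.beq (Nat.land a 256) 0) (cond (Nat.beq (Nat.land a 512) 0) rl25 rl537) (cond (Nat.beq (Nat.land a 512) 0) rl281 rl793)) (cond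 (Nat.beq (Nat.land a 256) 0) (cond (Nat.beq (Nat.land a 512) 0) rl153 rl665) (cond (Nat.beq (Nat.land a 512) 0) rl409 rl921))) (cond (Nat.beq (Nat.land a 128) 0) (cond (Nat.beq (Nat.land a 256) 0) (cond (Nat.beq (Nat.land a 512) 0) rl89 rl601) (cond (Nat.beq (Nat.land a 512) 0) rl345 rl857)) (cond (Nat.beq (Nat.land a 256) 0) (cond (Nat.beq (Nat.land a 512) 0) rl217 rl729) (cond (Nat.beq (Nat.land a 512) 0) rl473 rl985)))) (cond (Nat.beq (Nat.land a 64) 0) (cond (Nat.beq (Nat.land a 128) 0) (cond (Nat.beq (Nat.land a 256) 0) (cond (Nat.beq (Nat.land a 512) 0) rl57 rl569) (cond (Nat.beq (Nat.land a 512) 0) rl313 rl825)) (cond (Nat.beq (Nat.land a 256) 0) (cond (Nat.beq (Nat.land a 512) 0) rl185 rl697) (cond (Nat.beq (Nat.land a 512) 0) rl441 rl953))) (cond (Nat.beq (Nat.land a 128) 0) (cond (Nat.beq (Nat.land a 256) 0) (cond (Nat.beq (Nat.land a 512) 0) rl121 rl633) (cond (Nat.beq (Nat.land a 512) 0) rl377 rl889))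 (cond (Nat.beq (Nat.land a 256) 0) (cond (Nat.beq (Nat.land a 512) 0) rl249 rl761) (cond (Nat.beq (Nat.land a 512) 0) rl505 rl1017))))))) (cond (Nat.beq (Nat.land a 8) 0) (cond (Nat.beq (Nat.land a 16) 0) (cond (Nat.beq (Nat.land a 32) 0) (cond (Nat.beq (Nat.land a 64) 0) (cond (Nat.beq (Nat.land a 128) 0) (cond (Nat.beq (Nat.land a 256) 0) (cond (Nat.beq (Nat.land a 512) 0) rl5 rl517) (cond (Nat.beq (Nat.land a 512) 0) rl261 rl773)) (cond (Nat.beq (Nat.land a 256) 0) (cond (Nat.beq (Nat.land a 512) 0) rl133 rl645) (cond (Nat.beq (Nat.land a 512) 0) rl389 rl901))) (cond (Nat.beq (Nat.land a 128) 0) (cond (Nat.beq (Nat.land a 256) 0) (cond (Nat.beq (Nat.land a 512) 0) rl69 rl581) (cond (Nat.beq (Nat.land a 512) 0) rl325 rl837)) (cond (Nat.beq (Nat.land a 256) 0) (cond (Nat.beq (Nat.land a 512) 0) rl197 rl709) (cond (Nat.beq (Nat.land a 512) 0) rl453 rl965)))) (cond (Nat.beq (Nat.land a 64) 0) (cond (Nat.beq (Nat.land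 a 128) 0) (cond (Nat.beq (Nat.land a 256) 0) (cond (Nat.beq (Nat.land a 512) 0) rl37 rl549) (cond (Nat.beq (Nat.land a 512) 0) rl293 rl805)) (cond (Nat.beq (Nat.land a 256) 0) (cond (Nat.beq (Nat.land a 512) 0) rl165 rl677) (cond (Nat.beq (Nat.land a 512) 0) rl421 rl933))) (cond (Nat.beq (Nat.land a 128) 0) (cond (Nat.beq (Nat.land a 256) 0) (cond (Nat.beq (Nat.land a 512) 0) rl101 rl613) (cond (Nat.beq (Nat.land a 512) 0) rl357 rl869)) (cond (Nat.beq (Nat.land a 256) 0) (cond (Nat.beq (Nat.land a 512) 0) rl229 rl741) (cond (Nat.beq (Nat.land a 512) 0) rl485 rl997))))) (cond (Nat.beq (Nat.land a 32) 0) (cond (Nat.beq (Nat.land a 64) 0) (cond (Nat.beq (Nat.land a 128) 0) (cond (Nat.beq (Nat.land a 256) 0) (cond (Nat.beq (Nat.land a 512) 0) rl21 rl533) (cond (Nat.beq (Nat.land a 512) 0) rl277 rl789)) (cond (Nat.beq (Nat.land a 256) 0) (cond (Nat.beq (Nat.land a 512) 0) rl149 rl661) (cond (Nat.beq (Nat.land a 512)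 0) rl405 rl917))) (cond (Nat.beq (Nat.land a 128) 0) (cond (Nat.beq (Nat.land a 256) 0) (cond (Nat.beq (Nat.land a 512) 0) rl85 rl597) (cond (Nat.beq (Nat.land a 512) 0) rl341 rl853)) (cond (Nat.beq (Nat.land a 256) 0) (cond (Nat.beq (Nat.land a 512) 0) rl213 rl725) (cond (Nat.beq (Nat.land a 512) 0) rl469 rl981)))) (cond (Nat.beq (Nat.land a 64) 0) (cond (Nat.beq (Nat.land a 128) 0) (cond (Nat.beq (Nat.land a 256) 0) (cond (Nat.beq (Nat.land a 512) 0) rl53 rl565) (cond (Nat.beq (Nat.land a 512) 0) rl309 rl821)) (cond (Nat.beq (Nat.land a 256) 0) (cond (Nat.beq (Nat.land a 512) 0) rl181 rl693) (cond (Nat.beq (Nat.land a 512) 0) rl437 rl949))) (cond (Nat.beq (Nat.land a 128) 0) (cond (Nat.beq (Nat.land a 256) 0) (cond (Nat.beq (Nat.land a 512) 0) rl117 rl629) (cond (Nat.beq (Nat.land a 512) 0) rl373 rl885)) (cond (Nat.beq (Nat.land a 256) 0) (cond (Nat.beq (Nat.land a 512) 0) rl245 rl757) (cond (Nat.beq (Nat.land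 a 512) 0) rl501 rl1013)))))) (cond (Nat.beq (Nat.land a 16) 0) (cond (Nat.beq (Nat.land a 32) 0) (cond (Nat.beq (Nat.land a 64) 0) (cond (Nat.beq (Nat.land a 128) 0) (cond (Nat.beq (Nat.land a 256) 0) (cond (Nat.beq (Nat.land a 512) 0) rl13 rl525) (cond (Nat.beq (Nat.land a 512) 0) rl269 rl781)) (cond (Nat.beq (Nat.land a 256) 0) (cond (Nat.beq (Nat.land a 512) 0) rl141 rl653) (cond (Nat.beq (Nat.land a 512) 0) rl397 rl909))) (cond (Nat.beq (Nat.land a 128) 0) (cond (Nat.beq (Nat.land a 256) 0) (cond (Nat.beq (Nat.land a 512) 0) rl77 rl589) (cond (Nat.beq (Nat.land a 512) 0) rl333 rl845)) (cond (Nat.beq (Nat.land a 256) 0) (cond (Nat.beq (Nat.land a 512) 0) rl205 rl717) (cond (Nat.beq (Nat.land a 512) 0) rl461 rl973)))) (cond (Nat.beq (Nat.land a 64) 0) (cond (Nat.beq (Nat.land a 128) 0) (cond (Nat.beq (Nat.land a 256) 0) (cond (Nat.beq (Nat.land a 512) 0) rl45 rl557) (cond (Nat.beq (Nat.land a 512) 0) rl301 rl813))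 (cond (Nat.beq (Nat.land a 256) 0) (cond (Nat.beq (Nat.land a 512) 0) rl173 rl685) (cond (Nat.beq (Nat.land a 512) 0) rl429 rl941))) (cond (Nat.beq (Nat.land a 128) 0) (cond (Nat.beq (Nat.land a 256) 0) (cond (Nat.beq (Nat.land a 512) 0) rl109 rl621) (cond (Nat.beq (Nat.land a 512) 0) rl365 rl877)) (cond (Nat.beq (Nat.land a 256) 0) (cond (Nat.beq (Nat.land a 512) 0) rl237 rl749) (cond (Nat.beq (Nat.land a 512) 0) rl493 rl1005))))) (cond (Nat.beq (Nat.land a 32) 0) (cond (Nat.beq (Nat.land a 64) 0) (cond (Nat.beq (Nat.land a 128) 0) (cond (Nat.beq (Nat.land a 256) 0) (cond (Nat.beq (Nat.land a 512) 0) rl29 rl541) (cond (Nat.beq (Nat.land a 512) 0) rl285 rl797)) (cond (Nat.beq (Nat.land a 256) 0) (cond (Nat.beq (Nat.land a 512) 0) rl157 rl669) (cond (Nat.beq (Nat.land a 512) 0) rl413 rl925))) (cond (Nat.beq (Nat.land a 128) 0) (cond (Nat.beq (Nat.land a 256) 0) (cond (Nat.beq (Nat.land a 512) 0) rl93 rl605) (cond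 (Nat.beq (Nat.land a 512) 0) rl349 rl861)) (cond (Nat.beq (Nat.land a 256) 0) (cond (Nat.beq (Nat.land a 512) 0) rl221 rl733) (cond (Nat.beq (Nat.land a 512) 0) rl477 rl989)))) (cond (Nat.beq (Nat.land a 64) 0) (cond (Nat.beq (Nat.land a 128) 0) (cond (Nat.beq (Nat.land a 256) 0) (cond (Nat.beq (Nat.land a 512) 0) rl61 rl573) (cond (Nat.beq (Nat.land a 512) 0) rl317 rl829)) (cond (Nat.beq (Nat.land a 256) 0) (cond (Nat.beq (Nat.land a 512) 0) rl189 rl701) (cond (Nat.beq (Nat.land a 512) 0) rl445 rl957))) (cond (Nat.beq (Nat.land a 128) 0) (cond (Nat.beq (Nat.land a 256) 0) (cond (Nat.beq (Nat.land a 512) 0) rl125 rl637) (cond (Nat.beq (Nat.land a 512) 0) rl381 rl893)) (cond (Nat.beq (Nat.land a 256) 0) (cond (Nat.beq (Nat.land a 512) 0) rl253 rl765) (cond (Nat.beq (Nat.land a 512) 0) rl509 rl1021)))))))) (cond (Nat.beq (Nat.land a 4) 0) (cond (Nat.beq (Nat.land a 8) 0) (cond (Nat.beq (Nat.land a 16) 0) (cond (Nat.beq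 (Nat.land a 32) 0) (cond (Nat.beq (Nat.land a 64) 0) (cond (Nat.beq (Nat.land a 128) 0) (cond (Nat.beq (Nat.land a 256) 0) (cond (Nat.beq (Nat.land a 512) 0) rl3 rl515) (cond (Nat.beq (Nat.land a 512) 0) rl259 rl771)) (cond (Nat.beq (Nat.land a 256) 0) (cond (Nat.beq (Nat.land a 512) 0) rl131 rl643) (cond (Nat.beq (Nat.land a 512) 0) rl387 rl899))) (cond (Nat.beq (Nat.land a 128) 0) (cond (Nat.beq (Nat.land a 256) 0) (cond (Nat.beq (Nat.land a 512) 0) rl67 rl579) (cond (Nat.beq (Nat.land a 512) 0) rl323 rl835)) (cond (Nat.beq (Nat.land a 256) 0) (cond (Nat.beq (Nat.land a 512) 0) rl195 rl707) (cond (Nat.beq (Nat.land a 512) 0) rl451 rl963)))) (cond (Nat.beq (Nat.land a 64) 0) (cond (Nat.beq (Nat.land a 128) 0) (cond (Nat.beq (Nat.land a 256) 0) (cond (Nat.beq (Nat.land a 512) 0) rl35 rl547) (cond (Nat.beq (Nat.land a 512) 0) rl291 rl803)) (cond (Nat.beq (Nat.land a 256) 0) (cond (Nat.beq (Nat.land a 512) 0) rl163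 rl675) (cond (Nat.beq (Nat.land a 512) 0) rl419 rl931))) (cond (Nat.beq (Nat.land a 128) 0) (cond (Nat.beq (Nat.land a 256) 0) (cond (Nat.beq (Nat.land a 512) 0) rl99 rl611) (cond (Nat.beq (Nat.land a 512) 0) rl355 rl867)) (cond (Nat.beq (Nat.land a 256) 0) (cond (Nat.beq (Nat.land a 512) 0) rl227 rl739) (cond (Nat.beq (Nat.land a 512) 0) rl483 rl995))))) (cond (Nat.beq (Nat.land a 32) 0) (cond (Nat.beq (Nat.land a 64) 0) (cond (Nat.beq (Nat.land a 128) 0) (cond (Nat.beq (Nat.land a 256) 0) (cond (Nat.beq (Nat.land a 512) 0) rl19 rl531) (cond (Nat.beq (Nat.land a 512) 0) rl275 rl787)) (cond (Nat.beq (Nat.land a 256) 0) (cond (Nat.beq (Nat.land a 512) 0) rl147 rl659) (cond (Nat.beq (Nat.land a 512) 0) rl403 rl915))) (cond (Nat.beq (Nat.land a 128) 0) (cond (Nat.beq (Nat.land a 256) 0) (cond (Nat.beq (Nat.land a 512) 0) rl83 rl595) (cond (Nat.beq (Nat.land a 512) 0) rl339 rl851)) (cond (Nat.beq (Nat.land a 256)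 0) (cond (Nat.beq (Nat.land a 512) 0) rl211 rl723) (cond (Nat.beq (Nat.land a 512) 0) rl467 rl979)))) (cond (Nat.beq (Nat.land a 64) 0) (cond (Nat.beq (Nat.land a 128) 0) (cond (Nat.beq (Nat.land a 256) 0) (cond (Nat.beq (Nat.land a 512) 0) rl51 rl563) (cond (Nat.beq (Nat.land a 512) 0) rl307 rl819)) (cond (Nat.beq (Nat.land a 256) 0) (cond (Nat.beq (Nat.land a 512) 0) rl179 rl691) (cond (Nat.beq (Nat.land a 512) 0) rl435 rl947))) (cond (Nat.beq (Nat.land a 128) 0) (cond (Nat.beq (Nat.land a 256) 0) (cond (Nat.beq (Nat.land a 512) 0) rl115 rl627) (cond (Nat.beq (Nat.land a 512) 0) rl371 rl883)) (cond (Nat.beq (Nat.land a 256) 0) (cond (Nat.beq (Nat.land a 512) 0) rl243 rl755) (cond (Nat.beq (Nat.land a 512) 0) rl499 rl1011)))))) (cond (Nat.beq (Nat.land a 16) 0) (cond (Nat.beq (Nat.land a 32) 0) (cond (Nat.beq (Nat.land a 64) 0) (cond (Nat.beq (Nat.land a 128) 0) (cond (Nat.beq (Nat.land a 256) 0) (cond (Nat.beq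 (Nat.land a 512) 0) rl11 rl523) (cond (Nat.beq (Nat.land a 512) 0) rl267 rl779)) (cond (Nat.beq (Nat.land a 256) 0) (cond (Nat.beq (Nat.land a 512) 0) rl139 rl651) (cond (Nat.beq (Nat.land a 512) 0) rl395 rl907))) (cond (Nat.beq (Nat.land a 128) 0) (cond (Nat.beq (Nat.land a 256) 0) (cond (Nat.beq (Nat.land a 512) 0) rl75 rl587) (cond (Nat.beq (Nat.land a 512) 0) rl331 rl843)) (cond (Nat.beq (Nat.land a 256) 0) (cond (Nat.beq (Nat.land a 512) 0) rl203 rl715) (cond (Nat.beq (Nat.land a 512) 0) rl459 rl971)))) (cond (Nat.beq (Nat.land a 64) 0) (cond (Nat.beq (Nat.land a 128) 0) (cond (Nat.beq (Nat.land a 256) 0) (cond (Nat.beq (Nat.land a 512) 0) rl43 rl555) (cond (Nat.beq (Nat.land a 512) 0) rl299 rl811)) (cond (Nat.beq (Nat.land a 256) 0) (cond (Nat.beq (Nat.land a 512) 0) rl171 rl683) (cond (Nat.beq (Nat.land a 512) 0) rl427 rl939))) (cond (Nat.beq (Nat.land a 128) 0) (cond (Nat.beq (Nat.land a 256) 0) (cond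 (Nat.beq (Nat.land a 512) 0) rl107 rl619) (cond (Nat.beq (Nat.land a 512) 0) rl363 rl875)) (cond (Nat.beq (Nat.land a 256) 0) (cond (Nat.beq (Nat.land a 512) 0) rl235 rl747) (cond (Nat.beq (Nat.land a 512) 0) rl491 rl1003))))) (cond (Nat.beq (Nat.land a 32) 0) (cond (Nat.beq (Nat.land a 64) 0) (cond (Nat.beq (Nat.land a 128) 0) (cond (Nat.beq (Nat.land a 256) 0) (cond (Nat.beq (Nat.land a 512) 0) rl27 rl539) (cond (Nat.beq (Nat.land a 512) 0) rl283 rl795)) (cond (Nat.beq (Nat.land a 256) 0) (cond (Nat.beq (Nat.land a 512) 0) rl155 rl667) (cond (Nat.beq (Nat.land a 512) 0) rl411 rl923))) (cond (Nat.beq (Nat.land a 128) 0) (cond (Nat.beq (Nat.land a 256) 0) (cond (Nat.beq (Nat.land a 512) 0) rl91 rl603) (cond (Nat.beq (Nat.land a 512) 0) rl347 rl859)) (cond (Nat.beq (Nat.land a 256) 0) (cond (Nat.beq (Nat.land a 512) 0) rl219 rl731) (cond (Nat.beq (Nat.land a 512) 0) rl475 rl987)))) (cond (Nat.beq (Nat.land a 64)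 0) (cond (Nat.beq (Nat.land a 128) 0) (cond (Nat.beq (Nat.land a 256) 0) (cond (Nat.beq (Nat.land a 512) 0) rl59 rl571) (cond (Nat.beq (Nat.land a 512) 0) rl315 rl827)) (cond (Nat.beq (Nat.land a 256) 0) (cond (Nat.beq (Nat.land a 512) 0) rl187 rl699) (cond (Nat.beq (Nat.land a 512) 0) rl443 rl955))) (cond (Nat.beq (Nat.land a 128) 0) (cond (Nat.beq (Nat.land a 256) 0) (cond (Nat.beq (Nat.land a 512) 0) rl123 rl635) (cond (Nat.beq (Nat.land a 512) 0) rl379 rl891)) (cond (Nat.beq (Nat.land a 256) 0) (cond (Nat.beq (Nat.land a 512) 0) rl251 rl763) (cond (Nat.beq (Nat.land a 512) 0) rl507 rl1019))))))) (cond (Nat.beq (Nat.land a 8) 0) (cond (Nat.beq (Nat.land a 16) 0) (cond (Nat.beq (Nat.land a 32) 0) (cond (Nat.beq (Nat.land a 64) 0) (cond (Nat.beq (Nat.land a 128) 0) (cond (Nat.beq (Nat.land a 256) 0) (cond (Nat.beq (Nat.land a 512) 0) rl7 rl519) (cond (Nat.beq (Nat.land a 512) 0) rl263 rl775)) (cond (Nat.beq (Nat.land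 a 256) 0) (cond (Nat.beq (Nat.land a 512) 0) rl135 rl647) (cond (Nat.beq (Nat.land a 512) 0) rl391 rl903))) (cond (Nat.beq (Nat.land a 128) 0) (cond (Nat.beq (Nat.land a 256) 0) (cond (Nat.beq (Nat.land a 512) 0) rl71 rl583) (cond (Nat.beq (Nat.land a 512) 0) rl327 rl839)) (cond (Nat.beq (Nat.land a 256) 0) (cond (Nat.beq (Nat.land a 512) 0) rl199 rl711) (cond (Nat.beq (Nat.land a 512) 0) rl455 rl967)))) (cond (Nat.beq (Nat.land a 64) 0) (cond (Nat.beq (Nat.land a 128) 0) (cond (Nat.beq (Nat.land a 256) 0) (cond (Nat.beq (Nat.land a 512) 0) rl39 rl551) (cond (Nat.beq (Nat.land a 512) 0) rl295 rl807)) (cond (Nat.beq (Nat.land a 256) 0) (cond (Nat.beq (Nat.land a 512) 0) rl167 rl679) (cond (Nat.beq (Nat.land a 512) 0) rl423 rl935))) (cond (Nat.beq (Nat.land a 128) 0) (cond (Nat.beq (Nat.land a 256) 0) (cond (Nat.beq (Nat.land a 512) 0) rl103 rl615) (cond (Nat.beq (Nat.land a 512) 0) rl359 rl871)) (cond (Nat.beq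 (Nat.land a 256) 0) (cond (Nat.beq (Nat.land a 512) 0) rl231 rl743) (cond (Nat.beq (Nat.land a 512) 0) rl487 rl999))))) (cond (Nat.beq (Nat.land a 32) 0) (cond (Nat.beq (Nat.land a 64) 0) (cond (Nat.beq (Nat.land a 128) 0) (cond (Nat.beq (Nat.land a 256) 0) (cond (Nat.beq (Nat.land a 512) 0) rl23 rl535) (cond (Nat.beq (Nat.land a 512) 0) rl279 rl791)) (cond (Nat.beq (Nat.land a 256) 0) (cond (Nat.beq (Nat.land a 512) 0) rl151 rl663) (cond (Nat.beq (Nat.land a 512) 0) rl407 rl919))) (cond (Nat.beq (Nat.land a 128) 0) (cond (Nat.beq (Nat.land a 256) 0) (cond (Nat.beq (Nat.land a 512) 0) rl87 rl599) (cond (Nat.beq (Nat.land a 512) 0) rl343 rl855)) (cond (Nat.beq (Nat.land a 256) 0) (cond (Nat.beq (Nat.land a 512) 0) rl215 rl727) (cond (Nat.beq (Nat.land a 512) 0) rl471 rl983)))) (cond (Nat.beq (Nat.land a 64) 0) (cond (Nat.beq (Nat.land a 128) 0) (cond (Nat.beq (Nat.land a 256) 0) (cond (Nat.beq (Nat.land a 512)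 0) rl55 rl567) (cond (Nat.beq (Nat.land a 512) 0) rl311 rl823)) (cond (Nat.beq (Nat.land a 256) 0) (cond (Nat.beq (Nat.land a 512) 0) rl183 rl695) (cond (Nat.beq (Nat.land a 512) 0) rl439 rl951))) (cond (Nat.beq (Nat.land a 128) 0) (cond (Nat.beq (Nat.land a 256) 0) (cond (Nat.beq (Nat.land a 512) 0) rl119 rl631) (cond (Nat.beq (Nat.land a 512) 0) rl375 rl887)) (cond (Nat.beq (Nat.land a 256) 0) (cond (Nat.beq (Nat.land a 512) 0) rl247 rl759) (cond (Nat.beq (Nat.land a 512) 0) rl503 rl1015)))))) (cond (Nat.beq (Nat.land a 16) 0) (cond (Nat.beq (Nat.land a 32) 0) (cond (Nat.beq (Nat.land a 64) 0) (cond (Nat.beq (Nat.land a 128) 0) (cond (Nat.beq (Nat.land a 256) 0) (cond (Nat.beq (Nat.land a 512) 0) rl15 rl527) (cond (Nat.beq (Nat.land a 512) 0) rl271 rl783)) (cond (Nat.beq (Nat.land a 256) 0) (cond (Nat.beq (Nat.land a 512) 0) rl143 rl655) (cond (Nat.beq (Nat.land a 512) 0) rl399 rl911))) (cond (Nat.beq (Nat.land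 a 128) 0) (cond (Nat.beq (Nat.land a 256) 0) (cond (Nat.beq (Nat.land a 512) 0) rl79 rl591) (cond (Nat.beq (Nat.land a 512) 0) rl335 rl847)) (cond (Nat.beq (Nat.land a 256) 0) (cond (Nat.beq (Nat.land a 512) 0) rl207 rl719) (cond (Nat.beq (Nat.land a 512) 0) rl463 rl975)))) (cond (Nat.beq (Nat.land a 64) 0) (cond (Nat.beq (Nat.land a 128) 0) (cond (Nat.beq (Nat.land a 256) 0) (cond (Nat.beq (Nat.land a 512) 0) rl47 rl559) (cond (Nat.beq (Nat.land a 512) 0) rl303 rl815)) (cond (Nat.beq (Nat.land a 256) 0) (cond (Nat.beq (Nat.land a 512) 0) rl175 rl687) (cond (Nat.beq (Nat.land a 512) 0) rl431 rl943))) (cond (Nat.beq (Nat.land a 128) 0) (cond (Nat.beq (Nat.land a 256) 0) (cond (Nat.beq (Nat.land a 512) 0) rl111 rl623) (cond (Nat.beq (Nat.land a 512) 0) rl367 rl879)) (cond (Nat.beq (Nat.land a 256) 0) (cond (Nat.beq (Nat.land a 512) 0) rl239 rl751) (cond (Nat.beq (Nat.land a 512) 0) rl495 rl1007))))) (cond (Nat.beq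 (Nat.land a 32) 0) (cond (Nat.beq (Nat.land a 64) 0) (cond (Nat.beq (Nat.land a 128) 0) (cond (Nat.beq (Nat.land a 256) 0) (cond (Nat.beq (Nat.land a 512) 0) rl31 rl543) (cond (Nat.beq (Nat.land a 512) 0) rl287 rl799)) (cond (Nat.beq (Nat.land a 256) 0) (cond (Nat.beq (Nat.land a 512) 0) rl159 rl671) (cond (Nat.beq (Nat.land a 512) 0) rl415 rl927))) (cond (Nat.beq (Nat.land a 128) 0) (cond (Nat.beq (Nat.land a 256) 0) (cond (Nat.beq (Nat.land a 512) 0) rl95 rl607) (cond (Nat.beq (Nat.land a 512) 0) rl351 rl863)) (cond (Nat.beq (Nat.land a 256) 0) (cond (Nat.beq (Nat.land a 512) 0) rl223 rl735) (cond (Nat.beq (Nat.land a 512) 0) rl479 rl991)))) (cond (Nat.beq (Nat.land a 64) 0) (cond (Nat.beq (Nat.land a 128) 0) (cond (Nat.beq (Nat.land a 256) 0) (cond (Nat.beq (Nat.land a 512) 0) rl63 rl575) (cond (Nat.beq (Nat.land a 512) 0) rl319 rl831)) (cond (Nat.beq (Nat.land a 256) 0) (cond (Nat.beq (Nat.land a 512) 0) rl191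 rl703) (cond (Nat.beq (Nat.land a 512) 0) rl447 rl959))) (cond (Nat.beq (Nat.land a 128) 0) (cond (Nat.beq (Nat.land a 256) 0) (cond (Nat.beq (Nat.land a 512) 0) rl127 rl639) (cond (Nat.beq (Nat.land a 512) 0) rl383 rl895)) (cond (Nat.beq (Nat.land a 256) 0) (cond (Nat.beq (Nat.land a 512) 0) rl255 rl767) (cond (Nat.beq (Nat.land a 512) 0) rl511 rl1023))))))))))

/-- a row of the table -/
noncomputable def rowOf (a : ℕ) : ℕ :=
  strictN a fun a' => Nat.shiftRight (rowSel a') (Nat.mul 2564 (Nat.shiftRight a' 10))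

/-- a word -/
noncomputable def wordOf (i : ℕ) : List ℕ :=
  strictN (Nat.land (Nat.shiftRight relP (Nat.mul 104 i)) 20282409603651670423947251286015) fun v =>
    unp (Nat.land v 255) (Nat.shiftRight v 8)

/-- the certificate -/
noncomputable def cert : VCert where
  n := 13365
  g := 10
  k := 10
  nW := 1113
  B := 2048
  iv := fun x => Nat.xor x 1
  sub := fun x => Nat.beq x 0 || Nat.beq x 1 || Nat.beq x 2 || Nat.beq x 3 || Nat.beq x 4 || Nat.beq x 5 || Nat.beq x 6 || Nat.beq x 7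
  sl := fun a x => Nat.land (Nat.shiftRight (rowOf a) (Nat.mul 254 x)) 28948022309329048855892746252171976963317496166410141009864396001978282409983
  pr := fun a => Nat.land (Nat.shiftRight (rowOf a) 2540) 16777215
  W := wordOf
  rhs := fun i => Nat.land (Nat.shiftRight rhsP (Nat.mul 200 i)) 1606938044258990275541962092341162602522202993782792835301375
  wT := fun i => Nat.land (Nat.shiftRight wtaP (Nat.mul 32 i)) 4095
  wA := fun i => Nat.land (Nat.shiftRight wtaP (Nat.add (Nat.mul 32 i) 12)) 1048575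

/-- the check of the rows from `lo` to `lo + k` -/
noncomputable def rowsOK (lo k : ℕ) : Bool := allN k fun i => allN 10 fun x => cert.slotOK (Nat.add lo i) x

/-- the check of the words -/
noncomputable def wordsOK : Bool := allN 1113 fun i => cert.wordOK i

end Cfsg.Agent.Lib.Helper7.U62MY
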