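import Mathlib

/-!
# Subgroups with a chain of subgroups of index two, and lifts of involutions to a covering group (abstract part)

* `mem_or_mem_coset`: if `g` normalises the subgroup `N` and `g * g ∈ N`, the subgroup generated by `g` and `N` is
  `N ∪ g N`.
* `chain_nf`, `chain_card_ge`: for a family `g 0, …, g (n - 1)` such that each `g k` conjugates the later members into
  the subgroup generated by the later members, has its square there and does not lie there, every element of the
  subgroup generated by the family is a product `g 0 ^ e 0 * ⋯ * g (n - 1) ^ e (n - 1)` with exponents zero or one, and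
  the subgroup has at least `2 ^ n` elements.
* `exists_conj_mem_of_card`: an element of order two of a finite group is conjugate into a given subgroup whose order
  is the full power of two.
* `exists_lift_hom`: a stem extension with the largest kernel maps onto every stem extension.
-/

set_option autoImplicit false

namespace Cfsg.Agent.Lib.Helper7.U62S

section coset

variable {G : Type*} [Group G]

theorem conj_inv_mem {N : Subgroup G} {g : G} (hc : ∀ n ∈ N, g * n * g⁻¹ ∈ N) (hsq : g * g ∈ N)
    {n : G} (hn : n ∈ N) : g⁻¹ * n * g ∈ N := by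
  have e : g⁻¹ * n * g = (g * g)⁻¹ * (g * n * g⁻¹) * (g * g) := by group
  rw [e]
  exact N.mul_mem (N.mul_mem (N.inv_mem hsq) (hc n hn)) hsq

/-- the subgroup generated by `N` and an element that normalises `N` and has its square in `N` -/
theorem mem_or_mem_coset {N : Subgroup G} {g : G} (hc : ∀ n ∈ N, g * n * g⁻¹ ∈ N) (hsq : g * g ∈ N)
    {s : G} (hs : s ∈ Subgroup.closure (insert g (N : Set G))) : s ∈ N ∨ ∃ n ∈ N, s = g * n := by
  have hc' : ∀ n ∈ N, g⁻¹ * n * g ∈ N := fun n hn => conj_inv_mem hc hsq hn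
  induction hs using Subgroup.closure_induction with
  | mem x hx =>
    rcases hx with rfl | hx
    · exact Or.inr ⟨1, N.one_mem, (mul_one _).symm⟩
    · exact Or.inl hx
  | one => exact Or.inl N.one_mem
  | mul x y _ _ hx hy =>
    rcases hx with hx | ⟨a, ha, rfl⟩ <;> rcases hy with hy | ⟨b, hb, rfl⟩
    · exact Or.inl (N.mul_mem hx hy)
    · refine Or.inr ⟨g⁻¹ * x * g * b, N.mul_mem (hc' x hx) hb, ?_⟩
      group
    · exact Or.inr ⟨a * y, N.mul_mem ha hy, by group⟩
    · refine Or.inl ?_
      have e : g * a * (g * b) = g * g * (g⁻¹ * a * g) * b := by group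
      rw [e]
      exact N.mul_mem (N.mul_mem hsq (hc' a ha)) hb
  | inv x _ hx =>
    rcases hx with hx | ⟨a, ha, rfl⟩
    · exact Or.inl (N.inv_mem hx)
    · refine Or.inr ⟨(g * g)⁻¹ * (g * a⁻¹ * g⁻¹), N.mul_mem (N.inv_mem hsq) (hc _ (N.inv_mem ha)), ?_⟩
      group

theorem conj_mem_closure {S : Set G} {g : G} (h : ∀ x ∈ S, g * x * g⁻¹ ∈ Subgroup.closure S) :
    ∀ y ∈ Subgroup.closure S, g * y * g⁻¹ ∈ Subgroup.closure S := by
  intro y hy
  induction hy using Subgroup.closure_induction with
  | mem x hx => exact h x hx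
  | one => simp
  | mul a b _ _ ha hb =>
    have e : g * (a * b) * g⁻¹ = g * a * g⁻¹ * (g * b * g⁻¹) := by group
    rw [e]
    exact Subgroup.mul_mem _ ha hb
  | inv a _ ha =>
    have e : g * a⁻¹ * g⁻¹ = (g * a * g⁻¹)⁻¹ := by group
    rw [e]
    exact Subgroup.inv_mem _ ha

end coset

/-! ### chains -/

section chain

variable {G : Type*} [Group G] (g : ℕ → G) (n : ℕ)

/-- the subgroup generated by the members `k, …, n - 1` of the family -/
def Hs (k : ℕ) : Subgroup G := Subgroup.closure (g '' {i | k ≤ i ∧ i < n})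

/-- the product of the members of the family with the indices in the list that are chosen by `e` -/
def nfL (e : ℕ → Bool) (l : List ℕ) : G := (l.map fun i => bif e i then g i else 1).prod

theorem nfL_nil (e : ℕ → Bool) : nfL g e [] = 1 := rfl

theorem nfL_cons (e : ℕ → Bool) (i : ℕ) (l : List ℕ) :
    nfL g e (i :: l) = (bif e i then g i else 1) * nfL g e l := by
  rw [nfL, List.map_cons, List.prod_cons]
  rfl

theorem nfL_update (e : ℕ → Bool) (k : ℕ) (b : Bool) : ∀ l : List ℕ, k ∉ l →
    nfL g (Function.update e k b) l = nfL g e l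
  | [], _ => rfl
  | i :: l, h => by
    have hik : i ≠ k := fun h' => h (by rw [h']; exact List.mem_cons_self)
    rw [nfL_cons, nfL_cons, Function.update_of_ne hik,
      nfL_update e k b l fun h' => h (List.mem_cons_of_mem _ h')]

theorem Hs_mono {k l : ℕ} (h : k ≤ l) : Hs g n l ≤ Hs g n k :=
  Subgroup.closure_mono (Set.image_mono fun _ hi => ⟨le_trans h hi.1, hi.2⟩)

theorem mem_Hs {k i : ℕ} (hk : k ≤ i) (hi : i < n) : g i ∈ Hs g n k :=
  Subgroup.subset_closure ⟨i, ⟨hk, hi⟩, rfl⟩

theorem Hs_le_insert (k : ℕ) :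
    Hs g n k ≤ Subgroup.closure (insert (g k) ((Hs g n (k + 1) : Subgroup G) : Set G)) := by
  rw [Hs, Subgroup.closure_le]
  rintro _ ⟨i, ⟨hk, hi⟩, rfl⟩
  rcases Nat.eq_or_lt_of_le hk with rfl | hlt
  · exact Subgroup.subset_closure (Set.mem_insert _ _)
  · exact Subgroup.subset_closure (Set.mem_insert_of_mem _ (mem_Hs g n hlt hi))

theorem nfL_mem (e : ℕ → Bool) (k : ℕ) : ∀ l : List ℕ, (∀ i ∈ l, k ≤ i ∧ i < n) → nfL g e l ∈ Hs g n k
  | [], _ => Subgroup.one_mem _
  | i :: l, h => by
    rw [nfL_cons]
    refine Subgroup.mul_mem _ ?_ (nfL_mem e k l fun j hj => h j (List.mem_cons_of_mem _ hj))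
    cases e i
    · exact Subgroup.one_mem _
    · exact mem_Hs g n (h i List.mem_cons_self).1 (h i List.mem_cons_self).2

variable {g n}

/-- **the normal form**: every element of the subgroup generated by the members `k, …` is a product of some of them,
in the order of the indices -/
theorem chain_nf
    (hconj : ∀ k j, k < j → j < n → g k * g j * (g k)⁻¹ ∈ Hs g n (k + 1))
    (hsq : ∀ k, k < n → g k * g k ∈ Hs g n (k + 1)) :
    ∀ m k, k + m = n → ∀ s ∈ Hs g n k, ∃ e : ℕ → Bool, s = nfL g e (List.range' k m)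
  | 0, k, hk, s, hs => by
    have h0 : Hs g n k = ⊥ := by
      rw [Hs, Subgroup.closure_eq_bot_iff]
      rintro _ ⟨i, ⟨h1, h2⟩, rfl⟩
      omega
    rw [h0, Subgroup.mem_bot] at hs
    exact ⟨fun _ => false, by rw [hs]; rfl⟩
  | m + 1, k, hk, s, hs => by
    have hkn : k < n := by omega
    have hc : ∀ y ∈ Hs g n (k + 1), g k * y * (g k)⁻¹ ∈ Hs g n (k + 1) := by
      apply conj_mem_closure
      rintro _ ⟨j, ⟨h1, h2⟩, rfl⟩
      exact hconj k j h1 h2
    have hr : List.range' k (m + 1) = k :: List.range' (k + 1) m := List.range'_succ ..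
    have hnot : k ∉ List.range' (k + 1) m := by
      rw [List.mem_range']
      rintro ⟨i, _, hi⟩
      omega
    rcases mem_or_mem_coset hc (hsq k hkn) (Hs_le_insert g n k hs) with h | ⟨y, hy, rfl⟩
    · obtain ⟨e, he⟩ := chain_nf hconj hsq m (k + 1) (by omega) s h
      refine ⟨Function.update e k false, ?_⟩
      rw [hr, nfL_cons, Function.update_self, nfL_update g e k false _ hnot, ← he]
      exact (one_mul s).symm
    · obtain ⟨e, he⟩ := chain_nf hconj hsq m (k + 1) (by omega) y hy
      refine ⟨Function.update e k true, ?_⟩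
      rw [hr, nfL_cons, Function.update_self, nfL_update g e k true _ hnot, ← he]
      rfl

/-- **the order**: each step of the chain doubles the order at least -/
theorem chain_card_ge [Finite G] (hnot : ∀ k, k < n → g k ∉ Hs g n (k + 1)) :
    ∀ m k, k + m = n → 2 ^ m ≤ Nat.card ↥(Hs g n k)
  | 0, k, _ => by
    rw [pow_zero]
    exact Nat.card_pos
  | m + 1, k, hk => by
    have hkn : k < n := by omega
    have ih := chain_card_ge hnot m (k + 1) (by omega)
    have hle : Hs g n (k + 1) ≤ Hs g n k := Hs_mono g n (Nat.le_succ k)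
    have hdvd : Nat.card ↥(Hs g n (k + 1)) ∣ Nat.card ↥(Hs g n k) := Subgroup.card_dvd_of_le hle
    obtain ⟨q, hq⟩ := hdvd
    have hpos : 0 < Nat.card ↥(Hs g n k) := Nat.card_pos
    have hq1 : q ≠ 1 := by
      intro h1
      rw [h1, mul_one] at hq
      have heq : Hs g n (k + 1) = Hs g n k := Subgroup.eq_of_le_of_card_ge hle (le_of_eq hq)
      exact hnot k hkn (by rw [heq]; exact mem_Hs g n le_rfl hkn)
    have hq0 : q ≠ 0 := by
      intro h0
      rw [h0, mul_zero] at hq
      omega
    have hq2 : 2 ≤ q := by omega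
    calc 2 ^ (m + 1) = 2 ^ m * 2 := pow_succ ..
      _ ≤ Nat.card ↥(Hs g n (k + 1)) * q := Nat.mul_le_mul ih hq2
      _ = Nat.card ↥(Hs g n k) := hq.symm

end chain

end Cfsg.Agent.Lib.Helper7.U62S
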