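import Cfsg.Agent.Lib.Helper7.U62SD
import Cfsg.Agent.Lib.Helper7.U62SA
import Cfsg.Agent.Lib.Helper7.U62MF

/-! # The involutions of the unitary group of degree six over the field of four elements lift to involutions of the
double cover: the tables of the generators of the chain -/

set_option autoImplicit false
set_option maxRecDepth 100000

namespace Cfsg.Agent.Lib.Helper7.U62S

open Cfsg Cfsg.Spor Cfsg.Agent.Lib.Helper7.MG Cfsg.Agent.Lib.Helper7.HSMult Cfsg.Agent.Lib.Helper7.U62MB
  Cfsg.Agent.Lib.Helper7.U62MM

/-- the word of a generator of the chain -/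
def pcW (k : ℕ) : List ℕ := pcWL.getD k []

/-- the image of one of the 4704 points under a generator of the chain -/
noncomputable def lkY (k p : ℕ) : ℕ :=
  cond (Nat.ble 15 k) p (strictN p fun q => ent9 (selY k (Nat.shiftRight q 9)) (Nat.land q 511))

/-- the check of the table of a generator of the chain -/
noncomputable def tabOK (k : ℕ) : Bool :=
  strictL (pcW k) fun w => allN 4704 fun p => Nat.beq (ev9 w p) (lkY k p)

theorem tabOK_spec {k : ℕ} (h : tabOK k = true) {p : ℕ} (hp : p < 4704) : ev9 (pcW k) p = lkY k p := by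
  rw [tabOK, strictL_eq, allN_iff] at h
  exact Nat.eq_of_beq_eq_true (h p hp)

theorem tab_0 : tabOK 0 = true := by decide +kernel

theorem tab_1 : tabOK 1 = true := by decide +kernel

theorem tab_2 : tabOK 2 = true := by decide +kernel

theorem tab_3 : tabOK 3 = true := by decide +kernel

theorem tab_4 : tabOK 4 = true := by decide +kernel

theorem tab_5 : tabOK 5 = true := by decide +kernel

theorem tab_6 : tabOK 6 = true := by decide +kernel

theorem tab_7 : tabOK 7 = true := by decide +kernel

theorem tab_8 : tabOK 8 = true := by decide +kernel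

theorem tab_9 : tabOK 9 = true := by decide +kernel

theorem tab_10 : tabOK 10 = true := by decide +kernel

theorem tab_11 : tabOK 11 = true := by decide +kernel

theorem tab_12 : tabOK 12 = true := by decide +kernel

theorem tab_13 : tabOK 13 = true := by decide +kernel

theorem tab_14 : tabOK 14 = true := by decide +kernel

/-- the tables give the action of the words of the generators of the chain -/
theorem tab_spec : ∀ k, k < 15 → ∀ p, p < 4704 → ev9 (pcW k) p = lkY k p
  | 0, _, _, hp => tabOK_spec tab_0 hp
  | 1, _, _, hp => tabOK_spec tab_1 hp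
  | 2, _, _, hp => tabOK_spec tab_2 hp
  | 3, _, _, hp => tabOK_spec tab_3 hp
  | 4, _, _, hp => tabOK_spec tab_4 hp
  | 5, _, _, hp => tabOK_spec tab_5 hp
  | 6, _, _, hp => tabOK_spec tab_6 hp
  | 7, _, _, hp => tabOK_spec tab_7 hp
  | 8, _, _, hp => tabOK_spec tab_8 hp
  | 9, _, _, hp => tabOK_spec tab_9 hp
  | 10, _, _, hp => tabOK_spec tab_10 hp
  | 11, _, _, hp => tabOK_spec tab_11 hp
  | 12, _, _, hp => tabOK_spec tab_12 hp
  | 13, _, _, hp => tabOK_spec tab_13 hp
  | 14, _, _, hp => tabOK_spec tab_14 hp
  | k + 15, hk, _, _ => absurd hk (by omega)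

theorem pcW_lt : ∀ k, k < 15 → ∀ x ∈ pcW k, x < 9 := by decide +kernel

end Cfsg.Agent.Lib.Helper7.U62S
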