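import Cfsg.Agent.Lib.Helper7.U62SB
import Cfsg.Agent.Lib.Helper6.U62Unit

/-! # The involutions of the unitary group of degree six over the field of four elements lift to involutions of the
double cover: the relations of the chain -/

set_option autoImplicit false
set_option maxRecDepth 100000

namespace Cfsg.Agent.Lib.Helper7.U62S

open Cfsg Cfsg.Spor Cfsg.Agent.Lib.Helper7.MG Cfsg.Agent.Lib.Helper7.HSMult Cfsg.Agent.Lib.Helper7.U62MB
  Cfsg.Agent.Lib.Helper7.U62MM
open Cfsg.Agent.Lib.Helper6.TC Cfsg.Agent.Lib.Helper6.U62Sub Cfsg.Agent.Lib.Helper6 Cfsg.Agent.Lib.Helper6.U62Unit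
  Cfsg.Agent.Lib.Helper6.U62Mat Cfsg.Agent.Lib.Helper6.ChevMatL4

/-- a word in the involutions whose matrix is a scalar matrix is trivial in the presented group -/
theorem pgen_word_eq_one {w : List ℕ} (hw : ∀ x ∈ w, x < 9) (h1 : isScal (prodT4 6 (w.map genLt)) = true) :
    VCert.wd pgen w = 1 := by
  apply ψ_injective
  rw [map_one]
  have e : ψ (VCert.wd pgen w) = (w.map fun x => fgen (U62PBTC.gen x)).prod := by
    unfold VCert.wd
    rw [map_list_prod, List.map_map]
    congr 1
    apply List.map_congr_left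
    intro x _
    exact ψ_of _
  rw [e, prod_fgen hw, QuotientGroup.eq_one_iff]
  obtain ⟨c, hc⟩ := isScal_spec h1
  apply central_of_scalar _ c
  rw [prod_gSU_val hw, hc, mr_scal]

/-- the exponents of a relation of the chain -/
def pcC (k j : ℕ) : ℕ := (pcCL.getD k []).getD j 0

/-- the indices above `k` of the generators in the normal form with the number `c` -/
def nfI (c k : ℕ) : List ℕ := (List.range' (k + 1) (14 - k)).filter fun i => Nat.testBit c i

/-- the word of the normal form with the number `c` in the generators above `k` -/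
def nfW (c k : ℕ) : List ℕ := (nfI c k).flatMap pcW

/-- the word of the relation for the square of a generator -/
def sqW (k : ℕ) : List ℕ := pcW k ++ (pcW k ++ (nfW (pcC k k) k).reverse)

/-- the word of the relation for the conjugate of a generator -/
def cjW (k j : ℕ) : List ℕ := pcW k ++ (pcW j ++ ((pcW k).reverse ++ (nfW (pcC k j) k).reverse))

theorem chk_sq : ∀ k, k < 15 → isScal (prodT4 6 ((sqW k).map genLt)) = true := by decide +kernel

theorem chk_cj_0 : ∀ j, j < 15 → 0 < j → isScal (prodT4 6 ((cjW 0 j).map genLt)) = true := by decide +kernel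

theorem chk_cj_1 : ∀ j, j < 15 → 1 < j → isScal (prodT4 6 ((cjW 1 j).map genLt)) = true := by decide +kernel

theorem chk_cj_2 : ∀ j, j < 15 → 2 < j → isScal (prodT4 6 ((cjW 2 j).map genLt)) = true := by decide +kernel

theorem chk_cj_3 : ∀ j, j < 15 → 3 < j → isScal (prodT4 6 ((cjW 3 j).map genLt)) = true := by decide +kernel

theorem chk_cj_4 : ∀ j, j < 15 → 4 < j → isScal (prodT4 6 ((cjW 4 j).map genLt)) = true := by decide +kernel

theorem chk_cj_5 : ∀ j, j < 15 → 5 < j → isScal (prodT4 6 ((cjW 5 j).map genLt)) = true := by decide +kernel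

theorem chk_cj_6 : ∀ j, j < 15 → 6 < j → isScal (prodT4 6 ((cjW 6 j).map genLt)) = true := by decide +kernel

theorem chk_cj_7 : ∀ j, j < 15 → 7 < j → isScal (prodT4 6 ((cjW 7 j).map genLt)) = true := by decide +kernel

theorem chk_cj_8 : ∀ j, j < 15 → 8 < j → isScal (prodT4 6 ((cjW 8 j).map genLt)) = true := by decide +kernel

theorem chk_cj_9 : ∀ j, j < 15 → 9 < j → isScal (prodT4 6 ((cjW 9 j).map genLt)) = true := by decide +kernel

theorem chk_cj_10 : ∀ j, j < 15 → 10 < j → isScal (prodT4 6 ((cjW 10 j).map genLt)) = true := by decide +kernel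

theorem chk_cj_11 : ∀ j, j < 15 → 11 < j → isScal (prodT4 6 ((cjW 11 j).map genLt)) = true := by decide +kernel

theorem chk_cj_12 : ∀ j, j < 15 → 12 < j → isScal (prodT4 6 ((cjW 12 j).map genLt)) = true := by decide +kernel

theorem chk_cj_13 : ∀ j, j < 15 → 13 < j → isScal (prodT4 6 ((cjW 13 j).map genLt)) = true := by decide +kernel

theorem chk_cj : ∀ k, k < 15 → ∀ j, j < 15 → k < j → isScal (prodT4 6 ((cjW k j).map genLt)) = true
  | 0, _, j, hj, h => chk_cj_0 j hj h
  | 1, _, j, hj, h => chk_cj_1 j hj h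
  | 2, _, j, hj, h => chk_cj_2 j hj h
  | 3, _, j, hj, h => chk_cj_3 j hj h
  | 4, _, j, hj, h => chk_cj_4 j hj h
  | 5, _, j, hj, h => chk_cj_5 j hj h
  | 6, _, j, hj, h => chk_cj_6 j hj h
  | 7, _, j, hj, h => chk_cj_7 j hj h
  | 8, _, j, hj, h => chk_cj_8 j hj h
  | 9, _, j, hj, h => chk_cj_9 j hj h
  | 10, _, j, hj, h => chk_cj_10 j hj h
  | 11, _, j, hj, h => chk_cj_11 j hj h
  | 12, _, j, hj, h => chk_cj_12 j hj h
  | 13, _, j, hj, h => chk_cj_13 j hj h
  | k + 14, hk, j, hj, h => absurd h (by omega)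

end Cfsg.Agent.Lib.Helper7.U62S
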