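import Cfsg.Agent.Lib.Helper7.U62SC

/-! # The involutions of the unitary group of degree six over the field of four elements lift to involutions of the
double cover: the chain of a Sylow 2-subgroup -/

set_option autoImplicit false
set_option maxRecDepth 100000

namespace Cfsg.Agent.Lib.Helper7.U62S

open Cfsg Cfsg.Spor Cfsg.Agent.Lib.Helper7.MG Cfsg.Agent.Lib.Helper7.HSMult Cfsg.Agent.Lib.Helper7.U62MB
  Cfsg.Agent.Lib.Helper7.U62MM
open Cfsg.Agent.Lib.Helper6.TC Cfsg.Agent.Lib.Helper6.U62Sub Cfsg.Agent.Lib.Helper6 Cfsg.Agent.Lib.Helper6.U62Unit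
  Cfsg.Agent.Lib.Helper6.U62Mat Cfsg.Agent.Lib.Helper6.ChevMatL4

/-! ### the generators of the chain -/

/-- the generators of the chain in the presented group -/
noncomputable def gp (k : ℕ) : PB := VCert.wd pgen (pcW k)

/-- the generators of the chain in the extension -/
noncomputable def gh (k : ℕ) : ↥GE := VCert.wd gE (pcW k)

theorem sigE_gh {k : ℕ} (hk : k < 15) : sigE (gh k) = gp k := sigE_wd (pcW_lt k hk)

theorem pgen_mul_self {x : ℕ} (hx : x < 9) : pgen x * pgen x = 1 := by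
  rw [← sigE_gE hx, ← map_mul, gE_mul_self, map_one]

theorem wd_pgen_reverse : ∀ w : List ℕ, (∀ x ∈ w, x < 9) → VCert.wd pgen w.reverse = (VCert.wd pgen w)⁻¹
  | [], _ => by
    rw [List.reverse_nil, VCert.wd_nil, inv_one]
  | x :: w, h => by
    rw [List.reverse_cons, VCert.wd_append, VCert.wd_cons, VCert.wd_nil, mul_one, VCert.wd_cons, mul_inv_rev,
      wd_pgen_reverse w (fun y hy => h y (List.mem_cons_of_mem _ hy))]
    congr 1
    exact eq_inv_of_mul_eq_one_left (pgen_mul_self (h x List.mem_cons_self))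

theorem nfI_mem {c k i : ℕ} (h : i ∈ nfI c k) : k + 1 ≤ i ∧ i < 15 := by
  rw [nfI, List.mem_filter, List.mem_range'_1] at h
  omega

theorem flatMap_lt : ∀ l : List ℕ, (∀ i ∈ l, i < 15) → ∀ x ∈ l.flatMap pcW, x < 9 := by
  intro l hl x hx
  rw [List.mem_flatMap] at hx
  obtain ⟨i, hi, hx⟩ := hx
  exact pcW_lt i (hl i hi) x hx

theorem nfW_lt (c k : ℕ) : ∀ x ∈ nfW c k, x < 9 :=
  flatMap_lt _ fun _ hi => (nfI_mem hi).2

theorem wd_flatMap_mem (k : ℕ) : ∀ l : List ℕ, (∀ i ∈ l, k ≤ i ∧ i < 15) →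
    VCert.wd pgen (l.flatMap pcW) ∈ Hs gp 15 k
  | [], _ => Subgroup.one_mem _
  | i :: l, h => by
    rw [List.flatMap_cons, VCert.wd_append]
    exact Subgroup.mul_mem _ (mem_Hs gp 15 (h i List.mem_cons_self).1 (h i List.mem_cons_self).2)
      (wd_flatMap_mem k l fun j hj => h j (List.mem_cons_of_mem _ hj))

theorem wd_nfW_mem (c k : ℕ) : VCert.wd pgen (nfW c k) ∈ Hs gp 15 (k + 1) :=
  wd_flatMap_mem (k + 1) _ fun _ hi => nfI_mem hi

/-- the conjugates of the later generators are in the later subgroups -/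
theorem gp_conj (k j : ℕ) (hkj : k < j) (hj : j < 15) : gp k * gp j * (gp k)⁻¹ ∈ Hs gp 15 (k + 1) := by
  have hk : k < 15 := lt_trans hkj hj
  have hlt : ∀ x ∈ cjW k j, x < 9 := by
    intro x hx
    rw [cjW, List.mem_append, List.mem_append, List.mem_append, List.mem_reverse, List.mem_reverse] at hx
    rcases hx with hx | hx | hx | hx
    · exact pcW_lt k hk x hx
    · exact pcW_lt j hj x hx
    · exact pcW_lt k hk x hx
    · exact nfW_lt _ _ x hx
  have h := pgen_word_eq_one hlt (chk_cj k hk j hj hkj)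
  rw [cjW, VCert.wd_append, VCert.wd_append, VCert.wd_append, wd_pgen_reverse _ (pcW_lt k hk),
    wd_pgen_reverse _ (nfW_lt _ _), ← mul_assoc, ← mul_assoc, mul_inv_eq_one] at h
  have e : gp k * gp j * (gp k)⁻¹ = VCert.wd pgen (nfW (pcC k j) k) := h
  rw [e]
  exact wd_nfW_mem _ _

/-- the squares of the generators are in the later subgroups -/
theorem gp_sq (k : ℕ) (hk : k < 15) : gp k * gp k ∈ Hs gp 15 (k + 1) := by
  have hlt : ∀ x ∈ sqW k, x < 9 := by
    intro x hx
    rw [sqW, List.mem_append, List.mem_append, List.mem_reverse] at hx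
    rcases hx with hx | hx | hx
    · exact pcW_lt k hk x hx
    · exact pcW_lt k hk x hx
    · exact nfW_lt _ _ x hx
  have h := pgen_word_eq_one hlt (chk_sq k hk)
  rw [sqW, VCert.wd_append, VCert.wd_append, wd_pgen_reverse _ (nfW_lt _ _), ← mul_assoc, mul_inv_eq_one] at h
  have e : gp k * gp k = VCert.wd pgen (nfW (pcC k k) k) := h
  rw [e]
  exact wd_nfW_mem _ _

/-- the normal forms of the elements of the subgroup -/
theorem exists_nf {s : PB} (hs : s ∈ Hs gp 15 0) : ∃ e : ℕ → Bool, s = nfL gp e (List.range' 0 15) :=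
  chain_nf gp_conj gp_sq 15 0 (by norm_num) s hs

end Cfsg.Agent.Lib.Helper7.U62S
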