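import Cfsg.Agent.Lib.Helper7.U62SE

/-! # The involutions of the unitary group of degree six over the field of four elements lift to involutions of the
double cover: the elements of the kernel of the extension -/

set_option autoImplicit false
set_option maxRecDepth 100000

namespace Cfsg.Agent.Lib.Helper7.U62S

open Cfsg Cfsg.Spor Cfsg.Agent.Lib.Helper7.MG Cfsg.Agent.Lib.Helper7.HSMult Cfsg.Agent.Lib.Helper7.U62MB
  Cfsg.Agent.Lib.Helper7.U62MM
open Cfsg.Agent.Lib.Helper6.TC Cfsg.Agent.Lib.Helper6.U62Sub Cfsg.Agent.Lib.Helper6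

theorem card_ker : Nat.card ↥sigE.ker = 12 := by
  obtain ⟨iso⟩ := ker_GE
  rw [Nat.card_congr iso.toEquiv, card_prod_322]

/-- the elements of the kernel are the values of the twelve words -/
theorem exists_kw {κ : ↥GE} (hκ : κ ∈ sigE.ker) : ∃ i, i < 12 ∧ κ = VCert.wd gE (kw i) := by
  have hinj : Function.Injective
      (fun i : Fin 12 => (⟨VCert.wd gE (kw i.val), wd_gE_kw_mem i.2⟩ : ↥sigE.ker)) := by
    intro i j h
    have h1 : VCert.wd gE (kw i.val) = VCert.wd gE (kw j.val) := congrArg Subtype.val h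
    have hi := kw_lt i.val i.2
    have hj := kw_lt j.val j.2
    have e : sigL.getD i.val 0 = sigL.getD j.val 0 := by
      rw [← chk_sig i.val i.2, ← chk_sig j.val j.2, ev9_of_wd_gE_eq hi hj h1 (p := 0) (by norm_num),
        ev9_of_wd_gE_eq hi hj h1 (p := 2016) (by norm_num), ev9_of_wd_gE_eq hi hj h1 (p := 3360) (by norm_num)]
    exact Fin.ext (chk_nodup i.val i.2 j.val j.2 e)
  have hb := (Nat.bijective_iff_injective_and_card _).2 ⟨hinj, by rw [Nat.card_fin, card_ker]⟩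
  obtain ⟨i, hi⟩ := hb.2 ⟨κ, hκ⟩
  exact ⟨i.val, i.2, (congrArg Subtype.val hi).symm⟩

/-- the action of the value of a word on the points -/
theorem wd_gE_apply {w : List ℕ} (hw : ∀ x ∈ w, x < 9) (p : Fin 4704) :
    (((VCert.wd gE w : ↥GE) : Equiv.Perm (Fin 4704) × PB).1 p).val = ev9 w p.val := by
  rw [wd_gE_val w hw]
  exact wd_pm9_val w p

/-- the shifts preserve the blocks of three among the first 2016 points -/
theorem sh_fib (e : ℕ) {p : ℕ} (hp : p < 2016) : sh e p < 2016 ∧ sh e p / 3 = p / 3 := by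
  have hb : Nat.blt p 2016 = true := by
    rw [Nat.blt_eq]
    exact hp
  rw [sh, strictN_eq]
  show cond (Nat.blt p 2016) (3 * (p / 3) + (p % 3 + e % 3) % 3)
      (2 * (p / 2) + (p % 2 + cond (Nat.blt p 3360) (e / 3 % 2) (e / 6)) % 2) < 2016 ∧
    cond (Nat.blt p 2016) (3 * (p / 3) + (p % 3 + e % 3) % 3)
      (2 * (p / 2) + (p % 2 + cond (Nat.blt p 3360) (e / 3 % 2) (e / 6)) % 2) / 3 = p / 3
  rw [hb]
  simp only [cond_true]
  omega

theorem ev9_wpow_fib {i : ℕ} (hi : i < 87) : ∀ (n : ℕ) {p : ℕ}, p < 2016 →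
    ev9 (wpow n (relL.getD i [])) p < 2016 ∧ ev9 (wpow n (relL.getD i [])) p / 3 = p / 3
  | 0, p, hp => ⟨hp, rfl⟩
  | n + 1, p, hp => by
    obtain ⟨h1, h2⟩ := ev9_wpow_fib hi n hp
    rw [wpow, ev9_append, rel_spec i hi _ (lt_trans h1 (by norm_num))]
    obtain ⟨h3, h4⟩ := sh_fib (relE.getD i 0) h1
    exact ⟨h3, h4.trans h2⟩

/-- the words of the kernel preserve the blocks of three among the first 2016 points -/
theorem ev9_kw_fib (i : ℕ) {p : ℕ} (hp : p < 2016) : ev9 (kw i) p < 2016 ∧ ev9 (kw i) p / 3 = p / 3 := by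
  obtain ⟨h1, h2⟩ := ev9_wpow_fib (i := 85) (by norm_num) (i / 6) hp
  obtain ⟨h3, h4⟩ := ev9_wpow_fib (i := 83) (by norm_num) (i / 3 % 2) h1
  obtain ⟨h5, h6⟩ := ev9_wpow_fib (i := 82) (by norm_num) (i % 3) h3
  rw [kw, ev9_append, ev9_append]
  exact ⟨h5, h6.trans (h4.trans h2)⟩

/-- the elements of the kernel preserve the blocks of three among the first 2016 points -/
theorem ker_fib {κ : ↥GE} (hκ : κ ∈ sigE.ker) (p : Fin 4704) (hp : p.val < 2016) :
    ((κ : Equiv.Perm (Fin 4704) × PB).1 p).val < 2016 ∧ ((κ : Equiv.Perm (Fin 4704) × PB).1 p).val / 3 = p.val / 3 := by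
  obtain ⟨i, hi, rfl⟩ := exists_kw hκ
  rw [wd_gE_apply (kw_lt i hi)]
  exact ev9_kw_fib i hp

theorem chk_sig3 : ∀ i, i < 12 → sigL.getD i 0 / 8192 = 2016 + 8192 * 3360 → i < 3 := by decide +kernel

theorem chk_sh222 : allN 4704 (fun p => Nat.beq (sh 2 (sh 2 (sh 2 p))) p) = true := by decide +kernel

theorem sh_lt (e : ℕ) {p : ℕ} (hp : p < 4704) : sh e p < 4704 := by
  rw [sh, strictN_eq]
  show cond (Nat.blt p 2016) (3 * (p / 3) + (p % 3 + e % 3) % 3)
      (2 * (p / 2) + (p % 2 + cond (Nat.blt p 3360) (e / 3 % 2) (e / 6)) % 2) < 4704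
  rcases Nat.lt_or_ge p 2016 with h | h
  · have hb : Nat.blt p 2016 = true := by
      rw [Nat.blt_eq]
      exact h
    rw [hb]
    simp only [cond_true]
    omega
  · have hb : Nat.blt p 2016 = false := by
      rw [← Bool.not_eq_true, Nat.blt_eq]
      omega
    rw [hb]
    simp only [cond_false]
    omega

/-- the central element of order three -/
noncomputable def z3 : ↥GE := VCert.wd gE (relL.getD 82 [])

theorem z3_pow : z3 ^ 3 = 1 := by
  have hm := getD_mem (i := 82) (by norm_num)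
  obtain ⟨hlt, hB⟩ := rel_pgen hm
  have hlt3 : ∀ x ∈ wpow 3 (relL.getD 82 []), x < 9 := by
    intro x hx
    rw [wpow, wpow, wpow, wpow, List.append_nil, List.mem_append, List.mem_append] at hx
    rcases hx with hx | hx | hx <;> exact hlt x hx
  rw [z3, ← wd_wpow]
  refine wd_gE_eq_one hlt3 (fun p hp => ?_) ?_
  · have h1 := sh_lt 2 hp
    have h2 := sh_lt 2 h1
    have e : relE.getD 82 0 = 2 := rfl
    have r1 := rel_spec 82 (by norm_num) p hp
    have r2 := rel_spec 82 (by norm_num) _ h1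
    have r3 := rel_spec 82 (by norm_num) _ h2
    rw [e] at r1 r2 r3
    rw [wpow, wpow, wpow, wpow, List.append_nil, ev9_append, ev9_append, r1, r2, r3]
    exact Nat.eq_of_beq_eq_true (allN_iff.1 chk_sh222 p hp)
  · rw [wd_wpow, hB, one_pow]

/-- an element of the kernel that fixes the points 2016 and 3360 has trivial cube -/
theorem ker_pow_three {κ : ↥GE} (hκ : κ ∈ sigE.ker)
    (h1 : ((κ : Equiv.Perm (Fin 4704) × PB).1 ⟨2016, by norm_num⟩).val = 2016)
    (h2 : ((κ : Equiv.Perm (Fin 4704) × PB).1 ⟨3360, by norm_num⟩).val = 3360) : κ ^ 3 = 1 := by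
  obtain ⟨i, hi, rfl⟩ := exists_kw hκ
  rw [wd_gE_apply (kw_lt i hi)] at h1 h2
  have h0 : ev9 (kw i) 0 < 4704 := ev9_lt _ _ (by norm_num)
  have hs := chk_sig i hi
  have hs' : (ev9 (kw i) 0 + 8192 * ev9 (kw i) 2016 + 67108864 * ev9 (kw i) 3360) / 8192 = 2016 + 8192 * 3360 := by
    show (ev9 (kw i) 0 + 8192 * ev9 (kw i) (2016 : ℕ) + 67108864 * ev9 (kw i) (3360 : ℕ)) / 8192 = _
    have e1 : ev9 (kw i) 2016 = 2016 := h1
    have e2 : ev9 (kw i) 3360 = 3360 := h2
    rw [e1, e2]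
    omega
  rw [hs] at hs'
  have hi3 := chk_sig3 i hi hs'
  have e3 : i / 3 % 2 = 0 := by omega
  have e6 : i / 6 = 0 := by omega
  rw [kw, e3, e6, wpow, wpow, List.append_nil, List.append_nil, wd_wpow, ← pow_mul, mul_comm, pow_mul]
  show (z3 ^ 3) ^ (i % 3) = 1
  rw [z3_pow, one_pow]

end Cfsg.Agent.Lib.Helper7.U62S
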