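import Mathlib

/-!
# Conjugation of involutions into a subgroup of full two-power order; a covering group maps onto every stem extension

* `exists_conj_mem_of_card`: an element of square one of a finite group is conjugate into a given subgroup whose order
  is the full power of two.
* `exists_lift_hom`: a perfect central extension `E₁` of `Q`, whose kernel is at least as large as the kernel of every
  perfect central extension of `Q` inside `E₁ × E₂`, maps onto the perfect central extension `E₂` of `Q`, compatibly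
  with the projections.
-/

set_option autoImplicit false

namespace Cfsg.Agent.Lib.Helper7.U62S

open scoped Pointwise commutatorElement

/-- an element of square one is conjugate into a subgroup whose order is the full power of two -/
theorem exists_conj_mem_of_card {G : Type*} [Group G] [Finite G] (P : Subgroup G) (a m : ℕ)
    (hP : Nat.card ↥P = 2 ^ a) (hG : Nat.card G = 2 ^ a * m) (hm : ¬ 2 ∣ m) (x : G) (hx : x * x = 1) :
    ∃ h : G, h * x * h⁻¹ ∈ P := by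
  haveI : Fact (Nat.Prime 2) := ⟨Nat.prime_two⟩
  have hm0 : m ≠ 0 := fun h => hm (by rw [h]; exact dvd_zero 2)
  have hfac : (Nat.card G).factorization 2 = a := by
    rw [hG, Nat.factorization_mul (pow_ne_zero _ (by norm_num)) hm0, Nat.Prime.factorization_pow Nat.prime_two]
    simp [Nat.factorization_eq_zero_of_not_dvd hm]
  let PS : Sylow 2 G := Sylow.ofCard P (by rw [hfac]; exact hP)
  have hPS : (PS : Subgroup G) = P := Sylow.coe_ofCard P _
  have hZ : IsPGroup 2 ↥(Subgroup.zpowers x) := by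
    intro y
    refine ⟨1, ?_⟩
    obtain ⟨k, hk⟩ := Subgroup.mem_zpowers_iff.1 y.2
    apply Subtype.ext
    rw [Subgroup.coe_pow, ← hk, pow_one, pow_two, ← zpow_add, ← two_mul, zpow_mul, zpow_two, hx, one_zpow]
    rfl
  obtain ⟨Q, hQ⟩ := hZ.exists_le_sylow
  obtain ⟨h, hh⟩ := MulAction.exists_smul_eq G Q PS
  refine ⟨h, ?_⟩
  have hxQ : x ∈ (Q : Subgroup G) := hQ (Subgroup.mem_zpowers x)
  have h1 : MulAut.conj h • x ∈ MulAut.conj h • (Q : Subgroup G) := Subgroup.smul_mem_pointwise_smul _ _ _ hxQ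
  have h2 : MulAut.conj h • (Q : Subgroup G) = ((h • Q : Sylow 2 G) : Subgroup G) := rfl
  rw [h2, hh, hPS] at h1
  exact h1

/-- the order of a group that maps onto another -/
theorem card_eq_card_mul_ker {E Q : Type*} [Group E] [Group Q] [Finite E] (σ : E →* Q)
    (hσ : Function.Surjective σ) : Nat.card E = Nat.card Q * Nat.card ↥σ.ker := by
  have h1 := Subgroup.card_eq_card_quotient_mul_card_subgroup σ.ker
  have h2 : Nat.card (E ⧸ σ.ker) = Nat.card Q :=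
    Nat.card_congr (QuotientGroup.quotientKerEquivOfSurjective σ hσ).toEquiv
  rw [h1, h2]

section lift

variable {Q E₁ E₂ : Type*} [Group Q] [Group E₁] [Group E₂] [Finite E₁] [Finite E₂]
  (σ₁ : E₁ →* Q) (σ₂ : E₂ →* Q)

/-- the pairs with the same image -/
def F0 : Subgroup (E₁ × E₂) :=
  (σ₁.comp (MonoidHom.fst E₁ E₂)).eqLocus (σ₂.comp (MonoidHom.snd E₁ E₂))

theorem mem_F0 {u : E₁ × E₂} : u ∈ F0 σ₁ σ₂ ↔ σ₁ u.1 = σ₂ u.2 := Iff.rfl

/-- the commutator subgroup of the group of the pairs with the same image -/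
def F1 : Subgroup (E₁ × E₂) := ⁅F0 σ₁ σ₂, F0 σ₁ σ₂⁆

theorem F1_le : F1 σ₁ σ₂ ≤ F0 σ₁ σ₂ := Subgroup.commutator_le_self _

variable {σ₁ σ₂}

theorem map_fst_F0 (h2s : Function.Surjective σ₂) : (F0 σ₁ σ₂).map (MonoidHom.fst E₁ E₂) = ⊤ := by
  rw [eq_top_iff]
  intro a _
  obtain ⟨c, hc⟩ := h2s (σ₁ a)
  exact ⟨(a, c), (mem_F0 σ₁ σ₂).2 hc.symm, rfl⟩

theorem map_snd_F0 (h1s : Function.Surjective σ₁) : (F0 σ₁ σ₂).map (MonoidHom.snd E₁ E₂) = ⊤ := by
  rw [eq_top_iff]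
  intro c _
  obtain ⟨a, ha⟩ := h1s (σ₂ c)
  exact ⟨(a, c), (mem_F0 σ₁ σ₂).2 ha, rfl⟩

theorem map_fst_F1 (h2s : Function.Surjective σ₂) (h1p : commutator E₁ = ⊤) :
    (F1 σ₁ σ₂).map (MonoidHom.fst E₁ E₂) = ⊤ := by
  rw [F1, Subgroup.map_commutator, map_fst_F0 h2s, ← commutator_def, h1p]

theorem map_snd_F1 (h1s : Function.Surjective σ₁) (h2p : commutator E₂ = ⊤) :
    (F1 σ₁ σ₂).map (MonoidHom.snd E₁ E₂) = ⊤ := by
  rw [F1, Subgroup.map_commutator, map_snd_F0 h1s, ← commutator_def, h2p]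

variable (σ₁ σ₂)

/-- the projection of the commutator subgroup to the common quotient -/
def tau : ↥(F1 σ₁ σ₂) →* Q := (σ₁.comp (MonoidHom.fst E₁ E₂)).comp (F1 σ₁ σ₂).subtype

theorem tau_apply (u : ↥(F1 σ₁ σ₂)) : tau σ₁ σ₂ u = σ₁ u.1.1 := rfl

variable {σ₁ σ₂}

theorem tau_surjective (h1s : Function.Surjective σ₁) (h2s : Function.Surjective σ₂) (h1p : commutator E₁ = ⊤) :
    Function.Surjective (tau σ₁ σ₂) := by
  intro q
  obtain ⟨a, ha⟩ := h1s q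
  have h : a ∈ (F1 σ₁ σ₂).map (MonoidHom.fst E₁ E₂) := by rw [map_fst_F1 h2s h1p]; trivial
  obtain ⟨u, hu, hua⟩ := h
  refine ⟨⟨u, hu⟩, ?_⟩
  rw [tau_apply]
  show σ₁ u.1 = q
  have : u.1 = a := hua
  rw [this, ha]

theorem central_of_mem_ker (h1c : σ₁.ker ≤ Subgroup.center E₁) (h2c : σ₂.ker ≤ Subgroup.center E₂)
    {u : E₁ × E₂} (hu : u ∈ F0 σ₁ σ₂) (h1 : σ₁ u.1 = 1) (v : E₁ × E₂) : v * u = u * v := by
  have h2 : σ₂ u.2 = 1 := by rw [← (mem_F0 σ₁ σ₂).1 hu, h1]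
  have c1 := Subgroup.mem_center_iff.1 (h1c (MonoidHom.mem_ker.2 h1)) v.1
  have c2 := Subgroup.mem_center_iff.1 (h2c (MonoidHom.mem_ker.2 h2)) v.2
  exact Prod.ext c1 c2

theorem tau_ker_le_center (h1c : σ₁.ker ≤ Subgroup.center E₁) (h2c : σ₂.ker ≤ Subgroup.center E₂) :
    (tau σ₁ σ₂).ker ≤ Subgroup.center ↥(F1 σ₁ σ₂) := by
  intro u hu
  rw [MonoidHom.mem_ker, tau_apply] at hu
  rw [Subgroup.mem_center_iff]
  intro v
  apply Subtype.ext
  exact central_of_mem_ker h1c h2c (F1_le σ₁ σ₂ u.2) hu v.1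

/-- the commutator subgroup is perfect -/
theorem F1_perfect (h1s : Function.Surjective σ₁) (h2s : Function.Surjective σ₂) (h1p : commutator E₁ = ⊤)
    (h1c : σ₁.ker ≤ Subgroup.center E₁) (h2c : σ₂.ker ≤ Subgroup.center E₂) :
    commutator ↥(F1 σ₁ σ₂) = ⊤ := by
  -- every element of `F0` is an element of `F1` times a central element
  have hdec : ∀ x ∈ F0 σ₁ σ₂, ∃ x' ∈ F1 σ₁ σ₂, ∃ z : E₁ × E₂, (∀ v : E₁ × E₂, v * z = z * v) ∧ x = x' * z := by
    intro x hx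
    obtain ⟨u, hu⟩ := tau_surjective h1s h2s h1p (σ₁ x.1)
    rw [tau_apply] at hu
    refine ⟨u.1, u.2, u.1⁻¹ * x, ?_, by group⟩
    have hz0 : u.1⁻¹ * x ∈ F0 σ₁ σ₂ := (F0 σ₁ σ₂).mul_mem ((F0 σ₁ σ₂).inv_mem (F1_le σ₁ σ₂ u.2)) hx
    have hz1 : σ₁ (u.1⁻¹ * x).1 = 1 := by
      show σ₁ ((u.1.1)⁻¹ * x.1) = 1
      rw [map_mul, map_inv, hu, inv_mul_cancel]
    exact central_of_mem_ker h1c h2c hz0 hz1
  have hle : F1 σ₁ σ₂ ≤ ⁅F1 σ₁ σ₂, F1 σ₁ σ₂⁆ := by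
    rw [F1, Subgroup.commutator_le]
    intro x hx y hy
    obtain ⟨x', hx', z, hz, rfl⟩ := hdec x hx
    obtain ⟨y', hy', w, hw, rfl⟩ := hdec y hy
    have e : ⁅x' * z, y' * w⁆ = ⁅x', y'⁆ := by
      simp only [commutatorElement_def, mul_inv_rev]
      have hz' : ∀ v : E₁ × E₂, v * z⁻¹ = z⁻¹ * v := fun v => by
        have := hz v
        calc v * z⁻¹ = z⁻¹ * (z * v) * z⁻¹ := by group
          _ = z⁻¹ * (v * z) * z⁻¹ := by rw [hz v]
          _ = z⁻¹ * v := by group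
      have hw' : ∀ v : E₁ × E₂, v * w⁻¹ = w⁻¹ * v := fun v => by
        calc v * w⁻¹ = w⁻¹ * (w * v) * w⁻¹ := by group
          _ = w⁻¹ * (v * w) * w⁻¹ := by rw [hw v]
          _ = w⁻¹ * v := by group
      calc x' * z * (y' * w) * (z⁻¹ * x'⁻¹) * (w⁻¹ * y'⁻¹)
          = x' * (z * (y' * w * z⁻¹)) * x'⁻¹ * (w⁻¹ * y'⁻¹) := by group
        _ = x' * (z * (z⁻¹ * (y' * w))) * x'⁻¹ * (w⁻¹ * y'⁻¹) := by rw [hz' (y' * w)]
        _ = x' * y' * (w * (x'⁻¹ * w⁻¹)) * y'⁻¹ := by group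
        _ = x' * y' * (w * (w⁻¹ * x'⁻¹)) * y'⁻¹ := by rw [hw' x'⁻¹]
        _ = x' * y' * x'⁻¹ * y'⁻¹ := by group
    rw [e]
    exact Subgroup.commutator_mem_commutator hx' hy'
  rw [eq_top_iff]
  intro u _
  have h1 : u.1 ∈ ⁅F1 σ₁ σ₂, F1 σ₁ σ₂⁆ := hle u.2
  rw [← Subgroup.map_subtype_commutator] at h1
  obtain ⟨v, hv, hvu⟩ := h1
  have : v = u := Subtype.ext hvu
  rw [← this]
  exact hv

/-- **a covering group maps onto every stem extension** -/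
theorem exists_lift_hom (h1s : Function.Surjective σ₁) (h2s : Function.Surjective σ₂)
    (h1p : commutator E₁ = ⊤) (h2p : commutator E₂ = ⊤)
    (h1c : σ₁.ker ≤ Subgroup.center E₁) (h2c : σ₂.ker ≤ Subgroup.center E₂)
    (hbound : ∀ (F : Subgroup (E₁ × E₂)) (τ : ↥F →* Q), Function.Surjective τ →
      τ.ker ≤ Subgroup.center ↥F → τ.ker ≤ commutator ↥F → Nat.card ↥τ.ker ≤ Nat.card ↥σ₁.ker) :
    ∃ f : E₁ →* E₂, Function.Surjective f ∧ ∀ a, σ₂ (f a) = σ₁ a := by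
  have hts := tau_surjective (σ₁ := σ₁) (σ₂ := σ₂) h1s h2s h1p
  have hperf := F1_perfect (σ₁ := σ₁) (σ₂ := σ₂) h1s h2s h1p h1c h2c
  have hk := hbound (F1 σ₁ σ₂) (tau σ₁ σ₂) hts (tau_ker_le_center h1c h2c) (by rw [hperf]; exact le_top)
  -- the first projection of the commutator subgroup is bijective
  let p1 : ↥(F1 σ₁ σ₂) →* E₁ := (MonoidHom.fst E₁ E₂).comp (F1 σ₁ σ₂).subtype
  let p2 : ↥(F1 σ₁ σ₂) →* E₂ := (MonoidHom.snd E₁ E₂).comp (F1 σ₁ σ₂).subtype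
  have hp1s : Function.Surjective p1 := by
    intro a
    have h : a ∈ (F1 σ₁ σ₂).map (MonoidHom.fst E₁ E₂) := by rw [map_fst_F1 h2s h1p]; trivial
    obtain ⟨u, hu, hua⟩ := h
    exact ⟨⟨u, hu⟩, hua⟩
  have hp2s : Function.Surjective p2 := by
    intro c
    have h : c ∈ (F1 σ₁ σ₂).map (MonoidHom.snd E₁ E₂) := by rw [map_snd_F1 h1s h2p]; trivial
    obtain ⟨u, hu, huc⟩ := h
    exact ⟨⟨u, hu⟩, huc⟩
  have hcard : Nat.card ↥(F1 σ₁ σ₂) ≤ Nat.card E₁ := by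
    rw [card_eq_card_mul_ker (tau σ₁ σ₂) hts, card_eq_card_mul_ker σ₁ h1s]
    exact Nat.mul_le_mul_left _ hk
  have hbij : Function.Bijective p1 := hp1s.bijective_of_nat_card_le hcard
  let eqv : ↥(F1 σ₁ σ₂) ≃* E₁ := MulEquiv.ofBijective p1 hbij
  refine ⟨p2.comp eqv.symm.toMonoidHom, ?_, ?_⟩
  · exact hp2s.comp eqv.symm.surjective
  · intro a
    have h0 : ((eqv.symm a : ↥(F1 σ₁ σ₂)) : E₁ × E₂) ∈ F0 σ₁ σ₂ := F1_le σ₁ σ₂ (eqv.symm a).2
    have h1 : ((eqv.symm a : ↥(F1 σ₁ σ₂)) : E₁ × E₂).1 = a := by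
      have := eqv.apply_symm_apply a
      exact this
    have h2 := (mem_F0 σ₁ σ₂).1 h0
    rw [h1] at h2
    exact h2.symm

end lift

end Cfsg.Agent.Lib.Helper7.U62S
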