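import Cfsg.Agent.Lib.Helper7.U62SG
import Cfsg.Agent.Lib.Helper7.U62SU

/-! # The involutions of the unitary group of degree six over the field of four elements lift to involutions of the
double cover: the order of the Sylow 2-subgroup given by the chain -/

set_option autoImplicit false
set_option maxRecDepth 100000

namespace Cfsg.Agent.Lib.Helper7.U62S

open Cfsg Cfsg.Spor Cfsg.Agent.Lib.Helper7.MG Cfsg.Agent.Lib.Helper7.HSMult Cfsg.Agent.Lib.Helper7.U62MB
  Cfsg.Agent.Lib.Helper7.U62MM
open Cfsg.Agent.Lib.Helper6.TC Cfsg.Agent.Lib.Helper6.U62Sub Cfsg.Agent.Lib.Helper6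

/-- the base point of a step of the chain, among 672 points -/
def pcB (k : ℕ) : ℕ := pcBL.getD k 0

/-- the block of a step of the chain, by its binary digits -/
def pcM (k : ℕ) : ℕ := pcML.getD k 0

/-- whether one of the 4704 points lies over one of the 672 points chosen by the binary digits of `m` -/
def inX (m p : ℕ) : Bool := Nat.blt p 2016 && Nat.beq (Nat.land (Nat.shiftRight m (Nat.div p 3)) 1) 1

theorem lt_of_inX {m p : ℕ} (h : inX m p = true) : p < 2016 := by
  rw [inX, Bool.and_eq_true, Nat.blt_eq] at h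
  exact h.1

theorem inX_congr (m : ℕ) {p q : ℕ} (hp : p < 2016) (hq : q < 2016) (h : q / 3 = p / 3) : inX m q = inX m p := by
  have h1 : Nat.blt p 2016 = true := by
    rw [Nat.blt_eq]
    exact hp
  have h2 : Nat.blt q 2016 = true := by
    rw [Nat.blt_eq]
    exact hq
  have h3 : Nat.div q 3 = Nat.div p 3 := h
  rw [inX, inX, h1, h2, h3]

/-- the check of a block: it contains the base point, the generator of the step moves the base point out of it, and
the later generators preserve it -/
noncomputable def blkOK (k : ℕ) : Bool :=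
  strictN (pcM k) fun m => strictN (Nat.mul 3 (pcB k)) fun b =>
    inX m b && (!(inX m (lkY k b)) &&
    allN 2016 fun p => cond (inX m p) (allN (14 - k) fun i => inX m (lkY (k + 1 + i) p)) true)

theorem chk_blk : ∀ k, k < 15 → blkOK k = true := by decide +kernel

theorem blk_spec {k : ℕ} (hk : k < 15) : inX (pcM k) (3 * pcB k) = true ∧ inX (pcM k) (lkY k (3 * pcB k)) = false ∧
    ∀ j, k < j → j < 15 → ∀ p, inX (pcM k) p = true → inX (pcM k) (lkY j p) = true := by
  have h := chk_blk k hk
  rw [blkOK, strictN_eq, strictN_eq, Bool.and_eq_true, Bool.and_eq_true, Bool.not_eq_true', allN_iff] at h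
  obtain ⟨h1, h2, h3⟩ := h
  refine ⟨h1, h2, fun j hkj hj p hp => ?_⟩
  have h4 := h3 p (lt_of_inX hp)
  rw [hp, cond_true, allN_iff] at h4
  have h5 := h4 (j - k - 1) (by omega)
  have e : k + 1 + (j - k - 1) = j := by omega
  rw [e] at h5
  exact h5

/-- the set of the points over a block -/
def setX (m : ℕ) : Set (Fin 4704) := {p | inX m p.val = true}

/-- the elements of the extension that map the set of the points over a block to itself -/
noncomputable def SX (m : ℕ) : Subgroup ↥GE where
  carrier := {g | Set.MapsTo ((g : Equiv.Perm (Fin 4704) × PB).1 : Fin 4704 → Fin 4704) (setX m) (setX m)}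
  one_mem' := fun _ hp => hp
  mul_mem' := by
    intro a b ha hb p hp
    exact ha (hb hp)
  inv_mem' := by
    intro a ha
    exact Equiv.Perm.perm_symm_mapsTo_of_mapsTo _ ha

theorem mem_SX {m : ℕ} {g : ↥GE} : g ∈ SX m ↔
    ∀ p : Fin 4704, inX m p.val = true → inX m (((g : Equiv.Perm (Fin 4704) × PB).1 p).val) = true := Iff.rfl

/-- the action of the generators of the chain -/
theorem gh_apply {k : ℕ} (hk : k < 15) (p : Fin 4704) :
    (((gh k : ↥GE) : Equiv.Perm (Fin 4704) × PB).1 p).val = lkY k p.val := by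
  rw [gh, wd_gE_apply (pcW_lt k hk), tab_spec k hk p.val p.2]

theorem gh_mem_SX {k j : ℕ} (hkj : k < j) (hj : j < 15) : gh j ∈ SX (pcM k) := by
  rw [mem_SX]
  intro p hp
  rw [gh_apply hj]
  exact (blk_spec (lt_trans hkj hj)).2.2 j hkj hj p.val hp

theorem ker_le_SX (m : ℕ) : sigE.ker ≤ SX m := by
  intro κ hκ
  rw [mem_SX]
  intro p hp
  have hp' := lt_of_inX hp
  obtain ⟨h1, h2⟩ := ker_fib hκ p hp'
  rw [inX_congr m hp' h1 h2]
  exact hp

theorem gh_not_mem_SX {k : ℕ} (hk : k < 15) : gh k ∉ SX (pcM k) := by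
  intro h
  rw [mem_SX] at h
  obtain ⟨h1, h2, -⟩ := blk_spec hk
  have hlt : 3 * pcB k < 4704 := lt_trans (lt_of_inX h1) (by norm_num)
  have h3 := h ⟨3 * pcB k, hlt⟩ h1
  rw [gh_apply hk] at h3
  rw [h2] at h3
  exact Bool.false_ne_true h3

theorem Hs_gp_eq (k : ℕ) : Hs gp 15 k = (Hs gh 15 k).map sigE := by
  rw [Hs, Hs, MonoidHom.map_closure, ← Set.image_comp]
  congr 1
  apply Set.image_congr
  intro i hi
  exact (sigE_gh hi.2).symm

/-- the generators of the chain are not in the later subgroups -/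
theorem gp_not_mem (k : ℕ) (hk : k < 15) : gp k ∉ Hs gp 15 (k + 1) := by
  intro hmem
  rw [Hs_gp_eq, Subgroup.mem_map] at hmem
  obtain ⟨y, hy, he⟩ := hmem
  have h1 : Hs gh 15 (k + 1) ≤ SX (pcM k) := by
    rw [Hs, Subgroup.closure_le]
    rintro _ ⟨j, ⟨hj1, hj2⟩, rfl⟩
    exact gh_mem_SX hj1 hj2
  have h2 : gh k * y⁻¹ ∈ sigE.ker := by
    rw [MonoidHom.mem_ker, map_mul, map_inv, he, sigE_gh hk, mul_inv_cancel]
  have h3 : gh k * y⁻¹ * y ∈ SX (pcM k) := Subgroup.mul_mem _ (ker_le_SX _ h2) (h1 hy)
  rw [inv_mul_cancel_right] at h3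
  exact gh_not_mem_SX hk h3

theorem nfL_congr {G : Type*} [Group G] (g : ℕ → G) {e e' : ℕ → Bool} : ∀ l : List ℕ, (∀ i ∈ l, e i = e' i) →
    nfL g e l = nfL g e' l
  | [], _ => rfl
  | i :: l, h => by
    rw [nfL_cons, nfL_cons, h i List.mem_cons_self, nfL_congr g l fun j hj => h j (List.mem_cons_of_mem _ hj)]

/-- the order of the subgroup given by the chain -/
theorem card_S : Nat.card ↥(Hs gp 15 0) = 2 ^ 15 := by
  apply le_antisymm
  · have hex : ∀ s : ↥(Hs gp 15 0), ∃ e' : Fin 15 → Bool,
        (s : PB) = nfL gp (fun i => if h : i < 15 then e' ⟨i, h⟩ else false) (List.range' 0 15) := by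
      intro s
      obtain ⟨e, he⟩ := exists_nf s.2
      refine ⟨fun i => e i.val, ?_⟩
      rw [he]
      apply nfL_congr
      intro i hi
      rw [List.mem_range'_1] at hi
      rw [dif_pos (by omega)]
    have hinj : Function.Injective fun s : ↥(Hs gp 15 0) => Classical.choose (hex s) := by
      intro s t hst
      apply Subtype.ext
      rw [Classical.choose_spec (hex s), Classical.choose_spec (hex t)]
      exact congrArg (fun e' : Fin 15 → Bool =>
        nfL gp (fun i => if h : i < 15 then e' ⟨i, h⟩ else false) (List.range' 0 15)) hst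
    have h := Nat.card_le_card_of_injective _ hinj
    have hc : Nat.card (Fin 15 → Bool) = 2 ^ 15 := by
      rw [Nat.card_eq_fintype_card, Fintype.card_fun, Fintype.card_bool, Fintype.card_fin]
    rw [hc] at h
    exact h
  · exact chain_card_ge gp_not_mem 15 0 (by norm_num)

/-- an element of square one is conjugate into the subgroup given by the chain -/
theorem exists_conj_mem_S (x : PB) (hx : x * x = 1) : ∃ h : PB, h * x * h⁻¹ ∈ Hs gp 15 0 :=
  exists_conj_mem_of_card (Hs gp 15 0) 15 280665 card_S (by rw [U62PBSimple.main.2]; norm_num) (by norm_num) x hx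

end Cfsg.Agent.Lib.Helper7.U62S
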