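import Cfsg.Agent.Lib.Helper7.U62SH

/-! # The involutions of the unitary group of degree six over the field of four elements lift to involutions of the
double cover: the enumeration of the normal forms of the Sylow 2-subgroup -/

set_option autoImplicit false
set_option maxRecDepth 100000

namespace Cfsg.Agent.Lib.Helper7.U62S

open Cfsg Cfsg.Spor Cfsg.Agent.Lib.Helper7.MG Cfsg.Agent.Lib.Helper7.HSMult Cfsg.Agent.Lib.Helper7.U62MB
  Cfsg.Agent.Lib.Helper7.U62MM

/-- the image of a point under the product of the generators with the indices in the list that are chosen by `e`;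
the last generator acts first -/
noncomputable def evE (e : ℕ → Bool) (l : List ℕ) (p : ℕ) : ℕ :=
  @List.rec ℕ (fun _ => ℕ) p (fun i _ ih => cond (e i) (lkY i ih) ih) l

theorem evE_nil (e : ℕ → Bool) (p : ℕ) : evE e [] p = p := rfl

theorem evE_cons (e : ℕ → Bool) (i : ℕ) (l : List ℕ) (p : ℕ) :
    evE e (i :: l) p = cond (e i) (lkY i (evE e l p)) (evE e l p) := rfl

/-- a binary digit -/
def bitN (c i : ℕ) : Bool := Nat.beq (Nat.land (Nat.shiftRight c i) 1) 1

/-- the list of the indices of the generators -/
def idxL : List ℕ := [0, 1, 2, 3, 4, 5, 6, 7, 8, 9, 10, 11, 12, 13, 14]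

theorem idxL_eq : List.range' 0 15 = idxL := by decide

/-- the image of a point under the square of the normal form with the number `c` -/
noncomputable def sqC (c p : ℕ) : ℕ := evE (bitN c) idxL (evE (bitN c) idxL p)

/-- the check of the normal form with the number `c`: its square moves one of two blocks of three points, or it fixes
the points 2016 and 3360 -/
noncomputable def chkC (c : ℕ) : Bool :=
  !(Nat.beq (Nat.div (sqC c 6) 3) 2) || (!(Nat.beq (Nat.div (sqC c 0) 3) 0) ||
    (Nat.beq (sqC c 2016) 2016 && Nat.beq (sqC c 3360) 3360))

/-- the check of the normal forms with the numbers from `lo` to `lo + 4095` -/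
noncomputable def chkR (lo : ℕ) : Bool := allN 4096 fun i => chkC (Nat.add lo i)

theorem chk_enum_0 : chkR 0 = true := by decide +kernel

theorem chk_enum_1 : chkR 4096 = true := by decide +kernel

theorem chk_enum_2 : chkR 8192 = true := by decide +kernel

theorem chk_enum_3 : chkR 12288 = true := by decide +kernel

theorem chk_enum_4 : chkR 16384 = true := by decide +kernel

theorem chk_enum_5 : chkR 20480 = true := by decide +kernel

theorem chk_enum_6 : chkR 24576 = true := by decide +kernel

theorem chk_enum_7 : chkR 28672 = true := by decide +kernel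

theorem chkR_spec {lo : ℕ} (h : chkR lo = true) {c : ℕ} (h1 : lo ≤ c) (h2 : c < lo + 4096) : chkC c = true := by
  rw [chkR, allN_iff] at h
  have h3 := h (c - lo) (by omega)
  have e : Nat.add lo (c - lo) = c := by
    show lo + (c - lo) = c
    omega
  rw [e] at h3
  exact h3

theorem chk_enum (c : ℕ) (hc : c < 32768) : chkC c = true := by
  rcases Nat.lt_or_ge c 16384 with h | h
  · rcases Nat.lt_or_ge c 8192 with h' | h'
    · rcases Nat.lt_or_ge c 4096 with h'' | h''
      · exact chkR_spec chk_enum_0 (Nat.zero_le _) (by omega)
      · exact chkR_spec chk_enum_1 h'' (by omega)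
    · rcases Nat.lt_or_ge c 12288 with h'' | h''
      · exact chkR_spec chk_enum_2 h' (by omega)
      · exact chkR_spec chk_enum_3 h'' (by omega)
  · rcases Nat.lt_or_ge c 24576 with h' | h'
    · rcases Nat.lt_or_ge c 20480 with h'' | h''
      · exact chkR_spec chk_enum_4 h (by omega)
      · exact chkR_spec chk_enum_5 h'' (by omega)
    · rcases Nat.lt_or_ge c 28672 with h'' | h''
      · exact chkR_spec chk_enum_6 h' (by omega)
      · exact chkR_spec chk_enum_7 h'' (by omega)

end Cfsg.Agent.Lib.Helper7.U62S
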