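import Cfsg.Agent.Lib.Helper7.U62SI

/-! # The involutions of the unitary group of degree six over the field of four elements lift to involutions of the
universal cover -/

set_option autoImplicit false
set_option maxRecDepth 100000

namespace Cfsg.Agent.Lib.Helper7.U62S

open Cfsg Cfsg.Spor Cfsg.Agent.Lib.Helper7.MG Cfsg.Agent.Lib.Helper7.HSMult Cfsg.Agent.Lib.Helper7.U62MB
  Cfsg.Agent.Lib.Helper7.U62MM
open Cfsg.Agent.Lib.Helper6.TC Cfsg.Agent.Lib.Helper6.U62Sub Cfsg.Agent.Lib.Helper6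

/-- the action of the lifts of the normal forms -/
theorem nfL_gh_apply (e : ℕ → Bool) : ∀ l : List ℕ, (∀ i ∈ l, i < 15) → ∀ p : Fin 4704,
    (((nfL gh e l : ↥GE) : Equiv.Perm (Fin 4704) × PB).1 p).val = evE e l p.val
  | [], _, _ => rfl
  | i :: l, h, p => by
    have ih := nfL_gh_apply e l (fun j hj => h j (List.mem_cons_of_mem _ hj)) p
    rw [nfL_cons, evE_cons, Subgroup.coe_mul, Prod.fst_mul, Equiv.Perm.mul_apply]
    cases e i
    · rw [cond_false, cond_false]
      exact ih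
    · rw [cond_true, cond_true, gh_apply (h i List.mem_cons_self), ih]

theorem sigE_nfL (e : ℕ → Bool) : ∀ l : List ℕ, (∀ i ∈ l, i < 15) → sigE (nfL gh e l) = nfL gp e l
  | [], _ => map_one _
  | i :: l, h => by
    rw [nfL_cons, nfL_cons, map_mul, sigE_nfL e l fun j hj => h j (List.mem_cons_of_mem _ hj)]
    cases e i
    · rw [cond_false, cond_false, map_one]
    · rw [cond_true, cond_true, sigE_gh (h i List.mem_cons_self)]

theorem evE_congr {e e' : ℕ → Bool} : ∀ (l : List ℕ) (p : ℕ), (∀ i ∈ l, e i = e' i) → evE e l p = evE e' l p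
  | [], _, _ => rfl
  | i :: l, p, h => by
    rw [evE_cons, evE_cons, h i List.mem_cons_self, evE_congr l p fun j hj => h j (List.mem_cons_of_mem _ hj)]

theorem bitN_eq (c i : ℕ) : bitN c i = c.testBit i := by
  rw [Nat.testBit_eq_decide_div_mod_eq, bitN]
  show Nat.beq ((c >>> i) &&& 1) 1 = _
  rw [Nat.and_one_is_mod, Nat.shiftRight_eq_div_pow, Bool.eq_iff_iff, decide_eq_true_iff]
  constructor
  · exact Nat.eq_of_beq_eq_true
  · intro h
    rw [h]
    rfl

theorem idxL_lt : ∀ i ∈ idxL, i < 15 := by decide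

/-- **every element of square one of the presented group is the image of an element of square one of the universal
cover** -/
theorem exists_lift_sq (x : PB) (hx : x * x = 1) : ∃ y : ↥GE, sigE y = x ∧ y * y = 1 := by
  obtain ⟨h, hh⟩ := exists_conj_mem_S x hx
  obtain ⟨e, he⟩ := exists_nf hh
  rw [idxL_eq] at he
  have hy0 : sigE (nfL gh e idxL) = h * x * h⁻¹ := by
    rw [he]
    exact sigE_nfL e idxL idxL_lt
  have hsq : (h * x * h⁻¹) * (h * x * h⁻¹) = 1 := by
    have e1 : h * x * h⁻¹ * (h * x * h⁻¹) = h * (x * x) * h⁻¹ := by group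
    rw [e1, hx, mul_one, mul_inv_cancel]
  have hker : nfL gh e idxL * nfL gh e idxL ∈ sigE.ker := by
    rw [MonoidHom.mem_ker, map_mul, hy0, hsq]
  have hc : Nat.ofBits (fun i : Fin 15 => e i.val) < 32768 := Nat.ofBits_lt_two_pow _
  have hbit : ∀ i ∈ idxL, e i = bitN (Nat.ofBits (fun i : Fin 15 => e i.val)) i := by
    intro i hi
    rw [bitN_eq, Nat.testBit_ofBits_lt _ _ (idxL_lt i hi)]
  have hact : ∀ p : Fin 4704, (((nfL gh e idxL * nfL gh e idxL : ↥GE) : Equiv.Perm (Fin 4704) × PB).1 p).val =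
      sqC (Nat.ofBits (fun i : Fin 15 => e i.val)) p.val := by
    intro p
    rw [Subgroup.coe_mul, Prod.fst_mul, Equiv.Perm.mul_apply, nfL_gh_apply e idxL idxL_lt,
      nfL_gh_apply e idxL idxL_lt, sqC, evE_congr idxL _ hbit, evE_congr idxL _ hbit]
  have hchk := chk_enum _ hc
  have f6 := (ker_fib hker ⟨6, by norm_num⟩ (by norm_num)).2
  have f0 := (ker_fib hker ⟨0, by norm_num⟩ (by norm_num)).2
  rw [hact] at f6 f0
  have f6' : Nat.div (sqC (Nat.ofBits (fun i : Fin 15 => e i.val)) 6) 3 = 2 := f6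
  have f0' : Nat.div (sqC (Nat.ofBits (fun i : Fin 15 => e i.val)) 0) 3 = 0 := f0
  rw [chkC, f6', f0'] at hchk
  have hfix : (Nat.beq (sqC (Nat.ofBits (fun i : Fin 15 => e i.val)) 2016) 2016 &&
      Nat.beq (sqC (Nat.ofBits (fun i : Fin 15 => e i.val)) 3360) 3360) = true := by
    have e2 : Nat.beq 2 2 = true := rfl
    have e0 : Nat.beq 0 0 = true := rfl
    rw [e2, e0] at hchk
    exact hchk
  rw [Bool.and_eq_true] at hfix
  have k3 := ker_pow_three hker
    (by rw [hact]; exact Nat.eq_of_beq_eq_true hfix.1) (by rw [hact]; exact Nat.eq_of_beq_eq_true hfix.2)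
  obtain ⟨u, hu⟩ := sigE_surj h
  refine ⟨u⁻¹ * nfL gh e idxL ^ 3 * u, ?_, ?_⟩
  · rw [map_mul, map_mul, map_inv, map_pow, hy0, hu, pow_succ, pow_two, hsq, one_mul]
    group
  · have e0 : nfL gh e idxL ^ 3 * nfL gh e idxL ^ 3 = (nfL gh e idxL * nfL gh e idxL) ^ 3 :=
      calc nfL gh e idxL ^ 3 * nfL gh e idxL ^ 3 = nfL gh e idxL ^ 6 := (pow_add _ 3 3).symm
        _ = (nfL gh e idxL ^ 2) ^ 3 := pow_mul _ 2 3
        _ = (nfL gh e idxL * nfL gh e idxL) ^ 3 := by rw [pow_two]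
    have e1 : u⁻¹ * nfL gh e idxL ^ 3 * u * (u⁻¹ * nfL gh e idxL ^ 3 * u) =
        u⁻¹ * (nfL gh e idxL ^ 3 * nfL gh e idxL ^ 3) * u := by group
    rw [e1, e0, k3, mul_one, inv_mul_cancel]

end Cfsg.Agent.Lib.Helper7.U62S
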