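import Cfsg.Agent.Lib.Helper7.U62SJ

/-! # The centralizer of an involution that is a double cover of the unitary group of degree six over the field of four
elements: the involutions of the quotient lift to involutions, and the central involution is not a square -/

set_option autoImplicit false

namespace Cfsg.Agent.Lib.Helper7.U62S

open Cfsg Cfsg.Spor Cfsg.Agent.Lib.Helper7.MG Cfsg.Agent.Lib.Helper7.HSMult Cfsg.Agent.Lib.Helper7.U62MB
  Cfsg.Agent.Lib.Helper7.U62MM
open Cfsg.Agent.Lib.Helper6.TC Cfsg.Agent.Lib.Helper6.U62Sub Cfsg.Agent.Lib.Helper6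

/-- a perfect finite central extension of the presented group: the elements of square one of the presented group are
images of elements of square one -/
theorem exists_lift_sq_of_central {C : Type*} [Group C] [Finite C] (σ : C →* PB) (hs : Function.Surjective σ)
    (hp : commutator C = ⊤) (hc : σ.ker ≤ Subgroup.center C) (x : PB) (hx : x * x = 1) :
    ∃ y : C, σ y = x ∧ y * y = 1 := by
  obtain ⟨f, -, hf⟩ := exists_lift_hom (σ₁ := sigE) (σ₂ := σ) sigE_surj hs commutator_GE hp
    (ker_sigE_le.trans N_le_center) hc (by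
      intro F τ hτs hτc hτd
      obtain ⟨π, hπ⟩ := U62MT.exists_surj_of_stem τ hτs hτc hτd
      have h := Nat.card_le_card_of_surjective π hπ
      rwa [card_prod_322, ← card_ker] at h)
  obtain ⟨y, hy, hyy⟩ := exists_lift_sq x hx
  refine ⟨f y, ?_, ?_⟩
  · rw [hf, hy]
  · rw [← map_mul, hyy, map_one]

section main

variable {G : Type*} [Group G] [Finite G] (d : G)

omit [Finite G] in
/-- the powers of an element are central in its centralizer -/
theorem zpowers_subgroupOf_le_center :
    (Subgroup.zpowers d).subgroupOf (Subgroup.centralizer ({d} : Set G)) ≤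
      Subgroup.center ↥(Subgroup.centralizer ({d} : Set G)) := by
  intro z hz
  rw [Subgroup.mem_subgroupOf] at hz
  obtain ⟨k, hk⟩ := Subgroup.mem_zpowers_iff.1 hz
  rw [Subgroup.mem_center_iff]
  intro g
  apply Subtype.ext
  rw [Subgroup.coe_mul, Subgroup.coe_mul, ← hk]
  have hg : d * (g : G) = (g : G) * d := (Subgroup.mem_centralizer_iff.1 g.2 d rfl)
  exact ((Commute.zpow_right (show Commute (g : G) d from hg.symm) k).eq)

theorem main_lift (hd : orderOf d = 2) (hq : Cfsg.IsQuasisimple ↥(Subgroup.centralizer ({d} : Set G)))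
    [hzn : ((Subgroup.zpowers d).subgroupOf (Subgroup.centralizer ({d} : Set G))).Normal] (K : Type) [Field K]
    [Fintype K] (hK : Fintype.card K = 4)
    (e : ↥(Subgroup.centralizer ({d} : Set G)) ⧸ (Subgroup.zpowers d).subgroupOf (Subgroup.centralizer ({d} : Set G)) ≃*
      Cfsg.PSU 6 K 2) :
    (∀ x : ↥(Subgroup.centralizer ({d} : Set G)) ⧸ (Subgroup.zpowers d).subgroupOf (Subgroup.centralizer ({d} : Set G)),
      orderOf x = 2 → ∃ y : ↥(Subgroup.centralizer ({d} : Set G)), orderOf y = 2 ∧
        (QuotientGroup.mk y : ↥(Subgroup.centralizer ({d} : Set G)) ⧸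
          (Subgroup.zpowers d).subgroupOf (Subgroup.centralizer ({d} : Set G))) = x) ∧
    ¬ ∃ g : G, g ^ 2 = d := by
  have : Fact (Nat.Prime 2) := ⟨Nat.prime_two⟩
  obtain ⟨e0⟩ : Nonempty (K ≃+* U62Mat.K) :=
    ⟨FiniteField.ringEquivOfCardEq (by rw [hK, Cfsg.Agent.Lib.Helper6.M21.F4c.card])⟩
  obtain ⟨eP⟩ : Nonempty (Cfsg.PSU 6 K 2 ≃* PB) :=
    ⟨(Cfsg.Agent.Lib.Helper8.SUTransport.psuEquiv e0 6 2).trans Cfsg.Agent.Lib.Helper6.U62Unit.isoPSU.symm⟩
  have hd1 : d ≠ 1 := by
    intro h
    rw [h, orderOf_one] at hd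
    norm_num at hd
  have hdd : d * d = 1 := by
    rw [← pow_two, ← hd, pow_orderOf_eq_one]
  have hpart : ∀ x : ↥(Subgroup.centralizer ({d} : Set G)) ⧸
      (Subgroup.zpowers d).subgroupOf (Subgroup.centralizer ({d} : Set G)),
      orderOf x = 2 → ∃ y : ↥(Subgroup.centralizer ({d} : Set G)), orderOf y = 2 ∧
        (QuotientGroup.mk y : ↥(Subgroup.centralizer ({d} : Set G)) ⧸
          (Subgroup.zpowers d).subgroupOf (Subgroup.centralizer ({d} : Set G))) = x := by
    intro x hx
    let σ : ↥(Subgroup.centralizer ({d} : Set G)) →* PB :=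
      (eP.toMonoidHom.comp e.toMonoidHom).comp
        (QuotientGroup.mk' ((Subgroup.zpowers d).subgroupOf (Subgroup.centralizer ({d} : Set G))))
    have hσ : ∀ c, σ c = eP (e (QuotientGroup.mk c)) := fun _ => rfl
    have hs : Function.Surjective σ :=
      (eP.surjective.comp e.surjective).comp (QuotientGroup.mk'_surjective _)
    have hker : σ.ker ≤ Subgroup.center ↥(Subgroup.centralizer ({d} : Set G)) := by
      intro c hc
      apply zpowers_subgroupOf_le_center d
      rw [MonoidHom.mem_ker, hσ, MulEquiv.map_eq_one_iff, MulEquiv.map_eq_one_iff, QuotientGroup.eq_one_iff] at hc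
      exact hc
    have hx2 : x ^ 2 = 1 := by
      rw [← hx]
      exact pow_orderOf_eq_one x
    have hxx : eP (e x) * eP (e x) = 1 := by
      rw [← map_mul, ← map_mul, ← pow_two, hx2, map_one, map_one]
    obtain ⟨y, hy, hyy⟩ := exists_lift_sq_of_central σ hs hq.1.commutator_eq_top hker _ hxx
    have hm : (QuotientGroup.mk y : ↥(Subgroup.centralizer ({d} : Set G)) ⧸
        (Subgroup.zpowers d).subgroupOf (Subgroup.centralizer ({d} : Set G))) = x :=
      e.injective (eP.injective (by rw [← hσ, hy]))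
    refine ⟨y, ?_, hm⟩
    apply orderOf_eq_prime
    · rw [pow_two, hyy]
    · intro h1
      rw [h1, QuotientGroup.mk_one] at hm
      rw [← hm, orderOf_one] at hx
      norm_num at hx
  refine ⟨hpart, ?_⟩
  rintro ⟨g, hg⟩
  have hgd : g * d = d * g := by
    rw [← hg, pow_two, mul_assoc]
  have hgC : g ∈ Subgroup.centralizer ({d} : Set G) := by
    rw [Subgroup.mem_centralizer_iff]
    intro z hz
    rw [Set.mem_singleton_iff.1 hz]
    exact hgd.symm
  have hmem : ∀ z : ↥(Subgroup.centralizer ({d} : Set G)),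
      z ∈ (Subgroup.zpowers d).subgroupOf (Subgroup.centralizer ({d} : Set G)) → (z : G) = 1 ∨ (z : G) = d := by
    intro z hz
    rw [Subgroup.mem_subgroupOf] at hz
    obtain ⟨k, hk⟩ := Subgroup.mem_zpowers_iff.1 hz
    rw [← hk]
    rcases Int.emod_two_eq_zero_or_one k with h | h
    · left
      obtain ⟨m, hm⟩ : (2 : ℤ) ∣ k := Int.dvd_of_emod_eq_zero h
      rw [hm, zpow_mul, zpow_two, hdd, one_zpow]
    · right
      have e1 : k = 2 * (k / 2) + 1 := by omega
      rw [e1, zpow_add, zpow_mul, zpow_two, hdd, one_zpow, one_mul, zpow_one]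
  have hg2 : orderOf (QuotientGroup.mk ⟨g, hgC⟩ : ↥(Subgroup.centralizer ({d} : Set G)) ⧸
      (Subgroup.zpowers d).subgroupOf (Subgroup.centralizer ({d} : Set G))) = 2 := by
    apply orderOf_eq_prime
    · rw [← QuotientGroup.mk_pow, QuotientGroup.eq_one_iff, Subgroup.mem_subgroupOf]
      show (g ^ 2 : G) ∈ Subgroup.zpowers d
      rw [hg]
      exact Subgroup.mem_zpowers d
    · intro h1
      rw [QuotientGroup.eq_one_iff] at h1
      rcases hmem _ h1 with h2 | h2
      · have h3 : g = 1 := h2
        rw [h3, one_pow] at hg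
        exact hd1 hg.symm
      · have h3 : g = d := h2
        rw [h3, pow_two, hdd] at hg
        exact hd1 hg.symm
  obtain ⟨y, hy2, hym⟩ := hpart _ hg2
  have hq' : (⟨g, hgC⟩ : ↥(Subgroup.centralizer ({d} : Set G)))⁻¹ * y ∈
      (Subgroup.zpowers d).subgroupOf (Subgroup.centralizer ({d} : Set G)) := by
    rw [← QuotientGroup.eq]
    exact hym.symm
  have hyy : (y : G) * (y : G) = 1 := by
    have h := pow_orderOf_eq_one y
    rw [hy2, pow_two] at h
    exact congrArg Subtype.val h
  rcases hmem _ hq' with h2 | h2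
  · have h3 : g⁻¹ * (y : G) = 1 := h2
    have h4 : (y : G) = g := by
      rw [inv_mul_eq_one] at h3
      exact h3.symm
    rw [h4, ← pow_two, hg] at hyy
    exact hd1 hyy
  · have h3 : g⁻¹ * (y : G) = d := h2
    have h4 : (y : G) = g * d :=
      calc (y : G) = g * (g⁻¹ * (y : G)) := (mul_inv_cancel_left g _).symm
        _ = g * d := congrArg (fun t => g * t) h3
    have h5 : g * d * (g * d) = d := by
      calc g * d * (g * d) = g * (d * g) * d := by group
        _ = g * (g * d) * d := by rw [hgd]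
        _ = g ^ 2 * (d * d) := by rw [pow_two, mul_assoc, mul_assoc, mul_assoc]
        _ = d := by rw [hg, hdd, mul_one]
    rw [h4, h5] at hyy
    exact hd1 hyy

end main

end Cfsg.Agent.Lib.Helper7.U62S
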