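import Mathlib

set_option autoImplicit false
set_option linter.style.haveILetI false
set_option linter.unusedSectionVars false
set_option linter.unusedVariables false

/-!
# Wielandt's theorem on primitive groups of degree `2p`: coordinates (helper7, for S0720)

A fixed-point-free element `x` of order `p` on a set of `2p` points, a base point `a` and a second
point `b = g₀ • a` outside the `⟨x⟩`-orbit of `a`, give coordinates `Bool × ZMod p ≃ Ω`.
-/

namespace Cfsg.Agent.Lib.Helper7.W2p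

open MulAction

/-- a configuration: a fixed-point-free element of order `p` and two base points -/
structure Cfg (G : Type*) [Group G] (Ω : Type*) [MulAction G Ω] (p : ℕ) where
  x : G
  a : Ω
  g₀ : G
  hxp : x ^ p = 1
  hfpf : ∀ i : ZMod p, i ≠ 0 → ∀ β : Ω, x ^ i.val • β ≠ β
  hb : ∀ i : ZMod p, x ^ i.val • a ≠ g₀ • a

variable {G : Type*} [Group G] {Ω : Type*} [MulAction G Ω] {p : ℕ} [hpf : Fact p.Prime]

namespace Cfg

variable (C : Cfg G Ω p)

/-- the second base point -/
def b : Ω := C.g₀ • C.a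

/-- the power `x ^ i` for `i : ZMod p` -/
def xp (i : ZMod p) : G := C.x ^ i.val

theorem xp_zero : C.xp 0 = 1 := by
  unfold xp
  rw [ZMod.val_zero, pow_zero]

theorem xp_add (i j : ZMod p) : C.xp (i + j) = C.xp i * C.xp j := by
  unfold xp
  rw [ZMod.val_add, ← pow_add]
  exact (pow_eq_pow_mod _ C.hxp).symm

theorem xp_neg (i : ZMod p) : C.xp (-i) = (C.xp i)⁻¹ := by
  rw [eq_inv_iff_mul_eq_one, ← xp_add, neg_add_cancel, xp_zero]

theorem xp_sub (i j : ZMod p) : C.xp (i - j) = C.xp i * (C.xp j)⁻¹ := by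
  rw [sub_eq_add_neg, xp_add, xp_neg]

theorem xp_natCast (n : ℕ) : C.xp (n : ZMod p) = C.x ^ n := by
  unfold xp
  rw [ZMod.val_natCast]
  exact (pow_eq_pow_mod _ C.hxp).symm

theorem xp_comm (i j : ZMod p) : C.xp i * C.xp j = C.xp j * C.xp i := by
  rw [← xp_add, ← xp_add, add_comm]

theorem xp_smul_ne (i : ZMod p) (hi : i ≠ 0) (β : Ω) : C.xp i • β ≠ β := C.hfpf i hi β

theorem xp_smul_a_ne_b (i : ZMod p) : C.xp i • C.a ≠ C.b := C.hb i

theorem xp_smul_b_ne_a (i : ZMod p) : C.xp i • C.b ≠ C.a := by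
  intro h
  apply C.hb (-i)
  have : C.xp (-i) • C.a = C.b := by
    rw [xp_neg, inv_smul_eq_iff, h]
  exact this

/-- the point with coordinates `(ε, i)` -/
def pt (ε : Bool) (i : ZMod p) : Ω := C.xp i • (bif ε then C.b else C.a)

theorem pt_false (i : ZMod p) : C.pt false i = C.xp i • C.a := rfl

theorem pt_true (i : ZMod p) : C.pt true i = C.xp i • C.b := rfl

theorem xp_smul_pt (j : ZMod p) (ε : Bool) (i : ZMod p) : C.xp j • C.pt ε i = C.pt ε (j + i) := by
  unfold pt
  rw [← mul_smul, ← xp_add]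

theorem pt_injective : Function.Injective (fun q : Bool × ZMod p => C.pt q.1 q.2) := by
  rintro ⟨ε, i⟩ ⟨ε', i'⟩ h
  simp only at h
  have key : ∀ (c : Ω) (i i' : ZMod p), C.xp i • c = C.xp i' • c → i = i' := by
    intro c i i' h
    by_contra hne
    have h2 : C.xp (i - i') • (C.xp i' • c) = C.xp i' • c := by
      rw [← mul_smul, ← xp_add, sub_add_cancel, h]
    exact C.xp_smul_ne (i - i') (sub_ne_zero.mpr hne) _ h2
  cases ε <;> cases ε'
  · rw [key C.a i i' h]
  · exfalso
    rw [pt_false, pt_true] at h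
    apply C.xp_smul_a_ne_b (i - i')
    have e : C.xp (i - i') • C.a = (C.xp i')⁻¹ • (C.xp i • C.a) := by
      rw [← mul_smul, ← xp_neg, ← xp_add, neg_add_eq_sub]
    rw [e, h, inv_smul_smul]
  · exfalso
    rw [pt_false, pt_true] at h
    apply C.xp_smul_a_ne_b (i' - i)
    have e : C.xp (i' - i) • C.a = (C.xp i)⁻¹ • (C.xp i' • C.a) := by
      rw [← mul_smul, ← xp_neg, ← xp_add, neg_add_eq_sub]
    rw [e, ← h, inv_smul_smul]
  · rw [key C.b i i' h]

variable [Fintype Ω]

theorem pt_bijective (hΩ : Fintype.card Ω = 2 * p) :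
    Function.Bijective (fun q : Bool × ZMod p => C.pt q.1 q.2) := by
  rw [Fintype.bijective_iff_injective_and_card]
  refine ⟨C.pt_injective, ?_⟩
  rw [Fintype.card_prod, Fintype.card_bool, ZMod.card, hΩ]

/-- sums over `Ω` in coordinates -/
theorem sum_eq {M : Type*} [AddCommMonoid M] (hΩ : Fintype.card Ω = 2 * p) (f : Ω → M) :
    ∑ β : Ω, f β = ∑ i : ZMod p, f (C.xp i • C.a) + ∑ i : ZMod p, f (C.xp i • C.b) := by
  rw [← (C.pt_bijective hΩ).sum_comp f, Fintype.sum_prod_type, Fintype.sum_bool, add_comm]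
  rfl

/-- the conjugate element for the second base point -/
def x' : G := C.g₀⁻¹ * C.x * C.g₀

theorem x'_pow (n : ℕ) : C.x' ^ n = C.g₀⁻¹ * C.x ^ n * C.g₀ := by
  unfold x'
  induction n with
  | zero => simp
  | succ n ih => rw [pow_succ, ih, pow_succ]; group

/-- the mirror configuration, based at `a` with the conjugate element -/
def mirror : Cfg G Ω p where
  x := C.x'
  a := C.a
  g₀ := C.g₀⁻¹
  hxp := by rw [x'_pow, C.hxp]; group
  hfpf := by
    intro i hi β h
    rw [x'_pow, mul_smul, mul_smul, inv_smul_eq_iff] at h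
    exact C.hfpf i hi _ h
  hb := by
    intro i h
    rw [x'_pow, mul_smul, mul_smul, inv_smul_eq_iff, smul_inv_smul] at h
    exact C.xp_smul_b_ne_a i h

theorem mirror_xp (i : ZMod p) : C.mirror.xp i = C.g₀⁻¹ * C.xp i * C.g₀ := C.x'_pow _

theorem mirror_a : C.mirror.a = C.a := rfl

theorem mirror_b : C.mirror.b = C.g₀⁻¹ • C.a := rfl

theorem mirror_xp_smul_a (i : ZMod p) : C.mirror.xp i • C.a = C.g₀⁻¹ • (C.xp i • C.b) := by
  rw [mirror_xp, mul_smul, mul_smul]
  rfl

theorem mirror_xp_smul_b (i : ZMod p) : C.mirror.xp i • C.mirror.b = C.g₀⁻¹ • (C.xp i • C.a) := by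
  rw [mirror_xp, mirror_b, mul_smul, mul_smul, smul_inv_smul]

end Cfg

end Cfsg.Agent.Lib.Helper7.W2p
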