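import Mathlib
import Cfsg.Prelude.Def_Characters
import Cfsg.Agent.Lib.Helper7.W2pA
import Cfsg.Agent.Lib.helper3.Irr10
import Cfsg.Agent.Lib.helper3.Irr11
import Cfsg.Agent.Lib.helper3.Irr9

set_option autoImplicit false
set_option linter.style.haveILetI false
set_option linter.unusedSectionVars false
set_option linter.unusedVariables false

/-!
# Wielandt's theorem on primitive groups of degree `2p`: restriction to `⟨x⟩` (helper7, for S0720)
-/

namespace Cfsg.Agent.Lib.Helper7.W2p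

open Cfsg MulAction Cfsg.Agent.Lib.helper3.Irr Cfsg.Agent.Lib.helper3.IndFun
open scoped ComplexConjugate

variable {G : Type*} [Group G] {Ω : Type*} [MulAction G Ω] {p : ℕ} [hpf : Fact p.Prime]

namespace Cfg

variable (C : Cfg G Ω p)

/-- the cyclic group generated by `x` -/
def P : Subgroup G := Subgroup.zpowers C.x

theorem xp_mem (i : ZMod p) : C.xp i ∈ C.P :=
  Subgroup.pow_mem _ (Subgroup.mem_zpowers _) _

theorem xp_injective : Function.Injective C.xp := by
  intro i j h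
  by_contra hne
  have h1 : C.xp (i - j) = 1 := by rw [xp_sub, h, mul_inv_cancel]
  have := C.xp_smul_ne (i - j) (sub_ne_zero.mpr hne) C.a
  rw [h1, one_smul] at this
  exact this rfl

theorem xp_eq_one_iff (i : ZMod p) : C.xp i = 1 ↔ i = 0 := by
  constructor
  · intro h
    apply C.xp_injective
    rw [h, xp_zero]
  · rintro rfl
    exact C.xp_zero

theorem toP_bijective :
    Function.Bijective (fun i : ZMod p => (⟨C.xp i, C.xp_mem i⟩ : C.P)) := by
  constructor
  · intro i j h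
    exact C.xp_injective (congrArg Subtype.val h)
  · rintro ⟨y, hy⟩
    obtain ⟨k, rfl⟩ := Subgroup.mem_zpowers_iff.mp hy
    refine ⟨((k % (p : ℤ)).toNat : ZMod p), ?_⟩
    apply Subtype.ext
    simp only
    rw [xp_natCast]
    have hp0 : (p : ℤ) ≠ 0 := by exact_mod_cast hpf.out.ne_zero
    have h1 : ((k % (p : ℤ)).toNat : ℤ) = k % p := Int.toNat_of_nonneg (Int.emod_nonneg k hp0)
    rw [← zpow_natCast, h1]
    conv_rhs => rw [← Int.emod_add_mul_ediv k p]
    rw [zpow_add, zpow_mul, zpow_natCast, C.hxp, one_zpow, mul_one]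

instance : Finite C.P := Finite.of_surjective _ C.toP_bijective.2

theorem card_P : Nat.card C.P = p := by
  rw [← Nat.card_congr (Equiv.ofBijective _ C.toP_bijective), Nat.card_zmod]

theorem sum_P {M : Type*} [AddCommMonoid M] [Fintype C.P] (f : C.P → M) :
    ∑ y : C.P, f y = ∑ i : ZMod p, f ⟨C.xp i, C.xp_mem i⟩ :=
  (C.toP_bijective.sum_comp f).symm

theorem P_comm (a b : C.P) : a * b = b * a := by
  obtain ⟨a, ha⟩ := a
  obtain ⟨b, hb⟩ := b
  obtain ⟨k, rfl⟩ := Subgroup.mem_zpowers_iff.mp ha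
  obtain ⟨l, rfl⟩ := Subgroup.mem_zpowers_iff.mp hb
  apply Subtype.ext
  simp only [Subgroup.coe_mul]
  rw [← zpow_add, ← zpow_add, add_comm]

variable [Fintype G]

/-- inner products over `⟨x⟩` of two characters are natural multiples of `p` -/
theorem exists_nat_sum_mul_conj {χ χ' : G → ℂ} (hχ : IsCharacter G χ) (hχ' : IsCharacter G χ') :
    ∃ m : ℕ, ∑ i : ZMod p, χ (C.xp i) * conj (χ' (C.xp i)) = (p : ℂ) * m := by
  classical
  letI : Fintype C.P := Fintype.ofFinite _
  obtain ⟨m, hm⟩ := exists_nat_classInner_of_isCharacter_of_isCharacter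
    (isCharacter_restrict hχ C.P) (isCharacter_restrict hχ' C.P)
  refine ⟨m, ?_⟩
  rw [classInner_apply, C.card_P, C.sum_P] at hm
  have hp0 : (p : ℂ) ≠ 0 := by exact_mod_cast hpf.out.ne_zero
  rw [← hm]
  field_simp

/-- the sum of a character over `⟨x⟩` is a natural multiple of `p` -/
theorem exists_nat_sum {χ : G → ℂ} (hχ : IsCharacter G χ) :
    ∃ m : ℕ, ∑ i : ZMod p, χ (C.xp i) = (p : ℂ) * m := by
  obtain ⟨m, hm⟩ := C.exists_nat_sum_mul_conj hχ (isCharacter_one (G := G))
  refine ⟨m, ?_⟩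
  rw [← hm]
  apply Finset.sum_congr rfl
  intro i _
  simp

/-- the norm of the restriction of a character to `⟨x⟩` is at least its degree -/
theorem exists_nat_norm {χ : G → ℂ} (hχ : IsCharacter G χ) :
    ∃ m d : ℕ, χ 1 = d ∧ ∑ i : ZMod p, χ (C.xp i) * conj (χ (C.xp i)) = (p : ℂ) * m ∧ d ≤ m := by
  classical
  letI : Fintype C.P := Fintype.ofFinite _
  obtain ⟨m, hm⟩ := exists_decomposition_of_isCharacter (isCharacter_restrict hχ C.P)
  have hdeg : ∀ l : IrrCharacter C.P, (l : C.P → ℂ) 1 = 1 := fun l =>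
    apply_one_eq_one_of_comm C.P_comm l.2
  refine ⟨∑ l : IrrCharacter C.P, m l ^ 2, ∑ l : IrrCharacter C.P, m l, ?_, ?_, ?_⟩
  · have h1 := congrFun hm 1
    simp only [OneMemClass.coe_one, Finset.sum_apply, Pi.smul_apply, smul_eq_mul, hdeg,
      mul_one] at h1
    rw [h1]
    push_cast
    rfl
  · have h2 : classInner (fun h : C.P => χ h) (fun h : C.P => χ h)
        = ∑ l : IrrCharacter C.P, (m l : ℂ) * conj ((m l : ℂ)) := by
      conv_lhs => rw [hm]
      exact classInner_decomposition _ _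
    rw [classInner_apply, C.card_P, C.sum_P] at h2
    have hp0 : (p : ℂ) ≠ 0 := by exact_mod_cast hpf.out.ne_zero
    have h3 : ∑ i : ZMod p, χ (C.xp i) * conj (χ (C.xp i))
        = (p : ℂ) * ∑ l : IrrCharacter C.P, (m l : ℂ) * conj ((m l : ℂ)) := by
      rw [← h2]
      field_simp
    rw [h3]
    push_cast
    congr 1
    apply Finset.sum_congr rfl
    intro l _
    rw [Complex.conj_natCast, sq]
  · apply Finset.sum_le_sum
    intro l _
    nlinarith [Nat.zero_le (m l)]

/-- **Multiplicity bound.** If `f = 1 + χ₁ + e • χ₂ + R` on `G` vanishes on the nontrivial powers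
of `x`, has `f 1 = 2p`, and `χ₁` has degree `p` and vanishes on the nontrivial powers of `x`,
then `e ≤ 1` (for `χ₂ ≠ 0`). -/
theorem mult_le_one {f χ₁ χ₂ R : G → ℂ} (hχ₁ : IsCharacter G χ₁) (hχ₂ : IsCharacter G χ₂)
    (hR : IsCharacter G R) (e : ℕ) (hf : ∀ g : G, f g = 1 + χ₁ g + (e : ℂ) * χ₂ g + R g)
    (hf0 : ∀ i : ZMod p, i ≠ 0 → f (C.xp i) = 0) (hf1 : f 1 = 2 * (p : ℂ))
    (h10 : ∀ i : ZMod p, i ≠ 0 → χ₁ (C.xp i) = 0) (h11 : χ₁ 1 = (p : ℂ))
    (h2 : χ₂ 1 ≠ 0) : e ≤ 1 := by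
  classical
  letI : Fintype C.P := Fintype.ofFinite _
  have hp0 : (p : ℂ) ≠ 0 := by exact_mod_cast hpf.out.ne_zero
  have hres2 := isCharacter_restrict hχ₂ C.P
  have hne : (fun h : C.P => χ₂ h) ≠ 0 := by
    intro h
    exact h2 (congrFun h 1)
  obtain ⟨l, hl⟩ := exists_constituent hres2 hne
  have hl1 : (l : C.P → ℂ) 1 = 1 := apply_one_eq_one_of_comm C.P_comm l.2
  obtain ⟨n₀, hn₀⟩ := exists_nat_classInner_of_isCharacter
    (isCharacter_restrict (isCharacter_one (G := G)) C.P) l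
  obtain ⟨n₁, hn₁⟩ := exists_nat_classInner_of_isCharacter (isCharacter_restrict hχ₁ C.P) l
  obtain ⟨n₂, hn₂⟩ := exists_nat_classInner_of_isCharacter hres2 l
  obtain ⟨n₃, hn₃⟩ := exists_nat_classInner_of_isCharacter (isCharacter_restrict hR C.P) l
  -- sums of functions supported at the identity
  have hsupp : ∀ F : G → ℂ, (∀ i : ZMod p, i ≠ 0 → F (C.xp i) = 0) →
      classInner (fun h : C.P => F h) (l : C.P → ℂ) = (p : ℂ)⁻¹ * F 1 := by
    intro F hF
    rw [classInner_apply, C.card_P, C.sum_P]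
    congr 1
    rw [Finset.sum_eq_single (0 : ZMod p)]
    · simp only [C.xp_zero]
      have : (⟨1, C.xp_zero ▸ C.xp_mem 0⟩ : C.P) = 1 := rfl
      have h3 : (l : C.P → ℂ) ⟨1, C.xp_zero ▸ C.xp_mem 0⟩ = 1 := by rw [this, hl1]
      rw [h3, map_one, mul_one]
    · intro i _ hi
      simp only [hF i hi, zero_mul]
    · intro h
      exact absurd (Finset.mem_univ _) h
  have e1 : classInner (fun h : C.P => f h) (l : C.P → ℂ) = 2 := by
    rw [hsupp f hf0, hf1]
    field_simp
  have e2 : classInner (fun h : C.P => χ₁ h) (l : C.P → ℂ) = 1 := by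
    rw [hsupp χ₁ h10, h11]
    field_simp
  have e3 : (fun h : C.P => f h) = (fun _ : C.P => (1 : ℂ)) + (fun h : C.P => χ₁ h)
      + (e : ℂ) • (fun h : C.P => χ₂ h) + (fun h : C.P => R h) := by
    funext h
    simp only [Pi.add_apply, Pi.smul_apply, smul_eq_mul]
    exact hf h
  rw [e3, classInner_add_left, classInner_add_left, classInner_add_left, classInner_smul_left,
    hn₀, e2, hn₂, hn₃] at e1
  have hn2pos : 1 ≤ n₂ := by
    rcases Nat.eq_zero_or_pos n₂ with h | h
    · rw [hn₂, h] at hl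
      exact absurd (by simp) hl
    · exact h
  have e4 : n₀ + 1 + e * n₂ + n₃ = 2 := by exact_mod_cast e1
  nlinarith
  
end Cfg

end Cfsg.Agent.Lib.Helper7.W2p
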