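import Mathlib
import Cfsg.Prelude.Def_Characters
import Cfsg.Agent.Lib.Helper7.W2pB
import Cfsg.Agent.Lib.helper3.GalPow
import Cfsg.Agent.Lib.helper3.TwoTrans
import Cfsg.Agent.Lib.helper3.Irr13
import Cfsg.Agent.Lib.helper3.AlgInt

set_option autoImplicit false
set_option linter.style.haveILetI false
set_option linter.unusedSectionVars false
set_option linter.unusedVariables false

/-!
# Wielandt's theorem on primitive groups of degree `2p`: the permutation character
(helper7, for S0720)
-/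

namespace Cfsg.Agent.Lib.Helper7.W2p

open Cfsg MulAction Cfsg.Agent.Lib.helper3.Irr Cfsg.Agent.Lib.helper3.IndFun
open Cfsg.Agent.Lib.helper3.GalPow Cfsg.Agent.Lib.helper3.CharBasic
open scoped ComplexConjugate

/-- a number prime to `N` with prescribed nonzero residue modulo `p` -/
theorem exists_coprime_cast {p : ℕ} [hpf : Fact p.Prime] (N : ℕ) (hN : N ≠ 0) (u : ZMod p)
    (hu : u ≠ 0) : ∃ k : ℕ, k.Coprime N ∧ (k : ZMod p) = u := by
  have hp := hpf.out
  obtain ⟨v, m, hm, rfl⟩ := Nat.exists_eq_pow_mul_and_not_dvd hN p hp.one_lt.ne'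
  have hcop : p.Coprime m := (Nat.Prime.coprime_iff_not_dvd hp).mpr hm
  obtain ⟨k, hk1, hk2⟩ := Nat.chineseRemainder hcop u.val 1
  have hku : (k : ZMod p) = u := by
    rw [(ZMod.natCast_eq_natCast_iff k u.val p).mpr hk1, ZMod.natCast_zmod_val]
  refine ⟨k, ?_, hku⟩
  apply Nat.Coprime.mul_right
  · apply Nat.Coprime.pow_right
    apply Nat.Coprime.symm
    rw [Nat.Prime.coprime_iff_not_dvd hp]
    intro h
    apply hu
    rw [← hku]
    exact (ZMod.natCast_eq_zero_iff k p).mpr h
  · have := hk2.gcd_eq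
    rw [Nat.gcd_one_left] at this
    exact this

variable {G : Type*} [Group G] [Fintype G] {Ω : Type*} [Fintype Ω] [MulAction G Ω]
  {p : ℕ} [hpf : Fact p.Prime]

/-- the permutation character -/
noncomputable def pc (G : Type*) [Group G] (Ω : Type*) [MulAction G Ω] : G → ℂ :=
  fun g => (Nat.card (MulAction.fixedBy Ω g) : ℂ)

theorem pc_apply (g : G) : pc G Ω g = (Nat.card (MulAction.fixedBy Ω g) : ℂ) := rfl

theorem pc_one : pc G Ω 1 = (Fintype.card Ω : ℂ) := by
  rw [pc_apply, MulAction.fixedBy_one_eq_univ, Nat.card_eq_fintype_card]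
  congr 1
  exact Fintype.card_congr (Equiv.Set.univ Ω)

theorem smul_pow_fix {g : G} {β : Ω} (h : g • β = β) (k : ℕ) : g ^ k • β = β := by
  induction k with
  | zero => simp
  | succ n ih => rw [pow_succ, mul_smul, h, ih]

theorem pc_pow (g : G) (k : ℕ) (hk : k.Coprime (Nat.card G)) : pc G Ω (g ^ k) = pc G Ω g := by
  rw [pc_apply, pc_apply]
  have : MulAction.fixedBy Ω (g ^ k) = MulAction.fixedBy Ω g := by
    ext β
    simp only [MulAction.mem_fixedBy]
    constructor
    · intro h
      obtain ⟨m, hm⟩ := exists_pow_eq_self_of_coprime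
        (hk.coprime_dvd_right (orderOf_dvd_natCard g))
      conv_lhs => rw [← hm]
      exact smul_pow_fix h m
    · intro h
      exact smul_pow_fix h k
  rw [this]

theorem conj_pc (g : G) : conj (pc G Ω g) = pc G Ω g := Complex.conj_natCast _

namespace Cfg

variable (C : Cfg G Ω p)

theorem pc_xp (i : ZMod p) (hi : i ≠ 0) : pc G Ω (C.xp i) = 0 := by
  rw [pc_apply]
  have : MulAction.fixedBy Ω (C.xp i) = ∅ := by
    ext β
    simp only [MulAction.mem_fixedBy, Set.mem_empty_iff_false, iff_false]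
    exact C.xp_smul_ne i hi β
  rw [this]
  simp

include C in
theorem p_dvd_card : p ∣ Nat.card G := by
  have h1 : C.xp 1 ≠ 1 := by
    rw [Ne, C.xp_eq_one_iff]
    exact one_ne_zero
  have h2 : C.xp 1 ^ p = 1 := by
    unfold xp
    rw [← pow_mul, mul_comm, pow_mul, C.hxp, one_pow]
  have := orderOf_eq_prime h2 h1
  rw [← this]
  exact orderOf_dvd_natCard _

theorem xp_pow (i : ZMod p) (k : ℕ) : C.xp i ^ k = C.xp (i * (k : ZMod p)) := by
  have : i * (k : ZMod p) = ((i.val * k : ℕ) : ZMod p) := by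
    rw [Nat.cast_mul, ZMod.natCast_zmod_val]
  rw [this, xp_natCast, pow_mul]
  rfl

end Cfg

end Cfsg.Agent.Lib.Helper7.W2p
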