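import Mathlib

set_option autoImplicit false
set_option linter.style.haveILetI false
set_option linter.unusedSectionVars false
set_option linter.unusedVariables false

/-!
# Nonvanishing sums of `p`-th roots of unity and a convolution lemma on `ZMod p`
(helper7, for S0720)
-/

namespace Cfsg.Agent.Lib.Helper7.W2p

open Polynomial

variable {p : ℕ} [hpf : Fact p.Prime]

/-- a nonempty sum of distinct nontrivial powers of a primitive `p`-th root of unity, not
involving `ζ ^ 0`, does not vanish -/
theorem sum_pow_val_ne_zero {ζ : ℂ} (hζ : IsPrimitiveRoot ζ p) (T : Finset (ZMod p))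
    (hT : T.Nonempty) (h0 : (0 : ZMod p) ∉ T) : ∑ t ∈ T, ζ ^ t.val ≠ 0 := by
  classical
  have hp := hpf.out
  intro hsum
  set Q : ℚ[X] := ∑ t ∈ T, X ^ t.val with hQ
  have hQζ : aeval ζ Q = 0 := by
    rw [hQ, map_sum]
    simp only [map_pow, aeval_X]
    exact hsum
  have hdvd : cyclotomic p ℚ ∣ Q := by
    rw [cyclotomic_eq_minpoly_rat hζ hp.pos]
    exact minpoly.dvd ℚ ζ hQζ
  have hcoeff : ∀ n : ℕ, Q.coeff n = if ((n : ZMod p) ∈ T ∧ n < p) then 1 else 0 := by
    intro n
    rw [hQ, finsetSum_coeff]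
    simp only [coeff_X_pow]
    by_cases hn : (n : ZMod p) ∈ T ∧ n < p
    · rw [if_pos hn, Finset.sum_eq_single (n : ZMod p)]
      · rw [ZMod.val_natCast, Nat.mod_eq_of_lt hn.2, if_pos rfl]
      · intro t _ htn
        rw [if_neg]
        intro h
        apply htn
        rw [h, ZMod.natCast_zmod_val]
      · intro h
        exact absurd hn.1 h
    · rw [if_neg hn]
      apply Finset.sum_eq_zero
      intro t ht
      rw [if_neg]
      intro h
      apply hn
      rw [h, ZMod.natCast_zmod_val]
      exact ⟨ht, ZMod.val_lt t⟩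
  have hQ0 : Q ≠ 0 := by
    obtain ⟨t, ht⟩ := hT
    intro h
    have := hcoeff t.val
    rw [h, coeff_zero, if_pos ⟨by rw [ZMod.natCast_zmod_val]; exact ht, ZMod.val_lt t⟩] at this
    exact zero_ne_one this
  have hdegQ : Q.natDegree ≤ p - 1 := by
    rw [natDegree_le_iff_coeff_eq_zero]
    intro n hn
    rw [hcoeff n, if_neg]
    intro h
    omega
  obtain ⟨R, hR⟩ := hdvd
  have hR0 : R ≠ 0 := by
    rintro rfl
    rw [mul_zero] at hR
    exact hQ0 hR
  have hΦ0 : cyclotomic p ℚ ≠ 0 := cyclotomic_ne_zero p ℚ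
  have hdeg : Q.natDegree = (cyclotomic p ℚ).natDegree + R.natDegree := by
    rw [hR, natDegree_mul hΦ0 hR0]
  rw [natDegree_cyclotomic, Nat.totient_prime hp] at hdeg
  have hRdeg : R.natDegree = 0 := by omega
  obtain ⟨r, hr⟩ := natDegree_eq_zero.mp hRdeg
  have hc0 := hcoeff 0
  rw [if_neg (by rw [Nat.cast_zero]; exact fun h => h0 h.1)] at hc0
  rw [hR, ← hr, mul_comm, coeff_C_mul, cyclotomic_prime ℚ p, finsetSum_coeff] at hc0
  simp only [coeff_X_pow] at hc0
  rw [Finset.sum_eq_single 0] at hc0
  · simp only [if_true, mul_one] at hc0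
    rw [hc0, map_zero] at hr
    exact hR0 hr.symm
  · intro i _ hi
    rw [if_neg (Ne.symm hi)]
  · intro h
    exact absurd (Finset.mem_range.mpr hp.pos) h

/-- the standard additive character of `ZMod p` in terms of a primitive root -/
theorem stdAddChar_eq_pow (j : ZMod p) :
    ZMod.stdAddChar j = (ZMod.stdAddChar (1 : ZMod p)) ^ j.val := by
  rw [← AddChar.map_nsmul_eq_pow, nsmul_one, ZMod.natCast_zmod_val]

theorem isPrimitiveRoot_stdAddChar_one : IsPrimitiveRoot (ZMod.stdAddChar (1 : ZMod p)) p := by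
  have h := ZMod.stdAddChar_coe (N := p) 1
  rw [Int.cast_one] at h
  rw [h]
  have := Complex.isPrimitiveRoot_exp p hpf.out.ne_zero
  convert this using 2
  push_cast
  ring

/-- **Convolution lemma.** If the correlation of the indicator of a nonempty set `W ∌ 0` with
`A₀` vanishes identically, then `A₀ = 0`. -/
theorem eq_zero_of_correlation (W : Finset (ZMod p)) (hW : W.Nonempty) (h0 : (0 : ZMod p) ∉ W)
    (A₀ : ZMod p → ℂ) (h : ∀ k : ZMod p, ∑ i ∈ W, A₀ (i + k) = 0) : A₀ = 0 := by
  classical
  have key : ∀ ξ : ZMod p, (∑ i ∈ W, ZMod.stdAddChar (i * ξ)) * ZMod.dft A₀ ξ = 0 := by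
    intro ξ
    have h1 : ∑ k : ZMod p, ZMod.stdAddChar (-(k * ξ)) * ∑ i ∈ W, A₀ (i + k) = 0 := by
      apply Finset.sum_eq_zero
      intro k _
      rw [h k, mul_zero]
    have h2 : ∀ i : ZMod p, ZMod.stdAddChar (i * ξ) * ZMod.dft A₀ ξ
        = ∑ k : ZMod p, ZMod.stdAddChar (-(k * ξ)) * A₀ (i + k) := by
      intro i
      rw [ZMod.dft_apply, Finset.mul_sum,
        ← Equiv.sum_comp (Equiv.addLeft i) (fun m => ZMod.stdAddChar (i * ξ) *
          (ZMod.stdAddChar (-(m * ξ)) • A₀ m))]
      apply Finset.sum_congr rfl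
      intro k _
      simp only [Equiv.coe_addLeft, smul_eq_mul]
      rw [← mul_assoc, ← AddChar.map_add_eq_mul]
      congr 2
      ring
    rw [Finset.sum_mul, Finset.sum_congr rfl (fun i _ => h2 i), Finset.sum_comm, ← h1]
    apply Finset.sum_congr rfl
    intro k _
    rw [Finset.mul_sum]
  have hdft : ZMod.dft A₀ = 0 := by
    funext ξ
    rcases mul_eq_zero.mp (key ξ) with hS | hS
    · exfalso
      by_cases hξ : ξ = 0
      · subst hξ
        simp only [mul_zero, AddChar.map_zero_eq_one, Finset.sum_const, nsmul_eq_mul,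
          mul_one] at hS
        have : W.card = 0 := by exact_mod_cast hS
        exact hW.ne_empty (Finset.card_eq_zero.mp this)
      · have hinj : Set.InjOn (fun i : ZMod p => i * ξ) W := by
          intro i _ j _ hij
          exact mul_right_cancel₀ hξ hij
        have h2 : ∑ i ∈ W, ZMod.stdAddChar (i * ξ)
            = ∑ t ∈ W.image (fun i : ZMod p => i * ξ), (ZMod.stdAddChar (1 : ZMod p)) ^ t.val := by
          rw [Finset.sum_image hinj]
          apply Finset.sum_congr rfl
          intro i _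
          exact stdAddChar_eq_pow _
        rw [h2] at hS
        refine sum_pow_val_ne_zero isPrimitiveRoot_stdAddChar_one _ (hW.image _) ?_ hS
        intro hmem
        obtain ⟨i, hi, hi0⟩ := Finset.mem_image.mp hmem
        rcases mul_eq_zero.mp hi0 with h3 | h3
        · exact h0 (h3 ▸ hi)
        · exact hξ h3
    · exact hS
  have := (ZMod.dft (N := p) (E := ℂ)).injective (a₁ := A₀) (a₂ := 0)
  apply this
  rw [hdft, map_zero]

end Cfsg.Agent.Lib.Helper7.W2p
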