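import Mathlib
import Cfsg.Prelude.Def_Characters
import Cfsg.Agent.Lib.Helper7.W2pC

set_option autoImplicit false
set_option linter.style.haveILetI false
set_option linter.unusedSectionVars false
set_option linter.unusedVariables false

/-!
# Wielandt's theorem on primitive groups of degree `2p`: decomposition of the permutation
character (helper7, for S0720)
-/

namespace Cfsg.Agent.Lib.Helper7.W2p

open Cfsg MulAction Cfsg.Agent.Lib.helper3.Irr Cfsg.Agent.Lib.helper3.IndFun
open Cfsg.Agent.Lib.helper3.GalPow Cfsg.Agent.Lib.helper3.CharBasic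
open Cfsg.Agent.Lib.helper3.PermChar
open scoped ComplexConjugate

variable {G : Type*} [Group G] [Fintype G] {Ω : Type*} [Fintype Ω] [MulAction G Ω]
  {p : ℕ} [hpf : Fact p.Prime]

/-- the trivial character as an element of `IrrCharacter G` -/
noncomputable def trivI (G : Type*) [Group G] [Finite G] : IrrCharacter G :=
  ⟨fun _ => 1, isIrrCharacter_one⟩

theorem trivI_apply (g : G) : (trivI G : G → ℂ) g = 1 := rfl

/-- multiplicities in the permutation character are Galois invariant -/
theorem classInner_pc_pow (χ : G → ℂ) (k : ℕ) (hk : k.Coprime (Nat.card G)) :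
    classInner (pc G Ω) (fun g => χ (g ^ k)) = classInner (pc G Ω) χ := by
  rw [classInner_apply, classInner_apply]
  congr 1
  have h1 : ∑ g : G, pc G Ω g * conj (χ (g ^ k)) = ∑ g : G, pc G Ω (g ^ k) * conj (χ (g ^ k)) := by
    apply Finset.sum_congr rfl
    intro g _
    rw [pc_pow g k hk]
  rw [h1]
  exact Equiv.sum_comp (powCoprime hk.symm) (fun g => pc G Ω g * conj (χ g))

namespace Cfg

variable (C : Cfg G Ω p)

/-- the sum of a function over the powers of `x` is invariant under taking `k`-th powers -/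
theorem sum_xp_pow (f : G → ℂ) (k : ℕ) (hk : (k : ZMod p) ≠ 0) :
    ∑ i : ZMod p, f (C.xp i ^ k) = ∑ i : ZMod p, f (C.xp i) := by
  simp only [C.xp_pow]
  exact Equiv.sum_comp (Equiv.mulRight₀ (k : ZMod p) hk) (fun i => f (C.xp i))

theorem sum_pc (hΩ : Fintype.card Ω = 2 * p) :
    ∑ i : ZMod p, pc G Ω (C.xp i) = 2 * (p : ℂ) := by
  rw [Finset.sum_eq_single (0 : ZMod p)]
  · rw [C.xp_zero, pc_one, hΩ]
    push_cast
    ring
  · intro i _ hi
    exact C.pc_xp i hi
  · intro h
    exact absurd (Finset.mem_univ _) h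

end Cfg

/-- the decomposition of the permutation character of a group of degree `2p` which is not
doubly transitive -/
structure Dec (C : Cfg G Ω p) (ψ : IrrCharacter G) (X : Finset (IrrCharacter G)) : Prop where
  hψ1 : (ψ : G → ℂ) 1 = (p : ℂ)
  hψ0 : ∀ i : ZMod p, i ≠ 0 → (ψ : G → ℂ) (C.xp i) = 0
  hψreal : ∀ g : G, conj ((ψ : G → ℂ) g) = (ψ : G → ℂ) g
  hψtriv : ψ ≠ trivI G
  hXtriv : trivI G ∉ X
  hXψ : ψ ∉ X
  hpc : ∀ g : G, pc G Ω g = 1 + (ψ : G → ℂ) g + ∑ χ ∈ X, (χ : G → ℂ) g
  hXsum : ∀ χ ∈ X, ∑ i : ZMod p, (χ : G → ℂ) (C.xp i) = 0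

end Cfsg.Agent.Lib.Helper7.W2p
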