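import Mathlib
import Cfsg.Prelude.Def_Characters
import Cfsg.Agent.Lib.Helper7.W2pD

set_option autoImplicit false
set_option linter.style.haveILetI false
set_option linter.unusedSectionVars false
set_option linter.unusedVariables false

/-!
# Wielandt's theorem on primitive groups of degree `2p`: existence of the decomposition
(helper7, for S0720)
-/

namespace Cfsg.Agent.Lib.Helper7.W2p

open Cfsg MulAction Cfsg.Agent.Lib.helper3.Irr Cfsg.Agent.Lib.helper3.IndFun
open Cfsg.Agent.Lib.helper3.GalPow Cfsg.Agent.Lib.helper3.CharBasic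
open Cfsg.Agent.Lib.helper3.PermChar
open scoped ComplexConjugate

variable {G : Type*} [Group G] [Fintype G] {Ω : Type*} [Fintype Ω] [MulAction G Ω]
  {p : ℕ} [hpf : Fact p.Prime]

/-- a sum of natural numbers equal to one has exactly one nonzero term -/
theorem exists_unique_term {ι : Type*} [DecidableEq ι] (s : Finset ι) (f : ι → ℕ)
    (h : ∑ i ∈ s, f i = 1) : ∃ j ∈ s, f j = 1 ∧ ∀ i ∈ s, i ≠ j → f i = 0 := by
  have h1 : ∃ j ∈ s, f j ≠ 0 := by
    by_contra hcon
    push Not at hcon
    rw [Finset.sum_eq_zero hcon] at h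
    exact zero_ne_one h
  obtain ⟨j, hj, hfj⟩ := h1
  rw [← Finset.add_sum_erase s f hj] at h
  have h2 : f j = 1 := by omega
  have h3 : ∑ i ∈ s.erase j, f i = 0 := by omega
  refine ⟨j, hj, h2, ?_⟩
  intro i hi hij
  exact (Finset.sum_eq_zero_iff.mp h3) i (Finset.mem_erase.mpr ⟨hij, hi⟩)

namespace Cfg

variable (C : Cfg G Ω p)

/-- **The constituent of degree `p`.** -/
theorem exists_dec [MulAction.IsPretransitive G Ω] (hp2 : p ≠ 2) (hΩ : Fintype.card Ω = 2 * p)
    (hlin : ∀ χ : G → ℂ, IsIrrCharacter G χ → χ 1 = 1 → classInner (pc G Ω) χ ≠ 0 →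
      χ = fun _ => 1) :
    IsIrrCharacter G (fun g => pc G Ω g - 1) ∨
      ∃ (ψ : IrrCharacter G) (X : Finset (IrrCharacter G)), Dec C ψ X := by
  classical
  have hp := hpf.out
  have hp0 : (p : ℂ) ≠ 0 := by exact_mod_cast hp.ne_zero
  haveI : Nonempty Ω := ⟨C.a⟩
  have hpcchar : IsCharacter G (pc G Ω) := isCharacter_permChar (G := G) Ω
  obtain ⟨e, he⟩ := exists_decomposition_of_isCharacter hpcchar
  have hemult : ∀ χ : IrrCharacter G, classInner (pc G Ω) (χ : G → ℂ) = e χ := by
    intro χ
    rw [he]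
    exact classInner_decomposition_left _ χ
  have hchar : ∀ χ : IrrCharacter G, IsCharacter G (χ : G → ℂ) := fun χ =>
    isCharacter_of_isIrrCharacter χ.2
  -- the numbers `a χ`
  choose a ha using fun χ : IrrCharacter G => C.exists_nat_sum (hchar χ)
  have hetriv : e (trivI G) = 1 := by
    have h1 := classInner_permChar_one (G := G) Ω
    have h2 := hemult (trivI G)
    have h3 : ((trivI G : IrrCharacter G) : G → ℂ) = fun _ => 1 := rfl
    rw [h3] at h2
    have h4 : pc G Ω = fun g : G => (Nat.card (MulAction.fixedBy Ω g) : ℂ) := rfl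
    rw [h4, h1] at h2
    exact_mod_cast h2.symm
  have hatriv : a (trivI G) = 1 := by
    have h1 := ha (trivI G)
    simp only [trivI_apply, Finset.sum_const, Finset.card_univ, ZMod.card, nsmul_eq_mul,
      mul_one] at h1
    have h2 : (p : ℂ) * 1 = (p : ℂ) * (a (trivI G) : ℂ) := by rw [mul_one]; exact h1
    have h3 := mul_left_cancel₀ hp0 h2
    exact_mod_cast h3.symm
  -- the basic equation
  have hsum2 : ∑ χ : IrrCharacter G, e χ * a χ = 2 := by
    have h1 := C.sum_pc hΩ
    have h2 : ∀ i : ZMod p, pc G Ω (C.xp i)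
        = ∑ χ : IrrCharacter G, (e χ : ℂ) * (χ : G → ℂ) (C.xp i) := by
      intro i
      conv_lhs => rw [he]
      simp only [Finset.sum_apply, Pi.smul_apply, smul_eq_mul]
    simp only [h2] at h1
    rw [Finset.sum_comm] at h1
    have h3 : ∀ χ : IrrCharacter G, ∑ i : ZMod p, (e χ : ℂ) * (χ : G → ℂ) (C.xp i)
        = (p : ℂ) * ((e χ * a χ : ℕ) : ℂ) := by
      intro χ
      rw [← Finset.mul_sum, ha χ]
      push_cast
      ring
    rw [Finset.sum_congr rfl (fun χ _ => h3 χ), ← Finset.mul_sum] at h1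
    have h4 : (p : ℂ) * ∑ χ : IrrCharacter G, ((e χ * a χ : ℕ) : ℂ) = (p : ℂ) * 2 := by
      rw [h1]; ring
    have h5 := mul_left_cancel₀ hp0 h4
    exact_mod_cast h5
  -- the unique nontrivial constituent with `a ≠ 0`
  have hsum1 : ∑ χ ∈ Finset.univ.erase (trivI G), e χ * a χ = 1 := by
    have := Finset.add_sum_erase Finset.univ (fun χ => e χ * a χ) (Finset.mem_univ (trivI G))
    rw [hsum2] at this
    simp only [hetriv, hatriv, mul_one] at this
    omega
  obtain ⟨ψ, hψmem, hψ1, hψuniq⟩ := exists_unique_term _ _ hsum1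
  have hψtriv : ψ ≠ trivI G := (Finset.mem_erase.mp hψmem).1
  have heψ : e ψ = 1 := Nat.eq_one_of_mul_eq_one_right hψ1
  have haψ : a ψ = 1 := Nat.eq_one_of_mul_eq_one_left hψ1
  have huniq : ∀ χ : IrrCharacter G, χ ≠ trivI G → e χ * a χ ≠ 0 → χ = ψ := by
    intro χ hχ hne
    by_contra hcon
    exact hne (hψuniq χ (Finset.mem_erase.mpr ⟨hχ, Finset.mem_univ _⟩) hcon)
  -- Galois invariance
  have hN0 : Nat.card G ≠ 0 := Nat.card_pos.ne'
  have hgal : ∀ k : ℕ, k.Coprime (Nat.card G) → ∀ g : G, (ψ : G → ℂ) (g ^ k) = (ψ : G → ℂ) g := by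
    intro k hk
    set ψk : IrrCharacter G := ⟨fun g => (ψ : G → ℂ) (g ^ k), isIrrCharacter_pow ψ.2 k hk⟩ with hψk
    have hkp : (k : ZMod p) ≠ 0 := by
      intro h
      have h1 := (ZMod.natCast_eq_zero_iff k p).mp h
      have h2 : p ∣ Nat.gcd k (Nat.card G) := Nat.dvd_gcd h1 C.p_dvd_card
      rw [hk] at h2
      exact hp.one_lt.ne' (Nat.dvd_one.mp h2)
    have h1 : e ψk = 1 := by
      have := hemult ψk
      rw [hψk] at this
      simp only at this
      rw [classInner_pc_pow _ k hk, hemult ψ, heψ] at this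
      exact_mod_cast this.symm
    have h2 : a ψk = 1 := by
      have h3 := ha ψk
      rw [hψk] at h3
      simp only at h3
      rw [C.sum_xp_pow (ψ : G → ℂ) k hkp, ha ψ, haψ] at h3
      have h4 := mul_left_cancel₀ hp0 h3
      exact_mod_cast h4.symm
    have h3 : ψk ≠ trivI G := by
      intro h
      apply hψtriv
      apply Subtype.ext
      funext g
      obtain ⟨m, hm⟩ := exists_pow_eq_self_of_coprime
        (hk.coprime_dvd_right (orderOf_dvd_natCard g))
      have h4 := congrFun (congrArg Subtype.val h) (g ^ k ^ 0)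
      have h5 : (ψk : G → ℂ) = fun g => (ψ : G → ℂ) (g ^ k) := rfl
      -- evaluate at a `k`-th root
      obtain ⟨y, hy⟩ : ∃ y : G, y ^ k = g := by
        refine ⟨(powCoprime hk.symm).symm g, ?_⟩
        exact (powCoprime hk.symm).apply_symm_apply g
      have h6 := congrFun (congrArg Subtype.val h) y
      rw [h5] at h6
      simp only [hy] at h6
      rw [h6]
      rfl
    have h4 := huniq ψk h3 (by rw [h1, h2]; norm_num)
    intro g
    have h5 := congrFun (congrArg Subtype.val h4) g
    exact h5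
  -- constancy on the nontrivial powers of `x`
  set c : ℂ := (ψ : G → ℂ) (C.xp 1) with hc
  have hconst : ∀ i : ZMod p, i ≠ 0 → (ψ : G → ℂ) (C.xp i) = c := by
    intro i hi
    obtain ⟨k, hk, hki⟩ := exists_coprime_cast (Nat.card G) hN0 i hi
    have h1 := hgal k hk (C.xp 1)
    rw [C.xp_pow, one_mul, hki] at h1
    rw [h1]
  -- real values
  have hreal : ∀ g : G, conj ((ψ : G → ℂ) g) = (ψ : G → ℂ) g := by
    intro g
    have hN2 : 1 ≤ Nat.card G := Nat.card_pos
    have hcop : (Nat.card G - 1).Coprime (Nat.card G) := by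
      apply Nat.Coprime.symm
      rw [Nat.coprime_self_sub_right hN2]
      exact Nat.coprime_one_right _
    have h1 := hgal _ hcop g
    have h2 : g ^ (Nat.card G - 1) = g⁻¹ := by
      rw [eq_inv_iff_mul_eq_one, ← pow_succ, Nat.sub_add_cancel hN2, pow_card_eq_one']
    rw [h2, isCharacter_apply_inv (hchar ψ)] at h1
    exact h1
  -- the degree
  obtain ⟨d, hd0, hd⟩ := exists_pos_nat_apply_one ψ.2
  have hdeg : (d : ℂ) + ((p : ℂ) - 1) * c = p := by
    have h1 := ha ψ
    rw [haψ, ← Finset.add_sum_erase Finset.univ _ (Finset.mem_univ (0 : ZMod p)), C.xp_zero, hd] at h1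
    have h2 : ∑ i ∈ Finset.univ.erase (0 : ZMod p), (ψ : G → ℂ) (C.xp i)
        = ((p : ℂ) - 1) * c := by
      rw [Finset.sum_congr rfl (fun i hi => hconst i (Finset.mem_erase.mp hi).1),
        Finset.sum_const, Finset.card_erase_of_mem (Finset.mem_univ _), Finset.card_univ,
        ZMod.card, nsmul_eq_mul, Nat.cast_sub hp.one_lt.le]
      push_cast
      ring
    rw [h2] at h1
    rw [h1]
    push_cast
    ring
  -- `c` is a rational integer
  have hp1 : ((p : ℂ) - 1) ≠ 0 := by
    have : (1 : ℂ) ≠ (p : ℂ) := by exact_mod_cast hp.one_lt.ne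
    exact sub_ne_zero.mpr (Ne.symm this)
  have hcint : IsIntegral ℤ c := by
    obtain ⟨n, ρ, -, hρ⟩ := ψ.2
    rw [hc, ← hρ]
    exact isIntegral_character ρ _
  have hcq : c = (((p : ℚ) - d) / ((p : ℚ) - 1) : ℚ) := by
    push_cast
    rw [eq_div_iff hp1]
    linear_combination hdeg
  rw [hcq] at hcint
  obtain ⟨z, hz⟩ := Cfsg.Agent.Lib.helper3.AlgInt.exists_int_of_isIntegral_ratCast hcint
  have hcz : c = (z : ℂ) := by
    rw [hcq, ← hz]
    push_cast
    rfl
  have hdegz : (d : ℤ) + ((p : ℤ) - 1) * z = p := by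
    have : ((d : ℤ) : ℂ) + (((p : ℤ) : ℂ) - 1) * (z : ℂ) = ((p : ℤ) : ℂ) := by
      push_cast
      rw [← hcz]
      exact hdeg
    exact_mod_cast this
  -- the degree is at most `2p - 1`
  have hpc1 : ∑ χ : IrrCharacter G, (e χ : ℂ) * (χ : G → ℂ) 1 = 2 * (p : ℂ) := by
    have h1 : pc G Ω 1 = 2 * (p : ℂ) := by
      rw [pc_one, hΩ]; push_cast; ring
    rw [← h1]
    conv_rhs => rw [he]
    simp only [Finset.sum_apply, Pi.smul_apply, smul_eq_mul]
  choose dg hdg0 hdg using fun χ : IrrCharacter G => exists_pos_nat_apply_one χ.2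
  have hpc1' : ∑ χ : IrrCharacter G, e χ * dg χ = 2 * p := by
    have : ∑ χ : IrrCharacter G, ((e χ * dg χ : ℕ) : ℂ) = ((2 * p : ℕ) : ℂ) := by
      push_cast
      rw [← hpc1]
      apply Finset.sum_congr rfl
      intro χ _
      rw [hdg χ]
    exact_mod_cast this
  have hdgψ : dg ψ = d := by
    have := hdg ψ
    rw [hd] at this
    exact_mod_cast this.symm
  have hdgtriv : dg (trivI G) = 1 := by
    have := hdg (trivI G)
    rw [trivI_apply] at this
    exact_mod_cast this.symm
  -- split the degree sum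
  have hsplit : 1 + d + ∑ χ ∈ (Finset.univ.erase (trivI G)).erase ψ, e χ * dg χ = 2 * p := by
    rw [← hpc1', ← Finset.add_sum_erase Finset.univ _ (Finset.mem_univ (trivI G)),
      ← Finset.add_sum_erase (Finset.univ.erase (trivI G)) _ hψmem, hetriv, heψ, hdgψ, hdgtriv]
    ring
  have hdle : d + 1 ≤ 2 * p := by omega
  -- the three cases
  have hzcases : z = 1 ∨ z = 0 ∨ z = -1 := by
    have hp1' : (0 : ℤ) < (p : ℤ) - 1 := by
      have : (1 : ℤ) < p := by exact_mod_cast hp.one_lt
      omega
    have h1 : ((p : ℤ) - 1) * z ≤ (p : ℤ) - 1 := by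
      have : (1 : ℤ) ≤ d := by exact_mod_cast hd0
      omega
    have h2 : -((p : ℤ) - 1) ≤ ((p : ℤ) - 1) * z := by
      have : (d : ℤ) + 1 ≤ 2 * p := by exact_mod_cast hdle
      omega
    have h3 : z ≤ 1 := by
      by_contra hcon
      push Not at hcon
      nlinarith
    have h4 : -1 ≤ z := by
      by_contra hcon
      push Not at hcon
      nlinarith
    omega
  rcases hzcases with hz1 | hz0 | hzm
  · -- linear case
    exfalso
    have hd1 : d = 1 := by
      rw [hz1] at hdegz
      omega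
    apply hψtriv
    apply Subtype.ext
    apply hlin _ ψ.2
    · rw [hd, hd1, Nat.cast_one]
    · rw [hemult, heψ]
      norm_num
  · -- the main case
    right
    have hdp : d = p := by
      rw [hz0] at hdegz
      omega
    have hc0 : c = 0 := by rw [hcz, hz0, Int.cast_zero]
    set X : Finset (IrrCharacter G) :=
      ((Finset.univ.erase (trivI G)).erase ψ).filter (fun χ => e χ ≠ 0) with hX
    have hXmem : ∀ χ, χ ∈ X ↔ χ ≠ trivI G ∧ χ ≠ ψ ∧ e χ ≠ 0 := by
      intro χ
      rw [hX, Finset.mem_filter, Finset.mem_erase, Finset.mem_erase]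
      simp only [Finset.mem_univ, and_true]
      tauto
    -- multiplicities in `X` are one
    have heX : ∀ χ ∈ X, e χ = 1 := by
      intro χ hχ
      obtain ⟨hχt, hχψ, hχe⟩ := (hXmem χ).mp hχ
      have hle : e χ ≤ 1 := by
        set R : G → ℂ := ∑ φ ∈ ((Finset.univ.erase (trivI G)).erase ψ).erase χ,
          (e φ : ℂ) • (φ : G → ℂ) with hR
        have hRchar : IsCharacter G R := by
          apply isCharacter_sum
          intro φ _
          exact isCharacter_nsmul (hchar φ) _
        apply C.mult_le_one (f := pc G Ω) (χ₁ := (ψ : G → ℂ)) (χ₂ := (χ : G → ℂ)) (R := R)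
          (hchar ψ) (hchar χ) hRchar (e χ)
        · intro g
          have hχmem : χ ∈ (Finset.univ.erase (trivI G)).erase ψ :=
            Finset.mem_erase.mpr ⟨hχψ, Finset.mem_erase.mpr ⟨hχt, Finset.mem_univ _⟩⟩
          conv_lhs => rw [he]
          rw [← Finset.add_sum_erase Finset.univ _ (Finset.mem_univ (trivI G)),
            ← Finset.add_sum_erase (Finset.univ.erase (trivI G)) _ hψmem,
            ← Finset.add_sum_erase ((Finset.univ.erase (trivI G)).erase ψ) _ hχmem, hetriv, heψ]
          simp only [Pi.add_apply, Pi.smul_apply, smul_eq_mul, Nat.cast_one, one_mul, trivI_apply,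
            hR]
          ring
        · exact fun i hi => C.pc_xp i hi
        · rw [pc_one, hΩ]; push_cast; ring
        · intro i hi
          rw [hconst i hi, hc0]
        · rw [hd, hdp]
        · exact apply_one_ne_zero χ.2
      omega
    have haX : ∀ χ ∈ X, a χ = 0 := by
      intro χ hχ
      obtain ⟨hχt, hχψ, hχe⟩ := (hXmem χ).mp hχ
      by_contra hcon
      exact hχψ (huniq χ hχt (Nat.mul_ne_zero hχe hcon))
    refine ⟨ψ, X, ?_, ?_, hreal, hψtriv, ?_, ?_, ?_, ?_⟩
    · rw [hd, hdp]
    · intro i hi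
      rw [hconst i hi, hc0]
    · intro h
      exact ((hXmem _).mp h).1 rfl
    · intro h
      exact ((hXmem _).mp h).2.1 rfl
    · intro g
      conv_lhs => rw [he]
      rw [← Finset.add_sum_erase Finset.univ _ (Finset.mem_univ (trivI G)),
        ← Finset.add_sum_erase (Finset.univ.erase (trivI G)) _ hψmem, hetriv, heψ]
      simp only [Pi.add_apply, Pi.smul_apply, smul_eq_mul, Nat.cast_one, one_mul, trivI_apply,
        Finset.sum_apply]
      rw [add_assoc]
      congr 2
      rw [hX, Finset.sum_filter]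
      apply Finset.sum_congr rfl
      intro χ hχ
      by_cases hχe : e χ = 0
      · rw [if_neg (not_not.mpr hχe), hχe, Nat.cast_zero, zero_mul]
      · rw [if_pos hχe]
        have hχX : χ ∈ X := by
          rw [hXmem]
          have := Finset.mem_erase.mp hχ
          exact ⟨(Finset.mem_erase.mp this.2).1, this.1, hχe⟩
        rw [heX χ hχX, Nat.cast_one, one_mul]
    · intro χ hχ
      rw [ha χ, haX χ hχ, Nat.cast_zero, mul_zero]
  · -- the doubly transitive case
    left
    have hd2 : d + 1 = 2 * p := by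
      rw [hzm] at hdegz
      omega
    have hrest : ∑ χ ∈ (Finset.univ.erase (trivI G)).erase ψ, e χ * dg χ = 0 := by omega
    have hrest' : ∀ χ ∈ (Finset.univ.erase (trivI G)).erase ψ, e χ = 0 := by
      intro χ hχ
      have := (Finset.sum_eq_zero_iff.mp hrest) χ hχ
      rcases Nat.mul_eq_zero.mp this with h | h
      · exact h
      · exact absurd h (hdg0 χ).ne'
    have : (fun g => pc G Ω g - 1) = (ψ : G → ℂ) := by
      funext g
      conv_lhs => rw [he]
      rw [← Finset.add_sum_erase Finset.univ _ (Finset.mem_univ (trivI G)),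
        ← Finset.add_sum_erase (Finset.univ.erase (trivI G)) _ hψmem, hetriv, heψ]
      simp only [Pi.add_apply, Pi.smul_apply, smul_eq_mul, Nat.cast_one, one_mul, trivI_apply,
        Finset.sum_apply]
      rw [Finset.sum_eq_zero]
      · ring
      · intro χ hχ
        rw [hrest' χ hχ, Nat.cast_zero, zero_mul]
    rw [this]
    exact ψ.2

end Cfg

end Cfsg.Agent.Lib.Helper7.W2p
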