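import Mathlib
import Cfsg.Prelude.Def_Characters
import Cfsg.Agent.Lib.Helper7.W2pD
import Cfsg.Agent.Lib.helper3.BlockIdem
import Cfsg.Agent.Lib.Helper4.HeckeD

set_option autoImplicit false
set_option linter.style.haveILetI false
set_option linter.unusedSectionVars false
set_option linter.unusedVariables false

/-!
# Wielandt's theorem on primitive groups of degree `2p`: the invariant kernel of a constituent
(helper7, for S0720)
-/

namespace Cfsg.Agent.Lib.Helper7.W2p

open Cfsg MulAction Cfsg.Agent.Lib.helper3.Irr Cfsg.Agent.Lib.helper3.IndFun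
open Cfsg.Agent.Lib.helper3.GalPow Cfsg.Agent.Lib.helper3.CharBasic
open Cfsg.Agent.Lib.helper3.PermChar Cfsg.Agent.Lib.Helper4.Hecke
open scoped ComplexConjugate

variable {G : Type*} [Group G] [Fintype G] {Ω : Type*} [Fintype Ω] [DecidableEq Ω] [MulAction G Ω]

/-- the invariant kernel attached to a function on `G` -/
noncomputable def kern (ψ : G → ℂ) (a : Ω) (β' β : Ω) : ℂ :=
  (Nat.card (MulAction.stabilizer G a) : ℂ)⁻¹ * ∑ g : G, if g • β = β' then ψ g else 0

theorem kern_smul {ψ : G → ℂ} (hψ : IsClassFunction G ψ) (a : Ω) (g : G) (β' β : Ω) :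
    kern ψ a (g • β') (g • β) = kern ψ a β' β := by
  unfold kern
  congr 1
  symm
  apply Fintype.sum_equiv (MulAut.conj g).toEquiv
  intro h
  show (if h • β = β' then ψ h else 0)
    = if (g * h * g⁻¹) • g • β = g • β' then ψ (g * h * g⁻¹) else 0
  have hiff : (g * h * g⁻¹) • g • β = g • β' ↔ h • β = β' := by
    rw [mul_smul, mul_smul, inv_smul_smul, smul_left_cancel_iff]
  by_cases hh : h • β = β'
  · rw [if_pos hh, if_pos (hiff.mpr hh), hψ]
  · rw [if_neg hh, if_neg (fun h' => hh (hiff.mp h'))]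

theorem kern_symm {ψ : G → ℂ} (hinv : ∀ g : G, ψ g⁻¹ = ψ g) (a : Ω) (β' β : Ω) :
    kern ψ a β β' = kern ψ a β' β := by
  unfold kern
  congr 1
  apply Fintype.sum_equiv (Equiv.inv G)
  intro h
  show (if h • β' = β then ψ h else 0) = if h⁻¹ • β = β' then ψ h⁻¹ else 0
  have hiff : h⁻¹ • β = β' ↔ h • β' = β := by
    rw [inv_smul_eq_iff, eq_comm]
  by_cases hh : h • β' = β
  · rw [if_pos hh, if_pos (hiff.mpr hh), hinv]
  · rw [if_neg hh, if_neg (fun h' => hh (hiff.mp h'))]

theorem sum_kern (ψ : G → ℂ) (a : Ω) (β : Ω) :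
    ∑ β' : Ω, kern ψ a β' β = (Nat.card (MulAction.stabilizer G a) : ℂ)⁻¹ * ∑ g : G, ψ g := by
  unfold kern
  rw [← Finset.mul_sum, Finset.sum_comm]
  congr 1
  apply Finset.sum_congr rfl
  intro g _
  rw [Finset.sum_ite_eq]
  simp

theorem sum_kern_smul (ψ : G → ℂ) (a : Ω) (y : G) :
    ∑ β : Ω, kern ψ a (y • β) β
      = (Nat.card (MulAction.stabilizer G a) : ℂ)⁻¹ * ∑ g : G, ψ g * pc G Ω (y⁻¹ * g) := by
  unfold kern
  rw [← Finset.mul_sum, Finset.sum_comm]
  congr 1
  apply Finset.sum_congr rfl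
  intro g _
  rw [← Finset.sum_filter, Finset.sum_const, nsmul_eq_mul, mul_comm, pc_apply]
  congr 2
  rw [Nat.card_eq_fintype_card, Fintype.card_subtype]
  congr 1
  ext β
  simp only [Finset.mem_filter, Finset.mem_univ, true_and, MulAction.mem_fixedBy]
  rw [mul_smul, inv_smul_eq_iff]

/-- the twisted sum of an irreducible character against the permutation character vanishes where
the character vanishes -/
theorem sum_mul_pc_eq_zero [MulAction.IsPretransitive G Ω] [Nonempty Ω] (ψ : IrrCharacter G) (y : G)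
    (hy : (ψ : G → ℂ) y = 0) : ∑ g : G, (ψ : G → ℂ) g * pc G Ω (y⁻¹ * g) = 0 := by
  classical
  have hpcchar : IsCharacter G (pc G Ω) := isCharacter_permChar (G := G) Ω
  obtain ⟨e, he⟩ := exists_decomposition_of_isCharacter hpcchar
  have h1 : ∀ g : G, pc G Ω (y⁻¹ * g)
      = ∑ χ : IrrCharacter G, (e χ : ℂ) * (χ : G → ℂ) (y⁻¹ * g) := by
    intro g
    conv_lhs => rw [he]
    simp only [Finset.sum_apply, Pi.smul_apply, smul_eq_mul]
  simp only [h1, Finset.mul_sum]
  rw [Finset.sum_comm]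
  apply Finset.sum_eq_zero
  intro χ _
  have hχc := isCharacter_of_isIrrCharacter χ.2
  set χbar : IrrCharacter G := ⟨fun g => conj ((χ : G → ℂ) g), isIrrCharacter_conj χ.2⟩ with hχbar
  have h2 := Cfsg.Agent.Lib.helper3.Block.gen_orthogonality ψ χbar y
  have h3 : (if ψ = χbar then (Nat.card G : ℂ) * (ψ : G → ℂ) y / (ψ : G → ℂ) 1 else 0) = 0 := by
    split_ifs
    · rw [hy, mul_zero, zero_div]
    · rfl
  rw [h3] at h2
  have h4 : ∀ g : G, (ψ : G → ℂ) g * ((e χ : ℂ) * (χ : G → ℂ) (y⁻¹ * g))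
      = (e χ : ℂ) * ((ψ : G → ℂ) g * (χbar : G → ℂ) (g⁻¹ * y)) := by
    intro g
    have h5 : (χbar : G → ℂ) (g⁻¹ * y) = (χ : G → ℂ) (y⁻¹ * g) := by
      rw [hχbar]
      simp only
      rw [← isCharacter_apply_inv hχc]
      group
    rw [h5]
    ring
  rw [Finset.sum_congr rfl (fun g _ => h4 g), ← Finset.mul_sum, h2, mul_zero]

end Cfsg.Agent.Lib.Helper7.W2p
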