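import Mathlib
import Cfsg.Prelude.Def_Characters
import Cfsg.Agent.Lib.Helper7.W2pF

set_option autoImplicit false
set_option linter.style.haveILetI false
set_option linter.unusedSectionVars false
set_option linter.unusedVariables false

/-!
# Wielandt's theorem on primitive groups of degree `2p`: vanishing Hecke sums and the kernel in
coordinates (helper7, for S0720)
-/

namespace Cfsg.Agent.Lib.Helper7.W2p

open Cfsg MulAction Cfsg.Agent.Lib.helper3.Irr Cfsg.Agent.Lib.helper3.IndFun
open Cfsg.Agent.Lib.helper3.GalPow Cfsg.Agent.Lib.helper3.CharBasic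
open Cfsg.Agent.Lib.helper3.PermChar Cfsg.Agent.Lib.Helper4.Hecke
open scoped ComplexConjugate

variable {G : Type*} [Group G] [Fintype G] {Ω : Type*} [Fintype Ω] [DecidableEq Ω] [MulAction G Ω]

/-- **Vanishing Hecke sums.** If the stabilizer of `a` has a one-dimensional space of fixed vectors
in the representation affording `ψ`, and the invariant set `Z` has Hecke eigenvalue `0`, then the
kernel sums over `Z` vanish at every point. -/
theorem sum_kern_eq_zero [MulAction.IsPretransitive G Ω] {ψ : G → ℂ} (hψ : IsCharacter G ψ)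
    (a : Ω) (hmult : kern ψ a a a = 1) (Z : Finset Ω)
    (hZ : ∀ g : G, g • a = a → ∀ z ∈ Z, g • z ∈ Z) (h0 : ∑ γ ∈ Z, kern ψ a γ a = 0) (β : Ω) :
    ∑ γ ∈ Z, kern ψ a γ β = 0 := by
  classical
  obtain ⟨n, ρ, rfl⟩ := hψ
  obtain ⟨w, rfl⟩ := MulAction.exists_smul_eq G a β
  have hE : heckeR ρ a a * heckeR ρ a a = heckeR ρ a a := heckeR_mul_self ρ a a
  have htr : LinearMap.trace ℂ _ (heckeR ρ a a) = 1 := by
    rw [trace_heckeR]
    exact hmult
  have hT := eq_smul_of_rank_one (heckeR ρ a a) (heckeT ρ a Z) hE htr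
    (self_mul_heckeT ρ a Z hZ) (heckeT_mul_self ρ a Z)
  have hsumZ : ∀ (f : G → ℂ) (v : Ω), ∑ γ ∈ Z, kern f a γ v
      = (Nat.card (MulAction.stabilizer G a) : ℂ)⁻¹ * ∑ g : G, if g • v ∈ Z then f g else 0 := by
    intro f v
    unfold kern
    rw [← Finset.mul_sum, Finset.sum_comm]
    congr 1
    apply Finset.sum_congr rfl
    intro g _
    rw [Finset.sum_ite_eq]
  have htrT : LinearMap.trace ℂ _ (heckeT ρ a Z) = 0 := by
    rw [trace_heckeT, ← hsumZ]
    exact h0
  rw [htrT, zero_smul] at hT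
  rw [hsumZ]
  have h1 : ∑ g : G, (if g • w • a ∈ Z then ρ.character g else 0)
      = ∑ g : G, (if g • a ∈ Z then ρ.character (g * w⁻¹) else 0) := by
    apply Fintype.sum_equiv (Equiv.mulRight w)
    intro g
    show (if g • w • a ∈ Z then ρ.character g else 0)
      = if (g * w) • a ∈ Z then ρ.character (g * w * w⁻¹) else 0
    simp only [mul_smul, mul_inv_cancel_right]
  rw [h1]
  have h2 : (Nat.card (MulAction.stabilizer G a) : ℂ)⁻¹ *
      ∑ g : G, (if g • a ∈ Z then ρ.character (g * w⁻¹) else 0)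
      = LinearMap.trace ℂ _ (heckeT ρ a Z * ρ w⁻¹) := by
    rw [heckeT_eq_sum, smul_mul_assoc, map_smul, smul_eq_mul, Finset.sum_mul, map_sum]
    congr 1
    apply Finset.sum_congr rfl
    intro g _
    split_ifs
    · rw [← map_mul]
      rfl
    · rw [zero_mul, map_zero]
  rw [h2, hT, zero_mul, map_zero]

end Cfsg.Agent.Lib.Helper7.W2p
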