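import Mathlib
import Cfsg.Prelude.Def_Characters
import Cfsg.Agent.Lib.Helper7.W2pG
import Cfsg.Agent.Lib.Helper7.W2pCyc

set_option autoImplicit false
set_option linter.style.haveILetI false
set_option linter.unusedSectionVars false
set_option linter.unusedVariables false

/-!
# Wielandt's theorem on primitive groups of degree `2p`: the dichotomy for the kernel on an orbit
of `⟨x⟩` (helper7, for S0720)
-/

namespace Cfsg.Agent.Lib.Helper7.W2p

open Cfsg MulAction Cfsg.Agent.Lib.helper3.Irr Cfsg.Agent.Lib.helper3.IndFun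
open Cfsg.Agent.Lib.helper3.GalPow Cfsg.Agent.Lib.helper3.CharBasic
open Cfsg.Agent.Lib.helper3.PermChar Cfsg.Agent.Lib.Helper4.Hecke
open scoped ComplexConjugate

variable {G : Type*} [Group G] [Fintype G] {Ω : Type*} [Fintype Ω] [DecidableEq Ω] [MulAction G Ω]
  {p : ℕ} [hpf : Fact p.Prime]

/-- the hypotheses on the function `ψ` defining the kernel -/
structure KData (C : Cfg G Ω p) (ψ : G → ℂ) : Prop where
  hchar : IsCharacter G ψ
  hinv : ∀ g : G, ψ g⁻¹ = ψ g
  hmult : kern ψ C.a C.a C.a = 1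
  hvan : ∀ m : ZMod p, m ≠ 0 → ∑ g : G, ψ g * pc G Ω ((C.xp m)⁻¹ * g) = 0
  hsum : ∑ g : G, ψ g = 0

namespace KData

variable {C : Cfg G Ω p} {ψ : G → ℂ} (K : KData C ψ)

include K

theorem hcf : IsClassFunction G ψ := isClassFunction_of_isCharacter K.hchar

/-- the kernel on the orbit of `a` -/
noncomputable def fA (K : KData C ψ) (m : ZMod p) : ℂ := kern ψ C.a (C.xp m • C.a) C.a

/-- the kernel on the orbit of `b` -/
noncomputable def fA' (K : KData C ψ) (m : ZMod p) : ℂ := kern ψ C.a (C.xp m • C.b) C.b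

/-- the kernel between the two orbits -/
noncomputable def fB (K : KData C ψ) (m : ZMod p) : ℂ := kern ψ C.a (C.xp m • C.b) C.a

theorem kern_aa (i i' : ZMod p) : kern ψ C.a (C.xp i • C.a) (C.xp i' • C.a) = K.fA (i - i') := by
  unfold fA
  rw [← kern_smul K.hcf C.a (C.xp i') (C.xp (i - i') • C.a) C.a, ← mul_smul, ← C.xp_add,
    add_sub_cancel]

theorem kern_bb (i i' : ZMod p) : kern ψ C.a (C.xp i • C.b) (C.xp i' • C.b) = K.fA' (i - i') := by
  unfold fA'
  rw [← kern_smul K.hcf C.a (C.xp i') (C.xp (i - i') • C.b) C.b, ← mul_smul, ← C.xp_add,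
    add_sub_cancel]

theorem kern_ba (i i' : ZMod p) : kern ψ C.a (C.xp i • C.b) (C.xp i' • C.a) = K.fB (i - i') := by
  unfold fB
  rw [← kern_smul K.hcf C.a (C.xp i') (C.xp (i - i') • C.b) C.a, ← mul_smul, ← C.xp_add,
    add_sub_cancel]

theorem kern_ab (i i' : ZMod p) : kern ψ C.a (C.xp i • C.a) (C.xp i' • C.b) = K.fB (i' - i) := by
  rw [kern_symm K.hinv, K.kern_ba]

theorem fA_zero : K.fA 0 = 1 := by
  unfold fA
  rw [C.xp_zero, one_smul]
  exact K.hmult

theorem fA'_zero : K.fA' 0 = 1 := by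
  unfold fA'
  rw [C.xp_zero, one_smul]
  unfold Cfg.b
  rw [kern_smul K.hcf]
  exact K.hmult

theorem fA_neg (m : ZMod p) : K.fA (-m) = K.fA m := by
  have h1 := K.kern_aa 0 m
  have h2 := K.kern_aa m 0
  rw [C.xp_zero, one_smul] at h1 h2
  rw [zero_sub] at h1
  rw [sub_zero] at h2
  rw [← h1, ← h2, kern_symm K.hinv]

theorem fA'_neg (m : ZMod p) : K.fA' (-m) = K.fA' m := by
  have h1 := K.kern_bb 0 m
  have h2 := K.kern_bb m 0
  rw [C.xp_zero, one_smul] at h1 h2
  rw [zero_sub] at h1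
  rw [sub_zero] at h2
  rw [← h1, ← h2, kern_symm K.hinv]

/-- the kernel values on the two orbits are opposite -/
theorem fA_add_fA' [MulAction.IsPretransitive G Ω] (hΩ : Fintype.card Ω = 2 * p) (m : ZMod p)
    (hm : m ≠ 0) : K.fA m + K.fA' m = 0 := by
  have hp0 : (p : ℂ) ≠ 0 := by exact_mod_cast hpf.out.ne_zero
  have h1 := sum_kern_smul ψ C.a (C.xp m)
  rw [K.hvan m hm, mul_zero, C.sum_eq hΩ] at h1
  have h2 : ∀ i : ZMod p, kern ψ C.a (C.xp m • C.xp i • C.a) (C.xp i • C.a) = K.fA m := by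
    intro i
    rw [← mul_smul, ← C.xp_add, K.kern_aa, add_sub_cancel_right]
  have h3 : ∀ i : ZMod p, kern ψ C.a (C.xp m • C.xp i • C.b) (C.xp i • C.b) = K.fA' m := by
    intro i
    rw [← mul_smul, ← C.xp_add, K.kern_bb, add_sub_cancel_right]
  simp only [h2, h3, Finset.sum_const, Finset.card_univ, ZMod.card, nsmul_eq_mul] at h1
  have h4 : (p : ℂ) * (K.fA m + K.fA' m) = 0 := by
    rw [mul_add]; exact h1
  rcases mul_eq_zero.mp h4 with h | h
  · exact absurd h hp0
  · exact h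

/-- vanishing Hecke sums at an arbitrary pair of points -/
theorem sum_zero_set [MulAction.IsPretransitive G Ω] (β₁ β₂ : Ω) :
    ∑ γ : Ω, (if γ ≠ β₁ ∧ kern ψ C.a γ β₁ = 0 then kern ψ C.a γ β₂ else 0) = 0 := by
  classical
  -- first at the base point
  have hbase : ∀ β : Ω, ∑ γ : Ω, (if γ ≠ C.a ∧ kern ψ C.a γ C.a = 0 then kern ψ C.a γ β else 0)
      = 0 := by
    intro β
    rw [← Finset.sum_filter]
    apply sum_kern_eq_zero K.hchar C.a K.hmult
    · intro g hg z hz
      rw [Finset.mem_filter] at hz ⊢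
      refine ⟨Finset.mem_univ _, ?_, ?_⟩
      · intro h
        apply hz.2.1
        rw [← hg] at h
        exact smul_left_cancel g h
      · have := kern_smul K.hcf C.a g z C.a
        rw [hg] at this
        rw [this]
        exact hz.2.2
    · apply Finset.sum_eq_zero
      intro γ hγ
      exact (Finset.mem_filter.mp hγ).2.2
  obtain ⟨u, rfl⟩ := MulAction.exists_smul_eq G C.a β₁
  refine Eq.trans ?_ (hbase (u⁻¹ • β₂))
  symm
  apply Fintype.sum_equiv (MulAction.toPerm u)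
  intro γ
  simp only [MulAction.toPerm_apply]
  have e1 : kern ψ C.a (u • γ) (u • C.a) = kern ψ C.a γ C.a := kern_smul K.hcf C.a u γ C.a
  have e2 : kern ψ C.a (u • γ) β₂ = kern ψ C.a γ (u⁻¹ • β₂) := by
    rw [← kern_smul K.hcf C.a u γ (u⁻¹ • β₂), smul_inv_smul]
  have e3 : u • γ ≠ u • C.a ↔ γ ≠ C.a := by
    rw [Ne, Ne, smul_left_cancel_iff]
  simp only [e1, e2, e3]

end KData

end Cfsg.Agent.Lib.Helper7.W2p
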