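import Mathlib
import Cfsg.Prelude.Def_Characters
import Cfsg.Agent.Lib.Helper7.W2pH

set_option autoImplicit false
set_option linter.style.haveILetI false
set_option linter.unusedSectionVars false
set_option linter.unusedVariables false

/-!
# Wielandt's theorem on primitive groups of degree `2p`: the dichotomy (helper7, for S0720)

Either the kernel vanishes at no point `x ^ m • a` (`m ≠ 0`) or at all of them.
-/

namespace Cfsg.Agent.Lib.Helper7.W2p

open Cfsg MulAction Cfsg.Agent.Lib.helper3.Irr Cfsg.Agent.Lib.helper3.IndFun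
open Cfsg.Agent.Lib.helper3.GalPow Cfsg.Agent.Lib.helper3.CharBasic
open Cfsg.Agent.Lib.helper3.PermChar Cfsg.Agent.Lib.Helper4.Hecke
open scoped ComplexConjugate

variable {G : Type*} [Group G] [Fintype G] {Ω : Type*} [Fintype Ω] [DecidableEq Ω] [MulAction G Ω]
  {p : ℕ} [hpf : Fact p.Prime]

namespace KData

variable {C : Cfg G Ω p} {ψ : G → ℂ} (K : KData C ψ)

include K

theorem xp_smul_a_ne_a_iff (i : ZMod p) : C.xp i • C.a ≠ C.a ↔ i ≠ 0 := by
  constructor
  · intro h hi
    rw [hi, C.xp_zero, one_smul] at h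
    exact h rfl
  · intro hi
    exact C.xp_smul_ne i hi C.a

theorem xp_smul_b_ne_b_iff (i : ZMod p) : C.xp i • C.b ≠ C.b ↔ i ≠ 0 := by
  constructor
  · intro h hi
    rw [hi, C.xp_zero, one_smul] at h
    exact h rfl
  · intro hi
    exact C.xp_smul_ne i hi C.b

/-- the first relation -/
theorem rel_one [MulAction.IsPretransitive G Ω] (hΩ : Fintype.card Ω = 2 * p) (k : ZMod p) :
    ∑ i : ZMod p, (if i ≠ 0 ∧ K.fA i = 0 then K.fA (i - k) else 0)
      + ∑ i : ZMod p, (if K.fB i = 0 then K.fB (i - k) else 0) = 0 := by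
  have h := K.sum_zero_set C.a (C.xp k • C.a)
  rw [C.sum_eq hΩ] at h
  refine Eq.trans ?_ h
  congr 1
  · apply Finset.sum_congr rfl
    intro i _
    have e1 : kern ψ C.a (C.xp i • C.a) C.a = K.fA i := rfl
    simp only [K.xp_smul_a_ne_a_iff, e1, K.kern_aa]
  · apply Finset.sum_congr rfl
    intro i _
    have e1 : kern ψ C.a (C.xp i • C.b) C.a = K.fB i := rfl
    have e2 : C.xp i • C.b ≠ C.a := C.xp_smul_b_ne_a i
    simp only [e1, K.kern_ba, e2, ne_eq, not_false_eq_true, true_and]

/-- the second relation -/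
theorem rel_two [MulAction.IsPretransitive G Ω] (hΩ : Fintype.card Ω = 2 * p) (k : ZMod p) :
    ∑ i : ZMod p, (if K.fB (-i) = 0 then K.fB (k - i) else 0)
      + ∑ i : ZMod p, (if i ≠ 0 ∧ K.fA' i = 0 then K.fA' (i - k) else 0) = 0 := by
  have h := K.sum_zero_set C.b (C.xp k • C.b)
  rw [C.sum_eq hΩ] at h
  refine Eq.trans ?_ h
  congr 1
  · apply Finset.sum_congr rfl
    intro i _
    have e1 : kern ψ C.a (C.xp i • C.a) C.b = K.fB (-i) := by
      have := K.kern_ab i 0
      rw [C.xp_zero, one_smul, zero_sub] at this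
      exact this
    have e2 : C.xp i • C.a ≠ C.b := C.xp_smul_a_ne_b i
    simp only [e1, K.kern_ab, e2, ne_eq, not_false_eq_true, true_and]
  · apply Finset.sum_congr rfl
    intro i _
    have e1 : kern ψ C.a (C.xp i • C.b) C.b = K.fA' i := rfl
    simp only [K.xp_smul_b_ne_b_iff, e1, K.kern_bb]

/-- the correlation identity -/
theorem correlation [MulAction.IsPretransitive G Ω] (hΩ : Fintype.card Ω = 2 * p) (k : ZMod p) :
    ∑ i : ZMod p, (if i ≠ 0 ∧ K.fA i = 0 then (if i + k = 0 then 0 else K.fA (i + k)) else 0)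
      = 0 := by
  have h1 := K.rel_one hΩ (-k)
  have h2 := K.rel_two hΩ k
  -- the cross terms agree
  have hT : ∑ i : ZMod p, (if K.fB (-i) = 0 then K.fB (k - i) else 0)
      = ∑ i : ZMod p, (if K.fB i = 0 then K.fB (i - -k) else 0) := by
    rw [← Equiv.sum_comp (Equiv.neg (ZMod p))]
    apply Finset.sum_congr rfl
    intro i _
    simp only [Equiv.neg_apply, neg_neg]
    have : k - -i = i - -k := by ring
    rw [this]
  rw [hT] at h2
  have h3 : ∑ i : ZMod p, (if i ≠ 0 ∧ K.fA i = 0 then K.fA (i - -k) else 0)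
      = ∑ i : ZMod p, (if i ≠ 0 ∧ K.fA' i = 0 then K.fA' (i - k) else 0) := by
    linear_combination h1 - h2
  -- rewrite the right-hand side
  have h4 : ∑ i : ZMod p, (if i ≠ 0 ∧ K.fA' i = 0 then K.fA' (i - k) else 0)
      = ∑ i : ZMod p, (if i ≠ 0 ∧ K.fA i = 0 then K.fA' (i + k) else 0) := by
    rw [← Equiv.sum_comp (Equiv.neg (ZMod p))]
    apply Finset.sum_congr rfl
    intro i _
    simp only [Equiv.neg_apply]
    have e1 : -i ≠ 0 ↔ i ≠ 0 := neg_ne_zero
    have e2 : -i - k = -(i + k) := by ring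
    by_cases hi : i = 0
    · subst hi
      simp
    · have e3 : K.fA' i = 0 ↔ K.fA i = 0 := by
        have := K.fA_add_fA' hΩ i hi
        constructor
        · intro h
          rw [h, add_zero] at this
          exact this
        · intro h
          rw [h, zero_add] at this
          exact this
      simp only [e1, e2, K.fA'_neg, e3]
  rw [h4] at h3
  have h5 : ∑ i : ZMod p, ((if i ≠ 0 ∧ K.fA i = 0 then K.fA (i - -k) else 0)
      - (if i ≠ 0 ∧ K.fA i = 0 then K.fA' (i + k) else 0)) = 0 := by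
    rw [Finset.sum_sub_distrib, h3, sub_self]
  have h6 : ∀ i : ZMod p, ((if i ≠ 0 ∧ K.fA i = 0 then K.fA (i - -k) else 0)
      - (if i ≠ 0 ∧ K.fA i = 0 then K.fA' (i + k) else 0))
      = 2 * (if i ≠ 0 ∧ K.fA i = 0 then (if i + k = 0 then 0 else K.fA (i + k)) else 0) := by
    intro i
    rw [sub_neg_eq_add]
    by_cases hc : i ≠ 0 ∧ K.fA i = 0
    · rw [if_pos hc, if_pos hc, if_pos hc]
      by_cases hik : i + k = 0
      · rw [if_pos hik, hik, K.fA_zero, K.fA'_zero]
        ring
      · rw [if_neg hik]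
        have := K.fA_add_fA' hΩ (i + k) hik
        linear_combination (-1 : ℂ) * this
    · rw [if_neg hc, if_neg hc, if_neg hc]
      ring
  rw [Finset.sum_congr rfl (fun i _ => h6 i), ← Finset.mul_sum] at h5
  rcases mul_eq_zero.mp h5 with h | h
  · norm_num at h
  · exact h

/-- **The dichotomy.** -/
theorem dichotomy [MulAction.IsPretransitive G Ω] (hΩ : Fintype.card Ω = 2 * p) :
    (∀ m : ZMod p, m ≠ 0 → K.fA m ≠ 0) ∨ (∀ m : ZMod p, m ≠ 0 → K.fA m = 0) := by
  classical
  by_cases h : ∃ m : ZMod p, m ≠ 0 ∧ K.fA m = 0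
  · right
    obtain ⟨m₀, hm₀, hm₀'⟩ := h
    set W : Finset (ZMod p) := Finset.univ.filter (fun i => i ≠ 0 ∧ K.fA i = 0) with hW
    set A₀ : ZMod p → ℂ := fun m => if m = 0 then 0 else K.fA m with hA₀
    have hA : A₀ = 0 := by
      apply eq_zero_of_correlation W ⟨m₀, by rw [hW, Finset.mem_filter]; exact ⟨Finset.mem_univ _, hm₀, hm₀'⟩⟩
      · rw [hW, Finset.mem_filter]
        intro h
        exact h.2.1 rfl
      · intro k
        rw [hW, Finset.sum_filter]
        exact K.correlation hΩ k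
    intro m hm
    have := congrFun hA m
    rw [hA₀] at this
    simp only [if_neg hm, Pi.zero_apply] at this
    exact this
  · left
    intro m hm hfm
    exact h ⟨m, hm, hfm⟩

end KData

end Cfsg.Agent.Lib.Helper7.W2p
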