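import Mathlib
import Cfsg.Prelude.Def_Characters
import Cfsg.Agent.Lib.Helper7.W2pD

set_option autoImplicit false
set_option linter.style.haveILetI false
set_option linter.unusedSectionVars false
set_option linter.unusedVariables false

/-!
# Wielandt's theorem on primitive groups of degree `2p`: transporter counts (helper7, for S0720)
-/

namespace Cfsg.Agent.Lib.Helper7.W2p

open Cfsg MulAction

/-- the number of elements of the stabilizer of `a` carrying `γ` to `γ'` -/
noncomputable def tr (G : Type*) [Group G] [Fintype G] {Ω : Type*} [MulAction G Ω] [DecidableEq Ω]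
    (a γ γ' : Ω) : ℕ :=
  (Finset.univ.filter (fun k : G => k • a = a ∧ k • γ = γ')).card

variable {G : Type*} [Group G] [Fintype G] {Ω : Type*} [DecidableEq Ω] [MulAction G Ω]

theorem tr_comm (a γ γ' : Ω) : tr G a γ γ' = tr G a γ' γ := by
  unfold tr
  apply Finset.card_bij (fun k _ => k⁻¹)
  · intro k hk
    rw [Finset.mem_filter] at hk ⊢
    refine ⟨Finset.mem_univ _, ?_, ?_⟩
    · rw [inv_smul_eq_iff, hk.2.1]
    · rw [inv_smul_eq_iff, hk.2.2]
  · intro k _ k' _ h
    exact inv_injective h
  · intro k hk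
    rw [Finset.mem_filter] at hk
    refine ⟨k⁻¹, ?_, inv_inv k⟩
    rw [Finset.mem_filter]
    refine ⟨Finset.mem_univ _, ?_, ?_⟩
    · rw [inv_smul_eq_iff, hk.2.1]
    · rw [inv_smul_eq_iff, hk.2.2]

theorem tr_self_pos (a γ : Ω) : 0 < tr G a γ γ := by
  unfold tr
  apply Finset.card_pos.mpr
  exact ⟨1, by simp⟩

end Cfsg.Agent.Lib.Helper7.W2p
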