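import Mathlib
import Cfsg.Prelude.Def_Characters
import Cfsg.Agent.Lib.Helper7.W2pI
import Cfsg.Agent.Lib.Helper7.W2pJ0

set_option autoImplicit false
set_option linter.style.haveILetI false
set_option linter.unusedSectionVars false
set_option linter.unusedVariables false

/-!
# Wielandt's theorem on primitive groups of degree `2p`: suborbits (helper7, for S0720)
-/

namespace Cfsg.Agent.Lib.Helper7.W2p

open Cfsg MulAction Cfsg.Agent.Lib.helper3.Irr Cfsg.Agent.Lib.helper3.IndFun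
open Cfsg.Agent.Lib.helper3.GalPow Cfsg.Agent.Lib.helper3.CharBasic
open Cfsg.Agent.Lib.helper3.PermChar Cfsg.Agent.Lib.Helper4.Hecke
open scoped ComplexConjugate

/-- the suborbit of `γ` with respect to the stabilizer of `a` -/
noncomputable def orb (G : Type*) [Group G] [Fintype G] {Ω : Type*} [Fintype Ω] [MulAction G Ω]
    [DecidableEq Ω] (a γ : Ω) : Finset Ω :=
  Finset.univ.filter (fun δ => ∃ k : G, k • a = a ∧ k • γ = δ)

variable {G : Type*} [Group G] [Fintype G] {Ω : Type*} [Fintype Ω] [DecidableEq Ω] [MulAction G Ω]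

theorem mem_orb {a γ δ : Ω} : δ ∈ orb G a γ ↔ ∃ k : G, k • a = a ∧ k • γ = δ := by
  unfold orb
  rw [Finset.mem_filter]
  exact ⟨fun h => h.2, fun h => ⟨Finset.mem_univ _, h⟩⟩

theorem self_mem_orb (a γ : Ω) : γ ∈ orb G a γ :=
  mem_orb.mpr ⟨1, one_smul _ _, one_smul _ _⟩

theorem smul_mem_orb {a γ δ : Ω} {k : G} (hk : k • a = a) (hδ : δ ∈ orb G a γ) :
    k • δ ∈ orb G a γ := by
  obtain ⟨k', hk', rfl⟩ := mem_orb.mp hδ
  exact mem_orb.mpr ⟨k * k', by rw [mul_smul, hk', hk], mul_smul _ _ _⟩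

theorem mem_orb_symm {a γ δ : Ω} (hδ : δ ∈ orb G a γ) : γ ∈ orb G a δ := by
  obtain ⟨k, hk, rfl⟩ := mem_orb.mp hδ
  exact mem_orb.mpr ⟨k⁻¹, by rw [inv_smul_eq_iff, hk], inv_smul_smul _ _⟩

theorem orb_subset_of_mem {a γ δ : Ω} (hδ : δ ∈ orb G a γ) : orb G a δ ⊆ orb G a γ := by
  intro ε hε
  obtain ⟨k, hk, rfl⟩ := mem_orb.mp hε
  exact smul_mem_orb hk hδ

theorem orb_eq_of_mem {a γ δ : Ω} (hδ : δ ∈ orb G a γ) : orb G a δ = orb G a γ :=
  Finset.Subset.antisymm (orb_subset_of_mem hδ) (orb_subset_of_mem (mem_orb_symm hδ))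

theorem orb_base (a : Ω) : orb G a a = {a} := by
  ext δ
  rw [mem_orb, Finset.mem_singleton]
  constructor
  · rintro ⟨k, hk, rfl⟩
    exact hk
  · rintro rfl
    exact ⟨1, one_smul _ _, one_smul _ _⟩

theorem base_not_mem_orb {a γ : Ω} (hγ : γ ≠ a) : a ∉ orb G a γ := by
  intro h
  have := mem_orb_symm h
  rw [orb_base, Finset.mem_singleton] at this
  exact hγ this

theorem card_orb_pos (a γ : Ω) : 0 < (orb G a γ).card :=
  Finset.card_pos.mpr ⟨γ, self_mem_orb a γ⟩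

theorem tr_eq_of_mem {a γ δ : Ω} (hδ : δ ∈ orb G a γ) : tr G a γ δ = tr G a γ γ := by
  obtain ⟨k₀, hk₀, rfl⟩ := mem_orb.mp hδ
  unfold tr
  apply Finset.card_bij (fun k _ => k₀⁻¹ * k)
  · intro k hk
    rw [Finset.mem_filter] at hk ⊢
    refine ⟨Finset.mem_univ _, ?_, ?_⟩
    · rw [mul_smul, hk.2.1, inv_smul_eq_iff, hk₀]
    · rw [mul_smul, hk.2.2, inv_smul_smul]
  · intro k _ k' _ h
    exact mul_left_cancel h
  · intro k hk
    rw [Finset.mem_filter] at hk
    refine ⟨k₀ * k, ?_, by group⟩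
    rw [Finset.mem_filter]
    refine ⟨Finset.mem_univ _, ?_, ?_⟩
    · rw [mul_smul, hk.2.1, hk₀]
    · rw [mul_smul, hk.2.2]

theorem tr_eq_zero_of_not_mem {a γ δ : Ω} (hδ : δ ∉ orb G a γ) : tr G a γ δ = 0 := by
  unfold tr
  rw [Finset.card_eq_zero, Finset.filter_eq_empty_iff]
  intro k _ hk
  exact hδ (mem_orb.mpr ⟨k, hk.1, hk.2⟩)

theorem card_stab_eq (a : Ω) :
    Nat.card (MulAction.stabilizer G a) = (Finset.univ.filter (fun k : G => k • a = a)).card := by
  rw [Nat.card_eq_fintype_card, Fintype.card_subtype]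
  rfl

theorem sum_tr (a γ : Ω) : ∑ δ : Ω, tr G a γ δ = Nat.card (MulAction.stabilizer G a) := by
  classical
  rw [card_stab_eq]
  unfold tr
  have h1 : Finset.univ.filter (fun k : G => k • a = a)
      = Finset.univ.biUnion (fun δ : Ω => Finset.univ.filter (fun k : G => k • a = a ∧ k • γ = δ)) := by
    ext k
    simp
  rw [h1, Finset.card_biUnion]
  intro δ _ δ' _ hne
  rw [Function.onFun, Finset.disjoint_left]
  intro k hk hk'
  rw [Finset.mem_filter] at hk hk'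
  exact hne (hk.2.2.symm.trans hk'.2.2)

/-- orbit–stabilizer for suborbits -/
theorem card_orb_mul_tr (a γ : Ω) :
    (orb G a γ).card * tr G a γ γ = Nat.card (MulAction.stabilizer G a) := by
  rw [← sum_tr a γ, ← Finset.sum_subset (Finset.subset_univ (orb G a γ))]
  · rw [Finset.sum_congr rfl (fun δ hδ => tr_eq_of_mem hδ), Finset.sum_const, smul_eq_mul]
  · intro δ _ hδ
    exact tr_eq_zero_of_not_mem hδ

theorem tr_self_eq_of_mem {a γ δ : Ω} (hδ : δ ∈ orb G a γ) : tr G a δ δ = tr G a γ γ := by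
  have h1 := card_orb_mul_tr (G := G) a γ
  have h2 := card_orb_mul_tr (G := G) a δ
  rw [orb_eq_of_mem hδ, ← h1] at h2
  exact Nat.eq_of_mul_eq_mul_left (card_orb_pos a γ) h2

/-- the kernel is constant on suborbits -/
theorem kern_orb {ψ : G → ℂ} (hψ : IsClassFunction G ψ) {a γ δ : Ω} (hδ : δ ∈ orb G a γ) :
    kern ψ a δ a = kern ψ a γ a := by
  obtain ⟨k, hk, rfl⟩ := mem_orb.mp hδ
  have := kern_smul hψ a k γ a
  rwa [hk] at this

/-- the Hecke eigenvalue as a sum of kernel values -/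
theorem thetaOf_eq_sum_kern (ψ : G → ℂ) (a : Ω) (Δ : Finset Ω) :
    thetaOf a Δ ψ = ∑ δ ∈ Δ, kern ψ a δ a := by
  unfold thetaOf kern
  rw [← Finset.mul_sum, Finset.sum_comm]
  congr 1
  apply Finset.sum_congr rfl
  intro g _
  rw [Finset.sum_ite_eq]

end Cfsg.Agent.Lib.Helper7.W2p
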