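import Mathlib
import Cfsg.Prelude.Def_Characters
import Cfsg.Agent.Lib.Helper7.W2pJ

set_option autoImplicit false
set_option linter.style.haveILetI false
set_option linter.unusedSectionVars false
set_option linter.unusedVariables false

/-!
# Wielandt's theorem on primitive groups of degree `2p`: multiplicities and the class functions of
suborbits (helper7, for S0720)
-/

namespace Cfsg.Agent.Lib.Helper7.W2p

open Cfsg MulAction Cfsg.Agent.Lib.helper3.Irr Cfsg.Agent.Lib.helper3.IndFun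
open Cfsg.Agent.Lib.helper3.GalPow Cfsg.Agent.Lib.helper3.CharBasic
open Cfsg.Agent.Lib.helper3.PermChar Cfsg.Agent.Lib.Helper4.Hecke
open scoped ComplexConjugate

variable {G : Type*} [Group G] [Fintype G] {Ω : Type*} [Fintype Ω] [DecidableEq Ω] [MulAction G Ω]
  {p : ℕ} [hpf : Fact p.Prime]

namespace Dec

variable {C : Cfg G Ω p} {ψ : IrrCharacter G} {X : Finset (IrrCharacter G)} (D : Dec C ψ X)

include D

open Classical in
/-- the set of constituents -/
noncomputable def S (D : Dec C ψ X) : Finset (IrrCharacter G) := insert (trivI G) (insert ψ X)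

open Classical in
theorem mem_S (χ : IrrCharacter G) : χ ∈ D.S ↔ χ = trivI G ∨ χ = ψ ∨ χ ∈ X := by
  unfold S
  rw [Finset.mem_insert, Finset.mem_insert]

open Classical in
theorem card_S : D.S.card = X.card + 2 := by
  unfold S
  rw [Finset.card_insert_of_notMem, Finset.card_insert_of_notMem D.hXψ]
  rw [Finset.mem_insert]
  rintro (h | h)
  · exact D.hψtriv h.symm
  · exact D.hXtriv h

open Classical in
theorem pc_eq : pc G Ω = ∑ χ ∈ D.S, (χ : G → ℂ) := by
  funext g
  unfold S
  rw [Finset.sum_insert, Finset.sum_insert D.hXψ, D.hpc g]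
  · simp only [Pi.add_apply, Finset.sum_apply]
    rw [trivI_apply, add_assoc]
  · rw [Finset.mem_insert]
    rintro (h | h)
    · exact D.hψtriv h.symm
    · exact D.hXtriv h

open Classical in
theorem classInner_pc (χ : IrrCharacter G) :
    classInner (pc G Ω) (χ : G → ℂ) = if χ ∈ D.S then 1 else 0 := by
  rw [D.pc_eq, classInner_sum_left]
  have h : ∀ χ' ∈ D.S, classInner (χ' : G → ℂ) (χ : G → ℂ) = if χ' = χ then 1 else 0 := by
    intro χ' _
    rw [irr_classInner_eq χ'.2 χ.2]
    by_cases h : χ' = χ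
    · rw [if_pos h, if_pos (congrArg Subtype.val h)]
    · rw [if_neg h, if_neg (fun h' => h (Subtype.ext h'))]
  rw [Finset.sum_congr rfl h, Finset.sum_ite_eq']

open Classical in
theorem classInner_pc_pc : classInner (pc G Ω) (pc G Ω) = (X.card : ℂ) + 2 := by
  conv_lhs => rw [D.pc_eq]
  rw [classInner_sum_right]
  rw [← D.pc_eq]
  rw [Finset.sum_congr rfl (fun χ hχ => by rw [D.classInner_pc χ, if_pos hχ]), Finset.sum_const,
    D.card_S]
  simp

theorem classInner_pc_psi : classInner (pc G Ω) (ψ : G → ℂ) = 1 := by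
  classical
  rw [D.classInner_pc, if_pos]
  rw [D.mem_S]
  exact Or.inr (Or.inl rfl)

end Dec

namespace Cfg

variable (C : Cfg G Ω p)

/-- the value of the class function of an invariant set at a power of `x` -/
theorem classF_xp [MulAction.IsPretransitive G Ω] (hΩ : Fintype.card Ω = 2 * p) (Δ : Finset Ω)
    (hΔ : ∀ g : G, g • C.a = C.a → ∀ z ∈ Δ, g • z ∈ Δ) (m : ZMod p) :
    classF C.a Δ (C.xp m) = (p : ℂ) * ((if C.xp m • C.a ∈ Δ then 1 else 0)
      + (if C.mirror.xp m • C.a ∈ Δ then 1 else 0)) := by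
  classical
  have hH := card_stab_ne_zero (G := G) C.a
  set F : G → ℂ := fun t => if (t⁻¹ * C.xp m * t) • C.a ∈ Δ then 1 else 0 with hF
  set f : Ω → ℂ := fun β => if ∃ t : G, t • C.a = β ∧ (t⁻¹ * C.xp m * t) • C.a ∈ Δ then 1 else 0
    with hf
  have hFf : ∀ t : G, F t = f (t • C.a) := by
    intro t
    rw [hF, hf]
    simp only
    by_cases h : (t⁻¹ * C.xp m * t) • C.a ∈ Δ
    · rw [if_pos h, if_pos ⟨t, rfl, h⟩]
    · rw [if_neg h, if_neg]
      rintro ⟨t', ht', h'⟩
      apply h
      have hk : (t⁻¹ * t') • C.a = C.a := by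
        rw [mul_smul, ht', inv_smul_smul]
      have := hΔ _ hk _ h'
      have e : (t⁻¹ * t') • (t'⁻¹ * C.xp m * t') • C.a = (t⁻¹ * C.xp m * t) • C.a := by
        have e3 : t⁻¹ * t' * (t'⁻¹ * C.xp m * t') = t⁻¹ * C.xp m * t' := by group
        rw [← mul_smul, e3, mul_smul _ t' C.a, ht', ← mul_smul]
      rwa [e] at this
  have h1 : ∀ i : ZMod p, f (C.xp i • C.a) = if C.xp m • C.a ∈ Δ then 1 else 0 := by
    intro i
    rw [← hFf, hF]
    simp only
    have e : (C.xp i)⁻¹ * C.xp m * C.xp i = C.xp m := by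
      rw [mul_assoc, C.xp_comm m i, ← mul_assoc, inv_mul_cancel, one_mul]
    rw [e]
  have h2 : ∀ i : ZMod p, f (C.xp i • C.b) = if C.mirror.xp m • C.a ∈ Δ then 1 else 0 := by
    intro i
    have h3 := hFf (C.xp i * C.g₀)
    rw [mul_smul] at h3
    unfold Cfg.b
    rw [← h3, hF]
    simp only
    have e : (C.xp i * C.g₀)⁻¹ * C.xp m * (C.xp i * C.g₀) = C.mirror.xp m := by
      rw [C.mirror_xp, mul_inv_rev]
      have e2 : (C.xp i)⁻¹ * C.xp m * C.xp i = C.xp m := by
        rw [mul_assoc, C.xp_comm m i, ← mul_assoc, inv_mul_cancel, one_mul]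
      calc C.g₀⁻¹ * (C.xp i)⁻¹ * C.xp m * (C.xp i * C.g₀)
          = C.g₀⁻¹ * ((C.xp i)⁻¹ * C.xp m * C.xp i) * C.g₀ := by group
        _ = C.g₀⁻¹ * C.xp m * C.g₀ := by rw [e2]
    rw [e]
  unfold classF
  have h4 : ∀ t : G, (if (t⁻¹ * C.xp m * t) • C.a ∈ Δ then (1 : ℂ) else 0) = f (t • C.a) := hFf
  rw [Finset.sum_congr rfl (fun t _ => h4 t), sum_smul_eq Ω C.a f, C.sum_eq hΩ,
    Finset.sum_congr rfl (fun i _ => h1 i), Finset.sum_congr rfl (fun i _ => h2 i)]
  simp only [Finset.sum_const, Finset.card_univ, ZMod.card, nsmul_eq_mul]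
  field_simp

end Cfg

namespace Dec

variable {C : Cfg G Ω p} {ψ : IrrCharacter G} {X : Finset (IrrCharacter G)} (D : Dec C ψ X)

include D

theorem sum_psi : ∑ i : ZMod p, (ψ : G → ℂ) (C.xp i) = (p : ℂ) := by
  rw [Finset.sum_eq_single (0 : ZMod p)]
  · rw [C.xp_zero, D.hψ1]
  · intro i _ hi
    exact D.hψ0 i hi
  · intro h
    exact absurd (Finset.mem_univ _) h

/-- the sum of the class function of an invariant set over the powers of `x` -/
theorem sum_classF [MulAction.IsPretransitive G Ω] (Δ : Finset Ω)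
    (hΔ : ∀ g : G, g • C.a = C.a → ∀ z ∈ Δ, g • z ∈ Δ) :
    ∑ i : ZMod p, classF C.a Δ (C.xp i)
      = (p : ℂ) * ((Δ.card : ℂ) + conj (thetaOf C.a Δ (ψ : G → ℂ))) := by
  classical
  have h0 := classFunction_eq_sum (classF (G := G) C.a Δ) (isClassFunction_classF C.a Δ)
  have h1 : ∀ g : G, classF C.a Δ g
      = ∑ χ : IrrCharacter G, conj (thetaOf C.a Δ (χ : G → ℂ)) * (χ : G → ℂ) g := by
    intro g
    conv_lhs => rw [h0]
    simp only [Finset.sum_apply, Pi.smul_apply, smul_eq_mul]
    apply Finset.sum_congr rfl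
    intro χ _
    rw [classInner_classF C.a Δ _ (isClassFunction_of_isCharacter (isCharacter_of_isIrrCharacter χ.2))]
  simp only [h1]
  rw [Finset.sum_comm]
  simp only [← Finset.mul_sum]
  rw [← Finset.sum_subset (Finset.subset_univ D.S)]
  · unfold S
    rw [Finset.sum_insert, Finset.sum_insert D.hXψ]
    · have e1 : ∑ χ ∈ X, conj (thetaOf C.a Δ (χ : G → ℂ)) * ∑ i : ZMod p, (χ : G → ℂ) (C.xp i) = 0 := by
        apply Finset.sum_eq_zero
        intro χ hχ
        rw [D.hXsum χ hχ, mul_zero]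
      have e2 : thetaOf C.a Δ ((trivI G : IrrCharacter G) : G → ℂ) = (Δ.card : ℂ) :=
        thetaOf_one C.a Δ
      have e3 : ∑ i : ZMod p, ((trivI G : IrrCharacter G) : G → ℂ) (C.xp i) = (p : ℂ) := by
        simp only [trivI_apply, Finset.sum_const, Finset.card_univ, ZMod.card, nsmul_eq_mul,
          mul_one]
      rw [e1, e2, e3, D.sum_psi, Complex.conj_natCast]
      ring
    · rw [Finset.mem_insert]
      rintro (h | h)
      · exact D.hψtriv h.symm
      · exact D.hXtriv h
  · intro χ _ hχ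
    have h2 : classInner (fun g : G => (Nat.card (MulAction.fixedBy Ω g) : ℂ)) (χ : G → ℂ) = 0 := by
      have := D.classInner_pc χ
      rw [if_neg hχ] at this
      exact this
    have h3 := (theta_of_character C.a Δ hΔ (χ : G → ℂ) (isCharacter_of_isIrrCharacter χ.2)).2.1 h2
    rw [h3.1, map_zero, zero_mul]

end Dec

end Cfsg.Agent.Lib.Helper7.W2p
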