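import Mathlib
import Cfsg.Prelude.Def_Characters
import Cfsg.Agent.Lib.Helper7.W2pK

set_option autoImplicit false
set_option linter.style.haveILetI false
set_option linter.unusedSectionVars false
set_option linter.unusedVariables false

/-!
# Wielandt's theorem on primitive groups of degree `2p`: marked points and the counting relation
(helper7, for S0720)
-/

namespace Cfsg.Agent.Lib.Helper7.W2p

open Cfsg MulAction Cfsg.Agent.Lib.helper3.Irr Cfsg.Agent.Lib.helper3.IndFun
open Cfsg.Agent.Lib.helper3.GalPow Cfsg.Agent.Lib.helper3.CharBasic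
open Cfsg.Agent.Lib.helper3.PermChar Cfsg.Agent.Lib.Helper4.Hecke
open scoped ComplexConjugate

variable {G : Type*} [Group G] [Fintype G] {Ω : Type*} [Fintype Ω] [DecidableEq Ω] [MulAction G Ω]
  {p : ℕ} [hpf : Fact p.Prime]

theorem conj_kern {ψ : G → ℂ} (hreal : ∀ g : G, conj (ψ g) = ψ g) (a β' β : Ω) :
    conj (kern ψ a β' β) = kern ψ a β' β := by
  unfold kern
  rw [map_mul, map_inv₀, Complex.conj_natCast, map_sum]
  congr 1
  apply Finset.sum_congr rfl
  intro g _
  split_ifs
  · exact hreal g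
  · exact map_zero _

namespace Cfg

variable (C : Cfg G Ω p)

/-- the marked points `x ^ m • a` and `x' ^ m • a` -/
def mpt (ε : Bool) (m : ZMod p) : Ω := (bif ε then C.mirror.xp m else C.xp m) • C.a

theorem mpt_false (m : ZMod p) : C.mpt false m = C.xp m • C.a := rfl

theorem mpt_true (m : ZMod p) : C.mpt true m = C.mirror.xp m • C.a := rfl

theorem mpt_zero (ε : Bool) : C.mpt ε 0 = C.a := by
  cases ε
  · rw [mpt_false, xp_zero, one_smul]
  · rw [mpt_true, xp_zero, one_smul]

theorem mpt_ne (ε : Bool) (m : ZMod p) (hm : m ≠ 0) : C.mpt ε m ≠ C.a := by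
  cases ε
  · exact C.xp_smul_ne m hm C.a
  · exact C.mirror.xp_smul_ne m hm C.a

/-- the number of marked points in the suborbit of `γ` -/
noncomputable def dn (γ : Ω) : ℕ :=
  (Finset.univ.filter (fun q : Bool × ZMod p => C.mpt q.1 q.2 ∈ orb G C.a γ)).card

/-- the size of the suborbit of `γ` -/
noncomputable def nn (γ : Ω) : ℕ := (orb G C.a γ).card

theorem nn_pos (γ : Ω) : 0 < C.nn γ := card_orb_pos C.a γ

theorem nn_base : C.nn C.a = 1 := by
  unfold nn
  rw [orb_base, Finset.card_singleton]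

theorem dn_eq_of_mem {γ δ : Ω} (h : δ ∈ orb G C.a γ) : C.dn δ = C.dn γ := by
  unfold dn
  rw [orb_eq_of_mem h]

theorem nn_eq_of_mem {γ δ : Ω} (h : δ ∈ orb G C.a γ) : C.nn δ = C.nn γ := by
  unfold nn
  rw [orb_eq_of_mem h]

theorem dn_base : C.dn C.a = 2 := by
  unfold dn
  rw [orb_base]
  have : Finset.univ.filter (fun q : Bool × ZMod p => C.mpt q.1 q.2 ∈ ({C.a} : Finset Ω))
      = {(false, 0), (true, 0)} := by
    ext ⟨ε, m⟩
    simp only [Finset.mem_filter, Finset.mem_univ, true_and, Finset.mem_singleton,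
      Finset.mem_insert, Prod.mk.injEq]
    constructor
    · intro h
      have hm : m = 0 := by
        by_contra hm
        exact C.mpt_ne ε m hm h
      subst hm
      cases ε <;> simp
    · rintro (⟨rfl, rfl⟩ | ⟨rfl, rfl⟩) <;> exact C.mpt_zero _
  rw [this]
  rfl

theorem nn_mul_tr (γ : Ω) : C.nn γ * tr G C.a γ γ = Nat.card (MulAction.stabilizer G C.a) :=
  card_orb_mul_tr C.a γ

end Cfg

namespace Dec

variable {C : Cfg G Ω p} {ψ : IrrCharacter G} {X : Finset (IrrCharacter G)} (D : Dec C ψ X)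

include D

/-- the counting relation for an invariant set -/
theorem count_eq [MulAction.IsPretransitive G Ω] (hΩ : Fintype.card Ω = 2 * p) (Δ : Finset Ω)
    (hΔ : ∀ g : G, g • C.a = C.a → ∀ z ∈ Δ, g • z ∈ Δ) :
    ∑ m : ZMod p, ((if C.mpt false m ∈ Δ then (1 : ℂ) else 0) + (if C.mpt true m ∈ Δ then 1 else 0))
      = (Δ.card : ℂ) + conj (thetaOf C.a Δ (ψ : G → ℂ)) := by
  have hp0 : (p : ℂ) ≠ 0 := by exact_mod_cast hpf.out.ne_zero
  have h1 := D.sum_classF Δ hΔ
  rw [Finset.sum_congr rfl (fun m _ => C.classF_xp hΩ Δ hΔ m), ← Finset.mul_sum] at h1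
  exact mul_left_cancel₀ hp0 h1

/-- the counting relation for a suborbit -/
theorem dn_eq [MulAction.IsPretransitive G Ω] (hΩ : Fintype.card Ω = 2 * p) (γ : Ω) :
    (C.dn γ : ℂ) = (C.nn γ : ℂ) * (1 + kern (ψ : G → ℂ) C.a γ C.a) := by
  have hcf := isClassFunction_of_isCharacter (isCharacter_of_isIrrCharacter ψ.2)
  have h1 := D.count_eq hΩ (orb G C.a γ) (fun g hg z hz => smul_mem_orb hg hz)
  rw [thetaOf_eq_sum_kern, Finset.sum_congr rfl (fun δ hδ => kern_orb hcf hδ), Finset.sum_const,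
    nsmul_eq_mul, map_mul, Complex.conj_natCast, conj_kern D.hψreal] at h1
  have h2 : (C.dn γ : ℂ) = ∑ m : ZMod p, ((if C.mpt false m ∈ orb G C.a γ then (1 : ℂ) else 0)
      + (if C.mpt true m ∈ orb G C.a γ then 1 else 0)) := by
    unfold Cfg.dn
    rw [Finset.card_filter]
    push_cast
    rw [Fintype.sum_prod_type, Fintype.sum_bool, ← Finset.sum_add_distrib]
    apply Finset.sum_congr rfl
    intro m _
    rw [add_comm]
  rw [h2, h1]
  unfold Cfg.nn
  ring

end Dec

end Cfsg.Agent.Lib.Helper7.W2p
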