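import Mathlib
import Cfsg.Prelude.Def_Characters
import Cfsg.Agent.Lib.Helper7.W2pL

set_option autoImplicit false
set_option linter.style.haveILetI false
set_option linter.unusedSectionVars false
set_option linter.unusedVariables false

/-!
# Wielandt's theorem on primitive groups of degree `2p`: the rational kernel values
(helper7, for S0720)
-/

namespace Cfsg.Agent.Lib.Helper7.W2p

open Cfsg MulAction Cfsg.Agent.Lib.helper3.Irr Cfsg.Agent.Lib.helper3.IndFun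
open Cfsg.Agent.Lib.helper3.GalPow Cfsg.Agent.Lib.helper3.CharBasic
open Cfsg.Agent.Lib.helper3.PermChar Cfsg.Agent.Lib.Helper4.Hecke
open scoped ComplexConjugate

variable {G : Type*} [Group G] [Fintype G] {Ω : Type*} [Fintype Ω] [DecidableEq Ω] [MulAction G Ω]
  {p : ℕ} [hpf : Fact p.Prime]

namespace Cfg

variable (C : Cfg G Ω p)

/-- the rational kernel value -/
noncomputable def sQ (γ : Ω) : ℚ := (C.dn γ : ℚ) / (C.nn γ : ℚ) - 1

theorem sQ_base : C.sQ C.a = 1 := by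
  unfold sQ
  rw [C.dn_base, C.nn_base]
  norm_num

theorem sQ_eq_of_mem {γ δ : Ω} (h : δ ∈ orb G C.a γ) : C.sQ δ = C.sQ γ := by
  unfold sQ
  rw [C.dn_eq_of_mem h, C.nn_eq_of_mem h]

theorem neg_one_le_sQ (γ : Ω) : -1 ≤ C.sQ γ := by
  unfold sQ
  have : (0 : ℚ) ≤ (C.dn γ : ℚ) / (C.nn γ : ℚ) := by positivity
  linarith

theorem nn_ne_zero (γ : Ω) : (C.nn γ : ℚ) ≠ 0 := by
  have := C.nn_pos γ
  exact_mod_cast this.ne'

theorem sQ_eq_neg_one_iff (γ : Ω) : C.sQ γ = -1 ↔ C.dn γ = 0 := by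
  unfold sQ
  constructor
  · intro h
    have h1 : (C.dn γ : ℚ) / (C.nn γ : ℚ) = 0 := by linarith
    rcases div_eq_zero_iff.mp h1 with h2 | h2
    · exact_mod_cast h2
    · exact absurd h2 (C.nn_ne_zero γ)
  · intro h
    rw [h]
    norm_num

theorem dn_pos_iff (γ : Ω) : 0 < C.dn γ ↔ ∃ q : Bool × ZMod p, C.mpt q.1 q.2 ∈ orb G C.a γ := by
  unfold dn
  rw [Finset.card_pos]
  constructor
  · rintro ⟨q, hq⟩
    exact ⟨q, (Finset.mem_filter.mp hq).2⟩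
  · rintro ⟨q, hq⟩
    exact ⟨q, Finset.mem_filter.mpr ⟨Finset.mem_univ _, hq⟩⟩

/-- a marked point in the suborbit of a point with `sQ ≠ -1` -/
theorem exists_mpt_of_sQ_ne {γ : Ω} (hγ : γ ≠ C.a) (h : C.sQ γ ≠ -1) :
    ∃ (ε : Bool) (m : ZMod p), m ≠ 0 ∧ C.mpt ε m ∈ orb G C.a γ := by
  have h1 : 0 < C.dn γ := by
    rcases Nat.eq_zero_or_pos (C.dn γ) with h0 | h0
    · exact absurd ((C.sQ_eq_neg_one_iff γ).mpr h0) h
    · exact h0
  obtain ⟨⟨ε, m⟩, hq⟩ := (C.dn_pos_iff γ).mp h1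
  refine ⟨ε, m, ?_, hq⟩
  rintro rfl
  rw [C.mpt_zero] at hq
  exact base_not_mem_orb hγ hq

/-- double counting of marked points -/
theorem sum_mpt (w : Ω → ℚ) (hw : ∀ γ δ : Ω, δ ∈ orb G C.a γ → w δ = w γ) :
    ∑ q : Bool × ZMod p, w (C.mpt q.1 q.2) = ∑ γ : Ω, w γ * (C.dn γ : ℚ) / (C.nn γ : ℚ) := by
  classical
  have h1 : ∀ γ : Ω, w γ * (C.dn γ : ℚ) / (C.nn γ : ℚ)
      = ∑ q : Bool × ZMod p, if C.mpt q.1 q.2 ∈ orb G C.a γ then w γ / (C.nn γ : ℚ) else 0 := by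
    intro γ
    rw [← Finset.sum_filter, Finset.sum_const, nsmul_eq_mul]
    unfold dn
    ring
  rw [Finset.sum_congr rfl (fun γ _ => h1 γ), Finset.sum_comm]
  apply Finset.sum_congr rfl
  intro q _
  have h2 : ∀ γ : Ω, (if C.mpt q.1 q.2 ∈ orb G C.a γ then w γ / (C.nn γ : ℚ) else 0)
      = if γ ∈ orb G C.a (C.mpt q.1 q.2) then w (C.mpt q.1 q.2) / (C.nn (C.mpt q.1 q.2) : ℚ)
        else 0 := by
    intro γ
    by_cases h : C.mpt q.1 q.2 ∈ orb G C.a γ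
    · have h' := mem_orb_symm h
      rw [if_pos h, if_pos h', hw _ _ h', C.nn_eq_of_mem h']
    · rw [if_neg h, if_neg (fun h' => h (mem_orb_symm h'))]
  rw [Finset.sum_congr rfl (fun γ _ => h2 γ), ← Finset.sum_filter, Finset.sum_const, nsmul_eq_mul]
  have h3 : (Finset.univ.filter (fun γ => γ ∈ orb G C.a (C.mpt q.1 q.2))).card
      = C.nn (C.mpt q.1 q.2) := by
    unfold nn
    congr 1
    ext γ
    simp
  rw [h3]
  field_simp [C.nn_ne_zero]

end Cfg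

end Cfsg.Agent.Lib.Helper7.W2p
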