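import Mathlib
import Cfsg.Prelude.Def_Characters
import Cfsg.Agent.Lib.Helper7.W2pM

set_option autoImplicit false
set_option linter.style.haveILetI false
set_option linter.unusedSectionVars false
set_option linter.unusedVariables false

/-!
# Wielandt's theorem on primitive groups of degree `2p`: the facts about the rational kernel values
(helper7, for S0720)
-/

namespace Cfsg.Agent.Lib.Helper7.W2p

open Cfsg MulAction Cfsg.Agent.Lib.helper3.Irr Cfsg.Agent.Lib.helper3.IndFun
open Cfsg.Agent.Lib.helper3.GalPow Cfsg.Agent.Lib.helper3.CharBasic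
open Cfsg.Agent.Lib.helper3.PermChar Cfsg.Agent.Lib.Helper4.Hecke
open scoped ComplexConjugate

variable {G : Type*} [Group G] [Fintype G] {Ω : Type*} [Fintype Ω] [DecidableEq Ω] [MulAction G Ω]
  {p : ℕ} [hpf : Fact p.Prime]

namespace Dec

variable {C : Cfg G Ω p} {ψ : IrrCharacter G} {X : Finset (IrrCharacter G)} (D : Dec C ψ X)

include D

theorem kern_base [MulAction.IsPretransitive G Ω] : kern (ψ : G → ℂ) C.a C.a C.a = 1 := by
  have hcf := isClassFunction_of_isCharacter (isCharacter_of_isIrrCharacter ψ.2)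
  have h1 := classInner_permChar C.a (ψ : G → ℂ) hcf
  have h2 : classInner (fun g : G => (Nat.card (MulAction.fixedBy Ω g) : ℂ)) (ψ : G → ℂ) = 1 :=
    D.classInner_pc_psi
  rw [h2] at h1
  have h3 := congrArg (starRingEnd ℂ) h1
  rw [Complex.conj_conj, map_one] at h3
  unfold kern
  exact h3.symm

/-- the data for the kernel -/
theorem kdata [MulAction.IsPretransitive G Ω] : KData C (ψ : G → ℂ) where
  hchar := isCharacter_of_isIrrCharacter ψ.2
  hinv := by
    intro g
    rw [isCharacter_apply_inv (isCharacter_of_isIrrCharacter ψ.2), D.hψreal]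
  hmult := D.kern_base
  hvan := by
    intro m hm
    haveI : Nonempty Ω := ⟨C.a⟩
    exact sum_mul_pc_eq_zero ψ (C.xp m) (D.hψ0 m hm)
  hsum := by
    have hne : (ψ : G → ℂ) ≠ ((trivI G : IrrCharacter G) : G → ℂ) :=
      fun h => D.hψtriv (Subtype.ext h)
    have h1 := irr_classInner_eq_zero ψ.2 (trivI G).2 hne
    rw [classInner_apply] at h1
    have hG0 : (Nat.card G : ℂ) ≠ 0 := by exact_mod_cast Nat.card_pos.ne'
    rcases mul_eq_zero.mp h1 with h | h
    · exact absurd h (inv_ne_zero hG0)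
    · simp only [trivI_apply, map_one, mul_one] at h
      exact h

/-- the kernel values are the rational numbers `sQ` -/
theorem kern_eq_sQ [MulAction.IsPretransitive G Ω] (hΩ : Fintype.card Ω = 2 * p) (γ : Ω) :
    kern (ψ : G → ℂ) C.a γ C.a = ((C.sQ γ : ℚ) : ℂ) := by
  have h1 := D.dn_eq hΩ γ
  have hn : (C.nn γ : ℂ) ≠ 0 := by
    have := C.nn_pos γ
    exact_mod_cast this.ne'
  unfold Cfg.sQ
  push_cast
  rw [h1]
  field_simp
  ring

/-- partner points have opposite values -/
theorem sQ_partner [MulAction.IsPretransitive G Ω] (hΩ : Fintype.card Ω = 2 * p) (m : ZMod p)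
    (hm : m ≠ 0) : C.sQ (C.mpt true m) = - C.sQ (C.mpt false m) := by
  have K := D.kdata
  have h1 := K.fA_add_fA' hΩ m hm
  have e1 : K.fA m = ((C.sQ (C.mpt false m) : ℚ) : ℂ) := by
    rw [← D.kern_eq_sQ hΩ]
    rfl
  have e2 : K.fA' m = ((C.sQ (C.mpt true m) : ℚ) : ℂ) := by
    rw [← D.kern_eq_sQ hΩ]
    unfold KData.fA'
    rw [← kern_smul K.hcf C.a C.g₀⁻¹ (C.xp m • C.b) C.b, C.mpt_true, C.mirror_xp_smul_a]
    congr 1
    unfold Cfg.b
    rw [inv_smul_smul]
  rw [e1, e2] at h1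
  have h2 : C.sQ (C.mpt false m) + C.sQ (C.mpt true m) = 0 := by exact_mod_cast h1
  linarith

theorem sQ_partner' [MulAction.IsPretransitive G Ω] (hΩ : Fintype.card Ω = 2 * p) (ε : Bool)
    (m : ZMod p) (hm : m ≠ 0) : C.sQ (C.mpt (!ε) m) = - C.sQ (C.mpt ε m) := by
  cases ε
  · exact D.sQ_partner hΩ m hm
  · rw [D.sQ_partner hΩ m hm, neg_neg]
    rfl

/-- the dichotomy -/
theorem sQ_dichotomy [MulAction.IsPretransitive G Ω] (hΩ : Fintype.card Ω = 2 * p) :
    (∀ (ε : Bool) (m : ZMod p), m ≠ 0 → C.sQ (C.mpt ε m) ≠ 0) ∨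
      (∀ (ε : Bool) (m : ZMod p), m ≠ 0 → C.sQ (C.mpt ε m) = 0) := by
  have K := D.kdata
  have e1 : ∀ m : ZMod p, K.fA m = ((C.sQ (C.mpt false m) : ℚ) : ℂ) := by
    intro m
    rw [← D.kern_eq_sQ hΩ]
    rfl
  rcases K.dichotomy hΩ with h | h
  · left
    intro ε m hm
    have h1 : C.sQ (C.mpt false m) ≠ 0 := by
      intro h0
      apply h m hm
      rw [e1, h0, Rat.cast_zero]
    cases ε
    · exact h1
    · rw [D.sQ_partner hΩ m hm]
      exact neg_ne_zero.mpr h1
  · right
    intro ε m hm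
    have h1 : C.sQ (C.mpt false m) = 0 := by
      have := h m hm
      rw [e1] at this
      exact_mod_cast this
    cases ε
    · exact h1
    · rw [D.sQ_partner hΩ m hm, h1, neg_zero]

/-- the number of suborbits -/
theorem sum_inv_nn [MulAction.IsPretransitive G Ω] :
    ∑ γ : Ω, (1 : ℚ) / (C.nn γ : ℚ) = (X.card : ℚ) + 2 := by
  classical
  have hH := card_stab_ne_zero (G := G) C.a
  have hpcchar : IsCharacter G (pc G Ω) := by
    haveI : Nonempty Ω := ⟨C.a⟩
    exact isCharacter_permChar (G := G) Ω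
  have h1 := classInner_permChar C.a (pc G Ω) (isClassFunction_of_isCharacter hpcchar)
  have h2 : classInner (fun g : G => (Nat.card (MulAction.fixedBy Ω g) : ℂ)) (pc G Ω)
      = (X.card : ℂ) + 2 := D.classInner_pc_pc
  rw [h2] at h1
  have h3 := congrArg (starRingEnd ℂ) h1
  rw [Complex.conj_conj, map_add, Complex.conj_natCast] at h3
  have h3' : (starRingEnd ℂ) (2 : ℂ) = 2 := Complex.conj_ofNat 2
  rw [h3'] at h3
  -- the sum of the fixed point numbers over the stabilizer
  have h4 : ∑ g : G, (if g • C.a = C.a then pc G Ω g else 0) = ∑ γ : Ω, (tr G C.a γ γ : ℂ) := by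
    have h5 : ∀ γ : Ω, (tr G C.a γ γ : ℂ)
        = ∑ g : G, if g • C.a = C.a ∧ g • γ = γ then (1 : ℂ) else 0 := by
      intro γ
      unfold tr
      rw [Finset.sum_boole]
    rw [Finset.sum_congr rfl (fun γ _ => h5 γ), Finset.sum_comm]
    apply Finset.sum_congr rfl
    intro g _
    by_cases hg : g • C.a = C.a
    · rw [if_pos hg, pc_apply, Nat.card_eq_fintype_card, Fintype.card_subtype]
      simp only [hg, true_and, MulAction.mem_fixedBy]
      rw [Finset.sum_boole]
    · rw [if_neg hg]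
      symm
      apply Finset.sum_eq_zero
      intro γ _
      rw [if_neg (fun h => hg h.1)]
  rw [h4] at h3
  have h6 : ∀ γ : Ω, (tr G C.a γ γ : ℂ)
      = (Nat.card (MulAction.stabilizer G C.a) : ℂ) * (((1 : ℚ) / (C.nn γ : ℚ) : ℚ) : ℂ) := by
    intro γ
    have hn : (C.nn γ : ℂ) ≠ 0 := by
      have := C.nn_pos γ
      exact_mod_cast this.ne'
    rw [← C.nn_mul_tr γ]
    push_cast
    field_simp
  rw [Finset.sum_congr rfl (fun γ _ => h6 γ), ← Finset.mul_sum, ← mul_assoc, inv_mul_cancel₀ hH,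
    one_mul] at h3
  have h7 : ((∑ γ : Ω, (1 : ℚ) / (C.nn γ : ℚ) : ℚ) : ℂ) = (((X.card : ℚ) + 2 : ℚ) : ℂ) := by
    push_cast
    rw [h3]
    push_cast
    ring
  exact_mod_cast h7

end Dec

end Cfsg.Agent.Lib.Helper7.W2p
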