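import Mathlib
import Cfsg.Prelude.Def_Characters
import Cfsg.Agent.Lib.Helper7.W2pN

set_option autoImplicit false
set_option linter.style.haveILetI false
set_option linter.unusedSectionVars false
set_option linter.unusedVariables false

/-!
# Wielandt's theorem on primitive groups of degree `2p`: the endgame (helper7, for S0720)
-/

namespace Cfsg.Agent.Lib.Helper7.W2p

open Cfsg MulAction Cfsg.Agent.Lib.helper3.Irr Cfsg.Agent.Lib.helper3.IndFun
open Cfsg.Agent.Lib.helper3.GalPow Cfsg.Agent.Lib.helper3.CharBasic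
open Cfsg.Agent.Lib.helper3.PermChar Cfsg.Agent.Lib.Helper4.Hecke
open scoped ComplexConjugate

variable {G : Type*} [Group G] [Fintype G] {Ω : Type*} [Fintype Ω] [DecidableEq Ω] [MulAction G Ω]
  {p : ℕ} [hpf : Fact p.Prime]

namespace Dec

variable {C : Cfg G Ω p} {ψ : IrrCharacter G} {X : Finset (IrrCharacter G)} (D : Dec C ψ X)

include D

/-- the sum of the values over the points different from the base point -/
theorem sum_sQ (hΩ : Fintype.card Ω = 2 * p) :
    ∑ γ ∈ Finset.univ.erase C.a, C.sQ γ = -1 := by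
  have h1 := C.sum_mpt (fun _ => (1 : ℚ)) (fun _ _ _ => rfl)
  simp only [Finset.sum_const, Finset.card_univ, Fintype.card_prod, Fintype.card_bool, ZMod.card,
    nsmul_eq_mul, mul_one, one_mul] at h1
  have h2 : ∑ γ : Ω, C.sQ γ = 0 := by
    unfold Cfg.sQ
    rw [Finset.sum_sub_distrib, ← h1, Finset.sum_const, Finset.card_univ, hΩ]
    simp
  rw [← Finset.add_sum_erase Finset.univ _ (Finset.mem_univ C.a), C.sQ_base] at h2
  linarith

theorem sum_inv_nn_erase [MulAction.IsPretransitive G Ω] :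
    ∑ γ ∈ Finset.univ.erase C.a, (1 : ℚ) / (C.nn γ : ℚ) = (X.card : ℚ) + 1 := by
  have h2 := D.sum_inv_nn
  rw [← Finset.add_sum_erase Finset.univ _ (Finset.mem_univ C.a), C.nn_base] at h2
  push_cast at h2
  linarith

end Dec

/-- a suborbit of size one is a fixed point of the stabilizer -/
theorem Cfg.fixed_of_nn_eq_one (C : Cfg G Ω p) {γ : Ω} (h : C.nn γ = 1) (k : G)
    (hk : k • C.a = C.a) : k • γ = γ := by
  unfold Cfg.nn at h
  obtain ⟨δ, hδ⟩ := Finset.card_eq_one.mp h
  have h1 : γ ∈ orb G C.a γ := self_mem_orb C.a γ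
  have h2 : k • γ ∈ orb G C.a γ := smul_mem_orb hk h1
  rw [hδ, Finset.mem_singleton] at h1 h2
  rw [h2, h1]

namespace Dec

variable {C : Cfg G Ω p} {ψ : IrrCharacter G} {X : Finset (IrrCharacter G)} (D : Dec C ψ X)

include D

/-- the first case of the dichotomy is impossible -/
theorem caseA [MulAction.IsPretransitive G Ω] (hΩ : Fintype.card Ω = 2 * p)
    (hfix : ∀ γ : Ω, (∀ k : G, k • C.a = C.a → k • γ = γ) → γ = C.a)
    (h0 : ∀ (ε : Bool) (m : ZMod p), m ≠ 0 → C.sQ (C.mpt ε m) = 0) : False := by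
  classical
  have hval : ∀ γ : Ω, γ ≠ C.a → C.sQ γ = 0 ∨ C.sQ γ = -1 := by
    intro γ hγ
    by_cases h : C.sQ γ = -1
    · exact Or.inr h
    · left
      obtain ⟨ε, m, hm, hmem⟩ := C.exists_mpt_of_sQ_ne hγ h
      rw [← C.sQ_eq_of_mem hmem, h0 ε m hm]
  set B : Finset Ω := (Finset.univ.erase C.a).filter (fun γ => C.sQ γ = -1) with hB
  have h1 : ∑ γ ∈ Finset.univ.erase C.a, C.sQ γ = -(B.card : ℚ) := by
    have h2 : ∀ γ ∈ Finset.univ.erase C.a, C.sQ γ = if C.sQ γ = -1 then (-1 : ℚ) else 0 := by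
      intro γ hγ
      rcases hval γ (Finset.ne_of_mem_erase hγ) with h | h
      · rw [h]
        norm_num
      · rw [if_pos h, h]
    rw [Finset.sum_congr rfl h2, ← Finset.sum_filter, Finset.sum_const, nsmul_eq_mul]
    ring
  rw [D.sum_sQ hΩ] at h1
  have h3 : B.card = 1 := by
    have : (B.card : ℚ) = 1 := by linarith
    exact_mod_cast this
  obtain ⟨γ₁, hγ₁⟩ := Finset.card_eq_one.mp h3
  have hmem : γ₁ ∈ B := by rw [hγ₁]; exact Finset.mem_singleton_self _
  rw [hB, Finset.mem_filter] at hmem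
  have hne : γ₁ ≠ C.a := Finset.ne_of_mem_erase hmem.1
  apply hne
  apply hfix
  intro k hk
  have h4 : k • γ₁ ∈ orb G C.a γ₁ := smul_mem_orb hk (self_mem_orb C.a γ₁)
  have h5 : k • γ₁ ∈ B := by
    rw [hB, Finset.mem_filter]
    refine ⟨Finset.mem_erase.mpr ⟨?_, Finset.mem_univ _⟩, ?_⟩
    · intro h
      rw [h] at h4
      exact base_not_mem_orb hne h4
    · rw [C.sQ_eq_of_mem h4]
      exact hmem.2
  rw [hγ₁, Finset.mem_singleton] at h5
  exact h5

end Dec

end Cfsg.Agent.Lib.Helper7.W2p
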