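import Mathlib
import Cfsg.Prelude.Def_Characters
import Cfsg.Agent.Lib.Helper7.W2pO

set_option autoImplicit false
set_option linter.style.haveILetI false
set_option linter.unusedSectionVars false
set_option linter.unusedVariables false

/-!
# Wielandt's theorem on primitive groups of degree `2p`: the second case (helper7, for S0720)
-/

namespace Cfsg.Agent.Lib.Helper7.W2p

open Cfsg MulAction Cfsg.Agent.Lib.helper3.Irr Cfsg.Agent.Lib.helper3.IndFun
open Cfsg.Agent.Lib.helper3.GalPow Cfsg.Agent.Lib.helper3.CharBasic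
open Cfsg.Agent.Lib.helper3.PermChar Cfsg.Agent.Lib.Helper4.Hecke
open scoped ComplexConjugate

variable {G : Type*} [Group G] [Fintype G] {Ω : Type*} [Fintype Ω] [DecidableEq Ω] [MulAction G Ω]
  {p : ℕ} [hpf : Fact p.Prime]

theorem sum_ite_ne_zero (f : ZMod p → ℚ) :
    ∑ m : ZMod p, (if m = 0 then 0 else f m) = ∑ m : ZMod p, f m - f 0 := by
  have h : ∀ m : ZMod p, f m = (if m = 0 then f 0 else 0) + (if m = 0 then 0 else f m) := by
    intro m
    by_cases hm : m = 0
    · rw [if_pos hm, if_pos hm, hm, add_zero]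
    · rw [if_neg hm, if_neg hm, zero_add]
  conv_rhs => rw [Finset.sum_congr rfl (fun m _ => h m)]
  rw [Finset.sum_add_distrib, Finset.sum_ite_eq' Finset.univ (0 : ZMod p) (fun _ => f 0),
    if_pos (Finset.mem_univ _)]
  ring

namespace Cfg

variable (C : Cfg G Ω p)

theorem tr_cast (γ : Ω) :
    (tr G C.a γ γ : ℚ) = (Nat.card (MulAction.stabilizer G C.a) : ℚ) * (1 / (C.nn γ : ℚ)) := by
  rw [← C.nn_mul_tr γ]
  push_cast
  field_simp [C.nn_ne_zero]

end Cfg

namespace Dec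

variable {C : Cfg G Ω p} {ψ : IrrCharacter G} {X : Finset (IrrCharacter G)} (D : Dec C ψ X)

include D

/-- the inequality in the second case -/
theorem caseB_ineq [MulAction.IsPretransitive G Ω] (hΩ : Fintype.card Ω = 2 * p)
    (hne0 : ∀ (ε : Bool) (m : ZMod p), m ≠ 0 → C.sQ (C.mpt ε m) ≠ 0)
    (hstar : 2 * X.card * Nat.card (MulAction.stabilizer G C.a) ≤
      ∑ m : ZMod p, if m = 0 then 0 else
        (tr G C.a (C.xp m • C.a) (C.xp m • C.a)
          + tr G C.a (C.mirror.xp m • C.a) (C.mirror.xp m • C.a)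
          + 2 * tr G C.a (C.xp m • C.a) (C.mirror.xp m • C.a))) :
    (X.card : ℚ) - 1 ≤ ∑ γ ∈ Finset.univ.erase C.a, C.sQ γ / (C.nn γ : ℚ) := by
  classical
  have hH : (0 : ℚ) < (Nat.card (MulAction.stabilizer G C.a) : ℚ) := by
    exact_mod_cast Nat.card_pos
  -- the cross terms vanish
  have hcross : ∀ m : ZMod p, m ≠ 0 → tr G C.a (C.xp m • C.a) (C.mirror.xp m • C.a) = 0 := by
    intro m hm
    apply tr_eq_zero_of_not_mem
    intro hmem
    have h1 : C.sQ (C.mpt true m) = C.sQ (C.mpt false m) := C.sQ_eq_of_mem hmem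
    have h2 := D.sQ_partner hΩ m hm
    apply hne0 false m hm
    linarith
  have h1 : ∑ m : ZMod p, (if m = 0 then 0 else
        (tr G C.a (C.xp m • C.a) (C.xp m • C.a)
          + tr G C.a (C.mirror.xp m • C.a) (C.mirror.xp m • C.a)
          + 2 * tr G C.a (C.xp m • C.a) (C.mirror.xp m • C.a)))
      = ∑ m : ZMod p, (if m = 0 then 0 else
        (tr G C.a (C.mpt false m) (C.mpt false m) + tr G C.a (C.mpt true m) (C.mpt true m))) := by
    apply Finset.sum_congr rfl
    intro m _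
    by_cases hm : m = 0
    · rw [if_pos hm, if_pos hm]
    · rw [if_neg hm, if_neg hm, hcross m hm, mul_zero, add_zero]
      rfl
  rw [h1] at hstar
  have h2 := (Nat.cast_le (α := ℚ)).mpr hstar
  push_cast at h2
  simp only [C.tr_cast] at h2
  have h3 : ∀ m : ZMod p, (if m = 0 then (0 : ℚ) else
      (Nat.card (MulAction.stabilizer G C.a) : ℚ) * (1 / (C.nn (C.mpt false m) : ℚ))
        + (Nat.card (MulAction.stabilizer G C.a) : ℚ) * (1 / (C.nn (C.mpt true m) : ℚ)))
      = (Nat.card (MulAction.stabilizer G C.a) : ℚ) * (if m = 0 then (0 : ℚ) else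
        (1 / (C.nn (C.mpt false m) : ℚ) + 1 / (C.nn (C.mpt true m) : ℚ))) := by
    intro m
    split_ifs
    · rw [mul_zero]
    · ring
  rw [Finset.sum_congr rfl (fun m _ => h3 m), ← Finset.mul_sum] at h2
  have h4 : 2 * (X.card : ℚ) ≤ ∑ m : ZMod p, (if m = 0 then (0 : ℚ) else
        (1 / (C.nn (C.mpt false m) : ℚ) + 1 / (C.nn (C.mpt true m) : ℚ))) := by
    have h5 : (Nat.card (MulAction.stabilizer G C.a) : ℚ) * (2 * (X.card : ℚ))
        ≤ (Nat.card (MulAction.stabilizer G C.a) : ℚ) * ∑ m : ZMod p, (if m = 0 then (0 : ℚ) else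
        (1 / (C.nn (C.mpt false m) : ℚ) + 1 / (C.nn (C.mpt true m) : ℚ))) := by
      linarith
    exact le_of_mul_le_mul_left h5 hH
  rw [sum_ite_ne_zero (fun m => 1 / (C.nn (C.mpt false m) : ℚ) + 1 / (C.nn (C.mpt true m) : ℚ))]
    at h4
  -- double counting
  have h6 := C.sum_mpt (fun γ => 1 / (C.nn γ : ℚ)) (fun γ δ h => by
    show 1 / (C.nn δ : ℚ) = 1 / (C.nn γ : ℚ)
    rw [C.nn_eq_of_mem h])
  rw [Fintype.sum_prod_type, Fintype.sum_bool, ← Finset.sum_add_distrib] at h6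
  have h7 : ∑ m : ZMod p, (1 / (C.nn (C.mpt false m) : ℚ) + 1 / (C.nn (C.mpt true m) : ℚ))
      = ∑ m : ZMod p, (1 / (C.nn (C.mpt true m) : ℚ) + 1 / (C.nn (C.mpt false m) : ℚ)) := by
    apply Finset.sum_congr rfl
    intro m _
    rw [add_comm]
  rw [h7, h6, C.mpt_zero, C.mpt_zero, C.nn_base,
    ← Finset.add_sum_erase Finset.univ _ (Finset.mem_univ C.a), C.nn_base, C.dn_base] at h4
  have h8 : ∀ γ ∈ Finset.univ.erase C.a, 1 / (C.nn γ : ℚ) * (C.dn γ : ℚ) / (C.nn γ : ℚ)
      = 1 / (C.nn γ : ℚ) + C.sQ γ / (C.nn γ : ℚ) := by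
    intro γ _
    unfold Cfg.sQ
    field_simp [C.nn_ne_zero]
    ring
  rw [Finset.sum_congr rfl h8, Finset.sum_add_distrib, D.sum_inv_nn_erase] at h4
  push_cast at h4
  linarith

end Dec

end Cfsg.Agent.Lib.Helper7.W2p
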