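import Mathlib
import Cfsg.Prelude.Def_Characters
import Cfsg.Agent.Lib.Helper7.W2pP

set_option autoImplicit false
set_option linter.style.haveILetI false
set_option linter.unusedSectionVars false
set_option linter.unusedVariables false

/-!
# Wielandt's theorem on primitive groups of degree `2p`: the number of constituents
(helper7, for S0720)
-/

namespace Cfsg.Agent.Lib.Helper7.W2p

open Cfsg MulAction Cfsg.Agent.Lib.helper3.Irr Cfsg.Agent.Lib.helper3.IndFun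
open Cfsg.Agent.Lib.helper3.GalPow Cfsg.Agent.Lib.helper3.CharBasic
open Cfsg.Agent.Lib.helper3.PermChar Cfsg.Agent.Lib.Helper4.Hecke
open scoped ComplexConjugate

variable {G : Type*} [Group G] [Fintype G] {Ω : Type*} [Fintype Ω] [DecidableEq Ω] [MulAction G Ω]
  {p : ℕ} [hpf : Fact p.Prime]

namespace Dec

variable {C : Cfg G Ω p} {ψ : IrrCharacter G} {X : Finset (IrrCharacter G)} (D : Dec C ψ X)

include D

/-- in the second case there is at most one further constituent -/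
theorem caseB_card [MulAction.IsPretransitive G Ω] (hΩ : Fintype.card Ω = 2 * p)
    (hne0 : ∀ (ε : Bool) (m : ZMod p), m ≠ 0 → C.sQ (C.mpt ε m) ≠ 0)
    (hineq : (X.card : ℚ) - 1 ≤ ∑ γ ∈ Finset.univ.erase C.a, C.sQ γ / (C.nn γ : ℚ)) :
    X.card ≤ 1 := by
  classical
  set T : Finset Ω := Finset.univ.erase C.a with hT
  have hsum := D.sum_sQ hΩ
  have hTne : T.Nonempty := by
    rw [Finset.nonempty_iff_ne_empty]
    intro h
    rw [← hT, h, Finset.sum_empty] at hsum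
    norm_num at hsum
  obtain ⟨γ₀, hγ₀T, hmin⟩ := Finset.exists_min_image T C.sQ hTne
  have hγ₀ : γ₀ ≠ C.a := Finset.ne_of_mem_erase hγ₀T
  have hρpos : C.sQ γ₀ < 0 := by
    by_contra h
    have h1 : 0 ≤ C.sQ γ₀ := not_lt.mp h
    have h2 : 0 ≤ ∑ γ ∈ T, C.sQ γ := Finset.sum_nonneg (fun γ hγ => h1.trans (hmin γ hγ))
    rw [hsum] at h2
    norm_num at h2
  have hρle : -1 ≤ C.sQ γ₀ := C.neg_one_le_sQ γ₀
  have hmemT : ∀ (ε : Bool) (m : ZMod p), m ≠ 0 → C.mpt ε m ∈ T := fun ε m hm =>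
    Finset.mem_erase.mpr ⟨C.mpt_ne ε m hm, Finset.mem_univ _⟩
  have hmk : ∀ (ε : Bool) (m : ZMod p), m ≠ 0 → C.sQ (C.mpt ε m) ≠ -1 := by
    intro ε m hm h
    have h1 := (C.sQ_eq_neg_one_iff _).mp h
    have h2 : 0 < C.dn (C.mpt ε m) := (C.dn_pos_iff _).mpr ⟨(ε, m), self_mem_orb _ _⟩
    omega
  have hmk1 : ∀ (ε : Bool) (m : ZMod p), m ≠ 0 → C.sQ (C.mpt ε m) ≠ 1 := by
    intro ε m hm h
    have h1 := D.sQ_partner' hΩ ε m hm
    rw [h] at h1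
    exact hmk (!ε) m hm h1
  have hlt : ∀ γ ∈ T, C.sQ γ < 1 ∧ C.sQ γ ≤ - C.sQ γ₀ := by
    intro γ hγ
    have hγa : γ ≠ C.a := Finset.ne_of_mem_erase hγ
    by_cases h : C.sQ γ = -1
    · rw [h]
      constructor
      · norm_num
      · linarith
    · obtain ⟨ε, m, hm, hmem⟩ := C.exists_mpt_of_sQ_ne hγa h
      have h1 : C.sQ (C.mpt ε m) = C.sQ γ := C.sQ_eq_of_mem hmem
      have h2 := D.sQ_partner' hΩ ε m hm
      have h3 := hmin _ (hmemT (!ε) m hm)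
      have h4 : C.sQ γ ≤ - C.sQ γ₀ := by linarith
      refine ⟨?_, h4⟩
      have h5 : C.sQ γ ≠ 1 := by
        rw [← h1]
        exact hmk1 ε m hm
      have h6 : C.sQ γ ≤ 1 := by linarith
      exact lt_of_le_of_ne h6 h5
  -- the suborbit of the minimum
  set O₀ : Finset Ω := orb G C.a γ₀ with hO₀
  have hO₀T : O₀ ⊆ T := by
    intro δ hδ
    refine Finset.mem_erase.mpr ⟨?_, Finset.mem_univ _⟩
    rintro rfl
    exact base_not_mem_orb hγ₀ hδ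
  have hn₀ : (C.nn γ₀ : ℚ) ≠ 0 := C.nn_ne_zero γ₀
  have hs1 : ∑ γ ∈ O₀, C.sQ γ / (C.nn γ : ℚ) = C.sQ γ₀ := by
    have h1 : ∀ γ ∈ O₀, C.sQ γ / (C.nn γ : ℚ) = C.sQ γ₀ / (C.nn γ₀ : ℚ) := by
      intro γ hγ
      rw [C.sQ_eq_of_mem hγ, C.nn_eq_of_mem hγ]
    rw [Finset.sum_congr rfl h1, Finset.sum_const, nsmul_eq_mul]
    have : (O₀.card : ℚ) = (C.nn γ₀ : ℚ) := rfl
    rw [this]
    field_simp
  have hs2 : ∑ γ ∈ O₀, (1 : ℚ) / (C.nn γ : ℚ) = 1 := by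
    have h1 : ∀ γ ∈ O₀, (1 : ℚ) / (C.nn γ : ℚ) = 1 / (C.nn γ₀ : ℚ) := by
      intro γ hγ
      rw [C.nn_eq_of_mem hγ]
    rw [Finset.sum_congr rfl h1, Finset.sum_const, nsmul_eq_mul]
    have : (O₀.card : ℚ) = (C.nn γ₀ : ℚ) := rfl
    rw [this]
    field_simp
  have hs3 := Finset.sum_sdiff hO₀T (f := fun γ => C.sQ γ / (C.nn γ : ℚ))
  have hs4 := Finset.sum_sdiff hO₀T (f := fun γ => (1 : ℚ) / (C.nn γ : ℚ))
  rw [hs1] at hs3
  rw [hs2, D.sum_inv_nn_erase] at hs4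
  rw [← hs3] at hineq
  set T' : Finset Ω := T \ O₀ with hT'
  by_contra hcon
  have ht2 : (2 : ℚ) ≤ (X.card : ℚ) := by
    have : 2 ≤ X.card := by omega
    exact_mod_cast this
  have hA : ∑ γ ∈ T', (1 : ℚ) / (C.nn γ : ℚ) = (X.card : ℚ) := by linarith
  have hB : ∑ γ ∈ T', (1 - C.sQ γ) / (C.nn γ : ℚ) ≤ 1 + C.sQ γ₀ := by
    have : ∑ γ ∈ T', (1 - C.sQ γ) / (C.nn γ : ℚ)
        = ∑ γ ∈ T', (1 : ℚ) / (C.nn γ : ℚ) - ∑ γ ∈ T', C.sQ γ / (C.nn γ : ℚ) := by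
      rw [← Finset.sum_sub_distrib]
      apply Finset.sum_congr rfl
      intro γ _
      ring
    rw [this, hA]
    linarith
  have hnpos : ∀ γ : Ω, (0 : ℚ) < (C.nn γ : ℚ) := fun γ => by
    have := C.nn_pos γ
    exact_mod_cast this
  have hC : (1 + C.sQ γ₀) * (X.card : ℚ) ≤ ∑ γ ∈ T', (1 - C.sQ γ) / (C.nn γ : ℚ) := by
    rw [← hA, Finset.mul_sum]
    apply Finset.sum_le_sum
    intro γ hγ
    have hγT : γ ∈ T := (Finset.mem_sdiff.mp hγ).1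
    have h1 := (hlt γ hγT).2
    rw [mul_one_div]
    apply div_le_div_of_nonneg_right _ (hnpos γ).le
    linarith
  have hρ1 : 1 + C.sQ γ₀ ≤ 0 := by
    by_contra h
    have h1 : 0 < 1 + C.sQ γ₀ := not_le.mp h
    have h2 : (1 + C.sQ γ₀) * 2 ≤ (1 + C.sQ γ₀) * (X.card : ℚ) :=
      mul_le_mul_of_nonneg_left ht2 h1.le
    linarith
  have hT'ne : T'.Nonempty := by
    rw [Finset.nonempty_iff_ne_empty]
    intro h
    rw [h, Finset.sum_empty] at hA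
    linarith
  have hD : 0 < ∑ γ ∈ T', (1 - C.sQ γ) / (C.nn γ : ℚ) := by
    apply Finset.sum_pos _ hT'ne
    intro γ hγ
    have hγT : γ ∈ T := (Finset.mem_sdiff.mp hγ).1
    have h1 := (hlt γ hγT).1
    apply div_pos _ (hnpos γ)
    linarith
  linarith

end Dec

end Cfsg.Agent.Lib.Helper7.W2p
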