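import Mathlib
import Cfsg.Prelude.Def_Characters
import Cfsg.Agent.Lib.Helper7.W2pQ
import Cfsg.Agent.Lib.Helper7.W2pE

set_option autoImplicit false
set_option linter.style.haveILetI false
set_option linter.unusedSectionVars false
set_option linter.unusedVariables false

/-!
# Wielandt's theorem on primitive groups of degree `2p`: the permutation character
(helper7, for S0720)
-/

namespace Cfsg.Agent.Lib.Helper7.W2p

open Cfsg MulAction Cfsg.Agent.Lib.helper3.Irr Cfsg.Agent.Lib.helper3.IndFun
open Cfsg.Agent.Lib.helper3.GalPow Cfsg.Agent.Lib.helper3.CharBasic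
open Cfsg.Agent.Lib.helper3.PermChar Cfsg.Agent.Lib.Helper4.Hecke
open scoped ComplexConjugate

variable {G : Type*} [Group G] [Fintype G] {Ω : Type*} [Fintype Ω] [DecidableEq Ω] [MulAction G Ω]
  {p : ℕ} [hpf : Fact p.Prime]

/-- the commutator count inequality, as a hypothesis -/
def Cfg.StarIneq (C : Cfg G Ω p) : Prop :=
  ∀ (ψ : IrrCharacter G) (X : Finset (IrrCharacter G)), Dec C ψ X →
    2 * X.card * Nat.card (MulAction.stabilizer G C.a) ≤
      ∑ m : ZMod p, if m = 0 then 0 else
        (tr G C.a (C.xp m • C.a) (C.xp m • C.a)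
          + tr G C.a (C.mirror.xp m • C.a) (C.mirror.xp m • C.a)
          + 2 * tr G C.a (C.xp m • C.a) (C.mirror.xp m • C.a))

/-- **The permutation character of a group of degree `2p`** with a fixed-point-free element of
order `p`, no nontrivial linear constituent and no second fixed point of the stabilizer. -/
theorem Cfg.main (C : Cfg G Ω p) [MulAction.IsPretransitive G Ω] (hp2 : p ≠ 2)
    (hΩ : Fintype.card Ω = 2 * p)
    (hlin : ∀ χ : G → ℂ, IsIrrCharacter G χ → χ 1 = 1 → classInner (pc G Ω) χ ≠ 0 →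
      χ = fun _ => 1)
    (hfix : ∀ γ : Ω, (∀ k : G, k • C.a = C.a → k • γ = γ) → γ = C.a)
    (hstar : C.StarIneq) :
    IsIrrCharacter G (fun g => pc G Ω g - 1) ∨
      ∃ (Y θ : IrrCharacter G), Y ≠ trivI G ∧ θ ≠ trivI G ∧ θ ≠ Y ∧
        (∀ g : G, pc G Ω g = 1 + (Y : G → ℂ) g + (θ : G → ℂ) g) ∧
        (Y : G → ℂ) 1 = (p : ℂ) - 1 ∧ (θ : G → ℂ) 1 = (p : ℂ) := by
  classical
  have hp := hpf.out
  rcases C.exists_dec hp2 hΩ hlin with h | ⟨ψ, X, D⟩
  · exact Or.inl h
  · right
    have hle : X.card ≤ 1 := by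
      rcases D.sQ_dichotomy hΩ with h | h
      · exact D.caseB_card hΩ h (D.caseB_ineq hΩ h (hstar ψ X D))
      · exact (D.caseA hΩ hfix h).elim
    have hpc1 := D.hpc 1
    rw [pc_one, hΩ, D.hψ1] at hpc1
    have hge : 1 ≤ X.card := by
      rcases Nat.eq_zero_or_pos X.card with h0 | h0
      · exfalso
        rw [Finset.card_eq_zero] at h0
        rw [h0, Finset.sum_empty, add_zero] at hpc1
        push_cast at hpc1
        have h1 : (p : ℂ) = 1 := by linear_combination hpc1
        have h2 : p = 1 := by exact_mod_cast h1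
        exact hp.one_lt.ne' h2
      · exact h0
    have hcard : X.card = 1 := le_antisymm hle hge
    obtain ⟨χ, hχ⟩ := Finset.card_eq_one.mp hcard
    refine ⟨χ, ψ, ?_, D.hψtriv, ?_, ?_, ?_, D.hψ1⟩
    · intro h
      apply D.hXtriv
      rw [hχ, Finset.mem_singleton, h]
    · intro h
      apply D.hXψ
      rw [hχ, Finset.mem_singleton, h]
    · intro g
      rw [D.hpc g, hχ, Finset.sum_singleton]
      ring
    · rw [hχ, Finset.sum_singleton] at hpc1
      push_cast at hpc1
      linear_combination -hpc1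

end Cfsg.Agent.Lib.Helper7.W2p
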