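import Mathlib
import Cfsg.Prelude.Def_Characters
import Cfsg.Agent.Lib.Helper7.W2pR
import Cfsg.Agent.Lib.helper3.Lin

set_option autoImplicit false
set_option linter.style.haveILetI false
set_option linter.unusedSectionVars false
set_option linter.unusedVariables false

/-!
# Wielandt's theorem on primitive groups of degree `2p`: prerequisites of the assembly, general
actions (helper7, for S0720)
-/

namespace Cfsg.Agent.Lib.Helper7.W2p

open Cfsg MulAction Cfsg.Agent.Lib.helper3.Irr Cfsg.Agent.Lib.helper3.IndFun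
open Cfsg.Agent.Lib.helper3.GalPow Cfsg.Agent.Lib.helper3.CharBasic
open Cfsg.Agent.Lib.helper3.PermChar Cfsg.Agent.Lib.Helper4.Hecke
open scoped ComplexConjugate

variable {G : Type*} [Group G] [Fintype G] {Ω : Type*} [Fintype Ω] [DecidableEq Ω] [MulAction G Ω]

/-- transitivity of the stabilizer on the other points gives double transitivity -/
theorem two_trans_of_orb [MulAction.IsPretransitive G Ω] (a₀ : Ω)
    (h : ∀ γ δ : Ω, γ ≠ a₀ → δ ≠ a₀ → δ ∈ orb G a₀ γ) :
    MulAction.IsMultiplyPretransitive G Ω 2 := by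
  rw [MulAction.is_two_pretransitive_iff]
  intro a b c d hab hcd
  obtain ⟨u, hu⟩ := MulAction.exists_smul_eq G a a₀
  obtain ⟨v, hv⟩ := MulAction.exists_smul_eq G c a₀
  have h1 : u • b ≠ a₀ := by
    rw [← hu]
    exact fun h => hab (smul_left_cancel u h).symm
  have h2 : v • d ≠ a₀ := by
    rw [← hv]
    exact fun h => hcd (smul_left_cancel v h).symm
  obtain ⟨k, hk, hk'⟩ := mem_orb.mp (h _ _ h1 h2)
  refine ⟨v⁻¹ * k * u, ?_, ?_⟩
  · rw [mul_smul, mul_smul, hu, hk, inv_smul_eq_iff, hv]
  · rw [mul_smul, mul_smul, hk', inv_smul_smul]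

theorem fixed_of_card_orb_eq_one {a γ : Ω} (h : (orb G a γ).card = 1) (k : G)
    (hk : k • a = a) : k • γ = γ := by
  obtain ⟨δ, hδ⟩ := Finset.card_eq_one.mp h
  have h1 : γ ∈ orb G a γ := self_mem_orb a γ
  have h2 : k • γ ∈ orb G a γ := smul_mem_orb hk h1
  rw [hδ, Finset.mem_singleton] at h1 h2
  rw [h2, h1]

/-- a transitive group of degree `4` whose point stabilizer fixes no second point is doubly
transitive -/
theorem two_trans_of_card_four [MulAction.IsPretransitive G Ω] (hΩ : Fintype.card Ω = 4) (a₀ : Ω)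
    (hfix : ∀ γ : Ω, (∀ k : G, k • a₀ = a₀ → k • γ = γ) → γ = a₀) :
    MulAction.IsMultiplyPretransitive G Ω 2 := by
  apply two_trans_of_orb a₀
  intro γ δ hγ hδ
  by_contra hmem
  have hdisj : Disjoint (orb G a₀ γ) (orb G a₀ δ) := by
    rw [Finset.disjoint_left]
    intro ε h1 h2
    apply hmem
    have e1 := orb_eq_of_mem h1
    have e2 := orb_eq_of_mem h2
    rw [← e1, e2]
    exact self_mem_orb a₀ δ
  have hsub : orb G a₀ γ ∪ orb G a₀ δ ⊆ Finset.univ.erase a₀ := by
    intro ε hε
    refine Finset.mem_erase.mpr ⟨?_, Finset.mem_univ _⟩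
    rintro rfl
    rcases Finset.mem_union.mp hε with h | h
    · exact base_not_mem_orb hγ h
    · exact base_not_mem_orb hδ h
  have hcard := Finset.card_le_card hsub
  rw [Finset.card_union_of_disjoint hdisj, Finset.card_erase_of_mem (Finset.mem_univ _),
    Finset.card_univ, hΩ] at hcard
  have h2 : ∀ ε : Ω, ε ≠ a₀ → 2 ≤ (orb G a₀ ε).card := by
    intro ε hε
    by_contra hlt
    have h1 : (orb G a₀ ε).card = 1 := by
      have := card_orb_pos (G := G) a₀ ε
      omega
    exact hε (hfix ε (fun k hk => fixed_of_card_orb_eq_one h1 k hk))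
  have := h2 γ hγ
  have := h2 δ hδ
  omega

/-- a primitive group whose point stabilizer fixes no second point has no nontrivial linear
constituent in its permutation character -/
theorem hlin_of_primitive (hprim : MulAction.IsPreprimitive G Ω) (a : Ω)
    (hfix : ∀ γ : Ω, (∀ k : G, k • a = a → k • γ = γ) → γ = a) (hnt : ∃ γ : Ω, γ ≠ a)
    (χ : G → ℂ) (hχ : IsIrrCharacter G χ) (h1 : χ 1 = 1) (hne : classInner (pc G Ω) χ ≠ 0) :
    χ = fun _ => 1 := by
  classical
  haveI : MulAction.IsPretransitive G Ω := hprim.toIsPretransitive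
  haveI : Nontrivial Ω := by
    obtain ⟨γ, hγ⟩ := hnt
    exact ⟨⟨γ, a, hγ⟩⟩
  have hχc := isCharacter_of_isIrrCharacter hχ
  have hmul := Cfsg.Agent.Lib.helper3.Lin.map_mul_of_apply_one_eq_one hχc h1
  have hS : ∑ g : G, (if g • a = a then χ g else 0) ≠ 0 := by
    intro h0
    apply hne
    have := classInner_permChar a χ (isClassFunction_of_isCharacter hχc)
    rw [h0, mul_zero, map_zero] at this
    exact this
  have hstab : ∀ k : G, k • a = a → χ k = 1 := by
    intro k hk
    have e : ∑ g : G, (if g • a = a then χ g else 0)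
        = χ k * ∑ g : G, (if g • a = a then χ g else 0) := by
      rw [Finset.mul_sum]
      symm
      apply Fintype.sum_equiv (Equiv.mulLeft k)
      intro g
      show χ k * (if g • a = a then χ g else 0) = if (k * g) • a = a then χ (k * g) else 0
      have hiff : (k * g) • a = a ↔ g • a = a := by
        rw [mul_smul]
        constructor
        · intro h
          apply smul_left_cancel k
          rw [h, hk]
        · intro h
          rw [h, hk]
      by_cases hg : g • a = a
      · rw [if_pos hg, if_pos (hiff.mpr hg), hmul]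
      · rw [if_neg hg, if_neg (fun h => hg (hiff.mp h)), mul_zero]
    have e2 : (χ k - 1) * ∑ g : G, (if g • a = a then χ g else 0) = 0 := by
      linear_combination -e
    rcases mul_eq_zero.mp e2 with h | h
    · exact sub_eq_zero.mp h
    · exact absurd h hS
  set N : Subgroup G := (Cfsg.Agent.Lib.helper3.Lin.toHom hχc h1).ker with hN
  have hle : MulAction.stabilizer G a ≤ N := by
    intro k hk
    rw [hN, MonoidHom.mem_ker]
    exact hstab k hk
  have hco : IsCoatom (MulAction.stabilizer G a) :=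
    (MulAction.isCoatom_stabilizer_iff_preprimitive (G := G) a).mpr hprim
  by_cases hNtop : N = ⊤
  · funext g
    have : g ∈ N := by rw [hNtop]; trivial
    exact MonoidHom.mem_ker.mp this
  · exfalso
    have hNeq : MulAction.stabilizer G a = N := by
      by_contra hne'
      exact hNtop (hco.2 N (lt_of_le_of_ne hle hne'))
    obtain ⟨γ, hγ⟩ := hnt
    apply hγ
    apply hfix
    intro k hk
    obtain ⟨u, rfl⟩ := MulAction.exists_smul_eq G a γ
    have hkN : k ∈ N := hle hk
    have hnorm : N.Normal := MonoidHom.normal_ker _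
    have h3 : u⁻¹ * k * u⁻¹⁻¹ ∈ N := hnorm.conj_mem k hkN u⁻¹
    rw [inv_inv, ← hNeq, MulAction.mem_stabilizer_iff, mul_smul, mul_smul, inv_smul_eq_iff] at h3
    exact h3

/-- the norm of `1 + Y + θ` -/
theorem classInner_three' {Y θ : IrrCharacter G} (hY : Y ≠ trivI G) (hθ : θ ≠ trivI G)
    (hθY : θ ≠ Y) :
    classInner (fun g : G => 1 + (Y : G → ℂ) g + (θ : G → ℂ) g)
      (fun g : G => 1 + (Y : G → ℂ) g + (θ : G → ℂ) g) = 3 := by
  have h0 : (fun g : G => 1 + (Y : G → ℂ) g + (θ : G → ℂ) g)
      = ((trivI G : IrrCharacter G) : G → ℂ) + (Y : G → ℂ) + (θ : G → ℂ) := by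
    funext g
    rfl
  have hne : ∀ {a b : IrrCharacter G}, a ≠ b → (a : G → ℂ) ≠ (b : G → ℂ) :=
    fun h h' => h (Subtype.ext h')
  rw [h0]
  simp only [classInner_add_left, classInner_add_right]
  rw [irr_classInner_self (trivI G).2, irr_classInner_self Y.2, irr_classInner_self θ.2,
    irr_classInner_eq_zero (trivI G).2 Y.2 (hne hY.symm),
    irr_classInner_eq_zero (trivI G).2 θ.2 (hne hθ.symm),
    irr_classInner_eq_zero Y.2 (trivI G).2 (hne hY),
    irr_classInner_eq_zero Y.2 θ.2 (hne hθY.symm),
    irr_classInner_eq_zero θ.2 (trivI G).2 (hne hθ),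
    irr_classInner_eq_zero θ.2 Y.2 (hne hθY)]
  norm_num

end Cfsg.Agent.Lib.Helper7.W2p
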