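import Mathlib
import Cfsg.Prelude.Def_Characters
import Cfsg.Agent.Lib.Helper7.W2pS
import Cfsg.Agent.Lib.Helper7.PrE1
import Cfsg.Agent.S0707

set_option autoImplicit false
set_option linter.style.haveILetI false
set_option linter.unusedSectionVars false
set_option linter.unusedVariables false

/-!
# Wielandt's theorem on primitive groups of degree `2p`: prerequisites of the assembly, permutation
groups (helper7, for S0720)
-/

namespace Cfsg.Agent.Lib.Helper7.W2p

open Cfsg MulAction Equiv

variable {α : Type*} [Fintype α] [DecidableEq α] {p : ℕ} [hpf : Fact p.Prime]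

/-- in a primitive group of non-prime degree the stabilizer of a point fixes no second point -/
theorem fix_unique (G : Subgroup (Perm α)) (hprim : IsPreprimitive G α)
    (hnp : ¬ (Nat.card α).Prime) (a γ : α) (h : ∀ k : G, k • a = a → k • γ = γ) : γ = a := by
  by_contra hne
  haveI := hprim
  haveI : IsPretransitive G α := hprim.toIsPretransitive
  have h1 := Cfsg.Agent.S0707.result G (Or.inl hnp) (Ne.symm hne)
  apply h1
  have hle : stabilizer G a ≤ stabilizer G γ := fun k hk => h k hk
  have i1 := MulAction.index_stabilizer_of_transitive G a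
  have i2 := MulAction.index_stabilizer_of_transitive G γ
  have h2 := Subgroup.relIndex_mul_index hle
  rw [i1, i2] at h2
  have hpos : 0 < Nat.card α := Nat.card_pos_iff.mpr ⟨⟨a⟩, inferInstance⟩
  have hr : (stabilizer G a).relIndex (stabilizer G γ) = 1 := by
    have : (stabilizer G a).relIndex (stabilizer G γ) * Nat.card α = 1 * Nat.card α := by
      rw [h2, one_mul]
    exact Nat.eq_of_mul_eq_mul_right hpos this
  exact le_antisymm hle (Subgroup.relIndex_eq_one.mp hr)

/-- **A fixed-point-free element of order `p`** in a primitive, not doubly transitive group of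
degree `2p`. -/
theorem exists_cfg (hp2 : p ≠ 2) (hα : Fintype.card α = 2 * p) (G : Subgroup (Perm α))
    (hprim : IsPreprimitive G α) (hnot2 : ¬ IsMultiplyPretransitive G α 2) (a₀ : α) :
    ∃ C : Cfg G α p, C.a = a₀ := by
  have hpp : p.Prime := hpf.out
  haveI : IsPretransitive G α := hprim.toIsPretransitive
  have hdvd : p ∣ Nat.card G :=
    (Dvd.intro_left 2 rfl).trans (Cfsg.Agent.Lib.Helper7.PrE.two_p_dvd_card hα G hprim)
  obtain ⟨x, hx⟩ := exists_prime_orderOf_dvd_card' (G := G) p hdvd
  have hxp : x ^ p = 1 := by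
    rw [← hx]
    exact pow_orderOf_eq_one x
  have hfpf : ∀ i : ZMod p, i ≠ 0 → ∀ β : α, x ^ i.val • β ≠ β := by
    intro i hi β hfix
    apply hnot2
    have hi0 : i.val ≠ 0 := by
      intro h
      exact hi ((ZMod.val_eq_zero i).mp h)
    have hilt : i.val < p := ZMod.val_lt i
    set y : G := x ^ i.val with hy
    have hyord : orderOf y = p := by
      rw [hy, orderOf_pow' x hi0, hx]
      have hcop : Nat.gcd p i.val = 1 :=
        (Nat.Prime.coprime_iff_not_dvd hpp).mpr
          (Nat.not_dvd_of_pos_of_lt (Nat.pos_of_ne_zero hi0) hilt)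
      rw [hcop, Nat.div_one]
    have hord : orderOf (y : Perm α) = p := by
      rw [Subgroup.orderOf_coe, hyord]
    have hsupp : (y : Perm α).support.card < 2 * orderOf (y : Perm α) := by
      rw [hord, ← hα]
      apply Finset.card_lt_univ_of_notMem (x := β)
      rw [Equiv.Perm.mem_support, not_not]
      exact hfix
    have hcyc : (y : Perm α).IsCycle :=
      Equiv.Perm.isCycle_of_prime_order (by rw [hord]; exact hpp) hsupp
    have hcard : (y : Perm α).support.card = p := by rw [← hcyc.orderOf, hord]
    have htr := Equiv.Perm.isPretransitive_of_isCycle_mem (G := G) hcyc y.2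
    apply hprim.is_two_pretransitive (s := ((y : Perm α).support : Set α)ᶜ) (n := p - 1) ?_ ?_ htr
    · rw [← Finset.coe_compl, Set.ncard_coe_finset, Finset.card_compl, hα, hcard]
      have := hpp.two_le
      omega
    · rw [Nat.card_eq_fintype_card, hα]
      have := hpp.two_le
      have : p ≠ 2 := hp2
      omega
  -- a point outside the orbit of `a₀`
  have hb : ∃ b : α, ∀ i : ZMod p, x ^ i.val • a₀ ≠ b := by
    by_contra hcon
    have hall : ∀ b : α, ∃ i : ZMod p, x ^ i.val • a₀ = b := by
      intro b
      by_contra h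
      apply hcon
      refine ⟨b, fun i hi => h ⟨i, hi⟩⟩
    have hsurj : Function.Surjective (fun i : ZMod p => x ^ i.val • a₀) := hall
    have := Fintype.card_le_of_surjective _ hsurj
    rw [hα, ZMod.card] at this
    have := hpp.pos
    omega
  obtain ⟨b, hb⟩ := hb
  obtain ⟨g₀, hg₀⟩ := MulAction.exists_smul_eq G a₀ b
  exact ⟨⟨x, a₀, g₀, hxp, hfpf, fun i => by rw [hg₀]; exact hb i⟩, rfl⟩

end Cfsg.Agent.Lib.Helper7.W2p
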