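import Mathlib
import Cfsg.Prelude.Def_FusionSystem
import Cfsg.Agent.Lib.Helper7.WCtlA
import Cfsg.Agent.Lib.Helper7.Core
import Cfsg.Agent.H1.ThompsonFact

set_option autoImplicit false

namespace Cfsg.Agent.Lib.Helper7.WCtl

open Cfsg Cfsg.Agent.Lib.Helper7

universe u

/-- the algebra of a quadratically acting element of order `p` on an abelian normal subgroup -/
theorem quad_pow_central {G : Type*} [Group G] (p : ℕ) (v w g : G) (hw : w = v * (g * v⁻¹ * g⁻¹))
    (hwg : g * w = w * g) (hvw : v * w = w * v) (hgp : g ^ p * v = v * g ^ p) :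
    g * v ^ p = v ^ p * g := by
  have hcw : Commute g w := hwg
  have hcvw : Commute v w := hvw
  have h1 : g * v = w⁻¹ * v * g := by
    rw [hw]; group
  have h2 : ∀ i : ℕ, g ^ i * v = (w⁻¹) ^ i * v * g ^ i := by
    intro i
    induction i with
    | zero => simp
    | succ i ih =>
      have hc : Commute g ((w⁻¹) ^ i) := (hcw.inv_right).pow_right i
      calc g ^ (i + 1) * v = g * (g ^ i * v) := by rw [pow_succ']; group
        _ = g * ((w⁻¹) ^ i * v * g ^ i) := by rw [ih]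
        _ = (g * (w⁻¹) ^ i) * v * g ^ i := by group
        _ = ((w⁻¹) ^ i * g) * v * g ^ i := by rw [hc.eq]
        _ = (w⁻¹) ^ i * (g * v) * g ^ i := by group
        _ = (w⁻¹) ^ i * (w⁻¹ * v * g) * g ^ i := by rw [h1]
        _ = (w⁻¹) ^ (i + 1) * v * g ^ (i + 1) := by rw [pow_succ, pow_succ']; group
  have h3 : (w⁻¹) ^ p = 1 := by
    have := h2 p
    rw [hgp] at this
    have h4 : v * g ^ p = (w⁻¹) ^ p * (v * g ^ p) := this.trans (mul_assoc _ _ _)
    have h5 : (1 : G) * (v * g ^ p) = (w⁻¹) ^ p * (v * g ^ p) := by rw [one_mul]; exact h4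
    exact (mul_right_cancel h5).symm
  have h6 : g * v * g⁻¹ = w⁻¹ * v := by rw [h1]; group
  have h7 : g * v ^ p * g⁻¹ = v ^ p := by
    rw [← conj_pow, h6, (hcvw.inv_right.symm).mul_pow, h3, one_mul]
  calc g * v ^ p = (g * v ^ p * g⁻¹) * g := by group
    _ = v ^ p * g := by rw [h7]

variable {p : ℕ} (W : ∀ (Q : Type u) [Group Q], Subgroup Q)
  (hW2 : ∀ (Q R : Type u) [Group Q] [Group R] [Finite Q], IsPGroup p Q → ∀ φ : Q ≃* R,
    (W Q).map φ.toMonoidHom = W R)

include hW2 in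
/-- transport of `W` along an injective homomorphism of ambient groups -/
theorem WT_map_hom {Ω₁ Ω₂ : Type u} [Group Ω₁] [Group Ω₂] (T : Subgroup Ω₁) [Finite T]
    (hT : IsPGroup p T) (f : Ω₁ →* Ω₂) (hf : Function.Injective f) :
    (WT W T).map f = WT W (T.map f) := by
  set e : ↥T ≃* ↥(T.map f) := T.equivMapOfInjective f hf with he
  have hcoe : ∀ x : T, ((e x : ↥(T.map f)) : Ω₂) = f x := fun x => rfl
  ext y
  constructor
  · rintro ⟨s, hs, rfl⟩
    obtain ⟨hsT, hsW⟩ := (mem_WT_iff W T _).mp hs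
    have h1 := (W_equiv_mem W hW2 hT e ⟨s, hsT⟩).mpr hsW
    exact (mem_WT_iff W (T.map f) _).mpr ⟨(e ⟨s, hsT⟩).2, h1⟩
  · intro hy
    obtain ⟨hyT, hyW⟩ := (mem_WT_iff W (T.map f) _).mp hy
    set x : T := e.symm ⟨y, hyT⟩ with hx
    have hex : e x = ⟨y, hyT⟩ := e.apply_symm_apply _
    have hxW : x ∈ W ↥T := by
      apply (W_equiv_mem W hW2 hT e x).mp
      rw [hex]; exact hyW
    refine ⟨x, (mem_WT_iff W T _).mpr ⟨x.2, hxW⟩, ?_⟩
    have := hcoe x
    rw [hex] at this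
    exact this.symm

end Cfsg.Agent.Lib.Helper7.WCtl
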