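import Mathlib
import Cfsg.Prelude.Def_FusionSystem
import Cfsg.Agent.Lib.Helper7.WCtlQ1

set_option autoImplicit false

namespace Cfsg.Agent.Lib.Helper7.WCtl

open Cfsg Cfsg.Agent.Lib.Helper7
open scoped commutatorElement

universe u

variable {p : ℕ} [Fact p.Prime] (W : ∀ (Q : Type u) [Group Q], Subgroup Q)
  (hW2 : ∀ (Q R : Type u) [Group Q] [Group R] [Finite Q], IsPGroup p Q → ∀ φ : Q ≃* R,
    (W Q).map φ.toMonoidHom = W R)
  (hq : ∀ (G : Type u) [Group G] [Finite G] (P : Sylow p G),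
    ¬ (((W ↥(P : Subgroup G)).map (P : Subgroup G).subtype : Subgroup G)).Normal →
    ∃ g : G, g ∈ (P : Subgroup G) ∧ g ∉ Cfsg.pCore p G ∧
      ⁅⁅Subgroup.center ↥(Cfsg.pCore p G) |>.map (Cfsg.pCore p G).subtype, Subgroup.zpowers g⁆,
        Subgroup.zpowers g⁆ = ⊥)

include hW2 hq in
/-- the local theorem: in a group of characteristic `p`, if `N_G(W(P))` centralizes `x ^ p` for
`x ∈ Z(P)`, then `x ^ p` is central -/
theorem quad_local (n : ℕ) : ∀ (G : Type u) [Group G] [Finite G], Nat.card G = n →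
    ∀ (P : Sylow p G),
      Subgroup.centralizer ((pCore p G : Subgroup G) : Set G) ≤ pCore p G →
      ∀ x ∈ (P : Subgroup G), (∀ t ∈ (P : Subgroup G), t * x = x * t) →
      (∀ m ∈ Subgroup.normalizer ((WT W (P : Subgroup G) : Subgroup G) : Set G),
        m * x ^ p = x ^ p * m) →
      ∀ g : G, g * x ^ p = x ^ p * g := by
  induction n using Nat.strong_induction_on with
  | _ n ih =>
  intro G _ _ hcard P hchar x hxP hxZ hN
  by_contra hcon
  obtain ⟨g₀, hg₀⟩ := not_forall.mp hcon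
  set z := x ^ p with hz
  set M : Subgroup G := Subgroup.centralizer ({z} : Set G) with hMdef
  have hM : ∀ g : G, g ∈ M ↔ g * z = z * g := by
    intro g
    rw [hMdef, Subgroup.mem_centralizer_iff]
    constructor
    · intro h; exact (h z rfl).symm
    · intro h y hy
      rw [Set.mem_singleton_iff.mp hy]; exact h.symm
  set Q : Subgroup G := pCore p G with hQdef
  have hQn : Q.Normal := pCore_normal p G
  have hQp : IsPGroup p ↥Q := pCore_isPGroup p G
  have hQP : Q ≤ (P : Subgroup G) := pCore_le_sylow P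
  -- Step 1: every proper subgroup containing P centralizes z
  have hmax : ∀ H : Subgroup G, (P : Subgroup G) ≤ H → H ≠ ⊤ → H ≤ M := by
    intro H hPH hH
    have hlt : Nat.card ↥H < n := by
      have h1 : Nat.card ↥H ≤ Nat.card G := Subgroup.card_le_card_group H
      have h2 : Nat.card ↥H ≠ Nat.card G := fun h => hH (Subgroup.eq_top_of_card_eq H h)
      omega
    have hQHn : (Q.subgroupOf H).Normal := inferInstance
    have hQHp : IsPGroup p ↥(Q.subgroupOf H) := hQp.comap_subtype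
    have hQH : Q.subgroupOf H ≤ pCore p ↥H := le_pCore hQHn hQHp
    have hcharH : Subgroup.centralizer ((pCore p ↥H : Subgroup ↥H) : Set ↥H) ≤ pCore p ↥H := by
      intro c hc
      apply hQH
      rw [Subgroup.mem_subgroupOf]
      apply hchar
      rw [Subgroup.mem_centralizer_iff]
      intro q hq
      have hqH : q ∈ H := hPH (hQP hq)
      have h1 : (⟨q, hqH⟩ : ↥H) ∈ pCore p ↥H := hQH (Subgroup.mem_subgroupOf.mpr hq)
      have h2 := (Subgroup.mem_centralizer_iff.mp hc) _ h1
      exact congrArg Subtype.val h2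
    have hxH : x ∈ H := hPH hxP
    have hPHcoe : ((P.subtype hPH : Sylow p ↥H) : Subgroup ↥H) = (P : Subgroup G).subgroupOf H :=
      Sylow.coe_subtype P hPH
    have hres := ih (Nat.card ↥H) hlt ↥H rfl (P.subtype hPH) hcharH ⟨x, hxH⟩
      (by rw [hPHcoe]; exact Subgroup.mem_subgroupOf.mpr hxP)
      (by
        intro t ht
        rw [hPHcoe] at ht
        exact Subtype.ext (hxZ t (Subgroup.mem_subgroupOf.mp ht)))
      (by
        intro m hm
        rw [hPHcoe] at hm
        apply Subtype.ext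
        show (m : G) * x ^ p = x ^ p * (m : G)
        apply hN
        have hfinPH : Finite ↥((P : Subgroup G).subgroupOf H) := inferInstance
        have h1 := WT_map_hom W hW2 ((P : Subgroup G).subgroupOf H)
          (P.isPGroup'.comap_subtype) H.subtype H.subtype_injective
        have h2 : ((P : Subgroup G).subgroupOf H).map H.subtype = (P : Subgroup G) := by
          rw [Subgroup.subgroupOf_map_subtype]
          exact inf_of_le_left hPH
        rw [h2] at h1
        rw [← h1]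
        exact Subgroup.le_normalizer_map H.subtype ⟨m, hm, rfl⟩)
    intro h hh
    rw [hM]
    exact congrArg Subtype.val (hres ⟨h, hh⟩)
  -- Step 2: x ∈ Z(Q)
  have hxQ : x ∈ Q := by
    apply hchar
    rw [Subgroup.mem_centralizer_iff]
    intro q hq
    exact hxZ q (hQP hq)
  set Zm : Subgroup G := (Subgroup.center ↥Q).map Q.subtype with hZm
  have hZmQ : Zm ≤ Q := Subgroup.map_subtype_le _
  have hZm_iff : ∀ v : G, v ∈ Zm ↔ v ∈ Q ∧ ∀ q ∈ Q, q * v = v * q := by
    intro v
    constructor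
    · rintro ⟨c, hc, rfl⟩
      refine ⟨c.2, fun q hq => ?_⟩
      have := (Subgroup.mem_center_iff.mp hc) ⟨q, hq⟩
      exact congrArg Subtype.val this
    · rintro ⟨hv, hcomm⟩
      refine ⟨⟨v, hv⟩, ?_, rfl⟩
      show (⟨v, hv⟩ : ↥Q) ∈ Subgroup.center ↥Q
      rw [Subgroup.mem_center_iff]
      intro q
      exact Subtype.ext (hcomm q q.2)
  have hxZm : x ∈ Zm := (hZm_iff x).mpr ⟨hxQ, fun q hq => hxZ q (hQP hq)⟩
  have hZm_comm : ∀ a ∈ Zm, ∀ b ∈ Zm, a * b = b * a := by
    intro a ha b hb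
    exact ((hZm_iff b).mp hb).2 a (hZmQ ha)
  have hZm_conj : ∀ v ∈ Zm, ∀ g : G, g * v * g⁻¹ ∈ Zm := by
    intro v hv g
    obtain ⟨hvQ, hvc⟩ := (hZm_iff v).mp hv
    refine (hZm_iff _).mpr ⟨hQn.conj_mem v hvQ g, fun q hq => ?_⟩
    have hq' : g⁻¹ * q * g ∈ Q := by
      have := hQn.conj_mem q hq g⁻¹
      simpa using this
    have := hvc _ hq'
    calc q * (g * v * g⁻¹) = g * ((g⁻¹ * q * g) * v) * g⁻¹ := by group
      _ = g * (v * (g⁻¹ * q * g)) * g⁻¹ := by rw [this]
      _ = g * v * g⁻¹ * q := by group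
  -- Step 3: the quadratic element
  have hnn : ¬ (((W ↥(P : Subgroup G)).map (P : Subgroup G).subtype : Subgroup G)).Normal := by
    intro hnorm
    apply hg₀
    apply hN
    have : Subgroup.normalizer ((WT W (P : Subgroup G) : Subgroup G) : Set G) = ⊤ :=
      Subgroup.normalizer_eq_top_iff.mpr hnorm
    rw [this]
    exact Subgroup.mem_top _
  obtain ⟨g, hgP, hgQ, hquad⟩ := hq G P hnn
  -- Step 4: the centralizer of the p-th powers
  set Pw : Set G := (fun v => v ^ p) '' (Zm : Set G) with hPw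
  set Ct : Subgroup G := Subgroup.centralizer Pw with hCt
  have hCtn : Ct.Normal := by
    constructor
    intro h hh g
    rw [hCt, Subgroup.mem_centralizer_iff] at hh ⊢
    rintro _ ⟨v, hv, rfl⟩
    have hv' : g⁻¹ * v * g ∈ Zm := by
      have := hZm_conj v hv g⁻¹
      simpa using this
    have h1 := hh ((g⁻¹ * v * g) ^ p) ⟨_, hv', rfl⟩
    have h2 : (g⁻¹ * v * g) ^ p = g⁻¹ * v ^ p * g := by
      have := conj_pow (a := g⁻¹) (b := v) (i := p)
      simpa using this
    rw [h2] at h1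
    show v ^ p * (g * h * g⁻¹) = g * h * g⁻¹ * v ^ p
    calc v ^ p * (g * h * g⁻¹) = g * ((g⁻¹ * v ^ p * g) * h) * g⁻¹ := by group
      _ = g * (h * (g⁻¹ * v ^ p * g)) * g⁻¹ := by rw [h1]
      _ = g * h * g⁻¹ * v ^ p := by group
  have hCtM : Ct ≤ M := by
    intro h hh
    rw [hM]
    rw [hCt, Subgroup.mem_centralizer_iff] at hh
    exact (hh z ⟨x, hxZm, rfl⟩).symm
  have hRQ : (P : Subgroup G) ⊓ Ct ≤ Q := by
    have hfr := Cfsg.Agent.H1.sylow_inf_normalizer_sup_eq_top P Ct
    by_cases htop : Subgroup.normalizer (((P : Subgroup G) ⊓ Ct : Subgroup G) : Set G) = ⊤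
    · have hRn : ((P : Subgroup G) ⊓ Ct).Normal := Subgroup.normalizer_eq_top_iff.mp htop
      exact le_pCore hRn (P.isPGroup'.to_le inf_le_left)
    · exfalso
      have hPle : (P : Subgroup G) ≤
          Subgroup.normalizer (((P : Subgroup G) ⊓ Ct : Subgroup G) : Set G) := by
        intro t ht
        rw [Subgroup.mem_normalizer_iff]
        intro h
        constructor
        · rintro ⟨h1, h2⟩
          exact ⟨(P : Subgroup G).mul_mem ((P : Subgroup G).mul_mem ht h1)
            ((P : Subgroup G).inv_mem ht), hCtn.conj_mem h h2 t⟩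
        · rintro ⟨h1, h2⟩
          have e : h = t⁻¹ * (t * h * t⁻¹) * t⁻¹⁻¹ := by group
          rw [e]
          exact ⟨(P : Subgroup G).mul_mem ((P : Subgroup G).mul_mem ((P : Subgroup G).inv_mem ht) h1)
            ((P : Subgroup G).inv_mem ((P : Subgroup G).inv_mem ht)), hCtn.conj_mem _ h2 t⁻¹⟩
      have h1 := hmax _ hPle htop
      have h2 : (⊤ : Subgroup G) ≤ M := by
        rw [← hfr]
        exact sup_le h1 hCtM
      exact hg₀ ((hM g₀).mp (h2 (Subgroup.mem_top g₀)))
  -- Step 5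
  set C : Subgroup G := Subgroup.centralizer (Zm : Set G) with hC
  have hQC : Q ≤ C := by
    intro q hq
    rw [hC, Subgroup.mem_centralizer_iff]
    intro v hv
    exact (((hZm_iff v).mp hv).2 q hq).symm
  have hCCt : C ≤ Ct := by
    intro h hh
    rw [hC, Subgroup.mem_centralizer_iff] at hh
    rw [hCt, Subgroup.mem_centralizer_iff]
    rintro _ ⟨v, hv, rfl⟩
    have : Commute v h := hh v hv
    exact (this.pow_left p).eq
  have hgC : g ∉ C := fun h => hgQ (hRQ ⟨hgP, hCCt h⟩)
  have hex : ∃ k : ℕ, g ^ (p ^ k) ∈ C := by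
    obtain ⟨k, hk⟩ := P.isPGroup' ⟨g, hgP⟩
    refine ⟨k, ?_⟩
    have : g ^ (p ^ k) = 1 := congrArg Subtype.val hk
    rw [this]; exact C.one_mem
  classical
  set k := Nat.find hex with hk
  have hkC : g ^ (p ^ k) ∈ C := Nat.find_spec hex
  have hk0 : k ≠ 0 := by
    intro h0
    rw [h0] at hkC
    simp at hkC
    exact hgC hkC
  set g' := g ^ (p ^ (k - 1)) with hg'
  have hg'C : g' ∉ C := Nat.find_min hex (Nat.sub_lt (Nat.pos_of_ne_zero hk0) one_pos)
  have hg'p : g' ^ p ∈ C := by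
    have : g' ^ p = g ^ (p ^ k) := by
      rw [hg', ← pow_mul, ← pow_succ, Nat.sub_add_cancel (Nat.pos_of_ne_zero hk0)]
    rw [this]; exact hkC
  have hg'P : g' ∈ (P : Subgroup G) := (P : Subgroup G).pow_mem hgP _
  have hg'z : g' ∈ Subgroup.zpowers g := Subgroup.npow_mem_zpowers g _
  have hg'Ct : g' ∈ Ct := by
    rw [hCt, Subgroup.mem_centralizer_iff]
    rintro _ ⟨v, hv, rfl⟩
    have hwmem : ⁅v, g'⁆ ∈ ⁅Zm, Subgroup.zpowers g⁆ := Subgroup.commutator_mem_commutator hv hg'z
    have hw1 : ⁅⁅v, g'⁆, g'⁆ ∈ ⁅⁅Zm, Subgroup.zpowers g⁆, Subgroup.zpowers g⁆ :=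
      Subgroup.commutator_mem_commutator hwmem hg'z
    rw [hquad, Subgroup.mem_bot] at hw1
    have hw2 : Commute ⁅v, g'⁆ g' := commutatorElement_eq_one_iff_commute.mp hw1
    have hwZm : ⁅v, g'⁆ ∈ Zm := by
      have h1 : ⁅v, g'⁆ = v * (g' * v⁻¹ * g'⁻¹) := by
        rw [commutatorElement_def]; group
      rw [h1]
      exact Zm.mul_mem hv (hZm_conj _ (Zm.inv_mem hv) g')
    have hgpv : g' ^ p * v = v * g' ^ p := by
      rw [hC, Subgroup.mem_centralizer_iff] at hg'p
      exact (hg'p v hv).symm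
    have := quad_pow_central p v ⁅v, g'⁆ g' (by rw [commutatorElement_def]; group) hw2.eq.symm
      (hZm_comm _ hv _ hwZm) hgpv
    exact this.symm
  exact hg'C (hQC (hRQ ⟨hg'P, hg'Ct⟩))

end Cfsg.Agent.Lib.Helper7.WCtl
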