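import Mathlib
import Cfsg.Prelude.Def_FusionSystem
import Cfsg.Agent.Lib.Helper7.WCtlF
import Cfsg.Agent.Lib.Helper7.WCtlQ2

set_option autoImplicit false

namespace Cfsg.Agent.Lib.Helper7.WCtl

open Cfsg Cfsg.FusionSystem Cfsg.Agent.Lib.Helper7 Cfsg.Agent.Lib.Helper7.ModelUq

universe u

variable {p : ℕ} [Fact p.Prime] (W : ∀ (Q : Type u) [Group Q], Subgroup Q)
  (hW2 : ∀ (Q R : Type u) [Group Q] [Group R] [Finite Q], IsPGroup p Q → ∀ φ : Q ≃* R,
    (W Q).map φ.toMonoidHom = W R)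
  (hWZ : ∀ (Q : Type u) [Group Q] [Finite Q], IsPGroup p Q → Subgroup.center Q ≤ W Q)
  (hq : ∀ (G : Type u) [Group G] [Finite G] (P : Sylow p G),
    ¬ (((W ↥(P : Subgroup G)).map (P : Subgroup G).subtype : Subgroup G)).Normal →
    ∃ g : G, g ∈ (P : Subgroup G) ∧ g ∉ Cfsg.pCore p G ∧
      ⁅⁅Subgroup.center ↥(Cfsg.pCore p G) |>.map (Cfsg.pCore p G).subtype, Subgroup.zpowers g⁆,
        Subgroup.zpowers g⁆ = ⊥)

variable {Ω : Type u} [Group Ω] {S : Subgroup Ω}

omit [Fact p.Prime] in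
theorem exists_pow_of_mem_closure (S : Subgroup Ω) (p : ℕ) {w : Ω}
    (hw : w ∈ Subgroup.closure ((fun z => z ^ p) ''
      ((S ⊓ Subgroup.centralizer (S : Set Ω) : Subgroup Ω) : Set Ω))) :
    ∃ x ∈ S, (∀ s ∈ S, s * x = x * s) ∧ w = x ^ p := by
  induction hw using Subgroup.closure_induction with
  | mem a ha =>
    obtain ⟨x, hx, rfl⟩ := ha
    refine ⟨x, hx.1, fun s hs => ?_, rfl⟩
    exact (Subgroup.mem_centralizer_iff.mp hx.2) s hs
  | one => exact ⟨1, S.one_mem, fun s _ => by simp, by simp⟩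
  | mul a b _ _ iha ihb =>
    obtain ⟨x, hx, hxc, rfl⟩ := iha
    obtain ⟨y, hy, hyc, rfl⟩ := ihb
    refine ⟨x * y, S.mul_mem hx hy, fun s hs => ?_, ?_⟩
    · calc s * (x * y) = (s * x) * y := by group
        _ = x * (s * y) := by rw [hxc s hs]; group
        _ = x * y * s := by rw [hyc s hs]; group
    · have : Commute x y := (hyc x hx)
      exact (this.mul_pow p).symm
  | inv a _ iha =>
    obtain ⟨x, hx, hxc, rfl⟩ := iha
    refine ⟨x⁻¹, S.inv_mem hx, fun s hs => ?_, by simp⟩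
    have := hxc s hs
    calc s * x⁻¹ = x⁻¹ * (x * s) * x⁻¹ := by group
      _ = x⁻¹ * (s * x) * x⁻¹ := by rw [this]
      _ = x⁻¹ * s := by group

include hW2 hWZ hq in
/-- `p`-th powers of elements of `Z(S)` lying in `Z(N_F(W(S)))` lie in `Z(F)` -/
theorem pow_center_le [Finite S] (hS : IsPGroup p S) (F : FusionSystem S) (hF : F.IsSaturated p)
    (N : FusionSystem (normalizerIn S (WT W S))) (hN : F.IsNormalizerSystem (WT W S) N) :
    Subgroup.closure ((fun z => z ^ p) ''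
      ((S ⊓ Subgroup.centralizer (S : Set Ω) : Subgroup Ω) : Set Ω)) ⊓ N.center ≤ F.center := by
  have hTS : normalizerIn S (WT W S) ≤ S := inf_le_left
  have hfinT : Finite ↥(normalizerIn S (WT W S)) := finite_of_le hTS
  have hNc := isCentral_center N
  apply le_sSup
  show F.IsCentral _
  rw [isCentral_iff_conj_singletons p hS F hF]
  refine ⟨inf_le_right.trans (hNc.1.trans hTS), fun w hw y hy => ?_⟩
  obtain ⟨x, hxS, hxc, rfl⟩ := exists_pow_of_mem_closure S p hw.1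
  have hzN : x ^ p ∈ N.center := hw.2
  have hz : ∀ g ∈ S, g * x ^ p * g⁻¹ = x ^ p := by
    intro g hg
    have : Commute g x := hxc g hg
    rw [(this.pow_right p).eq, mul_inv_cancel_right]
  apply fixed_of_step W hW2 hS F hF N hN hzN ?_ y hy
  intro D hDn hDc hm
  have hDS : D ≤ S := hDn.1
  have hxD : x ∈ D := by
    apply hDc.2 D (isConj_refl F hDS)
    refine ⟨hxS, ?_⟩
    show x ∈ Subgroup.centralizer (D : Set Ω)
    rw [Subgroup.mem_centralizer_iff]
    intro d hd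
    exact hxc d (hDS hd)
  have hxT : x ∈ normalizerIn S D := ⟨hxS, Subgroup.le_normalizer hxD⟩
  apply local_step_of W hW2 hWZ hS F hF hDn hDc hz ?_ hm
  intro L _ _ ι Sy hinj hSy hchar hzT _ hnorm
  have hpow : (ι ⟨x, hxT⟩) ^ p = ι ⟨x ^ p, hzT⟩ := by
    rw [← map_pow]
    congr 1
  have hres := quad_local W hW2 hq (Nat.card L) L rfl Sy hchar (ι ⟨x, hxT⟩)
    (by rw [hSy]; exact ⟨_, rfl⟩)
    (by
      intro t ht
      rw [hSy] at ht
      obtain ⟨s, rfl⟩ := ht
      rw [← map_mul, ← map_mul]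
      congr 1
      exact Subtype.ext (hxc s ((inf_le_left : normalizerIn S D ≤ S) s.2)))
    (by
      intro m hm'
      rw [hpow]
      exact hnorm m hm')
  rw [Subgroup.mem_center_iff]
  intro g
  rw [← hpow]
  exact hres g

end Cfsg.Agent.Lib.Helper7.WCtl
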