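import Mathlib
import Cfsg.Prelude.Def_LocalStructure
import Cfsg.Agent.Lib.Lead.Conj
import Cfsg.Agent.Lib.Helper7.WeaklyClosed3

set_option autoImplicit false

namespace Cfsg.Agent.Lib.Helper7

open Cfsg Cfsg.Agent.Lib.Lead.Conj
open scoped Pointwise commutatorElement

variable {H : Type*} [Group H] [Finite H] {p : ℕ} [Fact p.Prime]

/-- For `Q` weakly closed and `N` normalized by... (here normal): every `N`-conjugate of `Q` is a
`[N,Q]`-conjugate. -/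
theorem IsWeaklyClosedSubgroup.exists_commutator_conj {Q : Subgroup H} (hQp : IsPGroup p ↥Q)
    (hwc : IsWeaklyClosedSubgroup p Q) (N' : Subgroup H) {n : H} (hn : n ∈ N') :
    ∃ c ∈ ⁅N', Q⁆, cj n Q = cj c Q := by
  have hK : cj n Q ≤ ⁅N', Q⁆ ⊔ Q := by
    rintro _ ⟨q, hq, rfl⟩
    have e : (MulAut.conj n).toMonoidHom q = ⁅n, q⁆ * q := by
      simp [MulAut.conj_apply, commutatorElement_def]
    rw [e]
    exact Subgroup.mul_mem _ ((le_sup_left : ⁅N', Q⁆ ≤ _) (Subgroup.commutator_mem_commutator hn hq))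
      ((le_sup_right : Q ≤ ⁅N', Q⁆ ⊔ Q) hq)
  obtain ⟨k, hk, hke⟩ := IsWeaklyClosedSubgroup.exists_conj_of_le hQp hwc le_sup_right n hK
  have hk' : k ∈ ((⁅N', Q⁆ ⊔ Q : Subgroup H) : Set H) := hk
  rw [Subgroup.coe_mul_of_right_le_normalizer_left _ _ (Subgroup.normalizer_commutator_ge_right N' Q)] at hk'
  obtain ⟨c, hc, q, hq, rfl⟩ := Set.mem_mul.mp hk'
  refine ⟨c, hc, ?_⟩
  rw [hke, ← cj_mul, cj_eq_of_mem_normalizer (Subgroup.le_normalizer hq)]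

theorem weaklyClosed_action_on_normal (Q : Subgroup H) (hQp : IsPGroup p ↥Q)
    (hwc : IsWeaklyClosedSubgroup p Q) (N' : Subgroup H) [hN : N'.Normal] :
    (∀ n : H, n ∈ N' → ∃ a ∈ N' ⊓ Subgroup.normalizer (Q : Set H), ∃ b ∈ ⁅N', Q⁆, n = a * b) ∧
    (∀ c : H, c ∈ ⁅N', Q⁆ → ∃ a ∈ Q ⊓ ⁅N', Q⁆, ∃ b ∈ ⁅⁅N', Q⁆, Q⁆, c = a * b) := by
  have hN1N : ⁅N', Q⁆ ≤ N' := Subgroup.commutator_le_left N' Q
  constructor
  · intro n hn
    obtain ⟨c, hc, hce⟩ := IsWeaklyClosedSubgroup.exists_commutator_conj hQp hwc N' hn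
    have ha : c⁻¹ * n ∈ Subgroup.normalizer (Q : Set H) := by
      apply mem_normalizer_of_cj_eq
      rw [← cj_mul, hce, cj_inv_cj]
    have haN : c⁻¹ * n ∈ N' := N'.mul_mem (N'.inv_mem (hN1N hc)) hn
    refine ⟨c⁻¹ * n, ⟨haN, ha⟩, (c⁻¹ * n)⁻¹ * c * (c⁻¹ * n), ?_, by group⟩
    have hnorm := Subgroup.normalizer_commutator_ge_left N' Q (N'.inv_mem haN)
    have := (Subgroup.mem_normalizer_iff.mp hnorm c).mp hc
    rwa [inv_inv] at this
  · -- N₁ ≤ N₂ ⊔ Q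
    have hN2N1 : ⁅⁅N', Q⁆, Q⁆ ≤ ⁅N', Q⁆ :=
      Subgroup.le_normalizer_iff_commutator_le_left.mp (Subgroup.normalizer_commutator_ge_right N' Q)
    have hM : ⁅N', Q⁆ ≤ ⁅⁅N', Q⁆, Q⁆ ⊔ Q := by
      rw [Subgroup.commutator_le]
      intro n hn q hq
      obtain ⟨c, hc, hce⟩ := IsWeaklyClosedSubgroup.exists_commutator_conj hQp hwc N' hn
      have h1 : n * q * n⁻¹ ∈ cj c Q := by
        rw [← hce]; exact conj_mem_map_conj Q n hq
      obtain ⟨q', hq', hq'e⟩ := h1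
      have e : ⁅n, q⁆ = ⁅c, q'⁆ * q' * q⁻¹ := by
        have : n * q * n⁻¹ = c * q' * c⁻¹ := by
          rw [← hq'e]; simp [MulAut.conj_apply]
        simp only [commutatorElement_def]
        rw [this]; group
      rw [e]
      refine Subgroup.mul_mem _ (Subgroup.mul_mem _ ?_ ?_) ?_
      · exact (le_sup_left : ⁅⁅N', Q⁆, Q⁆ ≤ _) (Subgroup.commutator_mem_commutator hc hq')
      · exact (le_sup_right : Q ≤ ⁅⁅N', Q⁆, Q⁆ ⊔ Q) hq'
      · exact (le_sup_right : Q ≤ ⁅⁅N', Q⁆, Q⁆ ⊔ Q) (Q.inv_mem hq)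
    intro c hc
    have hc' : c ∈ ((⁅⁅N', Q⁆, Q⁆ ⊔ Q : Subgroup H) : Set H) := hM hc
    rw [Subgroup.coe_mul_of_right_le_normalizer_left _ _
      (Subgroup.normalizer_commutator_ge_right ⁅N', Q⁆ Q)] at hc'
    obtain ⟨b', hb', q, hq, rfl⟩ := Set.mem_mul.mp hc'
    have hqN1 : q ∈ ⁅N', Q⁆ := by
      have : q = b'⁻¹ * (b' * q) := by group
      rw [this]
      exact Subgroup.mul_mem _ (Subgroup.inv_mem _ (hN2N1 hb')) hc
    refine ⟨q, ⟨hq, hqN1⟩, q⁻¹ * b' * q, ?_, by group⟩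
    have hnorm := Subgroup.normalizer_commutator_ge_right ⁅N', Q⁆ Q (Q.inv_mem hq)
    have := (Subgroup.mem_normalizer_iff.mp hnorm b').mp hb'
    rwa [inv_inv] at this

end Cfsg.Agent.Lib.Helper7
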