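import Mathlib
import Cfsg.Prelude.Def_LocalStructure
import Cfsg.Agent.Lib.Lead.Conj
import Cfsg.Agent.Lib.Helper7.CharP2
import Cfsg.Agent.Lib.Helper7.StrEmb2
import Cfsg.Agent.H1.PResidual

set_option autoImplicit false

namespace Cfsg.Agent.Lib.Helper7

open Cfsg Cfsg.Agent.Lib.Lead.Conj
open scoped Pointwise commutatorElement

variable {G : Type*} [Group G] [Finite G] {p : ℕ} [Fact p.Prime]

omit [Finite G] [Fact p.Prime] in
theorem mem_normalizer_inf {A B : Subgroup G} {k : G} (h1 : k ∈ Subgroup.normalizer (A : Set G))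
    (h2 : k ∈ Subgroup.normalizer (B : Set G)) : k ∈ Subgroup.normalizer ((A ⊓ B : Subgroup G) : Set G) := by
  rw [Subgroup.mem_normalizer_iff] at h1 h2 ⊢
  intro x
  rw [Subgroup.mem_inf, Subgroup.mem_inf, ← h1 x, ← h2 x]

/-- Core stability lemma: if `W` centralizes `E = [D,Q]`, normalizes the `p`-group `D`, and `[W,Q]` lies in a
subgroup `M` with `C_M(D) ≤ D`, then `[W,Q]` is a `p`-group. -/
theorem isPGroup_commutator_of_stab (D Q W M : Subgroup G) (hD : IsPGroup p ↥D)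
    (hED : ⁅D, Q⁆ ≤ D) (hWD : W ≤ Subgroup.normalizer (D : Set G))
    (hWE : W ≤ Subgroup.centralizer ((⁅D, Q⁆ : Subgroup G) : Set G))
    (hM : M ⊓ Subgroup.centralizer (D : Set G) ≤ D) (hRM : ⁅W, Q⁆ ≤ M) : IsPGroup p ↥(⁅W, Q⁆) := by
  have hStab : IsPGroup p ↥(M ⊓ (Subgroup.centralizer ((⁅D, Q⁆ : Subgroup G) : Set G) ⊓
      commInto D ⁅D, Q⁆ hED)) := by
    apply isPGroup_of_coprime_trivial
    intro z hz hzc
    have hzD : z ∈ Subgroup.centralizer (D : Set G) := by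
      rw [Subgroup.mem_centralizer_iff]
      intro d hd
      have hc : ⁅d, z⁆ ∈ ⁅D, Q⁆ := (mem_commInto hED z).mp hz.2.2 d hd
      obtain ⟨k, hk⟩ := pow_eq_one_of_mem_isPGroup hD (hED hc)
      have hcz : z * ⁅d, z⁆ = ⁅d, z⁆ * z := (Subgroup.mem_centralizer_iff.mp hz.2.1 _ hc).symm
      exact commute_of_coprime_of_commute_commutator d z hzc hcz k hk
    obtain ⟨k, hk⟩ := pow_eq_one_of_mem_isPGroup hD (hM ⟨hz.1, hzD⟩)
    exact eq_one_of_coprime_of_pow_eq_one z hzc k hk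
  have hEnQ : Q ≤ Subgroup.normalizer ((⁅D, Q⁆ : Subgroup G) : Set G) :=
    Subgroup.normalizer_commutator_ge_right _ _
  refine hStab.to_le (le_inf hRM ?_)
  rw [Subgroup.commutator_le]
  intro k hk q hq
  have hkC := hWE hk
  have hqN := hEnQ hq
  have hqNC := normalizer_le_normalizer_centralizer' _ hqN
  refine ⟨?_, ?_⟩
  · have h1 : q * k⁻¹ * q⁻¹ ∈ Subgroup.centralizer ((⁅D, Q⁆ : Subgroup G) : Set G) :=
      (Subgroup.mem_normalizer_iff.mp hqNC k⁻¹).mp (Subgroup.inv_mem _ hkC)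
    have e : ⁅k, q⁆ = k * (q * k⁻¹ * q⁻¹) := by simp only [commutatorElement_def]; group
    rw [e]
    exact Subgroup.mul_mem _ hkC h1
  · have hq1 : q ∈ commInto D ⁅D, Q⁆ hED := by
      intro d hd
      exact Subgroup.commutator_mem_commutator hd hq
    have hq2 : k * q * k⁻¹ ∈ commInto D ⁅D, Q⁆ hED := by
      intro d hd
      have hd' : k⁻¹ * d * k⁻¹⁻¹ ∈ D :=
        (Subgroup.mem_normalizer_iff.mp (Subgroup.inv_mem _ (hWD hk)) d).mp hd
      have h2 : ⁅k⁻¹ * d * k⁻¹⁻¹, q⁆ ∈ ⁅D, Q⁆ := Subgroup.commutator_mem_commutator hd' hq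
      have e : ⁅d, k * q * k⁻¹⁆ = k * ⁅k⁻¹ * d * k⁻¹⁻¹, q⁆ * k⁻¹ := by
        simp only [commutatorElement_def]; group
      rw [e]
      have hkc := Subgroup.mem_centralizer_iff.mp hkC _ h2
      rw [← hkc]
      simpa using h2
    have e : ⁅k, q⁆ = (k * q * k⁻¹) * q⁻¹ := by simp only [commutatorElement_def]
    rw [e]
    exact Subgroup.mul_mem _ hq2 (Subgroup.inv_mem _ hq1)

/-- If `[W,Q]` is a `p`-group and `Q` is a weakly closed subgroup then `W` normalizes `Q`. -/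
theorem le_normalizer_of_isPGroup_commutator {Q W : Subgroup G} (hQp : IsPGroup p ↥Q)
    (hwc : IsWeaklyClosedSubgroup p Q) (hR : IsPGroup p ↥(⁅W, Q⁆)) :
    W ≤ Subgroup.normalizer (Q : Set G) := by
  intro w hw
  apply mem_normalizer_of_cj_eq
  have hRQ : IsPGroup p ↥(⁅W, Q⁆ ⊔ Q) :=
    IsPGroup.to_sup_of_normal_left' hR hQp (Subgroup.normalizer_commutator_ge_right W Q)
  apply IsWeaklyClosedSubgroup.eq_of_le hwc hRQ le_sup_right
  rintro _ ⟨q, hq, rfl⟩
  have e : (MulAut.conj w).toMonoidHom q = ⁅w, q⁆ * q := by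
    simp [MulAut.conj_apply, commutatorElement_def]
  rw [e]
  exact Subgroup.mul_mem _ ((le_sup_left : ⁅W, Q⁆ ≤ _) (Subgroup.commutator_mem_commutator hw hq))
    ((le_sup_right : Q ≤ ⁅W, Q⁆ ⊔ Q) hq)

/-- Step I (relative form). -/
theorem wc_charP_step1 (Q : Subgroup G) (hQp : IsPGroup p ↥Q) (hwc : IsWeaklyClosedSubgroup p Q)
    (H₁ D : Subgroup G) (hDp : IsPGroup p ↥D) (hDH : D ≤ H₁) (hHD : H₁ ≤ Subgroup.normalizer (D : Set G))
    (hchar : H₁ ⊓ Subgroup.centralizer (D : Set G) ≤ D)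
    (hCQ : H₁ ⊓ Subgroup.centralizer (Q : Set G) ≤ Q)
    (L : Subgroup G) (hQL : Q ≤ L) (hLH : L ≤ H₁) :
    ⁅H₁ ⊓ Subgroup.centralizer ((pCoreOf p L : Subgroup G) : Set G), Q⁆ ≤ Q ⊓ pCoreOf p L ∧
    IsPGroup p ↥(H₁ ⊓ Subgroup.centralizer ((pCoreOf p L : Subgroup G) : Set G)) ∧
    L ⊓ Subgroup.centralizer ((pCoreOf p L : Subgroup G) : Set G) ≤ pCoreOf p L := by
  have hLX := le_normalizer_pCoreOf (p := p) L
  have hQH : Q ≤ H₁ := hQL.trans hLH
  -- D ≤ N(Q)
  have hQD : IsPGroup p ↥(D ⊔ Q) := IsPGroup.to_sup_of_normal_left' hDp hQp (hQH.trans hHD)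
  have hDNQ : D ≤ Subgroup.normalizer (Q : Set G) :=
    (le_sup_left.trans Subgroup.le_normalizer).trans
      (IsWeaklyClosedSubgroup.normalizer_le hwc hQD le_sup_right)
  have hED : ⁅D, Q⁆ ≤ D := Subgroup.le_normalizer_iff_commutator_le_left.mp (hQH.trans hHD)
  have hEQ : ⁅D, Q⁆ ≤ Q := Subgroup.le_normalizer_iff_commutator_le_right.mp hDNQ
  have hDLX : D ⊓ L ≤ pCoreOf p L := by
    apply le_pCoreOf inf_le_right _ hDp.to_inf_left
    intro l hl
    have h1 : l ∈ Subgroup.normalizer (D : Set G) := hHD (hLH hl)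
    have h2 : l ∈ Subgroup.normalizer (L : Set G) := Subgroup.le_normalizer hl
    rw [Subgroup.mem_normalizer_iff] at h1 h2 ⊢
    intro x
    rw [Subgroup.mem_inf, Subgroup.mem_inf, ← h1 x, ← h2 x]
  have hEX : ⁅D, Q⁆ ≤ pCoreOf p L := (le_inf hED (hEQ.trans hQL)).trans hDLX
  set K : Subgroup G := H₁ ⊓ Subgroup.centralizer ((pCoreOf p L : Subgroup G) : Set G) with hK
  have hKH : K ≤ H₁ := inf_le_left
  have hKE : K ≤ Subgroup.centralizer ((⁅D, Q⁆ : Subgroup G) : Set G) :=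
    inf_le_right.trans (Subgroup.centralizer_le hEX)
  have hRH : ⁅K, Q⁆ ≤ H₁ := by
    rw [Subgroup.commutator_le]
    intro k hk q hq
    rw [commutatorElement_def]
    exact H₁.mul_mem (H₁.mul_mem (H₁.mul_mem (hKH hk) (hQH hq)) (H₁.inv_mem (hKH hk)))
      (H₁.inv_mem (hQH hq))
  have hRp : IsPGroup p ↥(⁅K, Q⁆) :=
    isPGroup_commutator_of_stab D Q K H₁ hDp hED (hKH.trans hHD) hKE hchar hRH
  have hKNQ : K ≤ Subgroup.normalizer (Q : Set G) := le_normalizer_of_isPGroup_commutator hQp hwc hRp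
  have hRQ : ⁅K, Q⁆ ≤ Q := Subgroup.le_normalizer_iff_commutator_le_right.mp hKNQ
  -- Q normalizes K
  have hLK : L ≤ Subgroup.normalizer (K : Set G) := by
    intro l hl
    have h1 : l ∈ Subgroup.normalizer (H₁ : Set G) := Subgroup.le_normalizer (hLH hl)
    have h2 := (hLX.trans (normalizer_le_normalizer_centralizer' _)) hl
    rw [Subgroup.mem_normalizer_iff] at h1 h2 ⊢
    intro x
    rw [hK, Subgroup.mem_inf, Subgroup.mem_inf, ← h1 x, ← h2 x]
  have hRK : ⁅K, Q⁆ ≤ K := Subgroup.le_normalizer_iff_commutator_le_left.mp (hQL.trans hLK)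
  -- K_L := L ⊓ C(X) is normal in L
  have hKLn : L ≤ Subgroup.normalizer
      ((L ⊓ Subgroup.centralizer ((pCoreOf p L : Subgroup G) : Set G) : Subgroup G) : Set G) := by
    intro l hl
    have h1 : l ∈ Subgroup.normalizer (L : Set G) := Subgroup.le_normalizer hl
    have h2 := (hLX.trans (normalizer_le_normalizer_centralizer' _)) hl
    rw [Subgroup.mem_normalizer_iff] at h1 h2 ⊢
    intro x
    rw [Subgroup.mem_inf, Subgroup.mem_inf, ← h1 x, ← h2 x]
  have hKLK : L ⊓ Subgroup.centralizer ((pCoreOf p L : Subgroup G) : Set G) ≤ K :=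
    inf_le_inf_right _ hLH
  have hRKL : ⁅K, Q⁆ ≤ L ⊓ Subgroup.centralizer ((pCoreOf p L : Subgroup G) : Set G) :=
    le_inf (hRQ.trans hQL) (hRK.trans inf_le_right)
  have hRX : ⁅K, Q⁆ ≤ pCoreOf p L :=
    le_pCoreOf_of_normal_in_normal hRKL inf_le_left hKLn
      (hKLK.trans (Subgroup.normalizer_commutator_ge_left K Q)) hRp
  have hKp : IsPGroup p ↥K := by
    apply isPGroup_of_coprime_trivial
    intro y hy hyc
    have hyX : y ∈ Subgroup.centralizer ((pCoreOf p L : Subgroup G) : Set G) := hy.2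
    have hyQ : y ∈ Subgroup.centralizer (Q : Set G) := by
      rw [Subgroup.mem_centralizer_iff]
      intro q hq
      have hc : ⁅q, y⁆ ∈ ⁅K, Q⁆ := by
        rw [← commutatorElement_inv]
        exact Subgroup.inv_mem _ (Subgroup.commutator_mem_commutator hy hq)
      obtain ⟨k, hk⟩ := pow_eq_one_of_mem_isPGroup hRp hc
      have hcy : y * ⁅q, y⁆ = ⁅q, y⁆ * y := (Subgroup.mem_centralizer_iff.mp hyX _ (hRX hc)).symm
      exact commute_of_coprime_of_commute_commutator q y hyc hcy k hk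
    obtain ⟨k, hk⟩ := pow_eq_one_of_mem_isPGroup hQp (hCQ ⟨hy.1, hyQ⟩)
    exact eq_one_of_coprime_of_pow_eq_one y hyc k hk
  refine ⟨le_inf hRQ hRX, hKp, ?_⟩
  exact le_pCoreOf inf_le_left hKLn (hKp.to_le hKLK)


omit [Finite G] [Fact p.Prime] in
theorem charP_of_inf_centralizer_le {L : Subgroup G}
    (h : L ⊓ Subgroup.centralizer ((pCoreOf p L : Subgroup G) : Set G) ≤ pCoreOf p L) :
    Subgroup.centralizer (pCore p ↥L : Set ↥L) ≤ pCore p ↥L := by
  intro z hz
  have hz' : (z : G) ∈ L ⊓ Subgroup.centralizer ((pCoreOf p L : Subgroup G) : Set G) := by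
    refine Subgroup.mem_inf.mpr ⟨z.2, ?_⟩
    rw [Subgroup.mem_centralizer_iff]
    rintro _ ⟨x, hx, rfl⟩
    have := Subgroup.mem_centralizer_iff.mp hz x hx
    exact congrArg Subtype.val this
  obtain ⟨w, hw, hwe⟩ := h hz'
  have : w = z := Subtype.ext hwe
  rw [← this]; exact hw

omit [Finite G] [Fact p.Prime] in
theorem inf_centralizer_le_of_charP {L : Subgroup G}
    (h : Subgroup.centralizer (pCore p ↥L : Set ↥L) ≤ pCore p ↥L) :
    L ⊓ Subgroup.centralizer ((pCoreOf p L : Subgroup G) : Set G) ≤ pCoreOf p L := by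
  intro z hz
  have hz' : (⟨z, hz.1⟩ : ↥L) ∈ Subgroup.centralizer (pCore p ↥L : Set ↥L) := by
    rw [Subgroup.mem_centralizer_iff]
    intro x hx
    have := Subgroup.mem_centralizer_iff.mp hz.2 (x : G) ⟨x, hx, rfl⟩
    exact Subtype.ext this
  exact ⟨_, h hz', rfl⟩

/-- Step II: characteristic `p` of `L` from an element `y`. -/
theorem wc_charP_step2 (Q : Subgroup G) (hQp : IsPGroup p ↥Q) (hwc : IsWeaklyClosedSubgroup p Q)
    (hCQ : Subgroup.centralizer (Q : Set G) ≤ Q) (y : G)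
    (hchar : Subgroup.centralizer ({y} : Set G) ⊓
      Subgroup.centralizer ((pCoreOf p (Subgroup.centralizer ({y} : Set G)) : Subgroup G) : Set G) ≤
        pCoreOf p (Subgroup.centralizer ({y} : Set G)))
    (L : Subgroup G) (hQL : Q ≤ L) (hyX : y ∈ pCoreOf p L) (hyQ : y ∈ Subgroup.centralizer (Q : Set G)) :
    L ⊓ Subgroup.centralizer ((pCoreOf p L : Subgroup G) : Set G) ≤ pCoreOf p L := by
  have hLX := le_normalizer_pCoreOf (p := p) L
  have hQH : Q ≤ Subgroup.centralizer ({y} : Set G) := by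
    intro q hq
    rw [Subgroup.mem_centralizer_singleton_iff]
    exact Subgroup.mem_centralizer_iff.mp hyQ q hq
  obtain ⟨-, -, h3⟩ := wc_charP_step1 Q hQp hwc (Subgroup.centralizer ({y} : Set G))
    (pCoreOf p (Subgroup.centralizer ({y} : Set G))) (pCoreOf_isPGroup _) (pCoreOf_le _)
    (le_normalizer_pCoreOf _) hchar (inf_le_right.trans hCQ)
    (L ⊓ Subgroup.centralizer ({y} : Set G)) (le_inf hQL hQH) inf_le_right
  -- K_L is normal in L
  have hKLn : L ≤ Subgroup.normalizer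
      ((L ⊓ Subgroup.centralizer ((pCoreOf p L : Subgroup G) : Set G) : Subgroup G) : Set G) := by
    intro l hl
    have h1 : l ∈ Subgroup.normalizer (L : Set G) := Subgroup.le_normalizer hl
    have h2 := (hLX.trans (normalizer_le_normalizer_centralizer' _)) hl
    rw [Subgroup.mem_normalizer_iff] at h1 h2 ⊢
    intro x
    rw [Subgroup.mem_inf, Subgroup.mem_inf, ← h1 x, ← h2 x]
  -- K_L ≤ L₁
  have hKL1 : L ⊓ Subgroup.centralizer ((pCoreOf p L : Subgroup G) : Set G) ≤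
      L ⊓ Subgroup.centralizer ({y} : Set G) := by
    apply inf_le_inf_left
    apply Subgroup.centralizer_le
    intro z hz
    rw [Set.mem_singleton_iff] at hz
    rw [hz]; exact hyX
  have hX2n := le_normalizer_pCoreOf (p := p) (L ⊓ Subgroup.centralizer ({y} : Set G))
  -- K_L ⊓ X₂ ≤ X
  have hKX2 : (L ⊓ Subgroup.centralizer ((pCoreOf p L : Subgroup G) : Set G)) ⊓
      pCoreOf p (L ⊓ Subgroup.centralizer ({y} : Set G)) ≤ pCoreOf p L := by
    apply le_pCoreOf_of_normal_in_normal inf_le_left inf_le_left hKLn _ (pCoreOf_isPGroup _).to_inf_right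
    intro k hk
    exact mem_normalizer_inf (Subgroup.le_normalizer hk) (hX2n (hKL1 hk))
  have hKp : IsPGroup p ↥(L ⊓ Subgroup.centralizer ((pCoreOf p L : Subgroup G) : Set G)) := by
    apply isPGroup_of_coprime_trivial
    intro k hk hkc
    have hkX2 : k ∈ Subgroup.centralizer
        ((pCoreOf p (L ⊓ Subgroup.centralizer ({y} : Set G)) : Subgroup G) : Set G) := by
      rw [Subgroup.mem_centralizer_iff]
      intro x hx
      have hxL : x ∈ L := (pCoreOf_le _ hx).1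
      have hc1 : ⁅x, k⁆ ∈ L ⊓ Subgroup.centralizer ((pCoreOf p L : Subgroup G) : Set G) := by
        have h1 := (Subgroup.mem_normalizer_iff.mp (hKLn hxL) k).mp hk
        have e : ⁅x, k⁆ = (x * k * x⁻¹) * k⁻¹ := by simp only [commutatorElement_def]
        rw [e]
        exact Subgroup.mul_mem _ h1 (Subgroup.inv_mem _ hk)
      have hc2 : ⁅x, k⁆ ∈ pCoreOf p (L ⊓ Subgroup.centralizer ({y} : Set G)) := by
        have h1 := (Subgroup.mem_normalizer_iff.mp (hX2n (hKL1 hk)) x⁻¹).mp (Subgroup.inv_mem _ hx)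
        have e : ⁅x, k⁆ = x * (k * x⁻¹ * k⁻¹) := by simp only [commutatorElement_def]; group
        rw [e]
        exact Subgroup.mul_mem _ hx h1
      have hc3 : ⁅x, k⁆ ∈ pCoreOf p L := hKX2 ⟨hc1, hc2⟩
      obtain ⟨n, hn⟩ := pow_eq_one_of_mem_isPGroup (pCoreOf_isPGroup (p := p) L) hc3
      have hck : k * ⁅x, k⁆ = ⁅x, k⁆ * k := (Subgroup.mem_centralizer_iff.mp hk.2 _ hc3).symm
      exact commute_of_coprime_of_commute_commutator x k hkc hck n hn
    obtain ⟨n, hn⟩ := pow_eq_one_of_mem_isPGroup (pCoreOf_isPGroup (p := p) _) (h3 ⟨hKL1 hk, hkX2⟩)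
    exact eq_one_of_coprime_of_pow_eq_one k hkc n hn
  exact le_pCoreOf inf_le_left hKLn hKp


/-- Step III. -/
theorem wc_charP_step3 (Q : Subgroup G) (hQp : IsPGroup p ↥Q) (hwc : IsWeaklyClosedSubgroup p Q)
    (hCQ : Subgroup.centralizer (Q : Set G) ≤ Q) (y : G)
    (hchar : Subgroup.centralizer ({y} : Set G) ⊓
      Subgroup.centralizer ((pCoreOf p (Subgroup.centralizer ({y} : Set G)) : Subgroup G) : Set G) ≤
        pCoreOf p (Subgroup.centralizer ({y} : Set G)))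
    (L : Subgroup G) (hQL : Q ≤ L) (hyX : y ∈ pCoreOf p L) (hyQ : y ∈ Subgroup.centralizer (Q : Set G)) :
    ⁅Subgroup.centralizer ((pCoreOf p L : Subgroup G) : Set G), Q⁆ ≤ Q ⊓ pCoreOf p L ∧
    IsPGroup p ↥(Subgroup.centralizer ((pCoreOf p L : Subgroup G) : Set G)) := by
  have hLX := le_normalizer_pCoreOf (p := p) L
  have hXp := pCoreOf_isPGroup (p := p) L
  have hLC : L ≤ Subgroup.normalizer
      ((Subgroup.centralizer ((pCoreOf p L : Subgroup G) : Set G) : Subgroup G) : Set G) :=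
    hLX.trans (normalizer_le_normalizer_centralizer' _)
  have hKL := wc_charP_step2 Q hQp hwc hCQ y hchar L hQL hyX hyQ
  set C : Subgroup G := Subgroup.centralizer ((pCoreOf p L : Subgroup G) : Set G) with hCdef
  set W : Subgroup G := (pResidual p ↥C).map C.subtype with hWdef
  have hWC : W ≤ C := Subgroup.map_subtype_le _
  have hWgen : W = Subgroup.closure {g : G | g ∈ C ∧ (orderOf g).Coprime p} :=
    pResidual_map_subtype p C
  have hLW : L ≤ Subgroup.normalizer (W : Set G) := by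
    intro l hl
    apply mem_normalizer_of_cj_le
    unfold cj
    rw [hWgen, MonoidHom.map_closure, Subgroup.closure_le]
    rintro _ ⟨g, ⟨hgC, hgo⟩, rfl⟩
    apply Subgroup.subset_closure
    refine ⟨(Subgroup.mem_normalizer_iff.mp (hLC hl) g).mp hgC, ?_⟩
    show (orderOf ((MulAut.conj l) g)).Coprime p
    rw [MulEquiv.orderOf_eq]; exact hgo
  -- L' = W ⊔ L
  have hCNX : C ≤ Subgroup.normalizer ((pCoreOf p L : Subgroup G) : Set G) :=
    Subgroup.centralizer_le_normalizer _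
  have hXL' : pCoreOf p L ≤ pCoreOf p (W ⊔ L) :=
    le_pCoreOf ((pCoreOf_le L).trans le_sup_right) (sup_le (hWC.trans hCNX) hLX) hXp
  have hQL' : Q ≤ W ⊔ L := hQL.trans le_sup_right
  have h2 := wc_charP_step2 Q hQp hwc hCQ y hchar (W ⊔ L) hQL' (hXL' hyX) hyQ
  have hP''p := pCoreOf_isPGroup (p := p) (W ⊔ L)
  have hL'P'' := le_normalizer_pCoreOf (p := p) (W ⊔ L)
  have hED : ⁅pCoreOf p (W ⊔ L), Q⁆ ≤ pCoreOf p (W ⊔ L) :=
    Subgroup.le_normalizer_iff_commutator_le_left.mp (hQL'.trans hL'P'')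
  have hQP'' : IsPGroup p ↥(pCoreOf p (W ⊔ L) ⊔ Q) :=
    IsPGroup.to_sup_of_normal_left' hP''p hQp (hQL'.trans hL'P'')
  have hP''NQ : pCoreOf p (W ⊔ L) ≤ Subgroup.normalizer (Q : Set G) :=
    (le_sup_left.trans Subgroup.le_normalizer).trans
      (IsWeaklyClosedSubgroup.normalizer_le hwc hQP'' le_sup_right)
  have hEQ : ⁅pCoreOf p (W ⊔ L), Q⁆ ≤ Q := Subgroup.le_normalizer_iff_commutator_le_right.mp hP''NQ
  have hPLX : pCoreOf p (W ⊔ L) ⊓ L ≤ pCoreOf p L := by
    apply le_pCoreOf inf_le_right _ hP''p.to_inf_left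
    intro l hl
    exact mem_normalizer_inf (hL'P'' (le_sup_right (a := W) hl)) (Subgroup.le_normalizer hl)
  have hEX : ⁅pCoreOf p (W ⊔ L), Q⁆ ≤ pCoreOf p L := (le_inf hED (hEQ.trans hQL)).trans hPLX
  have hWE : W ≤ Subgroup.centralizer ((⁅pCoreOf p (W ⊔ L), Q⁆ : Subgroup G) : Set G) :=
    hWC.trans (Subgroup.centralizer_le hEX)
  have hRM : ⁅W, Q⁆ ≤ W ⊔ L := (Subgroup.commutator_le_sup W Q).trans (sup_le_sup_left hQL W)
  have hRp := isPGroup_commutator_of_stab (pCoreOf p (W ⊔ L)) Q W (W ⊔ L) hP''p hED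
    (le_sup_left.trans hL'P'') hWE h2 hRM
  have hWNQ : W ≤ Subgroup.normalizer (Q : Set G) := le_normalizer_of_isPGroup_commutator hQp hwc hRp
  -- C ≤ N(Q)
  have hCNQ : C ≤ Subgroup.normalizer (Q : Set G) := by
    obtain ⟨S, hS, hQS⟩ := exists_isSylowIn_ge hQp (le_sup_right : Q ≤ C ⊔ Q)
    have hSNQ : S ≤ Subgroup.normalizer (Q : Set G) :=
      Subgroup.le_normalizer.trans (IsWeaklyClosedSubgroup.normalizer_le hwc hS.isPGroup hQS)
    have hSC : IsSylowIn p (S ⊓ C) C :=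
      hS.inf_normal C le_sup_left (sup_le Subgroup.le_normalizer (hQL.trans hLC))
    obtain ⟨R, hR⟩ := hSC.exists_sylow
    have h1 := Cfsg.Agent.H1.pResidual_sup_sylow R
    have e1 : (⊤ : Subgroup ↥C).map C.subtype = C := by
      rw [← MonoidHom.range_eq_map, Subgroup.range_subtype]
    have e2 : (pResidual p ↥C ⊔ (R : Subgroup ↥C)).map C.subtype =
        (pResidual p ↥C).map C.subtype ⊔ (R : Subgroup ↥C).map C.subtype := Subgroup.map_sup _ _ _
    have e3 : (R : Subgroup ↥C).map C.subtype = S ⊓ C := by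
      rw [hR, Subgroup.subgroupOf_map_subtype, inf_assoc, inf_idem]
    rw [h1, e1, e3] at e2
    rw [e2]
    exact sup_le hWNQ (inf_le_left.trans hSNQ)
  have hRQ : ⁅C, Q⁆ ≤ Q := Subgroup.le_normalizer_iff_commutator_le_right.mp hCNQ
  have hRC : ⁅C, Q⁆ ≤ C := Subgroup.le_normalizer_iff_commutator_le_left.mp (hQL.trans hLC)
  have hRX : ⁅C, Q⁆ ≤ pCoreOf p L := (le_inf (hRQ.trans hQL) hRC).trans hKL
  refine ⟨le_inf hRQ hRX, ?_⟩
  apply isPGroup_of_coprime_trivial
  intro k hk hkc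
  have hkQ : k ∈ Subgroup.centralizer (Q : Set G) := by
    rw [Subgroup.mem_centralizer_iff]
    intro q hq
    have hc : ⁅q, k⁆ ∈ ⁅C, Q⁆ := by
      rw [← commutatorElement_inv]
      exact Subgroup.inv_mem _ (Subgroup.commutator_mem_commutator hk hq)
    obtain ⟨n, hn⟩ := pow_eq_one_of_mem_isPGroup hXp (hRX hc)
    have hck : k * ⁅q, k⁆ = ⁅q, k⁆ * k := (Subgroup.mem_centralizer_iff.mp hk _ (hRX hc)).symm
    exact commute_of_coprime_of_commute_commutator q k hkc hck n hn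
  obtain ⟨n, hn⟩ := pow_eq_one_of_mem_isPGroup hQp (hCQ hkQ)
  exact eq_one_of_coprime_of_pow_eq_one k hkc n hn

theorem wc_self_centralizing_charP (Q : Subgroup G) (hQp : IsPGroup p ↥Q)
    (hwc : IsWeaklyClosedSubgroup p Q) (hCQ : Subgroup.centralizer (Q : Set G) ≤ Q)
    (L : Subgroup G) (hQL : Q ≤ L)
    (hyp : Subgroup.centralizer (pCore p G : Set G) ≤ pCore p G ∨
      ∃ y : G, y ≠ 1 ∧ y ∈ pCoreOf p L ⊓ Subgroup.centralizer (Q : Set G) ∧
        Subgroup.centralizer (pCore p ↥(Subgroup.centralizer ({y} : Set G)) :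
          Set ↥(Subgroup.centralizer ({y} : Set G))) ≤ pCore p ↥(Subgroup.centralizer ({y} : Set G))) :
    ⁅Q, Subgroup.centralizer ((pCoreOf p L : Subgroup G) : Set G)⁆ ≤ Q ⊓ pCoreOf p L ∧
    IsPGroup p ↥(Subgroup.centralizer ((pCoreOf p L : Subgroup G) : Set G)) ∧
    Subgroup.centralizer (pCore p ↥L : Set ↥L) ≤ pCore p ↥L := by
  rcases hyp with h | ⟨y, -, hy, hchar⟩
  · obtain ⟨h1, h2, h3⟩ := wc_charP_step1 Q hQp hwc ⊤ (pCore p G) (pCore_isPGroup p G) le_top
      (by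
        haveI := pCore_normal p G
        rw [Subgroup.normalizer_eq_top_iff.mpr inferInstance])
      (by rw [top_inf_eq]; exact h) (by rw [top_inf_eq]; exact hCQ) L hQL le_top
    rw [top_inf_eq] at h1 h2
    refine ⟨?_, h2, charP_of_inf_centralizer_le h3⟩
    rw [Subgroup.commutator_comm]; exact h1
  · have hchar' := inf_centralizer_le_of_charP hchar
    obtain ⟨h1, h2⟩ := wc_charP_step3 Q hQp hwc hCQ y hchar' L hQL hy.1 hy.2
    have h3 := wc_charP_step2 Q hQp hwc hCQ y hchar' L hQL hy.1 hy.2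
    refine ⟨?_, h2, charP_of_inf_centralizer_le h3⟩
    rw [Subgroup.commutator_comm]; exact h1

end Cfsg.Agent.Lib.Helper7
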