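import Mathlib
import Cfsg.Prelude.Def_Solvable
import Cfsg.Agent.Lib.Lead.Conj
import Cfsg.Agent.Lib.Helper7.Core
import Cfsg.Agent.S0034
import Cfsg.Agent.S0035

set_option autoImplicit false

namespace Cfsg.Agent.Lib.Helper7

open Cfsg Cfsg.Agent.Lib.Lead.Conj
open scoped Pointwise

universe u

/-- the hypotheses on a weakly closed `p`-element centralizing all `p'`-subgroups it normalizes -/
structure WCHyp (p : ℕ) {G : Type u} [Group G] (x : G) : Prop where
  pelt : ∃ k : ℕ, x ^ (p ^ k) = 1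
  wc : ∀ P : Subgroup G, IsPGroup p ↥P → x ∈ P → ∀ g : G, g⁻¹ * x * g ∈ P → g⁻¹ * x * g = x
  cent : ∀ H : Subgroup G, (Nat.card ↥H).Coprime p → (∀ h ∈ H, x * h * x⁻¹ ∈ H) → ∀ h ∈ H, x * h = h * x

theorem WCHyp.of_sylow {p : ℕ} [Fact p.Prime] {G : Type u} [Group G] [Finite G] (S : Sylow p G) (x : G)
    (hx : x ∈ S) (hU : ∀ g : G, g⁻¹ * x * g ∈ S → g⁻¹ * x * g = x)
    (hb : ∀ H : Subgroup G, (Nat.card ↥H).Coprime p → (∀ h ∈ H, x * h * x⁻¹ ∈ H) → ∀ h ∈ H, x * h = h * x) :
    WCHyp p x := by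
  refine ⟨?_, ?_, hb⟩
  · obtain ⟨k, hk⟩ := S.2 ⟨x, hx⟩
    refine ⟨k, ?_⟩
    have := congrArg Subtype.val hk
    simpa using this
  · intro P hP hxP g hg
    obtain ⟨S', hS'⟩ := hP.exists_le_sylow
    obtain ⟨a, ha⟩ := MulAction.exists_smul_eq G S S'
    have hmem : ∀ w : G, w ∈ S' → a⁻¹ * w * a ∈ S := by
      intro w hw
      rw [← ha] at hw
      have hw' : w ∈ MulAut.conj a • (S : Subgroup G) := hw
      rw [Subgroup.mem_pointwise_smul_iff_inv_smul_mem] at hw'
      have hw'' : a⁻¹ * w * a ∈ (S : Subgroup G) := by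
        simpa [MulAut.smul_def, MulAut.conj_inv_apply] using hw'
      exact hw''
    have h1 := hU a (hmem x (hS' hxP))
    have h2 := hU (g * a) (by
      have := hmem _ (hS' hg)
      have e : (g * a)⁻¹ * x * (g * a) = a⁻¹ * (g⁻¹ * x * g) * a := by group
      rw [e]; exact this)
    have e : g⁻¹ * x * g = a * ((g * a)⁻¹ * x * (g * a)) * a⁻¹ := by group
    rw [e, h2]
    calc a * x * a⁻¹ = a * (a⁻¹ * x * a) * a⁻¹ := by rw [h1]
      _ = x := by group

theorem WCHyp.restrict {p : ℕ} {G : Type u} [Group G] {x : G} (h : WCHyp p x) (H : Subgroup G) (hxH : x ∈ H) :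
    WCHyp p (⟨x, hxH⟩ : ↥H) := by
  refine ⟨?_, ?_, ?_⟩
  · obtain ⟨k, hk⟩ := h.pelt
    exact ⟨k, Subtype.ext (by simpa using hk)⟩
  · intro P hP hxP g hg
    apply Subtype.ext
    have := h.wc (P.map H.subtype) (hP.map _) ⟨_, hxP, rfl⟩ (g : G) ⟨_, hg, by simp⟩
    simpa using this
  · intro K hK hinv k hk
    apply Subtype.ext
    have := h.cent (K.map H.subtype)
      (by rw [Subgroup.card_map_of_injective H.subtype_injective]; exact hK)
      (by
        rintro _ ⟨k', hk', rfl⟩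
        exact ⟨_, hinv k' hk', by simp⟩)
      (k : G) ⟨k, hk, rfl⟩
    simpa using this

section step

variable {p : ℕ} [Fact p.Prime] {G : Type u} [Group G] [Finite G] (x : G) (h : WCHyp p x)
  (IH : ∀ (H : Type u) [Group H] [Finite H] (y : H), Nat.card H < Nat.card G → WCHyp p y →
    y ∈ Subgroup.center H)

include h in
omit [Finite G] in
theorem WCHyp.isPGroup_zpowers : IsPGroup p ↥(Subgroup.zpowers x) := by
  have hp : p.Prime := Fact.out
  obtain ⟨k, hk⟩ := h.pelt
  obtain ⟨j, -, hj⟩ := (Nat.dvd_prime_pow hp).mp (orderOf_dvd_of_pow_eq_one hk)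
  exact IsPGroup.of_card (n := j) (by rw [Nat.card_zpowers, hj])

include h IH in
/-- every proper subgroup containing `x` centralizes `x` -/
theorem WCHyp.step1 (H : Subgroup G) (hxH : x ∈ H) (hH : H ≠ ⊤) : ∀ w ∈ H, w * x = x * w := by
  intro w hw
  have hlt : Nat.card ↥H < Nat.card G := by
    by_contra hge
    push Not at hge
    exact hH (Subgroup.eq_top_of_le_card H hge)
  have h1 := IH ↥H ⟨x, hxH⟩ hlt (h.restrict H hxH)
  have h2 := Subgroup.mem_center_iff.mp h1 ⟨w, hw⟩
  exact congrArg Subtype.val h2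

include h IH in
/-- two distinct conjugates of `x` generate `G` -/
theorem WCHyp.closure_eq_top (g : G) (hg : g * x * g⁻¹ ≠ x) :
    Subgroup.closure ({x, g * x * g⁻¹} : Set G) = ⊤ := by
  by_contra hW
  have hxW : x ∈ Subgroup.closure ({x, g * x * g⁻¹} : Set G) :=
    Subgroup.subset_closure (Set.mem_insert _ _)
  have hyW : g * x * g⁻¹ ∈ Subgroup.closure ({x, g * x * g⁻¹} : Set G) :=
    Subgroup.subset_closure (Set.mem_insert_of_mem _ (Set.mem_singleton _))
  have h1 := h.step1 x IH _ hxW hW _ hyW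
  -- `⟨x⟩⟨y⟩` is a `p`-group
  have hxp := h.isPGroup_zpowers x
  have hyp : IsPGroup p ↥(Subgroup.zpowers (g * x * g⁻¹)) := by
    have : Subgroup.zpowers (g * x * g⁻¹) = (Subgroup.zpowers x).map (MulAut.conj g).toMonoidHom := by
      rw [MonoidHom.map_zpowers]; rfl
    rw [this]
    exact hxp.map _
  have hnorm : Subgroup.zpowers (g * x * g⁻¹) ≤ Subgroup.normalizer (Subgroup.zpowers x : Set G) := by
    rw [Subgroup.zpowers_le]
    apply mem_normalizer_of_conj_mem
    rintro _ ⟨k, rfl⟩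
    refine ⟨k, ?_⟩
    show x ^ k = g * x * g⁻¹ * x ^ k * (g * x * g⁻¹)⁻¹
    have hc : Commute (g * x * g⁻¹) (x ^ k) := (show Commute (g * x * g⁻¹) x from h1).zpow_right k
    rw [hc.eq]; group
  have hP : IsPGroup p ↥(Subgroup.zpowers x ⊔ Subgroup.zpowers (g * x * g⁻¹)) :=
    IsPGroup.to_sup_of_normal_left' hxp hyp hnorm
  have h2 := h.wc _ hP (Subgroup.mem_sup_left (Subgroup.mem_zpowers x)) g⁻¹
    (by rw [inv_inv]; exact Subgroup.mem_sup_right (Subgroup.mem_zpowers _))
  rw [inv_inv] at h2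
  exact hg h2

include h IH in
/-- the intersection of two distinct conjugates of `C_G(x)` is central -/
theorem WCHyp.inter_le_center (g : G) (hg : g ∉ Subgroup.centralizer ({x} : Set G)) (d : G)
    (hd1 : d ∈ Subgroup.centralizer ({x} : Set G)) (hd2 : g⁻¹ * d * g ∈ Subgroup.centralizer ({x} : Set G)) :
    d ∈ Subgroup.center G := by
  have hne : g * x * g⁻¹ ≠ x := by
    intro he
    apply hg
    rw [Subgroup.mem_centralizer_iff]
    intro z hz
    rw [Set.mem_singleton_iff] at hz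
    subst hz
    calc z * g = (g * z * g⁻¹) * g := by rw [he]
      _ = g * z := by group
  have htop := h.closure_eq_top x IH g hne
  have hle : Subgroup.closure ({x, g * x * g⁻¹} : Set G) ≤ Subgroup.centralizer ({d} : Set G) := by
    rw [Subgroup.closure_le]
    intro w hw
    rw [SetLike.mem_coe, Subgroup.mem_centralizer_iff]
    intro z hz
    rw [Set.mem_singleton_iff] at hz
    subst hz
    rcases hw with rfl | hw
    · exact (Subgroup.mem_centralizer_iff.mp hd1 w rfl).symm
    · rw [Set.mem_singleton_iff] at hw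
      subst hw
      have h3 := Subgroup.mem_centralizer_iff.mp hd2 x rfl
      calc z * (g * x * g⁻¹) = g * ((g⁻¹ * z * g) * x) * g⁻¹ := by group
        _ = g * (x * (g⁻¹ * z * g)) * g⁻¹ := by rw [h3]
        _ = g * x * g⁻¹ * z := by group
  rw [htop] at hle
  rw [Subgroup.mem_center_iff]
  intro w
  have := Subgroup.mem_centralizer_iff.mp (hle (Subgroup.mem_top w)) d rfl
  exact this.symm

include h in
/-- lifting: `x` centralizes a normal subgroup `K` which is a `p'`-group modulo the centre -/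
theorem WCHyp.centralizes_of_central_ext (K : Subgroup G) [hKn : K.Normal] (t : ℕ) (ht : t.Coprime p)
    (hK : ∀ k ∈ K, k ^ t ∈ Subgroup.center G) : ∀ k ∈ K, x * k = k * x := by
  have hp : p.Prime := Fact.out
  let P₀ : Sylow p ↥K := default
  have hP₀Z : ∀ z : ↥K, z ∈ P₀ → (z : G) ∈ Subgroup.center G := by
    intro z hz
    obtain ⟨j, hj⟩ := P₀.2 ⟨z, hz⟩
    have hj' : (z : G) ^ (p ^ j) = 1 := by
      have := congrArg Subtype.val (congrArg Subtype.val hj)
      simpa using this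
    have h1 : (QuotientGroup.mk' (Subgroup.center G) (z : G)) ^ t = 1 := by
      rw [← map_pow]; exact (QuotientGroup.eq_one_iff _).mpr (hK _ z.2)
    have h2 : (QuotientGroup.mk' (Subgroup.center G) (z : G)) ^ (p ^ j) = 1 := by
      rw [← map_pow, hj', map_one]
    have h3 := pow_gcd_eq_one.mpr ⟨h1, h2⟩
    rw [Nat.Coprime.gcd_eq_one (Nat.Coprime.pow_right j ht), pow_one] at h3
    exact (QuotientGroup.eq_one_iff _).mp h3
  have hNC : Subgroup.normalizer ((P₀ : Subgroup ↥K) : Set ↥K) ≤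
      Subgroup.centralizer ((P₀ : Subgroup ↥K) : Set ↥K) := by
    intro g _
    rw [Subgroup.mem_centralizer_iff]
    intro z hz
    apply Subtype.ext
    exact (Subgroup.mem_center_iff.mp (hP₀Z z hz) (g : G)).symm
  have hcompl := MonoidHom.ker_transferSylow_isComplement' P₀ hNC
  have hndvd := MonoidHom.not_dvd_card_ker_transferSylow P₀ hNC
  set Q₀ : Subgroup ↥K := (MonoidHom.transferSylow P₀ hNC).ker with hQ₀
  have hQcop : (Nat.card ↥Q₀).Coprime p := ((Nat.Prime.coprime_iff_not_dvd hp).mpr hndvd).symm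
  -- `x` centralizes `Q₀`
  have hQ : ∀ q ∈ Q₀.map K.subtype, x * q = q * x := by
    apply h.cent
    · rw [Subgroup.card_map_of_injective K.subtype_injective]; exact hQcop
    · rintro _ ⟨q, hq, rfl⟩
      refine ⟨⟨x * (q : G) * x⁻¹, hKn.conj_mem _ q.2 x⟩, ?_, rfl⟩
      rw [SetLike.mem_coe, hQ₀, MonoidHom.mem_ker]
      set k' : ↥K := ⟨x * (q : G) * x⁻¹, hKn.conj_mem _ q.2 x⟩ with hk'
      obtain ⟨j, hj⟩ := P₀.2 (MonoidHom.transferSylow P₀ hNC k')
      have ho : orderOf k' = orderOf q := by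
        rw [← Subgroup.orderOf_coe k', ← Subgroup.orderOf_coe q]
        exact orderOf_conj x (q : G)
      have h1 : (MonoidHom.transferSylow P₀ hNC k') ^ (orderOf q) = 1 := by
        rw [← map_pow, ← ho, pow_orderOf_eq_one, map_one]
      have h3 := pow_gcd_eq_one.mpr ⟨h1, hj⟩
      have hcop : (orderOf q).Coprime (p ^ j) :=
        Nat.Coprime.pow_right j (Nat.Coprime.coprime_dvd_left (Subgroup.orderOf_dvd_natCard Q₀ hq) hQcop)
      rw [Nat.Coprime.gcd_eq_one hcop, pow_one] at h3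
      exact h3
  intro k hk
  obtain ⟨⟨⟨q, hq⟩, ⟨z, hz⟩⟩, hqz, -⟩ := Subgroup.IsComplement.existsUnique hcompl ⟨k, hk⟩
  have hk' : k = (q : G) * (z : G) := by
    have := congrArg Subtype.val hqz
    simpa using this.symm
  have h1 : x * (q : G) = (q : G) * x := hQ _ ⟨q, hq, rfl⟩
  have h2 : (z : G) * x = x * (z : G) := Subgroup.mem_center_iff.mp (hP₀Z z hz) x |>.symm
  rw [hk']
  calc x * ((q : G) * (z : G)) = (x * (q : G)) * (z : G) := by group
    _ = (q : G) * (x * (z : G)) := by rw [h1]; group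
    _ = (q : G) * (z : G) * x := by rw [← h2]; group

include h IH in
theorem WCHyp.central_of_step : x ∈ Subgroup.center G := by
  have hp : p.Prime := Fact.out
  by_contra hxZ
  have hZM : Subgroup.center G ≤ Subgroup.centralizer ({x} : Set G) := Subgroup.center_le_centralizer _
  have hxM : x ∈ Subgroup.centralizer ({x} : Set G) :=
    Subgroup.mem_centralizer_iff.mpr (by intro z hz; rw [Set.mem_singleton_iff.mp hz])
  have hker : (QuotientGroup.mk' (Subgroup.center G)).ker = Subgroup.center G := QuotientGroup.ker_mk' _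
  set Mb := (Subgroup.centralizer ({x} : Set G)).map (QuotientGroup.mk' (Subgroup.center G)) with hMb
  have hF : Cfsg.IsFrobeniusComplement Mb := by
    refine ⟨?_, ?_, ?_⟩
    · intro hbot
      rw [hMb, Subgroup.map_eq_bot_iff, hker] at hbot
      exact hxZ (hbot hxM)
    · intro htop
      have h1 : Mb.comap (QuotientGroup.mk' (Subgroup.center G)) = ⊤ := by rw [htop, Subgroup.comap_top]
      rw [hMb, Subgroup.comap_map_eq, hker, sup_eq_left.mpr hZM] at h1
      apply hxZ
      rw [Subgroup.mem_center_iff]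
      intro w
      have hw : w ∈ Subgroup.centralizer ({x} : Set G) := h1 ▸ Subgroup.mem_top w
      exact (Subgroup.mem_centralizer_iff.mp hw x rfl).symm
    · intro gb hgb
      obtain ⟨g, rfl⟩ := QuotientGroup.mk'_surjective (Subgroup.center G) gb
      have hgM : g ∉ Subgroup.centralizer ({x} : Set G) := fun hg => hgb ⟨g, hg, rfl⟩
      rw [eq_bot_iff]
      rintro ub ⟨hu1, hu2⟩
      rw [Subgroup.mem_bot]
      obtain ⟨m₁, hm₁, rfl⟩ := hu1
      have hu2' : (QuotientGroup.mk' (Subgroup.center G)) m₁ ∈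
          MulAut.conj ((QuotientGroup.mk' (Subgroup.center G)) g) • Mb := hu2
      rw [Subgroup.mem_pointwise_smul_iff_inv_smul_mem] at hu2'
      have hu3 : (QuotientGroup.mk' (Subgroup.center G)) (g⁻¹ * m₁ * g) ∈ Mb := by
        simpa [MulAut.smul_def, MulAut.conj_inv_apply] using hu2'
      obtain ⟨m₂, hm₂, hm₂e⟩ := hu3
      have hz : m₂⁻¹ * (g⁻¹ * m₁ * g) ∈ Subgroup.center G := by
        rw [← hker, MonoidHom.mem_ker, map_mul, map_inv, hm₂e, inv_mul_cancel]
      have h3 : g⁻¹ * m₁ * g ∈ Subgroup.centralizer ({x} : Set G) := by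
        have e : g⁻¹ * m₁ * g = m₂ * (m₂⁻¹ * (g⁻¹ * m₁ * g)) := by group
        rw [e]; exact Subgroup.mul_mem _ hm₂ (hZM hz)
      have h4 := h.inter_le_center x IH g hgM m₁ hm₁ h3
      exact (QuotientGroup.eq_one_iff m₁).mpr h4
  obtain ⟨Nb, -, hNbn, hcompl⟩ := Cfsg.Agent.S0035.result Mb hF
  obtain ⟨-, hmod⟩ := Cfsg.Agent.S0034.result Mb hF
  have hpM : p ∣ Nat.card ↥Mb := by
    have hxb : (QuotientGroup.mk' (Subgroup.center G)) x ∈ Mb := ⟨x, hxM, rfl⟩
    have hxb1 : (QuotientGroup.mk' (Subgroup.center G)) x ≠ 1 :=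
      fun h1 => hxZ ((QuotientGroup.eq_one_iff x).mp h1)
    obtain ⟨k, hk⟩ := h.pelt
    have hk' : ((QuotientGroup.mk' (Subgroup.center G)) x) ^ (p ^ k) = 1 := by
      rw [← map_pow, hk, map_one]
    obtain ⟨j, -, hj⟩ := (Nat.dvd_prime_pow hp).mp (orderOf_dvd_of_pow_eq_one hk')
    have hj0 : j ≠ 0 := by
      rintro rfl
      rw [pow_zero, orderOf_eq_one_iff] at hj
      exact hxb1 hj
    have h2 : p ∣ orderOf ((QuotientGroup.mk' (Subgroup.center G)) x) := by
      rw [hj]; exact dvd_pow_self p hj0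
    exact h2.trans (Subgroup.orderOf_dvd_natCard Mb hxb)
  have hNcard : Nat.card ↥Nb = Mb.index := hcompl.index_eq_card.symm
  have hNcop : (Nat.card ↥Nb).Coprime p := by
    rw [Nat.coprime_comm, Nat.Prime.coprime_iff_not_dvd hp, hNcard]
    intro hdvd
    have h1 : Mb.index ≡ 1 [MOD Nat.card ↥Mb] := hmod
    have h2 : Mb.index ≡ 1 [MOD p] := h1.of_dvd hpM
    have h3 : Mb.index ≡ 0 [MOD p] := (Nat.modEq_zero_iff_dvd).mpr hdvd
    have h4 : 1 ≡ 0 [MOD p] := h2.symm.trans h3
    have h5 := (Nat.modEq_zero_iff_dvd).mp h4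
    exact hp.one_lt.ne' (Nat.dvd_one.mp h5)
  haveI := hNbn
  haveI hKn : (Nb.comap (QuotientGroup.mk' (Subgroup.center G))).Normal := Subgroup.Normal.comap hNbn _
  have hKM := h.centralizes_of_central_ext x (Nb.comap (QuotientGroup.mk' (Subgroup.center G)))
    (Nat.card ↥Nb) hNcop (by
      intro k hk
      rw [Subgroup.mem_comap] at hk
      have h1 : ((QuotientGroup.mk' (Subgroup.center G)) k) ^ (Nat.card ↥Nb) = 1 := by
        apply orderOf_dvd_iff_pow_eq_one.mp
        exact Subgroup.orderOf_dvd_natCard Nb hk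
      rw [← map_pow] at h1
      exact (QuotientGroup.eq_one_iff _).mp h1)
  have hNM : Nb ≤ Mb := by
    intro nb hnb
    obtain ⟨k, rfl⟩ := QuotientGroup.mk'_surjective (Subgroup.center G) nb
    refine ⟨k, ?_, rfl⟩
    rw [SetLike.mem_coe, Subgroup.mem_centralizer_iff]
    intro z hz
    rw [Set.mem_singleton_iff] at hz
    subst hz
    exact hKM k hnb
  have hNbot : Nb = ⊥ := by
    rw [eq_bot_iff]
    intro nb hnb
    have := hcompl.disjoint.le_bot ⟨hnb, hNM hnb⟩
    exact this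
  rw [hNbot, Subgroup.isComplement'_bot_left] at hcompl
  exact hF.2.1 hcompl

end step

/-- the theorem by induction on the order -/
theorem WCHyp.central_aux {p : ℕ} [Fact p.Prime] : ∀ (n : ℕ) (G : Type u) [Group G] [Finite G] (x : G),
    Nat.card G = n → WCHyp p x → x ∈ Subgroup.center G := by
  intro n
  induction n using Nat.strong_induction_on with
  | _ n ih =>
    intro G _ _ x hn h
    apply h.central_of_step x
    intro H _ _ y hlt hy
    exact ih (Nat.card H) (hn ▸ hlt) H y rfl hy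

theorem central_of_weaklyClosed_of_centralizes {G : Type u} [Group G] [Finite G] {p : ℕ} [Fact p.Prime]
    (S : Sylow p G) (x : G) (hx : x ∈ S)
    (hU : ∀ g : G, g⁻¹ * x * g ∈ S → g⁻¹ * x * g = x)
    (hb : ∀ H : Subgroup G, (Nat.card ↥H).Coprime p → (∀ h ∈ H, x * h * x⁻¹ ∈ H) → ∀ h ∈ H, x * h = h * x) :
    x ∈ Subgroup.center G :=
  WCHyp.central_aux _ G x rfl (WCHyp.of_sylow S x hx hU hb)

end Cfsg.Agent.Lib.Helper7
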