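import Mathlib
import Cfsg.Prelude.Def_LocalStructure
import Cfsg.Prelude.Def_LocalEven
import Cfsg.Prelude.Def_Amalgam
import Cfsg.Agent.Lib.Helper7.YMinimal
import Cfsg.Agent.Lib.Helper7.PReduced8
import Cfsg.Agent.H1.Card

set_option autoImplicit false

namespace Cfsg.Agent.Lib.Helper7

open Cfsg

variable {L : Type*} [Group L] [Finite L] {p : ℕ} [Fact p.Prime]

/-- A subgroup `N` whose (ambient) Sylow `p`-subgroup `R` is normalized by `N` is `p`-closed, and
`O_p(N) = R`. -/
theorem isPClosed_of_isSylowIn_normal {R N : Subgroup L} (hR : IsSylowIn p R N)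
    (hN : N ≤ Subgroup.normalizer (R : Set L)) :
    IsPClosed p ↥N ∧ (∀ Q : Sylow p ↥N, (Q : Subgroup ↥N) = R.subgroupOf N) ∧
      pCore p ↥N = R.subgroupOf N := by
  have hn : (R.subgroupOf N).Normal := (Subgroup.normal_subgroupOf_iff_le_normalizer hR.1).mpr hN
  have hQ : ∀ Q : Sylow p ↥N, (Q : Subgroup ↥N) = R.subgroupOf N := by
    intro Q
    obtain ⟨n, hn', e⟩ := hR.conj (IsSylowIn.of_sylow Q)
    have e2 : R.map (MulAut.conj n).toMonoidHom = R := by
      apply Cfsg.Agent.Lib.Lead.Conj.map_conj_eq_of_le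
      rintro _ ⟨r, hr, rfl⟩
      exact (Subgroup.mem_normalizer_iff.mp (hN hn') r).mp hr
    rw [e2] at e
    rw [← e]
    exact (Subgroup.comap_map_eq_self_of_injective N.subtype_injective _).symm
  refine ⟨fun Q => by rw [hQ Q]; exact hn, hQ, ?_⟩
  obtain ⟨Q, hQ'⟩ := hR.exists_sylow
  apply le_antisymm
  · rw [← hQ']; exact pCore_le_sylow Q
  · exact le_pCore hn (hR.isPGroup.comap_subtype)

/-- If `M ⊔ D = ⊤` with `D` normal, and `O` is a Sylow `p`-subgroup of `D` contained in `M`, then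
`M` contains a Sylow `p`-subgroup of the whole group. -/
theorem exists_sylow_le_of_sup_eq_top {M D O : Subgroup L} (hD : D.Normal) (hMD : M ⊔ D = ⊤)
    (hO : IsSylowIn p O D) (hOM : O ≤ M) : ∃ P : Sylow p L, (P : Subgroup L) ≤ M := by
  have hp : p.Prime := Fact.out
  have hcard := Cfsg.Agent.H1.card_sup_mul_card_inf M D
    (by rw [Subgroup.normalizer_eq_top_iff.mpr hD]; exact le_top)
  rw [hMD, Subgroup.card_top] at hcard
  have hv := congrArg (fun n => n.factorization p) hcard
  rw [Nat.factorization_mul Nat.card_pos.ne' Nat.card_pos.ne',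
    Nat.factorization_mul Nat.card_pos.ne' Nat.card_pos.ne'] at hv
  simp only [Finsupp.add_apply] at hv
  have h1 : (Nat.card ↥D).factorization p ≤ (Nat.card ↥(M ⊓ D : Subgroup L)).factorization p := by
    rw [← Nat.Prime.pow_dvd_iff_le_factorization hp Nat.card_pos.ne', ← hO.2]
    exact Subgroup.card_dvd_of_le (le_inf hOM hO.1)
  have h2 : (Nat.card L).factorization p ≤ (Nat.card ↥M).factorization p := by omega
  obtain ⟨R, hR, -⟩ := exists_isSylowIn_ge (p := p) (Q := ⊥) (H := M) IsPGroup.of_bot bot_le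
  obtain ⟨P, hRP⟩ := hR.isPGroup.exists_le_sylow
  refine ⟨P, ?_⟩
  have hle : Nat.card ↥(P : Subgroup L) ≤ Nat.card ↥R := by
    rw [hR.2, P.card_eq_multiplicity]
    exact Nat.pow_le_pow_right hp.pos h2
  have : R = P := Subgroup.eq_of_le_of_card_ge hRP hle
  rw [← this]
  exact hR.1

end Cfsg.Agent.Lib.Helper7
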