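import Mathlib
import Cfsg.Prelude.Def_LocalStructure
import Cfsg.Prelude.Def_LocalEven
import Cfsg.Prelude.Def_Amalgam
import Cfsg.Agent.Lib.Helper7.YMinimal2

set_option autoImplicit false

namespace Cfsg.Agent.Lib.Helper7

open Cfsg

variable {L : Type*} [Group L] [Finite L] {p : ℕ} [Fact p.Prime]

theorem yMinimal_core_frattini (L₀ : Subgroup L) (hL₀ : IsCoatom L₀) (T : Sylow p ↥L₀)
    (Y : Subgroup L) (hYT : Y ≤ (T : Subgroup ↥L₀).map L₀.subtype)
    (hmin : Cfsg.IsMinimalOver Y) :
    (Cfsg.pCore p L ≤ L₀.normalCore ∧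
      (L₀.normalCore).map (QuotientGroup.mk' (Cfsg.pCore p L)) = frattini (L ⧸ Cfsg.pCore p L) ∧
      Cfsg.IsPClosed p ↥(L₀.normalCore)) ∧
    ∀ (N : Subgroup L) [N.Normal], N ≤ L₀ →
      Cfsg.IsPClosed p ↥N ∧ Group.IsNilpotent (↥N ⧸ Cfsg.pCore p ↥N) ∧
        (Nat.card (↥N ⧸ Cfsg.pCore p ↥N)).Coprime p := by
  have hp : p.Prime := Fact.out
  obtain ⟨hNT, hOL₀, ⟨P, hP⟩, hNL₀, hgen, -⟩ := yMinimal_with_maximal L₀ hL₀ T Y hYT hmin
  have hYP : Y ≤ P := hP ▸ hYT
  have hPL₀ : (P : Subgroup L) ≤ L₀ := hP ▸ Subgroup.map_subtype_le _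
  have hYL₀ : Y ≤ L₀ := hYP.trans hPL₀
  obtain ⟨hnc, M₀, ⟨hM₀, hYM₀⟩, huniq⟩ := id hmin
  have hML₀ : L₀ = M₀ := huniq L₀ ⟨hL₀, hYL₀⟩
  have hprop : ∀ K : Subgroup L, Y ≤ K → K ≠ ⊤ → K ≤ L₀ := by
    intro K hYK hK
    rcases IsMinimalOver.sup_eq_top_or_le hmin K hYK with h | h
    · exact absurd h hK
    · exact h L₀ hL₀ hYL₀
  set O := pCore p L with hO
  haveI hOn : O.Normal := pCore_normal p L
  have hOP : O ≤ P := pCore_le_sylow P
  -- key: P ⊓ N is normal in L for N ⊴ L inside L₀
  have hSylN : ∀ N : Subgroup L, N.Normal → IsSylowIn p ((P : Subgroup L) ⊓ N) N := by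
    intro N hN
    exact IsSylowIn.inf_normal (IsSylowIn.of_sylow_top P) N le_top
      (by rw [Subgroup.normalizer_eq_top_iff.mpr hN])
  have keyA : ∀ N : Subgroup L, N.Normal → N ≤ L₀ → ((P : Subgroup L) ⊓ N).Normal := by
    intro N hN hNL
    rw [← Subgroup.normalizer_eq_top_iff]
    by_contra hne
    have hYN : Y ≤ Subgroup.normalizer (((P : Subgroup L) ⊓ N : Subgroup L) : Set L) := by
      refine hYP.trans ?_
      refine (le_inf Subgroup.le_normalizer ?_).trans Subgroup.inf_normalizer_le_normalizer_inf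
      rw [Subgroup.normalizer_eq_top_iff.mpr hN]; exact le_top
    have hle := hprop _ hYN hne
    have hfr := (hSylN N hN).frattini le_top
      (by rw [Subgroup.normalizer_eq_top_iff.mpr hN])
    rw [top_inf_eq] at hfr
    exact hL₀.1 (eq_top_iff.mpr (hfr.trans (sup_le hle hNL)))
  have hOeq : ∀ N : Subgroup L, N.Normal → N ≤ L₀ → (P : Subgroup L) ⊓ N = O ⊓ N := by
    intro N hN hNL
    apply le_antisymm
    · exact le_inf (le_pCore (keyA N hN hNL) (P.isPGroup'.to_inf_left)) inf_le_right
    · exact inf_le_inf_right _ hOP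
  -- the core
  set D := L₀.normalCore with hD
  haveI hDn : D.Normal := Subgroup.normalCore_normal L₀
  have hDL₀ : D ≤ L₀ := Subgroup.normalCore_le L₀
  have hOD : O ≤ D := (Subgroup.normal_le_normalCore (N := O)).mpr hOL₀
  have hOSylD : IsSylowIn p O D := by
    have := hSylN D hDn
    rwa [hOeq D hDn hDL₀, inf_eq_left.mpr hOD] at this
  have hDclosed : IsPClosed p ↥D :=
    (isPClosed_of_isSylowIn_normal hOSylD
      (by rw [Subgroup.normalizer_eq_top_iff.mpr hOn]; exact le_top)).1
  -- Frattini part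
  have hfrat : D.map (QuotientGroup.mk' O) = frattini (L ⧸ O) := by
    apply le_antisymm
    · unfold frattini Order.radical
      apply le_iInf₂
      intro Mb hMb
      have hMc : IsCoatom (Mb.comap (QuotientGroup.mk' O)) :=
        Subgroup.isCoatom_comap_of_surjective (QuotientGroup.mk'_surjective O) hMb
      rw [Subgroup.map_le_iff_le_comap]
      set M := Mb.comap (QuotientGroup.mk' O) with hM
      have hOM : O ≤ M := by
        intro x hx
        rw [hM, Subgroup.mem_comap]
        have : (QuotientGroup.mk' O) x = 1 := (QuotientGroup.eq_one_iff x).mpr hx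
        rw [this]; exact Subgroup.one_mem _
      by_contra hDM
      have hMD : M ⊔ D = ⊤ := by
        apply hMc.2
        exact lt_of_le_of_ne le_sup_left (fun h => hDM (h ▸ le_sup_right))
      obtain ⟨P', hP'M⟩ := exists_sylow_le_of_sup_eq_top hDn hMD hOSylD hOM
      obtain ⟨g, -, hg⟩ := (IsSylowIn.of_sylow_top P).conj (IsSylowIn.of_sylow_top P')
      -- Y^g ≤ M, so Y ≤ M^{g⁻¹}
      have hY' : Y ≤ M.map (MulAut.conj g⁻¹).toMonoidHom := by
        intro y hy
        rw [Cfsg.Agent.Lib.Lead.Conj.mem_map_conj, inv_inv]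
        apply hP'M
        rw [hg]
        exact Cfsg.Agent.Lib.Lead.Conj.conj_mem_map_conj _ g (hYP hy)
      have hco : IsCoatom (M.map (MulAut.conj g⁻¹).toMonoidHom) := isCoatom_map_conj hMc g⁻¹
      have e1 := huniq _ ⟨hco, hY'⟩
      rw [← hML₀] at e1
      apply hDM
      intro d hd
      have hd' : g⁻¹ * d * g⁻¹⁻¹ ∈ D := hDn.conj_mem d hd g⁻¹
      have := hDL₀ hd'
      rw [← e1, Cfsg.Agent.Lib.Lead.Conj.mem_map_conj] at this
      convert this using 1
      group
    · set F := (frattini (L ⧸ O)).comap (QuotientGroup.mk' O) with hF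
      have hFmap : F.map (QuotientGroup.mk' O) = frattini (L ⧸ O) :=
        Subgroup.map_comap_eq_self_of_surjective (QuotientGroup.mk'_surjective O) _
      haveI hFn : F.Normal := Subgroup.Normal.comap (Subgroup.normal_of_characteristic _) _
      rw [← hFmap]
      apply Subgroup.map_mono
      rw [hD, Subgroup.normal_le_normalCore]
      by_contra hFL
      have h1 : L₀ ⊔ F = ⊤ := by
        apply hL₀.2
        exact lt_of_le_of_ne le_sup_left (fun h => hFL (h ▸ le_sup_right))
      have h2 := congrArg (Subgroup.map (QuotientGroup.mk' O)) h1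
      rw [Subgroup.map_sup, hFmap, Subgroup.map_top_of_surjective _ (QuotientGroup.mk'_surjective O)] at h2
      have h3 := frattini_nongenerating h2
      have h4 := congrArg (Subgroup.comap (QuotientGroup.mk' O)) h3
      rw [QuotientGroup.comap_map_mk', Subgroup.comap_top, sup_eq_right.mpr hOL₀] at h4
      exact hL₀.1 h4
  refine ⟨⟨hOD, hfrat, hDclosed⟩, ?_⟩
  intro N hN hNL
  have hSyl := hSylN N hN
  have hnorm := keyA N hN hNL
  obtain ⟨hcl, hQ, hcore⟩ := isPClosed_of_isSylowIn_normal hSyl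
    (by rw [Subgroup.normalizer_eq_top_iff.mpr hnorm]; exact le_top)
  refine ⟨hcl, ?_, ?_⟩
  · -- nilpotent
    have hND : N ≤ D := (Subgroup.normal_le_normalCore (N := N)).mpr hNL
    have hmem : ∀ n : ↥N, ((QuotientGroup.mk' O).comp N.subtype) n ∈ frattini (L ⧸ O) := by
      intro n
      rw [← hfrat]
      exact ⟨n, hND n.2, rfl⟩
    set φ : ↥N →* ↥(frattini (L ⧸ O)) :=
      ((QuotientGroup.mk' O).comp N.subtype).codRestrict (frattini (L ⧸ O)) hmem with hφ
    have hker : φ.ker = pCore p ↥N := by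
      rw [hcore, hOeq N hN hNL]
      ext n
      rw [MonoidHom.mem_ker, Subgroup.mem_subgroupOf, Subgroup.mem_inf]
      constructor
      · intro h
        have h' := congrArg Subtype.val h
        simp only [hφ, MonoidHom.codRestrict_apply, MonoidHom.comp_apply, Subgroup.coe_one] at h'
        exact ⟨(QuotientGroup.eq_one_iff _).mp h', n.2⟩
      · intro h
        apply Subtype.ext
        simp only [hφ, MonoidHom.codRestrict_apply, MonoidHom.comp_apply, Subgroup.coe_one]
        exact (QuotientGroup.eq_one_iff _).mpr h.1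
    haveI : Group.IsNilpotent ↥(frattini (L ⧸ O)) := frattini_nilpotent
    have hinj : Function.Injective
        ((QuotientGroup.kerLift φ).comp
          (QuotientGroup.quotientMulEquivOfEq hker.symm).toMonoidHom) := by
      apply Function.Injective.comp (QuotientGroup.kerLift_injective φ)
      exact (QuotientGroup.quotientMulEquivOfEq hker.symm).injective
    exact (Group.isNilpotent_congr (MonoidHom.ofInjective hinj)).mpr inferInstance
  · obtain ⟨Q, hQ'⟩ := hSyl.exists_sylow
    have hQn : (Q : Subgroup ↥N).Normal := hcl Q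
    have e : pCore p ↥N = (Q : Subgroup ↥N) := by rw [hcore, hQ']
    rw [e, ← Subgroup.index_eq_card]
    exact ((Nat.Prime.coprime_iff_not_dvd hp).mpr Q.not_dvd_index).symm
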