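import Mathlib
import Cfsg.Prelude.Def_LocalStructure
import Cfsg.Prelude.Def_LocalEven
import Cfsg.Prelude.Def_Amalgam
import Cfsg.Agent.Lib.Helper7.YMinimal3
import Cfsg.Agent.Lib.Helper7.QuadraticPair
import Cfsg.Agent.Lib.Helper7.Thompson
import Cfsg.Agent.H1.Frattini

set_option autoImplicit false

namespace Cfsg.Agent.Lib.Helper7

open Cfsg
open scoped commutatorElement

variable {L : Type*} [Group L] [Finite L] {p : ℕ} [Fact p.Prime]

theorem yMinimal_commutators
    (L₀ : Subgroup L) (hL₀ : IsCoatom L₀) (Y : Subgroup L) (hYL₀ : Y ≤ L₀)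
    (hYel : Cfsg.IsElementaryAbelian p Y) (hmin : Cfsg.IsMinimalOver Y)
    (hOY : Cfsg.pCore p L ≤ Subgroup.normalizer (Y : Set L)) (A : Subgroup L)
    (hA : A = Subgroup.normalClosure (((Cfsg.pCore p L ⊓ Y : Subgroup L)) : Set L)) (g : L)
    (hg : g ∉ L₀) :
    (frattini ↥A).map A.subtype = ⁅A, A⁆ ∧ ⁅A, A⁆ = ⁅A ⊓ Y, A⁆ ∧
      ⁅A ⊓ Y, A⁆ = ⁅A ⊓ Y, A ⊓ Y.map (MulAut.conj g).toMonoidHom⁆ ∧
      ⁅A ⊓ Y, A⁆ ≤ Y ⊓ Subgroup.center L ∧
      Y ⊓ Y.map (MulAut.conj g).toMonoidHom = Y ⊓ Subgroup.center L ∧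
      (A ⊓ Y) ⊓ (A ⊓ Y.map (MulAut.conj g).toMonoidHom) = Y ⊓ Subgroup.center L ∧
      A ⊓ Subgroup.center L = Y ⊓ Subgroup.center L := by
  have hp : p.Prime := Fact.out
  have hYel' := (isElementaryAbelian_iff Y).mp hYel
  obtain ⟨hYab, hYexp⟩ := hYel'
  have hYp : IsPGroup p ↥Y := by
    intro y
    refine ⟨1, ?_⟩
    apply Subtype.ext
    rw [pow_one, Subgroup.coe_pow, Subgroup.coe_one]
    exact hYexp y y.2
  obtain ⟨T, hT⟩ := (hYp.comap_subtype (K := L₀)).exists_le_sylow
  have hYT : Y ≤ (T : Subgroup ↥L₀).map L₀.subtype := by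
    intro y hy
    exact ⟨⟨y, hYL₀ hy⟩, hT (Subgroup.mem_subgroupOf.mpr hy), rfl⟩
  obtain ⟨-, -, -, -, hgen, h5⟩ := yMinimal_with_maximal L₀ hL₀ T Y hYT hmin
  have hgen' := hgen g hg
  have h5' := h5 hYel.1 g hg
  set Yg := Y.map (MulAut.conj g).toMonoidHom with hYg
  set Q := pCore p L with hQ
  haveI hQn : Q.Normal := pCore_normal p L
  have hQp : IsPGroup p ↥Q := pCore_isPGroup p L
  have hYgab : ∀ a ∈ Yg, ∀ b ∈ Yg, a * b = b * a := by
    rintro _ ⟨a, ha, rfl⟩ _ ⟨b, hb, rfl⟩
    rw [← map_mul, ← map_mul, hYab a ha b hb]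
  have hYgexp : ∀ a ∈ Yg, a ^ p = 1 := by
    rintro _ ⟨a, ha, rfl⟩
    rw [← map_pow, hYexp a ha, map_one]
  -- Q normalizes Yg
  have hQYg : Q ≤ Subgroup.normalizer (Yg : Set L) := by
    intro q hq
    apply Cfsg.Agent.Lib.Lead.Conj.mem_normalizer_of_conj_mem
    rintro _ ⟨y, hy, rfl⟩
    have hq' : g⁻¹ * q * g⁻¹⁻¹ ∈ Q := hQn.conj_mem q hq g⁻¹
    have h1 := (Subgroup.mem_normalizer_iff.mp (hOY hq') y).mp hy
    refine ⟨_, h1, ?_⟩
    simp only [MulEquiv.coe_toMonoidHom, MulAut.conj_apply]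
    group
  set U := Q ⊓ Y with hU
  set Ug := Q ⊓ Yg with hUg
  have hQtop : ∀ K : Subgroup L, K ≤ Subgroup.normalizer (Q : Set L) := by
    intro K; rw [Subgroup.normalizer_eq_top_iff.mpr hQn]; exact le_top
  have hQNU : Q ≤ Subgroup.normalizer (U : Set L) :=
    (le_inf (hQtop Q) hOY).trans Subgroup.inf_normalizer_le_normalizer_inf
  have hQNUg : Q ≤ Subgroup.normalizer (Ug : Set L) :=
    (le_inf (hQtop Q) hQYg).trans Subgroup.inf_normalizer_le_normalizer_inf
  have hcQY : ⁅Q, Y⁆ ≤ U :=
    le_inf (Subgroup.commutator_le_left Q Y) (Subgroup.le_normalizer_iff_commutator_le_right.mp hOY)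
  have hcQYg : ⁅Q, Yg⁆ ≤ Ug :=
    le_inf (Subgroup.commutator_le_left Q Yg) (Subgroup.le_normalizer_iff_commutator_le_right.mp hQYg)
  set B := U ⊔ Ug with hB
  have conjB : ∀ y : L, (∀ u ∈ U, y * u * y⁻¹ ∈ B) → (∀ u ∈ Ug, y * u * y⁻¹ ∈ B) →
      y ∈ Subgroup.normalizer (B : Set L) := by
    intro y h1 h2
    apply Cfsg.Agent.Lib.Lead.Conj.mem_normalizer_of_conj_mem
    intro b hb
    have hle : B.map (MulAut.conj y).toMonoidHom ≤ B := by
      rw [hB, Subgroup.map_sup]
      apply sup_le
      · rintro _ ⟨u, hu, rfl⟩; exact h1 u hu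
      · rintro _ ⟨u, hu, rfl⟩; exact h2 u hu
    exact hle ⟨b, hb, rfl⟩
  have hYNB : Y ≤ Subgroup.normalizer (B : Set L) := by
    intro y hy
    apply conjB
    · intro u hu
      apply Subgroup.mem_sup_left
      exact Subgroup.mem_inf.mpr ⟨hQn.conj_mem u hu.1 y,
        Y.mul_mem (Y.mul_mem hy hu.2) (Y.inv_mem hy)⟩
    · intro u hu
      have e : y * u * y⁻¹ = ⁅y, u⁆ * u := by rw [commutatorElement_def]; group
      rw [e]
      apply B.mul_mem _ (Subgroup.mem_sup_right hu)
      apply Subgroup.mem_sup_left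
      apply hcQY
      rw [Subgroup.commutator_comm]
      exact Subgroup.commutator_mem_commutator hy hu.1
  have hYgNB : Yg ≤ Subgroup.normalizer (B : Set L) := by
    intro y hy
    apply conjB
    · intro u hu
      have e : y * u * y⁻¹ = ⁅y, u⁆ * u := by rw [commutatorElement_def]; group
      rw [e]
      apply B.mul_mem _ (Subgroup.mem_sup_left hu)
      apply Subgroup.mem_sup_right
      apply hcQYg
      rw [Subgroup.commutator_comm]
      exact Subgroup.commutator_mem_commutator hy hu.1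
    · intro u hu
      apply Subgroup.mem_sup_right
      exact Subgroup.mem_inf.mpr ⟨hQn.conj_mem u hu.1 y,
        Yg.mul_mem (Yg.mul_mem hy hu.2) (Yg.inv_mem hy)⟩
  have hBn : B.Normal := by
    rw [← Subgroup.normalizer_eq_top_iff, eq_top_iff, ← hgen']
    exact sup_le hYNB hYgNB
  have hAn : A.Normal := by rw [hA]; exact Subgroup.normalClosure_normal
  have hUA : U ≤ A := by rw [hA]; exact Subgroup.subset_normalClosure
  have hUgA : Ug ≤ A := by
    intro x hx
    obtain ⟨y, hy, hyx⟩ := hx.2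
    have hyQ : y ∈ Q := by
      have := hQn.conj_mem x hx.1 g⁻¹
      rw [← hyx] at this
      simp only [MulEquiv.coe_toMonoidHom, MulAut.conj_apply] at this
      convert this using 1; group
    have := hAn.conj_mem y (hUA (Subgroup.mem_inf.mpr ⟨hyQ, hy⟩)) g
    rw [← hyx]
    simpa using this
  have hAB : A = B := by
    apply le_antisymm
    · rw [hA]; exact Subgroup.normalClosure_le_normal (N := B) (fun x hx => (le_sup_left : U ≤ B) hx)
    · exact sup_le hUA hUgA
  have hAQ : A ≤ Q := by rw [hA]; exact Subgroup.normalClosure_le_normal (N := Q) (fun x hx => (inf_le_left : U ≤ Q) hx)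
  have hAY : A ⊓ Y = U := le_antisymm (inf_le_inf_right _ hAQ) (le_inf hUA inf_le_right)
  have hAYg : A ⊓ Yg = Ug := le_antisymm (inf_le_inf_right _ hAQ) (le_inf hUgA inf_le_right)
  -- Z₀
  set Z₀ := Y ⊓ Subgroup.center L with hZ₀
  have hZ₀n : Z₀.Normal := by
    constructor
    intro z hz x
    have : x * z * x⁻¹ = z := by
      rw [Subgroup.mem_center_iff.mp hz.2 x]; group
    rw [this]; exact hz
  have hZ₀Q : Z₀ ≤ Q := le_pCore hZ₀n (hYp.to_le inf_le_left)
  -- commutators
  have hUab : ⁅U, U⁆ = ⊥ := by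
    rw [Subgroup.commutator_eq_bot_iff_le_centralizer]
    intro a ha
    rw [Subgroup.mem_centralizer_iff]
    intro b hb
    exact hYab b hb.2 a ha.2
  have hUgab : ⁅Ug, Ug⁆ = ⊥ := by
    rw [Subgroup.commutator_eq_bot_iff_le_centralizer]
    intro a ha
    rw [Subgroup.mem_centralizer_iff]
    intro b hb
    exact hYgab b hb.2 a ha.2
  have hUNUg : U ≤ Subgroup.normalizer (Ug : Set L) := inf_le_left.trans hQNUg
  have hUgNU : Ug ≤ Subgroup.normalizer (U : Set L) := inf_le_left.trans hQNU
  have hc1 : ⁅U, B⁆ = ⁅U, Ug⁆ := by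
    rw [hB, commutator_sup_right U U Ug Subgroup.le_normalizer hUgNU, hUab, bot_sup_eq]
  have hc2 : ⁅Ug, B⁆ = ⁅U, Ug⁆ := by
    rw [hB, commutator_sup_right Ug U Ug hUNUg Subgroup.le_normalizer, hUgab, sup_bot_eq,
      Subgroup.commutator_comm]
  have hc3 : ⁅B, B⁆ = ⁅U, Ug⁆ := by
    conv_lhs => rw [hB]
    rw [← hB, commutator_sup_right B U Ug (le_sup_left.trans Subgroup.le_normalizer)
      (le_sup_right.trans Subgroup.le_normalizer), Subgroup.commutator_comm B U, hc1,
      Subgroup.commutator_comm B Ug, hc2, sup_idem]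
  have hc4 : ⁅U, Ug⁆ ≤ U ⊓ Ug :=
    le_inf (Subgroup.le_normalizer_iff_commutator_le_left.mp hUgNU)
      (Subgroup.le_normalizer_iff_commutator_le_right.mp hUNUg)
  have hUUg : U ⊓ Ug = Z₀ := by
    rw [hU, hUg, ← inf_inf_distrib_left, h5', inf_eq_right.mpr hZ₀Q]
  refine ⟨?_, ?_, ?_, ?_, h5', ?_, ?_⟩
  · have hAp : IsPGroup p ↥A := hQp.to_le hAQ
    have h2 : ⁅A, A⁆ = (commutator ↥A).map A.subtype := by
      rw [commutator_def, Subgroup.map_commutator, ← MonoidHom.range_eq_map, Subgroup.range_subtype]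
    rw [h2]
    congr 1
    apply le_antisymm
    · apply frattini_le_of_elemAb_quotient p (commutator ↥A)
      · intro x y
        rw [commutator_def]
        have := Subgroup.commutator_mem_commutator (Subgroup.mem_top x) (Subgroup.mem_top y)
        rwa [commutatorElement_def] at this
      · set ψ : ↥A →* Abelianization ↥A := (powMonoidHom p).comp Abelianization.of with hψ
        have hk1 : U.subgroupOf A ≤ ψ.ker := by
          intro x hx
          rw [MonoidHom.mem_ker, hψ, MonoidHom.comp_apply, powMonoidHom_apply, ← map_pow]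
          have : x ^ p = 1 := by
            apply Subtype.ext
            rw [Subgroup.coe_pow, Subgroup.coe_one]
            exact hYexp _ (Subgroup.mem_subgroupOf.mp hx).2
          rw [this, map_one]
        have hk2 : Ug.subgroupOf A ≤ ψ.ker := by
          intro x hx
          rw [MonoidHom.mem_ker, hψ, MonoidHom.comp_apply, powMonoidHom_apply, ← map_pow]
          have : x ^ p = 1 := by
            apply Subtype.ext
            rw [Subgroup.coe_pow, Subgroup.coe_one]
            exact hYgexp _ (Subgroup.mem_subgroupOf.mp hx).2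
          rw [this, map_one]
        have hk : ψ.ker = ⊤ := by
          rw [eq_top_iff]
          have h1 : (U ⊔ Ug).subgroupOf A = ⊤ := by
            rw [Subgroup.subgroupOf_eq_top, ← hB]; exact hAB.le
          rw [← h1, Subgroup.subgroupOf_sup hUA hUgA]
          exact sup_le hk1 hk2
        intro x
        have hx : x ∈ ψ.ker := by rw [hk]; trivial
        rw [MonoidHom.mem_ker, hψ, MonoidHom.comp_apply, powMonoidHom_apply, ← map_pow] at hx
        rw [← Abelianization.ker_of]
        exact hx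
    · exact Cfsg.Agent.H1.commutator_le_frattini hAp
  · rw [hAY, hAB, hc3, hc1]
  · rw [hAY, hAYg, hAB, hc1]
  · rw [hAY, hAB, hc1]
    exact hc4.trans hUUg.le
  · rw [hAY, hAYg, hUUg]
  · apply le_antisymm
    · intro a ha
      have haB : a ∈ ((U ⊔ Ug : Subgroup L) : Set L) := by rw [← hB, ← hAB]; exact ha.1
      rw [Subgroup.coe_mul_of_left_le_normalizer_right U Ug hUNUg] at haB
      obtain ⟨y, hy, w, hw, rfl⟩ := Set.mem_mul.mp haB
      have hac := Subgroup.mem_center_iff.mp ha.2
      have hwc : w ∈ Subgroup.center L := by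
        have hle : Y ⊔ Yg ≤ Subgroup.centralizer ({w} : Set L) := by
          apply sup_le
          · intro b hb
            rw [Subgroup.mem_centralizer_singleton_iff]
            have e1 := hac b
            have e2 := hYab b hb y hy.2
            have e3 : b * w = y⁻¹ * (b * y) * w := by rw [e2]; group
            have e4 : w * b = y⁻¹ * (y * w * b) := by group
            rw [e3, e4, ← e1]; group
          · intro b hb
            rw [Subgroup.mem_centralizer_singleton_iff]
            exact hYgab b hb w hw.2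
        rw [hgen'] at hle
        rw [Subgroup.mem_center_iff]
        intro x
        have := hle (Subgroup.mem_top x)
        rwa [Subgroup.mem_centralizer_singleton_iff] at this
      have hwY : w ∈ Y := by
        obtain ⟨y', hy', hyw⟩ := hw.2
        have e : y' = w := by
          rw [← hyw]
          simp only [MulEquiv.coe_toMonoidHom, MulAut.conj_apply]
          have := Subgroup.mem_center_iff.mp hwc g
          rw [← hyw] at this
          simp only [MulEquiv.coe_toMonoidHom, MulAut.conj_apply] at this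
          have e1 : g * y' * g⁻¹ = g⁻¹ * (g * (g * y' * g⁻¹)) := by group
          rw [e1, this]; group
        rw [← e]; exact hy'
      exact Subgroup.mem_inf.mpr ⟨Y.mul_mem hy.2 hwY, ha.2⟩
    · exact le_inf ((le_inf hZ₀Q inf_le_left).trans hUA) inf_le_right
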