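import Mathlib
import Cfsg.Agent.Lib.Helper7.TransferFixed
import Cfsg.Agent.Lib.Helper7.WreathQuotient

/-!
# Yoshida's theorem for fusion systems, part C: the transfer of an element of a `p`-subgroup without wreath quotient
-/

set_option autoImplicit false
set_option linter.unusedVariables false
set_option linter.unusedSectionVars false

namespace Cfsg.Agent.Lib.Helper7.YoshidaFus

open Cfsg.Agent.Lib.Helper7 Cfsg.Agent.Lib.Helper7.LocalTransfer
open Subgroup MulAction
open scoped Pointwise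

attribute [local instance] Classical.propDecidable

variable {G : Type*} [Group G] [Finite G] {H : Subgroup G} {Z : Type*} [CommGroup Z] (ϕ : H →* Z)

attribute [local instance] fintypeQuot

/-- the transfer of an element of a `p`-subgroup `K` without wreath quotient into a group of order `p` is the
product over the `K`-fixed cosets -/
theorem transfer_eq_prod_fixed_of_no_wreath {p : ℕ} [Fact p.Prime] (hZ : Nat.card Z = p)
    {K : Subgroup G} (hK : IsPGroup p K)
    (hno : ¬ ∃ (Q : Sylow p (Equiv.Perm (Fin (p ^ 2))))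
      (f : ↥K →* ↥(Q : Subgroup (Equiv.Perm (Fin (p ^ 2))))), Function.Surjective f)
    {x : G} (hx : x ∈ K)
    (hϕ : ∀ (t : G) (n : ℕ), 2 ≤ n → n ∣ orderOf x → ∀ h : t⁻¹ * x ^ n * t ∈ H, ϕ ⟨_, h⟩ = 1) :
    MonoidHom.transfer ϕ x =
      ∏ q ∈ Finset.univ.filter (fun q : G ⧸ H => ∀ k ∈ K, k • q = q),
        phiE ϕ ((Quotient.out q : G)⁻¹ * x * (Quotient.out q : G)) := by
  have hp : p.Prime := Fact.out
  apply transfer_eq_prod_fixed ϕ hK hx hϕ
  intro q₀ hq₀ M hMS hnorm hidx hstab hxM
  obtain ⟨u, huS, huM⟩ : ∃ u ∈ K, u ∉ M := by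
    by_contra hcon
    push Not at hcon
    have : M.relIndex K = 1 := Subgroup.relIndex_eq_one.mpr hcon
    rw [this] at hidx
    exact hp.one_lt.ne hidx
  refine ⟨u, huS, huM, ?_⟩
  by_contra hprod
  apply hno
  have hMn : (M.subgroupOf K).Normal := by
    constructor
    intro n hn g
    rw [Subgroup.mem_subgroupOf] at hn ⊢
    have := hnorm (g : G)⁻¹ (K.inv_mem g.2) _ hn
    simpa using this
  refine WreathQuotient.exists_surj_sylow_perm (P := ↥K) hK
    (M.subgroupOf K) hidx hZ
    (fun s => tO ϕ (orbF M q₀) (s : G)) ?_ ⟨u, huS⟩ ⟨x, hx⟩ (Subgroup.mem_subgroupOf.mpr hxM) ?_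
  · intro a ha b hb
    exact tO_mul ϕ (tr_orbF (Subgroup.mem_subgroupOf.mp ha) q₀)
      (tr_orbF (Subgroup.mem_subgroupOf.mp hb) q₀)
  · simpa using hprod

theorem conj_out_mem_of_fixed {q : G ⧸ H} {x : G} (h : x • q = q) :
    (Quotient.out q : G)⁻¹ * x * (Quotient.out q : G) ∈ H := by
  have hqo : ((Quotient.out q : G) : G ⧸ H) = q := QuotientGroup.out_eq' q
  have h2 := h
  conv at h2 => rw [← hqo]
  rw [MulAction.Quotient.smul_coe, smul_eq_mul, QuotientGroup.eq] at h2
  have e : (Quotient.out q : G)⁻¹ * x * (Quotient.out q : G) =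
      ((x * (Quotient.out q : G))⁻¹ * (Quotient.out q : G))⁻¹ := by group
  rw [e]
  exact H.inv_mem h2

/-- the number of fixed cosets of a `p`-subgroup -/
theorem card_fixed_modEq {p : ℕ} [Fact p.Prime] {K : Subgroup G} (hK : IsPGroup p K) :
    Nat.card (G ⧸ H) ≡ (Finset.univ.filter (fun q : G ⧸ H => ∀ k ∈ K, k • q = q)).card [MOD p] := by
  have h1 := hK.card_modEq_card_fixedPoints (G ⧸ H)
  have h2 : Nat.card ↑(fixedPoints ↥K (G ⧸ H)) =
      (Finset.univ.filter (fun q : G ⧸ H => ∀ k ∈ K, k • q = q)).card := by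
    apply Nat.subtype_card
    intro q
    rw [Finset.mem_filter, mem_fixedPoints]
    simp only [Finset.mem_univ, true_and]
    constructor
    · intro h k; exact h k.1 k.2
    · intro h k hk; exact h ⟨k, hk⟩
  rw [h2] at h1
  exact h1

end Cfsg.Agent.Lib.Helper7.YoshidaFus
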