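import Mathlib
import Cfsg.Prelude.Def_FusionSystem
import Cfsg.Agent.Lib.Helper7.YoshidaFusA
import Cfsg.Agent.Lib.Helper7.YoshidaFusB
import Cfsg.Agent.Lib.Helper7.YoshidaFusC

/-!
# Yoshida's theorem for fusion systems, part D: characters of order `p` stable under `Aut_F(S)` are `F`-stable
-/

set_option autoImplicit false
set_option linter.unusedVariables false
set_option linter.unusedSectionVars false

universe u

namespace Cfsg.Agent.Lib.Helper7.YoshidaFus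

open Cfsg Cfsg.FusionSystem Cfsg.Agent.Lib.Helper7 Cfsg.Agent.Lib.Helper7.BisetTransfer MulAction
  Cfsg.Agent.Lib.Helper7.TateFus Cfsg.Agent.Lib.Helper7.LocalTransfer

attribute [local instance] Classical.propDecidable
attribute [local instance] fintypeQuot

variable {Ω : Type u} [Group Ω] {S : Subgroup Ω}

theorem lam_stable [Finite S] (p : ℕ) [Fact p.Prime] (hS : IsPGroup p S)
    (F : FusionSystem S) (hF : F.IsSaturated p)
    (hno : ¬ ∃ (W : Sylow p (Equiv.Perm (Fin (p ^ 2))))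
      (f : ↥S →* ↥(W : Subgroup (Equiv.Perm (Fin (p ^ 2))))), Function.Surjective f)
    {Z : Type*} [CommGroup Z] (hZ : Nat.card Z = p) (lam : ↥S →* Z)
    (hlam : ∀ (T : Subgroup Ω) (θ : T →* Ω) (hθ : θ ∈ F.Hom T), S ≤ T → ∀ (y : ↥S) (hy : (y : Ω) ∈ T),
      lam ⟨θ ⟨y, hy⟩, (F.le_of_mem hθ).2 _⟩ = lam y) :
    ∀ (T : Subgroup Ω) (θ : T →* Ω) (hθ : θ ∈ F.Hom T) (y : ↥S) (hy : (y : Ω) ∈ T),
      lam ⟨θ ⟨y, hy⟩, (F.le_of_mem hθ).2 _⟩ = lam y := by
  have hp : p.Prime := Fact.out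
  have hfinZ : Finite Z := Nat.finite_of_card_ne_zero (by rw [hZ]; exact hp.ne_zero)
  have hZexp : ∀ z : Z, z ^ p = 1 := fun z => hZ ▸ pow_card_eq_one'
  obtain ⟨X, hXfin, ρ, ι, hfree, hT, hconj, hn⟩ := biset_setup2 p hS F hF
  let σ : R ρ → X := Quotient.out
  have hσ : ∀ r : R ρ, Quotient.mk (rel ρ) (σ r) = r := Quotient.out_eq
  have hRne : Nonempty (R ρ) := by
    by_contra h
    rw [not_nonempty_iff] at h
    apply hn
    rw [Nat.card_of_isEmpty]
    exact dvd_zero p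
  obtain ⟨r₀⟩ := hRne
  let H : Subgroup (Gr ρ) := MulAction.stabilizer (Gr ρ) r₀
  let ϕ : H →* Z := stabHom ρ hfree σ hσ lam r₀
  let K : Subgroup (Gr ρ) := ι.range
  have hK : IsPGroup p K := IsPGroup.of_surjective hS ι.rangeRestrict ι.rangeRestrict_surjective
  have hnoK : ¬ ∃ (Q : Sylow p (Equiv.Perm (Fin (p ^ 2))))
      (f : ↥K →* ↥(Q : Subgroup (Equiv.Perm (Fin (p ^ 2))))), Function.Surjective f := by
    rintro ⟨Q, f, hf⟩
    exact hno ⟨Q, f.comp ι.rangeRestrict, hf.comp ι.rangeRestrict_surjective⟩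
  -- the bridge
  have hbridge : ∀ (t : Gr ρ) (a : ↥S) (h : t⁻¹ * ι a * t ∈ H),
      ∃ (T : Subgroup Ω) (θ : T →* Ω) (hθ : θ ∈ F.Hom T) (ha : (a : Ω) ∈ T),
        (∀ a' : ↥S, t⁻¹ * ι a' * t ∈ H → (a' : Ω) ∈ T) ∧
        ϕ ⟨_, h⟩ = (lam ⟨θ ⟨a, ha⟩, (F.le_of_mem hθ).2 _⟩)⁻¹ := by
    intro t a h
    obtain ⟨T, θ, hθ, hiff⟩ := hT ((t : Equiv.Perm X) (σ r₀))
    obtain ⟨d, hd1, hd2⟩ := stabHom_conj ρ hfree σ hσ lam r₀ t (ι a) h
    obtain ⟨ha, hθa⟩ := (hiff a d).mp hd1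
    refine ⟨T, θ, hθ, ha, ?_, ?_⟩
    · intro a' h'
      obtain ⟨d', hd1', -⟩ := stabHom_conj ρ hfree σ hσ lam r₀ t (ι a') h'
      exact ((hiff a' d').mp hd1').1
    · show stabHom ρ hfree σ hσ lam r₀ ⟨_, h⟩ = _
      rw [hd2]
      have e : (⟨θ ⟨a, ha⟩, (F.le_of_mem hθ).2 _⟩ : ↥S) = d⁻¹ := Subtype.ext hθa
      rw [e, map_inv, inv_inv]
  -- `ι` is injective
  have hιinj : Function.Injective ι := by
    rw [injective_iff_map_eq_one]
    intro a ha
    obtain ⟨T, θ, hθ, hiff⟩ := hT (σ r₀)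
    have h1 : ((ι a : Gr ρ) : Equiv.Perm X) (σ r₀) = ρ 1 (σ r₀) := by
      rw [ha, map_one]; rfl
    obtain ⟨h, hθa⟩ := (hiff a 1).mp h1
    have h2 : θ ⟨a, h⟩ = θ 1 := by
      rw [hθa, map_one]; simp
    have h3 := F.injective_of_mem hθ h2
    exact Subtype.ext (show (a : Ω) = 1 from congrArg (fun z : ↥T => (z : Ω)) h3)
  -- the number of fixed cosets
  set c : ℕ := (Finset.univ.filter (fun q : ↥(Gr ρ) ⧸ H => ∀ k ∈ K, k • q = q)).card with hc
  have hpc : ¬ p ∣ c := by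
    have h1 : Nat.card (↥(Gr ρ) ⧸ H) ≡ c [MOD p] := card_fixed_modEq hK
    have h2 : Nat.card (↥(Gr ρ) ⧸ H) = Nat.card (R ρ) := card_quotient_stabilizer ρ hfree σ hσ r₀
    rw [h2] at h1
    intro h3
    exact hn ((h1.dvd_iff dvd_rfl).mpr h3)
  have hcop : (Nat.card Z).Coprime c := by
    rw [hZ]
    exact (Nat.Prime.coprime_iff_not_dvd hp).mpr hpc
  let V : ↥(Gr ρ) →* Z := MonoidHom.transfer ϕ
  -- the main induction
  have main : ∀ (m : ℕ) (y : ↥S), orderOf y < m → ∀ (T : Subgroup Ω) (θ : T →* Ω) (hθ : θ ∈ F.Hom T)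
      (hy : (y : Ω) ∈ T), lam ⟨θ ⟨y, hy⟩, (F.le_of_mem hθ).2 _⟩ = lam y := by
    intro m
    induction m with
    | zero => intro y hy; omega
    | succ m IH =>
      intro x hxm T θ hθ hxT
      have hV : ∀ w : ↥S, orderOf w ≤ m → V (ι w) = ((lam w)⁻¹) ^ c := by
        intro w hw
        have h1 := transfer_eq_prod_fixed_of_no_wreath ϕ hZ hK hnoK (x := ι w) ⟨w, rfl⟩ ?_
        · show MonoidHom.transfer ϕ (ι w) = _
          rw [h1, Finset.prod_congr rfl (g := fun _ => (lam w)⁻¹) ?_, Finset.prod_const]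
          intro q hq
          rw [Finset.mem_filter] at hq
          have hfix : ∀ a : ↥S, (Quotient.out q : ↥(Gr ρ))⁻¹ * ι a * (Quotient.out q : ↥(Gr ρ)) ∈ H :=
            fun a => conj_out_mem_of_fixed (hq.2 (ι a) ⟨a, rfl⟩)
          rw [phiE_of_mem ϕ (hfix w)]
          obtain ⟨T', θ', hθ', ha, hall, hϕeq⟩ := hbridge (Quotient.out q) w (hfix w)
          rw [hϕeq]
          have hST' : S ≤ T' := fun s hs => hall ⟨s, hs⟩ (hfix ⟨s, hs⟩)
          rw [hlam T' θ' hθ' hST' w ha]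
        · intro t n hn hnd hmem
          have e : (ι w) ^ n = ι (w ^ n) := (map_pow ι w n).symm
          have key : ∀ (g : ↥(Gr ρ)) (hg : g = ι (w ^ n)) (h : t⁻¹ * g * t ∈ H), ϕ ⟨_, h⟩ = 1 := by
            intro g hg h
            subst hg
            obtain ⟨T', θ', hθ', ha, -, hϕeq⟩ := hbridge t (w ^ n) h
            rw [hϕeq, inv_eq_one]
            rw [orderOf_injective ι hιinj] at hnd
            obtain ⟨k, hk⟩ := (IsPGroup.iff_orderOf.mp hS) w
            have hpn : p ∣ n := by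
              rw [hk] at hnd
              obtain ⟨j, -, rfl⟩ := (Nat.dvd_prime_pow hp).mp hnd
              rcases Nat.eq_zero_or_pos j with h0 | h0
              · subst h0; rw [pow_zero] at hn; omega
              · exact dvd_pow_self p h0.ne'
            have hord : orderOf (w ^ n) < m := by
              rw [orderOf_pow, Nat.gcd_eq_right hnd]
              exact lt_of_lt_of_le (Nat.div_lt_self (orderOf_pos w) hn) hw
            rw [IH (w ^ n) hord T' θ' hθ' ha]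
            obtain ⟨n', rfl⟩ := hpn
            rw [map_pow, pow_mul, hZexp, one_pow]
          exact key _ e hmem
      -- the image of `x`
      have hxS' : θ ⟨x, hxT⟩ ∈ S := (F.le_of_mem hθ).2 _
      have hordx' : orderOf (⟨θ ⟨x, hxT⟩, hxS'⟩ : ↥S) = orderOf x := by
        rw [← Subgroup.orderOf_coe, orderOf_injective θ (F.injective_of_mem hθ), ← Subgroup.orderOf_coe,
          ← Subgroup.orderOf_coe x]
      have hxm' : orderOf x ≤ m := Nat.lt_succ_iff.mp hxm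
      have h1 := hV x hxm'
      have h2 := hV ⟨θ ⟨x, hxT⟩, hxS'⟩ (hordx'.le.trans hxm')
      obtain ⟨g, hg⟩ := hconj T (F.le_of_mem hθ).1 θ (F.le_of_mem hθ).2 hθ
      have h3 := hg ⟨x, hxT⟩
      have h4 : V (ι ⟨θ ⟨x, hxT⟩, hxS'⟩) = V (ι x) := by
        rw [← h3, map_mul, map_mul, map_inv]
        have : (⟨((⟨x, hxT⟩ : ↥T) : Ω), (F.le_of_mem hθ).1 (⟨x, hxT⟩ : ↥T).2⟩ : ↥S) = x := rfl
        rw [this, mul_comm, inv_mul_cancel_left]
      rw [h1, h2] at h4
      have h5 := (powCoprime hcop).injective h4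
      exact inv_injective h5
  intro T θ hθ y hy
  exact main (orderOf y + 1) y (Nat.lt_succ_self _) T θ hθ hy

end Cfsg.Agent.Lib.Helper7.YoshidaFus
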