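import Mathlib
import Cfsg.Prelude.Def_FusionSystem
import Cfsg.Agent.Lib.Helper7.YoshidaFusD
import Cfsg.Agent.Lib.Helper7.TateFusH
import Cfsg.Agent.Lib.Helper7.KNormalizerSat2
import Cfsg.Agent.Lib.Helper7.FusionProdClosed
import Cfsg.Agent.Lib.Helper7.Core
import Cfsg.Agent.H1.PGroup
import Cfsg.Agent.H1.Frattini

/-!
# Yoshida's theorem for fusion systems, part E: the theorem (S5225)
-/

set_option autoImplicit false
set_option linter.unusedVariables false
set_option linter.unusedSectionVars false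

universe u

namespace Cfsg.Agent.Lib.Helper7.YoshidaFus

open Cfsg Cfsg.FusionSystem Cfsg.Agent.Lib.Helper7 Cfsg.Agent.Lib.Helper7.TateFus

/-- a homomorphism onto a group of order `p` separating an element from a subgroup containing the Frattini
subgroup -/
theorem exists_hom_zmod_of_frattini_le {P : Type*} [Group P] [Finite P] {p : ℕ} [Fact p.Prime]
    (hP : IsPGroup p P) (L : Subgroup P) (hL : frattini P ≤ L) (x : P) (hx : x ∉ L) :
    ∃ f : P →* Multiplicative (ZMod p), L ≤ f.ker ∧ f x ≠ 1 := by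
  have hc : ∀ x y : P, x * y * x⁻¹ * y⁻¹ ∈ L := by
    intro x y
    apply hL
    apply Cfsg.Agent.H1.commutator_le_frattini hP
    rw [commutator_def]
    have := Subgroup.commutator_mem_commutator (Subgroup.mem_top x) (Subgroup.mem_top y)
    rwa [commutatorElement_def] at this
  have hLn : L.Normal := ⟨fun x hx g => by
    have h1 := hc g x
    have : g * x * g⁻¹ = (g * x * g⁻¹ * x⁻¹) * x := by group
    rw [this]
    exact L.mul_mem h1 hx⟩
  let instC : CommGroup (P ⧸ L) :=
    { (inferInstance : Group (P ⧸ L)) with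
      mul_comm := by
        intro a b
        induction a using QuotientGroup.induction_on with
        | H a =>
        induction b using QuotientGroup.induction_on with
        | H b =>
          rw [← QuotientGroup.mk_mul, ← QuotientGroup.mk_mul, QuotientGroup.eq]
          have := hc b⁻¹ a⁻¹
          have e : (a * b)⁻¹ * (b * a) = b⁻¹ * a⁻¹ * b⁻¹⁻¹ * a⁻¹⁻¹ := by group
          rw [e]; exact this }
  have hE : ∀ e : P ⧸ L, e ^ p = 1 := by
    intro x
    induction x using QuotientGroup.induction_on with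
    | H x =>
      rw [← QuotientGroup.mk_pow]
      exact (QuotientGroup.eq_one_iff _).mpr (hL (Cfsg.Agent.H1.pow_p_mem_frattini hP x))
  have hx1 : (QuotientGroup.mk x : P ⧸ L) ≠ 1 := fun h => hx ((QuotientGroup.eq_one_iff x).mp h)
  obtain ⟨f, hf⟩ := exists_hom_zmod_of_elemAb p hE _ hx1
  refine ⟨f.comp (QuotientGroup.mk' L), ?_, hf⟩
  intro y hy
  rw [MonoidHom.mem_ker, MonoidHom.comp_apply]
  have : QuotientGroup.mk' L y = 1 := (QuotientGroup.eq_one_iff y).mpr hy
  rw [this, map_one]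

variable {Ω : Type u} [Group Ω] {S : Subgroup Ω}

/-- transport of a fusion system along an equality of the underlying subgroups -/
def castSys {S' : Subgroup Ω} (h : S' = S) (N : FusionSystem S') : FusionSystem S := h ▸ N

theorem castSys_Hom {S' : Subgroup Ω} (h : S' = S) (N : FusionSystem S') (P : Subgroup Ω) :
    (castSys h N).Hom P = N.Hom P := by
  subst h; rfl

theorem castSys_focal {S' : Subgroup Ω} (h : S' = S) (N : FusionSystem S') :
    (castSys h N).focalSubgroup = N.focalSubgroup := by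
  subst h; rfl

theorem castSys_isSaturated {S' : Subgroup Ω} (h : S' = S) (N : FusionSystem S') (p : ℕ) :
    (castSys h N).IsSaturated p ↔ N.IsSaturated p := by
  subst h; rfl

/-- every `F`-automorphism of `S` is a map of the normalizer system of `S` -/
theorem mem_normalizerHom_top [Finite S] (F : FusionSystem S) (θ : S →* Ω) (hθ : θ ∈ F.Hom S) :
    θ ∈ F.normalizerHom S S := by
  have hSN : S ≤ normalizerIn S S := le_inf le_rfl Subgroup.le_normalizer
  have himg := (F.le_of_mem hθ).2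
  have hinj := F.injective_of_mem hθ
  let θ' : ↥S →* ↥S := θ.codRestrict S himg
  have hinj' : Function.Injective θ' := fun a b h => hinj (congrArg Subtype.val h)
  have hsurj' : Function.Surjective θ' := Finite.surjective_of_injective hinj'
  refine ⟨hθ, hSN, fun x => hSN (himg x), ?_⟩
  have hle : S ⊔ S ≤ S := sup_le le_rfl le_rfl
  refine ⟨θ.comp (Subgroup.inclusion hle), fs_restrict_mem F hle hθ, fun x => ?_, ?_⟩
  · rfl
  · ext y
    constructor
    · rintro ⟨z, -, rfl⟩
      exact himg _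
    · intro hy
      obtain ⟨w, hw⟩ := hsurj' ⟨y, hy⟩
      refine ⟨⟨(w : Ω), Subgroup.mem_sup_left w.2⟩, Subgroup.mem_subgroupOf.mpr w.2, ?_⟩
      have := congrArg Subtype.val hw
      exact this

/-- the focal subgroup is generated by elements of `S` -/
theorem focalSubgroup_le' (F : FusionSystem S) : F.focalSubgroup ≤ S := by
  unfold focalSubgroup
  rw [Subgroup.closure_le]
  rintro _ ⟨P, φ, x, hφ, rfl⟩
  exact S.mul_mem (S.inv_mem ((F.le_of_mem hφ).1 x.2)) ((F.le_of_mem hφ).2 x)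

/-- **Yoshida's theorem for fusion systems**: if `S` has no quotient isomorphic to `C_p ≀ C_p`, then
`N_F(S)` controls transfer in `F`. -/
theorem focal_eq_of_no_wreath [Finite S] (p : ℕ) [Fact p.Prime] (hS : IsPGroup p S)
    (F : FusionSystem S) (hF : F.IsSaturated p)
    (N : FusionSystem (normalizerIn S S)) (hN : F.IsNormalizerSystem S N)
    (hno : ¬ ∃ (W : Sylow p (Equiv.Perm (Fin (p ^ 2))))
      (f : ↥S →* ↥(W : Subgroup (Equiv.Perm (Fin (p ^ 2))))), Function.Surjective f) :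
    N.focalSubgroup = F.focalSubgroup := by
  have hp : p.Prime := Fact.out
  have hSS : normalizerIn S S = S := inf_eq_left.mpr Subgroup.le_normalizer
  set N' : FusionSystem S := castSys hSS N with hN'
  have hN'sat : N'.IsSaturated p :=
    (castSys_isSaturated hSS N p).mpr
      (normalizerSystem_isSaturated p hS F hF S (isFullyNormalized_top F) N hN)
  have hN'F : N'.IsSubsystemOf F := by
    intro P φ hφ
    rw [hN', castSys_Hom, hN P] at hφ
    exact hφ.1
  rw [← castSys_focal hSS N]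
  symm
  apply (tate_fusion p hS F hF N' hN'sat hN'F).1.mp
  have hmono : N'.focalSubgroup ≤ F.focalSubgroup := by
    unfold focalSubgroup
    apply Subgroup.closure_mono
    rintro _ ⟨P, φ, x, hφ, rfl⟩
    exact ⟨P, φ, x, hN'F P hφ, rfl⟩
  apply le_antisymm _ (sup_le_sup_left hmono _)
  apply sup_le le_sup_left
  set L : Subgroup Ω := (frattini ↥S).map S.subtype ⊔ N'.focalSubgroup with hLdef
  have hLS : L ≤ S := sup_le (Subgroup.map_subtype_le _) (focalSubgroup_le' N')
  unfold focalSubgroup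
  rw [Subgroup.closure_le]
  rintro _ ⟨P, φ, x, hφ, rfl⟩
  by_contra hy
  have hPS := (F.le_of_mem hφ).1
  have hφS := (F.le_of_mem hφ).2
  have hyS : (x : Ω)⁻¹ * φ x ∈ S := S.mul_mem (S.inv_mem (hPS x.2)) (hφS x)
  have hΦL : frattini ↥S ≤ L.subgroupOf S := by
    intro z hz
    rw [Subgroup.mem_subgroupOf]
    exact le_sup_left (a := (frattini ↥S).map S.subtype) ⟨z, hz, rfl⟩
  obtain ⟨f, hfL, hfy⟩ := exists_hom_zmod_of_frattini_le hS (L.subgroupOf S) hΦL ⟨_, hyS⟩
    (fun h => hy (Subgroup.mem_subgroupOf.mp h))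
  have hZ : Nat.card (Multiplicative (ZMod p)) = p := by
    rw [Nat.card_eq_fintype_card]; simp
  have hlam : ∀ (T : Subgroup Ω) (θ : T →* Ω) (hθ : θ ∈ F.Hom T), S ≤ T → ∀ (y : ↥S) (hy : (y : Ω) ∈ T),
      f ⟨θ ⟨y, hy⟩, (F.le_of_mem hθ).2 _⟩ = f y := by
    intro T θ hθ hST y hy
    have hTS : T = S := le_antisymm (F.le_of_mem hθ).1 hST
    subst hTS
    have h1 : θ ∈ N'.Hom T := by
      rw [hN', castSys_Hom, hN T]
      exact mem_normalizerHom_top F θ hθ
    have h2 : (y : Ω)⁻¹ * θ ⟨y, hy⟩ ∈ L := by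
      apply le_sup_right (b := N'.focalSubgroup)
      exact Subgroup.subset_closure ⟨T, θ, ⟨y, hy⟩, h1, rfl⟩
    have h3 : (⟨(y : Ω)⁻¹ * θ ⟨y, hy⟩, hLS h2⟩ : ↥T) ∈ f.ker := hfL (Subgroup.mem_subgroupOf.mpr h2)
    rw [MonoidHom.mem_ker] at h3
    have e : (⟨θ ⟨y, hy⟩, (F.le_of_mem hθ).2 _⟩ : ↥T) = y * ⟨(y : Ω)⁻¹ * θ ⟨y, hy⟩, hLS h2⟩ := by
      apply Subtype.ext
      show _ = (y : Ω) * ((y : Ω)⁻¹ * θ ⟨y, hy⟩)
      rw [mul_inv_cancel_left]
    rw [e, map_mul, h3, mul_one]
  have hst := lam_stable p hS F hF hno hZ f hlam P φ hφ ⟨x, hPS x.2⟩ x.2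
  apply hfy
  have e : (⟨(x : Ω)⁻¹ * φ x, hyS⟩ : ↥S) = (⟨x, hPS x.2⟩ : ↥S)⁻¹ * ⟨φ x, hφS x⟩ := rfl
  rw [e, map_mul, map_inv]
  have e2 : (⟨φ x, hφS x⟩ : ↥S) = ⟨φ ⟨((⟨x, hPS x.2⟩ : ↥S) : Ω), x.2⟩, hφS _⟩ := rfl
  rw [e2, hst, inv_mul_cancel]

end Cfsg.Agent.Lib.Helper7.YoshidaFus
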