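import Mathlib
import Cfsg.Agent.H1.ZJLocal
import Cfsg.Agent.S1969
import Cfsg.Agent.S0664
import Cfsg.Agent.Lib.Helper7.QuadQdD
import Cfsg.Agent.Lib.Helper7.Qd9

set_option autoImplicit false
set_option linter.style.haveILetI false
set_option linter.unusedSectionVars false
set_option linter.unusedVariables false

open scoped commutatorElement Pointwise

namespace Cfsg.Agent.Lib.Helper7.ZJCtl

universe u v

/-- the functor `Q ↦ Z(J(Q))` (abelian version) on abstract groups -/
def zjFun (Q : Type u) [Group Q] : Subgroup Q := Cfsg.centerThompsonAOf (⊤ : Subgroup Q)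

theorem zjFun_map {Q : Type u} {R : Type v} [Group Q] [Group R] [Finite Q] (φ : Q ≃* R) :
    (zjFun Q).map φ.toMonoidHom = zjFun R := by
  haveI : Finite R := Finite.of_equiv Q φ.toEquiv
  unfold zjFun
  rw [← Cfsg.Agent.H1.centerThompsonAOf_map φ.toMonoidHom ⊤ (fun x _ hx => by
    apply φ.injective
    rw [map_one]
    exact hx)]
  congr 1
  exact Subgroup.map_top_of_surjective _ φ.surjective

theorem isCharPFunctor_zjFun (p : ℕ) [Fact p.Prime] : Cfsg.IsCharPFunctor.{u} p zjFun.{u} := by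
  refine ⟨fun Q _ _ hQ hnt => ?_, fun Q R _ _ _ hQ φ => zjFun_map φ⟩
  exact Cfsg.Agent.H1.zj_ne_bot ⊤ (hQ.to_subgroup ⊤) top_ne_bot

theorem inducedFunctor_zjFun {G : Type u} [Group G] [Finite G] (P : Subgroup G) :
    Cfsg.inducedFunctor zjFun.{u} P = Cfsg.centerThompsonAOf P := by
  unfold Cfsg.inducedFunctor zjFun
  rw [← Cfsg.Agent.H1.centerThompsonAOf_map P.subtype ⊤ (fun x _ hx => by
    apply P.subtype_injective
    rw [map_one]
    exact hx)]
  congr 1
  rw [← MonoidHom.range_eq_map, Subgroup.range_subtype]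

theorem controls_of_qd_free {G : Type u} [Group G] [Finite G] {p : ℕ} [Fact p.Prime] (hp : p ≠ 2)
    (hfree : ¬ Cfsg.Involves ↥(Cfsg.qd p) G) (K R : Subgroup G) [hR : (R.subgroupOf K).Normal]
    (T : Sylow p (↥K ⧸ R.subgroupOf K)) :
    Cfsg.ControlsStrongFusion p
      (Cfsg.centerThompsonAOf (T : Subgroup (↥K ⧸ R.subgroupOf K))) := by
  have h := Cfsg.Agent.S1969.result (G := G) (p := p) zjFun (isCharPFunctor_zjFun p) ?_ K R T
  · rwa [inducedFunctor_zjFun] at h
  · intro K' R' hR' hc T'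
    rw [inducedFunctor_zjFun]
    refine Cfsg.Agent.S0664.result hp ?_ hc T'
    intro h
    apply hfree
    exact Cfsg.Agent.Lib.Helper7.involves_of_injective K'.subtype K'.subtype_injective
      (Cfsg.Agent.Lib.Helper7.QuadLin.involves_of_surjective (QuotientGroup.mk' _)
        (QuotientGroup.mk'_surjective _) h)

end Cfsg.Agent.Lib.Helper7.ZJCtl


namespace Cfsg.Agent.Lib.Helper7.ZJCtl

universe u v

/-- if `U` controls strong fusion then `G = N_G(U) C_G(O_p(G))` -/
theorem exists_normalizer_mul_centralizer {G : Type*} [Group G] [Finite G] {p : ℕ} [Fact p.Prime]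
    {U : Subgroup G} (h : Cfsg.ControlsStrongFusion p U) (g : G) :
    ∃ x ∈ Subgroup.normalizer (U : Set G),
      x⁻¹ * g ∈ Subgroup.centralizer (Cfsg.pCore p G : Set G) := by
  obtain ⟨T, hUT, hctl⟩ := h
  have hA : ((Cfsg.pCore p G : Subgroup G) : Set G) ⊆ (T : Subgroup G) :=
    Cfsg.Agent.H1.pCore_le_sylow T
  haveI : (Cfsg.pCore p G).Normal := Cfsg.Agent.H1.pCore_normal p
  obtain ⟨x, hx, hxa⟩ := (hctl _ hA).2 g (by
    rintro _ ⟨a, ha, rfl⟩
    exact hA ((Cfsg.Agent.H1.pCore_normal p).conj_mem a ha g))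
  refine ⟨x, hx, ?_⟩
  rw [Subgroup.mem_centralizer_iff]
  intro a ha
  have h1 := hxa a ha
  have h2 : x⁻¹ * (g * a * g⁻¹) * g = x⁻¹ * (x * a * x⁻¹) * g := by rw [h1]
  have h3 : x⁻¹ * (g * a * g⁻¹) * g = x⁻¹ * g * a := by group
  have h4 : x⁻¹ * (x * a * x⁻¹) * g = a * (x⁻¹ * g) := by group
  rw [h3, h4] at h2
  exact h2.symm

/-- control of strong fusion is invariant under isomorphism -/
theorem controlsStrongFusion_map {A : Type u} {B : Type v} [Group A] [Group B] {p : ℕ}
    [Fact p.Prime] (e : A ≃* B) {U : Subgroup A} (h : Cfsg.ControlsStrongFusion p U) :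
    Cfsg.ControlsStrongFusion p (U.map e.toMonoidHom) := by
  obtain ⟨T, hUT, hctl⟩ := h
  have hrange : (T : Subgroup A) ≤ e.symm.toMonoidHom.range := by
    intro x _
    exact ⟨e x, e.symm_apply_apply x⟩
  have hinj : Function.Injective e.symm.toMonoidHom := e.symm.injective
  have hT' : ((T.comapOfInjective e.symm.toMonoidHom hinj hrange : Sylow p B) : Subgroup B) =
      (T : Subgroup A).comap e.symm.toMonoidHom := rfl
  refine ⟨T.comapOfInjective e.symm.toMonoidHom hinj hrange, ?_, ?_⟩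
  · rw [hT']
    rintro _ ⟨x, hx, rfl⟩
    show e.symm (e x) ∈ (T : Subgroup A)
    rw [e.symm_apply_apply]
    exact hUT hx
  · intro A' hA'
    rw [hT'] at hA' ⊢
    refine ⟨hA', fun g' hg' => ?_⟩
    have hA : e.symm '' A' ⊆ (T : Subgroup A) := by
      rintro _ ⟨a', ha', rfl⟩
      exact hA' ha'
    obtain ⟨x, hx, hxa⟩ := (hctl _ hA).2 (e.symm g') (by
      rintro _ ⟨_, ⟨a', ha', rfl⟩, rfl⟩
      have := hg' ⟨a', ha', rfl⟩
      have h2 : e.symm (g' * a' * g'⁻¹) ∈ (T : Subgroup A) := this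
      rwa [map_mul, map_mul, map_inv] at h2)
    refine ⟨e x, ?_, fun a' ha' => ?_⟩
    · rw [Subgroup.mem_normalizer_iff] at hx ⊢
      intro y
      rw [Subgroup.mem_map_equiv, Subgroup.mem_map_equiv, hx (e.symm y)]
      simp
    · have := hxa (e.symm a') ⟨a', ha', rfl⟩
      apply e.symm.injective
      simp only [map_mul, map_inv, e.symm_apply_apply]
      exact this

end Cfsg.Agent.Lib.Helper7.ZJCtl


namespace Cfsg.Agent.Lib.Helper7.ZJCtl

universe u v

/-- transport of "`Z(J(T))` controls strong fusion" along an isomorphism -/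
theorem controls_zj_transport {A : Type u} {B : Type v} [Group A] [Group B] [Finite A] {p : ℕ}
    [Fact p.Prime] (e : A ≃* B) (T : Sylow p A)
    (h : Cfsg.ControlsStrongFusion p (Cfsg.centerThompsonAOf (T : Subgroup A))) :
    ∃ T' : Sylow p B, Cfsg.ControlsStrongFusion p (Cfsg.centerThompsonAOf (T' : Subgroup B)) := by
  haveI : Finite B := Finite.of_equiv A e.toEquiv
  have hrange : (T : Subgroup A) ≤ e.symm.toMonoidHom.range := by
    intro x _
    exact ⟨e x, e.symm_apply_apply x⟩
  have hinj : Function.Injective e.symm.toMonoidHom := e.symm.injective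
  have hT' : ((T.comapOfInjective e.symm.toMonoidHom hinj hrange : Sylow p B) : Subgroup B) =
      (T : Subgroup A).comap e.symm.toMonoidHom := rfl
  refine ⟨T.comapOfInjective e.symm.toMonoidHom hinj hrange, ?_⟩
  have h2 := controlsStrongFusion_map e h
  rw [← Cfsg.Agent.H1.centerThompsonAOf_map e.toMonoidHom (T : Subgroup A) (fun x _ hx => by
    apply e.injective
    rw [map_one]
    exact hx)] at h2
  rw [hT', show Subgroup.comap e.symm.toMonoidHom (T : Subgroup A) =
    Subgroup.map e.toMonoidHom (T : Subgroup A) from (Subgroup.map_equiv_eq_comap_symm e _).symm]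
  exact h2

section qd
open Cfsg Matrix Cfsg.Agent.Lib.Helper7

variable {K : Type*} [Field K] [Fintype K] {p : ℕ} [Fact p.Prime] [CharP K p]

theorem centralizer_pCore_qdOver_le :
    Subgroup.centralizer (pCore p ↥(qdOver K) : Set ↥(qdOver K)) ≤ pCore p ↥(qdOver K) := by
  rw [pCore_qdOver]
  intro g hg
  rw [Subgroup.mem_centralizer_iff] at hg
  rw [MonoidHom.mem_ker]
  have key : ∀ t : Fin 2 → K, (blockHom g : Matrix (Fin 2) (Fin 2) K).mulVec t = t := by
    intro t
    have h1 := hg (aff 1 t) (aff_one_mem_ker t)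
    have h2 : g * aff 1 t * g⁻¹ = aff 1 t := by
      rw [← h1]; group
    rw [conj_transl] at h2
    exact (aff_injective h2).2
  apply Subtype.ext
  show (blockHom g : Matrix (Fin 2) (Fin 2) K) = 1
  ext i j
  have := congrFun (key (Pi.single j 1)) i
  rw [Matrix.mulVec_single_one] at this
  rw [Matrix.one_apply]
  rw [Pi.single_apply] at this
  exact this

theorem not_controls_qdOver (T : Sylow p ↥(qdOver K)) :
    ¬ Cfsg.ControlsStrongFusion p (Cfsg.centerThompsonAOf (T : Subgroup ↥(qdOver K))) := by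
  intro h
  have hV : pCore p ↥(qdOver K) ≤ T := Cfsg.Agent.H1.pCore_le_sylow T
  haveI : Nontrivial ↥(T : Subgroup ↥(qdOver K)) := by
    refine ⟨⟨⟨aff 1 ![1, 0], hV ?_⟩, 1, ?_⟩⟩
    · rw [pCore_qdOver]; exact aff_one_mem_ker _
    · intro h1
      have h2 : aff (1 : SpecialLinearGroup (Fin 2) K) ![1, 0] = aff 1 0 := by
        rw [aff_one]
        exact congrArg Subtype.val h1
      have h3 := congrFun (aff_injective h2).2 0
      simp at h3
  have hne : zjFun ↥(T : Subgroup ↥(qdOver K)) ≠ ⊥ :=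
    (isCharPFunctor_zjFun p).1 _ T.isPGroup' inferInstance
  have hch : (zjFun ↥(T : Subgroup ↥(qdOver K))).Characteristic := by
    rw [Subgroup.characteristic_iff_map_eq]
    intro φ
    exact zjFun_map φ
  obtain ⟨hN, hNT⟩ := qd_char_normalizer T _ hne hch
  have hU : (zjFun ↥(T : Subgroup ↥(qdOver K))).map (T : Subgroup ↥(qdOver K)).subtype =
      Cfsg.centerThompsonAOf (T : Subgroup ↥(qdOver K)) := inducedFunctor_zjFun _
  rw [hU] at hN
  apply hNT
  rw [eq_top_iff]
  intro g _
  obtain ⟨x, hx, hxg⟩ := exists_normalizer_mul_centralizer h g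
  rw [hN] at hx
  have h1 : x⁻¹ * g ∈ Subgroup.normalizer ((T : Subgroup ↥(qdOver K)) : Set ↥(qdOver K)) :=
    Subgroup.le_normalizer (hV (centralizer_pCore_qdOver_le hxg))
  have h2 : g = x * (x⁻¹ * g) := by group
  rw [h2]
  exact mul_mem hx h1

end qd

end Cfsg.Agent.Lib.Helper7.ZJCtl

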