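import Mathlib
import Cfsg.Prelude.Def_FusionSystem
import Cfsg.Prelude.Def_FusionComponents
import Cfsg.Agent.Lib.Helper7.ZJKg
import Cfsg.Agent.Lib.Helper7.QdQa
import Cfsg.Agent.Lib.Helper7.GTFd
import Cfsg.Agent.Lib.Helper7.GTFf
import Cfsg.Agent.Lib.Helper7.TNPe
import Cfsg.Agent.Lib.Helper7.FactorSaturated
import Cfsg.Agent.Lib.Helper7.FactorMorphism

/-!
# ZJ-theorem for fusion systems, part H: the case `F = S C_F(Q)`

If `Q` is normal in `F` and `Aut_F(Q) = Aut_S(Q)`, then the preimage in `S` of a normal subgroup of `F/Q` is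
normal in `F`.
-/

set_option autoImplicit false
set_option linter.unusedSectionVars false
set_option linter.style.haveILetI false

namespace Cfsg.Agent.Lib.Helper7.ZJK

open Cfsg Cfsg.FusionSystem Cfsg.Agent.Lib.Helper7 Cfsg.Agent.Lib.Helper7.QdF
  Cfsg.Agent.Lib.Helper7.GTF Cfsg.Agent.Lib.Helper7.QdQ Cfsg.Agent.Lib.Helper7.TNP

universe u v

variable {Ω : Type u} [Group Ω] {S : Subgroup Ω}

/-- the automorphisms of `P ≥ Q` in `F` acting trivially on `P/Q` form a `p`-group when `Aut_F(Q) = Aut_S(Q)` -/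
theorem isPGroup_kerAut [Finite S] (p : ℕ) [Fact p.Prime] (hS : IsPGroup p S) (F : FusionSystem S)
    {Q : Subgroup Ω} (hQsc : F.StronglyClosed Q) (hK : F.autGroup Q ≤ autInducedBy S Q)
    {P : Subgroup Ω} (hPS : P ≤ S) (hQP : Q ≤ P) : IsPGroup p ↥(kerAut Q P (F.autGroup P)) := by
  have hQS : Q ≤ S := hQsc.1
  haveI : Finite ↥P := finite_of_le hPS
  haveI : Finite ↥Q := finite_of_le hQS
  haveI : Finite (MulAut ↥P) := inferInstance
  have hQp : IsPGroup p ↥Q := hS.to_le hQS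
  rintro ⟨δ, hδ⟩
  have hpos : orderOf δ ≠ 0 := (orderOf_pos δ).ne'
  obtain ⟨a, m, hm, hnm⟩ := Nat.exists_eq_pow_mul_and_not_dvd hpos p (Nat.Prime.ne_one Fact.out)
  have hmcop : Nat.Coprime m p := ((Nat.Prime.coprime_iff_not_dvd Fact.out).mpr hm).symm
  refine ⟨a, Subtype.ext ?_⟩
  show δ ^ p ^ a = 1
  obtain ⟨ε, hεdef⟩ : ∃ ε : MulAut ↥P, ε = δ ^ p ^ a := ⟨_, rfl⟩
  rw [← hεdef]
  have hεmem : ε ∈ kerAut Q P (F.autGroup P) := by rw [hεdef]; exact Subgroup.pow_mem _ hδ _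
  have hεm : ε ^ m = 1 := by
    rw [hεdef, ← pow_mul, ← hnm, pow_orderOf_eq_one]
  have hord : (orderOf ε).Coprime p := Nat.Coprime.coprime_dvd_left (orderOf_dvd_of_pow_eq_one hεm) hmcop
  have hεF : P.subtype.comp ε.toMonoidHom ∈ F.Hom P := (mem_autGroup_iff F hPS ε).mp hεmem.1
  -- the restriction of `ε` to `Q`
  have hε₀ : (P.subtype.comp ε.toMonoidHom).comp (Subgroup.inclusion hQP) ∈ F.Hom Q :=
    fs_restrict_mem F hQP hεF
  have hr : ((P.subtype.comp ε.toMonoidHom).comp (Subgroup.inclusion hQP)).range = Q := by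
    apply le_antisymm
    · rintro _ ⟨x, rfl⟩
      exact hQsc.2 Q le_rfl _ hε₀ x
    · exact stronglyClosed_le_range F Q hQsc hε₀ le_rfl
  obtain ⟨e₀, he₀def⟩ : ∃ e₀ : MulAut ↥Q, e₀ = isoOfRange _ (F.injective_of_mem hε₀) hr := ⟨_, rfl⟩
  have he₀coe : ∀ x : ↥Q, ((e₀ x : ↥Q) : Ω) = ((ε (Subgroup.inclusion hQP x) : ↥P) : Ω) := by
    intro x
    rw [he₀def]
    rfl
  have he₀F : e₀ ∈ F.autGroup Q := by
    rw [mem_autGroup_iff F hQS]
    have e : Q.subtype.comp e₀.toMonoidHom =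
        (P.subtype.comp ε.toMonoidHom).comp (Subgroup.inclusion hQP) := by
      ext x
      exact he₀coe x
    rw [e]
    exact hε₀
  obtain ⟨s, hs, hse₀⟩ := (mem_autInducedBy_iff S Q e₀).mp (hK he₀F)
  have hres : ∀ x : ↥Q, ε (Subgroup.inclusion hQP x) = Subgroup.inclusion hQP (e₀ x) := fun x =>
    Subtype.ext (he₀coe x).symm
  have he₀m : e₀ ^ m = 1 := by
    ext x
    have h1 := restrict_pow hQP e₀ ε hres m x
    rw [hεm] at h1
    have h2 := congrArg (fun t : ↥P => (t : Ω)) h1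
    exact h2.symm
  have hord₀ : (orderOf e₀).Coprime p :=
    Nat.Coprime.coprime_dvd_left (orderOf_dvd_of_pow_eq_one he₀m) hmcop
  have he₀1 : e₀ = 1 := eq_one_of_inner_coprime hS e₀ hord₀ hs hse₀
  apply eq_one_of_stabilizes hQp hQP ε hord
  · intro x hx
    have h1 := hres ⟨x, hx⟩
    rw [he₀1] at h1
    exact h1
  · exact hεmem.2

variable {Ω' : Type v} [Group Ω'] {S' : Subgroup Ω'}

/-- if `Q` is normal in `F` and `Aut_F(Q) = Aut_S(Q)`, the preimage of a normal subgroup of `F/Q` is normal in `F` -/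
theorem isNormal_preimage_of_aut_le [Finite S] (p : ℕ) [Fact p.Prime] (hS : IsPGroup p S)
    (F : FusionSystem S) (hF : F.IsSaturated p) {Q : Subgroup Ω} (hQ : F.IsNormal Q)
    (hK : F.autGroup Q ≤ autInducedBy S Q) (θ : S →* Ω') (E' : FusionSystem S')
    (hE' : F.IsFactorSystem Q θ E') {U' : Subgroup Ω'} (hU' : E'.IsNormal U') :
    F.IsNormal (preimageAlong θ U') := by
  have hQS : Q ≤ S := hQ.1
  have hQsc := stronglyClosed_of_isNormal F hQ
  have hker := hE'.2.1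
  have hrange := hE'.2.2.1
  have hθ : ∀ s : S, θ s ∈ S' := fun s => hrange ▸ ⟨s, rfl⟩
  have hUS : preimageAlong θ U' ≤ S := preimageAlong_le θ U'
  have hS'U' : S' ≤ Subgroup.normalizer (U' : Set Ω') := le_normalizer_of_isNormal E' hU'
  have hSU : S ≤ Subgroup.normalizer ((preimageAlong θ U' : Subgroup Ω) : Set Ω) := fun y hy =>
    mem_normalizer_preimage θ hy (hS'U' (hθ _))
  have hTeq : normalizerIn S (preimageAlong θ U') = S := inf_eq_left.mpr hSU
  obtain ⟨N, hN⟩ := exists_normalizerSystem F (preimageAlong θ U') hUS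
  obtain ⟨E, hEdef⟩ : ∃ E : FusionSystem S, E = castSystem hTeq N := ⟨_, rfl⟩
  have hE : ∀ (A : Subgroup Ω) (φ : A →* Ω), φ ∈ E.Hom A ↔
      φ ∈ F.normalizerHom (preimageAlong θ U') A := by
    intro A φ
    rw [hEdef, castSystem_hom, hN A]
  have hFE : F ≤ E := by
    apply alperin_goldschmidt_strong p hS F hF E
    intro P hP ih α hα
    have hPS : P ≤ S := by
      rcases hP with rfl | hess
      · exact le_rfl
      · exact hess.1.1
    have hQP : Q ≤ P := by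
      rcases hP with rfl | hess
      · exact hQS
      · exact le_of_isNormal_of_centric_radical p hS F hQ hess.1 (isRadical_of_isEssential p hS F P hess)
    have hPFA : F.IsFullyAutomized p P := by
      rcases hP with rfl | hess
      · exact isFullyAutomized_top_of_isSaturated p hS F hF
      · obtain ⟨P', hc, hFA', hRec'⟩ := hF P hPS
        exact (isFullyAutomized_isReceptive_of_isFullyNormalized p hS F hess.2.1 hFA' hRec' hc).1
    haveI : Finite ↥P := finite_of_le hPS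
    haveI : Finite (MulAut ↥P) := inferInstance
    have hφα : P.subtype.comp α.toMonoidHom ∈ F.Hom P := (mem_autGroup_iff F hPS α).mp hα
    obtain ⟨-, φ', hφ', hP₁, hφS, hPP', hi⟩ := le_morSystem p hS F hF Q hQsc θ E' hE' hθ P hφα
    obtain ⟨ψ', hψ', hext', hmap'⟩ := hU'.2 _ φ' hφ'
    obtain ⟨hle', ψ, hψ, hD, hψS, hDD', hind⟩ := (hE'.2.2.2 _ ψ').mp hψ'
    have hPD : P ≤ preimageAlong θ (imageAlong θ P ⊔ U') := by
      intro x hx
      exact (mem_preimageAlong θ _ x).mpr ⟨hPS hx, Subgroup.mem_sup_left (hPP' ⟨x, hx⟩)⟩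
    have hUD : preimageAlong θ U' ≤ preimageAlong θ (imageAlong θ P ⊔ U') :=
      preimageAlong_mono θ le_sup_right
    have hψU : ∀ x : ↥(preimageAlong θ (imageAlong θ P ⊔ U')), (x : Ω) ∈ preimageAlong θ U' →
        ψ x ∈ preimageAlong θ U' := by
      intro x hx
      refine (mem_preimageAlong θ U' _).mpr ⟨hψS x, ?_⟩
      rw [← hind x]
      exact hmap'.le ⟨_, Subgroup.mem_subgroupOf.mpr ((mem_preimageAlong θ U' _).mp hx).2, rfl⟩
    -- `ψ` agrees with `α` modulo `Q` on `P`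
    have hθψ : ∀ x : ↥P, θ ⟨ψ ⟨x, hPD x.2⟩, hψS _⟩ = θ ⟨((α x : ↥P) : Ω), hPS (α x).2⟩ := by
      intro x
      rw [← hind ⟨x, hPD x.2⟩]
      have h1 := hext' ⟨θ ⟨x, hP₁ x.2⟩, hPP' x⟩
      have h2 := hi x
      have e : (⟨θ ⟨((⟨x, hPD x.2⟩ : ↥(preimageAlong θ (imageAlong θ P ⊔ U'))) : Ω), hD (hPD x.2)⟩,
          hDD' ⟨x, hPD x.2⟩⟩ : ↥(imageAlong θ P ⊔ U')) =
          Subgroup.inclusion le_sup_left (⟨θ ⟨x, hP₁ x.2⟩, hPP' x⟩ : ↥(imageAlong θ P)) :=
        Subtype.ext rfl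
      rw [e, h1, h2]
      rfl
    have hmod : ∀ x : ↥P, (((α x : ↥P) : Ω))⁻¹ * ψ ⟨x, hPD x.2⟩ ∈ Q := by
      intro x
      have h1 : θ ((⟨((α x : ↥P) : Ω), hPS (α x).2⟩ : ↥S)⁻¹ * ⟨ψ ⟨x, hPD x.2⟩, hψS _⟩) = 1 := by
        rw [map_mul, map_inv, hθψ x, inv_mul_cancel]
      exact (hker _).mp h1
    have hψP : ∀ x : ↥P, ψ ⟨x, hPD x.2⟩ ∈ P := by
      intro x
      have h1 := hQP (hmod x)
      have h2 := P.mul_mem (α x).2 h1
      rwa [mul_inv_cancel_left] at h2
    -- `ψ` is a map of `N_F(U)`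
    have hDN : preimageAlong θ (imageAlong θ P ⊔ U') ≤ normalizerIn S (preimageAlong θ U') :=
      fun x hx => ⟨hD hx, hSU (hD hx)⟩
    have hψN : ∀ x, ψ x ∈ normalizerIn S (preimageAlong θ U') := fun x => ⟨hψS x, hSU (hψS x)⟩
    have hψE : ψ ∈ E.Hom _ := (hE _ ψ).mpr (mem_normalizerHom_of_le F hUD hDN hψ hψN hψU)
    have hψPE := fs_restrict_mem E hPD hψE
    have hψPF := fs_restrict_mem F hPD hψ
    -- the automorphism of `P` induced by `ψ`
    have hbij : Function.Bijective ((ψ.comp (Subgroup.inclusion hPD)).codRestrict P hψP) := by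
      rw [← Finite.injective_iff_bijective]
      intro x y hxy
      apply F.injective_of_mem hψPF
      exact congrArg Subtype.val hxy
    obtain ⟨ψa, hψadef⟩ : ∃ ψa : MulAut ↥P, ψa = MulEquiv.ofBijective _ hbij := ⟨_, rfl⟩
    have hψacoe : ∀ x : ↥P, ((ψa x : ↥P) : Ω) = ψ ⟨x, hPD x.2⟩ := fun x => by rw [hψadef]; rfl
    have hψaF : ψa ∈ F.autGroup P := by
      rw [mem_autGroup_iff F hPS]
      have e : P.subtype.comp ψa.toMonoidHom = ψ.comp (Subgroup.inclusion hPD) := by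
        ext x
        exact hψacoe x
      rw [e]
      exact hψPF
    -- `δ = ψa⁻¹ α` acts trivially on `P/Q`
    have hδ' : α⁻¹ * ψa ∈ kerAut Q P (F.autGroup P) := by
      refine ⟨Subgroup.mul_mem _ (Subgroup.inv_mem _ hα) hψaF, fun x => ?_⟩
      have hq : ((α x)⁻¹ * ψa x : ↥P) ∈ Q.subgroupOf P := by
        rw [Subgroup.mem_subgroupOf]
        show (((α x : ↥P) : Ω))⁻¹ * ((ψa x : ↥P) : Ω) ∈ Q
        rw [hψacoe]
        exact hmod x
      have h1 := aut_map_mem_stronglyClosed F Q hQsc hPS α⁻¹ (Subgroup.inv_mem _ hα) _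
        (Subgroup.mem_subgroupOf.mp hq)
      rw [map_mul, map_inv, MulAut.inv_apply_self] at h1
      exact h1
    have hδ : ψa⁻¹ * α ∈ kerAut Q P (F.autGroup P) := by
      have := Subgroup.inv_mem _ hδ'
      rwa [mul_inv_rev, inv_inv] at this
    -- `δ` is induced by an element of `S`
    obtain ⟨-, R, hR⟩ := hPFA
    have hDp := isPGroup_kerAut p hS F hQsc hK hPS hQP
    haveI hDn : ((kerAut Q P (F.autGroup P)).subgroupOf (F.autGroup P)).Normal :=
      (Subgroup.normal_subgroupOf_iff_le_normalizer (kerAut_le Q P _)).mpr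
        (le_normalizer_kerAut F Q hQsc hPS)
    have hDp' : IsPGroup p ↥((kerAut Q P (F.autGroup P)).subgroupOf (F.autGroup P)) :=
      hDp.comap_subtype
    have hDR := hDp'.le_sylow_of_normal R
    have hδS : ψa⁻¹ * α ∈ autInducedBy S P := by
      have h1 : (⟨ψa⁻¹ * α, hδ.1⟩ : ↥(F.autGroup P)) ∈ (R : Subgroup ↥(F.autGroup P)) :=
        hDR (Subgroup.mem_subgroupOf.mpr hδ)
      rw [hR] at h1
      exact Subgroup.mem_subgroupOf.mp h1
    obtain ⟨t, ht, htδ⟩ := (mem_autInducedBy_iff S P _).mp hδS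
    have htP : ∀ x : ↥P, (conjHom P t) x ∈ P := by
      intro x
      show t * (x : Ω) * t⁻¹ ∈ P
      rw [← htδ x]
      exact ((ψa⁻¹ * α) x).2
    have hcomp := E.comp_mem (E.conj_mem hPS ht) hψPE htP
    have e : (ψ.comp (Subgroup.inclusion hPD)).comp ((conjHom P t).codRestrict P htP) =
        P.subtype.comp α.toMonoidHom := by
      ext x
      have h1 : (conjHom P t).codRestrict P htP x = (ψa⁻¹ * α) x := Subtype.ext (htδ x).symm
      show ψ ⟨((conjHom P t).codRestrict P htP x : ↥P), hPD ((conjHom P t).codRestrict P htP x).2⟩ =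
        ((α x : ↥P) : Ω)
      rw [← hψacoe, h1, MulAut.mul_apply, MulAut.apply_inv_self]
    rw [e] at hcomp
    exact (mem_autGroup_iff E hPS α).mpr hcomp
  exact isNormal_of_forall_mem F hUS (fun A φ hφ => (hE A φ).mp (hFE A hφ))

end Cfsg.Agent.Lib.Helper7.ZJK
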