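import Mathlib
import Cfsg.Prelude.Def_FusionSystem
import Cfsg.Prelude.Def_FusionComponents
import Cfsg.Prelude.Def_FusionReduction
import Cfsg.Agent.Lib.Helper7.ZJKc
import Cfsg.Agent.Lib.Helper7.ZJKh
import Cfsg.Agent.Lib.Helper7.QdQe
import Cfsg.Agent.Lib.Helper7.GTFa

/-!
# ZJ-theorem for fusion systems (Kessar–Linckelmann), part I: the theorem

For a Glauberman functor `W` and a `Qd(p)`-free saturated fusion system `F` over `S`, `W(S)` is normal in `F`.
-/

set_option autoImplicit false
set_option linter.unusedSectionVars false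
set_option linter.style.haveILetI false

namespace Cfsg.Agent.Lib.Helper7.ZJK

open Cfsg Cfsg.FusionSystem Cfsg.Agent.Lib.Helper7 Cfsg.Agent.Lib.Helper7.QdF
  Cfsg.Agent.Lib.Helper7.WCtl Cfsg.Agent.Lib.Helper7.GTF Cfsg.Agent.Lib.Helper7.QdQ

universe u

/-- the statement of the theorem for the system `F` -/
def Thm (p : ℕ) (W : ∀ (Q : Type u) [Group Q], Subgroup Q) {Ω : Type u} [Group Ω] {S : Subgroup Ω}
    (F : FusionSystem S) : Prop :=
  F.IsSaturated p → F.IsSectionFree p ↥(Cfsg.qd p) → F.IsNormal (WT W S)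

variable {p : ℕ} [Fact p.Prime] (W : ∀ (Q : Type u) [Group Q], Subgroup Q)
  (hW1 : ∀ (Q : Type u) [Group Q] [Finite Q], IsPGroup p Q → Nontrivial Q → W Q ≠ ⊥)
  (hW2 : ∀ (Q R : Type u) [Group Q] [Group R] [Finite Q], IsPGroup p Q → ∀ φ : Q ≃* R,
    (W Q).map φ.toMonoidHom = W R)
  (hW3 : ∀ (L : Type u) [Group L] [Finite L] (P : Sylow p L),
    Subgroup.centralizer ((Cfsg.pCore p L : Subgroup L) : Set L) =
      Cfsg.pCore p L ⊓ Subgroup.centralizer ((Cfsg.pCore p L : Subgroup L) : Set L) →
    ¬ Cfsg.Involves ↥(Cfsg.qd p) L → (((W ↥(P : Subgroup L)).map (P : Subgroup L).subtype : Subgroup L)).Normal)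

/-- the normalizer system of a subgroup that is not normal in `F` is controlled, by induction -/
theorem normalizerHom_WT_of_ih {Ω : Type u} [Group Ω] {S : Subgroup Ω} [Finite S] (hS : IsPGroup p S)
    (F : FusionSystem S) (hF : F.IsSaturated p) (hfree : F.IsSectionFree p ↥(Cfsg.qd p))
    (ih1 : ∀ (Ω' : Type u) [Group Ω'] (S' : Subgroup Ω') [Finite S'] (F' : FusionSystem S'),
      Nat.card S' < Nat.card S → IsPGroup p S' → Thm p W F')
    (ih2 : ∀ (T : Subgroup Ω) [Finite T] (N : FusionSystem T),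
      Nat.card T = Nat.card S → mu N < mu F → IsPGroup p T → Thm p W N)
    {Q : Subgroup Ω} (hQfn : F.IsFullyNormalized Q) (hQn : ¬ F.IsNormal Q)
    (A : Subgroup Ω) (φ : A →* Ω) (hφ : φ ∈ F.normalizerHom Q A) :
    φ ∈ F.normalizerHom (WT W (normalizerIn S Q)) A := by
  have hQS : Q ≤ S := hQfn.1
  have hTS : normalizerIn S Q ≤ S := inf_le_left
  haveI : Finite ↥(normalizerIn S Q) := finite_of_le hTS
  have hTp : IsPGroup p ↥(normalizerIn S Q) := hS.to_le hTS
  obtain ⟨N, hN⟩ := exists_normalizerSystem F Q hQS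
  have hNsat := normalizerSystem_isSaturated p hS F hF Q hQfn N hN
  have hNfree := isSectionFree_normalizerSystem p hS F hF hfree hQfn N hN
  have hNF : ∀ (P : Subgroup Ω) (φ : P →* Ω), φ ∈ N.Hom P → φ ∈ F.Hom P := by
    intro P φ h
    rw [hN P] at h
    exact h.1
  have hThm : Thm p W N := by
    by_cases hlt : Nat.card ↥(normalizerIn S Q) < Nat.card S
    · exact ih1 Ω _ N hlt hTp
    · have hcard : Nat.card ↥(normalizerIn S Q) = Nat.card S :=
        le_antisymm (Subgroup.card_le_of_le hTS) (not_lt.mp hlt)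
      have hex : ∃ (P : Subgroup Ω) (φ : P →* Ω), φ ∈ F.Hom P ∧ φ ∉ F.normalizerHom Q P := by
        by_contra hcon
        apply hQn
        apply isNormal_of_forall_mem F hQS
        intro P φ hφ
        by_contra h1
        exact hcon ⟨P, φ, hφ, h1⟩
      obtain ⟨P, φ, hφ, hφn⟩ := hex
      have hmu : mu N < mu F := mu_lt F N hNF hφ (by rw [hN P]; exact hφn)
      exact ih2 _ N hcard hmu hTp
  have hNn := hThm hNsat hNfree
  have h1 : φ ∈ N.Hom A := by rw [hN A]; exact hφ
  exact normalizerHom_mono F N hTS hNF (mem_normalizerHom_of_isNormal N hNn h1)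

include hW1 hW2 hW3 in
/-- the theorem, by induction on `|S|` and the number of maps -/
theorem zjk_aux : ∀ n m : ℕ, ∀ (Ω : Type u) [Group Ω] (S : Subgroup Ω) [Finite S]
    (F : FusionSystem S), Nat.card S = n → mu F = m → IsPGroup p S → Thm p W F := by
  intro n
  induction n using Nat.strong_induction_on with
  | _ n ihn =>
  intro m
  induction m using Nat.strong_induction_on with
  | _ m ihm =>
  intro Ω _ S _ F hn hm hS hF hfree
  have ih1 : ∀ (Ω' : Type u) [Group Ω'] (S' : Subgroup Ω') [Finite S'] (F' : FusionSystem S'),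
      Nat.card S' < Nat.card S → IsPGroup p S' → Thm p W F' :=
    fun Ω' _ S' _ F' hlt hS' => ihn (Nat.card S') (hn ▸ hlt) (mu F') Ω' S' F' rfl rfl hS'
  have ih2 : ∀ (T : Subgroup Ω) [Finite T] (N : FusionSystem T),
      Nat.card T = Nat.card S → mu N < mu F → IsPGroup p T → Thm p W N :=
    fun T _ N hc hmu hT => ihm (mu N) (hm ▸ hmu) Ω T N (hc.trans hn) rfl hT
  have hVS : WT W S ≤ S := WT_le W S
  have hSV : S ≤ Subgroup.normalizer ((WT W S : Subgroup Ω) : Set Ω) :=
    Subgroup.le_normalizer.trans (normalizer_le_normalizer_WT W hW2 S hS)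
  by_cases hcore : F.core = ⊥
  · -- no nontrivial normal subgroup: climbing
    apply isNormal_WT_of_local W hW1 hW2 hS F hF
    intro Q hQne hQfn A φ hφ
    have hQn : ¬ F.IsNormal Q := by
      intro h
      apply hQne
      rw [eq_bot_iff, ← hcore]
      exact le_sSup h
    exact normalizerHom_WT_of_ih W hS F hF hfree ih1 ih2 hQfn hQn A φ hφ
  · -- `Q = O_p(F) ≠ 1`
    have hQ : F.IsNormal F.core := isNormal_core F
    obtain ⟨Q, hQdef⟩ : ∃ Q : Subgroup Ω, Q = F.core := ⟨_, rfl⟩
    rw [← hQdef] at hQ hcore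
    have hQS : Q ≤ S := hQ.1
    have hSQ : S ≤ Subgroup.normalizer (Q : Set Ω) := le_normalizer_of_isNormal F hQ
    have hQsc := stronglyClosed_of_isNormal F hQ
    by_cases hcen : centralizerIn S Q ≤ Q
    · -- constrained case
      have hQc : F.IsCentric Q := by
        refine ⟨hQS, fun Q' hQ' => ?_⟩
        obtain ⟨φ, hφ, hr⟩ := hQ'
        have hQ'eq : Q' = Q := by
          rw [← hr]
          apply le_antisymm
          · rintro _ ⟨x, rfl⟩
            exact hQsc.2 Q le_rfl φ hφ x
          · exact stronglyClosed_le_range F Q hQsc hφ le_rfl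
        rw [hQ'eq]
        exact hcen
      exact isNormal_WT_of_constrained W hW2 hW3 hS F hF hfree hQ hQc
    · -- `Q` is not centric
      have hSR := le_normalizer_sup_centralizerIn hQS hSQ
      have hRS : Q ⊔ centralizerIn S Q ≤ S := sup_le hQS inf_le_left
      have hRn : ¬ F.IsNormal (Q ⊔ centralizerIn S Q) := by
        intro h
        apply hcen
        have h1 : Q ⊔ centralizerIn S Q ≤ F.core := le_sSup h
        rw [← hQdef] at h1
        exact le_sup_right.trans h1
      have hRfn : F.IsFullyNormalized (Q ⊔ centralizerIn S Q) :=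
        Cfsg.Agent.Lib.Helper7.MaxClass.isFullyNormalized_of_normalizer F hRS hSR
      have hTR : normalizerIn S (Q ⊔ centralizerIn S Q) = S := inf_eq_left.mpr hSR
      have h₂ : ∀ (A : Subgroup Ω) (φ : A →* Ω), φ ∈ F.normalizerHom (Q ⊔ centralizerIn S Q) A →
          φ ∈ F.normalizerHom (WT W S) A := by
        intro A φ hφ
        have := normalizerHom_WT_of_ih W hS F hF hfree ih1 ih2 hRfn hRn A φ hφ
        rwa [WT_congr W hTR] at this
      by_cases hK : F.autGroup Q ≤ autInducedBy S Q
      · -- `F = S C_F(Q)`: impossible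
        exfalso
        haveI hQ₀n : (Q.subgroupOf S).Normal :=
          (Subgroup.normal_subgroupOf_iff_le_normalizer hQS).mpr hSQ
        obtain ⟨E', hE'⟩ := exists_factorSystem_quotient F Q hQsc
        have hE'sat := isSaturated_of_isFactorSystem p hS F hF Q hQsc _ E' hE'
        have hE'free := isSectionFree_factor p hS F hF Q hQsc _ hfree _ E' hE'
        have hS'p : IsPGroup p ↥(⊤ : Subgroup (↥S ⧸ Q.subgroupOf S)) :=
          (hS.to_quotient (Q.subgroupOf S)).to_subgroup ⊤
        have hQcard : 1 < Nat.card ↥(Q.subgroupOf S) := by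
          rw [Nat.card_congr (Subgroup.subgroupOfEquivOfLe hQS).toEquiv]
          haveI : Finite ↥Q := finite_of_le hQS
          exact (Subgroup.one_lt_card_iff_ne_bot (H := Q)).mpr hcore
        have hlt : Nat.card ↥(⊤ : Subgroup (↥S ⧸ Q.subgroupOf S)) < Nat.card S := by
          rw [Subgroup.card_top, Subgroup.card_eq_card_quotient_mul_card_subgroup (Q.subgroupOf S)]
          have hpos : 0 < Nat.card (↥S ⧸ Q.subgroupOf S) := Nat.card_pos
          nlinarith
        have hThm := ih1 (↥S ⧸ Q.subgroupOf S) ⊤ E' hlt hS'p hE'sat hE'free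
        have hU := isNormal_preimage_of_aut_le p hS F hF hQ hK _ E' hE' hThm
        have hUQ : preimageAlong (QuotientGroup.mk' (Q.subgroupOf S))
            (WT W (⊤ : Subgroup (↥S ⧸ Q.subgroupOf S))) ≤ Q := by
          have h1 : preimageAlong (QuotientGroup.mk' (Q.subgroupOf S))
              (WT W (⊤ : Subgroup (↥S ⧸ Q.subgroupOf S))) ≤ F.core := le_sSup hU
          exact h1.trans hQdef.ge
        have hne : (⊤ : Subgroup (↥S ⧸ Q.subgroupOf S)) ≠ ⊥ := by
          intro h
          apply hcen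
          intro c hc
          have h1 : (QuotientGroup.mk' (Q.subgroupOf S)) ⟨c, hc.1⟩ ∈
              (⊤ : Subgroup (↥S ⧸ Q.subgroupOf S)) := Subgroup.mem_top _
          rw [h, Subgroup.mem_bot] at h1
          exact (hE'.2.1 _).mp h1
        have hWne := WT_ne_bot W hW1 hS'p hne
        apply hWne
        rw [eq_bot_iff]
        intro u' hu'
        obtain ⟨s, rfl⟩ := QuotientGroup.mk'_surjective (Q.subgroupOf S) u'
        have hs : (s : Ω) ∈ preimageAlong (QuotientGroup.mk' (Q.subgroupOf S))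
            (WT W (⊤ : Subgroup (↥S ⧸ Q.subgroupOf S))) :=
          (mem_preimageAlong _ _ _).mpr ⟨s.2, hu'⟩
        rw [Subgroup.mem_bot]
        exact (hE'.2.1 s).mpr (hUQ hs)
      · -- `S C_F(Q)` is a proper subsystem
        obtain ⟨F₁, hF₁⟩ := exists_kNormSystem F Q hQS (autInducedBy S Q)
        have hT₁ : kNorm S (autInducedBy S Q) Q.subtype = S := kNorm_autInduced_eq hSQ
        have hT₁S : kNorm S (autInducedBy S Q) Q.subtype ≤ S := kNorm_le _ _
        haveI : Finite ↥(kNorm S (autInducedBy S Q) Q.subtype) := finite_of_le hT₁S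
        have hT₁p : IsPGroup p ↥(kNorm S (autInducedBy S Q) Q.subtype) := hS.to_le hT₁S
        have hF₁sat := kNormSystem_autInduced_isSaturated p hS F hF hQ F₁ hF₁
        have hF₁free := isSectionFree_kNormSystem p hS F hF hQ F₁ hF₁ hfree
        have hF₁F : ∀ (P : Subgroup Ω) (φ : P →* Ω), φ ∈ F₁.Hom P → φ ∈ F.Hom P :=
          fun P φ h => kNormSystem_isSubsystemOf F F₁ hF₁ P h
        have hmu : mu F₁ < mu F := by
          obtain ⟨α, hα, hαK⟩ := SetLike.not_le_iff_exists.mp hK
          have hφ : Q.subtype.comp α.toMonoidHom ∈ F.Hom Q := (mem_autGroup_iff F hQS α).mp hα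
          apply mu_lt F F₁ hF₁F hφ
          rw [hF₁]
          rintro ⟨-, -, -, ψ, -, hext, κ, hκ, hκeq⟩
          apply hαK
          have : α = κ := by
            ext x
            have h1 := hext x
            have h2 := hκeq x
            have e : Subgroup.inclusion (le_sup_left : Q ≤ Q ⊔ Q) x =
                Subgroup.inclusion (le_sup_right : Q ≤ Q ⊔ Q) x := Subtype.ext rfl
            rw [e, h2] at h1
            exact h1.symm
          rw [this]
          exact hκ
        have hcard : Nat.card ↥(kNorm S (autInducedBy S Q) Q.subtype) = Nat.card S := by rw [hT₁]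
        have hF₁n := ih2 _ F₁ hcard hmu hT₁p hF₁sat hF₁free
        rw [WT_congr W hT₁] at hF₁n
        have h₁ : ∀ (A : Subgroup Ω) (φ : A →* Ω), φ ∈ kNormHom F Q (autInducedBy S Q) A →
            φ ∈ F.normalizerHom (WT W S) A := by
          intro A φ hφ
          have h1 : φ ∈ F₁.Hom A := by rw [hF₁]; exact hφ
          exact normalizerHom_mono F F₁ hT₁S hF₁F (mem_normalizerHom_of_isNormal F₁ hF₁n h1)
        exact isNormal_of_kNorm_of_normalizer p hS F hF hQ hVS hSV h₁ h₂

include hW1 hW2 hW3 in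
/-- **ZJ-theorem for fusion systems in functor form** (Kessar–Linckelmann) -/
theorem zjk {Ω : Type u} [Group Ω] {S : Subgroup Ω} [Finite S] (hS : IsPGroup p S)
    (F : FusionSystem S) (hF : F.IsSaturated p) (hfree : F.IsSectionFree p ↥(Cfsg.qd p)) :
    F.IsNormal (WT W S) :=
  zjk_aux W hW1 hW2 hW3 _ _ Ω S F rfl rfl hS hF hfree

end Cfsg.Agent.Lib.Helper7.ZJK
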