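import Mathlib
import Cfsg.Agent.H9.DicksonUN
import Cfsg.Agent.Lib.Helper7.CAGrpC

set_option autoImplicit false

/-!
# Involutions of `SL₂` in characteristic two and the relation `v u v = u v u`
-/

namespace Cfsg.Agent.Lib.Helper7.ZasU

open Matrix Cfsg.Agent.H9.AutPSL2 Cfsg.Agent.Lib.Helper7.CAGrp

variable {F : Type*} [Field F]

local notation "SL2" => Matrix.SpecialLinearGroup (Fin 2) F
local notation "PSL2" => Matrix.ProjectiveSpecialLinearGroup (Fin 2) F

/-- In characteristic two `PSL₂` is `SL₂`. -/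
noncomputable def slEquiv (h2 : (2 : F) = 0) : PSL2 ≃* SL2 :=
  (QuotientGroup.quotientMulEquivOfEq (sl_center_eq_bot h2)).trans QuotientGroup.quotientBot

/-- The diagonal entries of an involution of `SL₂` with nonzero lower left entry add up to zero. -/
theorem trace_of_sq (w : SL2) (hw : w * w = 1) (hc : w.1 1 0 ≠ 0) : w.1 0 0 + w.1 1 1 = 0 := by
  have e10 := congrArg (fun z : SL2 => z.1 1 0) hw
  simp only [mul_10] at e10
  have h1 : (1 : SL2).1 1 0 = 0 := by simp
  rw [h1] at e10
  have : w.1 1 0 * (w.1 0 0 + w.1 1 1) = 0 := by linear_combination e10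
  rcases mul_eq_zero.1 this with h | h
  · exact absurd h hc
  · exact h

/-- An involution of `SL₂` in characteristic two has trace `2`. -/
theorem trace_eq_two (h2 : (2 : F) = 0) (w : SL2) (hw : w * w = 1) : w.1.trace = 2 := by
  rw [Matrix.trace_fin_two, h2]
  by_cases hc : w.1 1 0 = 0
  · have e00 := congrArg (fun z : SL2 => z.1 0 0) hw
    have e11 := congrArg (fun z : SL2 => z.1 1 1) hw
    simp only [mul_00, mul_11, hc] at e00 e11
    have h1 : (1 : SL2).1 0 0 = 1 := by simp
    have h1' : (1 : SL2).1 1 1 = 1 := by simp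
    rw [h1] at e00
    rw [h1'] at e11
    have hd := det_eq w
    rw [hc, mul_zero, sub_zero] at hd
    -- `a^2 = 1`, `d^2 = 1`, `a d = 1`
    have h3 : (w.1 0 0 + w.1 1 1) ^ 2 = 0 := by
      linear_combination e00 + e11 + 2 * hd + 2 * h2
    exact pow_eq_zero_iff (two_ne_zero) |>.1 h3
  · exact trace_of_sq w hw hc

/-- **The relation `w u w = u w u`** for an involution `w` with nonzero lower left entry. -/
theorem key_iff (h2 : (2 : F) = 0) (w : SL2) (hw : w * w = 1) (hc : w.1 1 0 ≠ 0) (x : F) :
    w * u x * w = u x * w * u x ↔ x = (w.1 1 0)⁻¹ := by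
  have htr := trace_of_sq w hw hc
  have hd := det_eq w
  constructor
  · intro h
    have e10 := congrArg (fun z : SL2 => z.1 1 0) h
    simp only [mul_10, mul_11, u_00, u_01, u_10, u_11] at e10
    have h1 : w.1 1 0 * (w.1 1 0 * x - 1) = 0 := by
      linear_combination e10 - w.1 1 0 * htr
    rcases mul_eq_zero.1 h1 with h' | h'
    · exact absurd h' hc
    · field_simp
      linear_combination h'
  · intro hx
    have hx' : w.1 1 0 * x = 1 := by rw [hx]; field_simp
    have h11 : w.1 1 1 = - w.1 0 0 := by linear_combination htr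
    have hd' : w.1 0 0 * (- w.1 0 0) - w.1 0 1 * w.1 1 0 = 1 := by rw [← h11]; exact hd
    apply ext4 <;>
      simp only [mul_00, mul_01, mul_10, mul_11, u_00, u_01, u_10, u_11, h11]
    · linear_combination (w.1 0 0 - 1) * hx' - hd' - h2
    · linear_combination x * hd' + (w.1 0 1 - x) * hx'
    · linear_combination w.1 1 0 * hx'
    · linear_combination -hd' - (w.1 0 0 + 1) * hx' - h2

end Cfsg.Agent.Lib.Helper7.ZasU
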