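import Mathlib
import Cfsg.Prelude.Def_Involutions
import Cfsg.Agent.Lib.Helper7.ExcA13
import Cfsg.Agent.Lib.Helper7.CAGrpB
import Cfsg.Agent.S1225
import Cfsg.Agent.S0215
import Cfsg.Agent.S1230

set_option autoImplicit false
set_option linter.style.haveILetI false
set_option linter.unusedSectionVars false

/-!
# A point stabilizer with an abelian regular normal `2`-subgroup, in a group where only the
identity fixes three points
-/

namespace Cfsg.Agent.Lib.Helper7.ZasU

open Cfsg Cfsg.Agent.Lib.Helper7.ExcA Cfsg.Agent.Lib.Helper7.CAGrp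

variable {G Ω : Type*} [Group G] [MulAction G Ω]

/-- The standing hypotheses. -/
structure Setup (U : Subgroup G) (a : Ω) : Prop where
  three : ∀ g : G, ∀ x y z : Ω, x ≠ y → y ≠ z → x ≠ z → g • x = x → g • y = y → g • z = z → g = 1
  le : U ≤ MulAction.stabilizer G a
  norm : ∀ h ∈ MulAction.stabilizer G a, ∀ u ∈ U, h * u * h⁻¹ ∈ U
  reg : ∀ c d : Ω, c ≠ a → d ≠ a → ∃! u : U, (u : G) • c = d
  two : IsPGroup 2 U
  comm : ∀ u ∈ U, ∀ u' ∈ U, u * u' = u' * u

variable {U : Subgroup G} {a : Ω}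

theorem Setup.fix_only (h : Setup U a) {u : G} (hu : u ∈ U) {c : Ω} (hc : c ≠ a)
    (huc : u • c = c) : u = 1 := by
  obtain ⟨u0, -, huniq⟩ := h.reg c c hc hc
  have h1 := huniq ⟨u, hu⟩ huc
  have h2 := huniq 1 (one_smul _ _)
  have := h1.trans h2.symm
  exact congrArg Subtype.val this

theorem Setup.smul_a (h : Setup U a) {u : G} (hu : u ∈ U) : u • a = a :=
  MulAction.mem_stabilizer_iff.mp (h.le hu)

/-- The centralizer of a nonidentity element of `U` is contained in `U`. -/
theorem Setup.cent_le (h : Setup U a) {b : Ω} (hb : b ≠ a) {y g : G} (hy : y ∈ U) (hy1 : y ≠ 1)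
    (hg : g * y = y * g) : g ∈ U := by
  have hya := h.smul_a hy
  have hga : g • a = a := by
    by_contra hne
    apply hy1
    apply h.fix_only hy hne
    rw [← mul_smul, ← hg, mul_smul, hya]
  have hda : g • b ≠ a := by
    intro e
    apply hb
    have : g • b = g • a := by rw [e, hga]
    exact MulAction.injective g this
  obtain ⟨u', hu', -⟩ := h.reg b (g • b) hb hda
  have hu'a := h.smul_a u'.2
  have hfixb : ((u' : G)⁻¹ * g) • b = b := by
    rw [mul_smul, ← hu', inv_smul_smul]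
  have he1 : ((u' : G)⁻¹ * g) = 1 := by
    apply h.three _ a b (y • b) hb.symm
    · intro e
      exact hy1 (h.fix_only hy hb e.symm)
    · intro e
      apply hb
      have : y • b = y • a := by rw [← e, hya]
      exact MulAction.injective y this
    · rw [mul_smul, hga, inv_smul_eq_iff, hu'a]
    · exact hfixb
    · have hcomm : ((u' : G)⁻¹ * g) * y = y * ((u' : G)⁻¹ * g) := by
        have := h.comm _ (inv_mem u'.2) _ hy
        rw [mul_assoc, hg, ← mul_assoc, this, mul_assoc]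
      rw [← mul_smul, hcomm, mul_smul, hfixb]
  have : g = u' := by
    have := congrArg (fun z => (u' : G) * z) he1
    simpa using this
  rw [this]; exact u'.2

theorem Setup.stab_le_normalizer (h : Setup U a) :
    MulAction.stabilizer G a ≤ Subgroup.normalizer (U : Set G) := by
  intro g hg
  rw [Subgroup.mem_normalizer_iff]
  intro x
  constructor
  · exact h.norm g hg x
  · intro hx
    have := h.norm g⁻¹ (inv_mem hg) _ hx
    have e : g⁻¹ * (g * x * g⁻¹) * g⁻¹⁻¹ = x := by group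
    rwa [e] at this

theorem Setup.ti (h : Setup U a) {x g : G} (hx : x ∈ U) (hx1 : x ≠ 1) (hg : g⁻¹ * x * g ∈ U) :
    g ∈ Subgroup.normalizer (U : Set G) := by
  apply h.stab_le_normalizer
  have hz1 : g⁻¹ * x * g ≠ 1 := by
    intro e
    apply hx1
    have : x = g * (g⁻¹ * x * g) * g⁻¹ := by group
    rw [this, e]; group
  have hga : g⁻¹ • a = a := by
    by_contra hne
    apply hz1
    apply h.fix_only hg hne
    rw [← mul_smul]
    have : g⁻¹ * x * g * g⁻¹ = g⁻¹ * x := by group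
    rw [this, mul_smul, h.smul_a hx]
  have : g⁻¹ ∈ MulAction.stabilizer G a := MulAction.mem_stabilizer_iff.mpr hga
  have := inv_mem this
  rwa [inv_inv] at this

/-- The hypotheses of the exceptional character theory. -/
theorem Setup.hyp (h : Setup U a) {b : Ω} (hb : b ≠ a) : Hyp U U := by
  refine ⟨le_refl _, h.comm, ?_, ?_, ?_⟩
  · intro x hx hx1 g hg
    exact h.ti hx hx1 hg
  · intro n hn y hy
    exact (Subgroup.mem_normalizer_iff.mp hn y).mp hy
  · intro y hy hy1 g hg
    exact h.cent_le hb hy hy1 hg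

/-- No involution fixes two points. -/
theorem Setup.no_invol [Finite G] (h : Setup U a) {s₀ : G} (hs₀ : s₀ ∈ U) (hs₀1 : s₀ ≠ 1)
    {w : G} (hw : orderOf w = 2) (hwa : w • a = a) {c : Ω} (hc : c ≠ a) (hwc : w • c = c) :
    False := by
  haveI : Fact (Nat.Prime 2) := ⟨Nat.prime_two⟩
  have hw1 := ne_one_of_orderOf hw
  have hwM : w ∈ MulAction.stabilizer G a := MulAction.mem_stabilizer_iff.mpr hwa
  have hpz : IsPGroup 2 (Subgroup.zpowers w) := by
    rw [IsPGroup.iff_card]
    refine ⟨1, ?_⟩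
    rw [Nat.card_zpowers, hw, pow_one]
  have hle : Subgroup.zpowers w ≤ Subgroup.normalizer (U : Set G) := by
    rw [Subgroup.zpowers_le]
    exact h.stab_le_normalizer hwM
  have hQ : IsPGroup 2 (Subgroup.zpowers w ⊔ U : Subgroup G) :=
    IsPGroup.to_sup_of_normal_right' hpz h.two hle
  have hwQ : w ∈ (Subgroup.zpowers w ⊔ U : Subgroup G) :=
    (le_sup_left : Subgroup.zpowers w ≤ _) (Subgroup.mem_zpowers w)
  have hUQ : U ≤ (Subgroup.zpowers w ⊔ U : Subgroup G) := le_sup_right
  haveI : Nontrivial (Subgroup.zpowers w ⊔ U : Subgroup G) :=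
    ⟨⟨⟨w, hwQ⟩, 1, fun hh => hw1 (congrArg Subtype.val hh)⟩⟩
  haveI := hQ.center_nontrivial
  obtain ⟨z, hz1⟩ := exists_ne (1 : Subgroup.center (Subgroup.zpowers w ⊔ U : Subgroup G))
  have hz1' : ((z : (Subgroup.zpowers w ⊔ U : Subgroup G)) : G) ≠ 1 := by
    intro hh
    apply hz1
    apply Subtype.ext
    apply Subtype.ext
    exact hh
  have hcomm : ∀ x ∈ (Subgroup.zpowers w ⊔ U : Subgroup G),
      x * ((z : (Subgroup.zpowers w ⊔ U : Subgroup G)) : G)
        = ((z : (Subgroup.zpowers w ⊔ U : Subgroup G)) : G) * x := by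
    intro x hx
    have := (Subgroup.mem_center_iff.mp z.2) ⟨x, hx⟩
    exact congrArg Subtype.val this
  have hzU : ((z : (Subgroup.zpowers w ⊔ U : Subgroup G)) : G) ∈ U :=
    h.cent_le hc hs₀ hs₀1 (hcomm s₀ (hUQ hs₀)).symm
  have hwU : w ∈ U := h.cent_le hc hzU hz1' (hcomm w hwQ)
  exact hw1 (h.fix_only hwU hc hwc)

/-- The point stabilizer is strongly embedded. -/
theorem Setup.stronglyEmbedded [Finite G] (h : Setup U a) {s₀ : G} (hs₀ : s₀ ∈ U) (hs₀1 : s₀ ≠ 1)
    {v : G} (hv : v • a ≠ a) : IsStronglyEmbedded (MulAction.stabilizer G a) := by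
  haveI : Fact (Nat.Prime 2) := ⟨Nat.prime_two⟩
  refine ⟨?_, ?_, ?_⟩
  · intro htop
    apply hv
    have : v ∈ MulAction.stabilizer G a := by rw [htop]; trivial
    exact MulAction.mem_stabilizer_iff.mp this
  · have h1 : 2 ∣ Nat.card U := by
      obtain ⟨n, hn⟩ := IsPGroup.iff_card.mp h.two
      rcases Nat.eq_zero_or_pos n with h0 | h0
      · rw [h0, pow_zero] at hn
        have := Subgroup.card_eq_one.mp hn
        rw [this, Subgroup.mem_bot] at hs₀
        exact absurd hs₀ hs₀1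
      · rw [hn]; exact dvd_pow_self 2 h0.ne'
    exact even_iff_two_dvd.mpr (h1.trans (Subgroup.card_dvd_of_le h.le))
  · intro g hg
    by_contra hodd
    rw [Nat.not_odd_iff_even, even_iff_two_dvd] at hodd
    obtain ⟨z, hz⟩ := exists_prime_orderOf_dvd_card' 2 hodd
    have hz2 : orderOf (z : G) = 2 := by rw [Subgroup.orderOf_coe]; exact hz
    have hzM := (Subgroup.mem_inf.mp z.2).1
    obtain ⟨z', hz'M, hz'⟩ := Subgroup.mem_map.mp (Subgroup.mem_inf.mp z.2).2
    have hz'eq : g * z' * g⁻¹ = (z : G) := hz'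
    have hga : g • a ≠ a := fun e => hg (MulAction.mem_stabilizer_iff.mpr e)
    apply h.no_invol hs₀ hs₀1 hz2 (MulAction.mem_stabilizer_iff.mp hzM) hga
    rw [← hz'eq, mul_smul, mul_smul, inv_smul_smul, MulAction.mem_stabilizer_iff.mp hz'M]

/-- A Sylow `2`-subgroup containing `U` is `U`. -/
theorem Setup.sylow_eq [Finite G] (h : Setup U a) {b : Ω} (hb : b ≠ a) {s₀ : G} (hs₀ : s₀ ∈ U)
    (hs₀1 : s₀ ≠ 1) (P : Sylow 2 G) (hUP : U ≤ P) : (P : Subgroup G) = U := by
  haveI : Fact (Nat.Prime 2) := ⟨Nat.prime_two⟩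
  apply le_antisymm _ hUP
  haveI : Nontrivial (P : Subgroup G) :=
    ⟨⟨⟨s₀, hUP hs₀⟩, 1, fun hh => hs₀1 (congrArg Subtype.val hh)⟩⟩
  haveI := P.isPGroup'.center_nontrivial
  obtain ⟨z, hz1⟩ := exists_ne (1 : Subgroup.center (P : Subgroup G))
  have hz1' : ((z : (P : Subgroup G)) : G) ≠ 1 := by
    intro hh
    apply hz1
    apply Subtype.ext
    apply Subtype.ext
    exact hh
  have hcomm : ∀ x ∈ (P : Subgroup G),
      x * ((z : (P : Subgroup G)) : G) = ((z : (P : Subgroup G)) : G) * x := by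
    intro x hx
    have := (Subgroup.mem_center_iff.mp z.2) ⟨x, hx⟩
    exact congrArg Subtype.val this
  have hzU : ((z : (P : Subgroup G)) : G) ∈ U :=
    h.cent_le hb hs₀ hs₀1 (hcomm s₀ (hUP hs₀)).symm
  intro x hx
  exact h.cent_le hb hzU hz1' (hcomm x hx)

end Cfsg.Agent.Lib.Helper7.ZasU
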