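import Mathlib
import Cfsg.Agent.Lib.Helper7.ZasA
import Cfsg.Agent.Lib.Helper7.ZasB

set_option autoImplicit false
set_option linter.style.haveILetI false
set_option linter.unusedSectionVars false

/-!
# A simple group with a point stabilizer having an abelian regular normal `2`-subgroup is `SL₂`
in characteristic two
-/

namespace Cfsg.Agent.Lib.Helper7.ZasU

open Cfsg Cfsg.Agent.Lib.Helper7.ExcA Cfsg.Agent.Lib.Helper7.CAGrp

variable {G Ω : Type*} [Group G] [MulAction G Ω] [Finite G] {U : Subgroup G} {a : Ω}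

theorem Setup.two_dvd_card (h : Setup U a) {s₀ : G} (hs₀ : s₀ ∈ U) (hs₀1 : s₀ ≠ 1) :
    2 ∣ Nat.card U := by
  obtain ⟨n, hn⟩ := IsPGroup.iff_card.mp h.two
  rcases Nat.eq_zero_or_pos n with h0 | h0
  · rw [h0, pow_zero] at hn
    have := Subgroup.card_eq_one.mp hn
    rw [this, Subgroup.mem_bot] at hs₀
    exact absurd hs₀ hs₀1
  · rw [hn]; exact dvd_pow_self 2 h0.ne'

/-- `U` contains an involution. -/
theorem Setup.exists_invol (h : Setup U a) {s₀ : G} (hs₀ : s₀ ∈ U) (hs₀1 : s₀ ≠ 1) :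
    ∃ t ∈ U, orderOf t = 2 := by
  haveI : Fact (Nat.Prime 2) := ⟨Nat.prime_two⟩
  obtain ⟨t, ht⟩ := exists_prime_orderOf_dvd_card' 2 (h.two_dvd_card hs₀ hs₀1)
  exact ⟨t, t.2, by rw [Subgroup.orderOf_coe]; exact ht⟩

variable [IsSimpleGroup G]

/-- `U` contains two involutions. -/
theorem Setup.exists_two (h : Setup U a) {v : G} (hv : v • a ≠ a) {t : G} (htU : t ∈ U)
    (ht : orderOf t = 2) : ∃ s ∈ U, orderOf s = 2 ∧ s ≠ t := by
  haveI : Fact (Nat.Prime 2) := ⟨Nat.prime_two⟩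
  by_contra hcon
  push Not at hcon
  have ht1 := ne_one_of_orderOf ht
  have hb : v • a ≠ a := hv
  obtain ⟨P, hP⟩ := h.two.exists_le_sylow
  have hPU := h.sylow_eq hb htU ht1 P hP
  have hiso : ∀ g : G, g * t * g⁻¹ ∈ P → g * t * g⁻¹ = t := by
    intro g hg
    have hg' : g * t * g⁻¹ ∈ (P : Subgroup G) := hg
    rw [hPU] at hg'
    exact hcon _ hg' (orderOf_conj_two ht g)
  obtain ⟨N, hNn, hNodd, hN⟩ := Cfsg.Agent.S0215.result P t ht (hP htU) hiso
  rcases hNn.eq_bot_or_eq_top with hbot | htop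
  · apply hv
    have hvt : v * t = t * v := by
      have := hN v
      rw [hbot, Subgroup.mem_bot] at this
      calc v * t = (t * v * t⁻¹ * v⁻¹)⁻¹ * (t * v * t⁻¹ * v⁻¹) * v * t := by group
        _ = (t * v * t⁻¹ * v⁻¹)⁻¹ * (t * v) := by group
        _ = t * v := by rw [this]; group
    exact h.smul_a (h.cent_le hb htU ht1 hvt)
  · rw [htop] at hNodd
    have h2 : 2 ∣ Nat.card G := by
      rw [← ht]; exact orderOf_dvd_natCard t
    rw [Nat.card_congr (Subgroup.topEquiv (G := G)).toEquiv] at hNodd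
    exact (Nat.not_even_iff_odd.mpr hNodd) (even_iff_two_dvd.mpr h2)

/-- `U` is an elementary abelian `2`-group. -/
theorem Setup.sq_eq_one (h : Setup U a) {v : G} (hv : v • a ≠ a) (hv2 : orderOf v = 2) :
    ∀ y ∈ U, y ^ 2 = 1 := by
  intro y hy
  by_contra hy2
  have hb : v • a ≠ a := hv
  have hy1 : y ≠ 1 := by
    intro e
    apply hy2
    rw [e, one_pow]
  obtain ⟨t, htU, ht⟩ := h.exists_invol hy hy1
  obtain ⟨s, hsU, hs, hst⟩ := h.exists_two hv htU ht
  have ht1 := ne_one_of_orderOf ht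
  have hSE := h.stronglyEmbedded htU ht1 hv
  have hvM : v ∉ MulAction.stabilizer G a := fun e => hv (MulAction.mem_stabilizer_iff.mp e)
  have htop : Subgroup.normalizer (U : Set G) = ⊤ := by
    apply normalizer_eq_top U U (h.hyp hb) (fun _ hx _ => hx) ?_ s t hsU htU hs ht hst y hy hy2
    intro p hp q hq hp2 hq2
    obtain ⟨⟨d, hd, hdpq⟩, -⟩ := Cfsg.Agent.S1225.result _ hSE v hv2 hvM p q hp2 (h.le hp) hq2
      (h.le hq)
    exact ⟨d, h.stab_le_normalizer (Subgroup.mem_inf.mp hd).1, hdpq⟩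
  have hvN : v ∈ Subgroup.normalizer (U : Set G) := by rw [htop]; trivial
  have hconj : v * t * v⁻¹ ∈ U := (Subgroup.mem_normalizer_iff.mp hvN t).mp htU
  have h1 : v * t * v⁻¹ = 1 := by
    apply h.fix_only hconj hb
    rw [mul_smul, mul_smul, inv_smul_smul, h.smul_a htU]
  apply ht1
  have : t = v⁻¹ * (v * t * v⁻¹) * v := by group
  rw [this, h1]; group

/-- The centralizer of every involution is an elementary abelian `2`-group. -/
theorem Setup.invol_cent (h : Setup U a) {v : G} (hv : v • a ≠ a) (hv2 : orderOf v = 2)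
    {s₀ : G} (hs₀ : s₀ ∈ U) (hs₀2 : orderOf s₀ = 2) (t : G) (ht : orderOf t = 2) :
    IsMulCommutative (Subgroup.centralizer ({t} : Set G)) ∧
      ∀ c ∈ Subgroup.centralizer ({t} : Set G), c ^ 2 = 1 := by
  have hb : v • a ≠ a := hv
  have hs₀1 := ne_one_of_orderOf hs₀2
  have hSE := h.stronglyEmbedded hs₀ hs₀1 hv
  have hvM : v ∉ MulAction.stabilizer G a := fun e => hv (MulAction.mem_stabilizer_iff.mp e)
  obtain ⟨-, hall⟩ := Cfsg.Agent.S1225.result _ hSE v hv2 hvM s₀ s₀ hs₀2 (h.le hs₀) hs₀2 (h.le hs₀)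
  obtain ⟨g, hg⟩ := isConj_iff.mp (hall s₀ t hs₀2 ht)
  have hsq := h.sq_eq_one hv hv2
  have hmem : ∀ x ∈ Subgroup.centralizer ({t} : Set G), g⁻¹ * x * g ∈ U := by
    intro x hx
    have hxt : x * t = t * x := mem_cent.mp hx
    apply h.cent_le hb hs₀ hs₀1
    have e1 : s₀ = g⁻¹ * t * g := by rw [← hg]; group
    calc g⁻¹ * x * g * s₀ = g⁻¹ * (x * t) * g := by rw [e1]; group
      _ = g⁻¹ * (t * x) * g := by rw [hxt]
      _ = s₀ * (g⁻¹ * x * g) := by rw [e1]; group
  refine ⟨⟨⟨fun x y => ?_⟩⟩, ?_⟩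
  · apply Subtype.ext
    have := h.comm _ (hmem x x.2) _ (hmem y y.2)
    show (x : G) * y = y * x
    calc (x : G) * y = g * ((g⁻¹ * x * g) * (g⁻¹ * y * g)) * g⁻¹ := by group
      _ = g * ((g⁻¹ * y * g) * (g⁻¹ * x * g)) * g⁻¹ := by rw [this]
      _ = y * x := by group
  · intro c hc
    have := hsq _ (hmem c hc)
    rw [pow_two] at this
    calc c ^ 2 = c * c := pow_two c
      _ = g * ((g⁻¹ * c * g) * (g⁻¹ * c * g)) * g⁻¹ := by group
      _ = 1 := by rw [this]; group

/-- **`G` is `SL₂` over a field of characteristic two, and `U` is a Sylow `2`-subgroup.** -/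
theorem Setup.exists_iso (h : Setup U a) {v : G} (hv : v • a ≠ a) (hv2 : orderOf v = 2)
    {s₀ : G} (hs₀ : s₀ ∈ U) (hs₀1 : s₀ ≠ 1) :
    ∃ (F : Type) (_ : Field F) (_ : Fintype F), (2 : F) = 0 ∧
      Nonempty (G ≃* Matrix.SpecialLinearGroup (Fin 2) F) := by
  haveI : Fact (Nat.Prime 2) := ⟨Nat.prime_two⟩
  have hb : v • a ≠ a := hv
  obtain ⟨t, htU, ht⟩ := h.exists_invol hs₀ hs₀1
  obtain ⟨s, hsU, hs, hst⟩ := h.exists_two hv htU ht
  have ht1 := ne_one_of_orderOf ht
  obtain ⟨P, hP⟩ := h.two.exists_le_sylow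
  have hPU := h.sylow_eq hb htU ht1 P hP
  have htP : t ∈ (P : Subgroup G) := hP htU
  have hsP : s ∈ (P : Subgroup G) := hP hsU
  have hPnc : ¬ IsCyclic (P : Subgroup G) := by
    intro hcyc
    classical
    haveI : Fintype (P : Subgroup G) := Fintype.ofFinite _
    have hle := IsCyclic.card_pow_eq_one_le (α := (P : Subgroup G)) (n := 2) (by norm_num)
    have hsub : ({1, ⟨t, htP⟩, ⟨s, hsP⟩} : Finset (P : Subgroup G)) ⊆
        Finset.univ.filter (fun a : (P : Subgroup G) => a ^ 2 = 1) := by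
      intro x hx
      rw [Finset.mem_filter]
      refine ⟨Finset.mem_univ _, ?_⟩
      rw [Finset.mem_insert, Finset.mem_insert, Finset.mem_singleton] at hx
      rcases hx with rfl | rfl | rfl
      · exact one_pow 2
      · apply Subtype.ext; exact sq_eq_one_of_orderOf ht
      · apply Subtype.ext; exact sq_eq_one_of_orderOf hs
    have h3 : ({1, ⟨t, htP⟩, ⟨s, hsP⟩} : Finset (P : Subgroup G)).card = 3 := by
      rw [Finset.card_insert_of_notMem, Finset.card_insert_of_notMem, Finset.card_singleton]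
      · rw [Finset.mem_singleton]
        intro hh
        exact hst (congrArg Subtype.val hh).symm
      · rw [Finset.mem_insert, Finset.mem_singleton]
        rintro (hh | hh)
        · exact ht1 (congrArg Subtype.val hh).symm
        · exact ne_one_of_orderOf hs (congrArg Subtype.val hh).symm
    have := Finset.card_le_card hsub
    omega
  have hPnn : ¬ (P : Subgroup G).Normal := by
    intro hn
    rcases hn.eq_bot_or_eq_top with hbot | htop
    · rw [hbot, Subgroup.mem_bot] at htP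
      exact ht1 htP
    · apply hv
      have : v ∈ (P : Subgroup G) := by rw [htop]; trivial
      rw [hPU] at this
      exact h.smul_a this
  obtain ⟨F, hF1, hF2, hcard, ⟨e⟩⟩ :=
    Cfsg.Agent.S1230.result P hPnc hPnn (fun u hu => h.invol_cent hv hv2 htU ht u hu)
  have h2 : (2 : F) = 0 := by
    obtain ⟨n, hn⟩ := IsPGroup.iff_card.mp P.isPGroup'
    have hn0 : n ≠ 0 := by
      intro e0
      rw [e0, pow_zero] at hn
      have := Subgroup.card_eq_one.mp hn
      rw [this, Subgroup.mem_bot] at htP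
      exact ht1 htP
    have hc := Nat.cast_card_eq_zero F
    rw [hcard, hn] at hc
    push_cast at hc
    exact (pow_eq_zero_iff hn0).mp hc
  exact ⟨F, hF1, hF2, h2, ⟨e.trans (slEquiv h2)⟩⟩

end Cfsg.Agent.Lib.Helper7.ZasU
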