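import Mathlib
import Cfsg.Agent.Lib.Helper5.Zass3.Data

set_option autoImplicit false
set_option linter.style.haveILetI false
set_option linter.unusedSectionVars false

/-!
# The two-point stabilizer of a Zassenhaus group of degree `n + 1` with `|G_{ab}| = (n-1)/2` even
is cyclic and inverted by an involution interchanging the two points
-/

namespace Cfsg.Agent.Lib.Helper7.ZasU

open Cfsg Cfsg.Agent.Lib.Helper5.Zass Cfsg.Agent.Lib.Helper5.Zass3 OnePoint

theorem even_case {G Ω : Type*} [Group G] [Finite G] [MulAction G Ω] [Fintype Ω]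
    (hZ : Cfsg.IsZassenhausGroup G Ω) {a b : Ω} (hab : a ≠ b)
    (heven : Even (Nat.card ↥(MulAction.stabilizer G a ⊓ MulAction.stabilizer G b)))
    (hd : 2 * Nat.card ↥(MulAction.stabilizer G a ⊓ MulAction.stabilizer G b) ≤
      Fintype.card Ω - 2) :
    IsCyclic ↥(MulAction.stabilizer G a ⊓ MulAction.stabilizer G b) ∧
      ∃ v : G, orderOf v = 2 ∧ v • a = b ∧ v • b = a ∧
        ∀ h ∈ MulAction.stabilizer G a ⊓ MulAction.stabilizer G b, v * h * v⁻¹ = h⁻¹ := by
  classical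
  have hH := hyp_of_zassenhaus hZ
  haveI := hH.faithful
  obtain ⟨p, f, F, instF, instFt, pt, tr, t, hp, hp2, hcardF, hcardΩ, hpt, htr_inf, htr, haff, hmul,
    ht_inf, ht_0, hswap⟩ := exists_model hZ hab heven hd
  have hne : pt (∞ : OnePoint F) ≠ pt ((0 : F) : OnePoint F) := by
    intro e
    exact OnePoint.infty_ne_coe 0 (hpt.1 e)
  obtain ⟨g₀, hg₀a, hg₀b⟩ := hH.h2 hne hab
  have hHmem : ∀ x : G, x ∈ MulAction.stabilizer G a ⊓ MulAction.stabilizer G b ↔
      x • a = a ∧ x • b = b := fun x => by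
    rw [Subgroup.mem_inf, MulAction.mem_stabilizer_iff, MulAction.mem_stabilizer_iff]
  -- the scalar of an element of the two-point stabilizer
  have hscal : ∀ h : ↥(MulAction.stabilizer G a ⊓ MulAction.stabilizer G b), ∃ s : F,
      ∀ x : F, (h : G) • (g₀ • pt (x : OnePoint F)) = g₀ • pt ((s * x : F) : OnePoint F) := by
    intro h
    obtain ⟨ha, hb⟩ := (hHmem _).mp h.2
    have h1 : (g₀⁻¹ * (h : G) * g₀) • pt ∞ = pt ∞ := by
      rw [mul_smul, mul_smul, hg₀a, ha, ← hg₀a, inv_smul_smul]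
    obtain ⟨c, s, -, -, hcs⟩ := haff _ h1
    have h0 : (g₀⁻¹ * (h : G) * g₀) • pt ((0 : F) : OnePoint F) = pt ((0 : F) : OnePoint F) := by
      rw [mul_smul, mul_smul, hg₀b, hb, ← hg₀b, inv_smul_smul]
    have hc0 : c = 0 := by
      have := hcs 0
      rw [h0, mul_zero, zero_add] at this
      exact (OnePoint.coe_injective (hpt.1 this)).symm
    refine ⟨s, fun x => ?_⟩
    have := hcs x
    rw [hc0, add_zero] at this
    rw [← this, mul_smul, mul_smul, smul_inv_smul]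
  choose σ hσ using hscal
  have hσ1 : σ 1 = 1 := by
    have := hσ 1 1
    rw [Subgroup.coe_one, one_smul, mul_one] at this
    exact (OnePoint.coe_injective (hpt.1 (MulAction.injective g₀ this))).symm
  have hσmul : ∀ h k, σ (h * k) = σ h * σ k := by
    intro h k
    have h1 := hσ (h * k) 1
    rw [Subgroup.coe_mul, mul_smul, hσ k 1, hσ h, mul_one, mul_one] at h1
    exact (OnePoint.coe_injective (hpt.1 (MulAction.injective g₀ h1))).symm
  let φ : ↥(MulAction.stabilizer G a ⊓ MulAction.stabilizer G b) →* F :=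
    { toFun := σ, map_one' := hσ1, map_mul' := hσmul }
  have hφinj : Function.Injective φ := by
    intro h k hhk
    have hhk' : σ h = σ k := hhk
    apply Subtype.ext
    apply FaithfulSMul.eq_of_smul_eq_smul (α := Ω)
    intro y
    obtain ⟨z, hz⟩ := hpt.2 (g₀⁻¹ • y)
    have hy : y = g₀ • pt z := by rw [hz, smul_inv_smul]
    rw [hy]
    induction z using OnePoint.rec with
    | infty =>
      rw [hg₀a, ((hHmem _).mp h.2).1, ((hHmem _).mp k.2).1]
    | coe x =>
      rw [hσ h x, hσ k x, hhk']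
  refine ⟨isCyclic_of_subgroup_isDomain φ hφinj, g₀ * t * g₀⁻¹, ?_, ?_, ?_, ?_⟩
  · -- order two
    have htt : t * t = 1 := hswap t ht_inf ht_0
    have ht1 : t ≠ 1 := by
      intro e
      rw [e, one_smul] at ht_inf
      exact hne ht_inf
    apply orderOf_eq_prime
    · rw [pow_two]
      calc g₀ * t * g₀⁻¹ * (g₀ * t * g₀⁻¹) = g₀ * (t * t) * g₀⁻¹ := by group
        _ = 1 := by rw [htt]; group
    · intro e
      apply ht1
      have : t = g₀⁻¹ * (g₀ * t * g₀⁻¹) * g₀ := by group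
      rw [this, e]; group
  · rw [mul_smul, mul_smul, ← hg₀a, inv_smul_smul, ht_inf, hg₀b]
  · rw [mul_smul, mul_smul, ← hg₀b, inv_smul_smul, ht_0, hg₀a]
  · intro h hh
    obtain ⟨ha, hb⟩ := (hHmem _).mp hh
    -- `t * (g₀⁻¹ h g₀)` interchanges `∞` and `0`
    have h1 : (t * (g₀⁻¹ * h * g₀)) • pt ∞ = pt ((0 : F) : OnePoint F) := by
      rw [mul_smul, mul_smul, mul_smul, hg₀a, ha, ← hg₀a, inv_smul_smul, ht_inf]
    have h2 : (t * (g₀⁻¹ * h * g₀)) • pt ((0 : F) : OnePoint F) = pt ∞ := by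
      rw [mul_smul, mul_smul, mul_smul, hg₀b, hb, ← hg₀b, inv_smul_smul, ht_0]
    have h3 := hswap _ h1 h2
    have htt : t * t = 1 := hswap t ht_inf ht_0
    have htinv : t⁻¹ = t := inv_eq_of_mul_eq_one_right htt
    -- `t k t⁻¹ = k⁻¹` for `k = g₀⁻¹ h g₀`
    have h4 : t * (g₀⁻¹ * h * g₀) * t⁻¹ = (g₀⁻¹ * h * g₀)⁻¹ := by
      rw [htinv]
      apply eq_inv_of_mul_eq_one_left
      calc t * (g₀⁻¹ * h * g₀) * t * (g₀⁻¹ * h * g₀)
          = t * (g₀⁻¹ * h * g₀) * (t * (g₀⁻¹ * h * g₀)) := by group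
        _ = 1 := h3
    calc g₀ * t * g₀⁻¹ * h * (g₀ * t * g₀⁻¹)⁻¹
        = g₀ * (t * (g₀⁻¹ * h * g₀) * t⁻¹) * g₀⁻¹ := by group
      _ = g₀ * (g₀⁻¹ * h * g₀)⁻¹ * g₀⁻¹ := by rw [h4]
      _ = h⁻¹ := by group

end Cfsg.Agent.Lib.Helper7.ZasU
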