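import Mathlib
import Cfsg.Agent.Lib.Helper7.ZasD
import Cfsg.Agent.Lib.Helper5.Zass3.SimpleOdd
import Cfsg.Agent.S0740

set_option autoImplicit false
set_option linter.style.haveILetI false
set_option linter.unusedSectionVars false

/-!
# The two-point stabilizer of a simple Zassenhaus group is cyclic and inverted by an involution
interchanging the two points (given the bound `2 d ≤ n - 1` for even `d`)
-/

namespace Cfsg.Agent.Lib.Helper7.ZasU

open Cfsg

theorem cyclic_inverted_of_bound {G Ω : Type*} [Group G] [Finite G] [MulAction G Ω] [Fintype Ω]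
    (hZ : Cfsg.IsZassenhausGroup G Ω) [IsSimpleGroup G] {a b : Ω} (hab : a ≠ b)
    (hbound : Even (Nat.card ↥(MulAction.stabilizer G a ⊓ MulAction.stabilizer G b)) →
      2 * Nat.card ↥(MulAction.stabilizer G a ⊓ MulAction.stabilizer G b) ≤ Fintype.card Ω - 2) :
    IsCyclic ↥(MulAction.stabilizer G a ⊓ MulAction.stabilizer G b) ∧
      ∃ v : G, orderOf v = 2 ∧ v • a = b ∧ v • b = a ∧
        ∀ h ∈ MulAction.stabilizer G a ⊓ MulAction.stabilizer G b, v * h * v⁻¹ = h⁻¹ := by
  rcases Nat.even_or_odd (Nat.card ↥(MulAction.stabilizer G a ⊓ MulAction.stabilizer G b))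
    with heven | hodd
  · exact even_case hZ hab heven (hbound heven)
  · obtain ⟨hc, hinv⟩ := Cfsg.Agent.Lib.Helper5.Zass3.simple_odd_inverts hZ hab hodd
    obtain ⟨⟨s, hs, hsa, hsb⟩, -, -⟩ := Cfsg.Agent.S0740.result hZ hab
    exact ⟨hc, s, hs, hsa, hsb, hinv s hsa hsb⟩

end Cfsg.Agent.Lib.Helper7.ZasU
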